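import Cfsg.Agent.Lib.EightLocal.Model

/-!
# Coordinates from the `3`-local data
-/

set_option autoImplicit false
set_option linter.style.haveILetI false
set_option linter.unusedSectionVars false
set_option synthInstance.maxSize 10000
set_option maxRecDepth 100000

namespace Cfsg.Agent.EightLocal

open Subgroup

variable {G : Type*} [Group G] [Finite G]

/-- The copy of `3 × A₅`. -/
def J (φ : Pairs →* G) : K →* G := φ.comp emb

/-- The coordinates: `φ` is the normalizer of `z`, and `t` exchanges `z` and `w`. -/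
structure Data (P : Sylow 3 G) (φ : Pairs →* G) (t : G) : Prop where
  inj : Function.Injective φ
  sylow : ∀ g, g ∈ (P : Subgroup G) ↔ ∃ a, J φ (dK a) = g
  normz : ∀ g, g ∈ normalizer (zpowers (J φ zK) : Set G) → g ∈ φ.range
  cardz : Nat.card (centralizer ({J φ zK} : Set G)) = 180
  cardY : Nat.card (centralizer ({J φ yK} : Set G)) = 18
  normY : ∀ g ∈ centralizer ({J φ yK} : Set G), g ∈ normalizer ((P : Subgroup G) : Set G)
  t2 : t * t = 1
  tz : t * J φ zK * t = J φ wK
  tw : t * J φ wK * t = J φ zK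

theorem card_centralizer_conj (g h : G) :
    Nat.card (centralizer ({h * g * h⁻¹} : Set G)) = Nat.card (centralizer ({g} : Set G)) := by
  refine Nat.card_congr ((Equiv.ofBijective (fun c : centralizer ({g} : Set G) =>
    (⟨h * c * h⁻¹, mem_centralizer_singleton_iff.2 ?_⟩ : centralizer ({h * g * h⁻¹} : Set G))) ⟨?_, ?_⟩).symm)
  · have := mem_centralizer_singleton_iff.1 c.2
    calc h * c * h⁻¹ * (h * g * h⁻¹) = h * (c * g) * h⁻¹ := by group
      _ = h * (g * c) * h⁻¹ := by rw [this]
      _ = h * g * h⁻¹ * (h * c * h⁻¹) := by group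
  · intro a b e
    exact Subtype.ext (mul_left_cancel (mul_right_cancel (congrArg Subtype.val e)))
  · intro c
    refine ⟨⟨h⁻¹ * c * h, mem_centralizer_singleton_iff.2 ?_⟩, Subtype.ext (by simp [mul_assoc])⟩
    have := mem_centralizer_singleton_iff.1 c.2
    calc h⁻¹ * c * h * g = h⁻¹ * (c * (h * g * h⁻¹)) * h := by group
      _ = h⁻¹ * ((h * g * h⁻¹) * c) * h := by rw [this]
      _ = g * (h⁻¹ * c * h) := by group

theorem card_centralizer_inv (g : G) :
    Nat.card (centralizer ({g⁻¹} : Set G)) = Nat.card (centralizer ({g} : Set G)) := by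
  have h : centralizer ({g⁻¹} : Set G) = centralizer ({g} : Set G) := by
    ext c
    simp only [mem_centralizer_singleton_iff]
    exact ⟨fun e => by simpa using (Commute.inv_right (a := c) (b := g⁻¹) e).eq,
      fun e => (Commute.inv_right (a := c) (b := g) e).eq⟩
  rw [h]

section Build

variable {L : Subgroup G} {z : G}

/-- The model embedded with `z` as first coordinate. -/
theorem exists_phi_z (hz3 : z ^ 3 = 1) (hz1 : z ≠ 1)
    (eL : normalizer (zpowers z : Set G) ≃* Pairs) :
    ∃ φ : Pairs →* G, Function.Injective φ ∧ J φ zK = z ∧ φ.range = normalizer (zpowers z : Set G) := by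
  set zN : normalizer (zpowers z : Set G) := ⟨z, le_normalizer (mem_zpowers z)⟩ with hzN
  set u : Pairs := eL zN with hu
  have hb : ∀ p : Pairs, bisign (p : Equiv.Perm (Fin 3) × Equiv.Perm (Fin 5)) = 1 :=
    fun p => MonoidHom.mem_ker.1 p.2
  have hu3 : u ^ 3 = 1 := by
    rw [hu, ← map_pow, show zN ^ 3 = 1 from Subtype.ext hz3, map_one]
  have hu1 : u ≠ 1 := fun h => hz1 (congrArg Subtype.val ((map_eq_one_iff eL eL.injective).1 h))
  have hnor : ∀ g : Pairs, g * u * g⁻¹ = u ∨ g * u * g⁻¹ = u⁻¹ := by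
    intro g
    obtain ⟨h, rfl⟩ := eL.surjective g
    have hm := (mem_normalizer_iff.1 h.2 z).1 (mem_zpowers z)
    obtain ⟨k, hk⟩ := mem_zpowers_iff.1 hm
    have hk2 : z ^ k = z ^ ((k % 3).toNat) := by
      rw [← zpow_natCast, Int.toNat_of_nonneg (Int.emod_nonneg _ (by norm_num))]
      conv_lhs => rw [← Int.emod_add_mul_ediv k 3]
      rw [zpow_add, zpow_mul, show (3 : ℤ) = ((3 : ℕ) : ℤ) from rfl, zpow_natCast, hz3, one_zpow,
        mul_one]
    have hlt : (k % 3).toNat < 3 := by omega
    rw [hk2] at hk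
    rw [hu, ← map_inv, ← map_inv, ← map_mul, ← map_mul]
    rcases (show (k % 3).toNat = 0 ∨ (k % 3).toNat = 1 ∨ (k % 3).toNat = 2 by omega) with e | e | e <;>
      rw [e] at hk
    · rw [pow_zero] at hk
      exact absurd (conj_eq_one_iff.1 hk.symm) hz1
    · left
      exact congrArg eL (Subtype.ext (by rw [pow_one] at hk; exact hk.symm))
    · right
      refine congrArg eL (Subtype.ext ?_)
      change (h : G) * z * (h : G)⁻¹ = z⁻¹
      rw [← hk]
      exact eq_inv_of_mul_eq_one_left (by rw [← pow_succ, hz3])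
  have hcase := normal_three _ (hb u) (congrArg Subtype.val hu3) (fun e => hu1 (Subtype.ext e))
    (fun g hg => by
      have hgb : bisign g = 1 := by
        simp only [List.mem_cons, List.not_mem_nil, or_false] at hg
        rcases hg with rfl | rfl | rfl <;> decide +kernel
      rcases hnor ⟨g, MonoidHom.mem_ker.2 hgb⟩ with h | h
      · left; exact congrArg Subtype.val h
      · right; exact congrArg Subtype.val h)
  obtain ⟨hz, hzi⟩ := emb_zK
  have hrange : ∀ f : Pairs ≃* normalizer (zpowers z : Set G),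
      ((normalizer (zpowers z : Set G)).subtype.comp f.toMonoidHom).range = normalizer (zpowers z : Set G) := by
    intro f
    ext g
    exact ⟨fun ⟨p, hp⟩ => hp ▸ (f p).2, fun hg => ⟨f.symm ⟨g, hg⟩, by simp⟩⟩
  rcases hcase with h | h
  · refine ⟨(normalizer (zpowers z : Set G)).subtype.comp eL.symm.toMonoidHom,
      Subtype.val_injective.comp eL.symm.injective, ?_, hrange _⟩
    change ((eL.symm (emb zK) : normalizer (zpowers z : Set G)) : G) = z
    rw [show emb zK = u from Subtype.ext (hz.trans h.symm), hu, MulEquiv.symm_apply_apply]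
  · refine ⟨(normalizer (zpowers z : Set G)).subtype.comp ((MulAut.conj flip).trans eL.symm).toMonoidHom,
      Subtype.val_injective.comp ((MulAut.conj flip).trans eL.symm).injective, ?_, hrange _⟩
    change ((eL.symm (flip * emb zK * flip⁻¹) : normalizer (zpowers z : Set G)) : G) = z
    have hf : flip⁻¹ = flip := inv_eq_of_mul_eq_one_left flip_facts.1
    rw [hf, flip_facts.2.1, show flipK zK = zK⁻¹ from Prod.ext rfl (Subtype.ext (by decide +kernel)),
      show emb zK⁻¹ = u from Subtype.ext (hzi.trans h.symm), hu, MulEquiv.symm_apply_apply]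

end Build

/-- The nontrivial elements of the Sylow subgroup, up to inversion and `r`. -/
theorem dK_cases : ∀ a, a ≠ 0 → dK a = zK ∨ dK a = zK⁻¹ ∨ dK a = wK ∨ dK a = wK⁻¹ ∨ dK a = yK ∨
      dK a = yK⁻¹ ∨ ((1 : C3), rA) * dK a * (1, rA) = yK ∨ (((1 : C3), rA) * dK a * (1, rA))⁻¹ = yK := by
  decide +kernel

variable {P : Sylow 3 G}

/-- All the coordinates. -/
theorem exists_data {z y : G} (hcomm : ∀ a ∈ (P : Subgroup G), ∀ b ∈ (P : Subgroup G), a * b = b * a)
    (hcard : Nat.card (P : Subgroup G) = 9) (hexp : ∀ a ∈ (P : Subgroup G), a ^ 3 = 1)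
    (hzP : z ∈ (P : Subgroup G)) (hyP : y ∈ (P : Subgroup G)) (hgen : Subgroup.closure {y, z} = (P : Subgroup G))
    (hN : Nat.card (normalizer ((P : Subgroup G) : Set G)) = 72)
    (hycard : Nat.card (centralizer ({y} : Set G)) = 18)
    (hyn : ∀ g ∈ centralizer ({y} : Set G), g ∈ normalizer ((P : Subgroup G) : Set G))
    (hzcard : Nat.card (centralizer ({z} : Set G)) = 180)
    (eL : normalizer (zpowers z : Set G) ≃* Pairs) :
    ∃ φ t, Data P φ t := by
  classical
  have hz1 : z ≠ 1 := by
    rintro rfl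
    have h9 : (P : Subgroup G) ≤ zpowers y := by
      rw [← hgen, Subgroup.closure_le]
      rintro g (rfl | rfl)
      · exact mem_zpowers g
      · exact one_mem _
    have h3 := Nat.le_of_dvd (by norm_num) (orderOf_dvd_of_pow_eq_one (hexp y hyP))
    have := Subgroup.card_le_of_le h9
    rw [Nat.card_zpowers, hcard] at this
    omega
  obtain ⟨φ0, hinj0, hz0, hrange0⟩ := exists_phi_z (hexp z hzP) hz1 eL
  -- `C(z)` is the image of `3 × A₅`
  have hcent : ∀ φ : Pairs →* G, Function.Injective φ → J φ zK = z →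
      ∀ g ∈ centralizer ({z} : Set G), ∃ k, J φ k = g := by
    intro φ hinj hz g hg
    have hle : (J φ).range ≤ centralizer ({z} : Set G) := by
      rintro _ ⟨k, rfl⟩
      rw [mem_centralizer_singleton_iff, ← hz, ← map_mul, ← map_mul, (emb_central k).eq]
    have he : (J φ).range = centralizer ({z} : Set G) := by
      refine eq_of_le_of_card_ge hle ?_
      rw [hzcard, ← Nat.card_congr (MonoidHom.ofInjective (f := J φ) (hinj.comp emb_injective)).toEquiv,
        card_K]
    exact he.ge hg
  -- conjugate so that `P` is the chosen subgroup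
  obtain ⟨φ, hinj, hz, hrange, hsyl⟩ : ∃ φ : Pairs →* G, Function.Injective φ ∧ J φ zK = z ∧
      φ.range = normalizer (zpowers z : Set G) ∧ ∀ g, g ∈ (P : Subgroup G) ↔ ∃ a, J φ (dK a) = g := by
    obtain ⟨b, hb, hbz⟩ : ∃ b : K, J φ0 b ∈ (P : Subgroup G) ∧ b.2 ≠ 1 := by
      by_contra hcon
      push Not at hcon
      obtain ⟨ky, hky⟩ := hcent φ0 hinj0 hz0 y (mem_centralizer_singleton_iff.2 (hcomm y hyP z hzP))
      have h2 := hcon ky (hky ▸ hyP)
      obtain ⟨i, hi⟩ : ∃ i : ℕ, ky = zK ^ i := by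
        refine ⟨(Multiplicative.toAdd ky.1).val, Prod.ext ?_ (by simp [zK, h2])⟩
        simp [zK, ← ofAdd_nsmul]
      have hyz : y ∈ zpowers z := by
        rw [← hky, hi, map_pow, hz0]; exact pow_mem (mem_zpowers z) i
      have h9 : (P : Subgroup G) ≤ zpowers z := by
        rw [← hgen, Subgroup.closure_le]
        rintro g (rfl | rfl)
        · exact hyz
        · exact mem_zpowers g
      have h3 := Nat.le_of_dvd (by norm_num) (orderOf_dvd_of_pow_eq_one (hexp z hzP))
      have := Subgroup.card_le_of_le h9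
      rw [Nat.card_zpowers, hcard] at this
      omega
    have hJinj : Function.Injective (J φ0) := hinj0.comp emb_injective
    have hb3 : b ^ 3 = 1 := hJinj (by rw [map_pow, map_one]; exact hexp _ hb)
    obtain ⟨v, hv⟩ := three_conj b.2 (congrArg Prod.snd hb3) hbz
    let c : Pairs := emb (1, v⁻¹)
    refine ⟨φ0.comp (MulAut.conj c).toMonoidHom, hinj0.comp (MulAut.conj c).injective, ?_, ?_, ?_⟩
    · change φ0 (emb (1, v⁻¹) * emb zK * (emb (1, v⁻¹))⁻¹) = z
      rw [← map_inv, ← map_mul, ← map_mul,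
        show ((1 : C3), v⁻¹) * zK * ((1 : C3), v⁻¹)⁻¹ = zK by
          rw [← (emb_central _).eq, mul_inv_cancel_right]]
      exact hz0
    · rw [← hrange0]
      rw [MonoidHom.range_comp, MonoidHom.range_eq_top_of_surjective _ (MulAut.conj c).surjective,
        ← MonoidHom.range_eq_map]
    · have hJ : ∀ k, J (φ0.comp (MulAut.conj c).toMonoidHom) k = J φ0 ((1, v⁻¹) * k * (1, v⁻¹)⁻¹) := by
        intro k
        change φ0 (emb (1, v⁻¹) * emb k * (emb (1, v⁻¹))⁻¹) = φ0 (emb _)
        rw [map_mul emb, map_mul emb, map_inv emb]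
      intro g
      constructor
      · intro hg
        obtain ⟨k, rfl⟩ := hcent φ0 hinj0 hz0 g (mem_centralizer_singleton_iff.2 (hcomm g hg z hzP))
        have hk3 : k ^ 3 = 1 := hJinj (by rw [map_pow, map_one]; exact hexp _ hg)
        have hkb : k * b = b * k := hJinj (by rw [map_mul, map_mul]; exact hcomm _ hg _ hb)
        have hk2 := three_commute k.2 b.2 (congrArg Prod.snd hk3) (congrArg Prod.snd hb3) hbz
          (congrArg Prod.snd hkb)
        obtain ⟨a, ha⟩ := (inD_iff ((k.1, v * k.2 * v⁻¹))).1 ⟨by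
          rcases hk2 with e | e | e <;> simp only [e]
          · simp
          · rw [hv]
          · rw [← conj_inv, hv]; simp, by
          refine Prod.ext ?_ ?_
          · show k.1 ^ 3 = 1
            exact congrArg Prod.fst hk3
          · simp only [Prod.pow_snd, conj_pow, Prod.snd_one]
            rw [show k.2 ^ 3 = 1 from congrArg Prod.snd hk3]; simp⟩
        refine ⟨a, ?_⟩
        rw [hJ, ha]
        congr 1
        refine Prod.ext (by simp) ?_
        simp [mul_assoc]
      · rintro ⟨a, rfl⟩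
        have hz' : ∀ i : ℕ, J φ0 (((1 : C3), v⁻¹) * zK ^ i * (1, v⁻¹)⁻¹) ∈ (P : Subgroup G) := fun i => by
          rw [← ((emb_central _).pow_left i).eq, mul_inv_cancel_right, map_pow, hz0]
          exact pow_mem hzP i
        have hw' : J φ0 (((1 : C3), v⁻¹) * wK * (1, v⁻¹)⁻¹) ∈ (P : Subgroup G) := by
          have e : ((1 : C3), v⁻¹) * wK * (1, v⁻¹)⁻¹ = zK ^ (2 * (Multiplicative.toAdd b.1).val) * b := by
            refine Prod.ext ?_ ?_
            · simp only [wK, zK, Prod.fst_mul, Prod.fst_inv, Prod.pow_fst]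
              generalize b.1 = x
              revert x
              decide +kernel
            · simp [wK, zK, ← hv, mul_assoc]
          rw [e, map_mul, map_pow, hz0]
          exact mul_mem (pow_mem hzP _) hb
        rw [hJ, show dK a = zK ^ a.1.val * wK ^ a.2.val from rfl,
          show ((1 : C3), v⁻¹) * (zK ^ a.1.val * wK ^ a.2.val) * (1, v⁻¹)⁻¹ =
            (((1 : C3), v⁻¹) * zK ^ a.1.val * (1, v⁻¹)⁻¹) *
              (((1 : C3), v⁻¹) * wK * (1, v⁻¹)⁻¹) ^ a.2.val by rw [conj_pow]; group,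
          map_mul, map_pow]
        exact mul_mem (hz' _) (pow_mem hw' _)
  -- the stabilizer of `⟨z⟩` in the normalizer of `P`
  set N := normalizer ((P : Subgroup G) : Set G) with hNdef
  set H := (normalizer (zpowers z : Set G)).subgroupOf N with hH
  have hJinj : Function.Injective (J φ) := hinj.comp emb_injective
  obtain ⟨hd10, hd01, hd11, hd00⟩ := dK_facts
  have hmem : ∀ a, J φ (dK a) ∈ (P : Subgroup G) := fun a => (hsyl _).2 ⟨a, rfl⟩
  have hHle : Nat.card H ≤ 36 := by
    rw [← card_normD, ← Fintype.card_coe, ← Nat.card_eq_fintype_card]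
    have hp : ∀ h : H, ∃ p : Pairs, φ p = ((h : N) : G) := fun h => hrange.ge h.2
    choose f hf using hp
    refine Nat.card_le_card_of_injective (fun h => ⟨(f h : Equiv.Perm (Fin 3) × Equiv.Perm (Fin 5)), ?_⟩) ?_
    · simp only [Finset.mem_filter, Finset.mem_univ, true_and]
      refine ⟨MonoidHom.mem_ker.1 (f h).2, ?_⟩
      have hm := (mem_normalizer_iff.1 (h : N).2 (J φ wK)).1 (hd01 ▸ hmem _)
      obtain ⟨a, ha⟩ := (hsyl _).1 hm
      rw [← hf h, show J φ wK = φ (emb wK) from rfl, ← map_inv, ← map_mul, ← map_mul] at ha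
      have h2 := congrArg (fun p : Pairs => (p : Equiv.Perm (Fin 3) × Equiv.Perm (Fin 5)).2) (hinj ha)
      simp only [Subgroup.coe_mul, Subgroup.coe_inv, Prod.snd_mul, Prod.snd_inv] at h2
      change _ = _ * (sigma : Equiv.Perm (Fin 5)) * _ at h2
      rw [← h2]
      have hne : (f h : Equiv.Perm (Fin 3) × Equiv.Perm (Fin 5)).2 * (sigma : Equiv.Perm (Fin 5)) *
          ((f h : Equiv.Perm (Fin 3) × Equiv.Perm (Fin 5)).2)⁻¹ ≠ 1 := by
        rw [Ne, conj_eq_one_iff]; decide +kernel
      rw [← h2] at hne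
      have key : ∀ a, (emb (dK a) : Equiv.Perm (Fin 3) × Equiv.Perm (Fin 5)).2 ≠ 1 →
          (emb (dK a) : Equiv.Perm (Fin 3) × Equiv.Perm (Fin 5)).2 = (sigma : Equiv.Perm (Fin 5)) ∨
          (emb (dK a) : Equiv.Perm (Fin 3) × Equiv.Perm (Fin 5)).2 = (sigma : Equiv.Perm (Fin 5))⁻¹ := by
        decide +kernel
      exact key a hne
    · intro a b e
      have e' := Subtype.ext (Subtype.mk.injEq _ _ _ _ ▸ e : (f a : Equiv.Perm (Fin 3) × Equiv.Perm (Fin 5)) = f b)
      refine Subtype.ext (Subtype.ext ?_)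
      rw [← hf a, ← hf b, e']
  -- `r` and the flip
  have hr : ∀ x : Pairs, (∀ a, ∃ b, φ x * J φ (dK a) * (φ x)⁻¹ = J φ (dK b)) →
      (∃ h : φ x ∈ N, (⟨φ x, h⟩ : N) ∈ H) := by
    intro x hx
    have hn : φ x ∈ N := by
      refine mem_normalizer_iff.2 fun g => ⟨fun hg => ?_, fun hg => ?_⟩
      · obtain ⟨a, rfl⟩ := (hsyl g).1 hg
        obtain ⟨b, hb⟩ := hx a
        rw [hb]; exact hmem b
      · let F : ↥(P : Subgroup G) → ↥(P : Subgroup G) := fun s => ⟨φ x * s * (φ x)⁻¹, by
          obtain ⟨a, ha⟩ := (hsyl s).1 s.2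
          obtain ⟨b, hb⟩ := hx a
          rw [← ha, hb]; exact hmem b⟩
        have hF : Function.Injective F := fun s s' e =>
          Subtype.ext (mul_left_cancel (mul_right_cancel (congrArg Subtype.val e)))
        obtain ⟨s, hs⟩ := Finite.injective_iff_surjective.1 hF ⟨_, hg⟩
        rw [← mul_left_cancel (mul_right_cancel (congrArg Subtype.val hs))]
        exact s.2
    exact ⟨hn, hrange.le ⟨x, rfl⟩⟩
  obtain ⟨hrN, hrH⟩ := hr (emb (1, rA)) fun a => ⟨(a.1, -a.2), by
    rw [← rA_facts.2 a, map_mul, map_mul,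
      show φ (emb ((1 : C3), rA)) = J φ (1, rA) from rfl,
      inv_eq_of_mul_eq_one_left (show J φ (1, rA) * J φ (1, rA) = 1 by
        rw [← map_mul, show ((1 : C3), rA) * (1, rA) = 1 from Prod.ext (one_mul 1) rA_facts.1, map_one])]⟩
  -- an element moving the line of `z`
  obtain ⟨g, hgN, hgH⟩ : ∃ g, ∃ h : g ∈ N, (⟨g, h⟩ : N) ∉ H := by
    by_contra hcon
    push Not at hcon
    have : Nat.card N ≤ Nat.card H := Nat.card_le_card_of_injective (fun n => (⟨n, hcon n n.2⟩ : H))
      fun a b e => by simpa using e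
    omega
  have hidx : H.index = 2 := by
    have h1 := H.index_mul_card
    rw [hN] at h1
    have h2 : H.index ≠ 1 := fun h => hgH (by rw [Subgroup.index_eq_one] at h; rw [h]; exact mem_top _)
    have h36 : (36 : ℕ) ≤ Nat.card H := by
      refine le_of_le_of_eq ?_ rfl
      rw [← card_normD, ← Fintype.card_coe, ← Nat.card_eq_fintype_card]
      have hsub : ∀ p : {p : Equiv.Perm (Fin 3) × Equiv.Perm (Fin 5) //
          p ∈ Finset.univ.filter fun p => normD p}, ∃ h : φ ⟨p.1, MonoidHom.mem_ker.2 (Finset.mem_filter.1 p.2).2.1⟩ ∈ N,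
            (⟨_, h⟩ : N) ∈ H := fun p => by
        refine hr _ fun a => ?_
        have key : ∀ p : Equiv.Perm (Fin 3) × Equiv.Perm (Fin 5), normD p → ∀ a, ∃ b,
            p * (emb (dK a) : Equiv.Perm (Fin 3) × Equiv.Perm (Fin 5)) * p⁻¹ =
              (emb (dK b) : Equiv.Perm (Fin 3) × Equiv.Perm (Fin 5)) := by decide +kernel
        obtain ⟨b, hb⟩ := key p.1 (Finset.mem_filter.1 p.2).2 a
        refine ⟨b, ?_⟩
        change φ _ * φ _ * (φ _)⁻¹ = φ _
        rw [← map_inv, ← map_mul, ← map_mul]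
        exact congrArg φ (Subtype.ext hb)
      choose h1 h2 using hsub
      refine Nat.card_le_card_of_injective (fun p => (⟨⟨_, h1 p⟩, h2 p⟩ : H)) fun p q e => ?_
      have := hinj (congrArg (fun x : H => ((x : N) : G)) e)
      exact Subtype.ext (congrArg Subtype.val this :)
    have h3 : Nat.card H = 36 := le_antisymm hHle h36
    rw [h3] at h1; omega
  have hgen' : ∀ g ∈ N, g ∉ normalizer (zpowers z : Set G) →
      g * z * g⁻¹ = J φ wK ∨ g * z * g⁻¹ = J φ wK⁻¹ := by
    intro g hg hgn
    obtain ⟨a, ha⟩ := (hsyl _).1 ((mem_normalizer_iff.1 hg z).1 hzP)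
    have hna : a.1 = 0 ∨ a.2 = 0 := by
      have hconj : (⟨g, hg⟩ : N)⁻¹ * ⟨φ (emb (1, rA)), hrN⟩ * ⟨g, hg⟩ ∈ H := by
        haveI : H.Normal := Subgroup.normal_of_index_eq_two hidx
        simpa using (inferInstance : H.Normal).conj_mem _ hrH (⟨g, hg⟩ : N)⁻¹
      have hm : g⁻¹ * φ (emb (1, rA)) * g ∈ normalizer (zpowers z : Set G) := hconj
      obtain ⟨i, hi⟩ := mem_zpowers_iff.1 ((mem_normalizer_iff.1 hm z).1 (mem_zpowers z))
      have h5 : φ (emb (1, rA)) * (g * z * g⁻¹) * (φ (emb (1, rA)))⁻¹ = (g * z * g⁻¹) ^ i := by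
        rw [conj_zpow, hi]; group
      rw [← ha] at h5
      rw [show φ (emb ((1 : C3), rA)) = J φ (1, rA) from rfl, ← map_inv, ← map_mul, ← map_mul, ← map_zpow] at h5
      have h6 := hJinj h5
      have hri : ((1 : C3), rA)⁻¹ = (1, rA) := Prod.ext inv_one (inv_eq_of_mul_eq_one_left rA_facts.1)
      rw [hri, rA_facts.2] at h6
      have key : ∀ a, ∀ j : Fin 3, dK (a.1, -a.2) = dK a ^ (j : ℕ) → a.1 = 0 ∨ a.2 = 0 := by
        decide +kernel
      have hp : (dK a) ^ i = dK a ^ ((i % 3).toNat) := by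
        have h3 : ∀ a, dK a ^ (3 : ℤ) = 1 := by decide +kernel
        rw [← zpow_natCast, Int.toNat_of_nonneg (Int.emod_nonneg _ (by norm_num))]
        conv_lhs => rw [← Int.emod_add_mul_ediv i 3]
        rw [zpow_add, zpow_mul, h3, one_zpow, mul_one]
      exact key a ⟨(i % 3).toNat, by omega⟩ (by rw [h6, hp])
    have hnot : a.2 ≠ 0 := by
      intro e
      apply hgn
      refine mem_normalizer_iff.2 fun x => ⟨fun hx => ?_, fun hx => ?_⟩
      · obtain ⟨i, rfl⟩ := mem_zpowers_iff.1 hx
        rw [← conj_zpow, ← ha, show dK a = zK ^ a.1.val by simp [dK, e], map_pow, hz]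
        exact zpow_mem (pow_mem (mem_zpowers z) _) _
      · have hle : ∀ x ∈ zpowers z, g * x * g⁻¹ ∈ zpowers z := fun x hx => by
          obtain ⟨i, rfl⟩ := mem_zpowers_iff.1 hx
          rw [← conj_zpow, ← ha, show dK a = zK ^ a.1.val by simp [dK, e], map_pow, hz]
          exact zpow_mem (pow_mem (mem_zpowers z) _) _
        let F : ↥(zpowers z) → ↥(zpowers z) := fun s => ⟨g * s * g⁻¹, hle s s.2⟩
        have hF : Function.Injective F := fun s s' e =>
          Subtype.ext (mul_left_cancel (mul_right_cancel (congrArg Subtype.val e)))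
        obtain ⟨s, hs⟩ := Finite.injective_iff_surjective.1 hF ⟨_, hx⟩
        rw [← mul_left_cancel (mul_right_cancel (congrArg Subtype.val hs))]
        exact s.2
    have h0 : a.1 = 0 := hna.resolve_right hnot
    rw [← ha]
    have key : ∀ a, a.1 = 0 → a.2 ≠ 0 → dK a = wK ∨ dK a = wK⁻¹ := by decide +kernel
    rcases key a h0 hnot with e | e <;> rw [e] <;> simp
  have hwcard : Nat.card (centralizer ({J φ wK} : Set G)) = 180 := by
    have hgn : g ∉ normalizer (zpowers z : Set G) := fun h => hgH h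
    rcases hgen' g hgN hgn with e | e
    · rw [← e, card_centralizer_conj, hzcard]
    · rw [map_inv] at e
      rw [← card_centralizer_inv, ← e, card_centralizer_conj, hzcard]
  -- the class of `y`
  obtain ⟨a, ha⟩ := (hsyl y).1 hyP
  have ha0 : a ≠ 0 := by
    rintro rfl
    rw [hd00, map_one] at ha
    subst ha
    rw [show ({1} : Set G) = {(1 : G)} from rfl] at hycard
    have htop : centralizer ({(1 : G)} : Set G) = ⊤ :=
      eq_top_iff.2 fun x _ => mem_centralizer_singleton_iff.2 (by simp)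
    have h180 := Subgroup.card_le_card_group (centralizer ({z} : Set G))
    rw [htop, Subgroup.card_top] at hycard
    omega
  have hri : (J φ (1, rA))⁻¹ = J φ (1, rA) := by
    rw [← map_inv]
    exact congrArg _ (Prod.ext inv_one (inv_eq_of_mul_eq_one_left rA_facts.1))
  have hY : Nat.card (centralizer ({J φ yK} : Set G)) = 18 ∧
      ∀ g ∈ centralizer ({J φ yK} : Set G), g ∈ N := by
    have hconjN : ∀ x ∈ N, (∀ g ∈ centralizer ({y} : Set G), g ∈ N) →
        ∀ g ∈ centralizer ({x * y * x⁻¹} : Set G), g ∈ N := by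
      intro x hx hy g hg
      have hm : x⁻¹ * g * x ∈ centralizer ({y} : Set G) := by
        rw [mem_centralizer_singleton_iff]
        have := mem_centralizer_singleton_iff.1 hg
        calc x⁻¹ * g * x * y = x⁻¹ * (g * (x * y * x⁻¹)) * x := by group
          _ = x⁻¹ * ((x * y * x⁻¹) * g) * x := by rw [this]
          _ = y * (x⁻¹ * g * x) := by group
      have := mul_mem (mul_mem hx (hy _ hm)) (inv_mem hx)
      simpa [mul_assoc] using this
    have hinv : ∀ x : G, centralizer ({x⁻¹} : Set G) = centralizer ({x} : Set G) := fun x => by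
      ext c
      simp only [mem_centralizer_singleton_iff]
      exact ⟨fun e => by simpa using (Commute.inv_right (a := c) (b := x⁻¹) e).eq,
        fun e => (Commute.inv_right (a := c) (b := x) e).eq⟩
    rcases dK_cases a ha0 with e | e | e | e | e | e | e | e
    · rw [← ha, e, hz, hzcard] at hycard; omega
    · rw [← ha, e, map_inv, hz, card_centralizer_inv, hzcard] at hycard; omega
    · rw [← ha, e, hwcard] at hycard; omega
    · rw [← ha, e, map_inv, card_centralizer_inv, hwcard] at hycard; omega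
    · rw [← e, ha]; exact ⟨hycard, hyn⟩
    · have : J φ yK = y⁻¹ := by rw [← ha, e, map_inv, inv_inv]
      rw [this, card_centralizer_inv, hinv]; exact ⟨hycard, hyn⟩
    · have : J φ yK = J φ (1, rA) * y * (J φ (1, rA))⁻¹ := by rw [hri, ← ha, ← e, map_mul, map_mul]
      rw [this, card_centralizer_conj]; exact ⟨hycard, hconjN _ hrN hyn⟩
    · have : J φ yK = (J φ (1, rA) * y * (J φ (1, rA))⁻¹)⁻¹ := by
        rw [hri, ← ha, ← e, map_inv, map_mul, map_mul]
      rw [this, card_centralizer_inv, card_centralizer_conj, hinv]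
      exact ⟨hycard, hconjN _ hrN hyn⟩
  -- the involution exchanging `z` and `w`
  haveI : Fact (Nat.Prime 2) := ⟨Nat.prime_two⟩
  obtain ⟨⟨t, htC⟩, ht⟩ := exists_prime_orderOf_dvd_card' 2 (G := centralizer ({J φ yK} : Set G))
    (by rw [hY.1]; norm_num)
  rw [Subgroup.orderOf_mk] at ht
  have ht2 : t * t = 1 := by rw [← pow_two, ← ht, pow_orderOf_eq_one]
  have hti : t⁻¹ = t := inv_eq_of_mul_eq_one_left ht2
  have htn : t ∉ normalizer (zpowers z : Set G) := by
    intro h
    obtain ⟨p, hp⟩ := hrange.ge h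
    have hc := mem_centralizer_singleton_iff.1 htC
    rw [← hp, show J φ yK = φ (emb yK) from rfl, ← map_mul, ← map_mul] at hc
    have hc' := congrArg Subtype.val (hinj hc)
    simp only [Subgroup.coe_mul, emb_yK] at hc'
    have h3 := cent_yK _ (MonoidHom.mem_ker.1 p.2) hc'
    have h3' : t ^ 3 = 1 := by rw [← hp, ← map_pow, show p ^ 3 = 1 from Subtype.ext h3, map_one]
    have := orderOf_dvd_of_pow_eq_one h3'
    rw [ht] at this; norm_num at this
  obtain ⟨i, hi⟩ : ∃ i : Fin 2, t * z * t = J φ (dK (0, if i = 0 then 1 else 2)) := by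
    have := hgen' t (hY.2 t htC) htn
    rw [hti] at this
    rcases this with e | e
    · exact ⟨0, by simp [e, hd01]⟩
    · refine ⟨1, e.trans (congrArg _ ?_)⟩; decide +kernel
  obtain ⟨b, hb⟩ := (hsyl _).1 ((mem_normalizer_iff.1 (hY.2 t htC) (J φ wK)).1 (hd01 ▸ hmem _))
  have hYfix : t * J φ yK * t = J φ yK := by
    rw [mem_centralizer_singleton_iff.1 htC, mul_assoc, ht2, mul_one]
  have hzw : J φ yK = z * J φ wK := by
    rw [← hz, ← map_mul]; exact congrArg _ (by decide +kernel)
  have hsum : dK (0, if i = 0 then 1 else 2) * dK b = yK := hJinj (by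
    rw [map_mul, ← hi, hb, hti, ← hYfix, hzw]
    calc t * z * t * (t * J φ wK * t) = t * z * (t * t) * J φ wK * t := by group
      _ = t * (z * J φ wK) * t := by rw [ht2]; group)
  have hback : t * (J φ (dK (0, if i = 0 then 1 else 2))) * t = z := by
    rw [← hi, show t * (t * z * t) * t = t * t * z * (t * t) by group, ht2, one_mul, mul_one]
  have htw : (J φ (dK b)) ^ (if i = 0 then 1 else 2) = z := by
    rw [hb, hti, ← hback]
    have h2 : ∀ x : G, (t * x * t) ^ 2 = t * x ^ 2 * t := fun x => by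
      rw [pow_two, pow_two, show t * x * t * (t * x * t) = t * x * (t * t) * x * t by group, ht2]; group
    split_ifs with h0
    · rw [pow_one, hd01]
    · rw [h2, ← map_pow]
      congr 3
  have key : ∀ i : Fin 2, ∀ b, dK (0, if i = 0 then 1 else 2) * dK b = yK →
      dK b ^ (if i = 0 then 1 else 2) = zK → i = 0 ∧ dK b = zK := by decide +kernel
  obtain ⟨hi0, hbz⟩ := key i b hsum (hJinj (by rw [map_pow, htw, hz]))
  refine ⟨φ, t, hinj, hsyl, fun g hg => ?_, by rw [hz]; exact hzcard, hY.1, hY.2, ht2, ?_, ?_⟩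
  · rw [hz] at hg; exact hrange.ge hg
  · rw [hz, hi, hi0, if_pos rfl, hd01]
  · rw [← hbz, hb, hti]

end Cfsg.Agent.EightLocal
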