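import Cfsg.Agent.Lib.EightLocal.Geometry
import Cfsg.Agent.Lib.Characters.Galois
import Cfsg.Agent.Lib.ShortPres.Carmichael
import Cfsg.Agent.Lib.Coprime.Generation

/-!
# The generators of the alternating group of degree eight
-/

set_option autoImplicit false
set_option maxRecDepth 100000
set_option synthInstance.maxSize 10000
set_option linter.style.haveILetI false
set_option linter.unusedSectionVars false

namespace Cfsg.Agent.EightLocal

open Subgroup Cfsg.Agent.Characters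
open scoped ComplexConjugate

universe u

variable {G : Type u} [Group G] [Finite G] {P : Sylow 3 G} {φ : Pairs →* G} {t : G}

/-- An algebraic integer all of whose conjugates are small is zero. -/
theorem small_zero {M : ℕ} (hM : 0 < M) {ζ : ℂ} (hζ : IsPrimitiveRoot ζ M) (Q : Polynomial ℚ)
    (hint : ∀ j : ℕ, j.Coprime M → IsIntegral ℤ (Polynomial.aeval (ζ ^ j) Q))
    (hlt : ∀ j : ℕ, j.Coprime M → ‖Polynomial.aeval (ζ ^ j) Q‖ < 1) : Polynomial.aeval ζ Q = 0 := by
  classical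
  haveI : NeZero M := ⟨hM.ne'⟩
  have hR : ∀ μ ∈ primitiveRoots M ℂ, ∃ j : ℕ, j.Coprime M ∧ ζ ^ j = μ := fun μ hμ => by
    obtain ⟨k, _, hk, hk'⟩ := (hζ.isPrimitiveRoot_iff (ξ := μ) (k := M)).1 ((mem_primitiveRoots hM).1 hμ)
    exact ⟨k, hk, hk'⟩
  obtain ⟨μ, hμ, h0⟩ : ∃ μ ∈ primitiveRoots M ℂ, Polynomial.aeval μ Q = 0 := by
    by_contra hcon
    push Not at hcon
    have h1 := one_le_prod_norm_primitiveRoots hM Q
      (fun μ hμ => by obtain ⟨j, hj, rfl⟩ := hR μ hμ; exact hint j hj) hcon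
    refine absurd h1 (not_le.2 ?_)
    refine lt_of_lt_of_le (Finset.prod_lt_prod_of_nonempty (g := fun _ => (1 : ℝ))
      (fun μ hμ => norm_pos_iff.2 (hcon μ hμ)) (fun μ hμ => ?_)
      ⟨ζ, (mem_primitiveRoots hM).2 hζ⟩) (by simp)
    obtain ⟨j, hj, rfl⟩ := hR μ hμ
    exact hlt j hj
  have := aeval_eq_rat_of_primitive hM ((mem_primitiveRoots hM).1 hμ) hζ Q (q := 0) (by simpa using h0)
  simpa using this

theorem val_P : ∀ a : ZMod 3 × ZMod 3, a ≠ 0 → val 0 (dK a) < 0 := by decide +kernel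

/-- The three-cycles of one factor through the fixed points of `sigma`. -/
def cycK (i : ZMod 3) : K := wK ^ i.val * xK * (wK ^ i.val)⁻¹

theorem cycK_facts : (∀ i, cycK i ^ 3 = 1) ∧ cycK 0 = xK ∧ xK ≠ 1 ∧
    (∀ i j, i ≠ j → (cycK i * cycK j) ^ 2 = 1 ∧ ((cycK i)⁻¹ * (cycK j)⁻¹) ^ 2 = 1) ∧
    (∀ i : ZMod 3, zK ^ i.val * xK = xK * zK ^ i.val) := by
  decide +kernel

/-- The normal subgroups of `3 × A₅` without elements of order three. -/
theorem normal_K {N : Subgroup K} (hN : N.Normal) (h3 : ∀ k ∈ N, k ^ 3 = 1 → k = 1) : N = ⊥ := by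
  haveI : IsSimpleGroup A5 := alternatingGroup.isSimpleGroup (by simp)
  have hA : N.comap (MonoidHom.inr C3 A5) = ⊥ := by
    refine (hN.comap _).eq_bot_or_eq_top.resolve_right fun e => ?_
    have hs : sigma ∈ N.comap (MonoidHom.inr C3 A5) := e ▸ Subgroup.mem_top _
    have := h3 _ hs (Prod.ext (one_pow 3) (by
      show sigma ^ 3 = 1
      decide +kernel))
    exact sigma_ne (congrArg Prod.snd this)
  refine (Subgroup.eq_bot_iff_forall _).2 fun k hk => ?_
  have hc : k.1 ^ 3 = 1 := by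
    have : ∀ c : C3, c ^ 3 = 1 := by decide
    exact this _
  have hs : k.2 ^ 3 ∈ N.comap (MonoidHom.inr C3 A5) := by
    have := N.pow_mem hk 3
    rw [show k ^ 3 = ((1 : C3), k.2 ^ 3) from Prod.ext hc rfl] at this
    exact this
  rw [hA, Subgroup.mem_bot] at hs
  exact h3 k hk (Prod.ext hc hs)

variable (D : Data P φ t)
include D

/-- One of the two products of the three-cycles is an involution in the representation. -/
theorem Data.involution (χ : Cfsg.IrrCharacter G) {d : ℕ} (hd : (d : ℤ) = 7 ∨ (d : ℤ) = 8)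
    (h : ∀ k, (χ : G → ℂ) (J φ k) = (val d k : ℂ)) :
    (χ : G → ℂ) ((J φ xK * xO φ t) ^ 2) = (d : ℂ) ∨
      (χ : G → ℂ) ((J φ xK * (xO φ t)⁻¹) ^ 2) = (d : ℂ) := by
  classical
  set M := Nat.card G with hMdef
  have hM : 0 < M := Nat.card_pos
  set ζ := Complex.exp (2 * Real.pi * Complex.I / M)
  have hζ : IsPrimitiveRoot ζ M := Complex.isPrimitiveRoot_exp M hM.ne'
  set g1 := J φ xK * xO φ t with hg1
  set g2 := J φ xK * (xO φ t)⁻¹ with hg2
  obtain ⟨n, ρ, hρ, hch⟩ := χ.2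
  obtain ⟨Q1, hQ1⟩ := exists_poly_values ρ g1 hM pow_card_eq_one' hζ
  obtain ⟨Q2, hQ2⟩ := exists_poly_values ρ g2 hM pow_card_eq_one' hζ
  rw [hch] at hQ1 hQ2
  have geo : ∀ j : ℕ, j.Coprime M → ∃ A : ℂ, Complex.normSq A ≤ 25 / 9 ∧
      2 * ((χ : G → ℂ) (g1 ^ j) + (χ : G → ℂ) (g2 ^ j)) = 4 * (d : ℂ) - 15 + (Complex.normSq A : ℂ) ∧
      (χ : G → ℂ) (g1 ^ j) - (χ : G → ℂ) (g2 ^ j) = (A.re : ℂ) := by
    intro j hj
    obtain ⟨hirr, hv⟩ := D.twist χ.2 h hj
    obtain ⟨A, h1, h2, h3, -, -⟩ := D.geometry (isCharacter_of_isIrr hirr) hd hv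
    rw [Int.cast_natCast] at h2
    exact ⟨A, h1, h2, h3⟩
  have hint : ∀ g : G, IsIntegral ℤ ((χ : G → ℂ) g) := fun g => char_value_isIntegral (irr_isCharacter χ) g
  have hnat : ∀ m : ℕ, IsIntegral ℤ (m : ℂ) := fun m => by
    simpa using (isIntegral_algebraMap (R := ℤ) (A := ℂ) (x := (m : ℤ)))
  -- the sum of the two values
  set QS : Polynomial ℚ := Q1 + Q2 - Polynomial.C (2 * (d : ℚ) - 7) with hQS
  have eS : ∀ j, Polynomial.aeval (ζ ^ j) QS =
      (χ : G → ℂ) (g1 ^ j) + (χ : G → ℂ) (g2 ^ j) - (2 * (d : ℂ) - 7) := fun j => by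
    simp [hQS, hQ1, hQ2]
  have hS : ∀ j : ℕ, j.Coprime M → (χ : G → ℂ) (g1 ^ j) + (χ : G → ℂ) (g2 ^ j) = 2 * (d : ℂ) - 7 := by
    have h0 : ∀ j : ℕ, j.Coprime M → Polynomial.aeval (ζ ^ j) QS = 0 := fun j hj => by
      refine small_zero hM (hζ.pow_of_coprime j hj) QS (fun i hi => ?_) (fun i hi => ?_)
      · rw [← pow_mul, eS]
        refine (hint _).add (hint _) |>.sub ?_
        exact ((hnat 2).mul (hnat d)).sub (hnat 7)
      · obtain ⟨A, hA, hsum, -⟩ := geo (j * i) (hj.mul_left hi)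
        rw [← pow_mul, eS]
        have e : (χ : G → ℂ) (g1 ^ (j * i)) + (χ : G → ℂ) (g2 ^ (j * i)) - (2 * (d : ℂ) - 7) =
            (((Complex.normSq A - 1) / 2 : ℝ) : ℂ) := by
          push_cast
          linear_combination (1 / 2 : ℂ) * hsum
        rw [e, Complex.norm_real, Real.norm_eq_abs, abs_lt]
        have := Complex.normSq_nonneg A
        constructor <;> linarith
    intro j hj
    have := h0 j hj
    rw [eS] at this
    linear_combination this
  -- the value at the first product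
  set Q : Polynomial ℚ := (Q1 - Polynomial.C ((d : ℚ) - 3)) * (Q1 - Polynomial.C ((d : ℚ) - 4)) with hQ
  have eQ : ∀ j, Polynomial.aeval (ζ ^ j) Q =
      ((χ : G → ℂ) (g1 ^ j) - ((d : ℂ) - 3)) * ((χ : G → ℂ) (g1 ^ j) - ((d : ℂ) - 4)) := fun j => by
    simp [hQ, hQ1]
  have h0 : Polynomial.aeval ζ Q = 0 := by
    refine small_zero hM hζ Q (fun i _ => ?_) (fun i hi => ?_)
    · rw [eQ]
      exact ((hint _).sub ((hnat d).sub (hnat 3))).mul ((hint _).sub ((hnat d).sub (hnat 4)))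
    · obtain ⟨A, -, hsum, hdiff⟩ := geo i hi
      have hs := hS i hi
      have hn1 : ((Complex.normSq A : ℝ) : ℂ) = ((1 : ℝ) : ℂ) := by
        push_cast
        linear_combination 2 * hs - hsum
      have hn : Complex.normSq A = 1 := Complex.ofReal_injective hn1
      have hre : A.re * A.re ≤ 1 := by
        rw [Complex.normSq_apply] at hn
        nlinarith [mul_self_nonneg A.im]
      have hm : (χ : G → ℂ) (g1 ^ i) - ((d : ℂ) - 3) = (((A.re - 1) / 2 : ℝ) : ℂ) := by
        push_cast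
        linear_combination (1 / 2 : ℂ) * hs + (1 / 2 : ℂ) * hdiff
      have hm' : (χ : G → ℂ) (g1 ^ i) - ((d : ℂ) - 4) = (((A.re + 1) / 2 : ℝ) : ℂ) := by
        push_cast
        linear_combination (1 / 2 : ℂ) * hs + (1 / 2 : ℂ) * hdiff
      rw [eQ, hm, hm', ← Complex.ofReal_mul, Complex.norm_real, Real.norm_eq_abs, abs_lt]
      constructor <;> nlinarith [mul_self_nonneg A.re]
  have h1 := eQ 1
  rw [pow_one, pow_one, h0] at h1
  have hs := hS 1 (Nat.coprime_one_left _)
  rw [pow_one, pow_one] at hs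
  obtain ⟨A, -, hsum, hdiff, hneg, hpos⟩ := D.geometry (irr_isCharacter χ) hd h
  rw [← hg1, ← hg2, Int.cast_natCast] at hsum
  rw [← hg1, ← hg2] at hdiff
  rw [← hg1, Int.cast_natCast] at hneg
  rw [← hg2, Int.cast_natCast] at hpos
  have hn1 : ((Complex.normSq A : ℝ) : ℂ) = ((1 : ℝ) : ℂ) := by
    push_cast
    linear_combination 2 * hs - hsum
  have hn : Complex.normSq A = 1 := Complex.ofReal_injective hn1
  rw [Complex.normSq_apply] at hn
  rcases mul_eq_zero.1 h1.symm with e | e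
  · right
    refine hpos (Complex.ext ?_ ?_)
    · have : ((A.re : ℝ) : ℂ) = ((1 : ℝ) : ℂ) := by push_cast; linear_combination 2 * e - hs - hdiff
      simpa using Complex.ofReal_injective this
    · have : ((A.re : ℝ) : ℂ) = ((1 : ℝ) : ℂ) := by push_cast; linear_combination 2 * e - hs - hdiff
      have hre := Complex.ofReal_injective this
      rw [hre] at hn
      simp only [Complex.one_im]
      nlinarith [mul_self_eq_zero (a := A.im)]
  · left
    refine hneg (Complex.ext ?_ ?_)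
    · have : ((A.re : ℝ) : ℂ) = ((-1 : ℝ) : ℂ) := by push_cast; linear_combination 2 * e - hs - hdiff
      simpa using Complex.ofReal_injective this
    · have : ((A.re : ℝ) : ℂ) = ((-1 : ℝ) : ℂ) := by push_cast; linear_combination 2 * e - hs - hdiff
      have hre := Complex.ofReal_injective this
      rw [hre] at hn
      simp only [Complex.neg_im, Complex.one_im, neg_zero]
      nlinarith [mul_self_eq_zero (a := A.im)]

/-- The character is faithful. -/
theorem Data.faithful (χ : Cfsg.IrrCharacter G) {d : ℕ}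
    (h : ∀ k, (χ : G → ℂ) (J φ k) = (val d k : ℂ)) {g : G} (hg : (χ : G → ℂ) g = (d : ℂ)) : g = 1 := by
  classical
  haveI : Fact (Nat.Prime 3) := ⟨Nat.prime_three⟩
  obtain ⟨h10, h01, -, h00⟩ := dK_facts
  have h1 : (χ : G → ℂ) 1 = (d : ℂ) := by
    rw [← map_one (J φ), h, show val (d : ℤ) 1 = (d : ℤ) by
      have e : p4 (1 : A5) = 4 := p_facts.2.2.1
      simp [val, e]]
    simp
  set N := charKernel (χ : G → ℂ) (irr_isCharacter χ) with hN
  haveI hNn : N.Normal := charKernel_normal _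
  suffices hbot : N = ⊥ by
    have : g ∈ N := mem_charKernel.2 (hg.trans h1.symm)
    rwa [hbot, Subgroup.mem_bot] at this
  have hP1 : ∀ p ∈ (P : Subgroup G), p ∈ N → p = 1 := by
    intro p hp hpN
    obtain ⟨a, rfl⟩ := (D.sylow p).1 hp
    by_contra hne
    have ha : a ≠ 0 := fun e => hne (by rw [e, h00, map_one])
    have := (mem_charKernel.1 hpN).trans h1
    rw [h] at this
    have h' : val (d : ℤ) (dK a) = (d : ℤ) := by exact_mod_cast this
    have h0 := val_P a ha
    simp only [val] at h' h0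
    split_ifs at h' h0 <;> omega
  have h3 : ∀ x ∈ N, x ^ 3 = 1 → x = 1 := by
    intro x hxN hx
    have hpg : IsPGroup 3 (zpowers x) := IsPGroup.of_card_dvd_pow (n := 1) (by
      rw [Nat.card_zpowers, pow_one]; exact orderOf_dvd_of_pow_eq_one hx)
    obtain ⟨Q, hQ⟩ := hpg.exists_le_sylow
    obtain ⟨c, hc⟩ := MulAction.exists_smul_eq G Q P
    have hm : c * x * c⁻¹ ∈ (P : Subgroup G) := by
      rw [← hc, Sylow.coe_subgroup_smul]
      exact smul_mem_pointwise_smul x (MulAut.conj c) _ (hQ (mem_zpowers x))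
    exact conj_eq_one_iff.1 (hP1 _ hm (hNn.conj_mem _ hxN c))
  have hz0 : ∀ x ∈ N, x ∈ centralizer ({J φ zK} : Set G) → x = 1 := by
    intro x hxN hx
    obtain ⟨k, rfl⟩ := D.cent_z.1 hx
    have hbot : N.comap (J φ) = ⊥ := normal_K (hNn.comap _) fun k hk hk3 =>
      D.Jinj (by rw [h3 _ hk (by rw [← map_pow, hk3, map_one]), map_one])
    have : k ∈ N.comap (J φ) := hxN
    rw [hbot, Subgroup.mem_bot] at this
    rw [this, map_one]
  have hcent : ∀ a : ZMod 3 × ZMod 3, a ≠ 0 → ∀ x ∈ N,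
      x ∈ centralizer ({J φ (dK a)} : Set G) → x = 1 := by
    intro a ha x hxN hx
    by_cases hax : OnAxis a
    · obtain ⟨c, hc⟩ := isConj_iff.1 (D.axis_conj ha hax).symm
      have := hz0 (c * x * c⁻¹) (hNn.conj_mem _ hxN c) (by
        rw [mem_centralizer_singleton_iff, ← hc,
          show c * x * c⁻¹ * (c * J φ (dK a) * c⁻¹) = c * (x * J φ (dK a)) * c⁻¹ by group,
          show c * J φ (dK a) * c⁻¹ * (c * x * c⁻¹) = c * (J φ (dK a) * x) * c⁻¹ by group,
          mem_centralizer_singleton_iff.1 hx])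
      exact conj_eq_one_iff.1 this
    · obtain ⟨c, hc⟩ := isConj_iff.1 (D.off_conj hax).symm
      set x' := c * x * c⁻¹ with hx'
      have hx'N : x' ∈ N := hNn.conj_mem _ hxN c
      have hx'C : x' ∈ centralizer ({J φ yK} : Set G) := by
        rw [mem_centralizer_singleton_iff, hx', ← hc,
          show c * x * c⁻¹ * (c * J φ (dK a) * c⁻¹) = c * (x * J φ (dK a)) * c⁻¹ by group,
          show c * J φ (dK a) * c⁻¹ * (c * x * c⁻¹) = c * (J φ (dK a) * x) * c⁻¹ by group,
          mem_centralizer_singleton_iff.1 hx]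
      have hn := D.normY x' hx'C
      have hzP : J φ zK ∈ (P : Subgroup G) := by rw [← h10]; exact D.mem _
      have hcomm : x' * J φ zK * x'⁻¹ * (J φ zK)⁻¹ = 1 :=
        hP1 _ (mul_mem ((mem_normalizer_iff.1 hn _).1 hzP) (inv_mem hzP)) (by
          rw [show x' * J φ zK * x'⁻¹ * (J φ zK)⁻¹ = x' * (J φ zK * x'⁻¹ * (J φ zK)⁻¹) by group]
          exact mul_mem hx'N (hNn.conj_mem _ (inv_mem hx'N) _))
      have hz' : x' ∈ centralizer ({J φ zK} : Set G) := by
        rw [mem_centralizer_singleton_iff]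
        calc x' * J φ zK = x' * J φ zK * x'⁻¹ * (J φ zK)⁻¹ * (J φ zK * x') := by group
          _ = J φ zK * x' := by rw [hcomm, one_mul]
      exact conj_eq_one_iff.1 (hz0 _ hx'N hz')
  haveI : IsMulCommutative (P : Subgroup G) := ⟨⟨fun a b => Subtype.ext (D.comm a.2 b.2)⟩⟩
  have hcard : Nat.card (P : Subgroup G) = 9 := by
    have hb : Function.Bijective fun a : ZMod 3 × ZMod 3 => (⟨J φ (dK a), D.mem a⟩ : (P : Subgroup G)) :=
      ⟨fun a b e => dK_inj _ _ (D.Jinj (congrArg Subtype.val e)), fun g => by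
        obtain ⟨a, ha⟩ := (D.sylow g).1 g.2
        exact ⟨a, Subtype.ext ha⟩⟩
    rw [← Nat.card_eq_of_bijective _ hb]; simp
  have hncyc : ¬ IsCyclic (P : Subgroup G) := by
    intro hcy
    obtain ⟨c, hc⟩ := IsCyclic.exists_generator (α := (P : Subgroup G))
    have h9 : orderOf c = 9 := by rw [orderOf_eq_card_of_forall_mem_zpowers hc, hcard]
    have hd := orderOf_dvd_of_pow_eq_one (show c ^ 3 = 1 from Subtype.ext (D.exp c.2))
    rw [h9] at hd
    norm_num at hd
  have hcop : (Nat.card (P : Subgroup G)).Coprime (Nat.card N) := by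
    rw [hcard, show 9 = 3 ^ 2 from rfl]
    refine Nat.Coprime.pow_left 2 ((Nat.Prime.coprime_iff_not_dvd Nat.prime_three).2 fun hd => ?_)
    obtain ⟨x, hx⟩ := exists_prime_orderOf_dvd_card' 3 hd
    have := h3 x x.2 (by
      have := congrArg Subtype.val (pow_orderOf_eq_one x)
      rwa [hx] at this)
    have hx1 : x = 1 := Subtype.ext this
    rw [hx1, orderOf_one] at hx
    norm_num at hx
  have hgen := Cfsg.Agent.Coprime.fixedGen_eq hncyc
    (by rw [normalizer_eq_top]; exact le_top) hcop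
  rw [← hgen]
  refine le_bot_iff.1 (iSup₂_le fun p hp => ?_)
  intro x hx
  obtain ⟨hpP, hp1⟩ := hp
  obtain ⟨a, rfl⟩ := (D.sylow p).1 hpP
  exact Subgroup.mem_bot.2 (hcent a (fun e => hp1 (by rw [e, h00, map_one])) x
    (Subgroup.mem_inf.1 hx).1 (Subgroup.mem_inf.1 hx).2)

/-- Six three-cycles of the alternating group of degree eight. -/
theorem Data.exists_hom_alt (χ : Cfsg.IrrCharacter G) {d : ℕ} (hd : (d : ℤ) = 7 ∨ (d : ℤ) = 8)
    (h : ∀ k, (χ : G → ℂ) (J φ k) = (val d k : ℂ)) :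
    ∃ f : alternatingGroup (Fin 8) →* G, Function.Injective f := by
  classical
  obtain ⟨hc3, hc0, hx1, hcpair, hzx⟩ := cycK_facts
  obtain ⟨h10, h01, -, -⟩ := dK_facts
  set x := J φ xK with hx
  obtain ⟨hx3, hy3, -, -⟩ := D.x_facts
  obtain ⟨y, hy, hxy⟩ : ∃ y : G, (y = xO φ t ∨ y = (xO φ t)⁻¹) ∧ (x * y) ^ 2 = 1 := by
    rcases D.involution χ hd h with e | e
    · exact ⟨_, Or.inl rfl, D.faithful χ h e⟩
    · exact ⟨_, Or.inr rfl, D.faithful χ h e⟩
  set eX : ZMod 3 → G := fun i => J φ (cycK i) with heX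
  set eY : ZMod 3 → G := fun j => if y = xO φ t then t * eX j * t else t * (eX j)⁻¹ * t with heY
  have hzc : J φ zK * x = x * J φ zK := by
    rw [← map_mul, (emb_central xK).eq, map_mul]
  have hwy : J φ wK * y = y * J φ wK := by
    have e : J φ wK * xO φ t = xO φ t * J φ wK := by
      rw [xO, ← D.tz, ← D.tconj_mul, ← D.tconj_mul, hzc]
    rcases hy with e' | e' <;> rw [e']
    · exact e
    · exact ((show Commute _ _ from e).inv_right).eq
  have hconjX : ∀ i : ZMod 3, eX i = J φ wK ^ i.val * x * (J φ wK ^ i.val)⁻¹ := fun i => by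
    simp only [heX, cycK, map_mul, map_inv, map_pow, hx]
  have hconjY : ∀ j : ZMod 3, eY j = J φ zK ^ j.val * y * (J φ zK ^ j.val)⁻¹ := fun j => by
    have hpz : J φ zK ^ j.val = t * J φ wK ^ j.val * t := by rw [D.tconj_pow, D.tw]
    have hpzi : (J φ zK ^ j.val)⁻¹ = t * (J φ wK ^ j.val)⁻¹ * t := by
      rw [hpz, _root_.mul_inv_rev, _root_.mul_inv_rev, D.tinv, mul_assoc]
    simp only [heY]
    split_ifs with e
    · rw [e, xO, hconjX, D.tconj_mul, D.tconj_mul, hpzi, hpz]
    · have e' := hy.resolve_left e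
      rw [e', xO, hconjX, _root_.mul_inv_rev, _root_.mul_inv_rev, inv_inv, D.tconj_mul, D.tconj_mul,
        hpzi, hpz, _root_.mul_inv_rev, _root_.mul_inv_rev, D.tinv, ← mul_assoc t x⁻¹, mul_assoc]
      simp only [mul_assoc]
  have hcross : ∀ i j, (eX i * eY j) ^ 2 = 1 := by
    intro i j
    set a := J φ wK ^ i.val with ha
    set b := J φ zK ^ j.val with hb
    have hab : Commute a b := by
      refine Commute.pow_pow ?_ _ _
      rw [← h10, ← h01]
      exact D.comm (D.mem _) (D.mem _)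
    have hbx : Commute b x := (show Commute (J φ zK) x from hzc).pow_left _
    have hay : Commute a y := (show Commute (J φ wK) y from hwy).pow_left _
    have eXi : eX i = a * b * x * (a * b)⁻¹ := by
      rw [hconjX, ← ha, mul_assoc a b x, hbx.eq, _root_.mul_inv_rev]; group
    have eYj : eY j = a * b * y * (a * b)⁻¹ := by
      rw [hconjY, ← hb, hab.eq, mul_assoc b a y, hay.eq, _root_.mul_inv_rev]; group
    rw [eXi, eYj, show a * b * x * (a * b)⁻¹ * (a * b * y * (a * b)⁻¹) = a * b * (x * y) * (a * b)⁻¹ by group,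
      conj_pow, hxy, mul_one, mul_inv_cancel]
  have hXX : ∀ i, eX i ^ 3 = 1 := fun i => by simp only [heX]; rw [← map_pow, hc3, map_one]
  have hX2 : ∀ i j, i ≠ j → (eX i * eX j) ^ 2 = 1 ∧ ((eX i)⁻¹ * (eX j)⁻¹) ^ 2 = 1 := fun i j hij => by
    obtain ⟨e1, e2⟩ := hcpair i j hij
    simp only [heX]
    constructor
    · rw [← map_mul, ← map_pow, e1, map_one]
    · rw [← map_inv, ← map_inv, ← map_mul, ← map_pow, e2, map_one]
  have hrels : ShortPres.Alt.Rels (Sum.elim eX eY) := by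
    refine ⟨?_, ?_⟩
    · rintro (i | j)
      · exact hXX i
      · simp only [Sum.elim_inr, heY]
        split_ifs
        · rw [← D.tconj_pow, hXX, mul_one, D.t2]
        · rw [← D.tconj_pow, inv_pow, hXX, inv_one, mul_one, D.t2]
    · rintro (i | i) (j | j) hij
      · exact (hX2 i j fun e => hij (congrArg Sum.inl e)).1
      · exact hcross i j
      · simp only [Sum.elim_inl, Sum.elim_inr]
        rw [show eY i * eX j = (eX j)⁻¹ * (eX j * eY i) * eX j by group]
        have := hcross j i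
        calc ((eX j)⁻¹ * (eX j * eY i) * eX j) ^ 2
            = (eX j)⁻¹ * (eX j * eY i) ^ 2 * ((eX j)⁻¹)⁻¹ := by
              rw [← conj_pow, inv_inv]
          _ = 1 := by rw [this, mul_one, mul_inv_cancel]
      · have hij' : i ≠ j := fun e => hij (congrArg Sum.inr e)
        simp only [Sum.elim_inr, heY]
        split_ifs
        · rw [← D.tconj_mul, ← D.tconj_pow, (hX2 i j hij').1, mul_one, D.t2]
        · rw [← D.tconj_mul, ← D.tconj_pow, (hX2 i j hij').2, mul_one, D.t2]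
  let idx : Fin 8 → ZMod 3 ⊕ ZMod 3 := fun i =>
    if (i : ℕ) < 5 then Sum.inl (((i : ℕ) + 1 : ℕ) : ZMod 3) else Sum.inr (((i : ℕ) + 1 : ℕ) : ZMod 3)
  have hidx : ∀ i j : Fin 8, (i ≠ 0 ∧ i ≠ 1) → (j ≠ 0 ∧ j ≠ 1) → idx i = idx j → i = j := by
    decide
  have huv : (0 : Fin 8) ≠ 1 := by decide
  have hre : ShortPres.Alt.Rels (fun i : ShortPres.Alt.Rest (0 : Fin 8) 1 => Sum.elim eX eY (idx i)) :=
    ⟨fun i => hrels.cube _, fun i j hij => hrels.pair _ _ fun e => hij (Subtype.ext (hidx _ _ i.2 j.2 e))⟩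
  obtain ⟨f, hf⟩ := ShortPres.Alt.exists_hom huv ⟨⟨2, by decide⟩⟩ hre
  refine ⟨f, ?_⟩
  haveI : IsSimpleGroup (alternatingGroup (Fin 8)) := alternatingGroup.isSimpleGroup (by simp)
  rw [← MonoidHom.ker_eq_bot_iff]
  refine (MonoidHom.normal_ker f).eq_bot_or_eq_top.resolve_right fun e => hx1 (D.Jinj ?_)
  have h2 := hf ⟨2, by decide⟩
  have hm : (ShortPres.Alt.cyc huv ⟨2, by decide⟩) ∈ f.ker := e ▸ Subgroup.mem_top _
  rw [MonoidHom.mem_ker] at hm
  rw [hm, show idx (2 : Fin 8) = Sum.inl 0 by decide, Sum.elim_inl] at h2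
  simp only [heX, hc0] at h2
  rw [← h2, map_one]

end Cfsg.Agent.EightLocal
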