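import Cfsg.Agent.Lib.EightLocal.Local

/-!
# The two class multiplication constants, and the number of Sylow subgroups
-/

set_option autoImplicit false
set_option linter.style.haveILetI false
set_option linter.unusedSectionVars false

namespace Cfsg.Agent.EightLocal

open Subgroup

theorem off_one : ¬ OnAxis (1, 1) := by decide

theorem fst_kill : ∀ x : C3, x * Multiplicative.ofAdd (1 : ZMod 3) ^ ((3 - (Multiplicative.toAdd x).val) % 3) = 1 := by
  decide +kernel

set_option synthInstance.maxSize 10000 in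
theorem key_facts :
    ZT zK ∧ ZT wK ∧ ZT (zK⁻¹ * yK) ∧ ZT (wK⁻¹ * yK) ∧ YT yK ∧ zK ≠ wK ∧ zK * wK = yK ∧
      zK⁻¹ * yK = wK ∧ wK⁻¹ * yK = zK ∧ wK ≠ 1 ∧ zK ≠ 1 ∧ (∀ k : K, k ^ 3 = 1 → k.2 = 1 → k ≠ 1 → k = zK ∨ k = zK⁻¹) ∧
      (∀ a, a ≠ 0 → OnAxis a → a.1 = 0 ∨ a.2 = 0) := by
  decide +kernel

variable {G : Type*} [Group G] [Finite G] {P : Sylow 3 G} {φ : Pairs →* G} {t : G}

/-- A factorization of a target of order three into two conjugates of elements of order three. -/
theorem factor_facts {a b c g : G} (ha : a ^ 3 = 1) (hb : b ^ 3 = 1) (h1 : IsConj a g)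
    (h2 : IsConj b (g⁻¹ * c)) : g ^ 3 = 1 ∧ (c⁻¹ * g) ^ 3 = 1 := by
  obtain ⟨x, rfl⟩ := isConj_iff.1 h1
  obtain ⟨y, hy⟩ := isConj_iff.1 h2
  refine ⟨by rw [conj_pow, ha, mul_one, mul_inv_cancel], ?_⟩
  rw [show c⁻¹ * (x * a * x⁻¹) = ((x * a * x⁻¹)⁻¹ * c)⁻¹ by group, ← hy, inv_pow, conj_pow, hb,
    mul_one, mul_inv_cancel, inv_one]

variable (D : Data P φ t)
include D

theorem Data.three_J {g : G} (hg : g ∈ centralizer ({J φ zK} : Set G)) (h3 : g ^ 3 = 1) :
    ∃ k, J φ k = g ∧ k ^ 3 = 1 := by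
  obtain ⟨k, rfl⟩ := D.cent_z.1 hg
  exact ⟨k, rfl, D.Jinj (by rw [map_pow, h3, map_one])⟩

theorem Data.Jpow {k : K} (h : k ^ 3 = 1) : J φ k ^ 3 = 1 := by rw [← map_pow, h, map_one]

theorem Data.isConj_J {k : K} :
    (IsConj (J φ zK) (J φ k) → ZT k) ∧ (IsConj (J φ yK) (J φ k) → YT k) := by
  have h3 : ∀ a : K, a ^ 3 = 1 → a ≠ 1 → IsConj (J φ a) (J φ k) → k ^ 3 = 1 ∧ k ≠ 1 := by
    intro a ha ha1 h
    obtain ⟨x, hx⟩ := isConj_iff.1 h
    refine ⟨D.Jinj ?_, fun e => ?_⟩
    · rw [map_pow, ← hx, conj_pow, D.Jpow ha, map_one, mul_one, mul_inv_cancel]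
    · rw [e, map_one, conj_eq_one_iff] at hx
      exact ha1 (D.Jinj (hx.trans (map_one _).symm))
  obtain ⟨hzz, -, -, -, hyy, -⟩ := key_facts
  refine ⟨fun h => ?_, fun h => ?_⟩
  · obtain ⟨a, b⟩ := h3 zK hzz.1 hzz.2.1 h
    exact (D.type_iff a b).1.1 h
  · obtain ⟨a, b⟩ := h3 yK hyy.1 (fun e => hyy.2.1 (congrArg Prod.fst e)) h
    exact (D.type_iff a b).2.1 h

theorem Data.tconj_isConj (g : G) : IsConj g (t * g * t) :=
  isConj_iff.2 ⟨t, by rw [D.tinv]⟩

/-- The factorizations of `y` as a product of two conjugates of `z`. -/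
theorem Data.count_two :
    Nat.card {g : G // IsConj (J φ zK) g ∧ IsConj (J φ zK) (g⁻¹ * J φ yK)} = 2 := by
  classical
  obtain ⟨hzz, hww, hzy, hwy, hyy, hne, hzw, hzy', hwy', -, -, -, -⟩ := key_facts
  let f : Bool → {g : G // IsConj (J φ zK) g ∧ IsConj (J φ zK) (g⁻¹ * J φ yK)} := fun b =>
    ⟨J φ (if b then wK else zK), (D.conj_type (by cases b; exacts [hzz.1, hww.1])).1
        (by cases b; exacts [hzz, hww]),
      by
        rw [← map_inv, ← map_mul]
        cases b
        · exact (D.conj_type hzy.1).1 hzy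
        · exact (D.conj_type hwy.1).1 hwy⟩
  rw [← Nat.card_eq_of_bijective f ⟨?_, ?_⟩]
  · simp
  · intro a b e
    have e' := D.Jinj (congrArg Subtype.val e)
    cases a <;> cases b <;> first | rfl | exact absurd e' hne | exact absurd e'.symm hne
  · rintro ⟨g, h1, h2⟩
    suffices h : g = J φ zK ∨ g = J φ wK by
      rcases h with rfl | rfl
      · exact ⟨false, rfl⟩
      · exact ⟨true, rfl⟩
    obtain ⟨hg3, hq⟩ := factor_facts (D.Jpow hzz.1) (D.Jpow hzz.1) h1 h2
    have hY3 : (J φ yK)⁻¹ ^ 3 = 1 := by rw [inv_pow, D.Jpow hyy.1, inv_one]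
    have inC : ∀ g, IsConj (J φ zK) g → IsConj (J φ zK) (g⁻¹ * J φ yK) →
        g ∈ centralizer ({J φ zK} : Set G) → g = J φ zK ∨ g = J φ wK := by
      intro g a b hc
      obtain ⟨k, rfl⟩ := D.cent_z.1 hc
      rw [← map_inv, ← map_mul] at b
      rcases two_cases k (D.isConj_J.1 a) (D.isConj_J.1 b) with rfl | rfl
      · exact Or.inl rfl
      · exact Or.inr rfl
    rcases D.triangle hY3 (inv_ne_one.2 D.zy_ne.2.1) hg3 hq with hc | ⟨m, hm3, hm1, hmY, hgm⟩
    · have hi : IsConj (J φ yK) (J φ yK)⁻¹ := D.isConj_inv_P (by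
        rw [← dK_facts.2.2.1]; exact D.mem _)
      exact absurd ((hi.trans hc).trans h1.symm).symm D.not_conj_zy
    · have hmP : m ∈ (P : Subgroup G) :=
        D.mem_Y hm3 (by simpa using (hmY.inv_left).symm.eq)
      obtain ⟨a, rfl⟩ := (D.sylow m).1 hmP
      have ha : a ≠ 0 := fun e => hm1 (by rw [e, dK_facts.2.2.2, map_one])
      have hz : ∀ x : G, Commute g x → (x = J φ zK ∨ x = (J φ zK)⁻¹) → g = J φ zK ∨ g = J φ wK := by
        intro x hx hxz
        refine inC g h1 h2 (mem_centralizer_singleton_iff.2 ?_)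
        rcases hxz with rfl | rfl
        · exact hx.eq
        · simpa using hx.inv_right.eq
      have hw : ∀ x : G, Commute g x → (x = J φ wK ∨ x = (J φ wK)⁻¹) → g = J φ zK ∨ g = J φ wK := by
        intro x hx hxw
        have hc : g * J φ wK = J φ wK * g := by
          rcases hxw with rfl | rfl
          · exact hx.eq
          · simpa using hx.inv_right.eq
        have h3 := inC (t * g * t) (h1.trans (D.tconj_isConj g)) (by
            have hY : t * J φ yK * t = J φ yK := by
              have := D.t_dK (1, 1); rwa [dK_facts.2.2.1] at this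
            have e : (t * g * t)⁻¹ * J φ yK = t * (g⁻¹ * J φ yK) * t := by
              rw [D.tconj_mul, hY, mul_inv_rev, mul_inv_rev, D.tinv]; group
            rw [e]; exact h2.trans (D.tconj_isConj _))
          (mem_centralizer_singleton_iff.2 (by
            conv_lhs => rw [← D.tw, ← D.tconj_mul, hc, D.tconj_mul, D.tw]))
        rcases h3 with e | e
        · right; rw [← D.t_twice g, e, D.tz]
        · left; rw [← D.t_twice g, e, D.tw]
      by_cases hax : OnAxis a
      · rcases dK_axes a ha hax with e | e | e | e <;> rw [e] at hgm <;> try rw [map_inv] at hgm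
        · exact hz _ hgm (Or.inl rfl)
        · exact hz _ hgm (Or.inr rfl)
        · exact hw _ hgm (Or.inl rfl)
        · exact hw _ hgm (Or.inr rfl)
      · refine inC g h1 h2 (mem_centralizer_singleton_iff.2 ?_)
        exact D.comm (D.mem_off hax hg3 hgm.eq) (by rw [← dK_facts.1]; exact D.mem _)

/-- The element of order three of a line. -/
def lineM (φ : Pairs →* G) (i : Fin 10) : G := J φ ((lineK i)⁻¹ * wK * lineK i)

theorem Data.cent_Y_comm {g a b : G} (hg : IsConj (J φ yK) g) (ha : a ^ 3 = 1) (hb : b ^ 3 = 1)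
    (hag : a * g = g * a) (hbg : b * g = g * b) : a * b = b * a := by
  obtain ⟨c, rfl⟩ := isConj_iff.1 hg
  have h : ∀ a : G, a ^ 3 = 1 → a * (c * J φ yK * c⁻¹) = c * J φ yK * c⁻¹ * a →
      c⁻¹ * a * c ∈ (P : Subgroup G) := fun a ha e =>
    D.mem_Y (by
      rw [show c⁻¹ * a * c = c⁻¹ * a * c⁻¹⁻¹ by rw [inv_inv], conj_pow, ha, mul_one, mul_inv_cancel]) (by
      calc c⁻¹ * a * c * J φ yK = c⁻¹ * (a * (c * J φ yK * c⁻¹)) * c := by group
        _ = c⁻¹ * (c * J φ yK * c⁻¹ * a) * c := by rw [e]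
        _ = J φ yK * (c⁻¹ * a * c) := by group)
  have := D.comm (h a ha hag) (h b hb hbg)
  calc a * b = c * (c⁻¹ * a * c * (c⁻¹ * b * c)) * c⁻¹ := by group
    _ = c * (c⁻¹ * b * c * (c⁻¹ * a * c)) * c⁻¹ := by rw [this]
    _ = b * a := by group

/-- The factorizations of `z` as a product of two conjugates of `y`. -/
theorem Data.count_many :
    Nat.card {g : G // IsConj (J φ yK) g ∧ IsConj (J φ yK) (g⁻¹ * J φ zK)} = 140 := by
  classical
  obtain ⟨hzz, hww, -, -, hyy, -, -, -, -, hw1, hz1, hfst, -⟩ := key_facts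
  have hcc : ∀ (i : Fin 10) (k : K), (J φ (lineK i))⁻¹ * (t * J φ k * t) * J φ (lineK i) =
      (J φ (lineK i))⁻¹ * (t * J φ k * t) * ((J φ (lineK i))⁻¹)⁻¹ := fun i k => by rw [inv_inv]
  have hconjX : ∀ (i : Fin 10) (x : G), IsConj x ((J φ (lineK i))⁻¹ * x * J φ (lineK i)) := fun i x =>
    isConj_iff.2 ⟨(J φ (lineK i))⁻¹, by rw [inv_inv]⟩
  have hzfix : ∀ i : Fin 10, (J φ (lineK i))⁻¹ * J φ zK * J φ (lineK i) = J φ zK := fun i => by
    rw [← map_inv, ← map_mul, ← map_mul, mul_assoc, (emb_central _).eq, inv_mul_cancel_left]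
  let f : {k : K // SetA k} ⊕ (Fin 10 × {k : K // SetB k}) →
      {g : G // IsConj (J φ yK) g ∧ IsConj (J φ yK) (g⁻¹ * J φ zK)} := Sum.elim
    (fun k => ⟨J φ k, (D.conj_type k.2.1.1).2 k.2.1,
      by rw [← map_inv, ← map_mul]; exact (D.conj_type k.2.2.1).2 k.2.2⟩)
    (fun p => ⟨(J φ (lineK p.1))⁻¹ * (t * J φ p.2 * t) * J φ (lineK p.1),
      ((D.conj_type p.2.2.1.1).2 p.2.2.1).trans ((D.tconj_isConj _).trans (hconjX _ _)), by
      have e : ((J φ (lineK p.1))⁻¹ * (t * J φ p.2 * t) * J φ (lineK p.1))⁻¹ * J φ zK =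
          (J φ (lineK p.1))⁻¹ * (t * J φ ((p.2 : K)⁻¹ * wK) * t) * J φ (lineK p.1) := by
        rw [map_mul, D.tconj_mul, D.tw, map_inv]
        conv_lhs => arg 2; rw [← hzfix p.1]
        rw [mul_inv_rev, mul_inv_rev, mul_inv_rev, mul_inv_rev, inv_inv, D.tinv]
        group
      rw [e]
      exact ((D.conj_type p.2.2.2.1.1).2 p.2.2.2.1).trans ((D.tconj_isConj _).trans (hconjX _ _))⟩)
  rw [← Nat.card_eq_of_bijective f ⟨?_, ?_⟩]
  · rw [Nat.card_sum, Nat.card_prod, Nat.card_eq_fintype_card, card_setA, Nat.card_eq_fintype_card,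
      Fintype.card_fin, Nat.card_eq_fintype_card, card_setB]
  · -- injective
    have hout : ∀ (i : Fin 10) (k : {k : K // SetB k}),
        ¬ Commute ((J φ (lineK i))⁻¹ * (t * J φ k * t) * J φ (lineK i)) (J φ zK) := by
      intro i k h
      have h1 := h.map (MulAut.conj (J φ (lineK i))).toMonoidHom
      simp only [MulEquiv.coe_toMonoidHom, MulAut.conj_apply] at h1
      rw [show J φ (lineK i) * ((J φ (lineK i))⁻¹ * (t * J φ k * t) * J φ (lineK i)) * (J φ (lineK i))⁻¹ =
        t * J φ k * t by group, ← map_inv, ← map_mul, ← map_mul, ← (emb_central _).eq,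
        mul_inv_cancel_right] at h1
      have h2 := congrArg (fun x => t * x * t) h1.eq
      simp only [D.tconj_mul _ (J φ zK), D.tconj_mul (J φ zK), D.t_twice, D.tz] at h2
      rw [← map_mul, ← map_mul] at h2
      exact k.2.2.2 (D.Jinj h2)
    have hzc : ∀ k : K, Commute (J φ k) (J φ zK) := fun k => ((emb_central k).map (J φ)).symm
    rintro (a | ⟨i, a⟩) (b | ⟨j, b⟩) e <;> have e' := congrArg Subtype.val e
    · exact congrArg Sum.inl (Subtype.ext (D.Jinj e'))
    · change J φ a = _ at e'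
      exact absurd (by simpa only [f, Sum.elim_inr, e'] using hzc a) (hout j b)
    · change _ = J φ b at e'
      exact absurd (by simpa only [f, Sum.elim_inr, ← e'] using hzc b) (hout i a)
    · change (J φ (lineK i))⁻¹ * (t * J φ a * t) * J φ (lineK i) =
        (J φ (lineK j))⁻¹ * (t * J φ b * t) * J φ (lineK j) at e'
      have hm : ∀ (i : Fin 10) (a : K),
          J φ ((lineK i)⁻¹ * wK * lineK i) * ((J φ (lineK i))⁻¹ * (t * J φ a * t) * J φ (lineK i)) =
            (J φ (lineK i))⁻¹ * (t * J φ a * t) * J φ (lineK i) * J φ ((lineK i)⁻¹ * wK * lineK i) := by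
        intro i a
        have hw : J φ wK * (t * J φ a * t) = t * J φ a * t * J φ wK := by
          rw [← D.tz, ← D.tconj_mul, ← D.tconj_mul, ← map_mul, ← map_mul, (emb_central a).eq]
        simp only [map_mul, map_inv]
        calc (J φ (lineK i))⁻¹ * J φ wK * J φ (lineK i) * ((J φ (lineK i))⁻¹ * (t * J φ a * t) * J φ (lineK i))
            = (J φ (lineK i))⁻¹ * (J φ wK * (t * J φ a * t)) * J φ (lineK i) := by group
          _ = (J φ (lineK i))⁻¹ * (t * J φ a * t * J φ wK) * J φ (lineK i) := by rw [hw]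
          _ = _ := by group
      have hm3 : ∀ i : Fin 10, J φ ((lineK i)⁻¹ * wK * lineK i) ^ 3 = 1 := fun i => D.Jpow (by
        rw [show (lineK i)⁻¹ * wK * lineK i = (lineK i)⁻¹ * wK * ((lineK i)⁻¹)⁻¹ by rw [inv_inv],
          conj_pow, hww.1, mul_one, mul_inv_cancel])
      have hg : IsConj (J φ yK) ((J φ (lineK i))⁻¹ * (t * J φ a * t) * J φ (lineK i)) :=
        ((D.conj_type a.2.1.1).2 a.2.1).trans ((D.tconj_isConj _).trans (hconjX _ _))
      have hij : i = j := by
        refine lineK_commute i j (D.Jinj ?_)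
        rw [map_mul (J φ), map_mul (J φ) ((lineK j)⁻¹ * wK * lineK j)]
        exact D.cent_Y_comm hg (hm3 i) (hm3 j) (hm i a) (by rw [e']; exact hm j b)
      subst hij
      have h2 := congrArg (fun x => t * x * t) (mul_left_cancel (mul_right_cancel e'))
      simp only [D.t_twice] at h2
      rw [Subtype.ext (D.Jinj h2)]
  · rintro ⟨g, h1, h2⟩
    obtain ⟨hg3, hq⟩ := factor_facts (D.Jpow hyy.1) (D.Jpow hyy.1) h1 h2
    have inC : g ∈ centralizer ({J φ zK} : Set G) → ∃ x, f x = ⟨g, h1, h2⟩ := by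
      intro hc
      obtain ⟨k, rfl⟩ := D.cent_z.1 hc
      have h2' := h2
      rw [← map_inv, ← map_mul] at h2'
      exact ⟨Sum.inl ⟨k, D.isConj_J.2 h1, D.isConj_J.2 h2'⟩, rfl⟩
    by_cases hgz : g ∈ centralizer ({J φ zK} : Set G)
    · exact inC hgz
    have hz3 : (J φ zK)⁻¹ ^ 3 = 1 := by rw [inv_pow, D.Jpow hzz.1, inv_one]
    rcases D.triangle hz3 (inv_ne_one.2 D.zy_ne.1) hg3 hq with hc | ⟨m, hm3, hm1, hmz, hgm⟩
    · have hi : IsConj (J φ zK) (J φ zK)⁻¹ := D.isConj_inv_P (by rw [← dK_facts.1]; exact D.mem _)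
      exact absurd ((hi.trans hc).trans h1.symm) D.not_conj_zy
    obtain ⟨k, rfl, hk3⟩ := D.three_J (mem_centralizer_singleton_iff.2
      (by simpa using (hmz.inv_left).symm.eq)) hm3
    have hk1 : k ≠ 1 := fun e => hm1 (by rw [e, map_one])
    by_cases hk2 : k.2 = 1
    · exfalso
      refine hgz (mem_centralizer_singleton_iff.2 ?_)
      rcases hfst k hk3 hk2 hk1 with rfl | rfl
      · exact hgm.eq
      · rw [map_inv] at hgm; simpa using hgm.inv_right.eq
    by_cases hkf : k.1 = 1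
    · obtain ⟨i, hi⟩ := lineK_spec k hk3 hkf hk2
      have hc1 := hgm.map (MulAut.conj (J φ (lineK i))).toMonoidHom
      simp only [MulEquiv.coe_toMonoidHom, MulAut.conj_apply] at hc1
      rw [← map_inv (J φ) (lineK i), ← map_mul (J φ) (lineK i) k, ← map_mul (J φ) (lineK i * k)] at hc1
      have hcw : J φ (lineK i) * g * J φ (lineK i)⁻¹ ∈ centralizer ({J φ wK} : Set G) := by
        rw [mem_centralizer_singleton_iff]
        rcases hi with e | e <;> rw [e] at hc1
        · exact hc1.eq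
        · rw [map_inv (J φ) wK] at hc1; simpa using hc1.inv_right.eq
      obtain ⟨k', hk'⟩ := D.cent_w hcw
      have hge : g = (J φ (lineK i))⁻¹ * (t * J φ k' * t) * J φ (lineK i) := by
        rw [hk', map_inv]; group
      have hy1 : YT k' := D.isConj_J.2 (by
        refine h1.trans (IsConj.symm ((D.tconj_isConj _).trans ?_))
        rw [hge]; exact hconjX i _)
      have hy2 : YT (k'⁻¹ * wK) := D.isConj_J.2 (by
        refine h2.trans (IsConj.symm ?_)
        have e : g⁻¹ * J φ zK = (J φ (lineK i))⁻¹ * (t * J φ (k'⁻¹ * wK) * t) * J φ (lineK i) := by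
          rw [map_mul, D.tconj_mul, D.tw, map_inv, hge]
          conv_lhs => arg 2; rw [← hzfix i]
          rw [mul_inv_rev, mul_inv_rev, mul_inv_rev, mul_inv_rev, inv_inv, D.tinv]
          group
        rw [e]
        exact (D.tconj_isConj _).trans (hconjX i _))
      have hy3 : k' * wK ≠ wK * k' := by
        intro e
        refine hgz (mem_centralizer_singleton_iff.2 ?_)
        have e' : t * J φ k' * t * J φ zK = J φ zK * (t * J φ k' * t) := by
          conv_lhs => rw [← D.tw, ← D.tconj_mul, ← map_mul, e, map_mul, D.tconj_mul, D.tw]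
        rw [hge]
        conv_lhs => arg 2; rw [← hzfix i]
        conv_rhs => arg 1; rw [← hzfix i]
        calc (J φ (lineK i))⁻¹ * (t * J φ k' * t) * J φ (lineK i) * ((J φ (lineK i))⁻¹ * J φ zK * J φ (lineK i))
            = (J φ (lineK i))⁻¹ * (t * J φ k' * t * J φ zK) * J φ (lineK i) := by group
          _ = (J φ (lineK i))⁻¹ * (J φ zK * (t * J φ k' * t)) * J φ (lineK i) := by rw [e']
          _ = _ := by group
      exact ⟨Sum.inr (i, ⟨k', hy1, hy2, hy3⟩), Subtype.ext hge.symm⟩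
    · refine absurd (mem_centralizer_singleton_iff.2 ?_) hgz
      obtain ⟨v, a, ha⟩ := three_mem k hk3
      have hYT : YT k := ⟨hk3, hkf, hk2⟩
      have hoff : ¬ OnAxis a := (type_dK a).2.1 (ha ▸ (type_conj v k).2.1 hYT)
      have hc1 := hgm.map (MulAut.conj (J φ (1, v))).toMonoidHom
      simp only [MulEquiv.coe_toMonoidHom, MulAut.conj_apply] at hc1
      rw [← map_inv (J φ) ((1 : C3), v), ← map_mul (J φ) ((1 : C3), v) k,
        ← map_mul (J φ) (((1 : C3), v) * k), ha] at hc1
      have hmem : J φ ((1 : C3), v) * g * J φ ((1 : C3), v)⁻¹ ∈ (P : Subgroup G) :=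
        D.mem_off hoff (by rw [map_inv, conj_pow, hg3, mul_one, mul_inv_cancel]) hc1.eq
      have hcz := D.comm hmem (show J φ zK ∈ (P : Subgroup G) by rw [← dK_facts.1]; exact D.mem _)
      have hzv : J φ zK = J φ ((1 : C3), v) * J φ zK * J φ ((1 : C3), v)⁻¹ := by
        rw [← map_mul, ← map_mul, ← (emb_central _).eq, mul_inv_cancel_right]
      rw [hzv, map_inv] at hcz
      rw [conj_mul, conj_mul] at hcz
      exact mul_left_cancel (mul_right_cancel hcz)

/-- The number of Sylow subgroups is one modulo nine. -/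
theorem Data.card_sylow_mod : Nat.card (Sylow 3 G) % 9 = 1 := by
  classical
  haveI : Fact (Nat.Prime 3) := ⟨Nat.prime_three⟩
  haveI := Fintype.ofFinite (Sylow 3 G)
  obtain ⟨hzz, hww, -, -, -, -, -, -, -, -, -, -, -⟩ := key_facts
  have hsub : ∀ (Q : Sylow 3 G) (a : G), a ∈ (P : Subgroup G) →
      (a • Q = Q ↔ a ∈ (Q : Subgroup G)) := fun Q a ha => by
    rw [Sylow.smul_eq_iff_mem_normalizer]
    exact ⟨fun h => SelfNine.mem_of_mem_normalizer h (D.exp ha), fun h => le_normalizer h⟩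
  have hoff : ∀ (Q : Sylow 3 G) (a : ZMod 3 × ZMod 3), ¬ OnAxis a → J φ (dK a) ∈ (Q : Subgroup G) →
      Q = P := by
    intro Q a ha hm
    refine Sylow.ext (eq_of_le_of_card_ge (fun g hg => D.mem_off ha ?_ (D.comm_of_isPGroup Q.2 hg hm)) ?_)
    · obtain ⟨c, hc⟩ := MulAction.exists_smul_eq G Q P
      have : c * g * c⁻¹ ∈ (P : Subgroup G) := by
        rw [← hc, Sylow.coe_subgroup_smul]
        exact smul_mem_pointwise_smul g (MulAut.conj c) _ hg
      exact conj_eq_one_iff.1 (by rw [← conj_pow]; exact D.exp this)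
    · exact (Nat.card_congr (Q.equiv P).toEquiv).ge
  -- the subgroups containing `z`
  set Sz := Finset.univ.filter fun Q : Sylow 3 G => J φ zK ∈ (Q : Subgroup G) with hSz
  set Sw := Finset.univ.filter fun Q : Sylow 3 G => J φ wK ∈ (Q : Subgroup G) with hSw
  have hzc : ∀ i : Fin 10, J φ (lineK i) * J φ zK * (J φ (lineK i))⁻¹ = J φ zK := fun i => by
    rw [← map_inv, ← map_mul, ← map_mul, ← (emb_central _).eq, mul_inv_cancel_right]
  have hmemsmul : ∀ (c g : G) (Q : Sylow 3 G),
      g ∈ ((c • Q : Sylow 3 G) : Subgroup G) ↔ c⁻¹ * g * c ∈ (Q : Subgroup G) := fun c g Q => by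
    rw [Sylow.coe_subgroup_smul, Subgroup.mem_pointwise_smul_iff_inv_smul_mem]
    simp [mul_assoc]
  have hzP : J φ zK ∈ (P : Subgroup G) := by rw [← dK_facts.1]; exact D.mem _
  have hwP : J φ wK ∈ (P : Subgroup G) := by rw [← dK_facts.2.1]; exact D.mem _
  have hexp : ∀ (Q : Sylow 3 G) (g : G), g ∈ (Q : Subgroup G) → g ^ 3 = 1 := fun Q g hg => by
    obtain ⟨c, hc⟩ := MulAction.exists_smul_eq G Q P
    have : c * g * c⁻¹ ∈ (P : Subgroup G) := by
      rw [← hc, Sylow.coe_subgroup_smul]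
      exact smul_mem_pointwise_smul g (MulAut.conj c) _ hg
    exact conj_eq_one_iff.1 (by rw [← conj_pow]; exact D.exp this)
  have hcz : Sz.card = 10 := by
    have hinj : Function.Injective fun i : Fin 10 => (J φ (lineK i))⁻¹ • P := by
      intro i j e
      refine lineK_commute i j (D.Jinj ?_)
      have hm : ∀ k : Fin 10, J φ ((lineK k)⁻¹ * wK * lineK k) ∈
          (((J φ (lineK k))⁻¹ • P : Sylow 3 G) : Subgroup G) := fun k => by
        rw [hmemsmul, inv_inv, map_mul, map_mul, map_inv]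
        simpa [mul_assoc] using hwP
      rw [map_mul (J φ), map_mul (J φ) ((lineK j)⁻¹ * wK * lineK j)]
      refine D.comm_of_isPGroup ((J φ (lineK i))⁻¹ • P).2 (hm i) ?_
      have e' : (((J φ (lineK i))⁻¹ • P : Sylow 3 G) : Subgroup G) =
          (((J φ (lineK j))⁻¹ • P : Sylow 3 G) : Subgroup G) := congrArg _ e
      rw [e']; exact hm j
    rw [show Sz = Finset.univ.image fun i : Fin 10 => (J φ (lineK i))⁻¹ • P by
      ext Q
      simp only [hSz, Finset.mem_filter, Finset.mem_univ, true_and, Finset.mem_image]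
      constructor
      · intro hQ
        obtain ⟨g, hg, hgz⟩ : ∃ g ∈ (Q : Subgroup G), g ∉ zpowers (J φ zK) := by
          by_contra hcon
          push Not at hcon
          have h1 := Subgroup.card_le_of_le (show (Q : Subgroup G) ≤ zpowers (J φ zK) from hcon)
          have h2 := Nat.le_of_dvd (by norm_num) (orderOf_dvd_of_pow_eq_one (D.Jpow hzz.1))
          have h3 : Nat.card (P : Subgroup G) = 9 := by
            have hb : Function.Bijective fun a : ZMod 3 × ZMod 3 =>
                (⟨J φ (dK a), D.mem a⟩ : (P : Subgroup G)) :=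
              ⟨fun a b e => dK_inj _ _ (D.Jinj (congrArg Subtype.val e)), fun g => by
                obtain ⟨a, ha⟩ := (D.sylow g).1 g.2
                exact ⟨a, Subtype.ext ha⟩⟩
            rw [← Nat.card_eq_of_bijective _ hb]; simp
          rw [Nat.card_congr (Q.equiv P).toEquiv, h3, Nat.card_zpowers] at h1
          omega
        obtain ⟨k, rfl, hk3⟩ := D.three_J
          (mem_centralizer_singleton_iff.2 (D.comm_of_isPGroup Q.2 hg hQ)) (hexp Q g hg)
        have hk2 : k.2 ≠ 1 := fun e => by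
          have hk1 : k ≠ 1 := fun e => hgz (by rw [e, map_one]; exact one_mem _)
          rcases key_facts.2.2.2.2.2.2.2.2.2.2.2.1 k hk3 e hk1 with rfl | rfl
          · exact hgz (mem_zpowers _)
          · exact hgz (by rw [map_inv]; exact inv_mem (mem_zpowers _))
        have hm : ∃ m : K, J φ m ∈ (Q : Subgroup G) ∧ m ^ 3 = 1 ∧ m.1 = 1 ∧ m.2 ≠ 1 := by
          refine ⟨k * zK ^ ((3 - (Multiplicative.toAdd k.1).val) % 3), ?_, ?_, ?_, ?_⟩
          · rw [map_mul, map_pow]; exact mul_mem hg (pow_mem hQ _)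
          · rw [((emb_central k).symm.pow_right _).mul_pow, hk3, ← pow_mul, mul_comm, pow_mul, hzz.1,
              one_pow, mul_one]
          · simp only [Prod.fst_mul, Prod.pow_fst, zK]
            exact fst_kill _
          · simpa [zK] using hk2
        obtain ⟨m, hmQ, hm3, hm1, hm2⟩ := hm
        obtain ⟨i, hi⟩ := lineK_spec m hm3 hm1 hm2
        refine ⟨i, ?_⟩
        have hz' : J φ zK ∈ ((J φ (lineK i) • Q : Sylow 3 G) : Subgroup G) := by
          rw [hmemsmul, ← map_inv, ← map_mul, ← map_mul, mul_assoc, (emb_central _).eq,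
            inv_mul_cancel_left]
          exact hQ
        have hm' : J φ (lineK i * m * (lineK i)⁻¹) ∈ ((J φ (lineK i) • Q : Sylow 3 G) : Subgroup G) := by
          rw [hmemsmul, map_mul, map_mul, map_inv]
          simpa [mul_assoc] using hmQ
        have hw' : J φ wK ∈ ((J φ (lineK i) • Q : Sylow 3 G) : Subgroup G) := by
          rcases hi with e | e <;> rw [e] at hm'
          · exact hm'
          · rw [map_inv] at hm'; simpa using inv_mem hm'
        have hy' : J φ (dK (1, 1)) ∈ ((J φ (lineK i) • Q : Sylow 3 G) : Subgroup G) := by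
          rw [dK_facts.2.2.1, ← key_facts.2.2.2.2.2.2.1, map_mul]; exact mul_mem hz' hw'
        rw [← hoff _ (1, 1) off_one hy', inv_smul_smul]
      · rintro ⟨i, rfl⟩
        rw [hmemsmul, inv_inv, hzc]
        exact hzP]
    rw [Finset.card_image_of_injective _ hinj, Finset.card_univ, Fintype.card_fin]
  have hcw : Sw.card = 10 := by
    rw [← hcz]
    refine Finset.card_bij' (fun Q _ => t • Q) (fun Q _ => t • Q) ?_ ?_
      (fun Q _ => by rw [smul_smul, D.t2, one_smul]) (fun Q _ => by rw [smul_smul, D.t2, one_smul])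
    · intro Q hQ
      simp only [hSw, hSz, Finset.mem_filter, Finset.mem_univ, true_and] at hQ ⊢
      rw [hmemsmul, D.tinv, D.tz]; exact hQ
    · intro Q hQ
      simp only [hSw, hSz, Finset.mem_filter, Finset.mem_univ, true_and] at hQ ⊢
      rw [hmemsmul, D.tinv, D.tw]; exact hQ
  have hinter : Sz ∩ Sw = {P} := by
    ext Q
    simp only [hSz, hSw, Finset.mem_inter, Finset.mem_filter, Finset.mem_univ, true_and,
      Finset.mem_singleton]
    refine ⟨fun ⟨a, b⟩ => hoff Q (1, 1) off_one ?_, fun e => e ▸ ⟨hzP, hwP⟩⟩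
    rw [dK_facts.2.2.1, ← key_facts.2.2.2.2.2.2.1, map_mul]; exact mul_mem a b
  have hcard : (Sz ∪ Sw).card = 19 := by
    have := Finset.card_union_add_card_inter Sz Sw
    rw [hinter, hcz, hcw, Finset.card_singleton] at this
    omega
  -- the others form free orbits
  let X := {Q : Sylow 3 G // Q ∉ Sz ∪ Sw}
  have hclosed : ∀ (a : (P : Subgroup G)) (Q : Sylow 3 G), Q ∉ Sz ∪ Sw → (a : G) • Q ∉ Sz ∪ Sw := by
    intro a Q hQ hmem
    refine hQ ?_
    simp only [hSz, hSw, Finset.mem_union, Finset.mem_filter, Finset.mem_univ, true_and] at hmem ⊢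
    have hfix : ∀ x ∈ (P : Subgroup G), x ∈ (((a : G) • Q : Sylow 3 G) : Subgroup G) →
        x ∈ (Q : Subgroup G) := fun x hx h => by
      rw [hmemsmul] at h
      rwa [mul_assoc, D.comm hx a.2, inv_mul_cancel_left] at h
    rcases hmem with h | h
    · exact Or.inl (hfix _ hzP h)
    · exact Or.inr (hfix _ hwP h)
  let act : MulAction (P : Subgroup G) X :=
    { smul := fun a Q => ⟨(a : G) • Q.1, hclosed a Q.1 Q.2⟩
      one_smul := fun Q => Subtype.ext (one_smul G Q.1)
      mul_smul := fun a b Q => Subtype.ext (mul_smul (a : G) (b : G) Q.1) }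
  have hfree : ∀ Q : X, MulAction.stabilizer (P : Subgroup G) Q = ⊥ := by
    intro Q
    rw [Subgroup.eq_bot_iff_forall]
    intro a ha
    by_contra ha1
    have hm : (a : G) ∈ (Q.1 : Subgroup G) :=
      (hsub Q.1 a a.2).1 (congrArg Subtype.val (MulAction.mem_stabilizer_iff.1 ha))
    obtain ⟨b, hb⟩ := (D.sylow a).1 a.2
    have hb0 : b ≠ 0 := fun e => ha1 (Subtype.ext (by rw [← hb, e, dK_facts.2.2.2, map_one]; rfl))
    refine Q.2 ?_
    simp only [hSz, hSw, Finset.mem_union, Finset.mem_filter, Finset.mem_univ, true_and]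
    rw [← hb] at hm
    by_cases hax : OnAxis b
    · rcases dK_axes b hb0 hax with e | e | e | e <;> rw [e] at hm <;> try rw [map_inv] at hm
      · exact Or.inl hm
      · exact Or.inl (by simpa using inv_mem hm)
      · exact Or.inr hm
      · exact Or.inr (by simpa using inv_mem hm)
    · rw [hoff Q.1 b hax hm]; exact Or.inl hzP
  have h9 : 9 ∣ Nat.card X := by
    refine ⟨Nat.card (Quotient (MulAction.orbitRel (P : Subgroup G) X)), ?_⟩
    have hb : Function.Bijective fun a : ZMod 3 × ZMod 3 =>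
        (⟨J φ (dK a), D.mem a⟩ : (P : Subgroup G)) :=
      ⟨fun a b e => dK_inj _ _ (D.Jinj (congrArg Subtype.val e)), fun g => by
        obtain ⟨a, ha⟩ := (D.sylow g).1 g.2
        exact ⟨a, Subtype.ext ha⟩⟩
    rw [Nat.card_congr (MulAction.selfEquivOrbitsQuotientProd hfree), Nat.card_prod,
      ← Nat.card_eq_of_bijective _ hb, Nat.card_prod, Nat.card_zmod, mul_comm]
  have htot : Nat.card (Sylow 3 G) = Nat.card X + 19 := by
    rw [Nat.card_eq_fintype_card, Nat.card_eq_fintype_card, Fintype.card_subtype_compl]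
    have h1 : Fintype.card {Q : Sylow 3 G // Q ∈ Sz ∪ Sw} = 19 := by
      rw [Fintype.card_coe, hcard]
    have h2 := Fintype.card_subtype_le (fun Q : Sylow 3 G => Q ∈ Sz ∪ Sw)
    omega
  omega

end Cfsg.Agent.EightLocal
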