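import Cfsg.Agent.Lib.EightLocal.Model

/-!
# Finite facts about `3 × A₅` for the counting arguments
-/

set_option autoImplicit false
set_option maxRecDepth 100000
set_option synthInstance.maxSize 10000

namespace Cfsg.Agent.EightLocal

/-- Representatives for the ten subgroups of order three of `A₅`. -/
def lineP : Fin 10 → Equiv.Perm (Fin 5)
  | 0 => 1
  | 1 => Equiv.swap 1 2 * Equiv.swap 3 4
  | 2 => Equiv.swap 1 2 * Equiv.swap 2 3
  | 3 => Equiv.swap 1 2 * Equiv.swap 2 4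
  | 4 => Equiv.swap 0 2 * Equiv.swap 1 2
  | 5 => Equiv.swap 0 2 * Equiv.swap 1 2 * Equiv.swap 2 3 * Equiv.swap 3 4
  | 6 => Equiv.swap 0 2 * Equiv.swap 1 2 * Equiv.swap 2 4 * Equiv.swap 3 4
  | 7 => Equiv.swap 0 2 * Equiv.swap 1 3
  | 8 => Equiv.swap 0 2 * Equiv.swap 1 3 * Equiv.swap 2 3 * Equiv.swap 3 4
  | 9 => Equiv.swap 0 2 * Equiv.swap 1 3 * Equiv.swap 2 4 * Equiv.swap 3 4

theorem lineP_sign : ∀ i, Equiv.Perm.sign (lineP i) = 1 := by decide +kernel

theorem lineP_mem (i : Fin 10) : lineP i ∈ alternatingGroup (Fin 5) :=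
  Equiv.Perm.mem_alternatingGroup.2 (lineP_sign i)

/-- The representative in `3 × A₅`. -/
def lineK (i : Fin 10) : K := (1, ⟨lineP i, lineP_mem i⟩)

theorem lineK_zero : lineK 0 = 1 := by decide +kernel

theorem lineK_spec : ∀ k : K, k ^ 3 = 1 → k.1 = 1 → k.2 ≠ 1 →
    ∃ i, lineK i * k * (lineK i)⁻¹ = wK ∨ lineK i * k * (lineK i)⁻¹ = wK⁻¹ := by
  decide +kernel

theorem lineK_commute : ∀ i i', (lineK i)⁻¹ * wK * lineK i * ((lineK i')⁻¹ * wK * lineK i') =
    (lineK i')⁻¹ * wK * lineK i' * ((lineK i)⁻¹ * wK * lineK i) → i = i' := by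
  decide +kernel

/-- The elements of order three move into the Sylow subgroup. -/
theorem three_mem : ∀ k : K, k ^ 3 = 1 → ∃ v : A5, ∃ a, ((1 : C3), v) * k * (1, v)⁻¹ = dK a := by
  decide +kernel

/-- The class of `z`. -/
def ZT (k : K) : Prop := k ^ 3 = 1 ∧ k ≠ 1 ∧ (k.1 = 1 ∨ k.2 = 1)

/-- The class of the other elements of order three. -/
def YT (k : K) : Prop := k ^ 3 = 1 ∧ k.1 ≠ 1 ∧ k.2 ≠ 1

instance (k : K) : Decidable (ZT k) := inferInstanceAs (Decidable (_ ∧ _ ∧ _))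
instance (k : K) : Decidable (YT k) := inferInstanceAs (Decidable (_ ∧ _ ∧ _))

theorem type_conj (v : A5) (k : K) : (ZT k ↔ ZT (((1 : C3), v) * k * (1, v)⁻¹)) ∧
    (YT k ↔ YT (((1 : C3), v) * k * (1, v)⁻¹)) := by
  have h3 : (((1 : C3), v) * k * (1, v)⁻¹) ^ 3 = 1 ↔ k ^ 3 = 1 := by rw [conj_pow, conj_eq_one_iff]
  have h1 : (((1 : C3), v) * k * (1, v)⁻¹).1 = k.1 := by simp
  have h2 : (((1 : C3), v) * k * (1, v)⁻¹).2 = 1 ↔ k.2 = 1 := by
    simp only [Prod.snd_mul, Prod.snd_inv]; exact conj_eq_one_iff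
  constructor
  · unfold ZT; rw [h3, Ne, Ne, conj_eq_one_iff, h1, h2]
  · unfold YT; rw [h3, h1]; simp only [Ne, h2]

/-- The sign of a coordinate pair. -/
def OnAxis (a : ZMod 3 × ZMod 3) : Prop := a.1 = 0 ∨ a.2 = 0

instance (a : ZMod 3 × ZMod 3) : Decidable (OnAxis a) := inferInstanceAs (Decidable (_ ∨ _))

theorem type_dK : ∀ a, (ZT (dK a) ↔ a ≠ 0 ∧ OnAxis a) ∧ (YT (dK a) ↔ ¬ OnAxis a) := by
  decide +kernel

theorem dK_axes : ∀ a, a ≠ 0 → OnAxis a → dK a = zK ∨ dK a = zK⁻¹ ∨ dK a = wK ∨ dK a = wK⁻¹ := by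
  decide +kernel

theorem dK_off : ∀ a, ¬ OnAxis a → dK a = yK ∨ dK a = yK⁻¹ ∨ ((1 : C3), rA) * dK a * (1, rA) = yK ∨
    (((1 : C3), rA) * dK a * (1, rA))⁻¹ = yK := by
  decide +kernel

/-- Factorizations of `y` in the centralizer of `z`. -/
theorem two_cases : ∀ k : K, ZT k → ZT (k⁻¹ * yK) → k = zK ∨ k = wK := by decide +kernel

/-- Factorizations of `z` in the centralizer of `z`. -/
def SetA (k : K) : Prop := YT k ∧ YT (k⁻¹ * zK)

/-- Factorizations of `w` outside the centralizer of `w`. -/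
def SetB (k : K) : Prop := YT k ∧ YT (k⁻¹ * wK) ∧ k * wK ≠ wK * k

instance (k : K) : Decidable (SetA k) := inferInstanceAs (Decidable (_ ∧ _))
instance (k : K) : Decidable (SetB k) := inferInstanceAs (Decidable (_ ∧ _ ∧ _))

theorem card_setA : Fintype.card {k : K // SetA k} = 20 := by decide +kernel

theorem card_setB : Fintype.card {k : K // SetB k} = 12 := by decide +kernel

theorem inD_comm : ∀ k : K, k ^ 3 = 1 → k * wK = wK * k → InD k := by decide +kernel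

/-- The regular elements of `A₅`. -/
def Reg (s : A5) : Prop := s ^ 10 = 1

instance (s : A5) : Decidable (Reg s) := inferInstanceAs (Decidable (_ = _))

theorem flipK_reg : ∀ s : A5, Reg s → ∀ c : C3, Reg (flipK (c, s⁻¹)).2 := by decide +kernel

end Cfsg.Agent.EightLocal
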