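import Cfsg.Agent.Lib.EightLocal.Setup
import Cfsg.Agent.Lib.EightLocal.Combin
import Cfsg.Agent.Lib.SelfNine.Triangle

/-!
# Fusion and centralizers in the `3`-local configuration
-/

set_option autoImplicit false
set_option linter.style.haveILetI false
set_option linter.unusedSectionVars false

namespace Cfsg.Agent.EightLocal

open Subgroup

variable {G : Type*} [Group G] [Finite G] {P : Sylow 3 G} {φ : Pairs →* G} {t : G}

/-- The inversion of every element of the Sylow subgroup. -/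
def invAll (φ : Pairs →* G) : G := φ flip * J φ (1, rA)

variable (D : Data P φ t)
include D

theorem Data.Jinj : Function.Injective (J φ) := D.inj.comp emb_injective

theorem Data.mem (a : ZMod 3 × ZMod 3) : J φ (dK a) ∈ (P : Subgroup G) := (D.sylow _).2 ⟨a, rfl⟩

theorem Data.exp {g : G} (hg : g ∈ (P : Subgroup G)) : g ^ 3 = 1 := by
  obtain ⟨a, rfl⟩ := (D.sylow g).1 hg
  rw [← map_pow, show dK a ^ 3 = 1 from ((inD_iff _).2 ⟨a, rfl⟩).2, map_one]

theorem Data.comm {g h : G} (hg : g ∈ (P : Subgroup G)) (hh : h ∈ (P : Subgroup G)) : g * h = h * g := by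
  obtain ⟨a, rfl⟩ := (D.sylow g).1 hg
  obtain ⟨b, rfl⟩ := (D.sylow h).1 hh
  rw [← map_mul, ← map_mul, ← dK_add, ← dK_add, add_comm]

theorem Data.cent_z {g : G} : g ∈ centralizer ({J φ zK} : Set G) ↔ ∃ k, J φ k = g := by
  have hle : (J φ).range ≤ centralizer ({J φ zK} : Set G) := by
    rintro _ ⟨k, rfl⟩
    rw [mem_centralizer_singleton_iff, ← map_mul, ← map_mul, (emb_central k).eq]
  have he : (J φ).range = centralizer ({J φ zK} : Set G) := by
    refine eq_of_le_of_card_ge hle ?_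
    rw [D.cardz, ← Nat.card_congr (MonoidHom.ofInjective (f := J φ) D.Jinj).toEquiv, card_K]
  exact ⟨fun h => he.ge h, fun h => he.le h⟩

theorem Data.tinv : t⁻¹ = t := inv_eq_of_mul_eq_one_left D.t2

theorem Data.tconj_mul (g h : G) : t * (g * h) * t = t * g * t * (t * h * t) := by
  rw [show t * g * t * (t * h * t) = t * g * (t * t) * h * t by group, D.t2]; group

theorem Data.tconj_pow (g : G) (n : ℕ) : t * g ^ n * t = (t * g * t) ^ n := by
  induction n with
  | zero => rw [pow_zero, pow_zero, mul_one, D.t2]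
  | succ n ih => rw [pow_succ, pow_succ, D.tconj_mul, ih]

theorem Data.t_dK (a : ZMod 3 × ZMod 3) : t * J φ (dK a) * t = J φ (dK (a.2, a.1)) := by
  simp only [dK, map_mul, map_pow, D.tconj_mul, D.tconj_pow, D.tz, D.tw]
  rw [← map_pow, ← map_pow, ← map_mul, ← map_mul]
  congr 1
  exact Commute.pow_pow ((emb_central wK).symm) _ _

theorem Data.t_twice (g : G) : t * (t * g * t) * t = g := by
  rw [show t * (t * g * t) * t = t * t * g * (t * t) by group, D.t2, one_mul, mul_one]

theorem Data.r_dK (a : ZMod 3 × ZMod 3) :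
    J φ (1, rA) * J φ (dK a) * (J φ (1, rA))⁻¹ = J φ (dK (a.1, -a.2)) := by
  rw [← map_inv, ← map_mul, ← map_mul,
    show ((1 : C3), rA)⁻¹ = (1, rA) from Prod.ext inv_one (inv_eq_of_mul_eq_one_left rA_facts.1),
    rA_facts.2]

theorem Data.flip_J (k : K) : φ flip * J φ k * (φ flip)⁻¹ = J φ (flipK k) := by
  rw [← map_inv, show flip⁻¹ = flip from inv_eq_of_mul_eq_one_left flip_facts.1]
  change φ flip * φ (emb k) * φ flip = φ (emb (flipK k))
  rw [← map_mul, ← map_mul, flip_facts.2.1]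

theorem Data.invAll_dK (a : ZMod 3 × ZMod 3) :
    invAll φ * J φ (dK a) * (invAll φ)⁻¹ = J φ (dK (-a)) := by
  rw [invAll, mul_inv_rev, show φ flip * J φ (1, rA) * J φ (dK a) * ((J φ (1, rA))⁻¹ * (φ flip)⁻¹) =
    φ flip * (J φ (1, rA) * J φ (dK a) * (J φ (1, rA))⁻¹) * (φ flip)⁻¹ by group, D.r_dK, D.flip_J,
    flip_facts.2.2]
  rfl

theorem Data.neg_dK (a : ZMod 3 × ZMod 3) : J φ (dK (-a)) = (J φ (dK a))⁻¹ := by
  refine eq_inv_of_mul_eq_one_left ?_
  rw [← map_mul, ← dK_add, neg_add_cancel, dK_facts.2.2.2, map_one]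

theorem Data.isConj_inv_P {g : G} (hg : g ∈ (P : Subgroup G)) : IsConj g g⁻¹ := by
  obtain ⟨a, rfl⟩ := (D.sylow g).1 hg
  exact isConj_iff.2 ⟨invAll φ, by rw [D.invAll_dK, D.neg_dK]⟩

theorem Data.cardw : Nat.card (centralizer ({J φ wK} : Set G)) = 180 := by
  rw [← D.cardz, ← card_centralizer_conj (J φ zK) t, D.tinv, D.tz]

theorem Data.cent_w {g : G} (hg : g ∈ centralizer ({J φ wK} : Set G)) : ∃ k, t * J φ k * t = g := by
  have h : t * g * t ∈ centralizer ({J φ zK} : Set G) := by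
    rw [mem_centralizer_singleton_iff]
    conv_lhs => rw [← D.tw, ← D.tconj_mul, mem_centralizer_singleton_iff.1 hg, D.tconj_mul, D.tw]
  obtain ⟨k, hk⟩ := D.cent_z.1 h
  exact ⟨k, by rw [hk, D.t_twice]⟩

theorem Data.axis_conj {a : ZMod 3 × ZMod 3} (ha : a ≠ 0) (h : OnAxis a) :
    IsConj (J φ zK) (J φ (dK a)) := by
  obtain ⟨h10, h01, -, -⟩ := dK_facts
  have hz : IsConj (J φ zK) (J φ zK)⁻¹ := D.isConj_inv_P (by rw [← h10]; exact D.mem _)
  have hw : IsConj (J φ zK) (J φ wK) := isConj_iff.2 ⟨t, by rw [D.tinv, D.tz]⟩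
  have hwi : IsConj (J φ wK) (J φ wK)⁻¹ := D.isConj_inv_P (by rw [← h01]; exact D.mem _)
  rcases dK_axes a ha h with e | e | e | e <;> rw [e]
  · rw [map_inv]; exact hz
  · exact hw
  · rw [map_inv]; exact hw.trans hwi

theorem Data.off_conj {a : ZMod 3 × ZMod 3} (h : ¬ OnAxis a) :
    IsConj (J φ yK) (J φ (dK a)) := by
  have hi : ∀ a, IsConj (J φ (dK a)) (J φ (dK a))⁻¹ := fun a => D.isConj_inv_P (D.mem a)
  have hr : ∀ k, IsConj (J φ (((1 : C3), rA) * k * (1, rA))) (J φ k) := fun k =>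
    isConj_iff.2 ⟨J φ (1, rA), by
      rw [← map_inv, ← map_mul, ← map_mul,
        show ((1 : C3), rA)⁻¹ = (1, rA) from Prod.ext inv_one (inv_eq_of_mul_eq_one_left rA_facts.1)]
      congr 1
      have h2 : ((1 : C3), rA) * (1, rA) = 1 := Prod.ext (one_mul 1) rA_facts.1
      rw [show ((1 : C3), rA) * ((1, rA) * k * (1, rA)) * (1, rA) =
        ((1 : C3), rA) * (1, rA) * k * (((1 : C3), rA) * (1, rA)) by group, h2, one_mul, mul_one]⟩
  rcases dK_off a h with e | e | e | e
  · rw [e]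
  · have h1 := (hi a).symm
    rwa [← map_inv, e, inv_inv, ← e] at h1
  · rw [← e]; exact hr _
  · have h1 := (hi (a.1, -a.2)).symm
    rw [← map_inv] at h1
    rw [← rA_facts.2, e] at h1
    exact h1.trans (hr _)

theorem Data.not_conj_zy : ¬ IsConj (J φ zK) (J φ yK) := fun h => by
  obtain ⟨c, hc⟩ := isConj_iff.1 h
  have h1 := card_centralizer_conj (J φ zK) c
  rw [hc, D.cardY, D.cardz] at h1
  omega

theorem Data.conj_type {k : K} (hk : k ^ 3 = 1) :
    (ZT k → IsConj (J φ zK) (J φ k)) ∧ (YT k → IsConj (J φ yK) (J φ k)) := by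
  obtain ⟨v, a, ha⟩ := three_mem k hk
  have hv : IsConj (J φ (dK a)) (J φ k) := by
    refine IsConj.symm (isConj_iff.2 ⟨J φ (1, v), ?_⟩)
    rw [← map_inv, ← map_mul, ← map_mul, ha]
  obtain ⟨h1, h2⟩ := type_conj v k
  rw [ha, (type_dK a).1] at h1
  rw [ha, (type_dK a).2] at h2
  exact ⟨fun h => (D.axis_conj (h1.1 h).1 (h1.1 h).2).trans hv, fun h => (D.off_conj (h2.1 h)).trans hv⟩

/-- The class of an element of order three of the centralizer of `z`. -/
theorem Data.type_iff {k : K} (hk : k ^ 3 = 1) (hk1 : k ≠ 1) :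
    (IsConj (J φ zK) (J φ k) ↔ ZT k) ∧ (IsConj (J φ yK) (J φ k) ↔ YT k) := by
  have hc : ZT k ∨ YT k := by
    by_cases h : k.1 = 1 ∨ k.2 = 1
    · exact Or.inl ⟨hk, hk1, h⟩
    · push Not at h; exact Or.inr ⟨hk, h.1, h.2⟩
  obtain ⟨hz, hy⟩ := D.conj_type hk
  exact ⟨⟨fun h => hc.resolve_right fun h' => D.not_conj_zy (h.trans (hy h').symm), hz⟩,
    ⟨fun h => hc.resolve_left fun h' => D.not_conj_zy ((hz h').trans h.symm), hy⟩⟩

theorem Data.ne_one_of_conj {g h : G} (hc : IsConj g h) (hg : g ≠ 1) : h ≠ 1 := fun e =>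
  hg (isConj_one_left.1 (e ▸ hc))

theorem Data.zy_ne : J φ zK ≠ 1 ∧ J φ yK ≠ 1 ∧ J φ wK ≠ 1 := by
  refine ⟨?_, ?_, ?_⟩ <;> intro h <;> have := D.Jinj (h.trans (map_one (J φ)).symm) <;>
    revert this <;> decide +kernel

theorem Data.cent_off {a : ZMod 3 × ZMod 3} (h : ¬ OnAxis a) {g : G}
    (hg : g ∈ centralizer ({J φ (dK a)} : Set G)) : g ∈ normalizer ((P : Subgroup G) : Set G) := by
  have hg' := mem_centralizer_singleton_iff.1 hg
  have hinv : ∀ x : G, g * x⁻¹ = x⁻¹ * g → g ∈ centralizer ({x} : Set G) := fun x e =>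
    mem_centralizer_singleton_iff.2 (by simpa using (Commute.inv_right (a := g) (b := x⁻¹) e).eq)
  have hrn : J φ (1, rA) ∈ normalizer ((P : Subgroup G) : Set G) := by
    refine mem_normalizer_iff.2 fun x => ⟨fun hx => ?_, fun hx => ?_⟩
    · obtain ⟨b, rfl⟩ := (D.sylow x).1 hx
      rw [D.r_dK]; exact D.mem _
    · obtain ⟨b, hb⟩ := (D.sylow _).1 hx
      have e : x = J φ (dK (b.1, -b.2)) := by
        have h1 := D.r_dK (b.1, -b.2)
        rw [neg_neg, hb] at h1
        exact (mul_left_cancel (mul_right_cancel h1)).symm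
      rw [e]; exact D.mem _
  have hrY : ∀ x, (J φ (1, rA) * g * (J φ (1, rA))⁻¹) * x = x * (J φ (1, rA) * g * (J φ (1, rA))⁻¹) →
      x = J φ yK ∨ x = (J φ yK)⁻¹ → g ∈ normalizer ((P : Subgroup G) : Set G) := by
    intro x e hx
    have hm : J φ (1, rA) * g * (J φ (1, rA))⁻¹ ∈ normalizer ((P : Subgroup G) : Set G) := by
      refine D.normY _ ?_
      rcases hx with rfl | rfl
      · exact mem_centralizer_singleton_iff.2 e
      · exact mem_centralizer_singleton_iff.2
          (by simpa using (Commute.inv_right (a := J φ (1, rA) * g * (J φ (1, rA))⁻¹) (b := (J φ yK)⁻¹) e).eq)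
    have := mul_mem (mul_mem (inv_mem hrn) hm) hrn
    simpa [mul_assoc] using this
  rcases dK_off a h with e | e | e | e
  · rw [e] at hg; exact D.normY _ hg
  · rw [e, map_inv] at hg'; exact D.normY _ (hinv _ hg')
  · refine hrY (J φ (1, rA) * J φ (dK a) * (J φ (1, rA))⁻¹) ?_ (Or.inl ?_)
    · calc J φ (1, rA) * g * (J φ (1, rA))⁻¹ * (J φ (1, rA) * J φ (dK a) * (J φ (1, rA))⁻¹)
          = J φ (1, rA) * (g * J φ (dK a)) * (J φ (1, rA))⁻¹ := by group
        _ = J φ (1, rA) * (J φ (dK a) * g) * (J φ (1, rA))⁻¹ := by rw [hg']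
        _ = _ := by group
    · rw [D.r_dK, ← rA_facts.2, e]
  · refine hrY (J φ (1, rA) * J φ (dK a) * (J φ (1, rA))⁻¹) ?_ (Or.inr ?_)
    · calc J φ (1, rA) * g * (J φ (1, rA))⁻¹ * (J φ (1, rA) * J φ (dK a) * (J φ (1, rA))⁻¹)
          = J φ (1, rA) * (g * J φ (dK a)) * (J φ (1, rA))⁻¹ := by group
        _ = J φ (1, rA) * (J φ (dK a) * g) * (J φ (1, rA))⁻¹ := by rw [hg']
        _ = _ := by group
    · rw [D.r_dK, ← rA_facts.2, ← map_inv]
      exact congrArg _ (inv_eq_iff_eq_inv.1 e)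

theorem Data.mem_off {a : ZMod 3 × ZMod 3} (h : ¬ OnAxis a) {g : G} (h3 : g ^ 3 = 1)
    (hc : g * J φ (dK a) = J φ (dK a) * g) : g ∈ (P : Subgroup G) :=
  SelfNine.mem_of_mem_normalizer (D.cent_off h (mem_centralizer_singleton_iff.2 hc)) h3

theorem Data.mem_Y {g : G} (h3 : g ^ 3 = 1) (hc : g * J φ yK = J φ yK * g) : g ∈ (P : Subgroup G) :=
  D.mem_off (a := (1, 1)) (by decide) h3 (by rw [dK_facts.2.2.1]; exact hc)

theorem Data.comm_of_isPGroup {Q : Subgroup G} (hQ : IsPGroup 3 Q) {a b : G} (ha : a ∈ Q) (hb : b ∈ Q) :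
    a * b = b * a := by
  haveI : Fact (Nat.Prime 3) := ⟨Nat.prime_three⟩
  obtain ⟨R, hR⟩ := hQ.exists_le_sylow
  obtain ⟨c, hc⟩ := MulAction.exists_smul_eq G R P
  have hm : ∀ g : G, g ∈ Q → c * g * c⁻¹ ∈ (P : Subgroup G) := fun g hg => by
    rw [← hc, Sylow.coe_subgroup_smul]
    exact smul_mem_pointwise_smul g (MulAut.conj c) _ (hR hg)
  have := D.comm (hm a ha) (hm b hb)
  rw [show c * a * c⁻¹ * (c * b * c⁻¹) = c * (a * b) * c⁻¹ by group,
    show c * b * c⁻¹ * (c * a * c⁻¹) = c * (b * a) * c⁻¹ by group] at this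
  exact mul_left_cancel (mul_right_cancel this)

/-- Two elements of order three with product of order three are conjugate or commute with a
common element of order three. -/
theorem Data.triangle {x y : G} (hx3 : x ^ 3 = 1) (hx1 : x ≠ 1) (hy : y ^ 3 = 1) (hxy : (x * y) ^ 3 = 1) :
    IsConj x y ∨ ∃ m, m ^ 3 = 1 ∧ m ≠ 1 ∧ Commute x m ∧ Commute y m := by
  classical
  haveI : Fact (Nat.Prime 3) := ⟨Nat.prime_three⟩
  have hx' : x * x * x = 1 := by rw [← pow_two, ← pow_succ]; exact hx3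
  have hy' : y * y * y = 1 := by rw [← hy, pow_succ, pow_two]
  have hxy' : x * y * (x * y) * (x * y) = 1 := by rw [← hxy, pow_succ, pow_two]
  set u := x * y⁻¹ with hu
  set v := y⁻¹ * x with hv
  have hinvx : x⁻¹ = x * x := inv_eq_of_mul_eq_one_right (by rw [← mul_assoc]; exact hx')
  have hinvy : y⁻¹ = y * y := inv_eq_of_mul_eq_one_right (by rw [← mul_assoc]; exact hy')
  have huv : u * v = x * y * x := by
    calc u * v = x * (y⁻¹ * y⁻¹) * x := by simp only [hu, hv]; group
      _ = x * (y * y * (y * y)) * x := by rw [hinvy]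
      _ = x * (y * y * y) * y * x := by group
      _ = x * y * x := by rw [hy', mul_one]
  have hvu : v * u = x * y * x := by
    calc v * u = y⁻¹ * (x * x) * y⁻¹ := by simp only [hu, hv]; group
      _ = y⁻¹ * x⁻¹ * y⁻¹ := by rw [hinvx]
      _ = (x * y * (x * y) * (x * y)) * (y⁻¹ * x⁻¹ * y⁻¹) := by rw [hxy', one_mul]
      _ = x * y * x := by group
  have hcuv : u * v = v * u := huv.trans hvu.symm
  set M := Subgroup.closure ({u, v} : Set G) with hM
  have huM : u ∈ M := Subgroup.subset_closure (Set.mem_insert _ _)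
  have hvM : v ∈ M := Subgroup.subset_closure (Set.mem_insert_of_mem _ rfl)
  have hMcomm : ∀ g ∈ M, ∀ k ∈ M, g * k = k * g := by
    have hle : M ≤ Subgroup.centralizer (M : Set G) := by
      rw [hM, Subgroup.centralizer_closure, Subgroup.closure_le]
      rintro g (rfl | rfl) k (rfl | rfl)
      · rfl
      · exact hcuv.symm
      · exact hcuv
      · rfl
    intro g hg k hk
    exact (hle hg k hk).symm
  have hxu : x * u * x⁻¹ = (u * v)⁻¹ := by
    rw [huv]
    calc x * u * x⁻¹ = (x * x) * y⁻¹ * x⁻¹ := by simp only [hu]; group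
      _ = (x * y * x)⁻¹ := by rw [← hinvx]; group
  have hxv : x * v * x⁻¹ = u := by simp only [hu, hv]; group
  have hxM : ∀ m ∈ M, x * m * x⁻¹ ∈ M := by
    intro m hm
    rw [hM] at hm
    induction hm using Subgroup.closure_induction with
    | mem g hg =>
      rcases hg with rfl | rfl
      · rw [hxu]; exact M.inv_mem (M.mul_mem huM hvM)
      · rw [hxv]; exact huM
    | one => simp
    | mul g k _ _ hg hk => rw [show x * (g * k) * x⁻¹ = (x * g * x⁻¹) * (x * k * x⁻¹) by group]; exact M.mul_mem hg hk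
    | inv g _ hg => rw [show x * g⁻¹ * x⁻¹ = (x * g * x⁻¹)⁻¹ by group]; exact M.inv_mem hg
  have hyx : y = u⁻¹ * x := by simp only [hu]; group
  by_cases h3 : ∀ m ∈ M, m ^ 3 = 1 → m = 1
  · left
    rw [hyx]
    exact SelfNine.isConj_coset hMcomm h3 hx' hxM (M.inv_mem huM) (by rw [← hyx]; exact hy')
  · right
    push Not at h3
    obtain ⟨m, hm, hm3, hm1⟩ := h3
    let T : Subgroup G :=
      { carrier := {g | g ∈ M ∧ g ^ 3 = 1}
        one_mem' := ⟨M.one_mem, one_pow 3⟩
        mul_mem' := fun {a b} ha hb => ⟨M.mul_mem ha.1 hb.1, by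
          rw [Commute.mul_pow (hMcomm a ha.1 b hb.1), ha.2, hb.2, one_mul]⟩
        inv_mem' := fun {a} ha => ⟨M.inv_mem ha.1, by rw [inv_pow, ha.2, inv_one]⟩ }
    have hT : IsPGroup 3 T := fun g => ⟨1, Subtype.ext (by rw [pow_one]; exact g.2.2)⟩
    have hxT : ∀ g ∈ T, x * g * x⁻¹ ∈ T := fun g hg =>
      ⟨hxM g hg.1, by rw [conj_pow, hg.2, mul_one, mul_inv_cancel]⟩
    have hzN : Subgroup.zpowers x ≤ Subgroup.normalizer (T : Set G) := by
      rw [Subgroup.zpowers_le, Subgroup.mem_normalizer_iff]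
      intro g
      refine ⟨hxT g, fun hg => ?_⟩
      have h2 := hxT _ (hxT _ hg)
      have he : x * (x * (x * g * x⁻¹) * x⁻¹) * x⁻¹ = g := by
        calc x * (x * (x * g * x⁻¹) * x⁻¹) * x⁻¹ = (x * x * x) * g * (x * x * x)⁻¹ := by group
          _ = g := by rw [hx']; group
      rwa [he] at h2
    have hzp : IsPGroup 3 (Subgroup.zpowers x) :=
      IsPGroup.of_card (n := 1) (by rw [Nat.card_zpowers, orderOf_eq_prime hx3 hx1, pow_one])
    have hc := D.comm_of_isPGroup (hT.to_sup_of_normal_left' hzp hzN)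
      (Subgroup.mem_sup_right (Subgroup.mem_zpowers x)) (Subgroup.mem_sup_left (show m ∈ T from ⟨hm, hm3⟩))
    refine ⟨m, hm3, hm1, hc, ?_⟩
    rw [hyx]
    exact ((show Commute u m from hMcomm u huM m hm).inv_left).mul_left hc

/-- The centralizer of `y`. -/
theorem Data.centY {g : G} (hg : g ∈ centralizer ({J φ yK} : Set G)) :
    ∃ a, g = J φ (dK a) ∨ g = t * J φ (dK a) := by
  classical
  have hY : J φ yK = J φ (dK (1, 1)) := by rw [dK_facts.2.2.1]
  have hYm : J φ yK ∈ (P : Subgroup G) := by rw [hY]; exact D.mem _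
  have htY : Commute t (J φ yK) := by
    have h1 := D.t_dK (1, 1)
    rw [← hY] at h1
    show t * J φ yK = J φ yK * t
    conv_rhs => rw [← h1, mul_assoc _ t t, D.t2, mul_one]
  have hmem : ∀ a, J φ (dK a) ∈ centralizer ({J φ yK} : Set G) := fun a =>
    mem_centralizer_singleton_iff.2 (D.comm (D.mem a) hYm)
  have htP : t ∉ (P : Subgroup G) := fun h => by
    have h3 := D.exp h
    rw [pow_succ, pow_two, D.t2, one_mul] at h3
    have e : J φ zK = J φ wK := by rw [← D.tz, h3, one_mul, mul_one]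
    have := D.Jinj e
    revert this
    decide +kernel
  let F : Bool × (ZMod 3 × ZMod 3) → centralizer ({J φ yK} : Set G) := fun p =>
    ⟨(if p.1 then t else 1) * J φ (dK p.2), mul_mem (mem_centralizer_singleton_iff.2 (by
      cases p.1
      · simp
      · simpa using htY.eq)) (hmem _)⟩
  have hF : Function.Injective F := by
    rintro ⟨b, a⟩ ⟨b', a'⟩ e
    have e' := congrArg Subtype.val e
    simp only [F] at e'
    cases b <;> cases b' <;> simp only [Bool.false_eq_true, if_false, if_true, one_mul] at e'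
    · exact Prod.ext rfl (dK_inj _ _ (D.Jinj e'))
    · exact absurd (eq_mul_inv_of_mul_eq e'.symm ▸ mul_mem (D.mem a) (inv_mem (D.mem a'))) htP
    · exact absurd (eq_mul_inv_of_mul_eq e' ▸ mul_mem (D.mem a') (inv_mem (D.mem a))) htP
    · exact Prod.ext rfl (dK_inj _ _ (D.Jinj (mul_left_cancel e')))
  obtain ⟨⟨b, a⟩, h⟩ := ((Nat.bijective_iff_injective_and_card F).2 ⟨hF, by
    rw [D.cardY]; simp⟩).2 ⟨g, hg⟩
  refine ⟨a, ?_⟩
  have h' := congrArg Subtype.val h
  simp only [F] at h'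
  cases b
  · left; simpa using h'.symm
  · right; simpa using h'.symm


/-- The element of order six. -/
theorem Data.six : (J φ yK * t) ^ 10 = J φ yK ∧ (J φ yK * t) ^ 4 = J φ yK ∧ (J φ yK * t) ^ 3 = t ∧
    Nat.card (centralizer ({J φ yK * t} : Set G)) = 6 ∧ IsConj (J φ yK * t) (J φ yK * t)⁻¹ := by
  classical
  have hY : J φ yK = J φ (dK (1, 1)) := by rw [dK_facts.2.2.1]
  have hYm : J φ yK ∈ (P : Subgroup G) := by rw [hY]; exact D.mem _
  have hc : Commute (J φ yK) t := by
    have h1 := D.t_dK (1, 1)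
    rw [← hY] at h1
    show J φ yK * t = t * J φ yK
    conv_lhs => rw [← h1, mul_assoc _ t t, D.t2, mul_one]
  have h3 : J φ yK ^ 3 = 1 := D.exp hYm
  have ht2 : t ^ 2 = 1 := by rw [pow_two, D.t2]
  have k10 : (J φ yK * t) ^ 10 = J φ yK := by
    rw [hc.mul_pow, show 10 = 3 * 3 + 1 from rfl, pow_succ, pow_mul, h3, one_pow, one_mul,
      show 3 * 3 + 1 = 2 * 5 from rfl, pow_mul, ht2, one_pow, mul_one]
  have k4 : (J φ yK * t) ^ 4 = J φ yK := by
    rw [hc.mul_pow, show 4 = 3 + 1 from rfl, pow_succ, h3, one_mul,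
      show 3 + 1 = 2 * 2 from rfl, pow_mul, ht2, one_pow, mul_one]
  have k3 : (J φ yK * t) ^ 3 = t := by
    rw [hc.mul_pow, h3, one_mul, pow_succ, ht2, one_mul]
  refine ⟨k10, k4, k3, ?_, ?_⟩
  · let F : Bool × ZMod 3 → centralizer ({J φ yK * t} : Set G) := fun p =>
      ⟨(if p.1 then t else 1) * J φ (dK (p.2, p.2)), by
        refine mul_mem (mem_centralizer_singleton_iff.2 ?_) (mem_centralizer_singleton_iff.2 ?_)
        · cases p.1
          · simp
          · simp only [if_true]; exact (hc.symm.mul_right (Commute.refl t)).eq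
        · have h1 : J φ (dK (p.2, p.2)) * J φ yK = J φ yK * J φ (dK (p.2, p.2)) :=
            D.comm (D.mem _) hYm
          have h2 : Commute (J φ (dK (p.2, p.2))) t := by
            have := D.t_dK (p.2, p.2)
            show J φ (dK (p.2, p.2)) * t = t * J φ (dK (p.2, p.2))
            conv_lhs => rw [← this, mul_assoc _ t t, D.t2, mul_one]
          exact ((show Commute _ _ from h1).mul_right h2).eq⟩
    rw [← Nat.card_eq_of_bijective F ⟨?_, ?_⟩]
    · simp
    · rintro ⟨b, a⟩ ⟨b', a'⟩ e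
      have e' := congrArg Subtype.val e
      simp only [F] at e'
      have htP : t ∉ (P : Subgroup G) := fun h => by
        have hz : J φ zK = J φ wK := by
          have h3 := D.exp h
          rw [pow_succ, ht2, one_mul] at h3
          rw [← D.tz, h3, one_mul, mul_one]
        have := D.Jinj hz
        revert this
        decide +kernel
      cases b <;> cases b' <;> simp only [Bool.false_eq_true, if_false, if_true, one_mul] at e'
      · exact Prod.ext rfl (congrArg Prod.fst (dK_inj _ _ (D.Jinj e')))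
      · exact absurd (eq_mul_inv_of_mul_eq e'.symm ▸ mul_mem (D.mem _) (inv_mem (D.mem _))) htP
      · exact absurd (eq_mul_inv_of_mul_eq e' ▸ mul_mem (D.mem _) (inv_mem (D.mem _))) htP
      · exact Prod.ext rfl (congrArg Prod.fst (dK_inj _ _ (D.Jinj (mul_left_cancel e'))))
    · rintro ⟨g, hg⟩
      have hgc : Commute g (J φ yK * t) := mem_centralizer_singleton_iff.1 hg
      have hgY : Commute g (J φ yK) := by have := hgc.pow_right 4; rwa [k4] at this
      have hgt : Commute g t := by have := hgc.pow_right 3; rwa [k3] at this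
      obtain ⟨a, ha⟩ := D.centY (mem_centralizer_singleton_iff.2 hgY.eq)
      have hat : Commute (J φ (dK a)) t := by
        rcases ha with rfl | rfl
        · exact hgt
        · simpa using ((Commute.refl t).inv_left).mul_left hgt
      have heq : (a.2, a.1) = a := dK_inj _ _ (D.Jinj (by
        rw [← D.t_dK, mul_assoc, hat.eq, ← mul_assoc, D.t2, one_mul]))
      have ha' : a = (a.1, a.1) := Prod.ext rfl (congrArg Prod.fst heq)
      rcases ha with rfl | rfl
      · exact ⟨(false, a.1), Subtype.ext (by simp [F, ← ha'])⟩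
      · exact ⟨(true, a.1), Subtype.ext (by simp [F, ← ha'])⟩
  · set s := invAll φ with hs
    have hsY : s * J φ yK * s⁻¹ = (J φ yK)⁻¹ := by rw [hY, D.invAll_dK, D.neg_dK]
    have hm : s * t * s⁻¹ ∈ centralizer ({J φ yK} : Set G) := by
      rw [mem_centralizer_singleton_iff]
      have h1 : Commute (s * t * s⁻¹) (J φ yK)⁻¹ := by
        rw [← hsY]; exact hc.symm.map (MulAut.conj s).toMonoidHom
      simpa using h1.inv_right.eq
    obtain ⟨a, ha⟩ := D.centY hm
    have hst : s * t * s⁻¹ * (s * t * s⁻¹) = 1 := by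
      rw [show s * t * s⁻¹ * (s * t * s⁻¹) = s * (t * t) * s⁻¹ by group, D.t2]; group
    rcases ha with e | e
    · exfalso
      rw [e, ← map_mul, ← dK_add, ← map_one (J φ), ← dK_facts.2.2.2] at hst
      have h0 := dK_inj _ _ (D.Jinj hst)
      have ha0 : a = 0 := (by decide : ∀ a : ZMod 3 × ZMod 3, a + a = 0 → a = 0) a h0
      rw [ha0, dK_facts.2.2.2, map_one] at e
      have ht1 := conj_eq_one_iff.1 e
      have hz : J φ zK = J φ wK := by rw [← D.tz, ht1, one_mul, mul_one]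
      have := D.Jinj hz
      revert this
      decide +kernel
    · have hneg : (a.2, a.1) + a = 0 := dK_inj _ _ (D.Jinj (by
        rw [dK_add, map_mul, ← D.t_dK, dK_facts.2.2.2, map_one, ← hst, e]; group))
      refine isConj_iff.2 ⟨(J φ (dK (-a.1, 0)))⁻¹ * s, ?_⟩
      have hd : J φ (dK (-a.1, 0)) * (J φ yK)⁻¹ = (J φ yK)⁻¹ * J φ (dK (-a.1, 0)) :=
        D.comm (D.mem _) (inv_mem hYm)
      have he : J φ (dK (-a.1, 0)) * t * (J φ (dK (-a.1, 0)))⁻¹ = t * J φ (dK a) := by
        rw [← D.neg_dK, show J φ (dK (-a.1, 0)) * t =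
          t * (t * J φ (dK (-a.1, 0)) * t) by
            rw [show t * (t * J φ (dK (-a.1, 0)) * t) = t * t * J φ (dK (-a.1, 0)) * t by group, D.t2,
              one_mul],
          D.t_dK, mul_assoc, ← map_mul, ← dK_add]
        congr 3
        have key : ∀ a : ZMod 3 × ZMod 3, (a.2, a.1) + a = 0 →
            ((0 : ZMod 3), -a.1) + -(-a.1, (0 : ZMod 3)) = a := by decide
        exact key a hneg
      set d := J φ (dK (-a.1, 0)) with hdd
      calc d⁻¹ * s * (J φ yK * t) * (d⁻¹ * s)⁻¹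
          = d⁻¹ * ((s * J φ yK * s⁻¹) * (s * t * s⁻¹)) * d := by group
        _ = d⁻¹ * ((J φ yK)⁻¹ * (d * t * d⁻¹)) * d := by rw [hsY, e, he]
        _ = d⁻¹ * ((J φ yK)⁻¹ * d) * t := by group
        _ = d⁻¹ * (d * (J φ yK)⁻¹) * t := by rw [hd]
        _ = (J φ yK)⁻¹ * t := by group
        _ = (J φ yK * t)⁻¹ := by rw [hc.eq, mul_inv_rev, D.tinv]

end Cfsg.Agent.EightLocal
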