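import Cfsg.Agent.Lib.EightLocal.A5Chars
import Cfsg.Agent.Lib.EightLocal.Local
import Cfsg.Agent.Lib.Blocks.ThirdMainCor
import Cfsg.Agent.Lib.Blocks.CentralBlock
import Cfsg.Agent.BlockCharsA.NormalSupport
import Cfsg.Agent.Lib.SelfNine.Values

/-!
# The characters on the sections of `z` and `y`
-/

set_option autoImplicit false
set_option linter.style.haveILetI false
set_option linter.unusedSectionVars false

namespace Cfsg.Agent.EightLocal

open Subgroup Cfsg.Agent.Characters Cfsg.Agent.Blocks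
open scoped ComplexConjugate

universe u

variable {G : Type u} [Group G] [Finite G] {P : Sylow 3 G} {φ : Pairs →* G} {t : G}
  {M : Ideal Cfsg.AlgInt}

/-- The generator of the first factor. -/
def cz : C3 := Multiplicative.ofAdd 1

/-- The element `z s`. -/
def zs (φ : Pairs →* G) (s : A5) : G := J φ (cz, s)

/-- The coordinate of a function on the section of `z`. -/
noncomputable def La (φ : Pairs →* G) (Φ : A5 → ℤ) (f : G → ℂ) : ℂ :=
  (∑ s : A5, (Φ s : ℂ) * f (zs φ s)) / 60

theorem zs_eq (s : A5) : zs φ s = J φ zK * J φ (1, s) := by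
  rw [← map_mul]
  change J φ (cz, s) = _
  exact congrArg _ (Prod.ext (mul_one _).symm (one_mul _).symm)

theorem split_K (k : K) : k = ((1 : C3), k.2) * (k.1, 1) := Prod.ext (one_mul _).symm (mul_one _).symm

/-- Two blocks induced from one block coincide. -/
theorem induced_unique (hM : Cfsg.IsPModular 3 M) {H : Subgroup G} {b : Set (Cfsg.IrrCharacter H)}
    {B B' : Set (Cfsg.IrrCharacter G)} (h : Cfsg.IsInducedBlock M H b B)
    (h' : Cfsg.IsInducedBlock M H b B') : B = B' := by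
  obtain ⟨ξ, hξ⟩ := block_nonempty hM h.1
  obtain ⟨χ, hχ⟩ := block_nonempty hM h.2.1
  obtain ⟨χ', hχ'⟩ := block_nonempty hM h'.2.1
  refine block_eq_of_mem hM h.2.1 h'.2.1 (mem_of_sameBlock hM h.2.1 hχ (fun g => ?_)) hχ'
  have := ideal_sub hM (h'.2.2 ξ hξ χ' hχ' g) (h.2.2 ξ hξ χ hχ g)
  rwa [sub_sub_sub_cancel_left] at this

/-- Outside the principal block the principal part of a section vanishes. -/
theorem principal_part_zero (hM : Cfsg.IsPModular 3 M) {x : G} (hx : ∃ k : ℕ, orderOf x = 3 ^ k)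
    {χ : Cfsg.IrrCharacter G} (hχ : χ ∉ Cfsg.principalBlock M G)
    {c : centralizer ({x} : Set G)} (hc : ¬ 3 ∣ orderOf c) :
    Cfsg.blockPart (Cfsg.principalBlock M (centralizer ({x} : Set G)))
      (fun c : centralizer ({x} : Set G) => (χ : G → ℂ) (x * (c : G))) c = 0 := by
  haveI := Fintype.ofFinite G
  refine blockPart_eq_zero_of_not_induced hM hx (isPBlock_blockOf M χ) (mem_blockOf_self hM χ)
    (isPBlock_principal M _) (fun hi => hχ ?_) hc
  have h0 := (third_main hM (b := Cfsg.principalBlock M (centralizer ({x} : Set G))) ⟨_, hi⟩).2 rfl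
  rw [← induced_unique hM hi h0]
  exact mem_blockOf_self hM χ

variable (D : Data P φ t)
include D

/-- The centralizer of `z` as `3 × A₅`. -/
def Data.cK : K →* centralizer ({J φ zK} : Set G) :=
  (J φ).codRestrict _ fun k => D.cent_z.2 ⟨k, rfl⟩

theorem Data.cK_bij : Function.Bijective D.cK :=
  ⟨fun _ _ e => D.Jinj (congrArg Subtype.val e), fun g => by
    obtain ⟨k, hk⟩ := D.cent_z.1 g.2
    exact ⟨k, Subtype.ext hk⟩⟩

theorem Data.cK_reg {s : A5} (hs : Reg s) : ¬ 3 ∣ orderOf (D.cK (1, s)) := fun h => by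
  have h10 : D.cK (1, s) ^ 10 = 1 := by
    rw [← map_pow, show ((1 : C3), s) ^ 10 = 1 from Prod.ext (one_pow _) hs, map_one]
  have := h.trans (orderOf_dvd_of_pow_eq_one h10)
  norm_num at this

theorem Data.center_cK (c : C3) : D.cK (c, 1) ∈ center (centralizer ({J φ zK} : Set G)) := by
  refine mem_center_iff.2 fun g => ?_
  obtain ⟨k, rfl⟩ := D.cK_bij.2 g
  rw [← map_mul, ← map_mul]
  exact congrArg _ (Prod.ext (mul_comm _ _) (by simp))

/-- The restriction of an irreducible character of `C(z)` to `A₅`. -/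
noncomputable def Data.res (ξ : Cfsg.IrrCharacter (centralizer ({J φ zK} : Set G))) (s : A5) : ℂ :=
  (ξ : centralizer ({J φ zK} : Set G) → ℂ) (D.cK (1, s))

theorem Data.ratio (ξ : Cfsg.IrrCharacter (centralizer ({J φ zK} : Set G))) (c : C3) :
    ∃ w : ℂ, w ^ 3 = 1 ∧ w * conj w = 1 ∧
      ∀ s, (ξ : centralizer ({J φ zK} : Set G) → ℂ) (D.cK (c, s)) = w * D.res ξ s := by
  obtain ⟨hw, hm⟩ := centralRatio_spec ξ (D.center_cK c)
  refine ⟨_, ?_, hw, fun s => ?_⟩
  · set w := centralRatio (ξ : centralizer ({J φ zK} : Set G) → ℂ) (D.cK (c, 1))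
    set x := D.cK (c, 1) with hx
    have h3 : x * x * x = 1 := by
      rw [hx, ← map_mul, ← map_mul, ← map_one D.cK]
      congr 1
      refine Prod.ext ?_ (by simp)
      have h : ∀ c : C3, c * c * c = 1 := by decide
      exact h c
    have h := congrArg (ξ : centralizer ({J φ zK} : Set G) → ℂ) h3
    rw [hm, hm, ← one_mul x, hm] at h
    refine mul_right_cancel₀ (irr_one_ne_zero ξ.2) ?_
    linear_combination h
  · rw [split_K (c, s), map_mul, hm]
    rfl

theorem Data.res_irr (ξ : Cfsg.IrrCharacter (centralizer ({J φ zK} : Set G))) :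
    Cfsg.IsIrrCharacter A5 (D.res ξ) := by
  classical
  haveI := Fintype.ofFinite G
  haveI := Fintype.ofFinite (centralizer ({J φ zK} : Set G))
  have hc : Cfsg.IsCharacter A5 (D.res ξ) :=
    isCharacter_comp (D.cK.comp (MonoidHom.inr C3 A5)) (irr_isCharacter ξ)
  refine isIrr_of_isCharacter_of_norm_one hc ?_
  have h1 := classInner_isIrr_self (G := centralizer ({J φ zK} : Set G)) ξ.2
  rw [classInner_def, D.cardz, ← D.cK_bij.sum_comp fun g =>
    (ξ : centralizer ({J φ zK} : Set G) → ℂ) g * conj ((ξ : centralizer ({J φ zK} : Set G) → ℂ) g)] at h1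
  have hterm : ∀ k : K, (ξ : centralizer ({J φ zK} : Set G) → ℂ) (D.cK k) *
      conj ((ξ : centralizer ({J φ zK} : Set G) → ℂ) (D.cK k)) = D.res ξ k.2 * conj (D.res ξ k.2) := fun k => by
    obtain ⟨w, -, hw, hv⟩ := D.ratio ξ k.1
    rw [show k = (k.1, k.2) from rfl, hv, map_mul]
    linear_combination (D.res ξ k.2 * conj (D.res ξ k.2)) * hw
  rw [Finset.sum_congr rfl fun k _ => hterm k, Fintype.sum_prod_type] at h1
  simp only [Finset.sum_const, Finset.card_univ, show Fintype.card C3 = 3 by decide, nsmul_eq_mul] at h1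
  rw [classInner_def, card_A5]
  push_cast at h1
  linear_combination h1

theorem Data.index_cK (c : C3) (s : A5) :
    (((centralizer ({D.cK (c, s)} : Set (centralizer ({J φ zK} : Set G)))).index : ℕ) : ℤ) = csize s := by
  classical
  have hcard : Nat.card (centralizer ({D.cK (c, s)} : Set (centralizer ({J φ zK} : Set G)))) =
      3 * (Finset.univ.filter fun h : A5 => h * s = s * h).card := by
    let f : C3 × {h : A5 // h * s = s * h} →
        centralizer ({D.cK (c, s)} : Set (centralizer ({J φ zK} : Set G))) := fun p =>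
      ⟨D.cK (p.1, p.2.1), mem_centralizer_singleton_iff.2 (by
        rw [← map_mul, ← map_mul]; exact congrArg _ (Prod.ext (mul_comm _ _) p.2.2))⟩
    rw [← Nat.card_eq_of_bijective f ⟨?_, ?_⟩, Nat.card_prod, Nat.card_eq_fintype_card (α := C3),
      show Fintype.card C3 = 3 by decide, Nat.card_eq_fintype_card, Fintype.card_subtype]
    · rintro ⟨a, b⟩ ⟨a', b'⟩ e
      have := D.cK_bij.1 (congrArg Subtype.val e)
      exact Prod.ext (congrArg Prod.fst this :) (Subtype.ext (congrArg Prod.snd this :))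
    · rintro ⟨g, hg⟩
      obtain ⟨⟨a, b⟩, rfl⟩ := D.cK_bij.2 g
      have h := mem_centralizer_singleton_iff.1 hg
      rw [← map_mul, ← map_mul] at h
      exact ⟨(a, ⟨b, congrArg Prod.snd (D.cK_bij.1 h)⟩), rfl⟩
  have h := (centralizer ({D.cK (c, s)} : Set (centralizer ({J φ zK} : Set G)))).card_mul_index
  rw [hcard, D.cardz] at h
  have h2 := csize_spec s
  have h3 : (3 : ℤ) * (Finset.univ.filter fun h : A5 => h * s = s * h).card *
      ((centralizer ({D.cK (c, s)} : Set (centralizer ({J φ zK} : Set G)))).index : ℕ) = 180 := by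
    exact_mod_cast h
  have h4 : ((Finset.univ.filter fun h : A5 => h * s = s * h).card : ℤ) ≠ 0 := fun e => by
    rw [e, zero_mul] at h2; norm_num at h2
  refine mul_left_cancel₀ h4 ?_
  linarith

/-- The characters of the principal block of `C(z)`. -/
theorem Data.block_z (hM : Cfsg.IsPModular 3 M)
    (ξ : Cfsg.IrrCharacter (centralizer ({J φ zK} : Set G))) :
    (ξ ∈ Cfsg.principalBlock M (centralizer ({J φ zK} : Set G)) ∧
      60 * D.res ξ 1 = ∑ s, D.res ξ s * (phiA s : ℂ) + 4 * ∑ s, D.res ξ s * (phiB s : ℂ)) ∨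
    (ξ ∉ Cfsg.principalBlock M (centralizer ({J φ zK} : Set G)) ∧
      (∑ s, D.res ξ s * (phiA s : ℂ)) = 0 ∧ (∑ s, D.res ξ s * (phiB s : ℂ)) = 0) := by
  obtain ⟨-, -, h41, h51, hA, hB, h4A, h4B, h5A, h5B, -⟩ := p_facts
  have hone : (ξ : centralizer ({J φ zK} : Set G) → ℂ) 1 = D.res ξ 1 := by
    change _ = (ξ : centralizer ({J φ zK} : Set G) → ℂ) (D.cK 1)
    rw [map_one]
  have hmem : ∀ (p : A5 → ℤ) (d : ℤ), D.res ξ = (fun s => (p s : ℂ)) → p 1 = d → d ≠ 0 →
      (∀ s, d ∣ csize s * p s ∧ (csize s * p s / d - csize s) % 3 = 0) →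
      ξ ∈ Cfsg.principalBlock M (centralizer ({J φ zK} : Set G)) := by
    intro p d hp hd hd0 hcong g
    obtain ⟨⟨c, s⟩, rfl⟩ := D.cK_bij.2 g
    obtain ⟨w, hw3, -, hv⟩ := D.ratio ξ c
    obtain ⟨⟨N, hN⟩, h3⟩ := hcong s
    rw [hN, Int.mul_ediv_cancel_left _ hd0] at h3
    have hi : ((centralizer ({D.cK (c, s)} : Set (centralizer ({J φ zK} : Set G)))).index : ℂ) =
        (csize s : ℂ) := by exact_mod_cast congrArg (fun x : ℤ => (x : ℂ)) (D.index_cK c s)
    have hsplit : Cfsg.centralChar (fun _ : centralizer ({J φ zK} : Set G) => (1 : ℂ)) (D.cK (c, s)) -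
        Cfsg.centralChar (ξ : centralizer ({J φ zK} : Set G) → ℂ) (D.cK (c, s)) =
        (N : ℂ) * (1 - w) + ((csize s - N : ℤ) : ℂ) := by
      rw [Cfsg.centralChar, Cfsg.centralChar, hi, hone, hv, hp]
      have hd0' : (d : ℂ) ≠ 0 := by exact_mod_cast hd0
      have hN' : (csize s : ℂ) * (p s : ℂ) = (d : ℂ) * (N : ℂ) := by exact_mod_cast hN
      simp only [hd]
      field_simp
      push_cast
      linear_combination (-w) * hN'
    rw [hsplit]
    refine ideal_add hM (ideal_mul_left hM (ring_intCast hM N) ?_) ((ideal_intCast_iff hM _).2 ?_)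
    · exact cong_symm hM (cong_one_of_pow_prime_pow hM (k := 1) (by rw [pow_one]; exact hw3))
    · exact Int.dvd_of_emod_eq_zero (by push_cast; omega)
  rcases irr_cases (D.res_irr ξ) with (h | h | h) | ⟨hA0, hB0, ht⟩
  · refine Or.inl ⟨hmem (fun _ => 1) 1 (by rw [h]; simp) rfl one_ne_zero fun s => ⟨one_dvd _, by simp⟩, ?_⟩
    simp only [h, one_mul, mul_one, ← Int.cast_sum, hA, hB]
    norm_num
  · refine Or.inl ⟨hmem p4 4 h h41 (by norm_num) fun s => (central_congr s).1, ?_⟩
    simp only [h, ← Int.cast_mul, ← Int.cast_sum, h4A, h4B, h41]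
    norm_num
  · refine Or.inl ⟨hmem p5 5 h h51 (by norm_num) fun s => (central_congr s).2, ?_⟩
    simp only [h, ← Int.cast_mul, ← Int.cast_sum, h5A, h5B, h51]
    norm_num
  · refine Or.inr ⟨fun hmemb => ?_, hA0, hB0⟩
    have h := hmemb (D.cK (1, rA))
    have hi : ((centralizer ({D.cK (1, rA)} : Set (centralizer ({J φ zK} : Set G)))).index : ℂ) =
        (15 : ℂ) := by
      have := D.index_cK 1 rA
      rw [show csize rA = 15 by rw [csize, rA_class]; rfl] at this
      exact_mod_cast congrArg (fun x : ℤ => (x : ℂ)) this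
    have e : Cfsg.centralChar (fun _ : centralizer ({J φ zK} : Set G) => (1 : ℂ)) (D.cK (1, rA)) -
        Cfsg.centralChar (ξ : centralizer ({J φ zK} : Set G) → ℂ) (D.cK (1, rA)) = ((20 : ℤ) : ℂ) := by
      rw [Cfsg.centralChar, Cfsg.centralChar, hi, show (ξ : centralizer ({J φ zK} : Set G) → ℂ)
        (D.cK (1, rA)) = D.res ξ rA from rfl, hone]
      have h0 : D.res ξ 1 ≠ 0 := irr_one_ne_zero (D.res_irr ξ)
      push_cast
      field_simp
      linear_combination (-5 : ℂ) * ht
    rw [e, ideal_intCast_iff hM] at h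
    norm_num at h

/-- The centralizer of `y` has a single block. -/
theorem Data.block_y (hM : Cfsg.IsPModular 3 M)
    (ξ : Cfsg.IrrCharacter (centralizer ({J φ yK} : Set G))) :
    ξ ∈ Cfsg.principalBlock M (centralizer ({J φ yK} : Set G)) := by
  set C := centralizer ({J φ yK} : Set G) with hC
  set Q := (P : Subgroup G).subgroupOf C with hQ
  haveI : Q.Normal := ⟨fun n hn g => by
    rw [hQ, mem_subgroupOf] at hn ⊢
    exact (mem_normalizer_iff.1 (D.normY (g : G) g.2) _).1 hn⟩
  have hQp : IsPGroup 3 Q := P.isPGroup'.comap_of_injective _ C.subtype_injective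
  have hQc : centralizer (Q : Set C) ≤ Q := by
    intro g hg
    rw [hQ, mem_subgroupOf]
    obtain ⟨a, ha | ha⟩ := D.centY g.2
    · rw [ha]; exact D.mem a
    · exfalso
      have hzP : J φ zK ∈ (P : Subgroup G) := by rw [← dK_facts.1]; exact D.mem _
      have hzC : J φ zK ∈ C := mem_centralizer_singleton_iff.2
        (D.comm hzP (by rw [← dK_facts.2.2.1]; exact D.mem _))
      have hc := congrArg Subtype.val (mem_centralizer_iff.1 hg ⟨_, hzC⟩ (show (⟨_, hzC⟩ : C) ∈ Q from hzP))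
      simp only [Subgroup.coe_mul, ha] at hc
      rw [← mul_assoc, mul_assoc t, D.comm (D.mem a) hzP, ← mul_assoc] at hc
      have hc' : J φ zK * t = t * J φ zK := mul_right_cancel hc
      have e : J φ zK = J φ wK := by
        rw [← D.tz, ← hc', mul_assoc, D.t2, mul_one]
      have := D.Jinj e
      revert this
      decide +kernel
  exact BlockCharsA.NormalSupport.sameBlock_of_selfCentralizing hM hQp hQc (trivIrr C) _

theorem Data.order_three {k : K} (h : k ^ 3 = 1) (h1 : k ≠ 1) : ∃ n : ℕ, orderOf (J φ k) = 3 ^ n := by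
  haveI : Fact (Nat.Prime 3) := ⟨Nat.prime_three⟩
  exact ⟨1, by
    rw [pow_one]
    exact orderOf_eq_prime (by rw [← map_pow, h, map_one])
      fun e => h1 (D.Jinj (e.trans (map_one _).symm))⟩

theorem Data.blocks_facts (hM : Cfsg.IsPModular 3 M) (χ : Cfsg.IrrCharacter G) :
    (χ ∈ Cfsg.principalBlock M G ∧
      (χ : G → ℂ) (J φ zK) = La φ phiA χ + 4 * La φ phiB χ) ∨
    (χ ∉ Cfsg.principalBlock M G ∧ La φ phiA χ = 0 ∧ La φ phiB χ = 0 ∧
      (χ : G → ℂ) (J φ yK) = 0 ∧ (χ : G → ℂ) (J φ yK * t) = 0) := by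
  classical
  haveI := Fintype.ofFinite G
  set C := centralizer ({J φ zK} : Set G) with hC
  haveI := Fintype.ofFinite C
  haveI := Fintype.ofFinite (Cfsg.IrrCharacter C)
  obtain ⟨hz3, hw3⟩ : zK ^ 3 = 1 ∧ yK ^ 3 = 1 := by decide +kernel
  have hxz := D.order_three hz3 (by decide +kernel)
  have hxy := D.order_three hw3 (by decide +kernel)
  set θ := fun c : C => (χ : G → ℂ) (J φ zK * (c : G)) with hθ
  have hexp := classFun_eq_sum (isClassFunction_shift (χ : G → ℂ) (irr_isClassFunction χ) :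
    Cfsg.IsClassFunction C θ)
  set f : Cfsg.IrrCharacter C → ℂ := fun ξ => Cfsg.classInner θ (ξ : C → ℂ) with hf
  set b₀ := Cfsg.principalBlock M C with hb₀
  have hpart : ∀ y : C, Cfsg.blockPart b₀ θ y =
      ∑ ξ ∈ Finset.univ.filter (fun ξ => ξ ∈ b₀), f ξ * (ξ : C → ℂ) y := by
    intro y
    rw [Cfsg.blockPart, finsum_mem_def, finsum_eq_sum_of_fintype, Finset.sum_filter]
    exact Finset.sum_congr rfl fun ξ _ => by rw [Set.indicator_apply]; simp only [hf]; congr! 3
  have hval : ∀ y : C, θ y = ∑ ξ, f ξ * (ξ : C → ℂ) y := fun y => by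
    have := congrFun hexp y
    simpa [Finset.sum_apply] using this
  have hzs : ∀ s, (χ : G → ℂ) (zs φ s) = θ (D.cK (1, s)) := fun s => by rw [zs_eq]; rfl
  have hL : ∀ (Φ : A5 → ℤ) (S : Finset (Cfsg.IrrCharacter C)),
      (∀ s, Φ s ≠ 0 → θ (D.cK (1, s)) = ∑ ξ ∈ S, f ξ * D.res ξ s) →
      La φ Φ χ = (∑ ξ ∈ S, f ξ * ∑ s, D.res ξ s * (Φ s : ℂ)) / 60 := by
    intro Φ S h
    rw [La]
    congr 1
    calc ∑ s, (Φ s : ℂ) * (χ : G → ℂ) (zs φ s) = ∑ s, ∑ ξ ∈ S, f ξ * (D.res ξ s * (Φ s : ℂ)) := by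
          refine Finset.sum_congr rfl fun s _ => ?_
          rw [hzs]
          by_cases h0 : Φ s = 0
          · simp [h0]
          · rw [h s h0, Finset.mul_sum]; exact Finset.sum_congr rfl fun ξ _ => by ring
      _ = _ := by rw [Finset.sum_comm]; exact Finset.sum_congr rfl fun ξ _ => by rw [Finset.mul_sum]
  have hregA : ∀ s, phiA s ≠ 0 → Reg s := fun s h => by
    by_contra hr; exact h (phi_support s hr).1
  have hregB : ∀ s, phiB s ≠ 0 → Reg s := fun s h => by
    by_contra hr; exact h (phi_support s hr).2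
  by_cases hχ : χ ∈ Cfsg.principalBlock M G
  · refine Or.inl ⟨hχ, ?_⟩
    have hB : ∀ y : C, ¬ 3 ∣ orderOf y →
        θ y = ∑ ξ ∈ Finset.univ.filter (fun ξ => ξ ∈ b₀), f ξ * (ξ : C → ℂ) y := fun y hy => by
      rw [← hpart]; exact value_eq_principal_part hM hxz hχ hy
    have hSA := hL phiA _ fun s hs => hB _ (D.cK_reg (hregA s hs))
    have hSB := hL phiB _ fun s hs => hB _ (D.cK_reg (hregB s hs))
    have h1 : (χ : G → ℂ) (J φ zK) = ∑ ξ ∈ Finset.univ.filter (fun ξ => ξ ∈ b₀), f ξ * D.res ξ 1 := by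
      have e : D.cK (1, 1) = 1 := map_one _
      have := hB 1 (by simp)
      simp only [hθ, Subgroup.coe_one, mul_one] at this
      rw [this]
      exact Finset.sum_congr rfl fun ξ _ => by simp only [Data.res, e]
    rw [h1, hSA, hSB, mul_div_assoc', ← add_div, eq_div_iff (by norm_num : (60 : ℂ) ≠ 0), Finset.mul_sum,
      ← Finset.sum_add_distrib, Finset.sum_mul]
    refine Finset.sum_congr rfl fun ξ hξ => ?_
    rcases D.block_z hM ξ with ⟨-, h⟩ | ⟨h, -⟩
    · linear_combination f ξ * h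
    · exact absurd (Finset.mem_filter.1 hξ).2 h
  · refine Or.inr ⟨hχ, ?_⟩
    have hzero : ∀ y : C, ¬ 3 ∣ orderOf y →
        θ y = ∑ ξ ∈ Finset.univ.filter (fun ξ => ξ ∉ b₀), f ξ * (ξ : C → ℂ) y := fun y hy => by
      rw [hval, ← Finset.sum_filter_add_sum_filter_not Finset.univ (fun ξ => ξ ∈ b₀), ← hpart,
        principal_part_zero hM hxz hχ hy, zero_add]
    refine ⟨?_, ?_, ?_⟩
    · rw [hL phiA _ fun s hs => hzero _ (D.cK_reg (hregA s hs)), Finset.sum_eq_zero, zero_div]
      intro ξ hξ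
      rcases D.block_z hM ξ with ⟨h, -⟩ | ⟨-, h, -⟩
      · exact absurd h (Finset.mem_filter.1 hξ).2
      · rw [h, mul_zero]
    · rw [hL phiB _ fun s hs => hzero _ (D.cK_reg (hregB s hs)), Finset.sum_eq_zero, zero_div]
      intro ξ hξ
      rcases D.block_z hM ξ with ⟨h, -⟩ | ⟨-, -, h⟩
      · exact absurd h (Finset.mem_filter.1 hξ).2
      · rw [h, mul_zero]
    -- the section of `y`
    set CY := centralizer ({J φ yK} : Set G) with hCY
    haveI := Fintype.ofFinite CY
    haveI := Fintype.ofFinite (Cfsg.IrrCharacter CY)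
    have hy : ∀ c : CY, ¬ 3 ∣ orderOf c → (χ : G → ℂ) (J φ yK * (c : G)) = 0 := by
      intro c hc
      have h := principal_part_zero hM hxy hχ hc
      rw [Cfsg.blockPart, finsum_mem_def, finsum_eq_sum_of_fintype,
        Finset.sum_congr rfl fun ξ _ => Set.indicator_of_mem (D.block_y hM ξ) _] at h
      have he := congrFun (classFun_eq_sum (isClassFunction_shift (x := J φ yK) (χ : G → ℂ)
        (irr_isClassFunction χ))) c
      simp only [Finset.sum_apply, Pi.smul_apply, smul_eq_mul] at he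
      rw [he]; convert h
    have htY : t ∈ CY := by
      refine mem_centralizer_singleton_iff.2 ?_
      have h1 := D.t_dK (1, 1)
      rw [dK_facts.2.2.1] at h1
      conv_rhs => rw [← h1, mul_assoc _ t t, D.t2, mul_one]
    have h1 := hy 1 (by simp)
    have h2 := hy ⟨t, htY⟩ (fun h => by
      have hd : orderOf (⟨t, htY⟩ : CY) ∣ 2 := orderOf_dvd_of_pow_eq_one (Subtype.ext (by
        simp [pow_two, D.t2]))
      have := h.trans hd
      norm_num at this)
    rw [Subgroup.coe_one, mul_one] at h1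
    exact ⟨h1, h2⟩

/-- The coordinates are integers. -/
theorem Data.La_int (χ : Cfsg.IrrCharacter G) {Φ : A5 → ℤ}
    (hΦ : Cfsg.IsGeneralizedCharacter A5 fun s => (Φ s : ℂ)) (hflip : ∀ s, Φ (flipA s) = Φ s) :
    ∃ a : ℤ, La φ Φ (χ : G → ℂ) = (a : ℂ) := by
  classical
  obtain ⟨hw, hwi, hw3⟩ := SelfNine.omega3_facts
  set ω := SelfNine.omega3
  let lam : C3 →* ℂ :=
    { toFun := fun c => ω ^ (Multiplicative.toAdd c).val
      map_one' := by simp
      map_mul' := fun a b => by
        rw [← pow_add, toAdd_mul, ZMod.val_add]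
        exact (pow_eq_pow_mod _ hw).symm }
  set η : K → ℂ := fun k => (χ : G → ℂ) (J φ k) with hη
  have hηc : Cfsg.IsGeneralizedCharacter K η :=
    isGen_of_isCharacter (isCharacter_comp (J φ) (irr_isCharacter χ))
  obtain ⟨n0, hn0⟩ := classInner_gen_int (isGen_comp (MonoidHom.inr C3 A5) hηc) hΦ
  obtain ⟨m1, hm1⟩ := classInner_gen_int hηc
    (isGen_mul (isGen_comp (MonoidHom.fst C3 A5) (isGen_of_isCharacter
      (isCharacter_of_isIrr (isIrrCharacter_monoidHom lam)))) (isGen_comp (MonoidHom.snd C3 A5) hΦ))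
  refine ⟨n0 - 3 * m1, ?_⟩
  rw [classInner_int] at hn0
  set S : C3 → ℂ := fun c => ∑ s : A5, (Φ s : ℂ) * η (c, s) with hS
  have hS0 : S 1 / 60 = (n0 : ℂ) := by
    rw [← hn0, hS]
    congr 1
    exact Finset.sum_congr rfl fun s _ => mul_comm _ _
  have hS2 : S cz⁻¹ = S cz := by
    simp only [hS]
    refine Finset.sum_equiv ⟨flipA, flipA, fun s => (phi_flip s).1, fun s => (phi_flip s).1⟩
      (fun _ => by simp) fun s _ => ?_
    simp only [Equiv.coe_fn_mk, hflip, hη]
    congr 1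
    have hf := D.flip_J (cz⁻¹, s)
    rw [flipK_split, inv_inv] at hf
    rw [← hf, irr_isClassFunction χ]
  have hm : (S 1 + conj ω * S cz + conj (ω ^ 2) * S cz⁻¹) / 180 = (m1 : ℂ) := by
    rw [← hm1, classInner_def, Fintype.sum_prod_type, Nat.card_prod, Nat.cast_mul, card_A5,
      Nat.card_eq_fintype_card, show Fintype.card C3 = 3 by decide]
    rw [show (Finset.univ : Finset C3) = {1, cz, cz⁻¹} by decide,
      Finset.sum_insert (by decide), Finset.sum_insert (by decide), Finset.sum_singleton]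
    simp only [hS, MonoidHom.coe_fst, MonoidHom.coe_snd, Function.comp_apply, Pi.mul_apply, map_mul,
      map_intCast, lam, MonoidHom.coe_mk, OneHom.coe_mk]
    rw [show (Multiplicative.toAdd (1 : C3)).val = 0 from rfl,
      show (Multiplicative.toAdd cz).val = 1 from rfl,
      show (Multiplicative.toAdd cz⁻¹).val = 2 from rfl, Finset.mul_sum, Finset.mul_sum]
    simp only [pow_zero, pow_one, map_one, Nat.cast_ofNat]
    rw [← Finset.sum_add_distrib, ← Finset.sum_add_distrib, ← Finset.sum_add_distrib,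
      ← Finset.sum_add_distrib, div_eq_inv_mul, Finset.mul_sum, Finset.mul_sum]
    exact Finset.sum_congr rfl fun s _ => by ring
  have hsum : conj ω + conj (ω ^ 2) = -1 := by
    have h1 := congrArg conj hw3
    simp only [map_add, map_one, map_zero] at h1
    linear_combination h1
  have hLa : La φ Φ (χ : G → ℂ) = S cz / 60 := rfl
  rw [hS2] at hm
  rw [hLa, Int.cast_sub, Int.cast_mul, ← hS0, ← hm]
  push_cast
  linear_combination (S cz / 60) * hsum

/-- The orthogonality of the section. -/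
theorem Data.gram [Fintype (Cfsg.IrrCharacter G)] {Φ Ψ : A5 → ℤ}
    (hΦ : ∀ s, Φ s ≠ 0 → Reg s) (hΨc : Cfsg.IsClassFunction A5 fun s => (Ψ s : ℂ))
    (hΨ : ∀ s, Ψ s ≠ 0 → Reg s) :
    ∑ χ : Cfsg.IrrCharacter G, La φ Φ (χ : G → ℂ) * conj (La φ Ψ (χ : G → ℂ)) =
      ((∑ s, Φ s * Ψ s : ℤ) : ℂ) / 20 := by
  classical
  have key : ∀ s s', Reg s → Reg s' →
      ∑ χ : Cfsg.IrrCharacter G, (χ : G → ℂ) (zs φ s) * conj ((χ : G → ℂ) (zs φ s')) =
        3 * ((Finset.univ.filter fun h : A5 => h * s * h⁻¹ = s').card : ℂ) := by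
    intro s s' hs hs'
    rw [second_orthogonality]
    have h10 : ∀ s, Reg s → zs φ s ^ 10 = J φ zK := fun s hs => by
      rw [zs, ← map_pow]
      exact congrArg _ (Prod.ext (by simp only [Prod.pow_fst, zK, cz]; decide +kernel) hs)
    have hcard : Nat.card {g : G // g * zs φ s * g⁻¹ = zs φ s'} =
        3 * (Finset.univ.filter fun h : A5 => h * s * h⁻¹ = s').card := by
      let f : C3 × {h : A5 // h * s * h⁻¹ = s'} → {g : G // g * zs φ s * g⁻¹ = zs φ s'} := fun p =>
        ⟨J φ (p.1, p.2.1), by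
          simp only [zs, ← map_inv, ← map_mul]
          exact congrArg _ (Prod.ext (by simp) p.2.2)⟩
      rw [← Nat.card_eq_of_bijective f ⟨?_, ?_⟩, Nat.card_prod, Nat.card_eq_fintype_card (α := C3),
        show Fintype.card C3 = 3 by decide, Nat.card_eq_fintype_card, Fintype.card_subtype]
      · rintro ⟨a, b⟩ ⟨a', b'⟩ e
        have := D.Jinj (congrArg Subtype.val e)
        exact Prod.ext (congrArg Prod.fst this :) (Subtype.ext (congrArg Prod.snd this :))
      · rintro ⟨g, hg⟩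
        have hc : g ∈ centralizer ({J φ zK} : Set G) := by
          have h := congrArg (· ^ 10) hg
          simp only [conj_pow, h10 s hs, h10 s' hs'] at h
          exact mem_centralizer_singleton_iff.2 (mul_inv_eq_iff_eq_mul.1 h)
        obtain ⟨⟨a, b⟩, rfl⟩ := D.cent_z.1 hc
        simp only [zs, ← map_inv, ← map_mul] at hg
        exact ⟨(a, ⟨b, congrArg Prod.snd (D.Jinj hg)⟩), rfl⟩
    split_ifs with h
    · obtain ⟨g₀, hg₀⟩ := isConj_iff.1 h
      rw [show (3 : ℂ) * _ = ((3 * (Finset.univ.filter fun h : A5 => h * s * h⁻¹ = s').card : ℕ) : ℂ) by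
        push_cast; rfl, ← hcard]
      have aux : ∀ g, g * zs φ s * g⁻¹ = zs φ s' →
          g * g₀⁻¹ * zs φ s' = zs φ s' * (g * g₀⁻¹) := fun g hg => by
        calc g * g₀⁻¹ * zs φ s' = g * g₀⁻¹ * (g₀ * zs φ s * g₀⁻¹) := by rw [hg₀]
          _ = (g * zs φ s * g⁻¹) * (g * g₀⁻¹) := by group
          _ = _ := by rw [hg]
      refine congrArg Nat.cast (Nat.card_congr ?_)
      exact
        { toFun := fun c => ⟨(c : G) * g₀, by
            rw [mul_inv_rev, show (c : G) * g₀ * zs φ s * (g₀⁻¹ * (c : G)⁻¹) =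
              (c : G) * (g₀ * zs φ s * g₀⁻¹) * (c : G)⁻¹ by group, hg₀,
              mem_centralizer_singleton_iff.1 c.2, mul_inv_cancel_right]⟩
          invFun := fun g => ⟨g.1 * g₀⁻¹, mem_centralizer_singleton_iff.2 (aux g.1 g.2)⟩
          left_inv := fun c => Subtype.ext (by simp)
          right_inv := fun g => Subtype.ext (by simp) }
    · have h0 : Nat.card {g : G // g * zs φ s * g⁻¹ = zs φ s'} = 0 := by
        haveI : IsEmpty {g : G // g * zs φ s * g⁻¹ = zs φ s'} := ⟨fun g => h (isConj_iff.2 ⟨g.1, g.2⟩)⟩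
        exact Nat.card_of_isEmpty
      rw [hcard] at h0
      rw [show (Finset.univ.filter fun h : A5 => h * s * h⁻¹ = s').card = 0 by omega]
      simp
  have hsum : ∑ χ : Cfsg.IrrCharacter G, La φ Φ (χ : G → ℂ) * conj (La φ Ψ (χ : G → ℂ)) =
      (∑ s, ∑ s', (Φ s : ℂ) * (Ψ s' : ℂ) *
        (3 * ((Finset.univ.filter fun h : A5 => h * s * h⁻¹ = s').card : ℂ))) / 3600 := by
    simp only [La, map_div₀, map_sum, map_mul, map_intCast, map_ofNat, div_mul_div_comm,
      Finset.sum_mul_sum]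
    rw [← Finset.sum_div, show (60 : ℂ) * 60 = 3600 by norm_num]
    congr 1
    rw [Finset.sum_comm]
    refine Finset.sum_congr rfl fun s _ => ?_
    rw [Finset.sum_comm]
    refine Finset.sum_congr rfl fun s' _ => ?_
    by_cases h : Φ s = 0 ∨ Ψ s' = 0
    · rcases h with h | h <;> simp [h]
    · push Not at h
      rw [← key s s' (hΦ s h.1) (hΨ s' h.2), Finset.mul_sum]
      exact Finset.sum_congr rfl fun χ _ => by ring
  rw [hsum]
  have hin : ∀ s, ∑ s' : A5, (Φ s : ℂ) * (Ψ s' : ℂ) *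
      (3 * ((Finset.univ.filter fun h : A5 => h * s * h⁻¹ = s').card : ℂ)) =
      180 * ((Φ s : ℂ) * (Ψ s : ℂ)) := by
    intro s
    calc _ = ∑ s' : A5, ∑ h ∈ Finset.univ.filter (fun h : A5 => h * s * h⁻¹ = s'),
          3 * (Φ s : ℂ) * (Ψ (h * s * h⁻¹) : ℂ) := by
          refine Finset.sum_congr rfl fun s' _ => ?_
          rw [Finset.sum_congr rfl (g := fun _ => 3 * (Φ s : ℂ) * (Ψ s' : ℂ)) fun h hh => by
            rw [(Finset.mem_filter.1 hh).2], Finset.sum_const, nsmul_eq_mul]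
          ring
      _ = ∑ h : A5, 3 * (Φ s : ℂ) * (Ψ (h * s * h⁻¹) : ℂ) :=
          Finset.sum_fiberwise Finset.univ (fun h : A5 => h * s * h⁻¹) _
      _ = _ := by
          rw [Finset.sum_congr rfl (g := fun _ => 3 * (Φ s : ℂ) * (Ψ s : ℂ)) fun h _ => by
            rw [show (Ψ (h * s * h⁻¹) : ℂ) = Ψ s from hΨc s h], Finset.sum_const, Finset.card_univ,
            show Fintype.card A5 = 60 by decide +kernel, nsmul_eq_mul]
          push_cast; ring
  rw [Finset.sum_congr rfl fun s _ => hin s, ← Finset.mul_sum]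
  push_cast
  ring

/-- A class away from the section. -/
theorem Data.gram_zero [Fintype (Cfsg.IrrCharacter G)] {Φ : A5 → ℤ} (hΦ : ∀ s, Φ s ≠ 0 → Reg s)
    {g : G} (hg : ¬ IsConj (J φ zK) (g ^ 10)) :
    ∑ χ : Cfsg.IrrCharacter G, La φ Φ (χ : G → ℂ) * conj ((χ : G → ℂ) g) = 0 := by
  classical
  simp only [La, div_mul_eq_mul_div, Finset.sum_mul]
  rw [← Finset.sum_div, Finset.sum_comm, Finset.sum_eq_zero, zero_div]
  intro s _
  by_cases h : Φ s = 0
  · simp [h]
  · simp only [mul_assoc, ← Finset.mul_sum]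
    rw [second_orthogonality, if_neg, mul_zero]
    intro hc
    obtain ⟨x, hx⟩ := isConj_iff.1 hc
    refine hg (isConj_iff.2 ⟨x, ?_⟩)
    rw [← hx, conj_pow, show zs φ s ^ 10 = J φ zK by
      rw [zs, ← map_pow]
      exact congrArg _ (Prod.ext (by simp only [Prod.pow_fst, zK, cz]; decide +kernel) (hΦ s h))]

end Cfsg.Agent.EightLocal
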