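import Cfsg.Agent.Lib.EightLocal.Rows
import Cfsg.Agent.Lib.EightLocal.Section
import Cfsg.Agent.Lib.EightLocal.Counts
import Cfsg.Agent.Lib.SelfNine.OctMain
import Cfsg.Agent.Lib.Perm.UniqueP.Modular
import Cfsg.Agent.Recognition.SelfCentNine

/-!
# The order of the group and a small character

The rows on the two sections form the family of the alternating group, up to one further solution
for the degrees; both give an irreducible character of degree seven or eight with known values.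
-/

set_option autoImplicit false
set_option linter.style.haveILetI false
set_option linter.unusedSectionVars false

namespace Cfsg.Agent.EightLocal

open Subgroup Cfsg.Agent.Characters Cfsg.Agent.SelfNine
open scoped ComplexConjugate

universe u

variable {G : Type u} [Group G] [Finite G] {P : Sylow 3 G} {φ : Pairs →* G} {t : G}
  {M : Ideal Cfsg.AlgInt}

/-- The coordinates of a character. -/
structure Row (φ : Pairs →* G) (t : G) (χ : G → ℂ) (f : ℕ) (v : V5) : Prop where
  one : χ 1 = (f : ℂ)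
  Y : χ (J φ yK) = (yv v : ℂ)
  Yt : χ (J φ yK * t) = ((v.x - v.y : ℤ) : ℂ)
  A : La φ phiA χ = (v.w : ℂ)
  B : La φ phiB χ = (v.u : ℂ)
  z : v.z = 0

theorem phiA_class : Cfsg.IsClassFunction A5 fun s => (phiA s : ℂ) :=
  isGen_isClassFunction isGen_phiA

theorem phiB_class : Cfsg.IsClassFunction A5 fun s => (phiB s : ℂ) :=
  isGen_isClassFunction isGen_phiB

theorem phi_reg : (∀ s, phiA s ≠ 0 → Reg s) ∧ (∀ s, phiB s ≠ 0 → Reg s) :=
  ⟨fun s h => by by_contra hr; exact h (phi_support s hr).1,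
    fun s h => by by_contra hr; exact h (phi_support s hr).2⟩

theorem card_pairs : Nat.card Pairs = 360 := by
  rw [Nat.card_eq_fintype_card]
  decide +kernel

theorem centralizer_int {x : G} {c : ℕ} (hc : Nat.card (centralizer ({x} : Set G)) = c)
    (χ : Cfsg.IrrCharacter G) {f : ℕ} {a : ℤ} (hf : (χ : G → ℂ) 1 = (f : ℂ))
    (ha : (χ : G → ℂ) x = (a : ℂ)) : ((f : ℤ) * c) ∣ (Nat.card G : ℤ) * a := by
  haveI := Fintype.ofFinite G
  have hi := BlocksChars.ClassAlg.omega_classInd_isIntegral χ x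
  rw [BlocksChars.ClassAlg.omega_classInd, hf, ha] at hi
  obtain ⟨k, hk⟩ := exists_int_of_isIntegral_ratCast
    (q := (BlocksChars.ClassAlg.classSize x : ℚ) * a / f) (by push_cast; exact hi)
  have hf0 : (f : ℂ) ≠ 0 := hf ▸ irr_one_ne_zero χ.2
  rw [Rat.cast_div, Rat.cast_mul, Rat.cast_natCast, Rat.cast_natCast, Rat.cast_intCast,
    div_eq_iff hf0] at hk
  have hk' : (BlocksChars.ClassAlg.classSize x : ℤ) * a = k * f := by exact_mod_cast hk
  have hs := BlocksChars.ClassAlg.classSize_mul_card_centralizer x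
  rw [hc] at hs
  refine ⟨k, ?_⟩
  rw [← hs]
  push_cast
  linear_combination (c : ℤ) * hk'

theorem lcm_dvd_of {n f a b : ℤ} (hf : f ≠ 0) (ha : f * a ∣ n) (hb : f * b ∣ n) :
    (Int.lcm a b : ℤ) * f ∣ n := by
  obtain ⟨m, rfl⟩ := dvd_of_mul_right_dvd ha
  have h1 := Int.dvd_of_mul_dvd_mul_left hf ha
  have h2 := Int.dvd_of_mul_dvd_mul_left hf hb
  rw [mul_comm (Int.lcm a b : ℤ) f]
  exact mul_dvd_mul_left f (Int.coe_lcm a b ▸ lcm_dvd h1 h2)

theorem quot_dvd {n f c a : ℤ} (hc : c % a = 0 ∨ a = 0) (hfn : f ∣ n) (h : f * c ∣ n * a) :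
    f * quot c a ∣ n := by
  unfold quot
  split_ifs with ha
  · rwa [mul_one]
  · have hac : a ∣ c := Int.dvd_of_emod_eq_zero (hc.resolve_right ha)
    have hA : (a.natAbs : ℤ) ∣ c := Int.natAbs_dvd.2 hac
    have h' : f * c ∣ n * (a.natAbs : ℤ) := h.trans (mul_dvd_mul_left n Int.dvd_natAbs_self)
    rw [← Int.ediv_mul_cancel hA, ← mul_assoc] at h'
    exact Int.dvd_of_mul_dvd_mul_right (by simpa using ha) h'

variable (D : Data P φ t)
include D

theorem Data.exists_row (hM : Cfsg.IsPModular 3 M) (χ : Cfsg.IrrCharacter G) :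
    ∃ (f : ℕ) (v : V5), Row φ t (χ : G → ℂ) f v ∧ (v = ⟨0, 0, 0, 0, 0⟩ ∨
      ((χ : G → ℂ) (J φ zK) = (zv v : ℂ) ∧ (yv v - zv v) % 3 = 0 ∧
        ((f : ℤ) + 4 * zv v + 4 * yv v) % 9 = 0)) := by
  classical
  haveI := Fintype.ofFinite G
  have hcf := irr_isClassFunction χ
  have hzP : J φ zK ∈ (P : Subgroup G) := by rw [← dK_facts.1]; exact D.mem _
  have hyP : J φ yK ∈ (P : Subgroup G) := by rw [← dK_facts.2.2.1]; exact D.mem _
  have hsq : ∀ g ∈ (P : Subgroup G), (χ : G → ℂ) (g ^ 2) = (χ : G → ℂ) g := fun g hg => by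
    rw [show g ^ 2 = g⁻¹ from eq_inv_of_mul_eq_one_left (by rw [← pow_succ]; exact D.exp hg)]
    exact (BlocksChars.ClassAlg.classFun_eq_of_isConj hcf (D.isConj_inv_P hg)).symm
  obtain ⟨f, xz, hf, hz, dz⟩ := three_value (irr_isCharacter χ) (D.exp hzP) (hsq _ hzP)
  obtain ⟨f', xy, hf', hy, dy⟩ := three_value (irr_isCharacter χ) (D.exp hyP) (hsq _ hyP)
  obtain rfl : f' = f := by exact_mod_cast hf'.symm.trans hf
  obtain ⟨k10, k4, k3, -, kre⟩ := D.six
  set g := J φ yK * t with hg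
  have hg6 : g ^ 6 = 1 := by rw [show 6 = 3 * 2 from rfl, pow_mul, k3, pow_two, D.t2]
  have hg2 : g ^ 2 = J φ yK ^ 2 := by
    rw [← k4, ← pow_mul, show 4 * 2 = 6 + 2 from rfl, pow_add, hg6, one_mul]
  have hr : (χ : G → ℂ) (g ^ 5) = (χ : G → ℂ) g := by
    rw [show g ^ 5 = g⁻¹ from eq_inv_of_mul_eq_one_left (by rw [← pow_succ, hg6])]
    exact (BlocksChars.ClassAlg.classFun_eq_of_isConj hcf kre).symm
  have h2 : (χ : G → ℂ) (g ^ 2) = (xy : ℂ) := by rw [hg2, hsq _ hyP, hy]
  obtain ⟨xt, hxt, dxt⟩ := six_value (irr_isCharacter χ) hg6 hr (by rw [h2, k4, hy]) h2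
  obtain ⟨a, ha⟩ := D.La_int χ isGen_phiA fun s => (phi_flip s).2.1
  obtain ⟨b, hb⟩ := D.La_int χ isGen_phiB fun s => (phi_flip s).2.2
  set v : V5 := ⟨(xy + xt) / 2, (xy - xt) / 2, 0, a, b⟩ with hv
  have e1 : yv v = xy := by simp only [hv, yv]; omega
  have e2 : v.x - v.y = xt := by simp only [hv]; omega
  refine ⟨f', v, ⟨hf', by rw [e1, hy], by rw [e2, hxt], ha, hb, rfl⟩, ?_⟩
  rcases D.blocks_facts hM χ with ⟨-, hval⟩ | ⟨-, hA0, hB0, hY0, hYt0⟩
  · right
    have e3 : zv v = xz := by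
      have h : ((zv v : ℤ) : ℂ) = (xz : ℂ) := by
        rw [← hz, hval, ha, hb]; simp only [zv, hv]; push_cast; ring
      exact_mod_cast h
    refine ⟨by rw [e3, hz], by omega, ?_⟩
    rw [e1, e3]
    have hdvd : (9 : ℤ) ∣ (f' : ℤ) + 4 * xz + 4 * xy := by
      haveI := Fintype.ofFinite ↥(P : Subgroup G)
      have hb' : Function.Bijective
          fun a : ZMod 3 × ZMod 3 => (⟨J φ (dK a), D.mem a⟩ : ↥(P : Subgroup G)) :=
        ⟨fun a b e => dK_inj _ _ (D.Jinj (congrArg Subtype.val e)), fun g => by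
          obtain ⟨a, ha⟩ := (D.sylow g).1 g.2
          exact ⟨a, Subtype.ext ha⟩⟩
      have hcard : Nat.card ↥(P : Subgroup G) = 9 := by
        rw [← Nat.card_eq_of_bijective _ hb']; simp
      obtain ⟨k, hk⟩ := classInner_char_nat (G := ↥(P : Subgroup G))
        (isCharacter_restrict (P : Subgroup G) (irr_isCharacter χ))
        (isCharacter_one (G := ↥(P : Subgroup G)))
      rw [classInner_def, hcard] at hk
      simp only [map_one, mul_one] at hk
      have hX : ∀ a : ZMod 3 × ZMod 3, a ≠ 0 → OnAxis a →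
          (χ : G → ℂ) (J φ (dK a)) = (xz : ℂ) := fun a ha h => by
        rw [← hz, BlocksChars.ClassAlg.classFun_eq_of_isConj hcf (D.axis_conj ha h)]
      have hY : ∀ a : ZMod 3 × ZMod 3, ¬ OnAxis a → (χ : G → ℂ) (J φ (dK a)) = (xy : ℂ) := fun a h => by
        rw [← hy, BlocksChars.ClassAlg.classFun_eq_of_isConj hcf (D.off_conj h)]
      rw [← hb'.sum_comp fun g : ↥(P : Subgroup G) => (χ : G → ℂ) (g : G)] at hk
      simp only [Fintype.sum_prod_type] at hk
      rw [show (Finset.univ : Finset (ZMod 3)) = {0, 1, 2} from by decide] at hk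
      simp only [Finset.sum_insert (show (0 : ZMod 3) ∉ ({1, 2} : Finset (ZMod 3)) by decide),
        Finset.sum_insert (show (1 : ZMod 3) ∉ ({2} : Finset (ZMod 3)) by decide), Finset.sum_singleton,
        hX (0, 1) (by decide) (by decide), hX (0, 2) (by decide) (by decide),
        hX (1, 0) (by decide) (by decide), hX (2, 0) (by decide) (by decide), hY (1, 1) (by decide),
        hY (1, 2) (by decide), hY (2, 1) (by decide), hY (2, 2) (by decide)] at hk
      rw [show (((0 : ZMod 3), (0 : ZMod 3)) : ZMod 3 × ZMod 3) = 0 from rfl, dK_facts.2.2.2, map_one,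
        hf'] at hk
      refine ⟨(k : ℤ), ?_⟩
      have : ((((f' : ℤ) + 4 * xz + 4 * xy : ℤ)) : ℂ) = ((9 * (k : ℤ) : ℤ) : ℂ) := by
        push_cast at hk ⊢
        linear_combination (9 : ℂ) * hk
      exact_mod_cast this
    omega
  · left
    rw [hy] at hY0; rw [hxt] at hYt0; rw [ha] at hA0; rw [hb] at hB0
    obtain rfl : xy = 0 := by exact_mod_cast hY0
    obtain rfl : xt = 0 := by exact_mod_cast hYt0
    obtain rfl : a = 0 := by exact_mod_cast hA0
    obtain rfl : b = 0 := by exact_mod_cast hB0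
    simp [hv]

/-- The character. -/
theorem Data.main (hN : Nat.card (normalizer ((P : Subgroup G) : Set G)) = 72) :
    (Nat.card G = 20160 ∨ Nat.card G = 7200) ∧ ∃ (χ : Cfsg.IrrCharacter G) (d : ℕ), (d = 7 ∨ d = 8) ∧
      (χ : G → ℂ) 1 = (d : ℂ) ∧ (χ : G → ℂ) (J φ zK) = (d : ℂ) - 3 ∧
      (χ : G → ℂ) (J φ yK) = (d : ℂ) - 6 ∧ La φ phiA (χ : G → ℂ) = (d : ℂ) - 7 ∧
      La φ phiB (χ : G → ℂ) = 1 := by
  classical
  haveI := Fintype.ofFinite G
  haveI := Fintype.ofFinite (Cfsg.IrrCharacter G)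
  haveI : Fact (Nat.Prime 3) := ⟨Nat.prime_three⟩
  obtain ⟨M, hM⟩ := Perm.UniqueP.exists_modular Nat.prime_three
  choose f v hv hcase using D.exists_row hM
  set triv := trivIrr G with htriv
  have Y := fun χ => (hv χ).Y
  have T := fun χ => (hv χ).Yt
  have F : ∀ χ : Cfsg.IrrCharacter G, (χ : G → ℂ) 1 = (((f χ : ℤ)) : ℂ) := fun χ => by
    rw [(hv χ).one, Int.cast_natCast]
  obtain ⟨k10, k4, k3, k6, -⟩ := D.six
  have hyP : J φ yK ∈ (P : Subgroup G) := by rw [← dK_facts.2.2.1]; exact D.mem _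
  have hy3 : J φ yK ^ 3 = 1 := D.exp hyP
  obtain ⟨hz1, hy1, -⟩ := D.zy_ne
  have hz10 : ∀ g, g = 1 ∨ g = J φ yK ∨ g = J φ yK * t → ¬ IsConj (J φ zK) (g ^ 10) := by
    rintro g (rfl | rfl | rfl)
    · rw [one_pow]; exact fun h => hz1 (isConj_one_left.1 h)
    · rw [show 10 = 3 * 3 + 1 from rfl, pow_succ, pow_mul, hy3, one_pow, one_mul]
      exact D.not_conj_zy
    · rw [k10]; exact D.not_conj_zy
  have nYT : ¬ IsConj (J φ yK) (J φ yK * t) := fun h => by
    obtain ⟨c, hc⟩ := isConj_iff.1 h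
    have ht : t = 1 := by rw [← k3, ← hc, conj_pow, hy3, mul_one, mul_inv_cancel]
    have h2 := D.tz
    rw [ht, one_mul, mul_one] at h2
    have := D.Jinj h2
    revert this
    decide +kernel
  have nY1 : ¬ IsConj (J φ yK) 1 := fun h => hy1 (isConj_one_left.1 h)
  have nT1 : ¬ IsConj (J φ yK * t) 1 := fun h => hy1 (by
    rw [← k10, isConj_one_left.1 h, one_pow])
  -- orthogonality
  have cYY := (oct_column _ _ _ _ Y Y).1 (IsConj.refl _)
  have cTT := (oct_column _ _ _ _ T T).1 (IsConj.refl _)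
  have cYT := (oct_column _ _ _ _ Y T).2 nYT
  have cY1 := (oct_column _ _ _ _ Y F).2 nY1
  have cT1 := (oct_column _ _ _ _ T F).2 nT1
  rw [D.cardY] at cYY
  rw [k6] at cTT
  simp only [yv] at cYY cYT cY1
  have hAA : ∑ χ, (v χ).w * (v χ).w = 6 := by
    have h := D.gram phi_reg.1 phiA_class phi_reg.1
    rw [p_facts.2.2.2.2.2.2.2.2.2.2.1] at h
    simp only [(hv _).A, map_intCast] at h
    norm_num at h
    exact_mod_cast h
  have hAB : ∑ χ, (v χ).w * (v χ).u = 3 := by
    have h := D.gram phi_reg.1 phiB_class phi_reg.2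
    rw [p_facts.2.2.2.2.2.2.2.2.2.2.2.1] at h
    simp only [(hv _).A, (hv _).B, map_intCast] at h
    norm_num at h
    exact_mod_cast h
  have hBB : ∑ χ, (v χ).u * (v χ).u = 6 := by
    have h := D.gram phi_reg.2 phiB_class phi_reg.2
    rw [p_facts.2.2.2.2.2.2.2.2.2.2.2.2] at h
    simp only [(hv _).B, map_intCast] at h
    norm_num at h
    exact_mod_cast h
  have sec0 : ∀ (Φ : A5 → ℤ) (a : Cfsg.IrrCharacter G → ℤ), (∀ s, Φ s ≠ 0 → Reg s) →
      (∀ χ : Cfsg.IrrCharacter G, La φ Φ (χ : G → ℂ) = (a χ : ℂ)) →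
      (∑ χ, a χ * ((v χ).x + (v χ).y)) = 0 ∧ (∑ χ, a χ * ((v χ).x - (v χ).y)) = 0 ∧
        (∑ χ, a χ * (f χ : ℤ)) = 0 := by
    intro Φ a hΦ ha
    have h1 := D.gram_zero hΦ (hz10 _ (Or.inr (Or.inl rfl)))
    have h2 := D.gram_zero hΦ (hz10 _ (Or.inr (Or.inr rfl)))
    have h3 := D.gram_zero hΦ (hz10 _ (Or.inl rfl))
    simp only [ha, Y, T, F, yv, map_intCast] at h1 h2 h3
    exact ⟨by exact_mod_cast h1, by exact_mod_cast h2, by exact_mod_cast h3⟩
  obtain ⟨aY, aT, a1⟩ := sec0 phiA (fun χ => (v χ).w) phi_reg.1 fun χ => (hv χ).A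
  obtain ⟨bY, bT, b1⟩ := sec0 phiB (fun χ => (v χ).u) phi_reg.2 fun χ => (hv χ).B
  simp only [mul_add, mul_sub, add_mul, sub_mul, Finset.sum_add_distrib, Finset.sum_sub_distrib]
    at cYY cTT cYT cY1 cT1 aY aT bY bT
  have hcomm : ∀ p q : Cfsg.IrrCharacter G → ℤ, ∑ χ, p χ * q χ = ∑ χ, q χ * p χ := fun p q =>
    Finset.sum_congr rfl fun χ _ => mul_comm _ _
  rw [hcomm (fun χ => (v χ).y) fun χ => (v χ).x] at cYY cTT cYT
  push_cast at cYY cTT
  -- the trivial row
  set ones : V5 := ⟨1, 0, 0, 1, 0⟩ with hones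
  have hone : v triv = ones ∧ f triv = 1 := by
    obtain ⟨h1, h2, h3, h4, h5, h6⟩ := hv triv
    simp only [htriv, trivIrr_coe, La, mul_one, ← Int.cast_sum] at h1 h2 h3 h4 h5 h6
    rw [p_facts.2.2.2.2.1] at h4
    rw [p_facts.2.2.2.2.2.1] at h5
    norm_num at h4 h5
    have a : (v triv).x + (v triv).y = 1 := by
      rw [htriv]; simp only [yv] at h2; exact_mod_cast h2.symm
    have b : (v triv).x - (v triv).y = 1 := by rw [htriv]; exact_mod_cast h3.symm
    have d : (v triv).w = 1 := by rw [htriv]; exact_mod_cast h4.symm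
    have e : (v triv).u = 0 := by rw [htriv]; exact_mod_cast h5.symm
    refine ⟨?_, by rw [htriv]; exact_mod_cast h1.symm⟩
    rw [← htriv] at h6
    generalize v triv = V at a b d e h6
    obtain ⟨x, y, _, _, _⟩ := V
    simp only at a b d e h6
    obtain rfl : x = 1 := by omega
    obtain rfl : y = 0 := by omega
    subst d e h6
    rfl
  set zero : V5 := ⟨0, 0, 0, 0, 0⟩ with hzero
  set S := (Finset.univ.erase triv).filter fun χ => v χ ≠ zero with hS
  set sg : Cfsg.IrrCharacter G → ℤ := fun χ => if v χ ∈ cands then 1 else -1 with hsg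
  have sg2 : ∀ χ, sg χ * sg χ = 1 := fun χ => by simp only [hsg]; split_ifs <;> norm_num
  set can : Cfsg.IrrCharacter G → V5 := fun χ => scale (sg χ) (v χ) with hcan
  set sf : Cfsg.IrrCharacter G → ℤ := fun χ => sg χ * (f χ : ℤ) with hsf
  have hsplit : ∀ {R : Type} [AddCommMonoid R] (W : Cfsg.IrrCharacter G → R),
      (∀ χ, v χ = zero → W χ = 0) → ∑ χ, W χ = W triv + ∑ χ ∈ S, W χ := fun W hW => by
    rw [← Finset.add_sum_erase _ _ (Finset.mem_univ triv), hS]
    congr 1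
    symm
    exact Finset.sum_filter_of_ne (p := fun χ => v χ ≠ zero) fun χ _ h e => h (hW χ e)
  have gram : ∀ (p q : V5 → ℤ) (k : ℤ), (∀ s a, p (scale s a) = s * p a) →
      (∀ s a, q (scale s a) = s * q a) →
      (∑ χ, p (v χ) * q (v χ)) = k → ∑ χ ∈ S, p (can χ) * q (can χ) = k - p ones * q ones := by
    intro p q k hp hq hk
    have hp0 : p zero = 0 := by
      have := hp 0 zero
      rwa [zero_mul, show scale 0 zero = zero from rfl] at this
    rw [hsplit _ (fun χ e => by rw [e, hp0, zero_mul]), hone.1] at hk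
    rw [Finset.sum_congr rfl (g := fun χ => p (v χ) * q (v χ)) fun χ _ => by
      simp only [hcan, hp, hq]
      linear_combination (p (v χ) * q (v χ)) * sg2 χ]
    linarith
  have hzval : ∀ χ, (can χ).z = 0 := fun χ => by simp [hcan, scale, (hv χ).z]
  have hxw : ∑ χ, (v χ).x * (v χ).w = 0 := by rw [hcomm]; linarith
  have hxu : ∑ χ, (v χ).x * (v χ).u = 0 := by rw [hcomm]; linarith
  have hyw : ∑ χ, (v χ).y * (v χ).w = 0 := by rw [hcomm]; linarith
  have hyu : ∑ χ, (v χ).y * (v χ).u = 0 := by rw [hcomm]; linarith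
  set rows := S.toList.map can with hrows
  have htot : total rows = gram8 := by
    rw [hrows, total_map,
      gram (·.x) (·.x) 6 (fun _ _ => rfl) (fun _ _ => rfl) (by linarith),
      gram (·.y) (·.y) 6 (fun _ _ => rfl) (fun _ _ => rfl) (by linarith),
      gram (·.w) (·.w) _ (fun _ _ => rfl) (fun _ _ => rfl) hAA,
      gram (·.u) (·.u) _ (fun _ _ => rfl) (fun _ _ => rfl) hBB,
      gram (·.x) (·.y) 3 (fun _ _ => rfl) (fun _ _ => rfl) (by linarith),
      gram (·.x) (·.w) _ (fun _ _ => rfl) (fun _ _ => rfl) hxw,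
      gram (·.x) (·.u) _ (fun _ _ => rfl) (fun _ _ => rfl) hxu,
      gram (·.y) (·.w) _ (fun _ _ => rfl) (fun _ _ => rfl) hyw,
      gram (·.y) (·.u) _ (fun _ _ => rfl) (fun _ _ => rfl) hyu,
      gram (·.w) (·.u) _ (fun _ _ => rfl) (fun _ _ => rfl) hAB]
    simp [hzval, gram8, hones]
  have hmemS : ∀ χ ∈ S, can χ ∈ cands ∧ (χ : G → ℂ) (J φ zK) = (zv (v χ) : ℂ) ∧
      ((f χ : ℤ) + 4 * zv (v χ) + 4 * yv (v χ)) % 9 = 0 := by
    intro χ hχ
    obtain ⟨hz, h3, h9⟩ := (hcase χ).resolve_left (Finset.mem_filter.1 hχ).2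
    refine ⟨?_, hz, h9⟩
    have hbox : (gram8.subSq (v χ)).Ok = true := by
      have hr : can χ ∈ rows := List.mem_map.2 ⟨χ, Finset.mem_toList.2 hχ, rfl⟩
      have ht : total (rows.erase (can χ)) = gram8.subSq (can χ) := by
        rw [← htot, total_perm (List.perm_cons_erase hr), total, subSq_addSq]
      have hok := ok_total (rows.erase (can χ))
      rw [ht] at hok
      have e : gram8.subSq (can χ) = gram8.subSq (v χ) := by
        simp only [hcan, hsg]
        split_ifs <;> simp [scale, M5.subSq]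
      rwa [e] at hok
    have hb := hbox
    simp only [M5.Ok, decide_eq_true_eq] at hb
    simp only [M5.subSq, gram8] at hb
    obtain ⟨bx, by', -, bw, bu, -⟩ := hb
    obtain ⟨i, hi⟩ := natCast_oct_cases (x := (v χ).x) (c := 6) (b := 2) (by push_cast; linarith) (by norm_num)
    obtain ⟨j, hj⟩ := natCast_oct_cases (x := (v χ).y) (c := 6) (b := 2) (by push_cast; linarith) (by norm_num)
    obtain ⟨a, ha⟩ := natCast_oct_cases (x := (v χ).w) (c := 6) (b := 2) (by push_cast; linarith) (by norm_num)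
    obtain ⟨b, hb'⟩ := natCast_oct_cases (x := (v χ).u) (c := 6) (b := 2) (by push_cast; linarith) (by norm_num)
    have hc := cands_cover i j a b
    have hv5 : v χ = ⟨((i : ℕ) : ℤ) - 2, ((j : ℕ) : ℤ) - 2, 0, ((a : ℕ) : ℤ) - 2, ((b : ℕ) : ℤ) - 2⟩ := by
      push_cast at hi hj ha hb'
      rw [← hi, ← hj, ← (hv χ).z, ← ha, ← hb']
    rw [← hv5] at hc
    have h3' : ((v χ).x + (v χ).y - (v χ).w - 4 * (v χ).u) % 3 = 0 := by
      simp only [yv, zv] at h3; omega
    simp only [cover, hbox, h3', beq_self_eq_true, Bool.and_self, Bool.not_true,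
      Bool.false_or, decide_eq_true_eq] at hc
    rcases hc with h | h | h
    · exact absurd h (Finset.mem_filter.1 hχ).2
    · simp only [hcan, hsg, if_pos h, scale, one_mul]; exact h
    · simp only [hcan, hsg]
      split_ifs with h'
      · simp only [scale, one_mul]; exact h'
      · simp only [scale, neg_one_mul]; exact h
  obtain ⟨l, hl, hperm⟩ := eight_rows (rows := rows) (fun a ha => by
    obtain ⟨χ, hχ, rfl⟩ := List.mem_map.1 ha
    exact (hmemS χ (Finset.mem_toList.1 hχ)).1) htot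
  obtain ⟨ls, hls, hlmap⟩ := perm_lift can l S.toList hperm
  have hmap : ∀ g : V5 → ℤ, l.map g = ls.map fun χ => g (can χ) := fun g => by
    rw [← hlmap, List.map_map]; rfl
  have hmemls : ∀ χ ∈ ls, χ ∈ S := fun χ h => Finset.mem_toList.1 (hls.subset h)
  have hfne : ∀ χ, (f χ : ℤ) ≠ 0 := fun χ => by
    have := irr_one_ne_zero χ.2
    rw [(hv χ).one] at this
    exact_mod_cast this
  have sgne : ∀ χ, sg χ ≠ 0 := fun χ h => by have := sg2 χ; rw [h] at this; simp at this
  have hfit : Fits (ls.map sf) (l.map slot) := by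
    rw [← hlmap, List.map_map]
    unfold Fits
    rw [List.forall₂_map_left_iff, List.forall₂_map_right_iff, List.forall₂_same]
    intro χ hχ
    refine ⟨mul_ne_zero (sgne χ) (hfne χ), ?_, fun _ h => by simp [slot] at h, fun _ h => by simp [slot] at h⟩
    have h := (hmemS χ (hmemls χ hχ)).2.2
    simp only [hsf, hcan, hsg, Function.comp, slot, scale, zv, yv] at h ⊢
    split_ifs <;> omega
  -- the equations
  have cY1' : ∑ χ, (v χ).x * (f χ : ℤ) = 0 ∧ ∑ χ, (v χ).y * (f χ : ℤ) = 0 := by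
    constructor <;> linarith
  have colS : ∀ (p : V5 → ℤ), (∀ s a, p (scale s a) = s * p a) → (∑ χ, p (v χ) * (f χ : ℤ)) = 0 →
      ∑ χ ∈ S, p (can χ) * sf χ = - p ones := by
    intro p hp hk
    have hp0 : p zero = 0 := by
      have := hp 0 zero
      rwa [zero_mul, show scale 0 zero = zero from rfl] at this
    rw [hsplit _ (fun χ e => by rw [e, hp0, zero_mul]), hone.1, hone.2, Nat.cast_one, mul_one] at hk
    rw [Finset.sum_congr rfl (g := fun χ => p (v χ) * (f χ : ℤ)) fun χ _ => by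
      simp only [hcan, hsf, hp]
      linear_combination (p (v χ) * (f χ : ℤ)) * sg2 χ]
    linarith
  have sx := colS (·.x) (fun _ _ => rfl) cY1'.1
  have sy := colS (·.y) (fun _ _ => rfl) cY1'.2
  have sw := colS (·.w) (fun _ _ => rfl) a1
  have su := colS (·.u) (fun _ _ => rfl) b1
  set n : ℤ := (Nat.card G : ℤ) with hn
  have hsc : ∀ (x : G) (c : ℕ), Nat.card (centralizer ({x} : Set G)) = c →
      (BlocksChars.ClassAlg.classSize x : ℂ) * (c : ℂ) = (Nat.card G : ℂ) := fun x c hc => by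
    have hs := BlocksChars.ClassAlg.classSize_mul_card_centralizer x
    rw [hc] at hs
    exact_mod_cast hs
  have hnC : (Nat.card G : ℂ) ≠ 0 := natCard_ne_zero
  have cube1 : (n : ℚ) * ∑ χ, (zv (v χ) : ℚ) * zv (v χ) * yv (v χ) / (f χ : ℚ) = 64800 := by
    have h := Recognition.SelfCentNine.card_mul_eq (J φ zK) (J φ zK) (J φ yK)
    rw [D.count_two] at h
    rw [Finset.sum_congr rfl (g := fun χ =>
      ((((zv (v χ) : ℚ) * zv (v χ) * yv (v χ) / (f χ : ℚ) : ℚ)) : ℂ)) fun χ _ => by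
      rw [(hv χ).Y, (hv χ).one, map_intCast]
      rcases hcase χ with e | ⟨e, -⟩
      · simp [e, yv, hzero]
      · rw [e]; push_cast; ring, ← Rat.cast_sum] at h
    have hs := hsc _ _ D.cardz
    refine Rat.cast_injective (α := ℂ) ?_
    rw [hn]
    push_cast at h hs ⊢
    generalize (∑ χ, (zv (v χ) : ℂ) * zv (v χ) * yv (v χ) / (f χ : ℂ)) = W at h ⊢
    refine mul_left_cancel₀ hnC ?_
    linear_combination (-(W * ((BlocksChars.ClassAlg.classSize (J φ zK) : ℂ) * 180 + (Nat.card G : ℂ)))) * hs -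
      32400 * h
  have cube2 : (n : ℚ) * ∑ χ, (zv (v χ) : ℚ) * yv (v χ) * yv (v χ) / (f χ : ℚ) = 45360 := by
    have h := Recognition.SelfCentNine.card_mul_eq (J φ yK) (J φ yK) (J φ zK)
    rw [D.count_many] at h
    rw [Finset.sum_congr rfl (g := fun χ =>
      ((((zv (v χ) : ℚ) * yv (v χ) * yv (v χ) / (f χ : ℚ) : ℚ)) : ℂ)) fun χ _ => by
      rw [(hv χ).Y, (hv χ).one]
      rcases hcase χ with e | ⟨e, -⟩
      · simp [e, yv, hzero]
      · rw [e, map_intCast]; push_cast; ring, ← Rat.cast_sum] at h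
    have hs := hsc _ _ D.cardY
    refine Rat.cast_injective (α := ℂ) ?_
    rw [hn]
    push_cast at h hs ⊢
    generalize (∑ χ, (zv (v χ) : ℂ) * yv (v χ) * yv (v χ) / (f χ : ℂ)) = W at h ⊢
    refine mul_left_cancel₀ hnC ?_
    linear_combination (-(W * ((BlocksChars.ClassAlg.classSize (J φ yK) : ℂ) * 18 + (Nat.card G : ℂ)))) * hs -
      324 * h
  rw [hsplit _ (fun χ e => by simp [e, yv, hzero])] at cube1 cube2
  simp only [hone.1, hone.2] at cube1 cube2
  norm_num [zv, yv, hones] at cube1 cube2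
  have hwgt : ∀ α β : ℤ, (n : ℚ) * ((α + β : ℤ) + qsum (l.map fun a => α * K1 a + β * K2 a) (ls.map sf)) =
      ((64800 * α + 45360 * β : ℤ) : ℚ) := by
    intro α β
    rw [hmap, qsum_map, sum_perm_toList S hls]
    have hterm : ∀ χ, ((α * K1 (can χ) + β * K2 (can χ) : ℤ) : ℚ) / (sf χ : ℚ) =
        α * ((zv (v χ) : ℚ) * zv (v χ) * yv (v χ) / (f χ : ℚ)) +
          β * ((zv (v χ) : ℚ) * yv (v χ) * yv (v χ) / (f χ : ℚ)) := by
      intro χ
      simp only [hcan, hsf, hsg, K1, K2, zv, yv, scale]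
      split_ifs
      · push_cast; ring
      · have : (f χ : ℚ) ≠ 0 := by exact_mod_cast hfne χ
        push_cast; field_simp; ring
    simp only [hterm]
    rw [Finset.sum_add_distrib, ← Finset.mul_sum, ← Finset.mul_sum]
    simp only [zv, yv, Int.cast_add, Int.cast_mul, Int.cast_ofNat]
    linear_combination (α : ℚ) * cube1 + (β : ℚ) * cube2
  have hn72 : 72 ∣ Nat.card G := hN ▸ card_subgroup_dvd_card _
  have hn360 : 360 ∣ Nat.card G := card_pairs ▸ card_dvd_of_injective φ D.inj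
  have hindex : (normalizer ((P : Subgroup G) : Set G)).index = Nat.card G / 72 := by
    have := (normalizer ((P : Subgroup G) : Set G)).index_mul_card
    rw [hN] at this
    omega
  have h9 := D.card_sylow_mod
  rw [P.card_eq_index_normalizer] at h9
  change (normalizer ((P : Subgroup G) : Set G)).index % 9 = 1 at h9
  rw [hindex] at h9
  have hdeg : ∀ χ, (f χ : ℤ) ∣ n := fun χ => by
    obtain ⟨k, hk, -, hd⟩ := irr_degree_dvd_card χ.2
    have : k = f χ := by exact_mod_cast hk.symm.trans (hv χ).one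
    exact Int.natCast_dvd_natCast.2 (this ▸ hd)
  obtain ⟨hl5, hall⟩ := found hl hfit (n := n) fun F0 T0 hcons => by
    simp only [consistent, Bool.and_eq_true, decide_eq_true_eq, List.all_eq_true] at hcons
    obtain ⟨⟨⟨⟨heqs, hg⟩, hwts⟩, hdivs⟩, hd0⟩ := hcons
    refine ⟨?_, ?_, by rw [hn]; omega, by rw [hn]; omega, ?_, ?_⟩
    · intro e he
      rw [heqs, List.mem_map] at he
      obtain ⟨q, hq, rfl⟩ := he
      obtain ⟨⟨hq0, hqr⟩, hqc⟩ := hg q hq
      simp only
      rw [hmap, dot_map, sum_perm_toList S hls]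
      refine mul_left_cancel₀ hq0 ?_
      rw [Int.mul_ediv_cancel' (Int.dvd_of_emod_eq_zero hqr), Finset.mul_sum,
        Finset.sum_congr rfl (g := fun χ => q.1.1 * ((can χ).x * sf χ) + q.1.2.1 * ((can χ).y * sf χ) +
          q.1.2.2.1 * ((can χ).w * sf χ) + q.1.2.2.2 * ((can χ).u * sf χ)) fun χ hχ => by
          rw [← mul_assoc, Int.mul_ediv_cancel' (Int.dvd_of_emod_eq_zero (hqc (can χ) (hlmap ▸
            List.mem_map.2 ⟨χ, hls.symm.subset (Finset.mem_toList.2 hχ), rfl⟩)))]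
          simp only [form]; ring]
      simp only [Finset.sum_add_distrib, ← Finset.mul_sum, sx, sy, sw, su, hones, formRhs]
      ring
    · intro w hw
      rw [hwts, List.mem_map] at hw
      obtain ⟨⟨α, β⟩, -, rfl⟩ := hw
      exact hwgt α β
    · rw [sumSq_map, sum_perm_toList S hls, hn]
      have hsq := sum_degree_sq (G := G)
      simp only [(hv _).one] at hsq
      have hsq' : ∑ χ, (f χ : ℤ) * (f χ : ℤ) = (Nat.card G : ℤ) := by
        have : ((∑ χ, (f χ : ℤ) * (f χ : ℤ) : ℤ) : ℂ) = (((Nat.card G : ℤ)) : ℂ) := by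
          push_cast; rw [← hsq]; exact Finset.sum_congr rfl fun χ _ => by ring
        exact_mod_cast this
      rw [← hsq', ← Finset.add_sum_erase _ _ (Finset.mem_univ triv), hone.2,
        Finset.sum_congr rfl (g := fun χ => (f χ : ℤ) * (f χ : ℤ)) fun χ _ => by
          simp only [hsf]; linear_combination ((f χ : ℤ) * (f χ : ℤ)) * sg2 χ]
      simp only [Nat.cast_one, mul_one, add_le_add_iff_left]
      exact Finset.sum_le_sum_of_subset_of_nonneg (Finset.filter_subset _ _)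
        fun χ _ _ => mul_self_nonneg _
    · rw [hdivs, ← hlmap, List.map_map, List.forall₂_map_left_iff, List.forall₂_map_right_iff,
        List.forall₂_same]
      intro χ hχ
      refine Int.emod_eq_zero_of_dvd ?_
      have hχS := hmemls χ hχ
      have hc := hd0 (can χ) (hlmap ▸ List.mem_map.2 ⟨χ, hχ, rfl⟩)
      have hcz : zv (can χ) = sg χ * zv (v χ) := by simp only [hcan, zv, scale]; ring
      have hcy : yv (can χ) = sg χ * yv (v χ) := by simp only [hcan, yv, scale]; ring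
      have hu : IsUnit (sg χ) := IsUnit.of_mul_eq_one _ (sg2 χ)
      have hsfd : sf χ ∣ n := (IsUnit.mul_left_dvd hu).2 (hdeg χ)
      simp only [Function.comp]
      refine lcm_dvd_of (mul_ne_zero (sgne χ) (hfne χ)) (quot_dvd hc.1 hsfd ?_) (quot_dvd hc.2 hsfd ?_)
      · rw [hcz, hsf, mul_assoc, mul_left_comm n]
        exact mul_dvd_mul_left _ (centralizer_int D.cardz χ (hv χ).one (hmemS χ hχS).2.1)
      · rw [hcy, hsf, mul_assoc, mul_left_comm n]
        exact mul_dvd_mul_left _ (centralizer_int D.cardY χ (hv χ).one (hv χ).Y)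
  have hzip : l.zip (ls.map sf) = ls.map fun χ => (can χ, sf χ) := by
    rw [← hlmap, List.zip_map']
  have pick : ∀ (r : V5) (d : ℕ) , 0 < d → (r, (d : ℤ)) ∈ l.zip (ls.map sf) →
      ∃ χ : Cfsg.IrrCharacter G, (χ : G → ℂ) 1 = (d : ℂ) ∧ (χ : G → ℂ) (J φ zK) = (zv r : ℂ) ∧
        (χ : G → ℂ) (J φ yK) = (yv r : ℂ) ∧ La φ phiA (χ : G → ℂ) = (r.w : ℂ) ∧
        La φ phiB (χ : G → ℂ) = (r.u : ℂ) := by
    intro r d hd hm
    rw [hzip, List.mem_map] at hm
    obtain ⟨χ, hχ, e⟩ := hm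
    simp only [Prod.mk.injEq, hcan, hsf, hsg] at e
    obtain ⟨e1, e2⟩ := e
    have hpos : v χ ∈ cands := by
      by_contra h
      rw [if_neg h] at e2
      omega
    rw [if_pos hpos] at e1 e2
    have : f χ = d := by omega
    have hr : v χ = r := by rw [← e1]; simp [scale]
    subst hr this
    exact ⟨χ, (hv χ).one, (hmemS χ (hmemls χ hχ)).2.1, (hv χ).Y, (hv χ).A, (hv χ).B⟩
  subst hl5
  simp only [task5, List.mem_cons, Prod.mk.injEq, List.not_mem_nil, or_false] at hall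
  rcases hall with ⟨hnv, hf⟩ | ⟨hnv, hf⟩
  · refine ⟨Or.inl (by rw [hn] at hnv; omega), ?_⟩
    obtain ⟨χ, h1, h2, h3, h4, h5⟩ := pick ⟨0, 1, 0, 0, 1⟩ 7 (by norm_num) (by rw [hf]; decide)
    exact ⟨χ, 7, Or.inl rfl, h1, by rw [h2]; norm_num [zv], by rw [h3]; norm_num [yv],
      by rw [h4]; norm_num, by rw [h5]; norm_num⟩
  · refine ⟨Or.inr (by rw [hn] at hnv; omega), ?_⟩
    obtain ⟨χ, h1, h2, h3, h4, h5⟩ := pick ⟨1, 1, 0, 1, 1⟩ 8 (by norm_num) (by rw [hf]; decide)
    exact ⟨χ, 8, Or.inr rfl, h1, by rw [h2]; norm_num [zv], by rw [h3]; norm_num [yv],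
      by rw [h4]; norm_num, by rw [h5]; norm_num⟩

end Cfsg.Agent.EightLocal
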