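import Cfsg.Agent.Lib.EightLocal.Combin
import Cfsg.Agent.Lib.J1Order.Alt
import Cfsg.Agent.Lib.Characters.Inner

/-!
# The characters of degree one, four and five of `A₅` and its regular elements
-/

set_option autoImplicit false
set_option maxRecDepth 100000
set_option synthInstance.maxSize 10000
set_option linter.style.haveILetI false

namespace Cfsg.Agent.EightLocal

open Cfsg.Agent.Characters
open scoped ComplexConjugate

/-- The character of degree four. -/
def p4 (s : A5) : ℤ := J1Order.Alt.five (J1Order.Alt.cls s) - 1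

/-- The character of degree five. -/
def p5 (s : A5) : ℤ := J1Order.Alt.six (J1Order.Alt.cls s) - 1

/-- The projective character over the trivial module. -/
def phiA (s : A5) : ℤ := 1 + p5 s

/-- The projective character over the module of dimension four. -/
def phiB (s : A5) : ℤ := p4 s + p5 s

/-- The outer automorphism. -/
def flipA (s : A5) : A5 := (flipK (1, s)).2

/-- The sizes of the classes. -/
def csize (s : A5) : ℤ := ![1, 15, 20, 12, 12] (J1Order.Alt.cls s)

theorem p_facts :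
    (∑ s : A5, p4 s * p4 s) = 60 ∧ (∑ s : A5, p5 s * p5 s) = 60 ∧ p4 1 = 4 ∧ p5 1 = 5 ∧
    (∑ s : A5, phiA s) = 60 ∧ (∑ s : A5, phiB s) = 0 ∧
    (∑ s : A5, p4 s * phiA s) = 0 ∧ (∑ s : A5, p4 s * phiB s) = 60 ∧
    (∑ s : A5, p5 s * phiA s) = 60 ∧ (∑ s : A5, p5 s * phiB s) = 60 ∧
    (∑ s : A5, phiA s * phiA s) = 120 ∧ (∑ s : A5, phiA s * phiB s) = 60 ∧
    (∑ s : A5, phiB s * phiB s) = 120 := by
  decide +kernel

theorem phi_support : ∀ s : A5, ¬ Reg s → phiA s = 0 ∧ phiB s = 0 := by decide +kernel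

theorem phi_flip : ∀ s : A5, flipA (flipA s) = s ∧ phiA (flipA s) = phiA s ∧ phiB (flipA s) = phiB s := by
  decide +kernel

theorem flipK_split (c : C3) (s : A5) : flipK (c, s) = (c⁻¹, flipA s) := rfl

theorem csize_spec : ∀ s : A5, ((Finset.univ.filter fun h : A5 => h * s = s * h).card : ℤ) * csize s = 60 := by
  decide +kernel

theorem central_congr : ∀ s : A5,
    (4 ∣ csize s * p4 s ∧ (csize s * p4 s / 4 - csize s) % 3 = 0) ∧
      (5 ∣ csize s * p5 s ∧ (csize s * p5 s / 5 - csize s) % 3 = 0) := by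
  decide +kernel

theorem rA_class : J1Order.Alt.cls rA = 1 := by decide +kernel

theorem class_sum (f : Fin 5 → ℂ) : ∑ s : A5, f (J1Order.Alt.cls s) =
    f 0 + 15 * f 1 + 20 * f 2 + 12 * f 3 + 12 * f 4 := by
  have h : ∀ c : Fin 5, ((Finset.univ.filter fun s : A5 => J1Order.Alt.cls s = c).card) =
      (![1, 15, 20, 12, 12] c : ℕ) := by decide +kernel
  have hg : ∀ c : Fin 5, ∑ s ∈ Finset.univ.filter (fun s : A5 => J1Order.Alt.cls s = c),
      f (J1Order.Alt.cls s) = ((![1, 15, 20, 12, 12] c : ℕ) : ℂ) * f c := fun c => by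
    rw [Finset.sum_congr rfl fun s hs => show f (J1Order.Alt.cls s) = f c by rw [(Finset.mem_filter.1 hs).2],
      Finset.sum_const, h, nsmul_eq_mul]
  rw [← Finset.sum_fiberwise Finset.univ J1Order.Alt.cls, Finset.sum_congr rfl fun c _ => hg c,
    Fin.sum_univ_five]
  simp

theorem isGen_p4 : Cfsg.IsGeneralizedCharacter A5 fun s => (p4 s : ℂ) := by
  convert J1Order.Alt.isGen_ψ 0 using 1
  funext s
  simp [p4, J1Order.Alt.ψ, J1Order.Alt.ψi, J1Order.Alt.val]

theorem isGen_p5 : Cfsg.IsGeneralizedCharacter A5 fun s => (p5 s : ℂ) := by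
  convert isGen_sub (isGen_of_isCharacter isCharacter_one) (J1Order.Alt.isGen_ψ 3) using 1
  funext s
  simp [p5, J1Order.Alt.ψ, J1Order.Alt.ψi, J1Order.Alt.val]
  ring

theorem isGen_phiA : Cfsg.IsGeneralizedCharacter A5 fun s => (phiA s : ℂ) := by
  convert isGen_add (isGen_of_isCharacter isCharacter_one) isGen_p5 using 1
  funext s
  simp [phiA]

theorem isGen_phiB : Cfsg.IsGeneralizedCharacter A5 fun s => (phiB s : ℂ) := by
  convert isGen_add isGen_p4 isGen_p5 using 1
  funext s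
  simp [phiB]

theorem card_A5 : (Nat.card A5 : ℂ) = 60 := by
  rw [Nat.card_eq_fintype_card, show Fintype.card A5 = 60 by decide +kernel]
  norm_num

theorem classInner_int (f : A5 → ℂ) (p : A5 → ℤ) :
    Cfsg.classInner f (fun s => (p s : ℂ)) = (∑ s, f s * (p s : ℂ)) / 60 := by
  rw [classInner_def, card_A5]
  simp only [map_intCast]
  ring

theorem irr_p4 : Cfsg.IsIrrCharacter A5 fun s => (p4 s : ℂ) := by
  refine isIrr_of_gen_norm_one isGen_p4 ?_ (by simp [p_facts.2.2.1])
  rw [classInner_int]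
  simp only [← Int.cast_mul]
  rw [← Int.cast_sum, p_facts.1]
  norm_num

theorem irr_p5 : Cfsg.IsIrrCharacter A5 fun s => (p5 s : ℂ) := by
  refine isIrr_of_gen_norm_one isGen_p5 ?_ (by simp [p_facts.2.2.2.1])
  rw [classInner_int]
  simp only [← Int.cast_mul]
  rw [← Int.cast_sum, p_facts.2.1]
  norm_num

/-- The irreducible characters outside `1, 4, 5`. -/
theorem irr_cases {ψ : A5 → ℂ} (h : Cfsg.IsIrrCharacter A5 ψ) :
    ((ψ = fun _ => 1) ∨ (ψ = fun s => (p4 s : ℂ)) ∨ ψ = fun s => (p5 s : ℂ)) ∨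
      ((∑ s, ψ s * (phiA s : ℂ)) = 0 ∧ (∑ s, ψ s * (phiB s : ℂ)) = 0 ∧ 3 * ψ rA = - ψ 1) := by
  by_cases h1 : ψ = fun _ => 1
  · exact Or.inl (Or.inl h1)
  by_cases h4 : ψ = fun s => (p4 s : ℂ)
  · exact Or.inl (Or.inr (Or.inl h4))
  by_cases h5 : ψ = fun s => (p5 s : ℂ)
  · exact Or.inl (Or.inr (Or.inr h5))
  right
  have hsum : ∀ p : A5 → ℤ, (Cfsg.IsIrrCharacter A5 fun s => (p s : ℂ)) → (ψ ≠ fun s => (p s : ℂ)) →
      ∑ s, ψ s * (p s : ℂ) = 0 := by
    intro p hp hne
    have := classInner_isIrr_ne h hp hne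
    rw [classInner_int, div_eq_zero_iff] at this
    exact this.resolve_right (by norm_num)
  have e1 : ∑ s, ψ s = 0 := by
    have := hsum (fun _ => 1) (by simpa using (isIrrCharacter_one (G := A5))) (by simpa using h1)
    simpa using this
  have e4 := hsum p4 irr_p4 h4
  have e5 := hsum p5 irr_p5 h5
  refine ⟨?_, ?_, ?_⟩
  · simp only [phiA, Int.cast_add, Int.cast_one, mul_add, mul_one, Finset.sum_add_distrib, e1, e5,
      add_zero]
  · simp only [phiB, Int.cast_add, mul_add, Finset.sum_add_distrib, e4, e5, add_zero]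
  · have hcl : Cfsg.IsClassFunction A5 ψ := char_isClassFunction (isCharacter_of_isIrr h)
    have hv : ∀ s, ψ s = ψ (J1Order.Alt.rep (J1Order.Alt.cls s)) :=
      J1Order.Alt.eq_of_rep hcl (fun c => ψ (J1Order.Alt.rep c)) fun _ => rfl
    rw [Finset.sum_congr rfl fun s _ => hv s, class_sum fun c => ψ (J1Order.Alt.rep c)] at e1
    rw [Finset.sum_congr rfl (g := fun s => (fun c => ψ (J1Order.Alt.rep c) *
      ((J1Order.Alt.five c - 1 : ℤ) : ℂ)) (J1Order.Alt.cls s)) fun s _ => by rw [hv s, p4],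
      class_sum (fun c => ψ (J1Order.Alt.rep c) * ((J1Order.Alt.five c - 1 : ℤ) : ℂ))] at e4
    rw [Finset.sum_congr rfl (g := fun s => (fun c => ψ (J1Order.Alt.rep c) *
      ((J1Order.Alt.six c - 1 : ℤ) : ℂ)) (J1Order.Alt.cls s)) fun s _ => by rw [hv s, p5],
      class_sum (fun c => ψ (J1Order.Alt.rep c) * ((J1Order.Alt.six c - 1 : ℤ) : ℂ))] at e5
    rw [hv rA, rA_class]
    simp [J1Order.Alt.five, J1Order.Alt.six] at e4 e5
    have h0 : J1Order.Alt.rep 0 = 1 := rfl
    rw [← h0]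
    linear_combination (1 / 15 : ℂ) * e1 + (1 / 15 : ℂ) * e4 + (2 / 15 : ℂ) * e5

end Cfsg.Agent.EightLocal
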