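import Cfsg.Agent.Lib.SelfNine.OctBound

/-!
# Signed degrees and the order from reciprocal sums

A tree of interval refutations; the order is one more interval, of numbers congruent to `720`
modulo `3240`.
-/

set_option autoImplicit false

namespace Cfsg.Agent.EightLocal

open Cfsg.Agent.SelfNine

/-- The leaves close by one equation, one weighted sum, the sum of squares, a divisibility, the
finitely many orders left, an empty interval, or a listed solution. -/
inductive Cert where
  | split (i : ℕ) (q : ℤ) (l r : Cert)
  | splitN (q : ℤ) (l r : Cert)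
  | lin (e : ℕ)
  | wt (a : ℕ)
  | sq
  | div (i : ℕ)
  | cand
  | empty
  | emptyN
  | point

/-- The statement of the problem. -/
structure Task where
  eqs : List (List ℤ × ℤ)
  weights : List (ℤ × ℤ × List ℤ)
  divs : List ℤ
  allowed : List (ℤ × List ℤ)

/-- Round to the possible orders. -/
def normN (v : Iv) : Iv :=
  ⟨v.lo.map fun l => max 720 (l + (720 - l) % 3240), v.hi.map fun h => h - (h - 720) % 3240⟩

/-- Whether an interval misses a number. -/
def Iv.misses (v : Iv) (r : ℤ) : Bool :=
  (match v.lo with | some l => decide (r < l) | none => false) ||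
    (match v.hi with | some h => decide (h < r) | none => false)

/-- Whether `n * S = c` is impossible for `n` in the interval and `S` between the bounds. -/
def wtFail (c l h : ℤ) (N : Iv) : Bool :=
  match N.lo with
  | none => false
  | some nl =>
    decide (0 ≤ nl) &&
      ((if 0 ≤ l then decide (c < nl * l) else
          match N.hi with | some nh => decide (c < nh * l) | none => false) ||
        (if h ≤ 0 then decide (nl * h < c) else
          match N.hi with | some nh => decide (nh * h < c) | none => false))

/-- The least size of a nonzero number in the interval. -/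
def absLow (v : Iv) : ℤ :=
  match v.lo, v.hi with
  | some l, h =>
    if 0 < l then l
    else match h with
      | some h => if h < 0 then -h else 1
      | none => 1
  | none, some h => if h < 0 then -h else 1
  | none, none => 1

/-- Whether a fixed slot rules out the order. -/
def fixKills : List ℤ → List Slot → ℤ → Bool
  | d :: ds, b :: B, n =>
    (match b.2.lo, b.2.hi with
      | some l, some h => decide (l = h) && decide (n % (d * l) ≠ 0)
      | _, _ => false) || fixKills ds B n
  | _, _, _ => false

def candFail (ds : List ℤ) (B : List Slot) : ℕ → ℤ → ℤ → Bool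
  | 0, _, _ => false
  | k + 1, n, h => decide (h < n) || (fixKills ds B n && candFail ds B k (n + 3240) h)

def check (T : Task) : Cert → List Slot → Iv → Bool
  | .split i q l r, B, N =>
    check T l (restrict i ⟨none, some q⟩ B) N && check T r (restrict i ⟨some (q + 1), none⟩ B) N
  | .splitN q l r, B, N =>
    check T l B (normN (N.inter ⟨none, some q⟩)) && check T r B (normN (N.inter ⟨some (q + 1), none⟩))
  | .lin e, B, _ =>
    Iv.misses (sumIv (T.eqs.getD e ([], 0)).1 B) (T.eqs.getD e ([], 0)).2
  | .wt a, B, N =>
    let w := T.weights.getD a (0, 0, [])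
    let s := sumBnd w.2.2 B
    wtFail (1000000 * w.1) (1000000 * w.2.1 + s.1) (1000000 * w.2.1 + s.2) N
  | .sq, B, N => match N.hi with | some h => decide (h < 1 + sumSqLow B) | none => false
  | .div i, B, N =>
    match T.divs[i]?, B[i]?, N.hi with
    | some d, some b, some h => decide (0 ≤ d) && decide (h < d * absLow b.2)
    | _, _, _ => false
  | .cand, B, N =>
    match N.lo, N.hi with
    | some l, some h => decide (l % 3240 = 720) && candFail T.divs B 62 l h
    | _, _ => false
  | .empty, B, _ => B.any fun b => b.2.empty
  | .emptyN, _, N => N.empty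
  | .point, B, N =>
    match points B, N.lo, N.hi with
    | some f, some l, some h => decide (l = h) && decide ((l, f) ∈ T.allowed)
    | _, _, _ => false

theorem check_split_of {T : Task} {i : ℕ} {q : ℤ} {l r : Cert} {B : List Slot} {N : Iv}
    (hl : check T l (restrict i ⟨none, some q⟩ B) N = true)
    (hr : check T r (restrict i ⟨some (q + 1), none⟩ B) N = true) :
    check T (.split i q l r) B N = true := by
  simp [check, hl, hr]

theorem check_splitN_of {T : Task} {q : ℤ} {l r : Cert} {B : List Slot} {N : Iv}
    (hl : check T l B (normN (N.inter ⟨none, some q⟩)) = true)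
    (hr : check T r B (normN (N.inter ⟨some (q + 1), none⟩)) = true) :
    check T (.splitN q l r) B N = true := by
  simp [check, hl, hr]

/-- The conditions on a solution. -/
structure Sol (T : Task) (n : ℤ) (f : List ℤ) : Prop where
  lin : ∀ e ∈ T.eqs, dot e.1 f = e.2
  wsum : ∀ w ∈ T.weights, (n : ℚ) * (w.2.1 + qsum w.2.2 f) = w.1
  pos : 720 ≤ n
  mod : n % 3240 = 720
  sq : 1 + sumSq f ≤ n
  dvd : List.Forall₂ (fun d x => n % (d * x) = 0) T.divs f

theorem mem_normN {v : Iv} {n : ℤ} (h0 : 720 ≤ n) (hm : n % 3240 = 720) (h : v.Mem n) :
    (normN v).Mem n := by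
  obtain ⟨a, b⟩ := v
  refine ⟨fun l hl => ?_, fun l hl => ?_⟩
  · cases a with
    | none => simp [normN] at hl
    | some a =>
      have := h.1 _ rfl
      simp only [normN, Option.map_some, Option.some.injEq] at hl
      omega
  · cases b with
    | none => simp [normN] at hl
    | some b =>
      have := h.2 _ rfl
      simp only [normN, Option.map_some, Option.some.injEq] at hl
      omega

theorem misses_sound {v : Iv} {x r : ℤ} (h : v.Mem x) (hm : Iv.misses v r = true) : x ≠ r := by
  obtain ⟨a, b⟩ := v
  rintro rfl
  simp only [Iv.misses, Bool.or_eq_true] at hm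
  rcases hm with hm | hm
  · cases a with
    | none => simp at hm
    | some a => have := h.1 _ rfl; simp at hm; omega
  · cases b with
    | none => simp at hm
    | some b => have := h.2 _ rfl; simp at hm; omega

theorem wtFail_sound {c l h : ℤ} {N : Iv} {n : ℤ} {S : ℚ} (hN : N.Mem n) (hl : (l : ℚ) ≤ S)
    (hh : S ≤ (h : ℚ)) (he : (n : ℚ) * S = (c : ℚ)) : wtFail c l h N = false := by
  obtain ⟨a, b⟩ := N
  cases a with
  | none => rfl
  | some nl =>
    by_contra hcon
    simp only [wtFail, Bool.not_eq_false, Bool.and_eq_true, Bool.or_eq_true, decide_eq_true_eq] at hcon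
    obtain ⟨h0, hcase⟩ := hcon
    have hnl : (nl : ℚ) ≤ n := by exact_mod_cast hN.1 _ rfl
    have h0' : (0 : ℚ) ≤ nl := by exact_mod_cast h0
    have hn0 : (0 : ℚ) ≤ n := h0'.trans hnl
    have p1 := mul_le_mul_of_nonneg_left hl hn0
    have p2 := mul_le_mul_of_nonneg_left hh hn0
    rcases hcase with hcase | hcase
    · split_ifs at hcase with hl0
      · have hc := (Int.cast_lt (R := ℚ)).2 (of_decide_eq_true hcase)
        have : (nl : ℚ) * l ≤ (n : ℚ) * l := mul_le_mul_of_nonneg_right hnl (by exact_mod_cast hl0)
        push_cast at hc; linarith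
      · cases b with
        | none => simp at hcase
        | some nh =>
          have hc := (Int.cast_lt (R := ℚ)).2 (of_decide_eq_true hcase)
          have hnh : (n : ℚ) ≤ nh := by exact_mod_cast hN.2 _ rfl
          have : (nh : ℚ) * l ≤ (n : ℚ) * l :=
            mul_le_mul_of_nonpos_right hnh (by exact_mod_cast (not_le.1 hl0).le)
          push_cast at hc; linarith
    · split_ifs at hcase with hh0
      · have hc := (Int.cast_lt (R := ℚ)).2 (of_decide_eq_true hcase)
        have : (n : ℚ) * h ≤ (nl : ℚ) * h := mul_le_mul_of_nonpos_right hnl (by exact_mod_cast hh0)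
        push_cast at hc; linarith
      · cases b with
        | none => simp at hcase
        | some nh =>
          have hc := (Int.cast_lt (R := ℚ)).2 (of_decide_eq_true hcase)
          have hnh : (n : ℚ) ≤ nh := by exact_mod_cast hN.2 _ rfl
          have : (n : ℚ) * h ≤ (nh : ℚ) * h :=
            mul_le_mul_of_nonneg_right hnh (by exact_mod_cast (not_le.1 hh0).le)
          push_cast at hc; linarith

theorem absLow_le {v : Iv} {x : ℤ} (h0 : x ≠ 0) (h : v.Mem x) : absLow v ≤ |x| := by
  obtain ⟨a, b⟩ := v
  have h1 : 1 ≤ |x| := Int.one_le_abs h0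
  unfold absLow
  cases a <;> cases b <;> simp only <;> try exact h1
  all_goals split_ifs <;> try exact h1
  all_goals
    first
    | (have := h.1 _ rfl; have := le_abs_self x; omega)
    | (have := h.2 _ rfl; have := neg_le_abs x; omega)

theorem fixKills_sound {n : ℤ} : ∀ (ds : List ℤ) (B : List Slot) (f : List ℤ), Fits f B →
    List.Forall₂ (fun d x => n % (d * x) = 0) ds f → fixKills ds B n = false := by
  intro ds
  induction ds with
  | nil => intro B f _ _; rfl
  | cons d ds ih =>
    intro B f hf hd
    cases hd with
    | @cons _ x _ f hx hd =>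
      cases hf with
      | @cons _ b _ B hb hf =>
        obtain ⟨R, ⟨lo, hi⟩⟩ := b
        simp only [fixKills, ih B f hf hd, Bool.or_false]
        cases lo <;> cases hi <;> try rfl
        rename_i l h
        have h1 := hb.2.2.1 _ rfl
        have h2 := hb.2.2.2 _ rfl
        by_cases e : l = h
        · subst e
          obtain rfl : x = l := by omega
          simp [hx]
        · simp [e]

theorem candFail_sound {T : Task} {B : List Slot} {f : List ℤ} {n : ℤ} (hf : Fits f B)
    (hd : List.Forall₂ (fun d x => n % (d * x) = 0) T.divs f) :
    ∀ (k : ℕ) (l h : ℤ), l % 3240 = n % 3240 → l ≤ n → n ≤ h → candFail T.divs B k l h = false := by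
  intro k
  induction k with
  | zero => intros; rfl
  | succ k ih =>
    intro l h hm hl hh
    simp only [candFail]
    by_cases e : l = n
    · subst e
      simp [fixKills_sound _ _ _ hf hd, not_lt.2 hh]
    · rw [ih (l + 3240) h (by omega) (by omega) hh, Bool.and_false, Bool.or_false]
      simp [not_lt.2 (hl.trans hh)]

theorem getElem?_forall₂ {α β : Type*} {R : α → β → Prop} : ∀ {l : List α} {m : List β},
    List.Forall₂ R l m → ∀ {i : ℕ} {a : α} {b : β}, l[i]? = some a → m[i]? = some b → R a b := by
  intro l m h
  induction h with
  | nil => intro i a b ha; simp at ha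
  | cons hab _ ih =>
    intro i a b ha hb
    cases i with
    | zero => simp at ha hb; subst ha hb; exact hab
    | succ i => simp at ha hb; exact ih ha hb

theorem check_sound (T : Task) : ∀ (C : Cert) (B : List Slot) (N : Iv) (n : ℤ) (f : List ℤ),
    Fits f B → N.Mem n → Sol T n f → check T C B N = true → (n, f) ∈ T.allowed := by
  intro C
  induction C with
  | split i q l r ihl ihr =>
    intro B N n f hf hN hs h
    simp only [check, Bool.and_eq_true] at h
    by_cases hle : ∀ x, f[i]? = some x → x ≤ q
    · exact ihl _ _ n f (fits_restrict i _ f B hf fun x hx =>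
        ⟨fun l hl => by simp at hl, fun l hl => by cases hl; exact hle x hx⟩) hN hs h.1
    · push Not at hle
      obtain ⟨y, hy, hlt⟩ := hle
      exact ihr _ _ n f (fits_restrict i _ f B hf fun x hx =>
        ⟨fun l hl => by
          cases hl
          rw [hy] at hx; cases hx
          omega, fun l hl => by simp at hl⟩) hN hs h.2
  | splitN q l r ihl ihr =>
    intro B N n f hf hN hs h
    simp only [check, Bool.and_eq_true] at h
    by_cases hle : n ≤ q
    · exact ihl B _ n f hf (mem_normN hs.pos hs.mod (mem_inter hN
        ⟨fun a ha => by simp at ha, fun a ha => by cases ha; exact hle⟩)) hs h.1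
    · exact ihr B _ n f hf (mem_normN hs.pos hs.mod (mem_inter hN
        ⟨fun a ha => by cases ha; omega, fun a ha => by simp at ha⟩)) hs h.2
  | lin e =>
    intro B N n f hf _ hs h
    simp only [check] at h
    refine absurd ?_ (misses_sound (mem_sumIv _ f B hf) h)
    rcases Nat.lt_or_ge e T.eqs.length with hlt | hge
    · rw [List.getD_eq_getElem _ _ hlt]; exact hs.lin _ (List.getElem_mem hlt)
    · rw [List.getD_eq_default _ _ hge]; rfl
  | wt a =>
    intro B N n f hf hN hs h
    simp only [check] at h
    set w := T.weights.getD a (0, 0, []) with hw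
    obtain ⟨hlo, hhi⟩ := sumBnd_spec w.2.2 f B hf
    have he : (n : ℚ) * (w.2.1 + qsum w.2.2 f) = w.1 := by
      rcases Nat.lt_or_ge a T.weights.length with hlt | hge
      · rw [hw, List.getD_eq_getElem _ _ hlt]; exact hs.wsum _ (List.getElem_mem hlt)
      · rw [hw, List.getD_eq_default _ _ hge]; simp [qsum]
    rw [wtFail_sound (S := 1000000 * ((w.2.1 : ℚ) + qsum w.2.2 f)) hN (by push_cast; linarith)
      (by push_cast; linarith) (by push_cast; linear_combination (1000000 : ℚ) * he)] at h
    exact absurd h Bool.false_ne_true
  | sq =>
    intro B N n f hf hN hs h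
    obtain ⟨a, b⟩ := N
    cases b with
    | none => simp [check] at h
    | some b =>
      simp only [check, decide_eq_true_eq] at h
      have := hN.2 _ rfl
      linarith [sumSqLow_le f B hf, hs.sq]
  | div i =>
    intro B N n f hf hN hs h
    simp only [check] at h
    split at h
    · rename_i d b hh hd hb hhi
      simp only [Bool.and_eq_true, decide_eq_true_eq] at h
      have hlen := hf.length_eq
      obtain ⟨x, hx⟩ : ∃ x, f[i]? = some x :=
        ⟨f[i]'(by have := (List.getElem?_eq_some_iff.1 hb).1; omega), List.getElem?_eq_getElem _⟩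
      have hxb := getElem?_forall₂ hf hx hb
      have hdx := getElem?_forall₂ hs.dvd hd hx
      have h1 : d * |x| ≤ n := by
        have h2 : (d * x) ∣ n := Int.dvd_of_emod_eq_zero hdx
        have h3 := Int.le_of_dvd (by linarith [hs.pos]) ((abs_dvd _ _).2 h2)
        rwa [abs_mul, abs_of_nonneg h.1] at h3
      have h4 := hN.2 _ hhi
      have h5 := mul_le_mul_of_nonneg_left (absLow_le hxb.1 hxb.2.2) h.1
      linarith
    · simp at h
  | cand =>
    intro B N n f hf hN hs h
    simp only [check] at h
    split at h
    · rename_i l hh hl hhi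
      simp only [Bool.and_eq_true, decide_eq_true_eq] at h
      rw [candFail_sound hf hs.dvd 62 l hh (by rw [h.1, hs.mod]) (hN.1 _ hl) (hN.2 _ hhi)] at h
      exact absurd h.2 Bool.false_ne_true
    · simp at h
  | empty =>
    intro B N n f hf _ _ h
    obtain ⟨b, hb, hbe⟩ := List.any_eq_true.1 h
    obtain ⟨x, hxb⟩ := fits_mem hf b hb
    rw [not_empty hxb] at hbe
    exact absurd hbe (by simp)
  | emptyN =>
    intro B N n f _ hN _ h
    simp only [check] at h
    rw [not_empty hN] at h
    exact absurd h (by simp)
  | point =>
    intro B N n f hf hN _ h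
    simp only [check] at h
    split at h
    · rename_i g l hh hg hl hhi
      simp only [Bool.and_eq_true, decide_eq_true_eq] at h
      obtain rfl := fits_points f B hf g hg
      have := hN.1 _ hl
      have := hN.2 _ hhi
      rw [show n = l by omega]
      exact h.2
    · simp at h

end Cfsg.Agent.EightLocal
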