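import Cfsg.Agent.Lib.EightLocal.Task0

/-!
# Search trees of family 0, part 0
-/

set_option autoImplicit false
set_option maxRecDepth 20000
set_option Elab.async false

namespace Cfsg.Agent.EightLocal

open Cfsg.Agent.SelfNine

def cert0_0_0 : Cert :=
  (.split 4 (-1) (.split 3 9 (.lin 6) (.splitN 604800 (.split 2 6704 (.split 3 3352 (.split 1
    (-12) (.split 0 (-14) (.splitN 23625 (.wt 1) (.splitN 311556 (.split 0 (-555) .sq (.split 2
    547 (.splitN 284114 (.split 1 (-532) .sq (.split 5 518 (.split 2 61 (.splitN 161597 (.split 1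
    (-399) .sq (.split 2 20 (.split 1 (-166) (.wt 2) (.split 5 158 (.split 1 (-144) (.wt 2)
    (.split 0 (-77) (.lin 0) (.split 5 25 (.split 1 (-39) (.lin 3) (.split 5 10 (.wt 2) (.split 1
    (-25) (.split 6 (-8) (.split 3 18 (.lin 6) (.split 5 22 (.lin 5) (.splitN 41744 (.splitN
    28036 (.wt 1) (.split 2 13 (.wt 0) (.wt 0))) (.wt 1)))) (.lin 5)) (.lin 4)))) (.split 1 (-38)
    (.split 0 (-23) (.split 3 18 (.lin 1) (.split 6 (-17) (.split 5 40 (.lin 5) (.split 2 7 (.wt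
    0) (.split 1 (-129) (.lin 0) (.split 5 113 (.splitN 34388 (.wt 0) (.split 1 (-70) (.split 0
    (-45) (.split 3 36 (.lin 1) (.split 5 58 (.lin 3) (.split 1 (-81) (.split 0 (-50) (.split 1
    (-92) (.split 5 76 (.lin 3) (.split 1 (-117) (.wt 2) (.split 5 95 (.split 1 (-108) (.wt 4)
    (.split 0 (-59) (.lin 0) (.split 1 (-93) (.lin 0) (.split 5 77 (.splitN 36596 (.wt 0) (.wt
    4)) (.lin 3))))) (.lin 3)))) (.lin 0)) (.lin 0)) (.wt 2)))) (.lin 0)) (.wt 2))) (.lin 3)))))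
    (.lin 5))) (.lin 0)) (.lin 3))))) (.lin 3))) (.split 1 (-29) (.split 5 169 (.split 1 (-228)
    (.lin 3) (.split 5 72 (.split 1 (-129) (.lin 3) (.split 5 32 (.split 1 (-93) (.lin 3) (.split
    0 (-77) (.lin 0) (.split 1 (-88) (.lin 4) (.split 5 21 (.split 6 (-8) (.lin 5) (.split 5 5
    (.wt 2) (.lin 5))) (.wt 2))))) (.wt 2))) (.wt 2))) (.wt 2)) (.lin 3)))) (.wt 3)) (.split 1
    (-74) (.splitN 83775 (.split 5 7 (.wt 2) (.split 6 (-8) (.split 5 22 (.lin 5) (.split 1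
    (-302) .sq (.wt 2))) (.lin 5))) (.wt 5)) (.lin 3))) (.lin 3))) (.wt 3)) (.lin 7))) (.wt 3)))
    (.lin 0)) (.wt 2)) (.div 3)) (.div 2)) (.wt 1))) (.splitN 226800 (.split 3 1246 (.split 5
    1246 (.split 6 (-620) (.lin 5) (.split 3 613 (.split 4 613 (.split 1 (-12) (.split 0 (-14)
    (.splitN 179252 (.split 0 (-423) .sq (.split 1 (-822) (.lin 0) (.split 2 412 (.splitN 167315
    (.split 1 (-407) .sq (.split 5 392 (.split 6 (-197) (.lin 5) (.split 4 190 (.split 2 53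
    (.splitN 109539 (.split 1 (-328) .sq (.split 5 320 (.split 6 (-161) (.lin 5) (.split 4 154
    (.split 2 19 (.splitN 58721 (.split 1 (-236) .sq (.split 0 (-122) (.lin 0) (.split 4 109
    (.split 5 33 (.split 1 (-48) (.lin 3) (.split 0 (-32) (.lin 0) (.split 1 (-43) (.lin 4)
    (.split 6 (-17) (.lin 5) (.split 3 10 (.split 4 10 (.split 3 3 (.split 4 3 (.split 0 (-19)
    (.lin 1) (.split 2 15 (.lin 1) (.split 1 (-21) (.lin 0) (.splitN 20571 (.wt 0) (.wt 0)))))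
    (.split 1 (-29) (.split 5 13 (.lin 3) (.split 6 (-8) (.split 5 22 (.lin 5) (.splitN 16986
    (.wt 0) (.wt 1))) (.lin 5))) (.lin 2))) (.split 1 (-29) (.split 5 13 (.lin 3) (.split 6 (-8)
    (.split 5 22 (.lin 5) (.split 4 1 (.splitN 16986 (.wt 0) (.wt 1)) (.lin 6))) (.lin 5))) (.lin
    2))) (.lin 6)) (.lin 6)))))) (.split 1 (-47) (.split 0 (-27) (.split 6 (-21) (.splitN 38027
    (.split 5 202 (.split 1 (-210) (.lin 3) (.split 1 (-183) .sq (.split 5 176 (.split 6 (-89)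
    (.lin 5) (.split 3 82 (.split 3 9 (.split 4 9 (.lin 1) (.split 4 18 (.lin 6) (.splitN 20527
    (.split 2 11 (.splitN 17067 (.split 5 94 (.split 1 (-93) (.lin 3) (.split 0 (-50) (.lin 0)
    (.split 1 (-84) (.lin 0) (.split 5 77 (.wt 1) (.lin 3))))) (.div 5)) (.wt 0)) (.wt 0)) (.wt
    1)))) (.split 4 73 (.split 4 8 (.split 3 18 (.lin 6) (.splitN 20527 (.split 2 11 (.splitN
    17067 (.split 5 94 (.split 1 (-93) (.lin 3) (.split 0 (-50) (.lin 0) (.split 1 (-84) (.lin 0)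
    (.split 5 77 (.wt 1) (.lin 3))))) (.div 5)) (.wt 0)) (.wt 0)) (.wt 1))) (.splitN 24467 (.wt
    1) (.split 2 7 (.wt 0) (.split 1 (-82) (.split 0 (-50) (.split 1 (-92) (.split 5 76 (.lin 3)
    (.splitN 36203 (.split 1 (-106) (.split 5 94 (.lin 3) (.split 1 (-113) (.split 0 (-68)
    (.split 1 (-128) (.split 5 112 (.lin 3) (.split 6 (-57) .sq (.lin 5))) (.lin 0)) (.lin 0))
    (.wt 2))) (.wt 2)) (.wt 1))) (.lin 0)) (.lin 0)) (.wt 2))))) (.lin 6))) (.lin 6))) (.lin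
    3)))) (.div 5)) (.wt 1)) (.lin 5)) (.lin 0)) (.lin 3))) (.lin 1)))) (.wt 3)) (.splitN 16983
    (.wt 5) (.split 5 63 (.split 1 (-111) (.lin 3) (.split 6 (-31) (.lin 5) (.split 3 28 (.split
    4 28 (.split 5 22 (.split 6 (-8) (.lin 5) (.split 3 1 (.split 4 1 (.wt 1) (.lin 6)) (.lin
    6))) (.wt 2)) (.lin 6)) (.lin 6)))) (.wt 2)))) (.lin 6))) (.lin 3))) (.wt 3)) (.split 1 (-65)
    (.splitN 18002 (.wt 0) (.split 5 22 (.split 6 (-8) (.lin 5) (.split 3 1 (.split 5 5 (.split 4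
    1 (.splitN 21216 (.split 2 224 (.split 1 (-98) (.wt 0) (.split 0 (-91) (.lin 2) (.split 2 88
    (.wt 1) (.lin 1)))) (.div 2)) (.wt 0)) (.lin 6)) (.lin 5)) (.lin 6))) (.wt 2))) (.lin 3)))
    (.lin 6))) (.lin 3))) (.wt 3)) (.lin 1)))) (.wt 3)) (.lin 0)) (.wt 2)) (.lin 6)) (.lin 6)))
    (.div 5)) (.div 3)) (.wt 1)))

def cert0_0_1 : Cert :=
  (.split 1 53 (.wt 2) (.split 0 62 (.lin 0) (.split 0 71 (.lin 4) (.split 2 (-83) (.split 0 258
    (.split 1 421 (.split 1 241 (.splitN 72968 (.split 2 (-249) .sq (.split 5 185 (.split 6 (-94)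
    (.lin 5) (.split 3 (-235) .sq (.split 4 325 (.split 4 235 (.split 1 116 (.splitN 68656
    (.split 5 25 (.wt 2) (.split 2 (-92) (.split 0 76 (.lin 4) (.split 6 (-17) (.split 5 40 (.lin
    5) (.split 2 (-101) (.split 4 27 (.lin 6) (.split 1 63 (.wt 2) (.split 0 85 (.lin 0) (.split
    2 (-110) (.split 2 (-223) .sq (.split 0 166 (.split 3 (-194) .sq (.split 3 (-37) (.split 4 63
    (.lin 6) (.splitN 58364 (.split 1 114 (.split 2 (-187) .sq (.split 4 163 (.split 1 88 (.split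
    5 47 (.wt 2) (.split 6 (-26) (.split 5 58 (.lin 5) (.split 2 (-128) (.split 4 72 (.lin 6)
    (.splitN 55798 (.split 5 61 (.wt 1) (.split 0 103 (.lin 4) (.split 6 (-35) (.split 5 76 (.lin
    5) (.split 2 (-146) (.split 4 81 (.lin 6) .sq) (.lin 3))) (.lin 5)))) (.wt 1))) (.lin 3)))
    (.lin 5))) (.split 0 116 (.lin 4) (.split 2 (-128) (.split 2 (-137) (.split 5 86 (.split 6
    (-44) (.lin 5) (.splitN 52801 (.wt 0) (.split 3 (-68) (.wt 1) (.split 4 100 (.split 1 105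
    (.wt 3) (.wt 1)) (.lin 6))))) (.lin 3)) (.lin 3)) (.lin 0)))) .sq)) (.wt 2)) (.wt 1)))
    (.split 4 127 (.split 1 92 (.splitN 61679 (.split 5 47 (.wt 2) (.split 2 (-119) (.split 0 94
    (.lin 4) (.split 6 (-26) (.split 5 58 (.lin 5) (.split 2 (-128) (.split 4 36 (.lin 6) (.split
    2 (-197) .sq (.split 0 139 (.split 5 122 (.split 6 (-62) (.lin 5) (.split 5 113 (.split 1 72
    (.wt 2) (.split 2 (-137) (.split 3 (-17) (.split 4 45 (.lin 6) (.splitN 56983 (.split 2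
    (-177) .sq (.split 0 130 (.split 4 82 (.split 5 77 (.split 6 (-40) (.lin 5) (.split 4 73
    (.splitN 52743 (.wt 1) (.split 1 83 (.wt 0) (.split 0 112 (.lin 0) (.split 2 (-146) (.split 2
    (-155) (.wt 0) (.split 5 59 (.wt 0) (.lin 3))) (.lin 0))))) (.lin 6))) (.split 0 121 (.lin 4)
    (.split 1 83 (.split 2 (-173) (.split 4 63 (.lin 1) (.split 5 94 (.lin 3) (.split 6 (-48) .sq
    (.lin 5)))) (.lin 0)) (.lin 4)))) (.lin 2)) (.lin 0))) (.wt 0))) (.split 4 64 (.splitN 57499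
    (.wt 1) (.split 1 80 (.wt 0) (.split 0 112 (.lin 0) (.split 5 95 (.split 2 (-159) (.wt 0)
    (.split 0 121 (.split 2 (-147) (.lin 0) (.split 4 37 (.split 5 59 (.wt 0) (.lin 3)) (.lin
    1))) (.lin 0))) (.lin 4))))) (.lin 2))) (.lin 3))) (.lin 5))) (.lin 3)) (.lin 0)))) (.lin
    3))) (.lin 5))) (.lin 3))) (.wt 5)) (.split 4 100 (.split 2 (-137) (.split 5 122 (.split 6
    (-62) (.lin 5) (.split 4 91 (.splitN 52695 (.wt 5) (.split 5 80 (.split 2 (-192) (.lin 3)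
    (.split 6 (-40) (.lin 5) (.split 4 73 (.split 5 74 (.split 6 (-35) (.lin 5) (.split 5 59
    (.split 2 (-174) (.lin 3) (.split 3 (-17) (.split 4 36 (.lin 6) (.splitN 58266 (.split 1 114
    (.split 5 54 (.split 6 (-26) (.lin 5) (.split 5 41 (.split 2 (-147) (.lin 3) (.split 3 (-23)
    (.split 1 99 (.wt 0) (.wt 4)) (.wt 1))) (.lin 5))) (.wt 2)) (.wt 2)) (.wt 1))) (.split 4 37
    (.splitN 61776 (.split 1 98 (.wt 1) (.wt 3)) (.wt 3)) (.lin 6)))) (.lin 5))) (.wt 2)) (.lin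
    6)))) (.wt 2))) (.lin 6))) (.lin 3)) (.lin 3)) (.lin 2))) (.lin 2)))) (.lin 0))) (.lin 3)))))
    (.lin 3))) (.lin 5))) (.lin 3))) (.wt 3)) (.split 0 134 (.lin 4) (.split 2 (-146) (.splitN
    56015 .sq (.splitN 67821 (.split 5 48 (.split 6 (-22) (.lin 5) (.split 0 166 (.split 1 178
    (.split 1 151 (.split 3 (-88) (.wt 0) (.split 4 100 (.split 3 (-59) (.wt 0) (.split 5 25 (.wt
    2) (.split 0 139 (.lin 4) (.split 6 (-17) (.split 5 40 (.lin 5) (.split 2 (-164) (.split 4 27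
    (.lin 6) .sq) (.lin 3))) (.lin 5))))) (.lin 6))) (.lin 4)) (.lin 0)) .sq)) (.wt 2)) (.wt 3)))
    (.lin 3)))) .sq) (.lin 6)))) (.lin 3))) (.wt 3)) (.lin 4)) (.lin 0)) .sq) (.lin 3)))))

def cert0_0_2 : Cert :=
  (.split 5 436 (.split 1 53 (.wt 2) (.split 0 62 (.lin 0) (.split 0 71 (.lin 4) (.split 2 (-83)
    (.split 0 258 (.split 1 421 (.split 1 241 (.splitN 72968 (.split 2 (-249) .sq (.split 5 185
    (.split 3 235 (.split 1 116 (.splitN 68656 (.split 5 25 (.wt 2) (.split 2 (-92) (.split 0 76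
    (.lin 4) (.split 6 (-17) (.split 3 27 (.lin 6) (.split 5 40 (.lin 5) (.split 2 (-101) (.split
    1 63 (.wt 2) (.split 0 85 (.lin 0) (.split 2 (-110) (.split 2 (-223) .sq (.split 0 166
    (.split 5 149 (.split 6 (-76) (.lin 5) (.split 3 195 (.split 4 (-171) (.lin 6) (.split 4
    (-37) (.split 3 63 (.lin 6) (.splitN 58364 (.split 1 114 (.split 2 (-187) .sq (.split 3 163
    (.split 4 (-144) (.lin 6) (.split 1 88 (.split 5 47 (.wt 2) (.split 6 (-26) (.split 5 58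
    (.lin 5) (.split 2 (-128) (.splitN 55798 (.split 5 61 (.wt 1) (.split 0 103 (.lin 4) (.split
    6 (-35) (.split 3 81 (.lin 6) (.split 5 76 (.lin 5) (.split 2 (-146) .sq (.lin 3)))) (.lin
    5)))) (.wt 1)) (.lin 3))) (.lin 5))) (.split 0 116 (.lin 4) (.split 2 (-128) (.split 2 (-137)
    (.split 5 86 (.split 6 (-44) (.lin 5) (.splitN 52801 (.wt 0) (.split 4 (-68) (.wt 1) (.split
    3 100 (.split 1 105 (.wt 3) (.wt 1)) (.lin 6))))) (.lin 3)) (.lin 3)) (.lin 0))))) .sq)) (.wt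
    2)) (.wt 1))) (.split 3 109 (.split 1 92 (.splitN 61679 (.split 5 47 (.wt 2) (.split 2 (-119)
    (.split 0 94 (.lin 4) (.split 6 (-26) (.split 3 36 (.lin 6) (.split 5 58 (.lin 5) (.split 2
    (-128) (.split 2 (-197) .sq (.split 0 139 (.split 5 122 (.split 6 (-62) (.lin 5) (.split 5
    113 (.split 1 72 (.wt 2) (.split 2 (-137) (.split 4 (-17) (.split 3 45 (.lin 6) (.splitN
    56983 (.split 2 (-177) .sq (.split 0 130 (.split 3 82 (.split 5 77 (.split 6 (-40) (.lin 5)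
    (.split 3 73 (.splitN 52743 (.wt 1) (.split 1 83 (.wt 0) (.split 0 112 (.lin 0) (.split 2
    (-146) (.split 2 (-155) (.wt 0) (.split 5 59 (.wt 0) (.lin 3))) (.lin 0))))) (.lin 6)))
    (.split 0 121 (.lin 4) (.split 1 83 (.split 2 (-173) (.split 3 63 (.lin 1) (.split 5 94 (.lin
    3) (.split 6 (-48) .sq (.lin 5)))) (.lin 0)) (.lin 4)))) (.lin 2)) (.lin 0))) (.wt 0)))
    (.split 3 64 (.splitN 57499 (.wt 1) (.split 1 80 (.wt 0) (.split 0 112 (.lin 0) (.split 5 95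
    (.split 2 (-159) (.wt 0) (.split 0 121 (.split 2 (-147) (.lin 0) (.split 3 37 (.split 5 59
    (.wt 0) (.lin 3)) (.lin 1))) (.lin 0))) (.lin 4))))) (.lin 2))) (.lin 3))) (.lin 5))) (.lin
    3)) (.lin 0))) (.lin 3)))) (.lin 5))) (.lin 3))) (.wt 5)) (.split 3 100 (.split 2 (-137)
    (.split 5 122 (.split 6 (-62) (.lin 5) (.split 3 91 (.splitN 52695 (.wt 5) (.split 5 80
    (.split 2 (-192) (.lin 3) (.split 6 (-40) (.lin 5) (.split 3 73 (.split 5 74 (.split 6 (-35)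
    (.lin 5) (.split 5 59 (.split 2 (-174) (.lin 3) (.split 4 (-17) (.split 3 36 (.lin 6)
    (.splitN 58266 (.split 1 114 (.split 5 54 (.split 6 (-26) (.lin 5) (.split 5 41 (.split 2
    (-147) (.lin 3) (.split 4 (-23) (.split 1 99 (.wt 0) (.wt 4)) (.wt 1))) (.lin 5))) (.wt 2))
    (.wt 2)) (.wt 1))) (.split 3 37 (.splitN 61776 (.split 1 98 (.wt 1) (.wt 3)) (.wt 3)) (.lin
    6)))) (.lin 5))) (.wt 2)) (.lin 6)))) (.wt 2))) (.lin 6))) (.lin 3)) (.lin 3)) (.lin 2)))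
    (.lin 6)))) .sq)) (.lin 3)) (.lin 0))) (.lin 3)))) (.lin 3)))) (.lin 5))) (.lin 3))) (.wt 3))
    (.split 0 134 (.lin 4) (.split 2 (-146) (.splitN 56015 .sq (.splitN 67821 (.split 5 48
    (.split 6 (-22) (.lin 5) (.split 0 166 (.split 1 178 (.split 1 151 (.split 4 (-88) (.wt 0)
    (.split 3 100 (.split 4 (-59) (.wt 0) (.split 5 25 (.wt 2) (.split 0 139 (.lin 4) (.split 6
    (-17) (.split 5 40 (.lin 5) (.split 2 (-164) .sq (.lin 3))) (.lin 5))))) (.lin 6))) (.lin 4))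
    (.lin 0)) .sq)) (.wt 2)) (.wt 3))) (.lin 3)))) .sq) (.lin 3))) (.wt 3)) (.lin 4)) (.lin 0))
    .sq) (.lin 3))))) (.div 5))

def cert0_0_3 : Cert :=
  (.split 3 (-1) (.split 4 9 (.lin 6) (.splitN 200448 (.split 2 (-2205) (.div 2) (.split 3
    (-1103) (.div 3) (.split 4 3268 (.splitN 123911 (.split 3 (-689) (.div 3) (.split 1 38 (.wt
    2) (.split 0 35 (.lin 0) (.split 0 44 (.lin 4) (.split 5 5 (.wt 1) (.split 2 (-56) (.split 0
    49 (.lin 4) (.split 6 (-8) (.split 5 22 (.lin 5) (.split 2 (-65) (.split 4 18 (.lin 6)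
    (.splitN 79742 (.split 5 436 cert0_0_1 (.div 5)) (.wt 3))) (.lin 3))) (.lin 5))) (.lin
    3))))))) (.wt 5)) (.lin 1)))) (.wt 0))) (.split 4 (-1) (.split 3 9 (.lin 6) (.splitN 200448
    (.split 3 1102 (.splitN 123911 (.split 3 688 (.split 4 (-684) (.lin 6) (.split 1 38 (.wt 2)
    (.split 0 35 (.lin 0) (.split 5 5 (.wt 1) (.split 2 (-56) (.split 0 49 (.lin 4) (.split 6
    (-8) (.split 3 18 (.lin 6) (.split 5 22 (.lin 5) (.split 2 (-65) (.splitN 79742 cert0_0_2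
    (.wt 3)) (.lin 3)))) (.lin 5))) (.lin 3)))))) (.div 3)) (.wt 5)) (.div 3)) (.wt 0))) (.splitN
    144554 (.split 1 3980 (.split 2 (-1593) (.div 2) (.split 3 1558 (.split 5 1562 (.split 6
    (-782) (.lin 5) (.split 4 775 (.split 5 796 (.split 6 (-395) (.lin 5) (.split 3 388 (.split 4
    388 (.splitN 118033 (.split 5 652 (.split 6 (-323) (.lin 5) (.split 4 316 (.splitN 96535
    (.split 5 526 (.split 0 305 (.split 1 565 (.split 1 295 (.splitN 90424 (.split 2 (-295) .sq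
    (.split 5 266 (.split 6 (-134) (.lin 5) (.split 3 127 (.split 4 127 (.split 5 36 (.split 6
    (-17) (.lin 5) (.split 3 10 (.split 5 23 (.split 4 10 (.split 3 3 (.split 4 3 (.split 6 (-4)
    (.lin 6) (.split 5 5 (.splitN 21567 (.wt 1) (.wt 0)) (.lin 5))) (.split 0 35 (.lin 2) (.split
    2 (-47) (.split 6 (-12) (.split 5 22 (.lin 5) (.splitN 24302 (.wt 1) (.split 1 41 (.wt 0)
    (.wt 1)))) (.lin 6)) (.lin 1)))) (.split 2 (-38) (.split 4 1 (.split 6 (-12) (.split 5 22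
    (.lin 5) (.splitN 24015 (.wt 1) (.split 1 41 (.wt 0) (.wt 1)))) (.lin 6)) (.lin 6)) (.lin
    1))) (.lin 6)) (.lin 5)) (.lin 6))) (.split 2 (-65) (.split 6 (-21) (.split 1 113 (.splitN
    59108 (.split 2 (-233) .sq (.split 5 203 (.split 6 (-103) (.lin 5) (.split 3 100 (.split 4
    100 (.split 3 10 (.split 4 9 (.lin 6) (.splitN 53678 (.split 1 30 (.wt 2) (.split 0 49 (.lin
    0) (.split 2 (-74) (.splitN 23486 (.wt 3) (.split 1 96 (.splitN 51761 (.split 2 (-208) .sq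
    (.split 5 167 (.split 1 34 (.wt 4) (.split 5 158 (.split 6 (-80) (.lin 5) (.split 5 149
    (.split 3 3 (.wt 1) (.splitN 41374 (.wt 1) .cand)) (.lin 5))) (.lin 3))) (.lin 3))) (.wt 3))
    (.wt 2))) (.lin 3)))) (.wt 3))) (.split 4 82 (.split 1 31 (.wt 2) (.splitN 23425 (.wt 0)
    (.split 4 9 (.wt 1) (.split 0 62 (.lin 2) (.split 3 91 (.split 2 (-92) (.split 6 (-30)
    (.split 5 58 (.lin 5) (.splitN 42466 (.wt 1) (.splitN 55531 (.split 1 37 (.wt 0) (.split 0 67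
    (.lin 0) (.split 1 57 (.wt 2) (.split 0 89 (.lin 2) (.split 2 (-119) (.splitN 43489 (.wt 3)
    (.split 2 (-190) .sq (.split 5 122 (.split 6 (-62) (.lin 5) (.split 3 46 (.split 4 37
    (.splitN 52415 (.split 1 61 (.wt 2) (.split 0 94 (.lin 0) (.split 1 85 (.split 2 (-173) .sq
    (.split 0 121 (.split 3 37 (.split 5 95 (.split 6 (-49) (.lin 5) (.split 4 19 (.split 4 14
    (.splitN 48375 (.split 1 78 (.split 2 (-162) (.wt 0) (.split 0 112 (.split 2 (-147) (.lin 0)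
    (.split 3 28 (.split 5 77 (.split 2 (-143) (.wt 0) (.split 0 103 (.split 2 (-129) (.lin 0)
    (.split 3 19 (.split 5 59 (.wt 0) (.lin 3)) (.lin 1))) (.lin 0))) (.lin 3)) (.lin 2))) (.lin
    0))) (.wt 0)) (.wt 0)) (.split 0 107 (.lin 2) (.split 3 28 (.split 2 (-146) (.split 5 67
    (.lin 3) (.splitN 49230 (.wt 0) (.wt 0))) (.lin 1)) (.lin 6)))) (.split 0 116 (.lin 2)
    (.split 2 (-164) (.split 1 70 (.split 5 94 (.lin 3) (.split 6 (-48) .sq (.lin 5))) (.lin 0))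
    (.lin 1))))) (.lin 3)) (.lin 2)) (.lin 0))) (.wt 2)))) (.wt 1)) (.lin 6)) (.lin 6))) (.lin
    3)))) (.lin 1)))))) (.wt 3)))) (.lin 6)) (.lin 1)) (.lin 6)))))) (.lin 6))) (.lin 6)) (.lin
    6))) (.lin 3))) (.wt 3)) (.wt 2)) (.lin 5)) (.lin 3))) (.lin 6)) (.lin 6))) (.lin 3))) (.wt
    5)) (.lin 2)) (.lin 0)) .sq) (.div 5)) (.wt 5)) (.lin 6))) (.div 5)) (.wt 3)) (.lin 6)) (.lin
    6))) (.div 5)) (.lin 6))) (.lin 3)) (.lin 1))) (.div 1)) (.wt 0))))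

def cert0_0_4 : Cert :=
  (.split 3 (-26) (.splitN 70379 (.split 0 (-3439) (.div 0) (.split 1 1910 (.split 2 8782 (.split
    3 (-383) (.div 3) (.split 0 360 (.split 0 (-343) (.lin 2) (.split 4 703 (.split 1 736 (.split
    4 352 (.split 5 (-383) (.div 5) (.split 1 367 (.split 2 349 (.splitN 62456 (.split 3 (-347)
    (.div 3) (.split 4 316 (.split 5 (-347) (.div 5) (.split 2 313 (.splitN 61683 (.split 5
    (-329) (.div 5) (.split 2 295 (.splitN 53770 (.split 3 (-293) (.div 3) (.split 4 262 (.split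
    5 (-293) (.div 5) (.split 1 277 (.split 1 220 (.splitN 52252 (.split 3 (-275) (.div 3)
    (.split 3 (-212) .sq (.split 4 181 (.split 5 (-216) .sq (.split 6 105 (.split 0 (-1) (.split
    2 51 (.lin 0) (.split 3 (-44) (.split 5 (-85) (.split 1 97 (.splitN 21395 (.wt 0) (.splitN
    48003 (.split 1 35 (.wt 2) (.split 2 60 (.lin 0) (.split 3 (-53) (.split 5 (-103) (.split 6
    50 (.lin 5) (.split 3 (-165) .sq (.split 4 109 (.split 5 (-188) .sq (.split 2 142 (.split 0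
    (-50) (.lin 4) (.split 1 83 (.split 6 91 (.split 2 133 (.splitN 46034 (.split 4 41 (.split 3
    (-126) (.lin 6) (.split 4 6 (.splitN 27017 (.split 5 (-149) (.div 5) (.split 0 (-32) (.lin 4)
    (.split 6 73 (.split 3 (-72) (.lin 6) (.split 2 97 (.splitN 25547 (.split 5 (-131) (.div 5)
    (.split 6 64 (.split 5 (-122) (.lin 5) (.wt 1)) (.lin 5))) (.wt 0)) (.lin 1))) (.lin 5))))
    (.wt 0)) (.split 3 (-62) (.splitN 40031 (.wt 1) (.split 1 61 (.wt 0) (.split 0 (-23) (.lin 4)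
    (.split 2 87 (.lin 0) (.split 3 (-80) (.split 5 (-157) (.split 6 77 (.lin 5) .sq) (.lin 3))
    (.lin 1)))))) (.lin 2)))) (.wt 1)) (.wt 0)) (.lin 7)) (.lin 5)) (.lin 4))) (.lin 3))) (.lin
    2)))) (.lin 3)) (.lin 2)))) (.wt 3))) (.lin 4)) (.lin 3)) (.lin 2))) (.split 2 97 (.splitN
    48920 (.split 1 34 (.wt 2) (.split 5 (-58) (.split 6 28 (.lin 5) (.split 3 (-35) (.split 5
    (-67) (.split 3 (-196) .sq (.split 4 154 (.split 4 12 (.split 3 (-117) (.lin 6) (.splitN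
    44674 (.split 5 (-196) .sq (.split 6 96 (.split 2 88 (.split 4 3 (.splitN 28623 (.split 5
    (-149) (.div 5) (.split 6 73 (.split 3 (-72) (.lin 6) (.split 2 61 (.split 5 (-140) (.lin 5)
    (.splitN 23267 (.split 5 (-113) (.div 5) (.split 1 97 (.wt 1) (.lin 3))) (.wt 1))) (.lin 1)))
    (.lin 5))) (.wt 0)) (.split 3 (-44) (.splitN 33054 (.wt 1) (.split 2 19 (.wt 0) (.splitN
    35416 (.wt 1) (.split 1 44 (.wt 0) (.split 5 (-76) (.split 6 37 (.lin 5) (.split 5 (-85)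
    (.split 2 26 (.wt 0) (.splitN 37055 (.wt 1) (.split 1 61 (.wt 0) (.split 5 (-103) (.splitN
    42053 (.split 2 37 (.wt 0) (.split 5 (-112) (.split 6 55 (.lin 5) (.split 5 (-121) (.split 1
    135 (.split 2 67 (.split 1 81 (.wt 0) (.split 5 (-130) (.split 6 64 (.lin 5) (.split 3 (-80)
    (.split 5 (-139) .sq (.lin 5)) (.lin 6))) (.lin 3))) (.wt 1)) (.wt 0)) (.lin 5))) (.lin 3)))
    (.wt 1)) (.lin 3))))) (.lin 5))) (.lin 3)))))) (.lin 6))) (.lin 7)) (.lin 5))) (.wt 1)))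
    (.split 3 (-44) (.split 3 (-53) (.splitN 34066 (.wt 1) (.split 2 21 (.wt 0) (.splitN 36536
    (.wt 1) (.split 1 47 (.wt 0) (.split 5 (-76) (.split 6 37 (.lin 5) (.split 5 (-85) (.split 2
    28 (.wt 0) (.split 1 73 (.wt 2) (.split 5 (-112) (.split 6 55 (.lin 5) (.split 3 (-80)
    (.split 5 (-121) (.splitN 45713 (.split 1 80 (.wt 2) (.split 1 128 (.split 2 34 (.wt 0)
    (.split 5 (-130) (.split 6 64 (.lin 5) (.split 3 (-89) (.split 5 (-139) (.splitN 42038 .sq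
    (.split 2 47 (.wt 0) .sq)) (.lin 5)) (.lin 6))) (.lin 3))) .sq)) (.wt 1)) (.lin 5)) (.lin
    6))) (.lin 3)))) (.lin 5))) (.lin 3)))))) (.lin 6)) (.lin 1))) (.lin 6))) (.lin 5)) (.lin
    6))) (.lin 3))) (.wt 3)) (.lin 7))) (.lin 5))) (.lin 6)))) (.wt 3)) .sq) (.lin 3))) (.lin
    6))) (.wt 1)) (.lin 3))) (.wt 0)) (.lin 3))) (.lin 6))) (.wt 0)) (.lin 3)) (.lin 3))) (.lin
    6)) (.lin 2)) (.lin 1))) (.lin 1))) (.lin 0)) (.div 1))) (.wt 0)) (.lin 6))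

def cert0_0_5 : Cert :=
  (.split 4 (-401) (.div 4) (.split 0 387 (.split 1 781 (.split 5 (-401) (.div 5) (.split 1 394
    (.split 2 376 (.splitN 65774 (.split 3 364 (.split 5 (-365) (.div 5) (.split 2 340 (.splitN
    59162 (.split 4 (-329) (.div 4) (.split 3 307 (.split 5 (-329) (.div 5) (.split 2 304
    (.splitN 58925 (.split 4 (-311) (.div 4) (.split 3 289 (.split 5 (-311) (.div 5) (.split 2
    286 (.splitN 54227 (.split 5 (-293) (.div 5) (.split 1 286 (.split 1 29 (.wt 2) (.split 5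
    (-40) (.split 6 19 (.lin 5) (.split 5 (-49) (.split 4 (-26) (.split 2 10 (.wt 2) (.split 1
    220 (.splitN 52189 (.split 4 (-275) (.div 4) (.split 3 244 (.split 4 (-212) .sq (.split 3 181
    (.split 5 (-216) .sq (.split 6 105 (.split 0 (-1) (.split 2 51 (.lin 0) (.split 4 (-44)
    (.split 5 (-85) (.split 1 97 (.splitN 21395 (.wt 0) (.splitN 48003 (.split 1 35 (.wt 2)
    (.split 2 60 (.lin 0) (.split 4 (-53) (.split 5 (-103) (.split 6 50 (.lin 5) (.split 4 (-165)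
    .sq (.split 3 109 (.split 5 (-188) .sq (.split 2 142 (.split 0 (-50) (.lin 4) (.split 1 83
    (.split 6 91 (.split 2 133 (.splitN 46034 (.split 3 41 (.split 4 (-126) (.lin 6) (.split 3 6
    (.splitN 27017 (.split 5 (-149) (.div 5) (.split 6 73 (.split 5 (-140) (.lin 5) (.split 2 97
    (.splitN 25547 (.split 5 (-131) (.div 5) (.split 6 64 (.split 5 (-122) (.lin 5) (.wt 1))
    (.lin 5))) (.wt 0)) (.lin 3))) (.lin 5))) (.wt 0)) (.split 4 (-62) (.splitN 40031 (.wt 1)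
    (.split 1 61 (.wt 0) (.split 0 (-23) (.lin 4) (.split 2 87 (.lin 0) (.split 4 (-80) (.split 5
    (-157) (.split 6 77 (.lin 5) .sq) (.lin 3)) (.lin 1)))))) (.lin 2)))) (.wt 1)) (.wt 0)) (.lin
    7)) (.lin 5)) (.lin 4))) (.lin 3))) (.lin 2)))) (.lin 3)) (.lin 2)))) (.wt 3))) (.lin 4))
    (.lin 3)) (.lin 2))) (.split 2 97 (.split 1 34 (.wt 2) (.split 5 (-58) (.split 6 28 (.lin 5)
    (.split 5 (-67) (.split 4 (-35) (.split 3 12 (.split 4 (-117) (.lin 6) (.splitN 44674 (.split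
    5 (-196) .sq (.split 6 96 (.split 2 88 (.split 3 3 (.splitN 28623 (.split 5 (-149) (.div 5)
    (.split 6 73 (.split 5 (-140) (.lin 5) (.split 4 (-72) (.lin 6) (.split 2 61 (.splitN 23267
    (.split 5 (-113) (.div 5) (.split 1 97 (.wt 1) (.lin 3))) (.wt 1)) (.lin 1)))) (.lin 5)))
    (.wt 0)) (.split 4 (-44) (.splitN 33054 (.wt 1) (.split 2 19 (.wt 0) (.splitN 35416 (.wt 1)
    (.split 1 44 (.wt 0) (.split 5 (-76) (.split 6 37 (.lin 5) (.split 5 (-85) (.split 4 (-53)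
    (.split 2 26 (.wt 0) (.splitN 37055 (.wt 1) (.split 1 61 (.wt 0) (.split 5 (-103) (.splitN
    42053 (.split 2 37 (.wt 0) (.split 5 (-112) (.split 6 55 (.lin 5) (.split 5 (-121) (.split 1
    135 (.split 2 67 (.split 1 81 (.wt 0) (.split 5 (-130) (.split 6 64 (.lin 5) (.split 5 (-139)
    (.split 4 (-80) .sq (.lin 6)) (.lin 5))) (.lin 3))) (.wt 1)) (.wt 0)) (.lin 5))) (.lin 3)))
    (.wt 1)) (.lin 3))))) (.lin 6)) (.lin 5))) (.lin 3)))))) (.lin 6))) (.lin 7)) (.lin 5))) (.wt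
    1))) (.split 4 (-53) (.splitN 34066 (.wt 1) (.split 2 21 (.wt 0) (.splitN 36536 (.wt 1)
    (.split 1 47 (.wt 0) (.split 5 (-76) (.split 6 37 (.lin 5) (.split 5 (-85) (.split 4 (-62)
    (.split 2 28 (.wt 0) (.split 1 73 (.wt 2) (.split 5 (-112) (.split 6 55 (.lin 5) (.split 5
    (-121) (.split 4 (-80) (.splitN 45713 (.split 1 80 (.wt 2) (.split 1 128 (.split 2 34 (.wt 0)
    (.split 5 (-130) (.split 6 64 (.lin 5) (.split 5 (-139) (.split 4 (-89) (.splitN 42038 .sq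
    (.split 2 47 (.wt 0) .sq)) (.lin 6)) (.lin 5))) (.lin 3))) .sq)) (.wt 1)) (.lin 6)) (.lin
    5))) (.lin 3)))) (.lin 6)) (.lin 5))) (.lin 3)))))) (.lin 6))) (.lin 6)) (.lin 5))) (.lin
    3))) (.lin 7))) (.lin 5))) (.lin 6))) (.lin 6))) (.wt 3)) .sq)) (.lin 6)) (.lin 5))) (.lin
    3))) (.lin 3))) (.wt 3)) (.lin 3))) (.lin 6))) (.wt 1)) (.lin 3))) (.lin 6))) (.wt 1)) (.lin
    3))) (.div 3)) (.wt 0)) (.lin 3)) (.lin 3))) (.lin 2)) (.lin 1)))

def cert0_0_6 : Cert :=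
  (.split 2 (-1) (.split 5 (-1) (.split 6 1 (.lin 5) (.split 5 (-13) (.split 2 (-3) (.split 1 24
    (.lin 3) (.split 3 (-1) (.split 4 (-1) (.split 0 26 (.lin 1) (.split 1 42 (.lin 2) (.split 6
    14 (.lin 6) (.split 5 (-31) (.splitN 167948 (.split 2 (-13) (.split 1 51 (.lin 3) (.splitN
    98999 (.split 5 (-545) (.div 5) (.split 1 93 (.split 0 72 (.split 2 (-57) (.lin 1) (.split 5
    (-68) (.lin 3) (.wt 2))) (.lin 2)) (.wt 2))) (.wt 1))) (.wt 0)) (.wt 1)) (.lin 5))))) (.split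
    1 82 (.split 2 (-66) (.lin 3) (.split 5 (-68) (.lin 3) (.split 1 49 (.split 2 (-30) (.lin 3)
    (.split 5 (-32) (.lin 3) (.split 1 32 (.split 5 (-14) (.lin 3) (.wt 2)) (.wt 2)))) (.wt 2))))
    (.wt 2))) (.split 4 (-8) (.split 1 82 (.split 2 (-66) (.lin 3) (.split 5 (-68) (.lin 3)
    (.split 1 49 (.split 2 (-30) (.lin 3) (.split 5 (-32) (.lin 3) (.split 1 32 (.split 5 (-14)
    (.lin 3) (.wt 2)) (.wt 2)))) (.wt 2)))) (.wt 2)) (.lin 6)))) (.wt 0)) (.lin 5))) (.split 2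
    (-11) (.split 6 (-3) (.split 1 13 (.wt 2) (.split 2 (-20) (.split 1 16 (.wt 2) (.split 0 22
    (.lin 0) (.split 2 (-29) cert0_0_3 (.lin 3)))) (.lin 3))) (.lin 5)) (.lin 3))) (.split 5
    (-13) (.split 1 16 (.wt 2) (.split 5 (-31) (.split 6 14 (.lin 5) (.split 3 (-1) (.split 1 28
    (.wt 2) (.split 5 (-40) (.split 6 19 (.lin 5) (.split 5 (-49) (.split 2 9 (.wt 2) (.split 4
    (-1) (.splitN 91372 (.split 5 (-491) (.div 5) (.split 1 475 (.split 2 457 (.split 6 244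
    (.split 3 (-234) (.lin 6) (.splitN 81322 (.split 5 (-437) (.div 5) (.split 1 421 (.split 2
    403 (.splitN 72921 (.split 5 (-401) (.div 5) (.split 6 199 (.split 3 (-189) (.lin 6) (.splitN
    68361 (.split 5 (-365) (.div 5) (.split 6 181 (.split 4 (-171) (.lin 6) (.split 1 57 (.wt 2)
    (.split 5 (-76) (.split 6 37 (.lin 5) (.split 5 (-85) (.split 1 65 (.wt 2) (.split 2 23 (.wt
    2) (.split 5 (-94) (.split 6 46 (.lin 5) (.split 5 (-103) (.splitN 38704 (.wt 1) (.split 2 25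
    (.wt 4) (.splitN 40155 (.wt 1) (.split 2 217 (.split 1 70 (.wt 2) (.split 5 (-112) (.split 6
    55 (.lin 5) (.split 5 (-121) (.split 5 (-234) .sq (.split 1 196 (.split 2 151 (.split 6 114
    (.split 3 (-108) (.lin 6) (.split 4 (-108) (.lin 6) (.splitN 62080 (.split 5 (-219) .sq
    (.split 1 178 (.split 2 133 (.split 6 105 (.split 4 (-99) (.lin 6) (.split 2 34 (.wt 4)
    (.split 0 (-1) (.split 2 96 (.lin 0) (.split 5 (-175) (.split 1 97 (.split 6 86 (.lin 5)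
    (.splitN 54053 .sq (.wt 4))) (.lin 4)) (.lin 3))) (.split 2 97 (.split 1 84 (.wt 2) (.split 5
    (-130) (.split 6 64 (.lin 5) (.split 5 (-139) (.split 2 70 (.splitN 58267 (.split 1 96 (.wt
    2) (.split 0 13 (.lin 0) (.split 5 (-199) .sq (.split 1 151 (.split 1 97 (.wt 2) (.split 5
    (-148) (.split 6 73 (.lin 5) (.split 5 (-157) (.splitN 44270 .sq (.split 2 44 (.wt 4) (.split
    1 142 (.split 3 (-27) (.splitN 46286 .sq (.splitN 52329 (.split 4 (-21) (.wt 0) (.split 3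
    (-53) (.split 2 53 (.wt 0) (.split 5 (-166) (.split 6 82 (.lin 5) (.split 3 (-71) (.split 5
    (-175) .sq (.lin 5)) (.lin 6))) (.lin 3))) (.lin 1))) (.wt 0))) (.split 4 (-44) (.split 4
    (-53) (.splitN 47870 .sq (.splitN 51922 (.split 2 53 (.wt 0) (.split 5 (-166) (.split 6 82
    (.lin 5) (.split 5 (-175) (.split 4 (-62) .sq (.lin 6)) (.lin 5))) (.lin 3))) (.wt 0))) (.lin
    6)) (.lin 1))) (.lin 3)))) (.lin 5))) (.lin 3))) (.lin 3))))) (.wt 0)) (.split 1 133 (.split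
    1 96 (.lin 0) (.split 5 (-175) (.split 6 86 (.lin 5) (.splitN 54053 .sq (.splitN 59034
    (.split 3 (-19) (.wt 0) (.split 4 (-71) .sq (.lin 1))) (.wt 3)))) (.lin 3))) (.lin 3))) (.lin
    5))) (.lin 3))) (.lin 7))))) (.lin 5)) (.lin 3)) (.lin 3))) (.wt 1)))) (.lin 5)) (.lin 3))
    (.lin 3))) (.lin 5))) (.lin 3))) .sq)))) (.lin 5))) (.lin 3)))) (.lin 5))) (.lin 3)))) (.lin
    5))) (.wt 3))) (.lin 5))) (.wt 1)) (.lin 3)) (.lin 3))) (.wt 0))) (.lin 5)) (.lin 3)) (.lin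
    3))) (.wt 0)) cert0_0_4)) (.lin 5))) (.lin 3))) (.split 4 (-17) (.splitN 73916 (.split 0
    (-3601) (.div 0) (.split 1 2000 (.split 2 9196 cert0_0_5 (.lin 0)) (.div 1))) (.wt 0)) (.lin
    6)))) (.lin 3))) (.lin 3)))

def cert0_0 : Cert :=
  (.split 1 (-1) (.split 2 (-1) (.split 5 4 (.lin 3) (.split 1 (-7) (.split 5 13 (.lin 3) (.split
    6 (-8) (.split 5 22 (.lin 5) (.split 2 (-5) (.split 1 (-42) (.split 5 58 (.lin 3) (.splitN
    191159 (.wt 4) (.split 1 (-57) (.split 2 (-19) (.split 5 85 (.lin 3) (.split 6 (-44) (.split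
    5 94 (.lin 5) (.split 1 (-474) (.split 5 499 (.lin 3) (.split 2 (-23) (.split 1 (-2500)
    (.split 5 2533 (.lin 3) (.split 6 (-1268) (.splitN 14310000 .sq (.split 1 (-12665) (.split 5
    12694 (.lin 3) (.split 6 (-6348) (.split 3 (-1) (.split 4 6354 (.lin 6) (.wt 0)) (.split 2
    (-16922) (.split 4 (-1) (.wt 0) (.wt 0)) (.wt 2))) (.lin 5))) (.wt 4))) (.lin 5))) (.wt 4))
    (.wt 2))) (.wt 4))) (.lin 5))) (.wt 2)) (.wt 2)))) (.wt 2)) (.wt 0))) (.lin 5))) (.wt 0)))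
    (.split 0 (-5) (.split 1 (-3) (.split 5 (-1) (.split 2 15 (.lin 3) (.split 6 1 (.lin 5)
    (.split 5 (-13) (.split 1 (-38) (.split 2 51 (.lin 3) (.split 1 (-51) (.split 2 69 (.lin 3)
    (.split 1 (-174) (.split 5 (-16) (.split 6 10 (.lin 5) (.split 5 (-31) (.split 2 213 (.lin 3)
    (.splitN 346678 (.wt 4) (.split 1 (-534) (.split 2 573 (.lin 3) (.split 1 (-1434) (.split 0
    (-1458) (.split 2 1473 (.lin 3) (.splitN 6378992 .sq (.split 1 (-3684) (.split 2 3723 (.lin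
    3) (.split 1 (-9308) (.split 0 (-9324) (.split 2 9339 (.lin 3) (.splitN 260812628 .sq (.split
    5 (-4666) (.split 6 2332 (.lin 5) (.split 3 (-1) (.split 4 (-1) (.wt 0) (.wt 0)) (.split 4
    (-2339) (.wt 0) (.lin 6)))) (.wt 4)))) (.lin 4)) (.wt 4))) (.wt 4)))) (.lin 4)) (.wt 4)))
    (.wt 4)))) (.lin 5))) (.wt 2)) (.wt 4))) (.wt 2))) (.wt 2)) (.lin 5)))) (.split 6 (-3)
    (.split 3 (-1) (.split 4 9 (.lin 6) (.splitN 604800 (.split 2 6704 (.split 4 3352 (.split 1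
    (-12) (.split 0 (-14) (.splitN 23625 (.wt 1) (.splitN 311556 (.split 0 (-555) .sq (.split 2
    547 (.splitN 284114 (.split 1 (-532) .sq (.split 5 518 (.split 2 61 (.splitN 161597 (.split 1
    (-399) .sq (.split 2 20 (.split 1 (-166) (.wt 2) (.split 5 158 (.split 1 (-144) (.wt 2)
    (.split 0 (-77) (.lin 0) (.split 5 25 (.split 1 (-39) (.lin 3) (.split 5 10 (.wt 2) (.split 1
    (-25) (.split 6 (-8) (.split 5 22 (.lin 5) (.split 4 18 (.lin 6) (.splitN 41744 (.splitN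
    28036 (.wt 1) (.split 2 13 (.wt 0) (.wt 0))) (.wt 1)))) (.lin 5)) (.lin 4)))) (.split 1 (-38)
    (.split 0 (-23) (.split 4 18 (.lin 1) (.split 6 (-17) (.split 5 40 (.lin 5) (.split 2 7 (.wt
    0) (.split 1 (-129) (.lin 0) (.split 5 113 (.splitN 34392 (.wt 0) (.split 1 (-70) (.split 0
    (-45) (.split 4 36 (.lin 1) (.split 5 58 (.lin 3) (.split 1 (-81) (.split 0 (-50) (.split 1
    (-92) (.split 5 76 (.lin 3) (.split 1 (-117) (.wt 2) (.split 5 95 (.split 1 (-108) (.wt 4)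
    (.split 0 (-59) (.lin 0) (.split 1 (-93) (.lin 0) (.split 5 77 (.splitN 36602 (.wt 0) (.wt
    4)) (.lin 3))))) (.lin 3)))) (.lin 0)) (.lin 0)) (.wt 2)))) (.lin 0)) (.wt 2))) (.lin 3)))))
    (.lin 5))) (.lin 0)) (.lin 3))))) (.lin 3))) (.split 1 (-29) (.split 5 169 (.split 1 (-228)
    (.lin 3) (.split 5 72 (.split 1 (-129) (.lin 3) (.split 5 32 (.split 1 (-93) (.lin 3) (.split
    0 (-77) (.lin 0) (.split 1 (-88) (.lin 4) (.split 5 21 (.split 6 (-8) (.lin 5) (.split 5 5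
    (.wt 2) (.lin 5))) (.wt 2))))) (.wt 2))) (.wt 2))) (.wt 2)) (.lin 3)))) (.wt 3)) (.split 1
    (-74) (.splitN 83775 (.split 5 7 (.wt 2) (.split 6 (-8) (.split 5 22 (.lin 5) (.split 1
    (-302) .sq (.wt 2))) (.lin 5))) (.wt 5)) (.lin 3))) (.lin 3))) (.wt 3)) (.lin 7))) (.wt 3)))
    (.lin 0)) (.wt 2)) (.div 4)) (.div 2)) (.wt 1))) cert0_0_0) (.lin 5))) (.wt 0)) (.lin 0)))
    cert0_0_6)

theorem check0_0 :
    check task0 cert0_0
      [(0, ⟨none, none⟩), (7, ⟨none, none⟩), (7, ⟨none, none⟩), (1, ⟨none, none⟩), (1, ⟨none, none⟩), (5, ⟨none, none⟩), (6, ⟨none, none⟩)] ⟨some (720), none⟩ = true := by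
  decide +kernel

end Cfsg.Agent.EightLocal
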