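import Cfsg.Agent.Lib.EightLocal.Task1

/-!
# Search trees of family 1, part 0
-/

set_option autoImplicit false
set_option maxRecDepth 20000
set_option Elab.async false

namespace Cfsg.Agent.EightLocal

open Cfsg.Agent.SelfNine

def cert1_0_0 : Cert :=
  (.split 3 18 (.split 4 40 (.lin 1) (.split 3 9 (.splitN 114403 (.wt 6) (.split 6 (-144) (.wt 0)
    (.splitN 145330 (.wt 1) (.split 6 (-110) (.wt 0) (.splitN 164533 (.wt 1) (.split 6 (-99) (.wt
    0) (.splitN 189477 (.wt 1) (.split 6 (-89) (.wt 0) (.splitN 210709 (.wt 1) (.split 5 (-5002)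
    (.wt 0) (.split 1 5077 (.split 2 2538 (.split 4 2534 (.split 5 (-438) (.wt 1) (.split 1 514
    (.split 2 256 (.split 4 248 (.splitN 227774 (.wt 1) (.split 6 (-80) (.wt 0) (.split 5 (-194)
    (.wt 1) (.split 1 262 (.split 2 130 (.split 4 122 (.splitN 297604 (.wt 1) (.split 6 (-72)
    (.wt 0) (.split 5 (-118) (.wt 1) (.split 1 172 (.split 2 85 (.split 4 77 (.splitN 478849 (.wt
    1) (.split 6 (-63) (.wt 0) (.split 5 (-78) (.wt 1) (.split 1 127 (.split 2 63 (.split 4 59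
    (.splitN 1635007 (.wt 1) (.split 6 (-49) (.split 5 (-73) (.wt 0) (.lin 0)) (.wt 0))) (.lin
    1)) (.lin 2)) (.lin 5))))) (.lin 1)) (.lin 2)) (.lin 5))))) (.lin 1)) (.lin 2)) (.lin 5)))))
    (.lin 1)) (.lin 2)) (.lin 5))) (.lin 1)) (.lin 2)) (.lin 5)))))))))))) (.splitN 249311
    (.split 1 1372 (.split 2 684 (.split 0 (-640) (.lin 6) (.split 4 671 (.split 5 (-1325) (.lin
    3) (.split 6 (-55) (.split 5 (-73) (.split 1 126 (.lin 5) (.split 2 62 (.lin 2) (.split 4 49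
    (.lin 1) (.splitN 159497 (.split 1 886 (.split 2 441 (.split 0 (-388) (.lin 6) (.split 4 428
    (.split 5 (-830) (.lin 3) (.split 6 (-434) (.lin 4) (.splitN 138505 (.split 1 760 (.split 2
    378 (.split 0 (-325) (.lin 6) (.split 4 365 (.split 5 (-704) (.lin 3) (.split 6 (-371) (.lin
    4) (.splitN 126377 (.split 1 688 (.split 2 342 (.split 0 (-289) (.lin 6) (.split 4 329
    (.split 5 (-632) (.lin 3) (.split 6 (-335) (.lin 4) (.splitN 118605 (.split 6 (-85) (.split 5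
    (-109) (.split 1 198 (.lin 5) (.split 2 98 (.lin 2) (.split 4 85 (.lin 1) (.splitN 94864
    (.split 1 526 (.split 2 261 (.split 0 (-172) (.lin 6) (.split 4 248 (.split 5 (-434) (.lin 3)
    (.split 6 (-254) (.lin 4) (.wt 2))) (.lin 1))) (.lin 2)) (.div 1)) (.wt 1))))) (.lin 0)) (.wt
    0)) (.wt 6)))) (.lin 1))) (.lin 2)) (.div 1)) (.wt 6)))) (.lin 1))) (.lin 2)) (.div 1)) (.wt
    6)))) (.lin 1))) (.lin 2)) (.div 1)) (.wt 1))))) (.lin 0)) (.wt 0))) (.lin 1))) (.lin 2))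
    (.div 1)) (.wt 1)))) (.split 4 82 (.split 4 19 (.split 3 40 (.lin 1) (.split 4 9 (.splitN
    114403 (.wt 6) (.split 6 (-144) (.wt 0) (.splitN 145330 (.wt 1) (.split 6 (-110) (.wt 0)
    (.splitN 164533 (.wt 1) (.split 6 (-99) (.wt 0) (.splitN 189477 (.wt 1) (.split 6 (-89) (.wt
    0) (.splitN 210709 (.wt 1) (.split 5 (-5002) (.wt 0) (.split 3 2534 (.split 5 (-438) (.wt 1)
    (.split 3 252 (.splitN 227774 (.wt 1) (.split 6 (-80) (.wt 0) (.split 5 (-194) (.wt 1)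
    (.split 3 126 (.splitN 297604 (.wt 1) (.split 6 (-72) (.wt 0) (.split 5 (-118) (.wt 1)
    (.split 3 81 (.splitN 478849 (.wt 1) (.split 6 (-63) (.wt 0) (.split 5 (-78) (.wt 1) (.split
    3 59 (.splitN 1635007 (.wt 1) (.split 6 (-49) (.split 5 (-73) (.wt 0) (.lin 0)) (.wt 0)))
    (.lin 9))))) (.lin 9))))) (.lin 9))))) (.lin 9))) (.lin 9)))))))))))) (.splitN 249311 (.split
    1 1372 (.split 2 684 (.split 0 (-640) (.lin 6) (.split 3 671 (.split 5 (-1325) (.lin 3)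
    (.split 6 (-55) (.split 3 49 (.lin 9) (.splitN 159497 (.split 1 886 (.split 2 441 (.split 0
    (-388) (.lin 6) (.split 3 428 (.split 5 (-830) (.lin 3) (.split 6 (-434) (.lin 4) (.splitN
    138505 (.split 1 760 (.split 2 378 (.split 0 (-325) (.lin 6) (.split 3 365 (.split 5 (-704)
    (.lin 3) (.split 6 (-371) (.lin 4) (.splitN 126377 (.split 1 688 (.split 2 342 (.split 0
    (-289) (.lin 6) (.split 3 329 (.split 5 (-632) (.lin 3) (.split 6 (-335) (.lin 4) (.splitN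
    118605 (.split 1 652 (.split 2 324 (.split 3 311 (.split 6 (-85) (.split 0 (-235) (.lin 4)
    (.split 3 67 (.lin 9) (.split 5 (-109) (.split 3 85 (.lin 9) (.split 5 (-560) (.lin 3)
    (.splitN 94864 (.split 1 526 (.split 2 261 (.split 0 (-172) (.lin 6) (.split 3 248 (.split 5
    (-434) (.lin 3) (.split 6 (-254) (.lin 4) (.wt 2))) (.lin 1))) (.lin 2)) (.div 1)) (.wt 1))))
    (.lin 0)))) (.wt 0)) (.lin 1)) (.lin 2)) (.div 1)) (.wt 6)))) (.lin 1))) (.lin 2)) (.div 1))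
    (.wt 6)))) (.lin 1))) (.lin 2)) (.div 1)) (.wt 6)))) (.lin 1))) (.lin 2)) (.div 1)) (.wt 1)))
    (.wt 0))) (.lin 1))) (.lin 2)) (.div 1)) (.wt 1)))) (.splitN 208658 (.split 1 1156 (.split 2
    576 (.split 0 (-532) (.lin 6) (.split 3 554 (.split 5 (-1163) (.lin 3) (.splitN 195496
    (.split 1 1084 (.split 6 (-533) (.lin 6) (.splitN 124096 (.split 1 688 (.split 5 (-641) (.lin
    5) (.split 6 (-335) (.lin 6) (.splitN 98994 (.split 1 544 (.split 5 (-497) (.lin 5) (.split 6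
    (-263) (.lin 6) (.splitN 86549 (.split 1 472 (.split 5 (-425) (.lin 5) (.splitN 79083 (.split
    1 436 (.split 5 (-389) (.lin 5) (.split 6 (-209) (.lin 6) (.wt 2))) (.div 1)) (.wt 6))) (.div
    1)) (.wt 6)))) (.div 1)) (.wt 6)))) (.div 1)) (.wt 6))) (.div 1)) (.wt 1))) (.lin 1))) (.lin
    2)) (.div 1)) (.wt 1))) (.wt 2)))

def cert1_0_1 : Cert :=
  (.split 2 13 (.lin 2) (.split 1 36 (.lin 2) (.split 5 (-15) (.split 6 (-38) (.split 1 63 (.lin
    5) (.split 2 31 (.lin 2) (.split 3 (-1) (.split 4 40 (.lin 1) (.wt 2)) (.split 4 (-1) (.split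
    3 40 (.lin 1) (.wt 2)) (.split 5 (-20) (.split 0 (-1) (.split 5 (-64) (.split 1 108 (.lin 5)
    (.split 2 53 (.lin 2) cert1_0_0)) (.lin 0)) (.split 5 (-64) (.split 6 (-82) (.split 1 144
    (.lin 5) (.split 2 71 (.lin 2) (.splitN 1143438 (.split 1 6340 (.split 2 3168 (.split 0 3105
    (.split 3 3164 (.split 4 3164 (.split 5 (-6320) (.lin 3) (.split 6 (-12530) (.lin 0) (.splitN
    222296 (.split 1 1228 (.split 2 612 (.split 3 608 (.split 4 608 (.split 5 (-1208) (.lin 3)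
    (.split 1 452 (.split 2 225 (.split 3 221 (.split 4 221 (.split 6 (-389) (.lin 5) (.split 5
    (-218) (.lin 7) (.split 3 33 (.split 4 40 (.lin 1) (.split 3 14 (.split 4 58 (.lin 1) (.split
    3 12 (.wt 2) (.wt 2))) (.wt 2))) (.split 4 14 (.split 3 58 (.lin 1) (.split 4 12 (.wt 2) (.wt
    2))) (.wt 2))))) (.lin 1)) (.lin 1)) (.lin 2)) .sq)) (.lin 1)) (.lin 1)) (.lin 2)) (.div 1))
    (.wt 5)))) (.lin 1)) (.lin 1)) (.lin 7)) (.lin 2)) (.div 1)) (.wt 3)))) (.lin 0)) (.splitN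
    80687 (.wt 5) (.split 6 (-55) (.split 1 81 (.lin 5) (.split 2 40 (.lin 2) (.split 3 18
    (.split 4 31 (.lin 1) (.split 6 (-56) (.splitN 849151 (.split 1 4702 (.split 3 13 (.split 4
    40 (.lin 1) (.splitN 559585 (.split 6 (-65) (.split 1 99 (.lin 5) (.split 2 49 (.lin 2)
    (.split 4 49 (.lin 1) (.splitN 330472 (.split 1 1822 (.split 6 (-74) (.split 0 13 (.lin 0)
    (.split 5 (-43) (.split 4 58 (.lin 3) (.splitN 252172 (.split 6 (-83) (.split 1 135 (.lin 5)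
    (.split 2 67 (.lin 2) (.split 4 67 (.lin 1) (.split 6 (-93) (.split 0 22 (.lin 0) (.splitN
    194729 (.split 1 411 (.split 2 202 (.split 4 194 (.split 6 (-191) (.split 0 71 (.lin 0)
    (.split 1 243 (.lin 5) (.split 2 121 (.lin 2) (.split 4 121 (.lin 1) (.splitN 137222 .sq (.wt
    0)))))) (.split 1 244 (.split 2 121 (.split 4 113 (.split 5 (-49) (.split 1 153 (.lin 5)
    (.split 6 (-109) (.split 1 162 (.lin 5) (.split 2 80 (.lin 2) (.split 4 76 (.lin 1) (.splitN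
    149808 (.wt 6) (.split 6 (-121) (.wt 0) (.split 0 31 (.split 1 172 (.split 6 (-110) (.lin 0)
    (.split 2 81 (.split 4 77 (.splitN 165484 (.wt 0) (.wt 0)) (.lin 1)) (.lin 2))) (.lin 5))
    (.lin 0))))))) (.lin 0))) (.wt 2)) (.lin 1)) (.lin 2)) (.lin 5))) (.lin 1)) (.lin 2)) .sq)
    (.wt 1))) (.wt 2))))) (.wt 0)) (.wt 1))) (.wt 2))) (.wt 0)) (.div 1)) (.wt 1))))) (.wt 0))
    (.wt 1))) (.wt 1)) (.div 1)) (.wt 1)) (.wt 0))) (.split 4 20 (.split 3 31 (.lin 1) (.split 6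
    (-56) (.splitN 849151 (.split 1 4702 (.split 4 13 (.split 3 40 (.lin 1) (.splitN 559585
    (.split 6 (-65) (.split 3 45 (.lin 9) (.split 2 53 (.lin 1) (.splitN 330472 (.split 1 1822
    (.split 6 (-74) (.split 0 13 (.lin 0) (.split 5 (-43) (.split 3 58 (.lin 3) (.splitN 252172
    (.split 6 (-83) (.split 3 63 (.lin 9) (.split 6 (-93) (.split 0 22 (.lin 0) (.splitN 194729
    (.split 1 411 (.split 2 202 (.split 0 153 (.split 6 (-362) (.lin 0) (.split 3 203 (.split 6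
    (-191) (.split 0 71 (.lin 0) (.split 1 243 (.lin 5) (.split 3 117 (.lin 9) (.split 2 125
    (.lin 1) (.splitN 137222 .sq (.wt 0)))))) (.split 3 117 (.split 5 (-49) (.split 3 72 (.lin 9)
    (.split 6 (-109) (.split 2 80 (.lin 1) (.split 1 162 (.lin 2) (.splitN 149808 (.wt 6) (.split
    6 (-121) (.wt 0) (.split 0 31 (.split 1 172 (.split 3 81 (.split 6 (-110) (.lin 0) (.splitN
    165484 (.wt 0) (.wt 0))) (.lin 9)) (.lin 5)) (.lin 0)))))) (.lin 0))) (.wt 2)) (.lin 9)))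
    (.lin 9))) (.lin 7)) (.lin 2)) .sq) (.wt 1))) (.wt 2))) (.wt 0)) (.wt 1))) (.wt 2))) (.wt 0))
    (.div 1)) (.wt 1)))) (.wt 0)) (.wt 1))) (.wt 1)) (.div 1)) (.wt 1)) (.wt 0))) (.wt 1)))))
    (.wt 5))))) (.wt 2)))))) (.wt 5)) (.wt 5))))

def cert1_0_2 : Cert :=
  (.split 1 (-1) (.split 2 (-5) (.split 3 (-13) (.split 1 (-17) (.split 6 34 (.lin 5) (.splitN
    321301 (.split 1 (-1769) (.div 1) (.split 2 (-883) (.lin 2) (.split 3 (-1769) (.div 3)
    (.split 5 (-7073) (.div 5) (.split 0 (-7948) (.lin 7) (.split 6 9710 (.splitN 169658 (.split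
    3 (-941) (.div 3) (.split 5 (-31) (.split 0 (-45) (.split 6 52 (.lin 5) (.splitN 103244
    (.split 1 (-563) (.div 1) (.split 3 (-563) (.div 3) (.splitN 33406 (.wt 5) (.split 0 (-311)
    .sq (.split 6 575 (.split 5 (-299) (.lin 7) (.splitN 93602 (.split 1 (-509) (.div 1) (.split
    2 (-253) (.lin 2) (.split 4 37 (.split 3 (-284) (.lin 1) (.split 0 (-295) .sq (.split 5
    (-281) (.lin 7) (.split 1 (-292) .sq (.split 2 (-145) (.lin 2) (.split 3 (-176) (.lin 1)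
    (.split 6 458 (.split 4 30 (.split 6 295 (.split 3 (-149) (.lin 9) (.splitN 84263 (.split 0
    (-278) .sq (.split 5 (-263) (.lin 7) (.split 4 10 (.split 5 (-92) (.wt 2) (.split 5 (-64)
    (.split 0 (-72) (.split 6 79 (.lin 4) (.split 3 (-24) (.wt 2) (.split 0 (-109) (.lin 3)
    (.split 6 152 (.split 3 (-18) (.wt 2) (.split 2 (-10) (.lin 1) (.split 1 (-18) (.lin 2)
    (.split 0 (-100) (.lin 3) (.split 6 107 (.split 5 (-67) (.splitN 50808 (.wt 1) (.split 5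
    (-76) (.wt 0) (.split 0 (-82) (.lin 3) (.split 6 89 (.wt 0) (.lin 0))))) (.wt 2)) (.lin
    4)))))) (.lin 0))))) (.lin 3)) (.split 3 (-14) (.split 2 (-18) (.split 1 (-35) (.split 0
    (-54) (.split 6 70 (.lin 4) (.split 5 (-40) (.split 0 (-59) (.split 6 79 (.lin 4) (.splitN
    75687 (.split 6 259 (.split 3 (-108) (.lin 9) (.split 6 141 (.split 1 (-90) (.lin 5) (.split
    3 (-50) (.lin 9) (.split 6 107 (.split 3 (-36) (.lin 9) (.split 5 (-47) (.split 0 (-68)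
    (.split 6 88 (.lin 0) (.splitN 55575 (.splitN 49976 (.wt 0) (.split 6 92 (.wt 0) (.split 0
    (-77) (.split 6 106 (.lin 0) (.wt 0)) (.lin 0)))) (.wt 0))) (.lin 0)) (.wt 2))) (.split 1
    (-62) (.split 3 (-36) (.splitN 56068 (.wt 1) (.splitN 61638 (.split 5 (-53) (.wt 0) (.wt 0))
    (.wt 3))) (.lin 9)) (.lin 5))))) (.split 0 (-95) (.split 1 (-89) (.split 3 (-49) (.split 5
    (-53) (.wt 2) (.split 6 151 (.lin 0) (.wt 2))) (.lin 9)) (.lin 5)) (.lin 0)))) .sq) (.wt 3)))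
    (.lin 0)) (.wt 2))) (.lin 3)) (.lin 2)) (.lin 1)) (.wt 2)))) (.splitN 55776 (.split 5 (-38)
    (.split 6 61 (.lin 5) (.split 6 216 (.split 3 (-108) (.lin 9) (.split 5 (-200) (.lin 5)
    (.splitN 52274 (.split 5 (-52) (.split 6 70 (.lin 5) (.split 5 (-63) (.split 3 (-99) (.lin 9)
    (.split 6 79 (.lin 5) (.splitN 48916 (.split 5 (-95) (.split 6 115 (.lin 5) (.wt 0)) (.wt 0))
    (.wt 6)))) (.wt 0))) (.wt 0)) (.wt 1)))) (.wt 0))) (.wt 0)) (.wt 1))))) (.wt 3))) .sq) (.wt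
    6)) (.lin 4)))))))) (.wt 2)))) (.wt 3))) (.lin 0)))))) (.wt 3))) (.lin 7)) (.wt 2))) (.wt 3))
    (.lin 4))))))) (.wt 1))) (.lin 2)) (.lin 1)) (.lin 2)) (.split 2 (-1) (.lin 2) (.split 4 13
    (.lin 1) (.split 1 18 (.lin 2) (.split 5 (-28) (.splitN 63504 (.split 1 346 (.split 3 (-347)
    (.div 3) (.split 5 (-1385) (.div 5) (.split 6 1358 (.splitN 60021 (.split 1 328 (.split 2 162
    (.split 4 328 (.split 3 (-311) (.lin 1) (.split 0 (-240) .sq (.split 5 (-461) (.lin 0)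
    (.split 6 224 (.split 5 (-398) (.lin 7) (.splitN 52753 (.split 1 292 (.split 4 292 (.split 3
    (-275) (.lin 1) (.split 1 226 (.split 2 112 (.split 5 (-344) (.lin 7) (.splitN 52183 (.split
    4 274 (.split 3 (-257) (.lin 1) (.split 3 (-218) .sq (.split 5 (-220) .sq (.split 6 181
    (.splitN 49116 (.split 6 123 (.split 6 30 (.splitN 28690 (.split 3 (-149) (.div 3) (.split 5
    (-160) .sq (.split 6 14 (.splitN 11513 (.split 1 58 (.split 0 (-37) (.lin 6) (.split 5 (-65)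
    (.lin 0) (.split 4 58 (.split 3 (-41) (.lin 1) (.split 3 (-5) (.split 4 22 (.lin 1) (.split 5
    (-34) (.wt 0) (.wt 0))) (.wt 1))) (.div 4)))) (.div 1)) (.wt 0)) (.split 5 (-37) (.splitN
    26556 (.splitN 17663 (.wt 5) (.split 6 17 (.wt 3) (.wt 5))) (.wt 3)) (.lin 5))))) (.wt 1))
    (.split 1 181 (.splitN 26265 (.wt 0) (.splitN 46054 (.splitN 27486 (.wt 5) (.split 6 105
    (.split 3 (-7) (.split 4 22 (.lin 1) (.splitN 40199 (.split 6 76 (.splitN 37612 (.split 4 202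
    (.split 3 (-185) (.lin 1) (.split 6 62 (.splitN 36297 (.split 4 184 (.split 3 (-167) (.lin 1)
    (.split 6 51 (.splitN 32774 (.split 5 (-82) (.split 1 36 (.lin 5) (.split 2 17 (.lin 2)
    (.split 4 31 (.lin 1) (.split 5 (-95) (.split 1 54 (.lin 5) (.split 2 26 (.lin 2) (.split 4
    40 (.lin 1) (.split 5 (-102) (.split 1 63 (.lin 5) (.split 2 31 (.lin 2) (.split 4 49 (.lin
    1) (.wt 6)))) (.wt 0))))) (.wt 0))))) (.wt 0)) (.wt 1)) (.wt 0))) (.div 4)) (.wt 1)) (.wt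
    0))) (.div 4)) (.wt 1)) (.wt 0)) (.wt 1))) (.wt 1)) (.wt 0))) (.wt 1))) (.lin 5))) (.wt 4))
    (.wt 1)) (.wt 0))))) (.div 4)) (.wt 1))) (.lin 2)) .sq)) (.div 4)) (.div 1)) (.wt 1))) (.lin
    6))))) (.div 4)) (.lin 2)) (.div 1)) (.wt 1)) (.lin 5)))) (.div 1)) (.wt 1)) (.lin 5))))))

def cert1_0_3 : Cert :=
  (.split 1 (-1) (.split 2 (-5) (.split 4 (-13) (.split 1 (-17) (.split 6 34 (.lin 5) (.splitN
    321301 (.split 1 (-1769) (.div 1) (.split 2 (-883) (.lin 2) (.split 4 (-1769) (.div 4)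
    (.split 5 (-7073) (.div 5) (.split 0 (-7948) (.lin 7) (.split 6 9710 (.splitN 169658 (.split
    1 (-941) (.div 1) (.split 2 (-469) (.lin 2) (.split 3 940 (.split 4 (-1400) (.lin 1) (.split
    5 (-31) (.split 0 (-45) (.split 6 52 (.lin 5) (.splitN 103244 (.split 1 (-563) (.div 1)
    (.split 4 (-563) (.div 4) (.splitN 33406 (.wt 5) (.split 0 (-311) .sq (.split 6 575 (.split 5
    (-299) (.lin 7) (.splitN 93602 (.split 1 (-509) (.div 1) (.split 2 (-253) (.lin 2) (.split 3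
    37 (.split 4 (-284) (.lin 1) (.split 0 (-295) .sq (.split 5 (-281) (.lin 7) (.split 1 (-292)
    .sq (.split 2 (-145) (.lin 2) (.split 4 (-176) (.lin 1) (.split 6 458 (.split 3 30 (.split 6
    295 (.split 1 (-252) (.lin 5) (.split 2 (-127) (.lin 2) (.split 4 (-149) (.lin 1) (.splitN
    84263 (.split 0 (-278) .sq (.split 5 (-263) (.lin 7) (.split 3 10 (.split 5 (-92) (.wt 2)
    (.split 5 (-64) (.split 0 (-72) (.split 6 79 (.lin 4) (.split 4 (-24) (.wt 2) (.split 0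
    (-109) (.lin 3) (.split 6 152 (.split 4 (-18) (.wt 2) (.split 2 (-10) (.lin 1) (.split 1
    (-18) (.lin 2) (.split 0 (-100) (.lin 3) (.split 6 107 (.split 5 (-67) (.splitN 50808 (.wt 1)
    (.split 5 (-76) (.wt 0) (.split 0 (-82) (.lin 3) (.split 6 89 (.wt 0) (.lin 0))))) (.wt 2))
    (.lin 4)))))) (.lin 0))))) (.lin 3)) (.split 4 (-14) (.split 2 (-18) (.split 1 (-35) (.split
    0 (-54) (.split 6 70 (.lin 4) (.split 5 (-40) (.split 0 (-59) (.split 6 79 (.lin 4) (.splitN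
    75687 (.split 6 259 (.split 1 (-207) (.lin 5) (.split 2 (-104) (.lin 2) (.split 4 (-104)
    (.lin 1) (.split 6 141 (.split 1 (-90) (.lin 5) (.split 2 (-46) (.lin 2) (.split 4 (-50)
    (.lin 1) (.split 6 107 (.split 1 (-63) (.lin 5) (.split 2 (-32) (.lin 2) (.split 4 (-32)
    (.lin 1) (.split 5 (-47) (.split 0 (-68) (.split 6 88 (.lin 0) (.splitN 55575 (.splitN 49976
    (.wt 0) (.split 6 92 (.wt 0) (.split 0 (-77) (.split 6 106 (.lin 0) (.wt 0)) (.lin 0)))) (.wt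
    0))) (.lin 0)) (.wt 2))))) (.split 1 (-62) (.split 2 (-32) (.split 4 (-40) (.splitN 56068
    (.wt 1) (.splitN 61638 (.split 5 (-53) (.wt 0) (.wt 0)) (.wt 3))) (.lin 1)) (.lin 2)) (.lin
    5)))))) (.split 0 (-95) (.split 1 (-89) (.split 2 (-45) (.split 4 (-49) (.split 5 (-53) (.wt
    2) (.split 6 151 (.lin 0) (.wt 2))) (.lin 1)) (.lin 2)) (.lin 5)) (.lin 0)))))) .sq) (.wt
    3))) (.lin 0)) (.wt 2))) (.lin 3)) (.lin 2)) (.lin 1)) (.wt 2)))) (.splitN 55776 (.split 5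
    (-38) (.split 6 61 (.lin 5) (.split 6 216 (.split 1 (-171) (.lin 5) (.split 2 (-86) (.lin 2)
    (.split 4 (-104) (.lin 1) (.split 5 (-200) (.lin 5) (.splitN 52274 (.split 5 (-52) (.split 6
    70 (.lin 5) (.split 5 (-63) (.split 1 (-153) (.lin 5) (.split 2 (-77) (.lin 2) (.split 4
    (-95) (.lin 1) (.split 6 79 (.lin 5) (.splitN 48916 (.split 5 (-95) (.split 6 115 (.lin 5)
    (.wt 0)) (.wt 0)) (.wt 6)))))) (.wt 0))) (.wt 0)) (.wt 1)))))) (.wt 0))) (.wt 0)) (.wt 1)))))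
    (.wt 3))))) .sq) (.wt 6)) (.lin 4)))))))) (.wt 2)))) (.wt 3))) (.lin 0)))))) (.wt 3))) (.lin
    7)) (.wt 2))) (.div 3)))) (.wt 3)) (.lin 4))))))) (.wt 1))) (.lin 2)) (.lin 1)) (.lin 2))
    (.split 2 (-1) (.lin 2) (.split 3 13 (.lin 1) (.split 1 18 (.lin 2) (.split 5 (-28) (.splitN
    63504 (.split 0 (-3115) (.div 0) (.split 5 (-6221) (.lin 0) (.split 1 6211 (.split 1 346
    (.split 3 346 (.split 4 (-329) (.lin 1) (.split 5 (-1385) (.div 5) (.split 6 1358 (.splitN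
    60021 (.split 3 328 (.split 4 (-311) (.lin 1) (.split 0 (-240) .sq (.split 5 (-461) (.lin 0)
    (.split 6 224 (.splitN 52753 (.split 1 226 (.split 2 112 (.split 5 (-344) (.lin 7) (.splitN
    52183 (.split 3 218 (.split 4 (-203) (.lin 1) (.split 5 (-220) .sq (.split 6 181 (.splitN
    49072 (.split 6 122 (.splitN 46048 (.split 5 (-205) .sq (.split 6 28 (.splitN 28546 (.split 3
    148 (.split 4 (-131) (.lin 1) (.split 5 (-160) .sq (.split 6 14 (.splitN 11513 (.split 1 58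
    (.split 0 (-37) (.lin 6) (.split 5 (-65) (.lin 0) (.split 3 58 (.split 4 (-41) (.lin 1)
    (.split 4 (-5) (.split 3 22 (.lin 1) (.split 5 (-34) (.wt 0) (.wt 0))) (.wt 1))) (.div 3))))
    (.div 1)) (.wt 0)) (.split 5 (-37) (.splitN 26556 (.splitN 17663 (.wt 5) (.split 6 17 (.wt 3)
    (.wt 5))) (.wt 3)) (.lin 5))))) (.div 3)) (.wt 1)) (.splitN 26412 (.wt 0) (.splitN 27573 (.wt
    5) (.split 4 (-7) (.split 3 22 (.lin 1) (.splitN 39467 (.split 6 61 (.splitN 34580 (.split 6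
    50 (.splitN 32603 (.split 3 166 (.split 5 (-82) (.split 1 36 (.lin 5) (.split 3 31 (.lin 9)
    (.split 5 (-95) (.split 1 54 (.lin 5) (.split 3 40 (.lin 9) (.split 2 26 (.lin 2) (.split 4
    (-131) (.lin 1) (.wt 6))))) (.wt 0)))) (.wt 0)) (.div 3)) (.wt 1)) (.wt 0)) (.wt 1)) (.wt 0))
    (.wt 6))) (.wt 1)))))) (.wt 1)) (.wt 4)) (.wt 1)) (.wt 0)))) .sq) (.wt 1))) (.lin 2)) .sq)
    (.wt 1)) (.lin 6))))) (.div 3)) (.wt 1)) (.lin 5)))) (.div 3)) (.div 1)) (.lin 5)))) (.wt 1))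
    (.lin 5))))))

def cert1_0_4 : Cert :=
  (.split 6 (-82) (.split 0 89 (.lin 6) (.splitN 173269 (.split 1 (-959) (.div 1) (.split 5 3832
    (.split 4 5 (.wt 2) (.split 3 (-22) (.splitN 122807 (.split 5 111 (.wt 2) (.split 0 98 (.lin
    0) (.split 1 (-300) .sq (.split 2 (-149) (.lin 2) (.split 3 (-158) (.lin 1) (.split 5 320
    (.split 1 (-234) (.lin 5) (.split 3 (-131) (.lin 9) (.split 6 (-154) (.split 0 161 (.lin 4)
    (.split 5 169 (.lin 3) (.splitN 79910 .sq (.wt 3)))) (.split 3 (-54) (.split 2 (-45) (.split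
    1 (-89) (.split 5 202 (.wt 2) (.split 0 143 (.lin 0) (.splitN 83402 .sq (.split 6 (-115) (.wt
    0) (.split 3 (-63) (.split 2 (-54) (.split 1 (-107) (.splitN 88946 .sq (.split 6 (-101) (.wt
    0) (.split 5 216 (.wt 2) (.split 0 152 (.lin 0) (.split 1 (-125) (.split 3 (-76) (.splitN
    105875 .sq (.wt 1)) (.lin 9)) (.lin 5)))))) (.lin 2)) (.lin 1)) (.lin 9)))))) (.lin 2)) (.lin
    1)) (.split 2 (-37) (.lin 1) (.split 1 (-72) (.lin 2) (.split 0 180 (.split 5 215 (.split 6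
    (-114) (.split 3 (-39) (.wt 2) (.split 0 162 (.split 5 179 (.split 3 (-30) (.wt 2) (.split 2
    (-10) (.lin 1) (.split 1 (-18) (.lin 2) (.split 0 153 (.split 5 161 (.splitN 75603 (.wt 1)
    (.split 6 (-137) (.wt 0) (.split 0 148 (.split 5 152 (.split 6 (-133) (.wt 0) (.split 0 139
    (.split 5 143 (.split 5 141 (.wt 2) (.split 0 130 (.lin 0) (.split 6 (-127) (.wt 2) (.lin
    0)))) (.lin 3)) (.lin 0))) (.lin 3)) (.lin 0)))) (.lin 3)) (.lin 4))))) (.lin 3)) (.lin 4)))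
    (.split 0 144 (.split 5 179 (.split 3 (-45) (.wt 2) (.split 0 135 (.split 5 161 (.split 3
    (-37) (.wt 2) (.split 0 126 (.split 5 143 (.split 3 (-31) (.wt 2) (.split 2 (-10) (.lin 1)
    (.split 1 (-18) (.lin 2) (.split 0 107 (.lin 3) (.split 0 117 (.split 5 125 (.split 6 (-100)
    (.splitN 86501 (.wt 1) (.wt 0)) (.lin 4)) (.lin 3)) (.lin 4)))))) (.lin 3)) (.lin 4))) (.lin
    3)) (.lin 4))) (.lin 3)) (.lin 4))) (.lin 3)) (.lin 4)))))))) .sq)))))) (.wt 3)) (.lin 1)))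
    (.div 5))) (.wt 3))) (.splitN 60641 (.wt 1) (.split 4 9 (.splitN 656169 (.wt 6) (.split 5 120
    (.wt 0) (.split 3 (-31) (.wt 2) (.lin 9)))) (.split 3 (-22) (.split 5 66 (.wt 2) (.split 5
    376 (.split 1 (-333) (.lin 5) (.split 3 (-180) (.lin 9) (.split 5 288 (.split 1 (-252) (.lin
    5) (.split 3 (-140) (.lin 9) (.split 5 272 (.split 3 (-131) (.lin 9) (.split 6 (-55) (.split
    3 (-122) (.lin 9) (.splitN 202957 (.split 5 88 (.wt 2) (.splitN 94996 (.wt 3) (.split 5 154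
    (.split 1 (-99) (.lin 5) (.split 3 (-63) (.lin 9) (.split 5 120 (.split 0 94 (.split 3 (-37)
    (.wt 2) (.split 5 107 (.split 3 (-30) (.wt 2) (.split 0 80 (.lin 3) (.split 0 81 (.split 5 89
    (.split 6 (-73) (.wt 0) (.lin 0)) (.lin 3)) (.lin 4)))) (.lin 3))) (.lin 0)) (.split 1 (-53)
    (.split 3 (-40) (.split 6 (-73) (.wt 2) (.split 1 (-62) (.split 3 (-45) (.split 2 (-36)
    (.split 1 (-71) (.splitN 123623 (.wt 1) (.splitN 158278 (.split 5 129 (.wt 2) (.split 0 94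
    (.lin 0) (.split 6 (-60) (.split 3 (-58) (.wt 0) (.split 0 99 (.split 5 134 (.wt 0) (.lin 0))
    (.lin 4))) (.split 5 142 (.lin 0) (.wt 0))))) (.wt 3))) (.lin 2)) (.lin 1)) (.lin 9)) (.lin
    5))) (.lin 9)) (.lin 5))))) (.split 1 (-89) (.splitN 166099 (.split 5 238 (.split 3 (-104)
    (.lin 9) (.split 6 (-64) (.split 0 112 (.lin 0) (.split 3 (-99) (.lin 9) (.splitN 132584
    (.split 5 220 (.split 3 (-90) (.lin 9) (.split 6 (-69) .cand (.split 1 (-98) (.split 5 169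
    (.lin 0) (.splitN 124778 (.wt 0) (.split 5 192 (.split 3 (-77) (.lin 9) (.split 3 (-68)
    (.split 0 125 (.lin 4) (.split 5 187 (.lin 0) (.wt 1))) (.wt 1))) (.wt 0)))) (.lin 5)))) (.wt
    2)) (.wt 3)))) (.splitN 159009 (.wt 0) (.split 5 176 (.split 3 (-72) (.lin 9) (.wt 1)) (.wt
    0))))) (.wt 2)) (.wt 1)) (.lin 5))))) (.wt 3))) (.split 1 (-26) (.split 3 (-27) (.split 5 76
    (.wt 2) (.split 0 58 (.lin 0) (.split 5 140 (.split 3 (-63) (.lin 9) (.split 5 118 (.split 3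
    (-54) (.lin 9) (.split 5 112 (.split 0 76 (.split 6 (-42) (.split 5 98 (.split 1 (-54) (.lin
    5) (.split 3 (-41) (.lin 9) (.splitN 200348 (.wt 1) (.split 5 88 (.wt 0) (.split 0 67 (.lin
    0) (.split 3 (-36) (.split 5 97 (.lin 0) (.split 2 (-27) (.split 1 (-53) (.splitN 206657 (.wt
    0) (.wt 0)) (.lin 2)) (.lin 1))) (.lin 9))))))) (.lin 0)) (.split 5 88 (.lin 0) (.split 1
    (-53) (.split 3 (-40) (.splitN 799548 (.split 5 92 (.split 1 (-54) (.lin 5) (.split 3 (-41)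
    (.lin 9) (.splitN 788407 (.wt 0) (.wt 0)))) (.wt 0)) (.wt 1)) (.lin 9)) (.lin 5)))) (.lin 0))
    (.wt 2))) (.wt 2))) (.wt 2)))) (.lin 9)) (.lin 5)))) (.wt 2)))) (.wt 2)))) (.wt 2))) (.lin
    1)))))

def cert1_0_5 : Cert :=
  (.split 6 (-69) (.split 0 80 (.lin 6) (.split 5 88 (.lin 5) (.splitN 193673 (.split 3 (-1067)
    (.div 3) (.splitN 120990 (.split 3 (-317) .sq (.split 5 209 (.split 1 (-135) (.lin 5) (.split
    2 (-68) (.lin 2) (.split 1 (-126) (.lin 2) (.split 5 147 (.split 1 (-72) (.lin 5) (.split 2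
    (-37) (.lin 2) (.split 4 83 (.split 3 (-113) (.lin 1) (.split 6 (-100) (.split 1 (-45) (.lin
    5) (.split 2 (-23) (.lin 2) (.split 1 (-36) (.lin 2) (.split 5 115 (.lin 5) (.split 3 (-32)
    (.split 4 42 (.split 3 (-59) (.lin 1) (.split 4 33 (.split 3 (-50) (.lin 1) (.split 4 30
    (.split 0 126 (.split 0 116 (.lin 4) (.split 3 (-45) (.lin 9) (.split 5 133 (.lin 3) (.split
    6 (-110) (.lin 4) (.splitN 82183 (.wt 0) (.wt 1)))))) (.lin 3)) (.wt 2))) (.wt 2))) (.wt 2))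
    (.wt 2)))))) (.split 4 42 (.split 3 (-77) (.lin 1) (.split 5 135 (.split 3 (-72) (.lin 9)
    (.split 5 131 (.split 5 107 (.split 1 (-36) (.lin 5) (.split 3 (-59) (.lin 9) (.split 2 (-19)
    (.lin 2) (.split 4 32 (.split 3 (-50) (.lin 1) (.split 6 (-82) (.split 1 (-27) (.lin 5)
    (.split 3 (-45) (.lin 9) (.split 2 (-14) (.lin 2) (.split 5 97 (.lin 5) (.split 4 28 (.split
    3 (-32) (.lin 1) (.splitN 90692 (.split 5 99 (.split 0 94 (.split 6 (-83) (.lin 0) (.wt 0))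
    (.lin 0)) (.wt 0)) (.wt 6))) (.wt 2)))))) (.split 5 105 (.split 0 85 (.split 5 89 (.split 1
    (-18) (.lin 5) (.splitN 103313 (.wt 5) (.wt 3))) (.lin 0)) (.lin 0)) (.wt 2)))) (.split 3
    (-49) (.splitN 98859 (.split 5 93 (.split 0 81 (.split 6 (-74) (.lin 0) (.wt 0)) (.lin 3))
    (.wt 2)) (.wt 1)) (.lin 1)))))) (.split 1 (-26) (.split 2 (-14) (.split 1 (-35) (.splitN
    101861 (.splitN 85827 (.wt 5) (.split 6 (-74) (.split 3 (-63) (.lin 9) (.splitN 93594 (.split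
    6 (-84) (.split 0 103 (.lin 0) (.split 5 124 (.lin 0) (.wt 1))) (.wt 0)) (.wt 1))) (.wt 0)))
    (.wt 1)) (.lin 2)) (.lin 2)) (.lin 5))) (.wt 2))) (.wt 2))) (.split 5 99 (.split 1 (-27)
    (.lin 5) (.split 3 (-90) (.lin 9) (.split 2 (-14) (.lin 2) (.split 1 (-18) (.lin 2) (.split 6
    (-83) (.lin 5) (.splitN 91597 (.wt 0) (.split 4 72 (.split 3 (-77) (.lin 1) (.wt 6)) (.wt
    1)))))))) (.wt 2))))) (.split 5 108 (.split 1 (-36) (.lin 5) (.split 2 (-19) (.lin 2) (.split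
    6 (-92) (.lin 5) (.split 3 (-114) (.split 4 103 (.lin 1) (.split 3 (-149) (.split 4 139 (.lin
    1) (.splitN 88526 (.split 5 104 (.split 1 (-27) (.lin 5) (.split 2 (-14) (.lin 2) (.split 4
    148 (.lin 1) (.split 6 (-83) (.lin 5) (.wt 0))))) (.wt 0)) (.wt 6))) (.wt 2))) (.wt 2)))))
    (.wt 2))))) (.split 1 (-26) (.split 2 (-14) (.split 1 (-35) (.splitN 72863 (.wt 0) (.splitN
    105199 (.split 6 (-75) (.split 4 123 (.split 3 (-185) (.lin 1) (.split 3 (-69) (.split 4 27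
    (.split 0 153 (.split 0 134 (.lin 4) (.split 3 (-86) (.lin 9) (.split 5 187 (.lin 3) (.split
    6 (-101) (.lin 4) (.splitN 89300 (.wt 0) (.wt 1)))))) (.lin 3)) (.wt 2)) (.wt 2))) (.wt 1))
    (.wt 0)) (.wt 1))) (.lin 2)) (.lin 2)) (.lin 5)))))) (.wt 2))) (.wt 3))) (.wt 0)))) (.split 5
    136 (.splitN 4809430 (.split 3 (-2192) .sq (.split 5 93 (.split 0 76 (.split 1 (-54) (.lin 5)
    (.split 2 (-28) (.lin 2) (.splitN 1308468 (.split 3 (-1140) .sq (.split 6 (-51) (.split 1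
    (-36) (.lin 5) (.split 2 (-19) (.lin 2) (.split 5 70 (.lin 5) (.splitN 148141 (.splitN 101997
    (.wt 5) (.split 4 90 (.split 3 (-104) (.lin 1) (.split 4 44 (.split 3 (-59) (.lin 1) (.split
    4 32 (.split 3 (-50) (.lin 1) (.split 5 80 (.split 1 (-27) (.lin 5) (.split 2 (-14) (.lin 2)
    (.split 1 (-18) (.lin 2) .cand))) (.split 1 (-26) (.split 6 (-56) (.lin 0) (.splitN 138452
    (.wt 0) (.wt 1))) (.lin 5)))) (.split 3 (-49) (.split 5 80 (.split 3 (-54) (.lin 9) (.split 2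
    (-10) (.lin 1) (.split 1 (-18) (.lin 2) (.split 5 77 (.split 0 67 (.split 6 (-56) (.lin 0)
    (.splitN 132040 (.wt 0) (.wt 0))) (.lin 0)) (.wt 2))))) (.wt 2)) (.lin 1)))) (.split 5 83
    (.split 1 (-27) (.lin 5) (.split 2 (-14) (.lin 2) (.split 1 (-18) (.lin 2) .cand))) (.wt
    2)))) (.split 5 80 (.split 1 (-27) (.lin 5) (.split 2 (-14) (.lin 2) (.split 1 (-18) (.lin 2)
    .cand))) (.wt 2)))) (.wt 5))))) (.split 0 67 (.split 5 71 (.split 0 58 (.split 1 (-36) (.lin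
    5) (.split 2 (-19) (.lin 2) (.split 4 136 (.split 3 (-149) (.lin 1) (.split 4 54 (.split 3
    (-68) (.lin 1) (.split 5 62 (.split 1 (-27) (.lin 5) (.split 2 (-14) (.lin 2) (.split 1 (-18)
    (.lin 2) (.split 6 (-42) (.split 0 49 (.lin 0) (.split 5 61 (.lin 0) (.splitN 176901 (.wt 5)
    (.wt 5)))) (.split 0 49 (.split 5 53 (.splitN 360040 (.wt 5) (.wt 5)) (.lin 0)) (.lin 0))))))
    (.split 6 (-38) (.lin 0) (.split 1 (-35) (.splitN 506685 (.wt 0) (.wt 1)) (.lin 5)))))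
    (.split 3 (-67) (.split 5 69 (.split 1 (-27) (.lin 5) (.split 2 (-14) (.lin 2) (.split 1
    (-18) (.lin 2) (.split 6 (-42) (.split 0 49 (.lin 0) (.split 5 61 (.lin 0) (.splitN 173956
    (.wt 3) (.split 3 (-120) (.wt 0) (.split 4 104 (.split 3 (-97) (.wt 0) (.split 4 86 (.split 3
    (-81) (.wt 0) (.split 4 68 (.wt 0) (.lin 1))) (.lin 1))) (.lin 1)))))) (.split 0 49 (.split 5
    53 (.splitN 354599 (.wt 1) (.split 3 (-73) (.wt 0) (.split 4 59 (.wt 0) (.lin 1)))) (.lin 0))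
    (.lin 0)))))) (.wt 2)) (.lin 1)))) (.split 3 (-148) (.split 5 66 (.split 1 (-27) (.lin 5)
    (.split 2 (-14) (.lin 2) (.split 1 (-18) (.lin 2) (.splitN 465409 (.split 3 (-662) .sq
    (.split 4 653 (.split 6 (-42) (.split 0 49 (.lin 0) (.split 5 61 (.lin 0) (.splitN 176900
    (.wt 5) (.wt 5)))) (.split 0 49 (.split 5 53 (.splitN 353818 (.wt 1) (.wt 0)) (.lin 0)) (.lin
    0))) (.lin 1))) (.wt 3))))) (.wt 2)) (.lin 1))))) (.lin 0)) (.split 1 (-35) (.splitN 187182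
    (.wt 5) (.split 3 (-55) (.split 4 31 (.lin 1) (.splitN 414621 (.split 6 (-40) (.split 5 80
    (.split 1 (-36) (.lin 5) (.split 2 (-19) (.lin 2) (.split 4 40 (.lin 1) (.wt 1)))) (.lin 0))
    (.wt 0)) (.wt 1))) (.wt 2))) (.lin 5))) (.lin 0)))) (.wt 3)))) (.lin 0)) (.split 1 (-35)
    (.splitN 474814 (.split 6 (-39) (.split 3 (-53) (.split 4 39 (.split 2 (-27) (.split 1 (-53)
    (.split 3 (-77) (.lin 9) (.splitN 173262 (.split 6 (-54) (.split 0 76 (.lin 0) (.split 3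
    (-72) (.lin 9) (.split 5 106 (.lin 3) (.wt 2)))) (.wt 0)) (.wt 1))) (.lin 2)) (.lin 1)) (.wt
    2)) (.wt 2)) (.wt 0)) (.wt 1)) (.lin 5)))) (.wt 3)) (.wt 2)))

def cert1_0_6 : Cert :=
  (.split 5 75 (.split 6 (-141) (.split 0 94 (.lin 0) (.split 1 72 (.lin 5) (.split 2 35 (.lin 2)
    (.split 4 49 (.lin 1) (.splitN 61176 (.split 3 (-33) (.wt 2) (.split 5 47 (.wt 2) (.split 0
    160 (.split 6 (-254) (.lin 0) (.split 1 199 (.split 2 99 (.split 4 131 (.split 3 (-31) (.wt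
    2) (.split 1 146 (.split 2 72 (.split 4 95 (.split 6 (-193) .sq (.split 3 (-18) (.split 4 58
    (.lin 1) (.split 5 64 (.wt 2) (.splitN 56631 (.wt 0) (.wt 6)))) (.splitN 57003 (.split 5 60
    (.split 1 90 (.lin 5) (.split 2 44 (.lin 2) (.split 6 (-149) (.split 0 103 (.lin 0) (.split 1
    99 (.lin 5) (.split 6 (-163) (.split 2 53 (.lin 2) (.split 4 67 (.lin 1) .sq)) (.lin 0))))
    (.wt 0)))) (.wt 0)) (.wt 1)))) (.lin 1)) (.lin 2)) .sq)) (.lin 1)) (.lin 2)) (.lin 5)))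
    .sq))) (.wt 5)))))) (.split 1 91 (.split 2 45 (.split 4 86 (.split 5 57 (.split 3 (-23) (.wt
    2) (.split 4 68 (.split 3 (-22) (.wt 2) (.split 4 59 (.split 6 (-100) (.split 1 45 (.lin 5)
    (.split 2 22 (.lin 2) (.split 4 40 (.lin 1) (.splitN 56059 (.wt 1) (.split 5 44 (.wt 0)
    (.split 0 76 (.lin 0) (.split 1 82 (.split 6 (-109) (.split 2 36 (.split 4 50 (.splitN 62015
    (.split 6 (-119) (.wt 0) (.wt 0)) (.wt 0)) (.lin 1)) (.lin 2)) (.lin 0)) (.lin 5))))))))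
    (.split 1 46 (.split 2 22 (.split 4 32 (.split 1 37 (.splitN 63559 (.wt 1) (.split 6 (-91)
    (.wt 0) (.split 0 67 (.split 5 47 (.wt 2) (.split 0 58 (.lin 0) (.split 1 28 (.split 6 (-73)
    (.split 6 (-74) (.lin 0) (.split 1 19 (.split 2 9 (.split 4 23 (.splitN 71635 (.wt 0) (.wt
    0)) (.lin 1)) (.lin 2)) (.lin 5))) (.lin 0)) (.lin 5)))) (.lin 0)))) (.lin 2)) (.lin 1))
    (.lin 2)) (.lin 5))) (.lin 1))) (.lin 1))) (.split 1 73 (.split 2 36 (.split 6 (-82) (.split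
    3 (-23) (.splitN 59896 (.wt 1) (.split 6 (-130) (.wt 0) (.split 1 64 (.split 2 31 (.split 4
    68 (.split 1 55 (.split 5 63 (.wt 2) (.split 0 76 (.lin 0) (.split 6 (-91) (.split 3 (-39)
    (.wt 2) (.split 4 59 (.split 6 (-126) (.wt 0) (.split 1 46 (.split 2 18 (.split 4 50 (.splitN
    67553 (.wt 6) (.split 6 (-98) (.wt 0) (.split 1 19 (.split 2 9 (.split 4 41 (.wt 2) (.lin 1))
    (.lin 2)) (.lin 5)))) (.lin 1)) (.lin 2)) (.lin 5))) (.lin 1))) (.lin 0)))) (.lin 2)) (.lin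
    1)) (.lin 2)) (.lin 5)))) (.split 4 59 (.split 3 (-18) (.split 4 31 (.lin 1) (.split 6 (-109)
    (.split 1 36 (.lin 5) (.split 2 17 (.lin 2) (.split 4 40 (.lin 1) (.splitN 68305 (.splitN
    59403 (.wt 3) (.split 5 63 (.wt 2) (.split 6 (-111) (.split 0 94 (.lin 0) (.split 1 45 (.lin
    5) (.split 6 (-127) (.split 2 26 (.lin 2) (.split 4 49 (.lin 1) (.wt 1))) (.lin 0)))) (.wt
    0)))) (.wt 0))))) (.split 0 85 (.split 1 37 (.split 2 18 (.split 4 41 (.split 5 66 (.wt 2)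
    (.split 0 76 (.lin 0) (.split 1 28 (.split 6 (-91) (.split 6 (-92) (.lin 0) (.split 2 9
    (.split 4 32 (.splitN 70018 (.wt 0) (.wt 0)) (.lin 1)) (.lin 2))) (.lin 0)) (.lin 5)))) (.lin
    1)) (.lin 2)) (.lin 5)) (.lin 0)))) (.splitN 70270 (.split 6 (-89) (.split 0 76 (.lin 0)
    (.split 4 25 (.split 0 81 (.split 6 (-101) (.lin 0) (.split 5 70 (.lin 3) (.wt 0))) (.lin 3))
    (.wt 2))) (.wt 0)) (.wt 1))) (.lin 1))) (.lin 5)) (.lin 2)) (.lin 5))) (.lin 1)) (.lin 2))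
    (.lin 5))) (.split 0 89 (.lin 7) (.split 6 (-100) (.splitN 77499 (.split 3 (-14) (.split 4 31
    (.lin 1) (.split 6 (-243) .sq (.split 1 154 (.split 2 76 (.split 4 113 (.split 6 (-168)
    (.split 0 125 (.lin 0) (.split 1 63 (.lin 5) (.split 2 31 (.lin 2) (.split 4 58 (.lin 1)
    (.split 1 72 (.lin 2) (.splitN 62450 .sq (.wt 1))))))) (.split 1 82 (.split 2 40 (.split 4 77
    (.split 5 105 (.split 6 (-132) (.split 1 36 (.lin 5) (.split 2 17 (.lin 2) (.split 4 40 (.lin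
    1) (.splitN 59411 (.wt 5) (.split 3 (-25) (.split 4 49 (.lin 1) (.splitN 65339 (.split 5 96
    (.split 1 45 (.lin 5) (.split 2 22 (.lin 2) (.split 4 58 (.lin 1) (.split 6 (-138) (.split 0
    112 (.lin 0) (.split 3 (-33) (.split 4 67 (.lin 1) (.split 6 (-162) (.wt 0) (.split 5 87
    (.split 6 (-154) (.wt 0) (.lin 0)) (.wt 0)))) (.wt 1))) (.wt 0))))) (.wt 0)) (.wt 3))) (.wt
    1)))))) (.split 1 46 (.split 2 22 (.split 4 59 (.split 3 (-24) (.split 4 40 (.lin 1) (.split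
    5 89 (.split 6 (-114) (.split 1 27 (.lin 5) (.split 2 13 (.lin 2) (.split 4 49 (.lin 1)
    (.split 1 36 (.lin 2) (.split 3 (-33) (.split 4 58 (.lin 1) (.split 5 81 (.split 0 103
    (.split 6 (-119) (.lin 0) (.splitN 65640 (.wt 0) (.wt 0))) (.lin 0)) (.wt 2))) (.wt 2))))))
    (.split 1 28 (.split 2 13 (.split 1 19 (.splitN 65849 (.wt 5) (.split 3 (-38) (.split 4 49
    (.lin 1) (.wt 1)) (.wt 1))) (.lin 2)) (.lin 2)) (.lin 5))) (.wt 2))) (.wt 2)) (.lin 1)) (.lin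
    2)) (.lin 5))) (.wt 2)) (.lin 1)) (.lin 2)) (.lin 5))) (.lin 1)) (.lin 2)) (.lin 5)))) (.wt
    2)) (.wt 3)) (.lin 5))))

def cert1_0_7 : Cert :=
  (.split 3 (-47) (.split 4 58 (.lin 1) (.split 5 50 (.wt 2) (.split 0 49 (.lin 0) (.split 1 487
    (.split 6 (-73) (.splitN 189776 (.split 5 60 (.wt 2) (.split 0 67 (.lin 0) (.split 6 (-82)
    (.split 5 63 (.wt 2) (.split 0 76 (.lin 0) (.split 6 (-91) (.split 5 154 (.splitN 84071
    (.split 3 (-455) (.div 3) (.split 4 454 (.split 1 236 (.split 4 242 (.split 6 (-253) .sq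
    (.split 1 172 (.split 2 85 (.split 1 163 (.split 5 98 (.split 6 (-168) (.split 0 121 (.lin 0)
    (.split 1 72 (.lin 5) (.split 2 35 (.lin 2) (.split 4 85 (.lin 1) (.splitN 66923 .sq (.wt
    0)))))) (.split 0 130 (.split 1 91 (.split 6 (-127) (.split 1 27 (.lin 5) (.split 2 13 (.lin
    2) (.split 4 67 (.lin 1) (.split 1 36 (.lin 2) (.splitN 71101 (.split 5 73 (.wt 2) (.split 0
    103 (.lin 0) (.split 1 82 (.split 2 40 (.split 1 73 (.splitN 59319 (.wt 3) (.split 4 174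
    (.split 3 (-149) (.lin 1) (.split 5 89 (.split 6 (-156) (.wt 5) (.split 0 121 (.split 3 (-94)
    (.split 5 84 (.wt 2) .cand) (.split 4 122 (.split 3 (-67) (.split 5 82 (.wt 2) .cand) (.split
    4 95 (.split 5 84 (.split 6 (-136) (.split 1 54 (.lin 5) (.splitN 63140 (.wt 1) (.wt 0)))
    (.lin 0)) (.split 6 (-146) (.lin 0) (.split 3 (-52) (.split 4 76 (.lin 1) (.splitN 64991 (.wt
    0) (.wt 1))) (.wt 2)))) (.lin 1))) (.lin 1))) (.lin 0))) (.split 0 112 (.lin 0) (.split 6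
    (-136) (.split 6 (-155) (.lin 0) (.split 1 55 (.split 3 (-50) (.split 4 76 (.lin 1) (.split 3
    (-91) (.split 4 112 (.lin 1) (.splitN 64847 .sq (.wt 1))) (.wt 2))) (.wt 1)) (.lin 5))) (.lin
    0))))) .sq)) (.lin 2)) (.lin 2)) (.lin 5)))) (.wt 0)))))) (.split 1 46 (.split 2 22 (.split 1
    37 (.split 5 84 (.split 3 (-104) (.split 5 75 (.wt 2) (.split 0 85 (.lin 0) (.split 6 (-100)
    (.split 3 (-140) (.wt 2) (.split 4 158 (.wt 2) (.lin 1))) (.lin 0)))) (.split 4 122 (.split 6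
    (-105) (.split 1 27 (.lin 5) (.split 2 13 (.lin 2) (.split 1 36 (.lin 2) (.splitN 68652
    (.split 3 (-60) (.wt 1) (.split 4 77 (.wt 1) (.lin 1))) (.wt 0))))) (.split 1 28 (.split 2 13
    (.split 1 19 (.splitN 66612 (.wt 3) (.splitN 71728 (.split 3 (-95) (.wt 1) (.split 4 104
    (.split 5 72 (.wt 2) (.split 0 85 (.lin 0) (.split 6 (-100) (.wt 5) (.lin 0)))) (.lin 1)))
    (.wt 5))) (.lin 2)) (.lin 2)) (.lin 5))) (.lin 1))) (.split 0 89 (.lin 0) (.split 1 28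
    (.split 2 13 (.split 1 19 (.split 6 (-109) (.splitN 70902 (.split 3 (-67) (.split 4 76 (.lin
    1) (.split 3 (-92) (.split 4 103 (.lin 1) (.split 3 (-133) (.split 4 148 (.lin 1) .sq) (.wt
    2))) (.wt 2))) (.wt 2)) (.wt 1)) (.lin 5)) (.lin 2)) (.lin 2)) (.lin 5)))) (.lin 2)) (.lin
    2)) (.lin 5))) (.lin 5)) (.lin 0))) (.split 0 116 (.lin 7) (.split 6 (-127) (.splitN 69798
    (.split 3 (-62) (.split 4 76 (.lin 1) (.split 3 (-82) (.split 4 94 (.lin 1) (.split 3 (-104)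
    (.split 4 121 (.lin 1) .sq) (.wt 2))) (.wt 2))) (.wt 2)) (.wt 1)) (.lin 5)))) (.lin 2)) (.lin
    2)) (.lin 5))) .sq) .sq) (.div 4))) (.wt 3)) (.wt 2)) (.lin 5)))) (.lin 5)))) (.wt 0)) (.lin
    5)) (.lin 5))))) (.split 4 311 (.splitN 262405 (.split 6 (-508) .sq (.split 1 478 (.split 5
    113 (.splitN 204333 (.split 6 (-447) .sq (.split 1 415 (.split 3 (-13) (.split 4 22 (.lin 1)
    (.split 5 36 (.wt 2) (.split 6 (-64) (.splitN 107615 (.split 1 307 cert1_0_6 .sq) (.wt 3))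
    (.lin 5)))) (.splitN 68054 (.split 6 (-53) (.splitN 61460 (.split 6 (-60) (.splitN 57455
    (.split 6 (-65) (.splitN 54770 (.split 5 46 (.split 1 27 (.lin 5) (.split 2 13 (.lin 2)
    (.split 4 22 (.lin 1) (.splitN 40425 (.split 1 220 (.split 2 108 (.split 0 153 (.split 4 113
    (.split 6 (-263) (.lin 4) (.split 1 105 (.split 2 49 (.split 0 90 (.split 6 (-155) (.lin 0)
    (.wt 0)) (.lin 7)) (.lin 2)) (.wt 0))) (.lin 1)) (.lin 7)) (.lin 2)) (.div 1)) (.wt 6)))))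
    (.wt 0)) (.wt 1)) (.wt 0)) (.wt 1)) (.wt 0)) (.wt 1)) (.wt 0)) (.wt 1))) (.lin 5))) (.wt 3))
    (.split 1 388 (.split 6 (-136) (.split 3 (-22) (.split 4 31 (.lin 1) (.splitN 65493 (.split 6
    (-166) (.split 0 143 (.lin 0) .sq) (.wt 0)) (.wt 1))) (.wt 2)) (.lin 5)) (.lin 5))) (.lin
    5))) (.wt 3)) (.lin 1)))

def cert1_0_8 : Cert :=
  (.split 6 (-82) (.split 0 89 (.lin 6) (.splitN 173269 (.split 1 (-959) (.div 1) (.split 5 3832
    (.split 3 5 (.wt 2) (.split 4 (-22) (.splitN 122807 (.split 5 111 (.wt 2) (.split 0 98 (.lin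
    0) (.split 1 (-300) .sq (.split 2 (-149) (.lin 2) (.split 4 (-158) (.lin 1) (.split 5 320
    (.split 1 (-234) (.lin 5) (.split 2 (-118) (.lin 2) (.split 4 (-131) (.lin 1) (.split 6
    (-154) (.split 0 161 (.lin 4) (.split 5 169 (.lin 3) (.splitN 79910 .sq (.wt 3)))) (.split 4
    (-54) (.split 2 (-45) (.split 1 (-89) (.split 5 202 (.wt 2) (.split 0 143 (.lin 0) (.splitN
    83402 .sq (.split 6 (-115) (.wt 0) (.split 1 (-98) (.split 2 (-50) (.split 4 (-67) (.split 1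
    (-107) (.splitN 88946 .sq (.split 6 (-101) (.wt 0) (.split 5 216 (.wt 2) (.split 0 152 (.lin
    0) (.split 1 (-125) (.split 2 (-63) (.split 4 (-76) (.splitN 105875 .sq (.wt 1)) (.lin 1))
    (.lin 2)) (.lin 5)))))) (.lin 2)) (.lin 1)) (.lin 2)) (.lin 5)))))) (.lin 2)) (.lin 1))
    (.split 2 (-37) (.lin 1) (.split 1 (-72) (.lin 2) (.split 0 180 (.split 5 215 (.split 6
    (-114) (.split 4 (-39) (.wt 2) (.split 0 162 (.split 5 179 (.split 4 (-30) (.wt 2) (.split 2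
    (-10) (.lin 1) (.split 1 (-18) (.lin 2) (.split 0 153 (.split 5 161 (.splitN 75603 (.wt 1)
    (.split 6 (-137) (.wt 0) (.split 0 148 (.split 5 152 (.split 6 (-133) (.wt 0) (.split 0 139
    (.split 5 143 (.split 5 141 (.wt 2) (.split 0 130 (.lin 0) (.split 6 (-127) (.wt 2) (.lin
    0)))) (.lin 3)) (.lin 0))) (.lin 3)) (.lin 0)))) (.lin 3)) (.lin 4))))) (.lin 3)) (.lin 4)))
    (.split 0 144 (.split 5 179 (.split 4 (-45) (.wt 2) (.split 0 135 (.split 5 161 (.split 4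
    (-37) (.wt 2) (.split 0 126 (.split 5 143 (.split 4 (-31) (.wt 2) (.split 2 (-10) (.lin 1)
    (.split 1 (-18) (.lin 2) (.split 0 107 (.lin 3) (.split 0 117 (.split 5 125 (.split 6 (-100)
    (.splitN 86501 (.wt 1) (.wt 0)) (.lin 4)) (.lin 3)) (.lin 4)))))) (.lin 3)) (.lin 4))) (.lin
    3)) (.lin 4))) (.lin 3)) (.lin 4))) (.lin 3)) (.lin 4))))))))) .sq)))))) (.wt 3)) (.lin 1)))
    (.div 5))) (.wt 3))) (.splitN 60641 (.wt 1) (.split 3 9 (.splitN 656169 (.wt 6) (.split 5 120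
    (.wt 0) (.split 1 (-53) (.split 2 (-27) (.split 4 (-31) (.wt 2) (.lin 1)) (.lin 2)) (.lin
    5)))) (.split 4 (-22) (.split 5 66 (.wt 2) (.split 5 376 (.split 1 (-333) (.lin 5) (.split 2
    (-167) (.lin 2) (.split 4 (-176) (.lin 1) (.split 5 288 (.split 1 (-252) (.lin 5) (.split 2
    (-127) (.lin 2) (.split 4 (-140) (.lin 1) (.split 5 272 (.split 1 (-234) (.lin 5) (.split 2
    (-118) (.lin 2) (.split 4 (-131) (.lin 1) (.split 6 (-55) (.split 1 (-216) (.lin 5) (.split 2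
    (-109) (.lin 2) (.split 4 (-122) (.lin 1) (.splitN 202957 (.split 5 88 (.wt 2) (.splitN 94996
    (.wt 3) (.split 5 154 (.split 1 (-99) (.lin 5) (.split 2 (-50) (.lin 2) (.split 4 (-59) (.lin
    1) (.split 5 120 (.split 0 94 (.split 4 (-37) (.wt 2) (.split 5 107 (.split 4 (-30) (.wt 2)
    (.split 0 80 (.lin 3) (.split 0 81 (.split 5 89 (.split 6 (-73) (.wt 0) (.lin 0)) (.lin 3))
    (.lin 4)))) (.lin 3))) (.lin 0)) (.split 1 (-53) (.split 2 (-27) (.split 4 (-40) (.split 6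
    (-73) (.wt 2) (.split 1 (-62) (.split 2 (-32) (.split 4 (-49) (.split 1 (-71) (.splitN 123623
    (.wt 1) (.splitN 158278 (.split 5 129 (.wt 2) (.split 0 94 (.lin 0) (.split 6 (-60) (.split 4
    (-58) (.wt 0) (.split 0 99 (.split 5 134 (.wt 0) (.lin 0)) (.lin 4))) (.split 5 142 (.lin 0)
    (.wt 0))))) (.wt 3))) (.lin 2)) (.lin 1)) (.lin 2)) (.lin 5))) (.lin 1)) (.lin 2)) (.lin
    5)))))) (.split 1 (-89) (.splitN 166099 (.split 5 238 (.split 1 (-180) (.lin 5) (.split 2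
    (-91) (.lin 2) (.split 4 (-104) (.lin 1) (.split 6 (-64) (.split 0 112 (.lin 0) (.split 1
    (-171) (.lin 5) (.split 2 (-86) (.lin 2) (.split 4 (-95) (.lin 1) (.splitN 132584 (.split 5
    220 (.split 1 (-153) (.lin 5) (.split 2 (-77) (.lin 2) (.split 4 (-86) (.lin 1) (.split 6
    (-69) .cand (.split 1 (-98) (.split 5 169 (.lin 0) (.splitN 124778 (.wt 0) (.split 5 192
    (.split 1 (-126) (.lin 5) (.split 2 (-64) (.lin 2) (.split 4 (-77) (.lin 1) (.split 4 (-68)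
    (.split 0 125 (.lin 4) (.split 5 187 (.lin 0) (.wt 1))) (.wt 1))))) (.wt 0)))) (.lin 5))))))
    (.wt 2)) (.wt 3)))))) (.splitN 159009 (.wt 0) (.split 5 176 (.split 1 (-117) (.lin 5) (.split
    2 (-55) (.lin 2) (.split 4 (-68) (.lin 1) (.wt 1)))) (.wt 0))))))) (.wt 2)) (.wt 1)) (.lin
    5))))) (.wt 3))))) (.split 1 (-26) (.split 2 (-14) (.split 4 (-31) (.split 5 76 (.wt 2)
    (.split 0 58 (.lin 0) (.split 5 140 (.split 1 (-99) (.lin 5) (.split 2 (-50) (.lin 2) (.split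
    4 (-59) (.lin 1) (.split 5 118 (.split 1 (-81) (.lin 5) (.split 2 (-41) (.lin 2) (.split 4
    (-50) (.lin 1) (.split 5 112 (.split 0 76 (.split 6 (-42) (.split 5 98 (.split 1 (-54) (.lin
    5) (.split 2 (-28) (.lin 2) (.split 4 (-41) (.lin 1) (.splitN 200348 (.wt 1) (.split 5 88
    (.wt 0) (.split 0 67 (.lin 0) (.split 1 (-44) (.split 5 97 (.lin 0) (.split 1 (-53) (.split 2
    (-27) (.split 4 (-40) (.splitN 206657 (.wt 0) (.wt 0)) (.lin 1)) (.lin 2)) (.lin 5))) (.lin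
    5)))))))) (.lin 0)) (.split 5 88 (.lin 0) (.split 1 (-53) (.split 2 (-27) (.split 4 (-40)
    (.splitN 799548 (.split 5 92 (.split 1 (-54) (.lin 5) (.split 2 (-28) (.lin 2) (.split 4
    (-41) (.lin 1) (.splitN 788407 (.wt 0) (.wt 0))))) (.wt 0)) (.wt 1)) (.lin 1)) (.lin 2))
    (.lin 5)))) (.lin 0)) (.wt 2))))) (.wt 2))))) (.wt 2)))) (.lin 1)) (.lin 2)) (.lin 5))))))
    (.wt 2))))) (.wt 2))))) (.wt 2))) (.lin 1)))))

def cert1_0_9 : Cert :=
  (.split 6 (-69) (.split 0 62 (.lin 0) (.split 1 (-153) (.lin 5) (.split 0 80 (.lin 6) (.split 2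
    (-77) (.lin 2) (.split 5 88 (.lin 5) (.splitN 193673 (.split 3 1066 (.split 4 (-1130) (.lin
    1) (.splitN 120990 (.split 3 315 (.split 4 (-383) (.lin 1) (.split 5 213 (.split 1 (-135)
    (.lin 5) (.split 2 (-68) (.lin 2) (.split 1 (-126) (.lin 2) (.split 4 (-317) .sq (.split 5
    147 (.split 1 (-72) (.lin 5) (.split 2 (-37) (.lin 2) (.split 3 84 (.split 4 (-113) (.lin 1)
    (.split 6 (-100) (.split 1 (-45) (.lin 5) (.split 2 (-23) (.lin 2) (.split 1 (-36) (.lin 2)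
    (.split 5 115 (.lin 5) (.split 3 42 (.split 4 (-59) (.lin 1) (.split 3 33 (.split 4 (-50)
    (.lin 1) (.split 3 30 (.split 4 (-41) (.lin 1) (.split 4 (-32) (.split 0 126 (.split 0 116
    (.lin 4) (.split 5 133 (.lin 3) (.split 6 (-110) (.lin 4) (.splitN 82183 (.wt 0) (.wt 1)))))
    (.lin 3)) (.wt 2))) (.wt 2))) (.wt 2))) (.wt 2)))))) (.split 3 42 (.split 4 (-77) (.lin 1)
    (.split 5 135 (.split 1 (-63) (.lin 5) (.split 2 (-32) (.lin 2) (.split 4 (-68) (.lin 1)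
    (.split 5 131 (.split 5 107 (.split 1 (-36) (.lin 5) (.split 2 (-19) (.lin 2) (.split 4 (-59)
    (.lin 1) (.split 3 32 (.split 4 (-50) (.lin 1) (.split 6 (-82) (.split 1 (-27) (.lin 5)
    (.split 2 (-14) (.lin 2) (.split 4 (-41) (.lin 1) (.split 5 97 (.lin 5) (.split 3 28 (.split
    4 (-32) (.lin 1) (.splitN 90692 (.split 5 99 (.split 0 94 (.split 6 (-83) (.lin 0) (.wt 0))
    (.lin 0)) (.wt 0)) (.wt 6))) (.wt 2)))))) (.split 5 105 (.split 0 85 (.split 5 89 (.split 1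
    (-18) (.lin 5) (.splitN 103313 (.wt 5) (.wt 3))) (.lin 0)) (.lin 0)) (.wt 2)))) (.split 4
    (-49) (.splitN 98859 (.split 5 93 (.split 0 81 (.split 6 (-74) (.lin 0) (.wt 0)) (.lin 3))
    (.wt 2)) (.wt 1)) (.lin 1)))))) (.split 1 (-26) (.split 2 (-14) (.split 1 (-35) (.splitN
    101861 (.splitN 85827 (.wt 5) (.split 6 (-74) (.split 1 (-45) (.lin 5) (.split 2 (-23) (.lin
    2) (.split 4 (-59) (.lin 1) (.splitN 93594 (.split 6 (-84) (.split 0 103 (.lin 0) (.split 5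
    124 (.lin 0) (.wt 1))) (.wt 0)) (.wt 1))))) (.wt 0))) (.wt 1)) (.lin 2)) (.lin 2)) (.lin 5)))
    (.wt 2))))) (.wt 2))) (.split 5 99 (.split 1 (-27) (.lin 5) (.split 2 (-14) (.lin 2) (.split
    4 (-86) (.lin 1) (.split 1 (-18) (.lin 2) (.split 6 (-83) (.lin 5) (.splitN 91597 (.wt 0)
    (.split 3 72 (.split 4 (-77) (.lin 1) (.wt 6)) (.wt 1)))))))) (.wt 2))))) (.split 5 108
    (.split 1 (-36) (.lin 5) (.split 2 (-19) (.lin 2) (.split 6 (-92) (.lin 5) (.split 3 162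
    (.split 4 (-176) (.lin 1) (.split 3 115 (.split 4 (-131) (.lin 1) (.splitN 88582 (.split 5
    104 (.split 6 (-83) (.lin 5) (.wt 0)) (.wt 0)) (.wt 6))) (.wt 2))) (.wt 2))))) (.wt 2)))))
    (.split 1 (-26) (.split 2 (-14) (.split 1 (-35) (.splitN 72863 (.wt 0) (.splitN 105199
    (.split 6 (-75) (.split 3 123 (.split 4 (-185) (.lin 1) (.split 3 27 (.split 4 (-86) (.lin 1)
    (.splitN 83082 (.split 6 (-105) (.split 1 (-99) (.lin 5) (.split 2 (-50) (.lin 2) (.split 4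
    (-68) (.lin 1) (.wt 2)))) (.wt 0)) (.wt 6))) (.wt 2))) (.wt 1)) (.wt 0)) (.wt 1))) (.lin 2))
    (.lin 2)) (.lin 5))))))) (.wt 2))) .sq) (.wt 3))) (.div 3)) (.wt 0))))))) (.split 5 136
    (.split 1 (-99) (.lin 5) (.split 2 (-50) (.lin 2) (.splitN 4809430 (.split 3 2191 (.split 4
    (-2228) (.lin 1) (.split 5 93 (.split 0 76 (.split 1 (-54) (.lin 5) (.split 2 (-28) (.lin 2)
    (.splitN 1308686 (.split 3 1139 (.split 4 (-1166) (.lin 1) (.split 6 (-51) (.split 1 (-36)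
    (.lin 5) (.split 2 (-19) (.lin 2) (.split 5 70 (.lin 5) (.splitN 148141 (.splitN 101997 (.wt
    5) (.split 3 90 (.split 4 (-104) (.lin 1) (.split 3 44 (.split 4 (-59) (.lin 1) (.split 3 32
    (.split 4 (-50) (.lin 1) (.split 5 80 (.split 1 (-27) (.lin 5) (.split 2 (-14) (.lin 2)
    (.split 1 (-18) (.lin 2) .cand))) (.split 1 (-26) (.split 6 (-56) (.lin 0) (.splitN 138452
    (.wt 0) (.wt 1))) (.lin 5)))) (.split 4 (-49) (.split 5 80 (.split 1 (-27) (.lin 5) (.split 2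
    (-14) (.lin 2) (.split 4 (-50) (.lin 1) (.split 1 (-18) (.lin 2) (.split 5 77 (.split 0 67
    (.split 6 (-56) (.lin 0) (.splitN 132040 (.wt 0) (.wt 0))) (.lin 0)) (.wt 2)))))) (.wt 2))
    (.lin 1)))) (.split 5 83 (.split 1 (-27) (.lin 5) (.split 2 (-14) (.lin 2) (.split 1 (-18)
    (.lin 2) .cand))) (.wt 2)))) (.split 5 80 (.split 1 (-27) (.lin 5) (.split 2 (-14) (.lin 2)
    (.split 1 (-18) (.lin 2) .cand))) (.wt 2)))) (.wt 5))))) (.split 5 71 (.split 0 58 (.split 1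
    (-36) (.lin 5) (.split 2 (-19) (.lin 2) (.split 3 136 (.split 4 (-149) (.lin 1) (.split 3 54
    (.split 4 (-68) (.lin 1) (.split 5 62 (.split 1 (-27) (.lin 5) (.split 2 (-14) (.lin 2)
    (.split 1 (-18) (.lin 2) (.split 6 (-42) (.split 0 49 (.lin 0) (.split 5 61 (.lin 0) (.splitN
    176901 (.wt 5) (.wt 5)))) (.split 0 49 (.split 5 53 (.splitN 360040 (.wt 5) (.wt 5)) (.lin
    0)) (.lin 0)))))) (.split 6 (-38) (.lin 0) (.split 1 (-35) (.splitN 506685 (.wt 0) (.wt 1))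
    (.lin 5))))) (.split 4 (-67) (.split 5 69 (.split 1 (-27) (.lin 5) (.split 2 (-14) (.lin 2)
    (.split 1 (-18) (.lin 2) (.split 6 (-42) (.split 0 49 (.lin 0) (.split 5 61 (.lin 0) (.splitN
    173956 (.wt 3) (.split 3 69 (.wt 0) (.split 4 (-85) (.split 3 89 (.wt 0) (.split 4 (-103)
    (.split 3 110 (.wt 0) (.split 4 (-121) (.wt 0) (.lin 1))) (.lin 1))) (.lin 1)))))) (.split 0
    49 (.split 5 53 (.splitN 354599 (.wt 1) (.split 3 111 (.wt 0) (.split 4 (-121) (.wt 0) (.lin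
    1)))) (.lin 0)) (.lin 0)))))) (.wt 2)) (.lin 1)))) (.split 4 (-148) (.split 5 66 (.split 1
    (-27) (.lin 5) (.split 2 (-14) (.lin 2) (.split 1 (-18) (.lin 2) (.splitN 465515 (.split 3
    659 (.split 6 (-42) (.split 0 49 (.lin 0) (.split 5 61 (.lin 0) (.splitN 176900 (.wt 5) (.wt
    5)))) (.split 0 49 (.split 5 53 (.splitN 353818 (.wt 1) (.wt 0)) (.lin 0)) (.lin 0))) .sq)
    (.wt 3))))) (.wt 2)) (.lin 1))))) (.lin 0)) (.split 0 58 (.lin 0) (.split 1 (-35) (.splitN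
    187182 (.wt 5) (.split 3 37 (.split 4 (-59) (.lin 1) (.splitN 204983 (.split 5 86 (.split 6
    (-46) (.split 1 (-36) (.lin 5) (.split 2 (-19) (.lin 2) (.split 4 (-50) (.lin 1) (.wt 1))))
    (.lin 0)) (.wt 0)) (.wt 6))) (.wt 2))) (.lin 5)))))) .sq) (.wt 3)))) (.lin 0)) (.split 1
    (-35) (.splitN 474958 (.split 6 (-39) (.split 3 39 (.split 4 (-77) (.lin 1) (.splitN 179931
    (.split 6 (-53) (.split 1 (-81) (.lin 5) (.split 2 (-41) (.lin 2) (.split 3 25 (.split 4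
    (-59) (.lin 1) (.splitN 122122 (.split 5 114 (.split 1 (-54) (.lin 5) (.split 2 (-28) (.lin
    2) (.split 4 (-50) (.lin 1) (.wt 2)))) (.wt 0)) (.wt 6))) (.wt 2)))) (.wt 0)) (.wt 1))) (.wt
    2)) (.wt 0)) (.wt 1)) (.lin 5)))) .sq) (.wt 3)))) (.wt 2)))

def cert1_0_10 : Cert :=
  (.split 5 75 (.split 6 (-141) (.split 0 94 (.lin 0) (.split 1 72 (.lin 5) (.split 3 49 (.lin 9)
    (.split 2 35 (.lin 2) (.splitN 61176 (.split 4 (-33) (.wt 2) (.split 5 47 (.wt 2) (.split 0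
    160 (.split 6 (-254) (.lin 0) (.split 3 131 (.split 4 (-31) (.wt 2) (.split 1 146 (.split 2
    72 (.split 0 144 (.split 6 (-236) (.lin 0) (.split 3 113 (.split 6 (-193) .sq (.split 4 (-18)
    (.split 3 58 (.lin 1) (.split 5 64 (.wt 2) (.splitN 56631 (.wt 0) (.wt 6)))) (.splitN 57003
    (.split 5 60 (.split 3 58 (.lin 9) (.split 2 44 (.lin 1) (.split 6 (-149) (.split 0 103 (.lin
    0) (.split 1 99 (.lin 5) (.split 3 63 (.lin 9) (.split 6 (-163) .sq (.lin 0))))) (.wt 0))))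
    (.wt 0)) (.wt 1)))) (.lin 9))) (.lin 7)) (.lin 2)) .sq)) (.lin 9))) .sq))) (.wt 5))))))
    (.split 1 91 (.split 3 86 (.split 2 45 (.split 5 57 (.split 4 (-23) (.wt 2) (.split 3 68
    (.split 4 (-22) (.wt 2) (.split 3 59 (.split 6 (-100) (.split 1 45 (.lin 5) (.split 3 36
    (.lin 9) (.splitN 56059 (.wt 1) (.split 5 44 (.wt 0) (.split 0 76 (.lin 0) (.split 3 54
    (.split 6 (-109) (.splitN 62015 (.split 6 (-119) (.wt 0) (.wt 0)) (.wt 0)) (.lin 0)) (.lin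
    9))))))) (.split 3 36 (.split 2 18 (.split 1 37 (.splitN 63559 (.wt 1) (.split 6 (-91) (.wt
    0) (.split 0 67 (.split 5 47 (.wt 2) (.split 0 58 (.lin 0) (.split 3 27 (.split 6 (-73)
    (.split 6 (-74) (.lin 0) (.split 2 9 (.split 1 19 (.splitN 71635 (.wt 0) (.wt 0)) (.lin 2))
    (.lin 1))) (.lin 0)) (.lin 9)))) (.lin 0)))) (.lin 2)) (.lin 1)) (.lin 9))) (.lin 1))) (.lin
    1))) (.split 1 73 (.split 2 36 (.split 6 (-82) (.split 4 (-23) (.splitN 59896 (.wt 1) (.split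
    6 (-130) (.wt 0) (.split 3 72 (.split 5 63 (.wt 2) (.split 0 76 (.lin 0) (.split 6 (-91)
    (.split 3 46 (.wt 2) (.split 4 (-39) (.wt 2) (.split 0 89 (.lin 3) (.split 3 59 (.split 6
    (-109) (.wt 2) (.lin 0)) (.lin 9))))) (.lin 0)))) (.lin 9)))) (.split 3 59 (.split 4 (-18)
    (.split 3 31 (.lin 1) (.split 6 (-109) (.split 1 36 (.lin 5) (.split 3 40 (.lin 9) (.splitN
    68305 (.splitN 59403 (.wt 3) (.split 5 63 (.wt 2) (.split 6 (-111) (.split 0 94 (.lin 0)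
    (.split 3 45 (.lin 9) (.split 6 (-127) (.wt 1) (.lin 0)))) (.wt 0)))) (.wt 0)))) (.split 0 85
    (.split 3 41 (.split 5 66 (.wt 2) (.split 0 76 (.lin 0) (.split 1 28 (.split 3 36 (.split 6
    (-91) (.split 6 (-92) (.lin 0) (.splitN 70018 (.wt 0) (.wt 0))) (.lin 0)) (.lin 9)) (.lin
    5)))) (.lin 9)) (.lin 0)))) (.splitN 70270 (.split 6 (-89) (.split 0 76 (.lin 0) (.split 3 25
    (.split 0 81 (.split 6 (-101) (.lin 0) (.split 5 70 (.lin 3) (.wt 0))) (.lin 3)) (.wt 2)))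
    (.wt 0)) (.wt 1))) (.lin 1))) (.lin 5)) (.lin 2)) (.lin 5))) (.lin 2)) (.lin 9)) (.lin 5)))
    (.split 0 89 (.lin 7) (.split 6 (-100) (.splitN 77499 (.split 4 (-14) (.split 3 31 (.lin 1)
    (.split 6 (-243) .sq (.split 1 154 (.split 3 117 (.split 6 (-168) (.split 0 125 (.lin 0)
    (.split 1 63 (.lin 5) (.split 3 54 (.lin 9) (.split 2 31 (.lin 2) (.split 1 72 (.lin 2)
    (.splitN 62450 .sq (.wt 1))))))) (.split 1 82 (.split 3 81 (.split 5 105 (.split 6 (-132)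
    (.split 1 36 (.lin 5) (.split 3 40 (.lin 9) (.split 2 17 (.lin 2) (.splitN 59411 (.wt 5)
    (.split 4 (-25) (.split 3 49 (.lin 1) (.splitN 65339 (.split 5 96 (.split 1 45 (.lin 5)
    (.split 3 54 (.lin 9) (.split 2 22 (.lin 2) (.split 6 (-138) (.split 0 112 (.lin 0) (.split 4
    (-33) (.split 3 67 (.lin 1) (.split 6 (-162) (.wt 0) (.split 5 87 (.split 6 (-154) (.wt 0)
    (.lin 0)) (.wt 0)))) (.wt 1))) (.wt 0))))) (.wt 0)) (.wt 3))) (.wt 1)))))) (.split 4 (-24)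
    (.split 3 40 (.lin 1) (.split 5 89 (.split 6 (-114) (.split 1 27 (.lin 5) (.split 3 45 (.lin
    9) (.split 2 13 (.lin 2) (.split 1 36 (.lin 2) (.split 4 (-33) (.split 3 58 (.lin 1) (.split
    5 81 (.split 0 103 (.split 6 (-119) (.lin 0) (.splitN 65640 (.wt 0) (.wt 0))) (.lin 0)) (.wt
    2))) (.wt 2)))))) (.split 1 28 (.split 2 13 (.split 1 19 (.splitN 65849 (.wt 5) (.split 3 43
    (.split 4 (-32) (.lin 1) (.wt 1)) (.wt 1))) (.lin 2)) (.lin 2)) (.lin 5))) (.wt 2))) (.wt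
    2))) (.wt 2)) (.lin 9)) (.lin 5))) (.lin 9)) (.lin 5)))) (.wt 2)) (.wt 3)) (.lin 5))))

def cert1_0_11 : Cert :=
  (.split 4 (-46) (.split 3 58 (.lin 1) (.split 5 50 (.wt 2) (.split 0 49 (.lin 0) (.split 1 487
    (.split 6 (-73) (.splitN 189776 (.split 5 60 (.wt 2) (.split 0 67 (.lin 0) (.split 6 (-82)
    (.split 5 63 (.wt 2) (.split 0 76 (.lin 0) (.split 6 (-91) (.split 5 154 (.splitN 84061
    (.split 3 454 (.split 0 249 (.split 6 (-416) (.lin 0) (.split 1 343 (.split 5 148 (.split 1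
    236 (.split 6 (-380) (.lin 5) (.split 3 242 (.split 4 (-230) (.lin 1) (.split 5 140 (.split 6
    (-253) .sq (.split 1 172 (.split 5 130 (.split 5 98 (.split 6 (-168) (.split 0 121 (.lin 0)
    (.split 1 72 (.lin 5) (.split 3 85 (.lin 9) (.splitN 66923 .sq (.wt 0))))) (.split 0 130
    (.split 1 91 (.split 6 (-127) (.split 1 27 (.lin 5) (.split 3 63 (.lin 9) (.split 2 13 (.lin
    2) (.split 1 36 (.lin 2) (.splitN 71101 (.split 5 73 (.wt 2) (.split 0 103 (.lin 0) (.split 1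
    82 (.split 2 40 (.splitN 59319 (.wt 3) (.split 3 174 (.split 4 (-149) (.lin 1) (.split 5 89
    (.split 6 (-156) (.wt 5) (.split 0 121 (.split 4 (-94) (.split 5 84 (.wt 2) .cand) (.split 3
    122 (.split 4 (-67) (.split 5 82 (.wt 2) .cand) (.split 3 95 (.split 5 84 (.split 6 (-136)
    (.split 1 54 (.lin 5) (.splitN 63140 (.wt 1) (.wt 0))) (.lin 0)) (.split 6 (-146) (.lin 0)
    (.split 1 55 (.split 3 76 (.split 0 108 (.split 6 (-128) (.lin 0) (.split 4 (-50) (.lin 1)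
    (.splitN 66023 (.wt 0) (.wt 0)))) (.lin 3)) (.wt 2)) (.lin 5)))) (.lin 1))) (.lin 1))) (.lin
    0))) (.split 0 112 (.lin 0) (.split 6 (-136) (.split 6 (-155) (.lin 0) (.split 1 55 (.split 4
    (-50) (.split 3 76 (.lin 1) (.split 3 113 (.split 4 (-95) (.lin 1) (.splitN 64942 (.wt 0)
    (.wt 1))) (.wt 2))) (.wt 1)) (.lin 5))) (.lin 0))))) .sq)) (.lin 2)) (.lin 5)))) (.wt 0))))))
    (.split 1 46 (.split 2 22 (.split 1 37 (.splitN 77418 (.split 3 229 (.split 4 (-212) (.lin 1)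
    (.split 5 84 (.split 4 (-102) (.split 5 74 (.wt 2) (.split 0 85 (.lin 0) (.split 6 (-100)
    (.splitN 70691 (.split 3 140 (.wt 2) (.split 4 (-130) (.splitN 67445 (.wt 6) (.split 1 19
    (.wt 0) (.split 2 13 (.lin 2) (.split 0 98 (.lin 7) (.split 6 (-118) (.split 1 36 (.lin 2)
    .sq) (.lin 0)))))) (.lin 1))) (.wt 0)) (.lin 0)))) (.split 3 113 (.split 6 (-105) (.split 1
    27 (.lin 5) (.split 2 13 (.lin 2) (.split 1 36 (.lin 2) (.splitN 68557 (.split 3 84 (.wt 1)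
    (.split 4 (-67) (.wt 1) (.lin 1))) (.wt 0))))) (.split 1 28 (.split 3 108 (.split 2 13
    (.split 1 19 (.splitN 66674 (.wt 3) (.split 5 72 (.wt 2) (.split 0 85 (.lin 0) (.split 6
    (-100) (.wt 5) (.lin 0))))) (.lin 2)) (.lin 2)) (.lin 9)) (.lin 5))) (.lin 1))) (.split 1 28
    (.split 2 13 (.split 1 19 (.split 6 (-109) (.split 3 145 (.split 4 (-131) (.lin 1) (.split 3
    101 (.split 4 (-86) (.lin 1) (.split 3 72 (.split 4 (-59) (.lin 1) (.splitN 65595 (.wt 0)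
    (.wt 1))) (.wt 2))) (.wt 2))) (.wt 2)) (.lin 5)) (.lin 2)) (.lin 2)) (.lin 5)))) .sq) (.wt
    3)) (.lin 2)) (.lin 2)) (.lin 5))) (.lin 5)) (.lin 0))) (.split 3 189 (.split 4 (-176) (.lin
    1) (.split 3 150 (.split 4 (-140) (.lin 1) (.split 3 123 (.split 4 (-113) (.lin 1) (.split 3
    101 (.split 0 171 (.split 4 (-86) (.lin 1) (.split 6 (-218) (.lin 4) (.splitN 63670 (.split 6
    (-155) (.split 0 134 (.lin 0) (.split 3 67 (.lin 9) .sq)) (.wt 0)) (.wt 6)))) (.lin 3)) (.wt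
    2))) (.wt 2))) (.wt 2))) (.wt 2))) (.wt 2)) (.lin 5))) (.wt 2))) .sq)) .sq) (.wt 2)) (.lin
    5))) .sq) (.div 3)) (.wt 3)) (.wt 2)) (.lin 5)))) (.lin 5)))) (.wt 0)) (.lin 5)) (.lin 5)))))
    (.split 3 311 (.splitN 262405 (.split 6 (-508) .sq (.split 1 478 (.split 5 113 (.splitN
    204333 (.split 6 (-447) .sq (.split 1 415 (.split 4 (-13) (.split 3 22 (.lin 1) (.split 5 36
    (.wt 2) (.split 6 (-64) (.splitN 107615 (.split 1 307 cert1_0_10 .sq) (.wt 3)) (.lin 5))))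
    (.splitN 68054 (.split 6 (-53) (.splitN 61460 (.split 6 (-60) (.splitN 57455 (.split 6 (-65)
    (.splitN 54770 (.split 5 46 (.split 3 18 (.lin 9) (.splitN 40425 (.split 1 220 (.split 2 108
    (.split 0 153 (.split 3 113 (.split 6 (-263) (.lin 4) (.split 1 105 (.split 2 49 (.split 0 90
    (.split 6 (-155) (.lin 0) (.wt 0)) (.lin 7)) (.lin 2)) (.wt 0))) (.lin 1)) (.lin 7)) (.lin
    2)) (.div 1)) (.wt 6))) (.wt 0)) (.wt 1)) (.wt 0)) (.wt 1)) (.wt 0)) (.wt 1)) (.wt 0)) (.wt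
    1))) (.lin 5))) (.wt 3)) (.split 6 (-136) (.splitN 52476 (.wt 5) (.split 4 (-9) (.split 3 22
    (.lin 1) (.split 3 40 (.split 4 (-23) (.lin 1) (.wt 2)) (.wt 2))) (.wt 1))) (.lin 5))) (.lin
    5))) (.wt 3)) (.lin 1)))

def cert1_0_12 : Cert :=
  (.split 4 (-1) (.split 5 10 (.wt 2) (.split 6 (-11) (.split 1 (-1) (.split 2 (-5) (.split 4
    (-13) (.split 1 (-17) (.split 5 34 (.lin 5) (.split 6 (-21) (.split 5 43 (.lin 5) (.split 6
    (-29) (.split 5 52 (.lin 5) (.split 3 18 cert1_0_8 (.split 4 (-31) (.split 5 807 (.split 6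
    (-785) (.lin 5) (.split 5 575 (.split 6 (-560) (.lin 5) (.split 5 516 (.split 6 (-497) (.lin
    5) (.split 5 493 (.split 6 (-470) (.lin 5) (.split 6 (-132) (.split 1 (-351) (.lin 5) (.split
    2 (-176) (.lin 2) (.split 5 151 (.lin 5) (.splitN 112697 (.split 4 (-617) (.div 4) (.split 3
    73 (.split 4 (-239) (.lin 1) (.split 3 63 (.split 5 375 (.split 1 (-234) (.lin 5) (.split 2
    (-118) (.lin 2) (.split 4 (-176) (.lin 1) (.split 6 (-353) (.lin 5) (.split 3 52 (.split 4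
    (-167) (.lin 1) (.split 4 (-33) (.split 5 312 (.split 1 (-171) (.lin 5) (.split 0 297 (.split
    2 (-86) (.lin 2) (.split 6 (-308) (.lin 4) (.split 6 (-290) (.lin 5) (.split 3 43 (.split 4
    (-122) (.lin 1) (.split 5 266 (.split 1 (-126) (.lin 5) (.split 0 252 (.split 2 (-64) (.lin
    2) (.split 4 (-104) (.lin 1) (.split 6 (-254) (.lin 4) (.split 3 38 (.split 5 233 (.split 0
    225 (.split 1 (-99) (.lin 5) (.split 2 (-50) (.lin 2) (.split 4 (-77) (.lin 1) (.split 6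
    (-218) (.lin 4) (.split 3 31 (.split 2 (-18) (.split 1 (-35) (.split 0 152 (.lin 4) (.split 5
    169 (.lin 3) (.splitN 74483 .sq (.wt 1)))) (.lin 2)) (.lin 1)) (.wt 2)))))) (.lin 3)) (.wt
    2)) (.wt 2))))) (.lin 7))) (.wt 2))) (.wt 2))))) (.lin 7))) (.wt 2)) (.wt 2))) (.wt 2))))))
    (.wt 2)) (.wt 2))) (.wt 2))) (.wt 0))))) (.split 5 231 (.split 1 (-189) (.lin 5) cert1_0_9)
    (.wt 2)))) (.wt 2))) (.wt 2))) (.wt 2))) (.wt 2)) (.lin 1)))) (.wt 5))) (.wt 0))) (.lin 2))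
    (.lin 1)) (.lin 2)) (.split 2 (-1) (.lin 2) (.split 3 13 (.lin 1) (.split 1 18 (.lin 2)
    (.split 6 (-37) (.split 5 17 (.wt 2) (.split 6 (-46) (.splitN 328441 (.split 3 1822 (.split 4
    (-1805) (.lin 1) (.split 0 569 (.split 6 (-1109) (.lin 0) (.split 5 557 (.splitN 300093
    (.split 3 1660 (.split 1 542 (.split 2 270 (.split 3 542 (.split 4 (-527) (.lin 1) (.split 6
    (-545) .sq (.split 5 521 cert1_0_11 (.lin 5)))) .sq) (.lin 2)) .sq) (.div 3)) (.wt 3)) (.lin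
    7))) .sq)) (.div 3)) (.wt 3)) (.lin 5))) (.lin 5)))))) (.wt 0))) (.split 2 8 (.lin 1) (.split
    1 18 (.lin 2) (.split 0 17 (.lin 3) (.split 6 (-28) (.splitN 43091 (.wt 1) (.split 5 13 (.wt
    0) (.split 0 22 (.lin 0) (.split 6 (-37) (.split 5 17 (.wt 0) (.split 0 31 (.lin 0) (.split 6
    (-46) (.splitN 447120 (.split 1 2470 (.split 2 1233 (.split 3 1229 (.split 4 1229 (.split 5
    9880 (.split 3 7 (.wt 2) (.split 0 44 (.lin 3) (.split 6 (-64) (.splitN 287170 (.split 1 1588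
    (.split 2 792 (.split 4 779 (.splitN 154223 (.split 1 850 (.split 2 423 (.split 3 419 (.split
    4 410 (.split 5 3400 (.split 5 26 (.wt 0) (.split 0 49 (.lin 0) (.split 6 (-73) (.splitN
    127349 (.split 1 706 (.split 2 351 (.split 3 347 (.split 4 338 (.split 5 2824 (.split 0 3168
    (.split 6 (-3854) (.lin 4) (.split 4 5 (.wt 1) (.split 2 26 (.lin 1) (.split 1 54 (.lin 2)
    (.split 0 62 (.lin 3) (.split 6 (-91) (.splitN 46122 (.wt 1) (.split 5 36 (.wt 0) (.split 0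
    67 (.lin 0) (.split 6 (-100) (.splitN 95774 (.split 1 526 (.split 2 261 (.split 4 248 (.split
    5 92 (.wt 2) (.split 0 125 (.lin 3) (.split 6 (-154) (.splitN 77666 (.split 5 1672 (.split 3
    14 (.wt 2) (.split 2 35 (.lin 1) (.split 1 72 (.lin 2) (.split 0 134 (.lin 3) (.split 6
    (-172) (.splitN 64763 .sq (.split 5 123 (.wt 0) (.split 0 161 (.lin 3) (.split 6 (-199) .sq
    (.lin 4))))) (.lin 4)))))) (.div 5)) (.wt 5)) (.lin 4)))) (.lin 1)) (.lin 2)) (.div 1)) (.wt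
    5)) (.lin 4))))) (.lin 4))))))) (.lin 7)) (.div 5)) (.lin 1)) (.lin 1)) (.lin 2)) (.div 1))
    (.wt 5)) (.lin 4)))) (.div 5)) (.lin 1)) (.lin 1)) (.lin 2)) (.div 1)) (.wt 5)) (.lin 1))
    (.lin 2)) (.div 1)) (.wt 0)) (.lin 4)))) (.div 5)) (.lin 1)) (.lin 1)) (.lin 2)) (.div 1))
    (.wt 5)) (.lin 4)))) (.lin 4))))) (.lin 4))))))

def cert1_0_13 : Cert :=
  (.split 0 (-1) (.split 6 34 (.lin 0) (.split 1 (-53) (.split 2 (-27) (.split 5 89 (.splitN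
    42769 (.split 5 38 (.splitN 35095 (.split 1 (-185) (.div 1) (.split 2 (-91) (.lin 2) (.split
    3 (-86) (.lin 1) (.split 4 (-86) (.lin 1) (.split 1 (-176) .sq (.split 2 (-86) (.lin 2)
    (.split 3 (-77) (.lin 1) (.split 1 (-162) (.lin 2) (.split 4 (-77) (.lin 1) (.split 6 143
    (.split 3 (-18) (.split 4 (-9) (.wt 2) (.split 5 20 (.wt 2) (.split 0 (-59) (.lin 0) (.split
    3 (-27) (.split 6 43 (.lin 0) (.split 6 134 (.splitN 22860 (.wt 0) (.splitN 28847 (.split 1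
    (-149) (.div 1) (.split 2 (-73) (.lin 2) (.split 3 (-68) (.lin 1) (.split 6 67 (.splitN 25296
    (.split 5 26 (.split 6 45 (.wt 0) (.wt 0)) (.wt 0)) (.wt 1)) (.wt 0))))) (.wt 1))) (.lin 4)))
    (.lin 9))))) (.split 4 (-13) (.split 3 (-12) (.wt 2) (.split 4 (-22) (.split 5 20 (.wt 2)
    (.split 0 (-59) (.lin 0) (.split 1 (-62) (.split 6 43 (.lin 0) (.split 2 (-36) (.split 4
    (-31) (.split 6 134 (.splitN 22860 (.wt 0) (.splitN 28847 (.split 1 (-149) (.div 1) (.split 2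
    (-73) (.lin 2) (.split 4 (-68) (.lin 1) (.split 6 67 (.splitN 25296 (.split 5 26 (.split 6 45
    (.wt 0) (.wt 0)) (.wt 0)) (.wt 1)) (.wt 0))))) (.wt 1))) (.lin 4)) (.lin 1)) (.lin 2))) (.lin
    5)))) (.lin 1))) (.lin 1))) (.lin 5))))))))))) (.wt 5)) (.split 1 (-80) (.split 6 61 (.lin 0)
    (.split 1 (-107) (.split 2 (-54) (.splitN 29105 (.wt 5) (.split 3 (-5) (.split 4 (-86) (.lin
    1) (.split 4 (-5) (.split 3 (-86) (.lin 1) (.split 1 (-175) .sq (.split 2 (-86) (.lin 2)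
    (.split 1 (-162) (.lin 2) (.split 6 116 (.split 5 71 (.split 3 (-30) (.split 4 (-28) (.wt 2)
    (.split 5 49 (.wt 2) (.split 1 (-116) (.split 3 (-36) (.split 6 70 (.lin 0) (.split 1 (-125)
    (.split 2 (-63) (.split 6 107 (.split 4 (-22) (.wt 2) (.split 3 (-49) (.splitN 36150 (.split
    5 53 (.wt 1) (.split 3 (-54) (.split 6 79 (.lin 0) .sq) (.lin 9))) (.wt 3)) (.lin 1))) (.lin
    5)) (.lin 2)) (.lin 5))) (.lin 9)) (.lin 5)))) (.split 4 (-31) (.split 5 49 (.wt 2) (.split 1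
    (-116) (.split 6 70 (.lin 0) (.split 1 (-125) (.split 2 (-63) (.split 4 (-40) (.split 6 107
    (.split 3 (-22) (.wt 2) (.split 4 (-49) (.splitN 36150 (.split 5 53 (.wt 1) (.split 1 (-134)
    (.split 6 79 (.lin 0) (.split 2 (-72) (.split 4 (-58) .sq (.lin 1)) (.lin 2))) (.lin 5)))
    (.wt 3)) (.lin 1))) (.lin 5)) (.lin 1)) (.lin 2)) (.lin 5))) (.lin 5))) (.lin 1))) (.lin 7))
    (.lin 5)))))) (.wt 1))) (.wt 1))) (.lin 2)) (.lin 5))) (.lin 5))) (.wt 3)) (.lin 7)) (.lin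
    2)) (.lin 5))) (.split 5 25 (.lin 0) (.split 6 89 (.splitN 38557 (.split 1 (-188) .sq (.split
    6 80 (.split 6 25 (.splitN 20897 (.split 1 (-113) (.div 1) (.split 5 98 (.splitN 16547
    (.split 6 15 (.wt 0) (.wt 3)) (.wt 5)) (.lin 5))) (.wt 0)) (.split 1 (-53) (.split 5 43 (.lin
    0) (.split 1 (-71) (.split 2 (-36) (.split 5 152 (.split 3 (-19) (.split 1 (-179) .sq (.split
    2 (-86) (.lin 2) (.split 3 (-77) (.lin 1) (.split 1 (-162) (.lin 2) (.split 4 (-59) (.lin 1)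
    (.split 5 134 (.split 6 71 (.splitN 35105 (.split 4 (-16) (.splitN 22598 (.wt 1) (.split 6 28
    (.wt 0) (.split 5 125 (.splitN 25188 (.wt 1) (.split 6 35 (.wt 0) (.split 5 61 (.lin 0)
    (.split 5 116 (.splitN 27096 (.wt 1) (.split 6 45 (.wt 0) (.split 1 (-116) (.split 5 70 (.lin
    0) (.split 2 (-63) (.split 1 (-143) .sq (.split 2 (-68) (.lin 2) (.split 1 (-126) (.lin 2)
    (.split 5 71 (.split 6 53 (.wt 0) (.lin 0)) (.lin 5))))) (.lin 2))) (.lin 5)))) (.lin 5)))))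
    (.lin 5)))) (.split 4 (-8) (.split 3 (-68) (.lin 1) (.splitN 21264 (.wt 1) (.split 6 26 (.wt
    0) (.split 0 49 (.split 3 (-27) (.split 5 125 (.splitN 24205 (.wt 1) (.split 5 55 (.wt 2)
    (.split 1 (-98) (.splitN 32829 (.split 6 59 (.split 5 66 (.wt 2) (.split 5 105 (.split 3
    (-63) (.lin 9) (.splitN 29855 (.split 6 36 (.wt 0) (.split 1 (-116) (.split 3 (-45) (.split 2
    (-63) .sq (.lin 1)) (.lin 9)) (.lin 5))) (.wt 1))) (.wt 2))) (.wt 0)) (.wt 1)) (.lin 5))))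
    (.lin 3)) (.lin 9)) (.lin 0))))) (.splitN 20783 (.wt 0) (.wt 1)))) (.wt 3)) (.lin 6)) (.lin
    5))))))) (.split 4 (-22) (.splitN 35200 (.split 1 (-170) .sq (.split 2 (-82) (.lin 2) (.split
    4 (-77) (.lin 1) (.split 5 134 (.split 6 71 (.split 3 (-8) (.split 4 (-68) (.lin 1) (.splitN
    21264 (.wt 1) (.split 6 26 (.wt 0) (.split 0 49 (.split 1 (-80) (.split 2 (-45) (.split 4
    (-31) (.split 5 125 (.splitN 24205 (.wt 1) (.split 5 55 (.wt 2) (.split 1 (-98) (.splitN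
    32829 (.split 6 59 (.split 5 66 (.wt 2) (.split 5 105 (.split 1 (-153) (.lin 5) (.split 2
    (-77) (.lin 2) (.split 4 (-59) (.lin 1) (.splitN 29855 (.split 6 36 (.wt 0) (.split 1 (-116)
    (.split 2 (-59) (.split 4 (-49) .sq (.lin 1)) (.lin 2)) (.lin 5))) (.wt 1))))) (.wt 2))) (.wt
    0)) (.wt 1)) (.lin 5)))) (.lin 3)) (.lin 1)) (.lin 2)) (.lin 5)) (.lin 0))))) (.splitN 20783
    (.wt 0) (.wt 1))) (.lin 6)) (.lin 5))))) (.wt 3)) (.lin 1))) (.lin 5)) (.lin 2)) (.lin 5)))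
    (.lin 5))) (.lin 6))) (.wt 3)) (.lin 6))))

def cert1_0_14 : Cert :=
  (.split 6 (-1) (.split 6 (-5) (.split 3 (-1) (.split 4 (-1) (.split 2 (-9) (.split 1 (-17)
    (.split 0 17 (.lin 4) (.split 5 25 (.lin 3) (.split 6 (-22) (.split 0 35 (.lin 4) (.split 5
    43 (.lin 3) (.split 3 (-9) (.split 2 (-18) (.split 1 (-35) (.split 0 44 (.lin 4) (.split 5 61
    (.lin 3) (.split 6 (-32) (.split 0 49 (.lin 0) (.split 5 70 (.lin 3) (.splitN 220693 (.split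
    1 (-1211) (.div 1) (.split 2 (-604) (.lin 2) (.split 3 (-599) (.lin 1) (.split 4 (-590) (.lin
    1) (.split 5 4840 (.split 0 4815 (.split 6 (-4799) (.lin 4) (.splitN 207110 (.split 1 (-1139)
    (.div 1) (.split 2 (-568) (.lin 2) (.split 4 (-554) (.lin 1) (.split 6 (-44) (.split 0 58
    (.lin 0) (.split 5 79 (.lin 3) (.splitN 129232 (.split 1 (-707) (.div 1) (.split 2 (-352)
    (.lin 2) (.split 3 (-347) (.lin 1) (.split 4 (-338) (.lin 1) (.splitN 110960 (.split 1 (-617)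
    (.div 1) (.split 2 (-307) (.lin 2) (.split 3 (-302) (.lin 1) (.split 4 (-293) (.lin 1)
    (.splitN 106656 (.split 6 (-65) (.split 0 89 (.lin 4) (.split 5 106 (.lin 3) (.splitN 78660
    (.split 1 (-437) (.div 1) (.split 2 (-217) (.lin 2) (.split 3 (-212) (.lin 1) (.split 4
    (-203) (.lin 1) (.splitN 54445 (.split 1 (-293) (.div 1) (.split 2 (-145) (.lin 2) (.split 4
    (-131) (.lin 1) (.split 5 1168 (.split 0 1143 (.split 6 (-1127) (.lin 4) (.wt 0)) (.lin 3))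
    (.div 5))))) (.wt 6)))))) (.wt 1)))) (.wt 0)) (.wt 6)))))) (.wt 6)))))) (.wt 1)))) (.wt
    0))))) (.wt 1))) (.lin 3)) (.div 5)))))) (.wt 1)))) (.wt 0)))) (.lin 2)) (.lin 1)) (.wt 2))))
    (.wt 0)))) (.lin 2)) (.lin 1)) (.split 5 10 (.wt 2) (.split 6 (-11) (.split 1 (-1) (.split 2
    (-5) (.split 3 (-13) (.split 1 (-17) (.split 5 34 (.lin 5) (.split 6 (-21) (.split 5 43 (.lin
    5) (.split 6 (-29) (.split 5 52 (.lin 5) (.split 4 18 cert1_0_4 (.split 3 (-31) (.split 5 807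
    (.split 6 (-785) (.lin 5) (.split 5 575 (.split 6 (-560) (.lin 5) (.split 5 516 (.split 6
    (-497) (.lin 5) (.split 5 493 (.split 6 (-470) (.lin 5) (.split 6 (-132) (.split 1 (-351)
    (.lin 5) (.split 2 (-176) (.lin 2) (.split 5 151 (.lin 5) (.splitN 112697 (.split 3 (-617)
    (.div 3) (.split 4 73 (.split 3 (-239) (.lin 1) (.split 4 63 (.split 5 375 (.split 1 (-234)
    (.lin 5) (.split 3 (-176) (.lin 9) (.split 2 (-118) (.lin 2) (.split 6 (-353) (.lin 5)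
    (.split 3 (-33) (.split 4 52 (.split 3 (-167) (.lin 1) (.split 5 312 (.split 1 (-171) (.lin
    5) (.split 0 297 (.split 2 (-86) (.lin 2) (.split 6 (-308) (.lin 4) (.split 6 (-290) (.lin 5)
    (.split 4 43 (.split 3 (-122) (.lin 1) (.split 5 266 (.split 0 252 (.split 3 (-104) (.lin 9)
    (.split 6 (-254) (.lin 4) (.split 4 38 (.split 5 233 (.split 0 225 (.split 3 (-81) (.lin 9)
    (.split 6 (-218) (.lin 4) (.split 4 31 (.split 2 (-18) (.split 1 (-35) (.split 0 152 (.lin 4)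
    (.split 5 169 (.lin 3) (.splitN 74483 .sq (.wt 1)))) (.lin 2)) (.lin 1)) (.wt 2)))) (.lin 3))
    (.wt 2)) (.wt 2)))) (.lin 7)) (.wt 2))) (.wt 2))))) (.lin 7))) (.wt 2))) (.wt 2)) (.wt
    2)))))) (.wt 2)) (.wt 2))) (.wt 2))) (.wt 0))))) (.split 5 231 (.split 1 (-189) (.lin 5)
    cert1_0_5) (.wt 2)))) (.wt 2))) (.wt 2))) (.wt 2))) (.wt 2)) (.lin 1)))) (.wt 5))) (.wt 0)))
    (.lin 2)) (.lin 1)) (.lin 2)) (.split 2 (-1) (.lin 2) (.split 4 13 (.lin 1) (.split 1 18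
    (.lin 2) (.split 6 (-37) (.split 5 17 (.wt 2) (.split 6 (-46) (.splitN 328441 (.split 1 1822
    (.split 2 909 (.split 3 (-1823) (.div 3) (.split 4 1822 (.split 5 7288 (.split 0 8190 (.split
    6 (-10001) (.lin 4) (.split 0 569 (.split 6 (-1109) (.lin 0) (.split 5 557 (.splitN 300102
    (.split 4 1660 (.split 1 542 (.split 2 270 (.split 3 (-543) .sq (.split 4 806 (.split 6
    (-545) .sq (.split 5 521 cert1_0_7 (.lin 5))) (.lin 1))) (.lin 2)) .sq) (.div 4)) (.wt 3))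
    (.lin 7))) .sq)) (.lin 7)) (.div 5)) (.div 4))) (.lin 2)) (.div 1)) (.wt 3)) (.lin 5))) (.lin
    5)))))) (.wt 0)))) cert1_0_12) (.wt 0)) (.split 1 (-17) (.split 2 (-9) (.splitN 61965 (.split
    1 (-329) (.div 1) (.split 2 (-163) (.lin 2) (.split 0 (-154) (.lin 7) (.split 5 314 (.split 6
    620 (.split 6 314 (.split 3 328 (.split 4 (-482) (.lin 1) (.split 3 (-329) (.div 3) (.split 4
    320 (.splitN 52093 (.split 1 (-275) (.div 1) (.split 5 260 (.split 6 260 (.split 3 (-275)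
    (.div 3) (.splitN 7293 (.wt 5) (.split 1 (-222) .sq (.split 2 (-109) (.lin 2) (.split 5 206
    (.split 6 206 (.splitN 48078 (.split 3 256 (.split 3 (-257) (.div 3) (.split 4 248 (.split 3
    213 (.split 3 (-214) .sq (.split 4 203 (.split 4 (-214) .sq (.split 3 (-1) (.split 4 (-104)
    (.lin 1) (.split 4 (-1) (.split 3 (-104) (.lin 1) (.split 5 12 (.wt 2) (.split 1 (-26)
    (.split 2 (-14) (.split 1 (-35) (.splitN 45915 (.split 1 (-206) .sq (.split 2 (-100) (.lin 2)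
    (.split 4 (-95) (.lin 1) (.split 5 188 (.split 6 179 cert1_0_13 (.lin 5)) (.lin 5))))) (.wt
    3)) (.lin 2)) (.lin 2)) (.lin 5)))) (.split 3 (-13) (.splitN 19113 (.wt 6) (.split 5 13 (.wt
    0) (.split 1 (-26) (.split 3 (-18) (.splitN 24889 (.wt 6) (.split 5 23 (.wt 0) (.split 6 188
    (.split 6 35 (.wt 0) (.split 1 (-71) (.split 3 (-40) (.split 2 (-36) (.split 4 176 (.split 5
    170 (.splitN 34156 (.wt 6) (.split 5 55 (.wt 0) (.split 1 (-107) (.split 3 (-58) (.split 2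
    (-54) (.split 6 152 (.splitN 39141 (.wt 6) (.split 4 11 (.wt 0) (.split 3 (-67) (.splitN
    40560 (.wt 6) (.split 4 56 (.wt 0) (.split 3 (-112) (.wt 2) (.lin 1)))) (.lin 1)))) (.lin 5))
    (.lin 2)) (.lin 9)) (.lin 5)))) (.lin 5)) (.lin 1)) (.lin 2)) (.lin 9)) (.lin 5))) (.lin
    5)))) (.lin 9)) (.lin 5)))) (.lin 1)))) (.split 4 (-13) (.splitN 19084 (.wt 6) (.split 5 13
    (.wt 0) (.split 1 (-26) (.split 2 (-14) (.split 4 (-22) (.splitN 24944 (.wt 6) (.split 5 23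
    (.wt 0) (.split 6 188 (.split 6 35 (.wt 0) (.split 1 (-71) (.split 3 176 (.split 2 (-36)
    (.split 4 (-40) (.split 5 170 (.splitN 34156 (.wt 6) (.split 5 55 (.wt 0) (.split 1 (-107)
    (.split 2 (-54) (.split 4 (-58) (.split 6 152 (.splitN 39141 (.wt 6) (.split 3 11 (.wt 0)
    (.split 4 (-67) (.splitN 40560 (.wt 6) (.split 3 56 (.wt 0) (.split 4 (-112) (.wt 2) (.lin
    1)))) (.lin 1)))) (.lin 5)) (.lin 1)) (.lin 2)) (.lin 5)))) (.lin 5)) (.lin 1)) (.lin 2))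
    (.lin 9)) (.lin 5))) (.lin 5)))) (.lin 1)) (.lin 2)) (.lin 5)))) (.lin 1)))) (.lin 1))) .sq)
    (.lin 1))) (.div 3)) (.wt 5)) (.lin 5)) (.lin 5)))))) (.lin 5)) (.lin 5))) (.wt 5)) (.lin
    1)))) (.div 3)) (.lin 5)) (.lin 0)) (.lin 5))))) (.wt 5)) (.lin 2)) (.lin 5)))

def cert1_0 : Cert :=
  (.split 5 (-1) (.split 6 (-1) (.split 1 0 (.lin 5) (.split 2 (-1) (.lin 2) (.split 1 18 (.lin
    2) (.split 5 (-6) (.split 6 (-11) (.split 1 27 (.lin 5) cert1_0_1) (.wt 3)) (.wt 0)))))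
    (.splitN 8331 (.wt 5) (.split 5 (-2) (.split 3 (-1) (.split 4 (-1) (.split 2 (-9) (.split 1
    (-17) (.split 0 (-18) (.split 6 25 (.lin 4) (.splitN 48195 (.split 1 (-257) (.div 1) (.split
    2 (-127) (.lin 2) (.split 3 (-122) (.lin 1) (.split 4 (-122) (.lin 1) (.split 5 (-1025) (.div
    5) (.splitN 32287 (.split 1 (-167) (.div 1) (.split 2 (-82) (.lin 2) (.split 4 (-77) (.lin 1)
    (.split 5 (-665) (.div 5) (.splitN 28266 (.split 3 (-5) (.split 0 (-27) (.split 6 43 (.lin 4)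
    (.wt 0)) (.lin 3)) (.wt 0)) (.wt 6)))))) (.wt 6))))))) (.wt 1))) (.lin 3)) (.lin 2)) (.lin
    1)) (.split 5 (-12) cert1_0_2 (.wt 2))) (.split 4 (-1) (.split 5 (-12) cert1_0_3 (.wt 2))
    (.split 2 8 (.lin 1) (.split 1 18 (.lin 2) (.split 0 (-18) (.split 5 (-28) (.splitN 10998
    (.wt 1) (.splitN 175254 (.split 5 (-3833) (.div 5) (.split 0 (-3817) (.lin 3) (.split 6 3806
    (.split 6 9 (.wt 0) (.split 0 (-23) (.split 5 (-37) (.splitN 17187 (.wt 1) (.splitN 100053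
    (.split 0 (-310) .sq (.split 6 296 (.splitN 82776 (.split 1 454 (.split 1 281 (.split 5
    (-284) .sq (.split 6 67 (.splitN 47939 (.split 5 (-212) .sq (.split 6 32 (.splitN 27611
    (.split 1 148 (.split 2 72 (.split 3 68 (.split 3 6 (.wt 2) (.split 0 (-36) (.split 5 (-46)
    (.split 5 (-55) (.splitN 25868 (.split 1 130 (.split 2 63 (.split 4 50 (.split 6 17 (.wt 0)
    (.split 0 (-41) (.split 5 (-64) (.wt 1) (.lin 0)) (.lin 0))) (.lin 1)) (.lin 2)) (.div 1))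
    (.wt 5)) (.lin 3)) (.lin 0)) (.lin 4))) (.lin 1)) (.lin 2)) (.div 1)) (.wt 5)) (.split 0
    (-36) (.split 0 (-45) (.split 1 172 (.split 2 85 (.split 4 77 (.split 5 (-55) (.splitN 27703
    (.wt 3) (.split 3 6 (.wt 2) (.split 2 17 (.lin 1) (.split 1 36 (.lin 2) (.split 0 (-54)
    (.split 4 68 (.split 5 (-73) (.splitN 40722 (.split 4 5 (.wt 1) (.split 2 26 (.lin 1) (.split
    1 54 (.lin 2) (.split 0 (-63) (.split 3 72 (.split 5 (-91) (.splitN 39526 (.split 6 61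
    (.split 1 147 (.split 2 72 (.split 4 59 (.split 3 14 (.wt 2) (.split 0 (-72) (.split 4 50
    (.split 5 (-109) (.splitN 36115 (.split 6 35 (.wt 0) (.split 0 (-77) (.split 5 (-118) (.split
    3 24 (.wt 1) (.split 2 44 (.lin 1) (.split 1 90 (.lin 2) (.split 0 (-90) (.split 5 (-136) .sq
    (.lin 3)) (.lin 4))))) (.lin 3)) (.lin 0))) (.wt 5)) (.lin 3)) (.lin 1)) (.lin 4))) (.lin 1))
    (.lin 2)) .sq) (.wt 3)) (.wt 5)) (.lin 3)) (.lin 9)) (.lin 4))))) (.wt 5)) (.lin 3)) (.lin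
    1)) (.lin 4)))))) (.lin 3)) (.lin 1)) (.lin 2)) (.lin 5)) (.lin 4)) (.lin 0)))) (.wt 5))
    (.split 0 (-81) (.split 5 (-91) (.splitN 59651 (.split 3 7 (.wt 2) (.split 2 17 (.lin 1)
    (.split 1 36 (.lin 2) (.split 0 (-90) (.split 4 5 (.wt 1) (.split 2 26 (.lin 1) (.split 1 54
    (.lin 2) (.split 0 (-99) (.split 5 (-127) (.split 6 224 (.splitN 55154 (.split 0 (-166) .sq
    (.split 6 134 (.splitN 51919 (.split 0 (-155) .sq (.split 6 125 (.splitN 48593 (.split 0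
    (-145) .sq (.split 1 118 (.split 2 58 (.split 4 41 (.split 3 14 (.wt 2) (.split 2 35 (.lin 1)
    (.split 1 72 (.lin 2) (.split 0 (-108) (.split 5 (-145) (.split 6 107 (.splitN 45080 .sq (.wt
    5)) (.lin 4)) (.lin 3)) (.lin 4))))) (.lin 1)) (.lin 2)) .sq)) (.wt 5)) (.lin 4))) (.wt 3))
    (.lin 4))) (.wt 5)) (.lin 5)) (.lin 3)) (.lin 4))))) (.lin 4))))) (.wt 5)) (.lin 3)) (.lin
    4)))) .sq) (.div 1)) (.wt 5)) (.lin 4))) (.wt 5))) (.lin 3)) (.lin 0))) (.lin 4)))) (.wt 3)))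
    (.lin 3)) (.lin 4)))))) (.wt 0)))) cert1_0_14)

theorem check1_0 :
    check task1 cert1_0
      [(0, ⟨none, none⟩), (1, ⟨none, none⟩), (0, ⟨none, none⟩), (5, ⟨none, none⟩), (5, ⟨none, none⟩), (8, ⟨none, none⟩), (8, ⟨none, none⟩)] ⟨some (720), none⟩ = true := by
  decide +kernel

end Cfsg.Agent.EightLocal
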