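import Cfsg.Agent.Lib.EightLocal.Task2

/-!
# Search trees of family 2, part 0
-/

set_option autoImplicit false
set_option maxRecDepth 20000
set_option Elab.async false

namespace Cfsg.Agent.EightLocal

open Cfsg.Agent.SelfNine

def cert2_0_0 : Cert :=
  (.split 1 (-30) (.split 6 28 (.lin 1) (.split 5 (-28) (.split 6 41 (.lin 3) (.split 5 (-37)
    (.split 5 (-46) (.split 2 (-120) (.wt 2) (.split 0 111 (.split 4 223 (.split 2 (-103) (.wt 2)
    (.split 0 93 (.split 4 187 (.split 2 (-100) (.wt 2) (.split 0 84 (.split 4 169 (.split 3 11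
    (.splitN 94970 (.wt 6) (.split 2 (-12) (.wt 0) (.split 0 3 (.split 4 7 (.wt 0) (.lin 0))
    (.lin 7)))) (.split 0 75 (.split 4 151 (.split 2 (-20) (.splitN 135989 (.split 1 (-3711)
    (.div 1) (.split 6 3786 (.split 5 (-3863) (.lin 2) (.split 1 (-360) .sq (.split 6 2107
    (.split 5 (-2180) (.lin 2) (.split 6 1266 (.split 5 (-1343) (.lin 2) (.split 6 847 (.split 5
    (-920) (.lin 2) (.split 6 636 (.split 5 (-713) (.lin 2) (.split 6 532 (.split 5 (-605) (.lin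
    2) (.split 6 478 (.split 5 (-551) (.lin 2) (.split 5 (-361) .sq (.split 4 32 (.split 0 12
    (.split 2 (-30) (.lin 7) (.splitN 75689 (.split 5 (-268) .sq (.split 4 13 (.wt 2) (.split 0 7
    (.lin 0) (.split 4 24 (.lin 0) (.split 6 50 (.lin 3) (.split 5 (-64) (.split 2 (-29) (.split
    1 (-40) (.split 6 55 (.lin 1) (.split 5 (-73) (.splitN 43201 (.wt 1) (.splitN 55751 (.split 1
    (-101) (.wt 0) (.split 6 177 (.split 5 (-191) (.lin 2) (.split 6 141 (.split 5 (-155) (.lin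
    2) (.split 6 123 (.split 5 (-137) (.lin 2) (.split 6 114 (.split 5 (-128) (.lin 2) (.split 6
    109 (.split 5 (-119) (.lin 2) (.splitN 47407 (.wt 1) (.split 1 (-74) (.wt 0) (.split 6 91
    (.split 5 (-101) (.lin 2) (.split 6 82 (.split 5 (-92) (.lin 2) (.splitN 50037 (.wt 1)
    (.split 1 (-60) (.wt 0) (.split 6 73 (.split 5 (-83) (.lin 2) (.split 1 (-50) (.split 6 64
    (.lin 1) (.split 5 (-82) (.wt 0) (.lin 1))) (.wt 0))) (.lin 1))))) (.lin 1))) (.lin 1)))))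
    (.lin 1))) (.lin 1))) (.lin 1))) (.lin 1))) (.lin 1))) (.wt 3))) (.lin 2))) (.wt 2)) (.lin
    7)) (.lin 5))))))) (.wt 1))) (.lin 0)) (.split 0 16 (.lin 0) (.split 6 59 (.lin 3) (.split 5
    (-82) (.split 2 (-38) (.split 1 (-60) (.wt 2) (.split 6 204 (.split 5 (-281) (.lin 2) (.split
    6 168 (.split 5 (-245) (.lin 2) (.split 6 150 (.split 5 (-227) (.lin 2) (.splitN 47871 (.wt
    1) (.split 2 (-60) (.wt 2) (.split 0 39 (.split 4 79 (.splitN 67419 .cand (.wt 1)) (.lin 0))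
    (.lin 7))))) (.lin 1))) (.lin 1))) (.lin 1))) (.lin 7)) (.lin 5))))))) (.lin 1))) (.lin 1)))
    (.lin 1))) (.lin 1))) (.lin 1))) (.lin 1)))) (.lin 3))) (.wt 1)) (.lin 7)) (.lin 0)) (.lin
    7))) (.lin 0)) (.lin 7))) (.lin 0)) (.lin 7))) (.lin 0)) (.lin 7))) (.lin 5)) (.lin 2)))
    (.lin 2))) (.split 2 (-30) (.split 5 (-37) (.split 0 20 (.lin 7) (.split 4 42 (.lin 0)
    (.split 6 23 (.lin 1) (.split 5 (-46) (.split 6 28 (.lin 1) (.split 5 (-55) (.splitN 480050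
    (.split 0 685 (.split 4 1357 (.split 6 708 (.split 5 (-1406) (.lin 1) (.split 2 (-714) (.lin
    4) (.splitN 434278 (.split 2 (-652) .sq (.split 4 652 (.split 0 322 (.split 6 348 (.split 5
    (-686) (.lin 1) (.split 2 (-354) (.lin 4) (.split 2 (-336) (.lin 7) (.splitN 392367 (.split 5
    (-621) .sq (.split 4 601 (.split 3 11 (.wt 2) (.splitN 87448 (.split 1 (-12) (.split 6 37
    (.lin 1) (.split 2 (-47) (.split 5 (-73) (.split 6 46 (.lin 1) (.split 5 (-82) (.splitN 71048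
    (.split 2 (-53) (.split 5 (-91) (.split 0 38 (.lin 7) (.split 4 78 (.lin 0) (.split 6 55
    (.lin 1) (.split 5 (-100) (.split 0 212 (.split 6 240 (.split 1 (-21) (.split 6 64 (.lin 1)
    (.split 2 (-57) (.split 5 (-118) (.split 6 73 (.lin 1) (.split 5 (-127) (.split 2 (-99) (.wt
    2) (.split 5 (-317) (.lin 2) (.split 0 75 (.split 4 151 (.split 6 172 (.split 5 (-245) (.lin
    2) (.split 6 136 (.split 5 (-209) (.lin 2) (.split 6 118 (.split 5 (-191) (.lin 2) (.split 6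
    109 (.splitN 57911 (.split 2 (-69) (.split 5 (-136) (.split 0 56 (.lin 7) (.split 4 114 (.lin
    0) (.split 6 82 (.lin 1) (.split 5 (-145) (.splitN 52928 (.wt 1) (.split 2 (-84) (.wt 0)
    (.split 5 (-173) (.lin 2) (.split 0 66 (.split 4 133 (.split 6 100 (.split 2 (-80) (.wt 0)
    (.split 5 (-155) (.lin 2) (.split 6 91 (.split 5 (-146) (.lin 1) (.wt 0)) (.lin 1)))) (.lin
    1)) (.lin 0)) (.lin 7))))) (.lin 1))))) (.lin 2)) (.wt 2)) (.wt 1)) (.lin 1))) (.lin 1)))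
    (.lin 1))) (.lin 1)) (.lin 0)) (.lin 7)))) (.lin 1))) (.lin 2)) (.wt 2))) (.wt 2)) (.lin 3))
    .sq) (.lin 2))))) (.lin 2)) (.wt 2)) (.wt 1)) (.lin 2))) (.lin 2)) (.wt 2))) (.wt 0)) (.wt
    1))) (.lin 8))) (.wt 1))))) (.lin 3)) (.lin 0)) .sq)) (.wt 1)))) (.lin 3)) (.lin 0)) .sq)
    (.wt 1)) (.lin 2))) (.lin 2))))) (.lin 2)) (.split 6 51 (.split 0 21 (.split 4 43 (.split 5
    (-74) (.lin 2) (.split 3 11 (.split 5 (-38) (.split 6 28 (.lin 1) (.split 2 (-16) (.split 0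
    11 (.lin 7) (.split 4 24 (.lin 0) (.splitN 51763 (.wt 1) (.split 1 (-19) (.wt 0) (.split 5
    (-55) (.split 0 20 (.lin 3) (.split 4 42 (.lin 0) (.split 6 42 (.split 5 (-65) (.lin 2)
    (.split 6 37 (.split 2 (-29) (.split 5 (-56) (.lin 1) (.splitN 72029 (.wt 0) (.wt 0))) (.lin
    2)) (.lin 1))) (.lin 1)))) (.lin 1)))))) (.lin 6))) (.split 2 (-21) (.lin 6) (.split 0 12
    (.split 4 25 (.split 1 (-20) (.split 6 19 (.lin 1) (.split 5 (-28) (.split 2 (-16) (.lin 6)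
    (.split 0 3 (.split 4 7 (.splitN 41841 (.wt 1) (.wt 0)) (.lin 0)) (.lin 7))) (.lin 2)))
    (.split 2 (-15) (.split 5 (-28) (.split 0 11 (.lin 7) (.split 4 24 (.lin 0) (.split 6 19
    (.lin 1) (.split 5 (-37) (.splitN 192086 (.wt 0) (.wt 0)) (.lin 1))))) (.lin 2)) (.wt 2)))
    (.lin 0)) (.lin 7)))) (.split 5 (-65) (.lin 2) (.split 6 46 (.split 5 (-56) (.lin 2) (.splitN
    97718 (.split 4 21 (.split 0 7 (.split 2 (-21) (.lin 7) (.wt 2)) (.lin 0)) (.wt 0)) (.wt 6)))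
    (.lin 1))))) (.lin 0)) (.lin 7)) (.lin 4))))

def cert2_0_1 : Cert :=
  (.split 4 67 (.split 0 30 (.splitN 272986 (.split 1 (-520) .sq (.split 6 546 (.split 5 (-578)
    (.lin 5) (.split 2 (-521) .sq (.split 5 (-520) .sq (.split 4 20 (.split 0 7 (.split 4 7
    (.splitN 67045 (.split 1 (-251) .sq (.split 6 249 (.split 5 (-254) (.lin 5) (.splitN 23810
    (.wt 1) (.split 2 (-252) .sq (.split 3 353 (.split 3 241 (.split 5 (-85) (.split 1 (-83)
    (.split 2 (-236) (.wt 0) (.split 3 223 (.splitN 26641 (.wt 1) (.split 2 (-67) (.wt 0) (.split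
    3 61 (.split 2 (-37) (.wt 0) (.split 3 25 (.wt 0) (.lin 7))) (.lin 7)))) (.lin 7))) (.lin 8))
    (.split 1 (-75) (.lin 8) (.split 1 (-39) (.split 6 50 (.lin 3) (.split 5 (-55) (.splitN 41395
    .cand (.wt 1)) (.lin 5))) (.split 6 42 (.split 5 (-65) (.lin 1) (.split 5 (-47) (.lin 5)
    (.split 2 (-31) (.split 3 33 (.lin 7) (.split 1 (-23) (.split 6 28 (.lin 1) (.split 5 (-37)
    (.split 2 (-47) (.split 3 38 (.lin 6) (.splitN 42527 (.split 2 (-51) (.split 3 47 (.lin 6)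
    (.split 2 (-64) (.split 3 56 (.lin 6) (.split 2 (-79) (.split 3 74 (.lin 6) (.splitN 36917
    (.wt 0) (.wt 6))) (.wt 0))) (.wt 0))) (.wt 0)) (.wt 1))) (.wt 2)) (.lin 5))) (.wt 2))) (.wt
    2)))) (.lin 3))))) (.lin 7)) (.lin 6))))) (.lin 3))) (.wt 1)) (.lin 0)) (.lin 0)) (.split 0
    11 (.lin 0) (.split 6 32 (.lin 3) (.split 5 (-46) (.split 2 (-38) (.split 1 (-27) (.split 6
    37 (.lin 1) (.split 5 (-55) (.split 3 171 (.split 2 (-201) (.lin 7) (.split 1 (-30) (.split 6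
    46 (.lin 1) (.split 5 (-64) (.splitN 77101 (.split 3 112 (.split 2 (-138) (.lin 7) (.split 3
    89 (.split 2 (-120) (.lin 7) (.split 3 81 (.split 2 (-111) (.lin 7) (.split 3 77 (.split 2
    (-102) (.lin 7) (.split 1 (-257) .sq (.split 6 285 (.split 5 (-317) (.lin 5) (.split 3 60
    (.split 2 (-84) (.lin 7) (.splitN 71658 (.split 1 (-39) (.split 6 55 (.lin 1) (.split 5 (-73)
    (.split 1 (-239) .sq (.split 6 267 (.split 5 (-299) (.lin 5) (.split 5 (-246) .sq (.split 3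
    50 (.split 2 (-75) (.lin 7) (.split 3 34 (.split 2 (-66) (.lin 7) (.split 1 (-102) (.split 6
    122 (.lin 3) (.split 5 (-136) (.splitN 48563 .sq (.splitN 55427 (.split 1 (-127) .sq (.split
    4 26 (.wt 1) (.split 0 16 (.lin 0) (.split 6 131 (.lin 3) (.split 5 (-154) .sq (.lin 5))))))
    (.wt 1))) (.lin 5))) (.split 6 172 (.split 5 (-209) (.lin 2) (.split 6 154 (.split 5 (-191)
    (.lin 2) (.split 6 132 (.split 5 (-173) (.lin 2) (.split 1 (-50) (.split 6 64 (.lin 1)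
    (.split 2 (-39) (.split 3 33 (.split 5 (-91) (.split 0 20 (.lin 7) (.split 4 42 (.lin 0)
    (.split 6 73 (.lin 1) (.split 5 (-100) (.split 2 (-57) (.lin 7) (.split 1 (-82) (.split 6 91
    (.lin 1) (.split 5 (-118) (.split 6 100 (.lin 1) (.split 2 (-49) (.split 5 (-136) (.split 0
    29 (.lin 7) (.split 4 60 (.lin 0) (.split 6 109 (.lin 1) (.split 5 (-145) (.splitN 51363 (.wt
    0) (.wt 1)) (.lin 2))))) (.lin 2)) (.wt 2))) (.lin 2))) (.wt 2))) (.lin 2))))) (.lin 2)) (.wt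
    2)) (.wt 2))) (.wt 2))) (.lin 3))) (.lin 1))) (.lin 1)))) (.split 2 (-56) (.splitN 47951
    (.split 1 (-91) (.split 6 82 (.lin 1) (.split 5 (-100) (.split 6 95 (.lin 1) (.split 5 (-109)
    (.split 6 100 (.lin 1) (.split 5 (-118) (.split 4 33 (.split 0 12 (.split 2 (-57) (.lin 7)
    (.splitN 44524 (.wt 0) (.wt 1))) (.lin 0)) (.wt 0)) (.lin 2))) (.lin 2))) (.lin 2))) (.wt 0))
    (.wt 6)) (.lin 7)))) (.wt 2)))) (.lin 3))) (.lin 5))) (.wt 2)) (.wt 1))) (.wt 2))) (.lin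
    3)))) (.wt 2))) (.wt 2))) (.wt 2))) (.wt 2)) (.wt 1)) (.lin 5))) (.wt 2))) (.wt 2)) (.lin
    5))) (.wt 2)) (.lin 7)) (.lin 5)))))))) (.lin 3))) (.wt 1)) (.lin 0)) (.split 0 34 (.lin 0)
    (.split 4 78 (.lin 0) (.split 6 59 (.lin 3) (.split 5 (-100) (.split 2 (-65) (.splitN 72936
    (.split 1 (-21) (.split 6 64 (.lin 1) (.split 5 (-109) (.split 1 (-35) (.split 6 73 (.lin 1)
    (.split 5 (-118) (.split 3 74 (.split 2 (-381) (.lin 6) (.split 3 68 (.split 0 198 (.split 4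
    385 (.split 2 (-255) (.lin 7) (.splitN 67792 (.split 0 181 (.split 2 (-237) (.lin 7) (.split
    1 (-39) (.split 6 82 (.lin 1) (.split 5 (-127) (.split 0 168 (.split 1 (-171) .sq (.split 6
    330 (.split 5 (-542) (.lin 2) (.split 3 47 (.split 2 (-177) .sq (.split 4 182 (.split 0 88
    (.split 6 249 (.split 5 (-398) (.lin 2) (.split 2 (-129) (.lin 7) (.splitN 61652 (.split 3 39
    (.split 1 (-49) (.split 6 91 (.lin 1) (.split 5 (-136) (.split 1 (-137) .sq (.split 4 147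
    (.split 0 70 (.split 6 195 (.split 5 (-263) (.lin 5) (.split 2 (-102) (.lin 7) (.splitN 58788
    (.split 3 33 (.split 2 (-93) (.lin 7) (.split 1 (-57) (.split 6 100 (.lin 1) (.split 5 (-145)
    (.split 1 (-111) (.wt 2) (.split 4 114 (.split 0 52 (.split 4 97 (.split 2 (-75) (.lin 7)
    (.splitN 55291 (.split 1 (-72) (.split 6 109 (.lin 1) (.split 5 (-154) .sq (.lin 2))) (.wt
    2)) (.wt 1))) (.lin 0)) (.lin 0)) .sq)) (.lin 2))) (.wt 2))) (.wt 2)) (.wt 1)))) (.lin 3))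
    (.lin 0)) .sq)) (.lin 5))) (.wt 2)) (.wt 2)) (.wt 1)))) (.lin 3)) (.lin 0)) .sq)) (.wt 2)))
    (.lin 3))) .sq) (.lin 5))) (.wt 2))) .sq) (.wt 1))) (.lin 0)) .sq) (.wt 2))) (.wt 2)) (.lin
    5))) (.wt 2)) (.lin 5))) (.wt 0)) (.wt 1)) (.lin 7)) (.lin 5))))))

def cert2_0_2 : Cert :=
  (.split 1 (-30) (.split 6 28 (.lin 1) (.split 5 (-28) (.split 6 41 (.lin 3) (.split 5 (-37)
    (.split 5 (-46) (.split 3 (-120) (.wt 2) (.split 0 111 (.split 4 223 (.split 3 (-103) (.wt 2)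
    (.split 0 93 (.split 4 187 (.split 3 (-100) (.wt 2) (.split 0 84 (.split 4 169 (.split 2 11
    (.splitN 94970 (.wt 6) (.split 3 (-12) (.wt 0) (.split 0 3 (.split 4 7 (.wt 0) (.lin 0))
    (.lin 7)))) (.split 0 75 (.split 4 151 (.split 3 (-20) (.splitN 135989 (.split 1 (-3711)
    (.div 1) (.split 6 3786 (.split 5 (-3863) (.lin 2) (.split 1 (-360) .sq (.split 6 2107
    (.split 5 (-2180) (.lin 2) (.split 6 1266 (.split 5 (-1343) (.lin 2) (.split 6 847 (.split 5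
    (-920) (.lin 2) (.split 6 636 (.split 5 (-713) (.lin 2) (.split 6 532 (.split 5 (-605) (.lin
    2) (.split 6 478 (.split 5 (-551) (.lin 2) (.split 5 (-361) .sq (.split 4 32 (.split 0 12
    (.split 3 (-30) (.lin 7) (.splitN 75689 (.split 5 (-268) .sq (.split 4 13 (.wt 2) (.split 0 7
    (.lin 0) (.split 4 24 (.lin 0) (.split 6 50 (.lin 3) (.split 5 (-64) (.split 3 (-29) (.split
    1 (-40) (.split 6 55 (.lin 1) (.split 5 (-73) (.splitN 43201 (.wt 1) (.splitN 55751 (.split 1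
    (-101) (.wt 0) (.split 6 177 (.split 5 (-191) (.lin 2) (.split 6 141 (.split 5 (-155) (.lin
    2) (.split 6 123 (.split 5 (-137) (.lin 2) (.split 6 114 (.split 5 (-128) (.lin 2) (.split 6
    109 (.split 5 (-119) (.lin 2) (.splitN 47407 (.wt 1) (.split 1 (-74) (.wt 0) (.split 6 91
    (.split 5 (-101) (.lin 2) (.split 6 82 (.split 5 (-92) (.lin 2) (.splitN 50037 (.wt 1)
    (.split 1 (-60) (.wt 0) (.split 6 73 (.split 5 (-83) (.lin 2) (.split 1 (-50) (.split 6 64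
    (.lin 1) (.split 5 (-82) (.wt 0) (.lin 1))) (.wt 0))) (.lin 1))))) (.lin 1))) (.lin 1)))))
    (.lin 1))) (.lin 1))) (.lin 1))) (.lin 1))) (.lin 1))) (.wt 3))) (.lin 2))) (.wt 2)) (.lin
    7)) (.lin 5))))))) (.wt 1))) (.lin 0)) (.split 0 16 (.lin 0) (.split 6 59 (.lin 3) (.split 5
    (-82) (.split 3 (-38) (.split 1 (-60) (.wt 2) (.split 6 204 (.split 5 (-281) (.lin 2) (.split
    6 168 (.split 5 (-245) (.lin 2) (.split 6 150 (.split 5 (-227) (.lin 2) (.splitN 47871 (.wt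
    1) (.split 3 (-60) (.wt 2) (.split 0 39 (.split 4 79 (.splitN 67419 .cand (.wt 1)) (.lin 0))
    (.lin 7))))) (.lin 1))) (.lin 1))) (.lin 1))) (.lin 7)) (.lin 5))))))) (.lin 1))) (.lin 1)))
    (.lin 1))) (.lin 1))) (.lin 1))) (.lin 1)))) (.lin 3))) (.wt 1)) (.lin 7)) (.lin 0)) (.lin
    7))) (.lin 0)) (.lin 7))) (.lin 0)) (.lin 7))) (.lin 0)) (.lin 7))) (.lin 5)) (.lin 2)))
    (.lin 2))) (.split 3 (-30) (.split 5 (-37) (.split 0 20 (.lin 7) (.split 4 42 (.lin 0)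
    (.split 6 23 (.lin 1) (.split 5 (-46) (.split 6 28 (.lin 1) (.split 5 (-55) (.splitN 480050
    (.split 0 685 (.split 4 1357 (.split 6 708 (.split 5 (-1406) (.lin 1) (.split 3 (-714) (.lin
    4) (.splitN 434278 (.split 3 (-652) .sq (.split 4 652 (.split 0 322 (.split 6 348 (.split 5
    (-686) (.lin 1) (.split 3 (-354) (.lin 4) (.split 3 (-336) (.lin 7) (.splitN 392367 (.split 5
    (-621) .sq (.split 4 601 (.split 2 11 (.wt 2) (.splitN 87448 (.split 1 (-12) (.split 6 37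
    (.lin 1) (.split 3 (-47) (.split 5 (-73) (.split 6 46 (.lin 1) (.split 5 (-82) (.splitN 71048
    (.split 3 (-53) (.split 5 (-91) (.split 0 38 (.lin 7) (.split 4 78 (.lin 0) (.split 6 55
    (.lin 1) (.split 5 (-100) (.split 0 212 (.split 6 240 (.split 1 (-21) (.split 6 64 (.lin 1)
    (.split 3 (-57) (.split 5 (-118) (.split 6 73 (.lin 1) (.split 5 (-127) (.split 3 (-99) (.wt
    2) (.split 5 (-317) (.lin 2) (.split 0 75 (.split 4 151 (.split 6 172 (.split 5 (-245) (.lin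
    2) (.split 6 136 (.split 5 (-209) (.lin 2) (.split 6 118 (.split 5 (-191) (.lin 2) (.split 6
    109 (.splitN 57911 (.split 3 (-69) (.split 5 (-136) (.split 0 56 (.lin 7) (.split 4 114 (.lin
    0) (.split 6 82 (.lin 1) (.split 5 (-145) (.splitN 52928 (.wt 1) (.split 3 (-84) (.wt 0)
    (.split 5 (-173) (.lin 2) (.split 0 66 (.split 4 133 (.split 6 100 (.split 3 (-80) (.wt 0)
    (.split 5 (-155) (.lin 2) (.split 6 91 (.split 5 (-146) (.lin 1) (.wt 0)) (.lin 1)))) (.lin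
    1)) (.lin 0)) (.lin 7))))) (.lin 1))))) (.lin 2)) (.wt 2)) (.wt 1)) (.lin 1))) (.lin 1)))
    (.lin 1))) (.lin 1)) (.lin 0)) (.lin 7)))) (.lin 1))) (.lin 2)) (.wt 2))) (.wt 2)) (.lin 3))
    .sq) (.lin 2))))) (.lin 2)) (.wt 2)) (.wt 1)) (.lin 2))) (.lin 2)) (.wt 2))) (.wt 0)) (.wt
    1))) (.lin 8))) (.wt 1))))) (.lin 3)) (.lin 0)) .sq)) (.wt 1)))) (.lin 3)) (.lin 0)) .sq)
    (.wt 1)) (.lin 2))) (.lin 2))))) (.lin 2)) (.split 6 51 (.split 0 21 (.split 4 43 (.split 5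
    (-74) (.lin 2) (.split 2 11 (.split 5 (-38) (.split 6 28 (.lin 1) (.split 3 (-16) (.split 0
    11 (.lin 7) (.split 4 24 (.lin 0) (.splitN 51763 (.wt 1) (.split 1 (-19) (.wt 0) (.split 5
    (-55) (.split 0 20 (.lin 3) (.split 4 42 (.lin 0) (.split 6 42 (.split 5 (-65) (.lin 2)
    (.split 6 37 (.split 5 (-56) (.lin 1) (.split 3 (-29) (.splitN 72029 (.wt 0) (.wt 0)) (.lin
    2))) (.lin 1))) (.lin 1)))) (.lin 1)))))) (.lin 6))) (.split 3 (-21) (.lin 6) (.split 0 12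
    (.split 4 25 (.split 1 (-20) (.split 6 19 (.lin 1) (.split 5 (-28) (.split 3 (-16) (.lin 6)
    (.split 0 3 (.split 4 7 (.splitN 41841 (.wt 1) (.wt 0)) (.lin 0)) (.lin 7))) (.lin 2)))
    (.split 3 (-15) (.split 5 (-28) (.split 0 11 (.lin 7) (.split 4 24 (.lin 0) (.split 6 19
    (.lin 1) (.split 5 (-37) (.splitN 192086 (.wt 0) (.wt 0)) (.lin 1))))) (.lin 2)) (.wt 2)))
    (.lin 0)) (.lin 7)))) (.split 5 (-65) (.lin 2) (.split 6 46 (.split 5 (-56) (.lin 2) (.splitN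
    97718 (.split 4 21 (.split 0 7 (.split 3 (-21) (.lin 7) (.wt 2)) (.lin 0)) (.wt 0)) (.wt 6)))
    (.lin 1))))) (.lin 0)) (.lin 7)) (.lin 4))))

def cert2_0_3 : Cert :=
  (.split 4 67 (.split 0 30 (.splitN 272986 (.split 1 (-520) .sq (.split 6 546 (.split 5 (-578)
    (.lin 5) (.split 2 519 (.split 3 (-543) (.lin 7) (.split 5 (-520) .sq (.split 4 20 (.split 0
    7 (.split 4 7 (.splitN 67093 (.split 1 (-251) .sq (.split 6 249 (.split 5 (-254) (.lin 5)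
    (.splitN 23810 (.wt 1) (.split 5 (-85) (.split 1 (-83) (.split 6 86 (.lin 1) (.split 2 28
    (.wt 0) (.split 3 (-38) (.splitN 27256 (.wt 1) (.splitN 32393 (.split 2 62 (.wt 0) (.split 3
    (-74) .sq (.lin 7))) (.wt 3))) (.lin 7)))) (.lin 8)) (.split 1 (-75) (.lin 8) (.splitN 60935
    (.split 2 237 (.split 3 (-237) (.lin 7) (.split 1 (-39) (.split 6 50 (.lin 3) (.split 5 (-55)
    (.splitN 41366 .cand (.wt 1)) (.lin 5))) (.split 6 42 (.split 5 (-47) (.lin 5) (.split 2 78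
    (.split 3 (-93) (.lin 2) (.split 1 (-22) (.split 6 28 (.lin 1) (.split 5 (-37) (.split 2 45
    (.split 3 (-52) (.lin 6) (.splitN 42438 (.split 2 39 (.split 3 (-43) (.lin 6) (.split 2 33
    (.split 3 (-34) (.lin 6) (.wt 2)) (.wt 0))) (.wt 0)) (.wt 1))) (.wt 2)) (.lin 5))) (.wt 2)))
    (.wt 2))) (.lin 3)))) .sq) (.wt 1)))))) (.lin 3))) (.wt 1)) (.lin 0)) (.lin 0)) (.split 0 11
    (.lin 0) (.split 1 (-489) (.lin 8) (.split 6 32 (.lin 3) (.split 5 (-46) (.split 3 (-38)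
    (.split 1 (-27) (.split 6 37 (.lin 1) (.split 5 (-55) (.split 2 174 (.split 3 (-201) (.lin 7)
    (.split 1 (-30) (.split 6 46 (.lin 1) (.split 5 (-64) (.splitN 77101 (.split 2 112 (.split 3
    (-138) (.lin 7) (.split 2 89 (.split 3 (-120) (.lin 7) (.split 2 81 (.split 3 (-111) (.lin 7)
    (.split 2 77 (.split 3 (-102) (.lin 7) (.split 1 (-257) .sq (.split 6 285 (.split 5 (-317)
    (.lin 5) (.split 2 60 (.split 3 (-84) (.lin 7) (.splitN 71658 (.split 1 (-39) (.split 6 55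
    (.lin 1) (.split 5 (-73) (.split 1 (-239) .sq (.split 6 267 (.split 5 (-299) (.lin 5) (.split
    5 (-246) .sq (.split 2 50 (.split 3 (-75) (.lin 7) (.split 2 34 (.split 3 (-66) (.lin 7)
    (.split 1 (-102) (.split 6 122 (.lin 3) (.split 5 (-136) (.splitN 48563 .sq (.splitN 55427
    (.split 1 (-127) .sq (.split 4 26 (.wt 1) (.split 0 16 (.lin 0) (.split 6 131 (.lin 3)
    (.split 5 (-154) .sq (.lin 5)))))) (.wt 1))) (.lin 5))) (.split 6 172 (.split 5 (-209) (.lin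
    2) (.split 6 154 (.split 5 (-191) (.lin 2) (.split 6 132 (.split 5 (-173) (.lin 2) (.split 1
    (-50) (.split 6 64 (.lin 1) (.split 5 (-82) (.split 2 33 (.split 3 (-57) (.lin 7) (.split 1
    (-57) (.split 6 73 (.lin 1) (.split 3 (-39) (.split 5 (-100) (.split 0 20 (.lin 7) (.split 4
    42 (.lin 0) (.split 6 82 (.lin 1) (.split 5 (-109) (.splitN 55258 (.split 5 (-112) (.split 1
    (-82) (.split 6 100 (.lin 1) (.split 3 (-49) (.split 5 (-136) (.split 0 29 (.lin 7) (.split 4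
    60 (.lin 0) (.split 6 109 (.lin 1) (.split 5 (-145) (.splitN 51363 (.wt 0) (.wt 1)) (.lin
    2))))) (.lin 2)) (.wt 2))) (.wt 2)) (.wt 0)) (.wt 1)) (.lin 2))))) (.lin 2)) (.wt 2))) (.wt
    2))) (.wt 2)) (.lin 5))) (.wt 2))) (.lin 3))) (.lin 1))) (.lin 1)))) (.split 3 (-56) (.splitN
    47951 (.split 1 (-91) (.split 6 82 (.lin 1) (.split 5 (-100) (.split 6 95 (.lin 1) (.split 5
    (-109) (.split 6 100 (.lin 1) (.split 5 (-118) (.split 4 33 (.split 0 12 (.split 3 (-57)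
    (.lin 7) (.splitN 44524 (.wt 0) (.wt 1))) (.lin 0)) (.wt 0)) (.lin 2))) (.lin 2))) (.lin 2)))
    (.wt 0)) (.wt 6)) (.lin 7)))) (.wt 2)))) (.lin 3))) (.lin 5))) (.wt 2)) (.wt 1))) (.wt 2)))
    (.lin 3)))) (.wt 2))) (.wt 2))) (.wt 2))) (.wt 2)) (.wt 1)) (.lin 5))) (.wt 2))) (.wt 2))
    (.lin 5))) (.wt 2)) (.lin 7)) (.lin 5)))))))) .sq)) (.lin 3))) (.wt 1)) (.lin 0)) (.split 0
    34 (.lin 0) (.split 4 78 (.lin 0) (.split 6 59 (.lin 3) (.split 5 (-100) (.split 3 (-65)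
    (.splitN 72936 (.split 1 (-21) (.split 6 64 (.lin 1) (.split 5 (-109) (.split 1 (-35) (.split
    6 73 (.lin 1) (.split 5 (-118) (.split 2 74 (.split 3 (-381) (.lin 6) (.split 2 68 (.split 0
    198 (.split 4 385 (.split 3 (-255) (.lin 7) (.splitN 67792 (.split 0 181 (.split 3 (-237)
    (.lin 7) (.split 1 (-39) (.split 6 82 (.lin 1) (.split 5 (-127) (.split 0 168 (.split 1
    (-171) .sq (.split 6 330 (.split 5 (-542) (.lin 2) (.split 2 47 (.split 3 (-177) .sq (.split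
    4 182 (.split 0 88 (.split 6 249 (.split 5 (-398) (.lin 2) (.split 3 (-129) (.lin 7) (.splitN
    61652 (.split 2 39 (.split 1 (-49) (.split 6 91 (.lin 1) (.split 5 (-136) (.split 1 (-137)
    .sq (.split 4 147 (.split 0 70 (.split 6 195 (.split 5 (-263) (.lin 5) (.split 3 (-102) (.lin
    7) (.splitN 58788 (.split 2 33 (.split 3 (-93) (.lin 7) (.split 1 (-57) (.split 6 100 (.lin
    1) (.split 5 (-145) (.split 1 (-111) (.wt 2) (.split 4 114 (.split 0 52 (.split 4 97 (.split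
    3 (-75) (.lin 7) (.splitN 55291 (.split 1 (-72) (.split 6 109 (.lin 1) (.split 5 (-154) .sq
    (.lin 2))) (.wt 2)) (.wt 1))) (.lin 0)) (.lin 0)) .sq)) (.lin 2))) (.wt 2))) (.wt 2)) (.wt
    1)))) (.lin 3)) (.lin 0)) .sq)) (.lin 5))) (.wt 2)) (.wt 2)) (.wt 1)))) (.lin 3)) (.lin 0))
    .sq)) (.wt 2))) (.lin 3))) .sq) (.lin 5))) (.wt 2))) .sq) (.wt 1))) (.lin 0)) .sq) (.wt 2)))
    (.wt 2)) (.lin 5))) (.wt 2)) (.lin 5))) (.wt 0)) (.wt 1)) (.lin 7)) (.lin 5))))))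

def cert2_0_4 : Cert :=
  (.split 3 53 (.split 2 94 (.split 6 177 (.split 1 (-318) (.lin 4) (.split 0 (-142) (.lin 7)
    (.split 4 (-300) (.lin 9) (.split 4 (-282) (.lin 0) (.splitN 140545 (.wt 1) (.split 3 28 (.wt
    2) (.split 0 (-78) (.split 4 (-155) (.split 5 (-33) (.split 2 43 (.wt 0) (.split 6 122 (.lin
    2) (.split 1 (-209) (.split 4 (-173) (.split 2 52 (.wt 2) (.split 6 131 (.lin 2) (.split 1
    (-227) (.split 3 34 (.wt 0) (.split 6 140 (.lin 2) (.split 1 (-245) (.split 4 (-209) (.splitN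
    175920 (.split 2 80 (.split 3 51 (.split 6 159 (.split 4 (-246) (.lin 9) (.splitN 159733 (.wt
    1) (.split 2 71 (.wt 0) (.split 6 158 (.lin 2) (.split 1 (-281) (.split 4 (-245) .sq (.lin
    9)) (.lin 4)))))) (.lin 2)) (.wt 2)) (.wt 2)) (.wt 1)) (.lin 9)) (.lin 4)))) (.lin 4))))
    (.lin 9)) (.lin 4)))) (.split 2 83 (.split 6 159 (.split 1 (-291) (.lin 4) (.split 4 (-264)
    (.lin 9) (.split 2 61 (.split 6 141 (.split 1 (-255) (.lin 4) (.split 4 (-228) (.lin 9)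
    (.split 3 34 (.wt 2) (.split 6 113 (.lin 2) (.split 1 (-200) (.split 2 50 (.split 6 123
    (.split 1 (-219) (.lin 4) (.split 4 (-192) (.lin 9) (.splitN 586493 (.wt 1) (.split 3 45 (.wt
    0) (.split 6 122 (.lin 2) (.split 1 (-218) (.split 4 (-191) (.splitN 830715 (.wt 0) (.wt 0))
    (.lin 9)) (.lin 4))))))) (.lin 2)) (.wt 2)) (.lin 4)))))) (.lin 2)) (.split 6 131 (.lin 2)
    (.split 1 (-236) (.split 4 (-209) (.splitN 694342 (.split 3 37 (.split 6 141 (.split 1 (-255)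
    (.lin 4) (.split 4 (-228) (.lin 9) (.splitN 574671 (.wt 1) (.split 2 71 (.wt 0) (.split 6 140
    (.lin 2) (.split 1 (-254) (.split 4 (-227) (.splitN 667160 (.wt 0) (.wt 0)) (.lin 9)) (.lin
    4))))))) (.lin 2)) (.wt 0)) (.wt 1)) (.lin 9)) (.lin 4)))))) (.lin 2)) (.wt 2))) (.lin 0))
    (.lin 7)))))))) (.lin 2)) (.split 6 149 (.lin 2) (.split 1 (-272) (.split 0 (-123) (.split 4
    (-227) (.split 4 (-245) (.splitN 182456 .sq (.splitN 2542600 (.split 0 (-1541) .sq (.split 4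
    (-3072) (.lin 0) (.split 1 (-3108) (.lin 8) (.splitN 2332253 (.split 1 (-1491) .sq (.split 6
    762 (.split 2 709 (.split 4 (-1470) (.lin 9) (.split 3 34 (.split 5 (-33) (.splitN 193470
    (.split 2 202 (.wt 0) (.split 6 266 (.lin 2) (.split 4 (-461) .sq (.lin 9)))) (.wt 3))
    (.split 3 29 (.splitN 480895 (.wt 1) (.split 1 (-498) (.wt 0) (.split 6 262 (.split 2 205
    (.wt 0) (.lin 2)) (.lin 1)))) (.split 6 158 (.lin 2) (.split 4 (-263) (.splitN 602710 (.split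
    2 134 (.split 6 195 (.split 1 (-363) (.lin 4) (.split 4 (-336) (.lin 9) (.wt 0))) (.lin 2))
    (.wt 0)) (.wt 1)) (.lin 9))))) (.split 6 167 (.lin 2) (.split 1 (-308) (.split 0 (-132)
    (.split 0 (-141) (.split 4 (-281) (.splitN 233972 .sq (.wt 6)) (.lin 0)) (.lin 7)) (.lin 5))
    (.lin 4))))) (.lin 2)) (.lin 1))) (.wt 1))))) (.wt 1))) (.lin 0)) (.lin 9)) (.lin 7)) (.lin
    4)))) (.split 6 131 (.lin 2) (.split 1 (-236) (.split 0 (-105) (.split 4 (-209) (.splitN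
    663866 (.split 4 (-7353) (.div 4) (.split 1 (-7383) (.lin 8) (.split 2 555 (.split 6 699
    (.split 1 (-1362) (.lin 4) (.split 4 (-1344) (.lin 9) (.split 2 358 (.split 6 510 (.split 1
    (-984) (.lin 4) (.split 4 (-966) (.lin 9) (.splitN 617874 (.split 2 281 (.split 6 429 (.split
    1 (-822) (.lin 4) (.split 4 (-804) (.lin 9) (.split 2 257 (.split 6 402 (.split 4 (-750)
    (.lin 9) (.split 2 59 (.split 6 204 (.split 1 (-372) (.lin 4) (.split 0 (-169) (.lin 7)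
    (.split 4 (-354) (.lin 9) (.split 4 (-336) (.lin 0) (.splitN 554496 (.split 3 85 (.split 6
    168 (.split 1 (-300) (.lin 4) (.split 2 51 (.split 0 (-124) (.lin 7) (.split 4 (-246) (.lin
    0) (.splitN 159297 (.wt 1) (.split 5 (-29) (.split 3 68 (.wt 0) (.split 6 149 (.lin 2)
    (.split 4 (-227) (.splitN 166813 (.split 3 72 (.wt 0) (.split 6 158 (.lin 2) (.split 1 (-281)
    (.split 4 (-245) .sq (.lin 9)) (.lin 4)))) (.wt 1)) (.lin 9)))) (.wt 0))))) (.wt 2))) (.lin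
    2)) (.wt 2)) (.wt 1)))))) (.lin 2)) (.wt 2))) (.lin 2)) (.wt 0)))) (.lin 2)) (.wt 0)) (.wt
    1)))) (.lin 2)) (.wt 0)))) (.lin 2)) (.wt 0)))) (.wt 1)) (.lin 0)) (.lin 7)) (.lin 4))))

def cert2_0_5 : Cert :=
  (.split 1 (-65) (.split 0 (-24) (.split 4 (-47) (.split 3 13 (.wt 2) (.split 6 50 (.lin 2)
    (.split 1 (-83) (.split 0 (-33) (.split 4 (-65) (.split 5 (-46) (.split 6 64 (.lin 1) (.split
    1 (-101) (.split 1 (-110) (.split 2 22 (.wt 2) (.split 6 86 (.lin 2) (.split 1 (-128) (.split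
    0 (-42) (.split 4 (-83) (.splitN 10026525 (.split 4 (-111393) (.div 4) (.split 0 (-55694)
    (.lin 0) (.split 2 55672 (.split 3 55663 (.splitN 1347292 (.split 4 (-14949) (.div 4) (.split
    0 (-7472) (.lin 0) (.split 3 7441 (.split 3 24 (.wt 2) (.split 6 95 (.lin 2) (.split 1 (-146)
    (.split 0 (-51) (.split 4 (-101) (.splitN 360704 (.split 4 (-4005) (.div 4) (.split 0 (-2000)
    (.lin 0) (.split 2 1969 (.split 2 25 (.wt 2) (.split 6 104 (.lin 2) (.split 1 (-164) (.split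
    0 (-60) (.split 4 (-119) (.split 3 26 (.wt 2) (.split 6 113 (.lin 2) (.split 0 (-69) (.split
    4 (-137) (.splitN 186944 (.split 1 (-381) .sq (.split 2 133 (.split 3 133 (.split 2 34 (.wt
    2) (.split 0 (-78) (.split 4 (-155) (.split 3 35 (.wt 2) (.split 6 131 (.lin 2) (.split 1
    (-218) (.split 0 (-87) (.split 4 (-173) (.splitN 108260 .sq (.splitN 140567 (.split 1 (-282)
    .sq (.split 3 74 (.split 2 46 (.wt 0) (.split 6 140 (.lin 2) (.split 1 (-236) (.split 0 (-96)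
    (.split 4 (-191) (.splitN 127943 .sq (.wt 1)) (.lin 0)) (.lin 7)) (.lin 4)))) (.lin 6))) (.wt
    1))) (.lin 0)) (.lin 7)) (.lin 4)))) (.lin 0)) (.lin 7))) (.lin 6)) (.lin 6))) (.wt 1)) (.lin
    0)) (.lin 7)))) (.lin 0)) (.lin 7)) (.lin 4)))) (.lin 7)))) (.wt 1)) (.lin 0)) (.lin 7))
    (.lin 4)))) (.lin 7)))) (.wt 3)) (.lin 7)) (.lin 7)))) (.wt 1)) (.lin 0)) (.lin 7)) (.lin
    4)))) (.lin 6)) (.lin 4))) (.split 2 40 (.splitN 121725 (.wt 1) (.split 5 (-21) (.split 3 21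
    (.wt 0) (.split 6 68 (.lin 2) (.split 1 (-110) (.split 0 (-42) (.split 4 (-83) (.split 2 18
    (.wt 2) (.split 6 77 (.lin 2) (.split 1 (-128) (.split 0 (-51) (.split 4 (-101) (.split 3 25
    (.wt 0) (.split 6 86 (.lin 2) (.split 1 (-146) (.splitN 130852 (.wt 1) (.split 3 56 (.wt 2)
    (.split 6 113 (.lin 2) (.split 1 (-200) (.split 0 (-87) (.split 4 (-173) (.split 3 67 (.wt 2)
    (.split 6 122 (.lin 2) (.split 1 (-218) (.split 0 (-96) (.split 4 (-191) (.split 3 70 (.wt 2)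
    (.split 6 131 (.lin 2) (.split 1 (-236) (.split 0 (-105) (.split 4 (-209) (.splitN 13816631
    (.split 0 (-3701) .sq (.split 4 (-7392) (.lin 0) (.split 1 (-7428) (.lin 8) (.splitN 11466127
    (.split 1 (-3375) .sq (.split 6 1702 (.split 3 1645 (.split 5 (-33) (.split 3 87 (.wt 0)
    (.split 6 149 (.lin 2) (.split 1 (-263) (.split 4 (-227) (.splitN 165932 .sq (.split 2 27
    (.wt 0) (.split 6 158 (.lin 2) (.split 1 (-281) (.split 0 (-123) (.split 4 (-245) (.splitN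
    189665 .sq (.wt 1)) (.lin 9)) (.lin 5)) (.lin 4))))) (.lin 9)) (.lin 4)))) (.split 3 344
    (.split 6 402 (.split 1 (-777) (.lin 4) (.split 4 (-750) (.lin 9) (.split 2 29 (.wt 2)
    (.split 6 140 (.lin 2) (.split 4 (-227) (.splitN 706718 (.split 3 127 (.split 6 186 (.split 1
    (-345) (.lin 4) (.split 4 (-318) (.lin 9) (.split 3 90 (.split 6 150 (.split 1 (-273) (.lin
    4) (.split 4 (-246) (.lin 9) (.splitN 595478 (.wt 0) (.wt 1)))) (.lin 2)) (.wt 0)))) (.lin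
    2)) (.wt 0)) (.wt 1)) (.lin 9)))))) (.lin 2)) (.split 6 401 (.lin 2) (.split 1 (-776) (.split
    0 (-375) (.split 4 (-749) (.splitN 1588616 .sq (.wt 1)) (.lin 9)) (.lin 5)) (.lin 4)))))
    (.lin 2)) (.lin 1))) (.wt 1))))) (.wt 1)) (.lin 0)) (.lin 7)) (.lin 4)))) (.lin 0)) (.lin 7))
    (.lin 4)))) (.lin 0)) (.lin 7)) (.lin 4))))) (.lin 4)))) (.lin 0)) (.lin 7)) (.lin 4))))
    (.lin 0)) (.lin 7)) (.lin 4)))) (.wt 1))) (.split 6 77 (.lin 2) (.split 1 (-137) (.split 0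
    (-60) (.split 3 16 (.wt 2) (.split 6 86 (.lin 2) (.split 1 (-155) (.split 3 123 (.split 5
    (-20) (.split 6 91 (.lin 1) (.split 1 (-164) cert2_0_4 (.lin 4))) (.wt 1)) (.wt 2)) (.lin
    4)))) (.lin 7)) (.lin 4))))) (.lin 0)) (.lin 7)) (.lin 4)))) (.lin 0)) (.lin 7)) (.lin 4))

def cert2_0_6 : Cert :=
  (.split 1 15 (.split 6 10 (.lin 1) (.split 5 (-37) (.split 2 (-49) (.wt 2) (.split 3 (-49) (.wt
    2) (.split 6 87 (.split 0 93 (.split 4 187 (.split 5 (-182) (.lin 1) (.split 2 (-45) (.wt 2)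
    (.split 6 78 (.split 3 (-45) (.wt 2) (.split 5 (-155) (.lin 2) (.split 6 73 (.split 2 (-21)
    (.split 5 (-55) (.split 0 38 (.lin 7) (.split 4 78 (.lin 0) (.split 6 23 (.lin 1) (.split 5
    (-64) (.split 6 28 (.lin 1) (.split 5 (-73) (.splitN 54956 (.wt 1) (.split 3 (-13) (.wt 0)
    (.split 5 (-119) (.lin 2) (.split 6 55 (.split 5 (-101) (.lin 2) (.split 6 46 (.splitN 61006
    (.wt 1) (.split 2 (-34) (.wt 0) (.split 5 (-83) (.lin 2) (.split 0 39 (.split 4 79 (.split 6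
    37 (.split 5 (-74) (.lin 1) (.splitN 67907 (.wt 0) (.wt 0))) (.lin 1)) (.lin 0)) (.lin 7)))))
    (.lin 1))) (.lin 1))))) (.lin 1))) (.lin 2))))) (.lin 2)) (.split 5 (-128) (.lin 2) (.split 6
    60 (.split 5 (-119) (.lin 2) (.split 6 55 (.split 3 (-12) (.split 5 (-46) (.split 0 29 (.lin
    7) (.split 4 60 (.lin 0) (.split 6 19 (.lin 1) (.split 5 (-55) (.splitN 51997 (.wt 1) (.split
    2 (-19) (.wt 0) (.split 5 (-101) (.lin 2) (.split 6 46 (.split 5 (-92) (.lin 1) (.split 3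
    (-27) (.split 5 (-64) (.split 0 38 (.lin 7) (.split 4 78 (.lin 0) (.split 6 28 (.lin 1)
    (.split 5 (-73) (.splitN 61006 (.wt 1) (.split 3 (-34) (.wt 0) (.split 5 (-83) (.lin 2)
    (.split 0 39 (.split 4 79 (.split 6 37 (.split 5 (-74) (.lin 1) (.splitN 67907 (.wt 0) (.wt
    0))) (.lin 1)) (.lin 0)) (.lin 7))))) (.lin 1))))) (.lin 2)) (.wt 2))) (.lin 1))))) (.lin
    1))))) (.lin 2)) (.wt 2)) (.lin 1))) (.lin 1)))) (.lin 1)))) (.lin 4)))) (.lin 0)) (.lin 7))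
    (.lin 4)))) (.lin 1))) (.split 2 (-17) (.split 5 (-37) (.splitN 308657 (.split 4 3428 (.split
    0 1713 (.split 6 1698 (.split 5 (-3431) (.lin 1) (.split 2 (-3414) (.lin 2) (.split 3 (-1713)
    (.lin 4) (.split 3 (-18) (.split 5 (-46) (.split 0 38 (.lin 7) (.split 4 78 (.lin 0) (.splitN
    174397 (.split 4 1916 (.split 0 957 (.split 6 942 (.split 2 (-957) (.lin 4) (.split 0 403
    (.split 6 384 (.split 5 (-803) (.lin 1) (.split 2 (-399) (.lin 4) (.split 3 (-399) (.lin 4)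
    (.splitN 160369 (.split 4 393 (.split 0 192 (.split 6 177 (.split 5 (-389) (.lin 1) (.split 3
    (-192) (.lin 4) (.split 2 (-21) (.split 5 (-55) (.split 0 47 (.lin 7) (.split 4 96 (.lin 0)
    (.split 6 10 (.lin 1) (.split 3 (-165) (.lin 7) (.split 3 (-22) (.split 5 (-73) (.split 0 56
    (.lin 7) (.split 4 114 (.lin 0) (.split 6 19 (.lin 1) (.split 5 (-82) (.split 2 (-165) (.lin
    7) (.splitN 88084 (.split 4 269 (.split 0 133 (.split 6 114 (.split 2 (-120) (.lin 4) (.split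
    3 (-120) (.lin 4) (.split 5 (-245) (.lin 5) (.split 2 (-102) (.lin 7) (.split 3 (-102) (.lin
    7) (.splitN 81358 (.split 1 30 (.split 6 28 (.lin 1) (.split 5 (-91) (.split 4 252 (.split 0
    124 (.split 6 105 (.split 5 (-227) (.lin 5) (.split 2 (-97) (.lin 6) (.split 3 (-97) (.lin 6)
    (.split 2 (-52) (.split 5 (-118) (.split 0 83 (.lin 7) (.split 4 168 (.lin 0) (.split 6 46
    (.lin 1) (.split 5 (-136) (.split 6 55 (.lin 1) (.split 5 (-145) (.split 3 (-70) (.lin 6)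
    (.splitN 64475 .sq (.wt 1))) (.lin 2))) (.lin 2))))) (.lin 2)) (.split 1 21 (.split 6 37
    (.lin 1) (.split 3 (-36) (.split 5 (-109) (.split 6 46 (.lin 1) (.split 5 (-118) (.splitN
    65290 (.split 4 197 (.split 0 97 (.split 6 78 (.split 5 (-173) (.lin 1) (.split 3 (-66) (.lin
    4) (.split 2 (-30) (.split 5 (-127) (.split 0 74 (.lin 7) (.split 4 150 (.lin 0) (.split 6 55
    (.lin 1) (.split 5 (-136) (.splitN 53666 .sq (.split 3 (-55) (.wt 0) (.splitN 58633 (.split 2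
    (-39) (.split 5 (-145) (.split 0 83 (.lin 7) (.split 4 168 (.lin 0) (.split 6 64 (.lin 1)
    (.split 5 (-154) .sq (.lin 1))))) (.lin 2)) (.wt 6)) (.wt 1)))) (.lin 1))))) (.lin 2)) (.wt
    2)))) (.lin 3)) (.lin 0)) .sq) (.wt 1)) (.lin 1))) (.lin 2)) (.wt 2))) (.wt 2)))))) (.lin 3))
    (.lin 0)) .sq) (.lin 2))) (.wt 2)) (.wt 1))))))) (.lin 3)) (.lin 0)) .sq) (.wt 1))) (.lin
    2))))) (.lin 2)) (.wt 2)))))) (.lin 2)) (.wt 2)))) (.lin 3)) (.lin 0)) .sq) (.wt 1))))) (.lin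
    3)) .sq)) (.lin 3)) (.lin 0)) (.div 4)) (.wt 1)))) (.lin 2)) (.wt 2))))) (.lin 3)) (.lin 0))
    (.div 4)) (.wt 1)) (.lin 2)) (.wt 2)))

def cert2_0_7 : Cert :=
  (.split 3 65 (.split 2 (-250) (.lin 6) (.split 1 123 (.split 6 (-35) (.lin 1) (.split 2 (-174)
    (.lin 2) (.split 4 223 (.split 2 (-160) (.lin 6) (.split 4 196 (.splitN 121066 (.split 5
    (-64) (.split 2 (-101) (.split 4 132 (.lin 9) (.split 6 (-26) (.lin 1) (.split 3 41 (.wt 2)
    (.split 2 (-110) (.split 3 43 (.wt 2) (.split 2 (-119) (.split 1 92 (.split 0 84 (.split 4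
    169 (.split 2 (-147) (.lin 4) (.splitN 65795 (.wt 1) (.split 5 (-79) (.wt 0) (.split 2 (-142)
    (.lin 6) (.split 4 160 (.split 0 79 (.split 4 151 (.split 1 72 (.wt 2) (.split 2 (-124)
    (.split 4 141 (.lin 8) (.split 3 54 (.wt 2) (.splitN 74947 (.split 5 (-66) (.split 6 (-8)
    (.lin 1) (.split 1 79 (.wt 0) (.lin 4))) (.wt 0)) (.wt 1)))) (.lin 6))) (.lin 0)) (.lin 0))
    (.lin 8)))))) (.lin 0)) (.lin 3)) (.split 0 74 (.lin 3) (.split 2 (-133) (.split 4 159 (.lin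
    8) (.split 0 79 (.lin 0) (.split 4 168 (.lin 0) (.splitN 70739 .sq (.split 5 (-73) (.wt 1)
    (.split 2 (-147) (.lin 2) (.split 1 105 (.lin 8) (.split 4 169 (.splitN 75452 (.wt 0) (.wt
    1)) (.lin 9))))))))) (.lin 6)))) (.lin 2))) (.lin 2))))) (.lin 2)) (.split 2 (-147) (.lin 2)
    (.split 4 169 (.split 3 47 (.split 3 35 (.wt 2) .cand) (.split 2 (-101) (.split 1 102 (.split
    6 (-26) (.lin 1) (.split 4 151 (.split 1 74 (.split 4 124 (.split 0 61 (.split 4 115 (.split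
    1 52 (.wt 2) (.split 4 105 (.lin 8) (.split 0 52 (.lin 0) (.split 4 114 (.lin 0) .cand))))
    (.lin 0)) (.lin 0)) (.lin 8)) (.split 2 (-115) (.split 4 123 (.lin 8) (.split 0 61 (.lin 0)
    (.split 4 132 (.lin 0) (.splitN 96766 (.splitN 78894 (.wt 1) (.split 5 (-47) (.splitN 84015
    (.split 1 88 (.split 6 (-17) (.lin 1) (.split 4 133 (.split 1 79 (.split 3 54 (.wt 0) (.wt
    0)) (.lin 1)) (.lin 9))) (.wt 0)) (.wt 1)) (.wt 0))) (.wt 1))))) (.lin 6))) (.lin 9))) (.wt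
    2)) (.lin 2))) (.lin 9)))) (.wt 1)) (.lin 8))) (.lin 9)))) (.split 6 (-21) (.split 0 65 (.lin
    5) (.split 2 (-119) (.split 4 168 (.lin 8) (.split 0 83 (.lin 0) (.splitN 68867 .sq (.splitN
    110197 (.split 3 59 (.split 1 232 (.split 4 313 (.split 4 259 (.split 0 129 (.split 1 214
    (.split 2 (-183) (.lin 7) (.split 5 (-82) (.wt 3) (.split 6 (-26) (.split 5 (-60) (.split 2
    (-128) (.split 4 186 (.lin 9) (.splitN 81530 .sq (.splitN 83530 (.split 3 42 (.wt 0) (.split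
    2 (-137) .sq (.lin 2))) (.wt 1)))) (.lin 2)) (.split 6 (-35) (.split 3 47 (.split 3 38
    (.splitN 85322 (.wt 1) (.splitN 103039 (.split 5 (-52) (.wt 0) (.splitN 98505 (.wt 1) (.split
    1 176 (.wt 0) (.split 6 (-66) (.split 4 222 (.lin 9) .sq) (.lin 1))))) (.wt 3))) (.split 2
    (-128) (.splitN 100458 (.split 1 172 (.split 6 (-62) (.lin 1) (.split 2 (-156) (.lin 2)
    (.split 4 223 (.splitN 81990 (.wt 1) (.split 5 (-47) (.split 2 (-137) (.split 1 137 (.split 6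
    (-40) (.lin 1) (.split 4 187 (.wt 0) (.lin 9))) (.wt 1)) (.lin 2)) (.wt 0))) (.lin 9)))) (.wt
    2)) (.wt 1)) (.lin 2))) (.wt 2)) (.lin 1))) (.lin 1)))) (.lin 8)) (.lin 0)) .sq) (.lin 8))
    .sq) (.wt 6)) (.wt 1))))) (.lin 6))) (.lin 1)))) (.split 2 (-119) (.split 1 130 (.split 2
    (-201) (.lin 6) (.split 4 205 (.split 1 112 (.split 5 (-64) (.split 1 69 (.lin 1) (.split 4
    132 (.lin 9) (.splitN 76747 (.split 1 102 (.split 2 (-187) (.lin 6) (.split 5 (-73) (.split 1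
    78 (.lin 1) (.split 2 (-146) (.split 0 74 (.lin 5) (.split 4 150 (.lin 9) (.splitN 66221 .sq
    (.splitN 70856 (.split 3 93 (.split 5 (-79) (.wt 1) (.split 1 82 (.split 6 (-4) (.lin 1)
    (.split 2 (-165) (.lin 2) (.wt 0))) (.wt 0))) (.wt 0)) (.wt 1))))) (.lin 2))) (.split 1 82
    (.split 6 (-8) (.lin 1) (.split 2 (-165) (.lin 2) (.split 3 78 (.split 2 (-138) (.lin 2) (.wt
    2)) (.wt 0)))) (.wt 0)))) (.wt 2)) (.wt 1)))) (.split 4 160 (.split 0 79 (.split 4 151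
    (.splitN 100443 (.split 1 74 (.split 6 (-13) (.lin 1) (.split 2 (-165) (.lin 2) (.split 2
    (-160) (.lin 6) (.split 4 124 (.split 0 61 (.split 4 115 (.split 1 69 (.split 6 (-8) (.lin 1)
    (.split 5 (-51) (.split 1 60 (.lin 1) (.split 2 (-128) (.split 4 114 (.lin 9) (.splitN 78654
    (.wt 1) (.split 3 70 (.wt 0) (.wt 1)))) (.lin 2))) (.split 1 52 (.split 4 97 (.split 3 91
    (.splitN 91543 (.wt 1) (.split 3 73 (.wt 0) (.wt 1))) (.wt 0)) (.lin 9)) (.lin 1)))) (.wt 2))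
    (.lin 0)) (.lin 0)) (.lin 8))))) (.wt 2)) (.wt 1)) (.lin 0)) (.lin 0)) (.lin 8))) (.wt 2))
    (.lin 8))) (.wt 2)) (.lin 2)))

def cert2_0_8 : Cert :=
  (.split 4 1573 (.split 5 (-28) (.split 1 33 (.lin 1) (.split 2 (-74) (.split 4 60 (.lin 9)
    (.splitN 1820443 (.split 2 (-50511) (.div 2) (.split 1 348 (.split 6 (-157) (.lin 1) (.split
    4 385 (.splitN 1380317 (.split 2 (-1171) .sq (.split 1 269 (.split 6 (-121) (.lin 1) (.split
    4 313 (.splitN 1149722 (.split 2 (-1068) .sq (.split 1 95 (.split 6 (-31) (.lin 1) (.split 4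
    124 (.split 0 61 (.split 4 115 (.split 3 187 (.split 2 (-255) (.lin 2) (.split 1 61 (.split 6
    (-17) (.lin 1) (.split 4 97 (.split 3 89 (.split 2 (-138) (.lin 2) (.split 5 (-33) (.split 1
    42 (.lin 1) (.split 2 (-83) (.split 4 78 (.lin 9) (.split 3 65 (.split 2 (-111) (.lin 2)
    (.split 1 52 (.split 6 (-8) (.lin 1) (.split 4 79 (.split 1 43 (.splitN 119732 (.wt 1) (.wt
    0)) (.lin 1)) (.lin 9))) (.split 6 (-12) (.split 2 (-92) (.split 4 96 (.lin 9) (.splitN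
    130381 (.split 3 49 (.split 2 (-93) (.lin 2) (.splitN 121556 (.wt 0) (.wt 0))) (.wt 0)) (.wt
    1))) (.lin 2)) (.lin 1)))) (.split 2 (-110) (.splitN 129791 (.split 1 51 (.split 6 (-4) (.lin
    1) (.split 4 79 (.splitN 118603 (.wt 1) (.split 3 74 (.wt 0) (.split 2 (-119) (.splitN 122733
    (.split 3 83 (.wt 0) (.wt 0)) (.wt 1)) (.lin 2)))) (.lin 9))) (.wt 0)) (.wt 1)) (.lin 2))))
    (.lin 2))) (.split 2 (-129) (.lin 2) (.split 4 79 (.split 3 65 (.split 2 (-102) (.lin 2)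
    (.split 1 43 (.split 6 (-8) (.lin 1) (.split 4 61 (.split 1 34 (.splitN 228271 (.wt 1) (.wt
    0)) (.lin 1)) (.lin 9))) (.split 6 (-12) (.split 4 78 (.lin 9) (.splitN 279961 (.wt 0) (.wt
    1))) (.lin 1)))) (.split 2 (-101) (.splitN 289064 (.split 1 42 (.split 6 (-4) (.lin 1)
    (.split 4 61 (.splitN 230349 (.wt 1) (.split 2 (-117) (.wt 0) (.split 3 79 (.splitN 230765
    (.wt 1) (.wt 0)) (.lin 2)))) (.lin 9))) (.wt 0)) (.wt 1)) (.lin 2))) (.lin 9))))) (.split 2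
    (-128) (.split 1 49 (.split 6 (-8) (.lin 1) (.split 4 79 (.split 5 (-33) (.split 1 42 (.lin
    1) (.split 4 78 (.lin 9) (.splitN 124803 (.split 2 (-149) (.split 3 114 (.lin 2) (.split 2
    (-197) (.split 3 159 (.lin 2) (.wt 0)) (.wt 0))) (.wt 0)) (.wt 1)))) (.split 1 34 (.split 2
    (-219) (.lin 2) (.split 4 61 (.splitN 258290 (.split 3 161 (.split 2 (-192) (.lin 2) (.split
    3 145 (.split 2 (-174) (.lin 2) (.split 3 135 (.split 2 (-165) (.lin 2) (.split 3 129 (.split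
    2 (-156) (.lin 2) (.splitN 245270 (.split 3 116 (.split 2 (-147) (.lin 2) (.split 3 110
    (.split 2 (-138) (.lin 2) (.split 3 105 (.split 2 (-129) (.lin 2) (.splitN 236240 (.wt 0)
    (.wt 0))) (.wt 0))) (.wt 0))) (.wt 0)) (.wt 1))) (.wt 0))) (.wt 0))) (.wt 0))) (.wt 0)) (.wt
    1)) (.lin 9))) (.lin 1))) (.lin 9))) (.wt 2)) (.lin 2))) (.lin 9))) (.split 6 (-17) (.split 4
    96 (.lin 9) (.splitN 297497 (.split 3 170 (.split 2 (-237) (.lin 2) (.split 3 161 (.split 2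
    (-223) (.lin 6) (.split 2 (-105) (.split 3 47 (.lin 6) (.splitN 147887 (.split 2 (-119)
    (.split 3 56 (.lin 6) (.wt 2)) (.wt 0)) (.wt 6))) (.wt 2))) (.wt 0))) (.wt 0)) (.wt 1)))
    (.lin 1)))) (.split 1 45 (.split 6 (-8) (.lin 1) (.split 4 79 (.splitN 267339 (.split 2
    (-471) .sq (.split 5 (-33) (.split 1 42 (.lin 1) (.split 4 78 (.lin 9) (.splitN 127826 (.wt
    0) (.wt 1)))) (.split 4 61 (.splitN 239550 (.split 2 (-377) (.split 3 348 (.lin 2) .sq) (.wt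
    0)) (.wt 1)) (.lin 9)))) (.wt 1)) (.lin 9))) (.wt 2))) (.lin 0)) (.lin 0)) (.lin 8))) (.split
    4 123 (.lin 8) (.split 0 61 (.lin 0) (.split 4 132 (.lin 0) (.splitN 335094 (.split 3 131
    (.split 2 (-282) (.lin 2) (.splitN 162106 (.split 1 172 (.split 6 (-71) (.lin 1) (.split 2
    (-228) (.lin 2) (.splitN 136762 (.split 1 102 (.split 6 (-35) (.lin 1) (.split 2 (-192) (.lin
    2) (.wt 0))) (.wt 0)) (.wt 6)))) (.wt 0)) (.wt 6))) (.wt 0)) (.wt 1))))))) (.wt 1)) (.lin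
    9))) (.wt 2))) (.wt 1)) (.lin 9))) (.wt 2))) (.wt 1))) (.lin 2))) (.split 1 36 (.wt 1) (.wt
    0))) (.lin 9))

def cert2_0_9 : Cert :=
  (.split 5 (-46) (.split 1 51 (.lin 1) (.split 2 (-65) (.split 0 47 (.lin 5) (.split 4 96 (.lin
    9) (.split 3 22 (.wt 2) (.split 2 (-74) (.splitN 167423 (.split 4 1844 (.split 0 381 (.split
    4 763 (.split 1 718 (.split 1 382 (.split 3 25 (.wt 2) (.split 2 (-83) (.splitN 138153
    (.split 2 (-346) .sq (.split 4 348 (.split 0 169 (.split 1 295 (.split 5 (-164) (.lin 5)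
    (.splitN 130231 (.split 2 (-331) .sq (.split 3 97 (.split 2 (-264) (.lin 7) (.split 5 (-87)
    (.split 1 96 (.lin 1) (.split 2 (-128) (.split 0 92 (.lin 5) (.split 4 186 (.lin 9) (.splitN
    78857 .sq (.wt 1)))) (.lin 2))) cert2_0_7)) (.splitN 101025 (.split 1 128 (.split 5 (-119)
    (.lin 1) (.split 1 107 (.split 5 (-101) (.lin 1) (.split 1 96 (.split 5 (-83) (.lin 1)
    (.split 1 84 (.split 5 (-74) (.lin 1) (.split 6 (-17) (.lin 1) (.split 1 78 (.split 5 (-65)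
    (.lin 1) (.split 3 233 (.split 2 (-309) (.lin 2) (.split 2 (-265) .sq (.split 1 67 (.split 5
    (-56) (.lin 1) (.split 6 (-8) (.lin 1) (.split 1 60 (.split 5 (-47) (.lin 1) (.split 4 97
    (.splitN 92630 (.wt 0) (.wt 1)) (.lin 9))) (.wt 2)))) (.wt 2)))) (.wt 2))) (.wt 2)))) (.wt
    2))) (.wt 2))) (.wt 2))) (.wt 2)) (.wt 1)))) (.wt 1))) (.lin 8)) (.lin 0)) .sq)) (.wt 1))
    (.lin 2))) .sq) (.lin 8)) (.lin 0)) .sq) (.div 4)) (.wt 1)) (.lin 2))))) (.lin 2))) (.split 3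
    40 (.split 1 58 (.split 6 (-17) (.lin 1) (.split 4 97 (.split 4 88 (.split 0 43 (.split 4 79
    (.split 5 (-20) (.split 2 (-47) (.split 4 60 (.lin 9) (.splitN 116845 (.wt 1) (.split 3 20
    (.wt 0) (.split 2 (-56) (.splitN 145298 (.wt 6) (.split 5 (-33) (.wt 0) (.splitN 229829 (.wt
    1) (.split 1 42 (.wt 0) (.split 6 (-8) (.split 2 (-65) (.split 4 78 (.lin 9) (.splitN 261013
    (.wt 1) (.wt 0))) (.lin 2)) (.lin 1)))))) (.lin 2))))) (.lin 2)) (.wt 1)) (.lin 0)) (.lin 0))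
    (.lin 8)) (.lin 9))) (.split 6 (-12) (.split 2 (-47) (.split 4 60 (.lin 9) (.split 5 (-20)
    (.split 4 87 (.lin 8) (.split 0 43 (.lin 0) (.split 4 96 (.lin 0) (.split 3 18 (.wt 2)
    (.split 2 (-70) (.splitN 12108916 (.split 0 3476 (.split 4 6937 (.split 1 6910 (.split 6
    (-3442) (.lin 1) (.split 2 (-3513) (.lin 2) (.splitN 7895561 (.split 0 2805 (.split 4 5605
    (.split 1 5578 (.split 6 (-2776) (.lin 1) (.split 2 (-2847) (.lin 2) (.splitN 7298471 (.split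
    1 2697 (.split 6 (-1331) (.lin 1) (.split 2 (-1398) (.lin 2) (.split 4 2725 (.splitN 5159235
    (.split 1 2267 (.split 6 (-1120) (.lin 1) (.split 2 (-1191) (.lin 2) (.split 4 2311 (.splitN
    4687403 (.split 4 2161 (.split 1 360 (.split 6 (-166) (.lin 1) (.split 2 (-237) (.lin 2)
    (.split 4 403 (.splitN 111383 (.wt 1) (.split 1 147 (.split 6 (-58) (.lin 1) (.split 2 (-129)
    (.lin 2) (.split 4 187 (.split 2 (-124) (.lin 6) (.splitN 117513 (.wt 1) (.split 5 (-33)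
    (.split 6 (-53) (.lin 1) (.split 4 169 (.split 1 133 (.split 1 62 (.wt 0) (.split 6 (-17)
    (.split 4 114 (.lin 9) (.split 3 26 (.wt 0) (.split 2 (-92) (.splitN 124635 (.wt 1) (.split 1
    81 (.wt 0) (.split 6 (-26) (.split 2 (-101) (.split 1 99 (.wt 2) (.split 6 (-35) (.split 2
    (-110) (.split 1 114 (.lin 4) (.split 4 150 (.lin 9) (.splitN 135562 (.split 1 121 (.split 6
    (-40) (.lin 1) (.split 2 (-111) (.lin 2) (.wt 0))) (.wt 0)) (.wt 1)))) (.lin 2)) (.lin 1)))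
    (.lin 2)) (.lin 1)))) (.lin 2)))) (.lin 1))) (.lin 1)) (.lin 9))) (.split 1 69 (.lin 8)
    (.split 4 169 (.split 3 29 (.splitN 284727 (.wt 1) (.split 1 96 (.wt 0) (.split 6 (-35)
    (.split 2 (-92) (.split 4 132 (.lin 9) (.splitN 303833 (.wt 1) (.wt 0))) (.lin 2)) (.lin
    1)))) (.splitN 341283 (.split 1 87 (.split 6 (-26) (.lin 1) (.split 2 (-84) (.lin 2) (.wt
    0))) (.wt 0)) (.wt 1))) (.lin 9)))))) (.lin 9)))) (.split 6 (-57) (.split 2 (-110) (.split 4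
    168 (.lin 9) (.split 2 (-115) (.split 4 177 (.lin 8) (.splitN 541857 (.split 5 (-33) (.split
    3 26 (.wt 2) (.splitN 146134 (.split 1 296 (.split 6 (-130) (.lin 1) (.split 2 (-201) (.lin
    2) (.split 1 241 (.split 6 (-103) (.lin 1) (.split 2 (-174) (.lin 2) (.split 1 203 (.split 6
    (-80) (.lin 1) (.split 2 (-147) (.lin 2) (.split 4 223 (.splitN 138413 (.wt 0) (.wt 1)) (.lin
    9)))) (.wt 0)))) (.wt 0)))) (.wt 0)) (.wt 1))) (.split 3 32 (.splitN 332946 (.wt 1) (.split 1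
    165 (.wt 0) (.split 6 (-71) (.split 2 (-128) (.split 4 204 (.lin 9) (.split 2 (-193) (.wt 0)
    (.split 6 (-139) (.lin 2) (.split 1 304 (.split 4 331 (.splitN 354807 (.wt 1) (.split 1 218
    (.wt 0) (.split 6 (-98) (.split 2 (-155) (.wt 0) (.lin 2)) (.lin 1)))) (.lin 9)) (.lin 4)))))
    (.lin 2)) (.lin 1)))) (.wt 0))) (.wt 1))) (.lin 6))) (.lin 2)) (.lin 1)))) (.lin 9))))
    (.split 6 (-165) (.split 2 (-218) (.split 0 191 (.lin 5) (.split 4 384 (.lin 9) (.splitN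
    395936 .sq (.splitN 578460 (.split 5 (-34) (.wt 0) (.split 3 30 (.splitN 485483 (.split 1 440
    (.wt 0) (.split 6 (-210) (.split 4 474 (.lin 9) .sq) (.lin 1))) (.wt 3)) (.wt 0))) (.wt
    1))))) (.lin 2)) (.lin 1))) .sq) (.wt 1)) (.lin 9)))) .sq) (.wt 1)) (.lin 9)))) .sq) (.wt
    1)))) (.lin 8)) (.lin 0)) .sq) (.wt 1)))) (.lin 8)) (.lin 0)) .sq) (.wt 1)) (.lin 6))))))
    (.wt 1))) (.lin 2)) (.lin 1))) (.split 2 (-65) (.split 1 1529 (.split 6 (-755) (.lin 1)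
    cert2_0_8) (.wt 2)) (.lin 2))))

def cert2_0_10 : Cert :=
  (.split 1 40 (.split 3 28 (.wt 2) (.split 2 (-56) (.split 1 17 (.wt 2) (.split 5 (-37) (.split
    0 29 (.lin 3) (.split 4 60 (.lin 0) (.split 2 (-65) (.splitN 403558 (.split 2 (-11181) (.div
    2) (.split 3 11149 (.split 4 4472 (.splitN 278945 (.split 4 3068 (.split 3 57 (.wt 2) (.split
    2 (-92) (.splitN 47009 (.wt 1) (.splitN 225259 (.split 4 2492 (.split 5 (-313) (.wt 0)
    (.split 6 141 (.split 0 174 (.split 4 349 (.splitN 50015 (.wt 1) (.split 5 (-178) (.wt 0)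
    (.split 6 73 (.split 0 102 (.split 4 205 (.splitN 53008 (.wt 1) (.split 5 (-130) (.wt 0)
    (.split 6 51 (.split 0 84 (.split 4 169 (.split 4 160 (.split 0 79 (.split 4 151 (.splitN
    179065 (.split 2 (-4971) (.div 2) (.split 3 4984 (.split 5 (-121) (.wt 0) (.splitN 56532 (.wt
    1) (.split 5 (-105) (.wt 0) (.split 6 37 (.split 0 66 (.split 4 133 (.split 2 (-1500) (.wt 2)
    (.split 3 1492 (.split 5 (-100) (.wt 0) (.split 4 124 (.split 0 61 (.split 4 115 (.splitN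
    60501 (.wt 1) (.split 5 (-87) (.wt 0) (.split 6 28 (.split 2 (-661) (.wt 2) (.split 3 646
    (.split 1 25 (.wt 2) (.split 5 (-46) (.split 0 38 (.lin 3) (.split 4 78 (.lin 0) (.split 2
    (-101) (.split 5 (-80) (.wt 0) (.split 6 19 (.split 0 48 (.split 4 97 (.split 5 (-65) (.lin
    1) (.splitN 71676 (.wt 1) (.split 3 73 (.wt 0) (.split 2 (-110) (.split 3 83 (.wt 0) (.split
    2 (-128) (.splitN 79811 (.wt 6) (.split 2 (-424) (.wt 0) (.split 3 385 (.splitN 89988 (.wt 6)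
    (.split 2 (-148) (.wt 0) (.split 3 115 (.wt 0) (.lin 2)))) (.lin 2)))) (.lin 4))) (.lin
    2))))) (.lin 0)) (.lin 3)) (.lin 1))) (.lin 4)))) (.lin 1))) (.lin 2))) (.lin 1)))) (.lin 0))
    (.lin 0)) (.lin 8))) (.lin 2))) (.lin 0)) (.lin 3)) (.lin 1))))) (.lin 2))) (.wt 3)) (.lin
    0)) (.lin 0)) (.lin 8)) (.lin 0)) (.lin 3)) (.lin 1)))) (.lin 0)) (.lin 3)) (.lin 1)))) (.lin
    0)) (.lin 3)) (.lin 1))) (.div 4)) (.wt 3))) (.lin 4))) (.div 4)) (.wt 3)) (.div 4)) (.lin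
    4))) (.wt 1)) (.lin 4)))) (.lin 1))) (.lin 4))) (.split 5 (-55) (.split 0 47 (.lin 3) (.split
    4 96 (.lin 0) (.splitN 218515 (.split 2 (-6051) (.div 2) (.split 4 2420 (.split 3 24 (.wt 2)
    (.split 2 (-74) (.splitN 140624 (.split 4 1556 (.split 3 25 (.wt 2) (.split 2 (-83) (.splitN
    120356 (.split 0 308 (.split 4 601 (.split 6 258 (.split 2 (-316) .sq (.split 3 511 (.split 4
    319 (.split 3 93 (.split 5 (-123) (.split 2 (-119) (.split 4 168 (.lin 8) (.split 0 83 (.lin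
    0) (.splitN 68948 .sq (.wt 3)))) (.lin 6)) (.split 1 106 (.split 4 223 (.split 6 37 (.split 3
    36 (.wt 2) (.split 2 (-92) (.split 5 (-87) (.split 2 (-101) (.split 2 (-110) (.split 4 132
    (.lin 8) (.splitN 56554 (.wt 1) (.splitN 70861 (.split 1 47 (.wt 0) (.split 2 (-115) (.split
    4 141 (.lin 8) (.split 0 70 (.lin 0) (.split 3 44 (.wt 0) (.split 1 62 (.wt 2) (.split 2
    (-133) (.split 4 159 (.lin 8) (.split 0 79 (.lin 0) (.split 4 168 (.lin 0) .sq))) (.lin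
    6)))))) (.lin 6))) (.wt 3)))) (.lin 6)) (.lin 2)) (.split 1 70 (.split 4 151 (.split 3 49
    (.wt 2) (.split 1 44 (.wt 2) (.split 5 (-64) (.split 2 (-110) (.split 3 59 (.wt 2) (.split 2
    (-119) (.split 1 52 (.wt 2) (.split 5 (-73) (.split 0 65 (.lin 3) (.split 6 10 (.split 2
    (-128) (.split 3 71 (.wt 2) (.split 2 (-146) (.split 1 62 (.wt 2) (.split 5 (-82) (.split 2
    (-155) (.split 4 150 (.lin 9) (.splitN 70352 .sq (.wt 0))) (.lin 2)) (.lin 1))) (.lin 2)))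
    (.lin 2)) (.lin 1))) (.lin 1))) (.lin 4))) (.lin 4)) (.lin 1)))) (.lin 9)) (.lin 1))) (.lin
    4))) (.lin 1)) (.lin 9)) (.lin 1))) (.split 2 (-146) (.splitN 91167 (.split 2 (-250) .sq
    (.split 0 147 (.split 4 295 (.split 3 196 (.split 4 224 (.split 0 111 (.split 1 106 (.split 5
    (-100) (.split 2 (-169) (.split 3 173 (.split 4 141 (.lin 8) (.split 0 70 (.lin 0) (.split 4
    150 (.lin 0) (.splitN 79649 .sq (.wt 0))))) (.lin 6)) (.lin 6)) (.split 4 169 (.split 5 (-73)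
    (.splitN 75314 (.split 1 44 (.wt 2) (.split 2 (-160) (.split 4 123 (.lin 8) (.split 0 61
    (.lin 0) (.split 4 132 (.lin 0) (.splitN 66419 .sq (.split 5 (-85) (.wt 1) (.split 4 151
    (.split 2 (-189) .sq (.split 3 119 (.splitN 71739 (.split 1 53 (.wt 0) (.split 6 10 (.split 5
    (-77) (.wt 1) (.split 1 61 (.split 4 133 (.split 3 99 (.wt 0) (.split 2 (-173) .sq (.lin 2)))
    (.lin 9)) (.lin 1))) (.lin 1))) (.wt 1)) (.lin 6))) (.lin 9))))))) (.lin 6))) (.wt 1))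
    (.split 1 52 (.split 4 115 (.split 6 10 (.splitN 70728 (.wt 1) (.split 3 146 (.split 1 43
    (.wt 2) (.split 5 (-64) (.split 3 111 (.wt 0) (.split 2 (-173) (.split 2 (-189) (.wt 2)
    (.split 3 124 (.wt 2) (.lin 2))) (.lin 2))) (.lin 1))) (.split 2 (-200) (.splitN 79424 .sq
    (.splitN 83665 (.split 1 43 (.wt 0) (.split 5 (-64) (.split 4 114 (.lin 9) .sq) (.lin 1)))
    (.wt 1))) (.lin 2)))) (.lin 1)) (.lin 9)) (.lin 1))) (.lin 9))) (.lin 3)) (.lin 0)) .sq)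
    (.lin 4)) (.lin 0)) (.lin 7))) (.wt 1)) (.lin 4))) .sq) (.lin 2))) (.lin 3)) (.lin 0)) .sq)
    (.wt 1)) (.lin 4))) (.div 4)) (.wt 1)) (.lin 4))) (.div 4))) (.wt 1)))) (.lin 1)))

def cert2_0_11 : Cert :=
  (.split 2 65 (.split 3 (-250) (.lin 6) (.split 1 123 (.split 6 (-35) (.lin 1) (.split 4 223
    (.split 3 (-174) (.lin 2) (.split 3 (-160) (.lin 6) (.split 4 196 (.splitN 121066 (.split 5
    (-64) (.split 4 132 (.lin 9) (.split 6 (-26) (.lin 1) (.split 3 (-101) (.split 2 41 (.wt 2)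
    (.split 3 (-110) (.split 2 43 (.wt 2) (.split 3 (-119) (.split 1 92 (.split 0 84 (.split 4
    169 (.split 3 (-147) (.lin 4) (.splitN 65795 (.wt 1) (.split 5 (-79) (.wt 0) (.split 3 (-142)
    (.lin 6) (.split 4 160 (.split 0 79 (.split 4 151 (.split 1 72 (.wt 2) (.split 3 (-124)
    (.split 4 141 (.lin 8) (.split 2 54 (.wt 2) (.splitN 74947 (.split 5 (-66) (.split 6 (-8)
    (.lin 1) (.split 1 79 (.wt 0) (.lin 4))) (.wt 0)) (.wt 1)))) (.lin 6))) (.lin 0)) (.lin 0))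
    (.lin 8)))))) (.lin 0)) (.lin 3)) (.split 0 74 (.lin 3) (.split 3 (-133) (.split 4 159 (.lin
    8) (.split 0 79 (.lin 0) (.split 4 168 (.lin 0) (.splitN 70739 .sq (.split 5 (-73) (.wt 1)
    (.split 1 105 (.lin 8) (.split 4 169 (.split 3 (-147) (.lin 2) (.splitN 75452 (.wt 0) (.wt
    1))) (.lin 9)))))))) (.lin 6)))) (.lin 2))) (.lin 2))) (.lin 2)))) (.split 3 (-147) (.lin 2)
    (.split 4 169 (.split 2 47 (.split 2 35 (.wt 2) .cand) (.split 3 (-101) (.split 1 102 (.split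
    6 (-26) (.lin 1) (.split 4 151 (.split 1 74 (.split 4 124 (.split 0 61 (.split 4 115 (.split
    1 52 (.wt 2) (.split 4 105 (.lin 8) (.split 0 52 (.lin 0) (.split 4 114 (.lin 0) .cand))))
    (.lin 0)) (.lin 0)) (.lin 8)) (.split 3 (-115) (.split 4 123 (.lin 8) (.split 0 61 (.lin 0)
    (.split 4 132 (.lin 0) (.splitN 96766 (.splitN 78894 (.wt 1) (.split 5 (-47) (.splitN 84015
    (.split 1 88 (.split 6 (-17) (.lin 1) (.split 4 133 (.split 1 79 (.split 2 54 (.wt 0) (.wt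
    0)) (.lin 1)) (.lin 9))) (.wt 0)) (.wt 1)) (.wt 0))) (.wt 1))))) (.lin 6))) (.lin 9))) (.wt
    2)) (.lin 2))) (.lin 9)))) (.wt 1)) (.lin 8)))) (.lin 9))) (.split 6 (-21) (.split 0 65 (.lin
    5) (.split 3 (-119) (.split 4 168 (.lin 8) (.split 0 83 (.lin 0) (.splitN 68867 .sq (.splitN
    110197 (.split 2 59 (.split 1 232 (.split 4 313 (.split 4 259 (.split 0 129 (.split 1 214
    (.split 3 (-183) (.lin 7) (.split 5 (-82) (.wt 3) (.split 6 (-26) (.split 5 (-60) (.split 4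
    186 (.lin 9) (.split 3 (-128) (.splitN 81530 .sq (.splitN 83530 (.split 2 42 (.wt 0) (.split
    3 (-137) .sq (.lin 2))) (.wt 1))) (.lin 2))) (.split 6 (-35) (.split 2 47 (.split 2 38
    (.splitN 85322 (.wt 1) (.splitN 103039 (.split 5 (-52) (.wt 0) (.splitN 98505 (.wt 1) (.split
    1 176 (.wt 0) (.split 6 (-66) (.split 4 222 (.lin 9) .sq) (.lin 1))))) (.wt 3))) (.split 3
    (-128) (.splitN 100458 (.split 1 172 (.split 6 (-62) (.lin 1) (.split 4 223 (.split 3 (-156)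
    (.lin 2) (.splitN 81990 (.wt 1) (.split 5 (-47) (.split 3 (-137) (.split 1 137 (.split 6
    (-40) (.lin 1) (.split 4 187 (.wt 0) (.lin 9))) (.wt 1)) (.lin 2)) (.wt 0)))) (.lin 9))) (.wt
    2)) (.wt 1)) (.lin 2))) (.wt 2)) (.lin 1))) (.lin 1)))) (.lin 8)) (.lin 0)) .sq) (.lin 8))
    .sq) (.wt 6)) (.wt 1))))) (.lin 6))) (.lin 1)))) (.split 3 (-119) (.split 1 130 (.split 3
    (-201) (.lin 6) (.split 4 205 (.split 1 112 (.split 5 (-64) (.split 1 69 (.lin 1) (.split 4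
    132 (.lin 9) (.splitN 76747 (.split 1 102 (.split 3 (-187) (.lin 6) (.split 5 (-73) (.split 1
    78 (.lin 1) (.split 0 74 (.lin 5) (.split 4 150 (.lin 9) (.split 3 (-146) (.splitN 66221 .sq
    (.splitN 70856 (.split 2 93 (.split 5 (-79) (.wt 1) (.split 1 82 (.split 6 (-4) (.lin 1)
    (.split 3 (-165) (.lin 2) (.wt 0))) (.wt 0))) (.wt 0)) (.wt 1))) (.lin 2))))) (.split 1 82
    (.split 6 (-8) (.lin 1) (.split 3 (-165) (.lin 2) (.split 2 78 (.split 3 (-138) (.lin 2) (.wt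
    2)) (.wt 0)))) (.wt 0)))) (.wt 2)) (.wt 1)))) (.split 4 160 (.split 0 79 (.split 4 151
    (.splitN 100443 (.split 1 74 (.split 6 (-13) (.lin 1) (.split 3 (-165) (.lin 2) (.split 3
    (-160) (.lin 6) (.split 4 124 (.split 0 61 (.split 4 115 (.split 1 69 (.split 6 (-8) (.lin 1)
    (.split 5 (-51) (.split 1 60 (.lin 1) (.split 4 114 (.lin 9) (.split 3 (-128) (.splitN 78654
    (.wt 1) (.split 2 70 (.wt 0) (.wt 1))) (.lin 2)))) (.split 1 52 (.split 4 97 (.split 2 91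
    (.splitN 91543 (.wt 1) (.split 2 73 (.wt 0) (.wt 1))) (.wt 0)) (.lin 9)) (.lin 1)))) (.wt 2))
    (.lin 0)) (.lin 0)) (.lin 8))))) (.wt 2)) (.wt 1)) (.lin 0)) (.lin 0)) (.lin 8))) (.wt 2))
    (.lin 8))) (.wt 2)) (.lin 2)))

def cert2_0_12 : Cert :=
  (.split 5 (-28) (.split 1 33 (.lin 1) (.split 4 60 (.lin 9) (.split 3 (-74) (.splitN 1820443
    (.split 2 50510 (.split 3 (-51294) (.lin 2) (.split 1 348 (.split 6 (-157) (.lin 1) (.split 4
    385 (.splitN 1380359 (.split 2 1168 (.split 3 (-1362) (.lin 2) (.split 1 278 (.split 6 (-125)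
    (.lin 1) (.split 4 313 (.splitN 1168259 (.split 2 1074 (.split 3 (-1227) (.lin 2) (.split 3
    (-1077) .sq (.split 1 264 (.split 6 (-116) (.lin 1) (.split 4 295 (.split 1 93 (.split 6
    (-31) (.lin 1) (.split 4 124 (.split 0 61 (.split 4 115 (.split 2 190 (.split 3 (-255) (.lin
    2) (.split 1 61 (.split 6 (-17) (.lin 1) (.split 4 97 (.split 2 89 (.split 3 (-138) (.lin 2)
    (.split 5 (-33) (.split 1 42 (.lin 1) (.split 4 78 (.lin 9) (.split 3 (-83) (.split 2 65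
    (.split 3 (-111) (.lin 2) (.split 1 52 (.split 6 (-8) (.lin 1) (.split 4 79 (.split 1 43
    (.splitN 119732 (.wt 1) (.wt 0)) (.lin 1)) (.lin 9))) (.split 6 (-12) (.split 4 96 (.lin 9)
    (.split 3 (-92) (.splitN 130381 (.split 2 49 (.split 3 (-93) (.lin 2) (.splitN 121556 (.wt 0)
    (.wt 0))) (.wt 0)) (.wt 1)) (.lin 2))) (.lin 1)))) (.split 3 (-110) (.splitN 129791 (.split 1
    51 (.split 6 (-4) (.lin 1) (.split 4 79 (.splitN 118603 (.wt 1) (.split 2 74 (.wt 0) (.split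
    3 (-119) (.splitN 122733 (.split 2 83 (.wt 0) (.wt 0)) (.wt 1)) (.lin 2)))) (.lin 9))) (.wt
    0)) (.wt 1)) (.lin 2))) (.lin 2)))) (.split 4 79 (.split 3 (-129) (.lin 2) (.split 2 65
    (.split 3 (-102) (.lin 2) (.split 1 43 (.split 6 (-8) (.lin 1) (.split 4 61 (.split 1 34
    (.splitN 228271 (.wt 1) (.wt 0)) (.lin 1)) (.lin 9))) (.split 6 (-12) (.split 4 78 (.lin 9)
    (.splitN 279961 (.wt 0) (.wt 1))) (.lin 1)))) (.split 3 (-101) (.splitN 289064 (.splitN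
    201917 (.wt 3) (.split 1 42 (.split 6 (-4) (.lin 1) (.split 4 61 (.splitN 230349 (.wt 1)
    (.split 2 77 (.wt 0) (.split 3 (-110) (.split 2 83 (.wt 0) (.split 3 (-119) (.wt 0) (.lin
    2))) (.lin 2)))) (.lin 9))) (.wt 0))) (.wt 1)) (.lin 2)))) (.lin 9)))) (.split 3 (-128)
    (.split 1 49 (.split 6 (-8) (.lin 1) (.split 4 79 (.split 5 (-33) (.split 1 42 (.lin 1)
    (.split 4 78 (.lin 9) (.splitN 124803 (.split 2 127 (.split 3 (-165) (.lin 2) (.splitN 120971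
    (.wt 3) (.wt 1))) (.wt 0)) (.wt 1)))) (.split 1 34 (.split 4 61 (.split 3 (-219) (.lin 2)
    (.splitN 258290 (.split 2 161 (.split 3 (-192) (.lin 2) (.split 2 145 (.split 3 (-174) (.lin
    2) (.split 2 135 (.split 3 (-165) (.lin 2) (.split 2 129 (.split 3 (-156) (.lin 2) (.splitN
    245270 (.split 2 116 (.split 3 (-147) (.lin 2) (.split 2 110 (.split 3 (-138) (.lin 2)
    (.split 2 105 (.split 3 (-129) (.lin 2) (.splitN 236240 (.wt 0) (.wt 0))) (.wt 0))) (.wt 0)))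
    (.wt 0)) (.wt 1))) (.wt 0))) (.wt 0))) (.wt 0))) (.wt 0)) (.wt 1))) (.lin 9)) (.lin 1)))
    (.lin 9))) (.wt 2)) (.lin 2))) (.lin 9))) (.split 6 (-17) (.split 4 96 (.lin 9) (.split 2 54
    (.split 3 (-115) (.lin 6) (.splitN 134984 (.split 1 78 (.split 5 (-29) (.lin 1) (.wt 0)) (.wt
    0)) (.wt 6))) (.wt 2))) (.lin 1)))) (.split 3 (-227) (.split 1 45 (.split 6 (-8) (.lin 1)
    (.split 4 79 (.splitN 267339 (.split 2 456 (.split 3 (-489) (.lin 2) (.split 5 (-33) (.split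
    1 42 (.lin 1) (.split 4 78 (.lin 9) (.splitN 127333 (.wt 0) (.wt 1)))) (.split 4 61 (.splitN
    240048 (.split 2 222 (.split 3 (-246) (.lin 2) (.wt 0)) (.wt 0)) (.wt 1)) (.lin 9)))) .sq)
    (.wt 1)) (.lin 9))) (.wt 2)) (.lin 2))) (.lin 0)) (.lin 0)) (.lin 8))) (.split 4 123 (.lin 8)
    (.split 0 61 (.lin 0) (.split 4 132 (.lin 0) (.splitN 333272 (.split 2 130 (.split 3 (-273)
    (.lin 2) (.splitN 158033 (.split 1 159 (.split 6 (-62) (.lin 1) (.split 3 (-219) (.lin 2)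
    (.splitN 131333 (.wt 0) (.wt 6)))) (.wt 0)) (.wt 6))) (.wt 0)) (.wt 1)))))) (.lin 9))) (.wt
    2)))) .sq) (.wt 1)) (.lin 9))) (.wt 2))) .sq) (.wt 1)) (.lin 9))) (.wt 2))) (.div 2)) (.wt
    1)) (.lin 2)))) (.split 1 36 (.wt 1) (.wt 0)))

def cert2_0_13 : Cert :=
  (.split 5 (-46) (.split 1 51 (.lin 1) (.split 0 47 (.lin 5) (.split 4 96 (.lin 9) (.split 3
    (-65) (.split 2 22 (.wt 2) (.split 3 (-74) (.splitN 167423 (.split 4 1844 (.split 0 381
    (.split 4 763 (.split 1 718 (.split 1 382 (.split 2 25 (.wt 2) (.split 3 (-83) (.splitN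
    138153 (.split 1 338 (.split 2 336 (.split 3 (-660) (.lin 4) (.split 3 (-346) .sq (.split 4
    348 (.split 0 169 (.split 1 295 (.split 5 (-164) (.lin 5) (.splitN 130231 (.split 3 (-331)
    .sq (.split 2 97 (.split 3 (-264) (.lin 7) (.split 5 (-87) (.split 1 96 (.lin 1) (.split 0 92
    (.lin 5) (.split 4 186 (.lin 9) (.split 3 (-128) (.splitN 78857 .sq (.wt 1)) (.lin 2)))))
    cert2_0_11)) (.splitN 101025 (.split 1 128 (.split 5 (-119) (.lin 1) (.split 1 107 (.split 5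
    (-101) (.lin 1) (.split 1 96 (.split 5 (-83) (.lin 1) (.split 1 84 (.split 5 (-74) (.lin 1)
    (.split 6 (-17) (.lin 1) (.split 1 78 (.split 5 (-65) (.lin 1) (.split 2 233 (.split 3 (-309)
    (.lin 2) (.split 3 (-265) .sq (.split 1 67 (.split 5 (-56) (.lin 1) (.split 6 (-8) (.lin 1)
    (.split 1 60 (.split 5 (-47) (.lin 1) (.split 4 97 (.splitN 92630 (.wt 0) (.wt 1)) (.lin 9)))
    (.wt 2)))) (.wt 2)))) (.wt 2))) (.wt 2)))) (.wt 2))) (.wt 2))) (.wt 2))) (.wt 2)) (.wt 1))))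
    (.wt 1))) (.lin 8)) (.lin 0)) .sq))) .sq) .sq) (.wt 1)) (.lin 2))) .sq) (.lin 8)) (.lin 0))
    .sq) (.div 4)) (.wt 1)) (.lin 2))) (.lin 2))))) (.split 2 40 (.split 1 58 (.split 6 (-17)
    (.lin 1) (.split 4 97 (.split 4 88 (.split 0 43 (.split 4 79 (.split 5 (-20) (.split 4 60
    (.lin 9) (.split 3 (-47) (.splitN 116845 (.wt 1) (.split 2 20 (.wt 0) (.split 3 (-56)
    (.splitN 145298 (.wt 6) (.split 5 (-33) (.wt 0) (.splitN 229829 (.wt 1) (.split 1 42 (.wt 0)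
    (.split 6 (-8) (.split 4 78 (.lin 9) (.split 3 (-65) (.splitN 261013 (.wt 1) (.wt 0)) (.lin
    2))) (.lin 1)))))) (.lin 2)))) (.lin 2))) (.wt 1)) (.lin 0)) (.lin 0)) (.lin 8)) (.lin 9)))
    (.split 6 (-12) (.split 4 60 (.lin 9) (.split 3 (-47) (.split 5 (-20) (.split 4 87 (.lin 8)
    (.split 0 43 (.lin 0) (.split 4 96 (.lin 0) (.split 2 18 (.wt 2) (.split 3 (-70) (.splitN
    12108916 (.split 0 3476 (.split 4 6937 (.split 1 6910 (.split 6 (-3442) (.lin 1) (.split 3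
    (-3513) (.lin 2) (.splitN 7895561 (.split 0 2805 (.split 4 5605 (.split 1 5578 (.split 6
    (-2776) (.lin 1) (.split 3 (-2847) (.lin 2) (.splitN 7298471 (.split 1 2697 (.split 6 (-1331)
    (.lin 1) (.split 4 2725 (.split 3 (-1398) (.lin 2) (.splitN 5159235 (.split 1 2267 (.split 6
    (-1120) (.lin 1) (.split 4 2311 (.split 3 (-1191) (.lin 2) (.splitN 4687403 (.split 4 2161
    (.split 1 360 (.split 6 (-166) (.lin 1) (.split 4 403 (.split 3 (-237) (.lin 2) (.splitN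
    111383 (.wt 1) (.split 1 147 (.split 6 (-58) (.lin 1) (.split 4 187 (.split 3 (-129) (.lin 2)
    (.split 3 (-124) (.lin 6) (.splitN 117513 (.wt 1) (.split 5 (-33) (.split 6 (-53) (.lin 1)
    (.split 4 169 (.split 1 133 (.split 1 62 (.wt 0) (.split 6 (-17) (.split 4 114 (.lin 9)
    (.split 2 26 (.wt 0) (.split 3 (-92) (.splitN 124635 (.wt 1) (.split 1 81 (.wt 0) (.split 6
    (-26) (.split 3 (-101) (.split 1 99 (.wt 2) (.split 6 (-35) (.split 4 150 (.lin 9) (.split 1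
    114 (.lin 1) (.splitN 135562 (.split 1 121 (.split 6 (-40) (.lin 1) (.split 3 (-111) (.lin 2)
    (.wt 0))) (.wt 0)) (.wt 1)))) (.lin 1))) (.lin 2)) (.lin 1)))) (.lin 2)))) (.lin 1))) (.lin
    1)) (.lin 9))) (.split 1 69 (.lin 8) (.split 4 169 (.split 2 29 (.splitN 284727 (.wt 1)
    (.split 1 96 (.wt 0) (.split 6 (-35) (.split 4 132 (.lin 9) (.split 3 (-92) (.splitN 303833
    (.wt 1) (.wt 0)) (.lin 2))) (.lin 1)))) (.splitN 341283 (.split 1 87 (.split 6 (-26) (.lin 1)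
    (.split 3 (-84) (.lin 2) (.wt 0))) (.wt 0)) (.wt 1))) (.lin 9))))))) (.lin 9))) (.split 6
    (-57) (.split 4 168 (.lin 9) (.split 3 (-110) (.split 3 (-115) (.split 4 177 (.lin 8)
    (.splitN 541857 (.split 5 (-33) (.split 2 26 (.wt 2) (.splitN 146134 (.split 1 296 (.split 6
    (-130) (.lin 1) (.split 3 (-201) (.lin 2) (.split 1 241 (.split 6 (-103) (.lin 1) (.split 3
    (-174) (.lin 2) (.split 1 203 (.split 6 (-80) (.lin 1) (.split 4 223 (.split 3 (-147) (.lin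
    2) (.splitN 138413 (.wt 0) (.wt 1))) (.lin 9))) (.wt 0)))) (.wt 0)))) (.wt 0)) (.wt 1)))
    (.split 2 32 (.splitN 332946 (.wt 1) (.split 1 165 (.wt 0) (.split 6 (-71) (.split 4 204
    (.lin 9) (.split 3 (-128) (.split 3 (-193) (.wt 0) (.split 6 (-139) (.lin 2) (.split 1 304
    (.split 4 331 (.splitN 354807 (.wt 1) (.split 1 218 (.wt 0) (.split 6 (-98) (.split 3 (-155)
    (.wt 0) (.lin 2)) (.lin 1)))) (.lin 9)) (.lin 4)))) (.lin 2))) (.lin 1)))) (.wt 0))) (.wt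
    1))) (.lin 6)) (.lin 2))) (.lin 1))))) (.lin 9))) (.split 6 (-165) (.split 0 191 (.lin 5)
    (.split 4 384 (.lin 9) (.split 3 (-218) (.splitN 395936 .sq (.splitN 578460 (.split 5 (-34)
    (.wt 0) (.split 2 30 (.splitN 485483 (.split 1 440 (.wt 0) (.split 6 (-210) (.split 4 474
    (.lin 9) .sq) (.lin 1))) (.wt 3)) (.wt 0))) (.wt 1))) (.lin 2)))) (.lin 1))) .sq) (.wt 1)))
    (.lin 9))) .sq) (.wt 1))) (.lin 9))) .sq) (.wt 1)))) (.lin 8)) (.lin 0)) .sq) (.wt 1))))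
    (.lin 8)) (.lin 0)) .sq) (.wt 1)) (.lin 6)))))) (.wt 1)) (.lin 2))) (.lin 1))) (.split 3
    (-65) (.split 1 1529 (.split 6 (-755) (.lin 1) (.split 4 1573 cert2_0_12 (.lin 9))) (.wt 2))
    (.lin 2))))

def cert2_0_14 : Cert :=
  (.split 1 40 (.split 2 28 (.wt 2) (.split 3 (-56) (.split 1 17 (.wt 2) (.split 5 (-37) (.split
    0 29 (.lin 3) (.split 4 60 (.lin 0) (.split 3 (-65) (.splitN 403558 (.split 2 11180 (.split 4
    4472 (.splitN 278948 (.split 4 3068 (.split 2 57 (.wt 2) (.split 3 (-92) (.splitN 47009 (.wt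
    1) (.splitN 225264 (.split 4 2492 (.split 5 (-313) (.wt 0) (.split 6 141 (.split 0 174
    (.split 4 349 (.splitN 50015 (.wt 1) (.split 5 (-178) (.wt 0) (.split 6 73 (.split 0 102
    (.split 4 205 (.splitN 53009 (.wt 1) (.split 5 (-130) (.wt 0) (.split 6 51 (.split 0 84
    (.split 4 169 (.split 5 (-121) (.wt 0) (.splitN 56532 (.wt 1) (.split 5 (-105) (.wt 0)
    (.split 6 37 (.split 0 66 (.split 4 133 (.split 2 95 (.wt 2) (.split 3 (-101) (.split 3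
    (-128) (.splitN 59954 (.wt 1) (.split 5 (-80) (.wt 0) (.split 4 106 (.split 0 52 (.split 4 97
    (.splitN 66466 (.wt 1) (.split 5 (-66) (.wt 0) (.split 6 19 (.split 1 27 (.wt 2) (.split 5
    (-46) (.split 0 38 (.lin 3) (.split 4 78 (.lin 0) (.split 3 (-137) (.splitN 72484 (.wt 1)
    (.split 2 107 (.wt 0) (.split 3 (-155) (.splitN 81513 (.wt 6) (.split 2 176 (.wt 0) (.split 3
    (-209) (.wt 2) (.lin 2)))) (.lin 4)))) (.lin 4)))) (.lin 1))) (.lin 1)))) (.lin 0)) (.lin 0))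
    (.lin 8)))) (.lin 4)) (.lin 2))) (.lin 0)) (.lin 3)) (.lin 1))))) (.lin 0)) (.lin 3)) (.lin
    1)))) (.lin 0)) (.lin 3)) (.lin 1)))) (.lin 0)) (.lin 3)) (.lin 1))) (.div 4)) (.wt 3)))
    (.lin 4))) (.div 4)) (.wt 3)) (.div 4)) (.div 2)) (.wt 1)) (.lin 4)))) (.lin 1))) (.lin 4)))
    (.split 5 (-55) (.split 0 47 (.lin 3) (.split 4 96 (.lin 0) (.splitN 218515 (.split 3 (-6051)
    (.div 3) (.split 4 2420 (.split 2 24 (.wt 2) (.split 3 (-74) (.splitN 140624 (.split 4 1556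
    (.split 2 25 (.wt 2) (.split 3 (-83) (.splitN 120356 (.split 0 308 (.split 4 601 (.split 6
    258 (.split 5 (-560) (.lin 5) (.split 2 306 (.split 3 (-858) (.lin 2) (.split 3 (-316) .sq
    (.split 2 259 (.split 4 319 (.split 2 93 (.split 5 (-123) (.split 3 (-119) (.split 4 168
    (.lin 8) (.split 0 83 (.lin 0) (.splitN 68948 .sq (.wt 3)))) (.lin 6)) (.split 1 106 (.split
    4 223 (.split 6 37 (.split 2 36 (.wt 2) (.split 3 (-92) (.split 5 (-87) (.split 3 (-101)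
    (.split 3 (-110) (.split 4 132 (.lin 8) (.splitN 56554 (.wt 1) (.splitN 70861 (.split 1 47
    (.wt 0) (.split 3 (-115) (.split 4 141 (.lin 8) (.split 0 70 (.lin 0) (.split 2 44 (.wt 0)
    (.split 1 62 (.wt 2) (.split 3 (-133) (.split 4 159 (.lin 8) (.split 0 79 (.lin 0) (.split 4
    168 (.lin 0) .sq))) (.lin 6)))))) (.lin 6))) (.wt 3)))) (.lin 6)) (.lin 2)) (.split 1 70
    (.split 4 151 (.split 2 49 (.wt 2) (.split 1 44 (.wt 2) (.split 5 (-64) (.split 3 (-110)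
    (.split 2 59 (.wt 2) (.split 3 (-119) (.split 1 52 (.wt 2) (.split 5 (-73) (.split 0 65 (.lin
    3) (.split 6 10 (.split 3 (-128) (.split 2 71 (.wt 2) (.split 3 (-146) (.split 1 62 (.wt 2)
    (.split 5 (-82) (.split 4 150 (.lin 9) (.split 3 (-155) (.splitN 70352 .sq (.wt 0)) (.lin
    2))) (.lin 1))) (.lin 2))) (.lin 2)) (.lin 1))) (.lin 1))) (.lin 4))) (.lin 4)) (.lin 1))))
    (.lin 9)) (.lin 1))) (.lin 4))) (.lin 1)) (.lin 9)) (.lin 1))) (.split 3 (-146) (.splitN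
    91167 (.split 2 224 (.split 3 (-250) .sq (.split 0 147 (.split 4 295 (.split 4 224 (.split 0
    111 (.split 1 106 (.split 5 (-100) (.split 2 173 (.split 3 (-169) (.split 4 141 (.lin 8)
    (.split 0 70 (.lin 0) (.split 4 150 (.lin 0) (.splitN 79649 .sq (.wt 0))))) (.lin 6)) (.lin
    6)) (.split 4 169 (.split 5 (-73) (.split 3 (-155) (.splitN 75314 (.split 1 44 (.wt 2)
    (.split 6 19 (.split 3 (-160) (.split 4 123 (.lin 8) (.split 0 61 (.lin 0) (.split 4 132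
    (.lin 0) (.splitN 66419 .sq (.split 5 (-85) (.wt 1) (.split 4 151 (.split 3 (-189) .sq
    (.split 2 124 (.splitN 71739 (.split 1 53 (.wt 0) (.split 6 10 (.split 5 (-77) (.wt 1)
    (.split 1 61 (.split 4 133 (.split 2 99 (.wt 0) (.split 3 (-173) .sq (.lin 2))) (.lin 9))
    (.lin 1))) (.lin 1))) (.wt 1)) (.lin 2))) (.lin 9))))))) (.lin 6)) (.lin 1))) (.wt 1)) (.lin
    6)) (.split 1 52 (.split 4 115 (.split 6 10 (.splitN 70728 (.wt 1) (.split 2 146 (.split 1 43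
    (.wt 2) (.split 5 (-64) (.split 4 114 (.lin 9) (.splitN 75930 (.split 2 111 (.wt 0) (.split 3
    (-173) (.split 2 132 (.wt 2) (.split 3 (-191) .sq (.lin 2))) (.lin 2))) (.wt 0))) (.lin 1)))
    (.split 3 (-200) (.splitN 79424 .sq (.splitN 83665 (.split 1 43 (.wt 0) (.split 5 (-64)
    (.split 4 114 (.lin 9) .sq) (.lin 1))) (.wt 1))) (.lin 2)))) (.lin 1)) (.lin 9)) (.lin 1)))
    (.lin 9))) (.lin 3)) (.lin 0)) .sq) (.lin 0)) (.lin 7))) .sq) (.wt 1)) (.lin 4))) .sq) (.lin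
    4)))) .sq)) (.lin 3)) (.lin 0)) .sq) (.wt 1)) (.lin 4))) (.div 4)) (.wt 1)) (.lin 4))) (.div
    4))) (.wt 1)))) (.lin 1)))

def cert2_0_15 : Cert :=
  (.split 1 (-1) (.split 2 (-1) (.split 3 (-1) (.split 0 2 (.lin 7) (.split 4 6 (.lin 0) (.split
    2 (-7) (.split 0 11 (.lin 7) (.split 4 24 (.lin 0) (.wt 2))) (.wt 0)))) (.split 5 (-2)
    (.split 4 (-1) (.split 0 (-2) (.split 2 (-5) (.split 3 15 (.lin 7) (.split 2 (-20) (.split 3
    24 (.lin 7) (.split 2 (-37) (.split 3 42 (.lin 7) (.splitN 139320 (.split 1 (-3801) (.div 1)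
    (.split 6 3795 (.split 5 (-3791) (.lin 5) (.split 2 (-3801) (.div 2) (.split 4 (-1521) (.div
    4) (.splitN 122040 (.split 4 (-1341) (.div 4) (.split 4 (-15) (.split 0 (-11) (.split 3 51
    (.lin 7) (.splitN 72644 (.split 1 (-2001) (.div 1) (.split 6 1986 (.split 5 (-1973) (.lin 5)
    (.split 2 (-2001) (.div 2) (.split 4 (-801) (.div 4) (.splitN 68740 (.split 2 (-58) (.split 3
    78 (.lin 7) (.wt 2)) (.wt 0)) (.wt 6))))) (.lin 3))) (.wt 6))) (.lin 0)) (.wt 0))) (.wt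
    6))))) (.lin 3))) (.wt 6))) (.wt 2))) (.wt 2))) (.wt 0)) (.lin 0)) (.split 0 2 (.lin 0)
    (.split 2 (-11) (.split 1 (-3) (.split 6 10 (.lin 1) (.split 5 (-19) (.split 3 22 cert2_0_0
    (.split 2 (-29) (.splitN 20633 (.wt 1) (.split 1 (-13) (.split 6 19 (.lin 1) (.split 5 (-28)
    (.splitN 529201 (.split 0 724 (.split 4 1447 (.split 1 (-726) .sq (.splitN 473768 (.split 0
    685 (.split 4 1357 (.split 2 (-687) .sq (.splitN 440927 (.split 5 (-661) .sq cert2_0_1) (.wt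
    1))) (.lin 0)) .sq) (.wt 1))) (.lin 0)) .sq) (.wt 1)) (.lin 5))) (.wt 2))) (.lin 7))) (.lin
    5))) (.wt 0)) (.lin 7)))) (.wt 0))) (.split 3 (-1) (.split 5 (-2) (.split 4 (-1) (.split 0
    (-2) (.split 3 (-5) (.split 2 15 (.lin 7) (.split 2 75 (.split 0 (-61) (.lin 7) (.split 4
    (-120) (.lin 0) (.split 3 (-66) (.lin 7) (.split 2 31 (.split 3 (-21) (.lin 7) (.wt 2)) (.wt
    2))))) (.wt 2))) (.wt 0)) (.lin 0)) (.split 0 2 (.lin 0) (.split 3 (-11) (.split 1 (-3)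
    (.split 6 10 (.lin 1) (.split 5 (-19) (.split 2 22 cert2_0_2 (.split 3 (-29) (.splitN 20633
    (.wt 1) (.split 1 (-13) (.split 6 19 (.lin 1) (.split 5 (-28) (.splitN 529201 (.split 0 724
    (.split 4 1447 (.split 1 (-726) .sq (.split 6 1446 (.split 5 (-2171) (.lin 5) (.splitN 473768
    (.split 0 685 (.split 4 1357 (.split 2 686 (.split 3 (-1758) (.lin 6) (.split 3 (-1362) (.lin
    7) (.split 3 (-687) .sq (.splitN 440927 (.split 5 (-661) .sq cert2_0_3) (.wt 1))))) .sq)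
    (.lin 0)) .sq) (.wt 1))) (.lin 3))) (.lin 0)) .sq) (.wt 1)) (.lin 5))) (.wt 2))) (.lin 7)))
    (.lin 5))) (.wt 0)) (.lin 7)))) (.wt 0)) (.split 6 14 (.lin 2) (.split 1 (-29) (.split 0
    (-15) (.split 4 (-29) (.split 5 (-6) (.split 6 19 (.lin 1) (.split 1 (-38) (.split 5 (-17)
    (.split 6 28 (.lin 1) (.split 1 (-47) (.split 2 11 (.wt 2) (.split 6 41 (.lin 2) cert2_0_5))
    (.lin 4))) (.wt 1)) (.lin 4))) (.wt 0)) (.lin 0)) (.lin 7)) (.lin 4))))) (.split 4 6 (.lin 8)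
    (.split 2 (-1) (.split 5 (-2) (.split 4 15 (.lin 8) (.split 0 7 (.lin 0) (.split 4 24 (.lin
    0) (.split 3 (-1) (.split 2 (-4) (.split 3 (-4) (.split 0 20 (.lin 7) (.split 4 42 (.lin 0)
    (.split 1 169 (.split 6 (-80) (.lin 1) (.split 5 (-13) (.split 6 (-1) (.split 1 24 (.lin 1)
    (.split 5 (-164) (.lin 1) (.split 2 (-228) (.lin 2) (.split 2 (-156) (.lin 4) (.split 2 (-13)
    (.split 1 33 (.lin 4) (.split 0 29 (.lin 7) (.split 4 60 (.lin 0) (.split 3 (-147) (.lin 4)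
    (.splitN 70757 (.split 1 78 (.split 5 (-65) (.lin 1) (.split 3 (-48) (.lin 4) (.wt 0))) (.wt
    0)) (.wt 6)))))) (.wt 0)))))) (.split 5 (-28) (.split 1 34 cert2_0_6 (.split 5 (-55) (.split
    0 47 (.lin 3) (.split 4 96 (.lin 0) (.splitN 87216 (.split 0 1416 (.split 6 1374 (.split 2
    (-1533) (.lin 4) (.split 3 (-1533) (.lin 4) (.split 2 (-1407) (.lin 7) (.split 3 (-1407)
    (.lin 7) (.split 4 944 (.split 0 471 (.split 6 429 (.split 5 (-1028) (.lin 1) (.split 3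
    (-588) (.lin 4) (.split 2 (-28) (.split 3 (-28) (.split 5 (-64) (.splitN 75960 (.split 4 836
    (.split 0 417 (.split 6 375 (.split 5 (-794) (.lin 5) (.split 3 (-390) (.lin 7) (.split 2
    (-34) (.split 5 (-73) (.split 0 65 (.lin 7) (.split 4 132 (.lin 0) (.splitN 70848 (.split 4
    764 (.split 0 381 (.split 6 339 (.split 5 (-722) (.lin 5) (.split 2 (-40) (.split 0 74 (.lin
    7) (.split 4 150 (.lin 0) (.split 3 (-41) (.split 5 (-100) (.split 0 92 (.lin 7) (.split 4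
    186 (.lin 0) (.splitN 63138 (.split 4 692 (.split 0 345 (.split 6 303 (.split 5 (-650) (.lin
    5) (.split 2 (-53) (.split 5 (-109) (.split 0 101 (.lin 7) (.split 4 204 (.lin 0) .sq)) (.lin
    2)) (.wt 0))) (.lin 3)) (.lin 0)) (.div 4)) (.wt 1)))) (.lin 2)) (.wt 0)))) (.wt 0))) (.lin
    3)) (.lin 0)) (.div 4)) (.wt 1)))) (.lin 2)) (.wt 0)))) (.lin 3)) (.lin 0)) (.div 4)) (.wt
    1)) (.lin 2)) (.wt 0)) (.wt 0)))) (.lin 3)) (.lin 0)) (.div 4)))))) (.lin 3)) (.div 0)) (.wt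
    1)))) (.lin 1))) (.lin 2))) (.wt 3))) (.wt 2)))) (.wt 0)) (.wt 0)) (.split 2 (-16) (.split 5
    (-14) (.split 1 9 (.wt 2) (.split 2 (-25) (.split 4 33 (.lin 8) (.split 0 16 (.lin 0) (.split
    4 42 (.lin 0) (.split 3 11 (.wt 2) (.split 2 (-34) (.split 6 (-1) cert2_0_9 (.split 5 (-28)
    cert2_0_10 (.lin 1))) (.lin 6)))))) (.lin 6))) (.wt 1)) (.lin 6)))))) (.wt 1)) (.split 3
    (-11) (.split 5 (-4) (.split 4 15 (.lin 8) (.split 0 7 (.lin 0) (.split 5 (-14) (.split 1 9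
    (.wt 2) (.split 3 (-25) (.split 4 33 (.lin 8) (.split 0 16 (.lin 0) (.split 4 42 (.lin 0)
    (.split 2 11 (.wt 2) (.split 3 (-34) (.split 6 (-1) cert2_0_13 (.split 5 (-28) cert2_0_14
    (.lin 1))) (.lin 6)))))) (.lin 6))) (.wt 1)))) (.wt 0)) (.lin 6)))))

def cert2_0 : Cert :=
  cert2_0_15

theorem check2_0 :
    check task2 cert2_0
      [(3, ⟨none, none⟩), (7, ⟨none, none⟩), (7, ⟨none, none⟩), (7, ⟨none, none⟩), (7, ⟨none, none⟩), (8, ⟨none, some (-1)⟩), (6, ⟨none, none⟩)] ⟨some (720), none⟩ = true := by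
  decide +kernel

def cert2_1_0 : Cert :=
  (.split 1 (-21) (.split 6 (-112) (.lin 3) (.split 5 251 (.split 2 22 (.wt 2) (.split 3 23 (.wt
    2) (.split 5 52 (.lin 2) (.split 0 (-51) (.split 4 (-101) (.split 6 (-8) (.split 5 61 (.lin
    2) (.splitN 58782 (.split 4 (-218) .sq (.split 0 (-106) (.lin 0) (.split 6 (-76) (.lin 3)
    (.split 5 188 (.split 2 27 (.wt 2) (.split 5 70 (.lin 2) (.split 0 (-60) (.split 4 (-119)
    (.split 6 (-17) (.split 3 28 (.wt 2) (.split 5 88 (.lin 2) (.split 0 (-69) (.split 4 (-137)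
    (.split 6 (-26) (.split 5 97 (.lin 2) (.splitN 49593 (.split 4 (-176) .sq (.split 0 (-88)
    (.lin 0) (.split 6 (-58) (.lin 3) (.split 5 152 (.split 3 61 (.split 5 143 (.split 2 56
    (.split 3 56 (.splitN 45462 (.split 1 (-37) (.wt 2) (.split 6 (-35) (.split 5 106 (.lin 1)
    (.splitN 39653 .sq (.split 2 36 (.wt 0) (.split 5 115 (.lin 2) (.split 0 (-78) (.split 4
    (-155) (.split 6 (-44) (.split 5 124 (.lin 1) .sq) (.lin 1)) (.lin 0)) (.lin 7)))))) (.lin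
    1))) (.wt 3)) (.lin 6)) (.lin 6)) (.lin 5)) (.lin 4)) (.lin 1))))) (.wt 1))) (.lin 1)) (.lin
    0)) (.lin 7)))) (.lin 1)) (.lin 0)) (.lin 7)))) (.lin 1))))) (.wt 1))) (.lin 1)) (.lin 0))
    (.lin 7))))) (.lin 5))) (.split 6 (-8) (.split 5 43 (.lin 2) (.splitN 71118 (.split 4 (-255)
    .sq (.split 0 (-128) (.lin 0) (.split 6 (-112) (.lin 3) (.split 5 242 (.split 2 41 (.split 3
    41 (.split 5 179 (.split 6 (-85) (.lin 1) (.split 5 152 (.split 6 (-71) (.lin 1) (.split 5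
    134 (.split 6 (-62) (.lin 1) (.split 5 125 (.split 1 (-16) (.split 6 (-53) (.lin 1) (.split 5
    116 (.splitN 35601 (.wt 6) (.split 2 21 (.wt 0) (.split 5 52 (.lin 2) (.split 0 (-42) (.split
    4 (-83) (.split 6 (-17) (.splitN 36956 (.wt 6) (.split 2 26 (.wt 0) (.split 5 70 (.lin 2)
    (.split 0 (-51) (.split 4 (-101) (.split 6 (-26) (.splitN 42666 (.split 3 27 (.wt 0) (.split
    5 97 (.lin 2) (.split 0 (-69) (.split 4 (-137) (.split 6 (-39) (.split 5 106 (.lin 2) (.split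
    6 (-44) (.split 5 115 (.lin 1) .sq) (.lin 1))) (.lin 1)) (.lin 0)) (.lin 7)))) (.wt 3)) (.lin
    1)) (.lin 0)) (.lin 7))))) (.lin 1)) (.lin 0)) (.lin 7))))) (.lin 1))) (.split 6 (-17)
    (.split 5 52 (.lin 1) (.split 2 31 (.split 5 116 (.split 6 (-53) (.lin 1) (.split 3 31
    (.split 5 98 (.split 0 (-52) (.lin 7) (.split 4 (-102) (.lin 0) (.split 6 (-44) (.lin 1)
    (.split 2 20 (.split 5 80 (.split 6 (-35) (.lin 1) (.split 5 71 (.wt 2) (.lin 1))) (.lin 2))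
    (.split 5 61 (.lin 2) (.split 6 (-26) (.split 5 70 (.lin 1) (.splitN 40551 (.splitN 36480
    (.wt 3) (.split 3 18 (.split 5 80 (.split 6 (-35) (.lin 1) (.split 5 71 (.wt 0) (.lin 1)))
    (.lin 2)) (.wt 0))) (.wt 1))) (.lin 1))))))) (.lin 2)) (.wt 2))) (.lin 2)) (.wt 2))) (.lin
    1))) (.lin 2))) (.lin 2))) (.lin 2))) (.lin 2)) (.split 5 70 (.lin 2) (.split 0 (-60) (.split
    4 (-119) (.split 6 (-26) (.split 5 88 (.lin 2) (.split 6 (-35) (.split 1 (-12) (.split 6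
    (-103) (.lin 3) (.split 5 224 (.split 2 17 (.wt 2) (.split 5 106 (.lin 2) (.split 0 (-69)
    (.split 4 (-137) (.split 6 (-44) (.split 5 115 (.lin 1) (.splitN 42164 .sq (.splitN 45642
    (.split 2 30 (.split 3 63 (.split 5 188 (.split 6 (-85) (.lin 1) (.split 5 170 (.split 6
    (-76) (.lin 1) (.split 5 161 (.split 6 (-71) (.lin 1) (.split 5 152 (.split 3 44 (.wt 0)
    (.split 5 124 (.lin 2) (.split 0 (-78) (.split 4 (-155) (.split 6 (-53) .sq (.lin 1)) (.lin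
    0)) (.lin 7)))) (.lin 1))) (.lin 2))) (.lin 2))) (.lin 2)) (.wt 0)) (.wt 0)) (.wt 1)))) (.lin
    1)) (.lin 0)) (.lin 7)))) (.lin 1))) (.wt 2)) (.lin 1))) (.lin 1)) (.lin 0)) (.lin 7))))
    (.split 5 70 (.lin 2) (.split 0 (-60) (.split 4 (-119) (.split 6 (-26) (.split 5 88 (.lin 2)
    (.split 6 (-35) (.split 5 97 (.lin 2) (.splitN 52122 (.split 3 46 (.split 1 (-12) (.split 6
    (-103) (.lin 3) (.split 5 224 (.split 3 17 (.wt 2) (.split 5 106 (.lin 2) (.split 0 (-69)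
    (.split 4 (-137) (.split 6 (-44) (.split 5 115 (.lin 1) (.splitN 42164 .sq (.splitN 45642
    (.split 2 63 (.split 0 (-106) (.lin 7) (.split 6 (-85) (.lin 3) (.split 3 30 (.split 5 170
    (.split 6 (-76) (.lin 1) (.split 5 161 (.split 6 (-71) (.lin 1) (.split 5 152 (.split 2 44
    (.wt 0) (.split 5 124 (.lin 2) (.split 0 (-78) (.split 4 (-155) (.split 6 (-53) .sq (.lin 1))
    (.lin 0)) (.lin 7)))) (.lin 1))) (.lin 2))) (.lin 2)) (.wt 0)))) (.wt 0)) (.wt 1)))) (.lin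
    1)) (.lin 0)) (.lin 7)))) (.lin 1))) (.wt 2)) (.wt 0)) (.wt 1))) (.lin 1))) (.lin 1)) (.lin
    0)) (.lin 7)))) (.lin 1))))) (.wt 1))) (.lin 1)))

def cert2_1_1 : Cert :=
  (.split 6 (-1) (.split 1 (-3) (.split 2 7 (.wt 2) (.split 0 (-24) (.split 4 (-47) (.split 3 8
    (.wt 2) (.split 5 34 (.lin 2) (.split 0 (-33) (.split 4 (-65) (.splitN 144706 (.split 4
    (-1593) (.div 4) (.split 0 (-794) (.lin 0) (.split 1 (-786) (.lin 3) (.split 6 (-778) (.lin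
    3) (.split 2 1546 (.split 3 1546 (.split 5 1565 (.splitN 136376 (.split 0 (-358) .sq (.split
    4 (-714) (.lin 0) (.split 4 (-362) .sq (.split 0 (-178) (.lin 0) (.split 1 (-174) (.lin 3)
    (.split 6 (-166) (.lin 3) (.split 5 341 (.split 2 160 (.split 3 160 (.splitN 113113 (.split 4
    (-329) .sq (.split 0 (-164) (.lin 0) (.split 6 (-148) (.lin 3) (.split 5 305 (.split 2 142
    (.split 1 (-42) (.split 5 52 (.lin 1) (.split 0 (-51) (.split 4 (-101) (.split 6 (-112) (.lin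
    3) (.split 5 269 (.splitN 32375 (.wt 1) (.split 3 18 (.wt 0) (.split 2 34 (.wt 2) (.split 0
    (-69) (.split 4 (-137) (.split 3 115 (.split 3 36 (.wt 2) (.split 5 88 (.lin 2) (.split 0
    (-87) (.split 4 (-173) (.split 2 115 (.splitN 51335 .sq (.split 1 (-85) (.wt 0) (.wt 1)))
    (.lin 7)) (.lin 0)) (.lin 7)))) (.lin 7)) (.lin 0)) (.lin 7))))) (.lin 5))) (.lin 0)) (.lin
    3))) (.splitN 88834 (.split 4 (-292) .sq (.split 0 (-146) (.lin 0) (.split 6 (-130) (.lin 3)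
    (.split 5 269 (.split 3 137 cert2_1_0 (.lin 6)) (.lin 5))))) (.wt 1))) (.lin 7)) (.lin 5)))))
    (.wt 1)) (.lin 7)) (.lin 7)) (.lin 5)))))))) (.wt 1)) (.lin 5)) (.lin 4)) (.lin 4)))))) (.wt
    1)) (.lin 0)) (.lin 7)))) (.lin 0)) (.lin 7))) (.wt 2)) (.split 1 (-20) (.splitN 12095 (.wt
    1) (.splitN 354960 (.split 4 (-3933) (.div 4) (.split 0 (-1964) (.lin 0) (.split 1 (-3918)
    (.lin 8) (.split 5 1952 (.split 2 2927 (.split 2 1951 (.split 3 1951 (.splitN 300404 (.split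
    4 (-3321) (.div 4) (.split 0 (-1658) (.lin 0) (.split 5 1646 (.split 3 1645 (.split 5 8 (.wt
    0) (.split 1 (-29) (.split 4 (-47) (.splitN 19371 (.wt 1) (.splitN 115756 (.split 4 (-1269)
    (.div 4) (.split 0 (-632) (.lin 0) (.split 1 (-1245) (.lin 8) (.split 2 1231 (.split 5 620
    (.split 2 925 (.split 2 619 (.split 3 619 (.splitN 103696 (.split 4 (-1125) (.div 4) (.split
    0 (-560) (.lin 0) (.split 5 548 (.split 3 547 (.split 2 18 (.wt 2) (.split 1 (-38) (.split 0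
    (-33) (.split 4 (-65) (.splitN 80593 (.split 4 (-873) (.div 4) (.split 0 (-434) (.lin 0)
    (.split 5 422 (.split 2 421 (.split 3 403 (.split 3 7 (.wt 0) (.split 1 (-47) (.split 0 (-42)
    (.split 4 (-83) (.splitN 69000 (.split 4 (-765) (.div 4) (.split 0 (-380) (.lin 0) (.split 5
    368 (.split 2 358 (.split 3 349 (.splitN 20166 (.wt 1) (.split 5 20 (.wt 0) (.split 2 28 (.wt
    2) (.split 1 (-56) (.split 0 (-51) (.split 4 (-101) (.splitN 63012 (.split 4 (-693) (.div 4)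
    (.split 0 (-344) (.lin 0) (.split 5 332 (.split 3 304 (.splitN 61763 (.split 4 (-657) (.div
    4) (.split 0 (-326) (.lin 0) (.split 5 314 (.split 2 304 (.split 3 286 (.split 3 33 (.wt 2)
    (.split 1 (-74) (.split 0 (-69) (.split 4 (-137) (.split 2 286 (.splitN 32030 .sq (.splitN
    56592 (.split 4 (-621) (.div 4) (.split 0 (-308) (.lin 0) (.split 5 296 (.split 3 268 (.split
    5 39 (.wt 0) (.splitN 33290 .sq (.split 5 46 (.wt 0) (.split 2 42 (.wt 2) (.split 1 (-83)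
    (.split 0 (-78) (.split 4 (-155) (.splitN 42848 .sq (.splitN 54649 (.split 4 (-585) (.div 4)
    (.split 0 (-290) (.lin 0) (.split 5 278 (.split 2 46 (.wt 0) (.split 1 (-92) (.split 0 (-87)
    (.split 4 (-173) .sq (.lin 0)) (.lin 7)) (.lin 4))) (.lin 5)))) (.wt 3))) (.lin 0)) (.lin 7))
    (.lin 4)))))) (.lin 7)) (.lin 5)))) (.wt 3))) (.lin 7)) (.lin 0)) (.lin 7)) (.lin 4))) (.lin
    7)) (.lin 7)) (.lin 5)))) (.wt 3)) (.lin 7)) (.lin 5)))) (.wt 3)) (.lin 0)) (.lin 7)) (.lin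
    4))))) (.lin 7)) (.lin 7)) (.lin 5)))) (.wt 3)) (.lin 0)) (.lin 7)) (.lin 4))) (.lin 7))
    (.lin 7)) (.lin 5)))) (.wt 3)) (.lin 0)) (.lin 7)) (.lin 4))) (.lin 7)) (.lin 5)))) (.wt 3))
    (.lin 7)) (.lin 7)) (.lin 6)) (.lin 5)) (.lin 4))))) (.wt 3))) (.lin 9)) (.lin 1))) (.lin 7))
    (.lin 5)))) (.wt 3)) (.lin 7)) (.lin 7)) (.lin 6)) (.lin 5))))) (.wt 3))) (.lin 1)))

def cert2_1_2 : Cert :=
  (.split 2 (-1) (.split 3 6 (.lin 6) (.split 1 (-4) (.split 3 11 (.lin 6) (.split 4 (-20)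
    (.split 0 (-11) (.split 4 (-29) (.splitN 82537 (.split 2 (-2271) (.div 2) (.split 4 (-909)
    (.div 4) (.split 0 (-452) (.lin 0) (.split 1 (-894) (.lin 8) (.split 6 (-436) (.lin 3)
    (.split 5 881 (.splitN 78197 (.split 4 (-837) (.div 4) (.split 0 (-416) (.lin 0) (.split 6
    (-400) (.lin 3) (.split 5 809 (.split 2 (-3) (.split 3 20 (.lin 6) (.splitN 65240 (.split 4
    (-693) (.div 4) (.split 0 (-246) .sq (.split 4 (-480) (.lin 0) (.split 1 (-471) (.lin 8)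
    (.split 6 (-229) (.lin 3) (.split 5 467 (.split 1 (-246) .sq (.split 2 (-246) .sq (.splitN
    60827 (.split 3 240 (.split 4 (-241) .sq (.split 0 (-119) (.lin 0) (.split 6 (-103) (.lin 3)
    (.split 5 215 (.split 6 (-1) (.split 5 16 (.lin 1) (.split 1 (-111) (.lin 3) (.split 1 (-16)
    (.split 5 25 (.lin 1) (.split 0 (-24) (.split 4 (-47) (.split 3 33 (.lin 4) (.splitN 48813
    (.split 2 (-12) (.split 3 42 (.lin 4) (.split 1 (-33) (.split 5 43 (.lin 1) (.split 2 (-192)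
    (.lin 4) (.split 3 60 (.lin 4) (.splitN 35299 (.split 1 (-63) (.split 5 70 (.lin 1) (.split 0
    (-69) (.split 4 (-137) (.split 3 87 (.lin 4) .sq) (.lin 0)) (.lin 3))) (.wt 0)) (.wt 6)))))
    (.wt 2))) (.wt 0)) (.wt 1))) (.lin 0)) (.lin 3))) (.wt 2)))) (.split 1 (-20) (.split 5 107
    (.splitN 50741 (.splitN 10888 (.wt 1) (.split 3 218 (.split 4 (-219) .sq (.split 0 (-110)
    (.lin 0) (.split 5 98 (.split 5 28 (.splitN 30644 (.split 2 (-167) .sq (.split 3 167 (.split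
    4 (-169) .sq (.split 1 (-156) (.lin 8) (.split 5 14 (.split 2 (-29) (.wt 0) (.wt 1)) (.split
    1 (-29) (.split 4 (-47) (.split 3 33 (.lin 2) (.splitN 28172 (.split 2 (-12) (.split 3 42
    (.lin 2) (.split 2 (-25) (.split 3 51 (.lin 2) (.split 3 147 (.split 4 (-147) .sq (.split 0
    (-74) (.lin 0) (.split 4 (-138) (.lin 0) (.split 5 21 (.splitN 21815 (.split 1 (-117) .sq
    (.split 6 46 (.split 4 (-120) (.lin 9) (.split 2 (-30) (.split 3 60 (.lin 2) (.split 1 (-31)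
    (.split 6 10 (.lin 1) (.split 0 (-33) (.split 4 (-65) (.split 1 (-47) (.split 3 69 (.lin 2)
    (.split 1 (-90) .sq (.split 2 (-40) (.split 3 78 (.lin 2) (.split 1 (-77) .sq (.split 6 28
    (.split 4 (-84) (.lin 9) (.split 1 (-66) (.lin 1) (.split 2 (-53) (.split 3 87 (.lin 2)
    (.split 2 (-57) (.split 3 96 (.lin 2) .sq) (.wt 0))) (.wt 0)))) (.lin 1)))) (.wt 0)))) (.lin
    1)) (.lin 9)) (.lin 5))) (.wt 0))) (.wt 0))) (.lin 1))) (.wt 1)) (.split 2 (-111) (.lin 2)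
    (.split 1 (-111) (.lin 8) (.split 4 (-65) (.split 3 60 (.lin 2) (.splitN 23464 (.wt 0) (.wt
    1))) (.lin 9)))))))) .sq)) (.wt 2))) (.wt 0)) (.wt 1))) (.lin 9)) (.lin 1))))) .sq)) (.wt 1))
    (.split 1 (-47) (.split 2 (-174) (.lin 2) (.split 1 (-183) (.lin 8) (.split 4 (-83) (.split 3
    51 (.lin 2) (.splitN 40641 (.split 2 (-23) (.split 3 69 (.lin 2) (.split 5 78 (.splitN 37227
    (.split 2 (-31) (.split 3 78 (.lin 2) (.split 5 60 (.splitN 34305 (.split 2 (-43) (.split 3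
    87 (.lin 2) (.split 5 48 (.splitN 32263 (.split 1 (-76) (.split 6 19 (.lin 1) (.split 4
    (-119) (.split 3 105 (.lin 2) .sq) (.lin 9))) (.wt 0)) (.wt 1)) (.wt 0))) (.wt 0)) (.wt 1))
    (.wt 0))) (.wt 0)) (.wt 1)) (.wt 0))) (.wt 0)) (.wt 1))) (.lin 9)))) (.lin 1))) (.lin 5))))
    .sq)) (.wt 1)) (.lin 5)) (.lin 1))) (.lin 5))))) .sq) (.wt 1)))) (.lin 5))))))) (.wt 1)))
    (.wt 0)) (.lin 5))))) (.wt 1)) (.lin 5))))))) (.wt 1)) (.lin 0)) (.lin 0)) (.lin 8))) (.wt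
    2))) (.split 3 (-1) (.split 1 (-4) (.split 2 11 (.lin 6) (.split 4 (-20) (.split 0 (-11)
    (.split 4 (-29) (.splitN 82537 (.split 0 (-1363) (.div 0) (.split 4 (-2712) (.lin 0) (.split
    1 (-2703) (.lin 8) (.split 6 (-1345) (.lin 3) (.split 2 2270 (.split 3 (-3603) (.lin 2)
    (.split 4 (-909) (.div 4) (.split 0 (-452) (.lin 0) (.split 1 (-894) (.lin 8) (.split 6
    (-436) (.lin 3) (.split 5 881 (.splitN 78195 (.split 4 (-837) (.div 4) (.split 0 (-416) (.lin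
    0) (.split 6 (-400) (.lin 3) (.split 5 809 (.split 3 (-3) (.split 2 20 (.lin 6) (.splitN
    65238 (.split 4 (-693) (.div 4) (.split 0 (-246) .sq (.split 4 (-480) (.lin 0) (.split 1
    (-471) (.lin 8) (.split 6 (-229) (.lin 3) (.split 5 467 (.split 1 (-246) .sq (.split 6 118
    (.split 2 246 (.split 3 (-462) (.lin 2) (.split 3 (-345) (.lin 4) (.split 3 (-232) (.lin 6)
    (.splitN 60696 (.split 4 (-241) .sq (.split 0 (-119) (.lin 0) (.split 6 (-103) (.lin 3)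
    (.split 5 215 (.split 6 (-1) (.split 5 16 (.lin 1) (.split 1 (-111) (.lin 3) (.split 1 (-16)
    (.split 5 25 (.lin 1) (.split 0 (-24) (.split 4 (-47) (.split 2 33 (.lin 4) (.splitN 48861
    (.split 3 (-12) (.split 2 42 (.lin 4) (.split 1 (-33) (.split 5 43 (.lin 1) (.split 2 60
    (.lin 4) (.split 3 (-201) (.lin 4) (.splitN 35700 (.split 1 (-62) (.split 5 70 (.lin 1)
    (.split 0 (-69) (.split 4 (-137) (.split 2 87 (.lin 4) .sq) (.lin 0)) (.lin 3))) (.wt 0))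
    (.wt 6))))) (.wt 2))) (.wt 0)) (.wt 1))) (.lin 0)) (.lin 3))) (.wt 2)))) (.split 1 (-20)
    (.split 5 107 (.splitN 50793 (.splitN 10885 (.wt 1) (.split 2 218 (.split 4 (-219) .sq
    (.split 0 (-110) (.lin 0) (.split 5 98 (.split 5 28 (.splitN 30644 (.split 2 167 (.split 3
    (-147) (.lin 2) (.split 4 (-169) .sq (.split 1 (-156) (.lin 8) (.split 5 14 (.split 3 (-29)
    (.wt 0) (.wt 1)) (.split 1 (-29) (.split 2 33 (.lin 2) (.split 4 (-47) (.splitN 28172 (.split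
    3 (-12) (.split 2 42 (.lin 2) (.split 3 (-25) (.split 2 51 (.lin 2) (.split 2 147 (.split 4
    (-147) .sq (.split 0 (-74) (.lin 0) (.split 4 (-138) (.lin 0) (.split 5 21 (.splitN 21815
    (.split 1 (-117) .sq (.split 6 46 (.split 4 (-120) (.lin 9) (.split 3 (-30) (.split 2 60
    (.lin 2) (.split 1 (-31) (.split 6 10 (.lin 1) (.split 2 69 (.lin 2) (.split 0 (-33) (.split
    4 (-65) (.split 1 (-47) (.split 1 (-90) .sq (.split 3 (-40) (.split 2 78 (.lin 2) (.split 1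
    (-77) .sq (.split 6 28 (.split 4 (-84) (.lin 9) (.split 1 (-66) (.lin 1) (.split 3 (-53)
    (.split 2 87 (.lin 2) (.split 3 (-57) (.split 2 96 (.lin 2) .sq) (.wt 0))) (.wt 0)))) (.lin
    1)))) (.wt 0))) (.lin 1)) (.lin 9)) (.lin 5)))) (.wt 0))) (.wt 0))) (.lin 1))) (.wt 1))
    (.split 2 60 (.lin 2) (.split 1 (-111) (.lin 8) (.split 4 (-65) (.split 3 (-111) (.lin 2)
    (.splitN 23464 (.wt 0) (.wt 1))) (.lin 9)))))))) .sq)) (.wt 2))) (.wt 0)) (.wt 1)) (.lin 9)))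
    (.lin 1)))))) .sq) (.wt 1)) (.split 1 (-47) (.split 2 51 (.lin 2) (.split 1 (-183) (.lin 8)
    (.split 4 (-83) (.split 3 (-174) (.lin 2) (.splitN 40641 (.split 3 (-23) (.split 2 69 (.lin
    2) (.split 5 78 (.splitN 37227 (.split 3 (-31) (.split 2 78 (.lin 2) (.split 5 60 (.splitN
    34305 (.split 3 (-43) (.split 2 87 (.lin 2) (.split 5 48 (.splitN 32263 (.split 1 (-76)
    (.split 6 19 (.lin 1) (.split 2 105 (.lin 2) (.split 4 (-119) .sq (.lin 9)))) (.wt 0)) (.wt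
    1)) (.wt 0))) (.wt 0)) (.wt 1)) (.wt 0))) (.wt 0)) (.wt 1)) (.wt 0))) (.wt 0)) (.wt 1)))
    (.lin 9)))) (.lin 1))) (.lin 5)))) .sq)) (.wt 1)) (.lin 5)) (.lin 1))) (.lin 5))))) (.wt
    1))))) .sq) (.lin 1))) (.lin 5))))))) (.wt 1))) (.wt 0)) (.lin 5))))) (.wt 1)) (.lin 5)))))))
    (.div 2)))))) (.wt 1)) (.lin 0)) (.lin 0)) (.lin 8))) (.wt 2)) (.split 0 (-15) (.split 4
    (-29) cert2_1_1 (.lin 0)) (.lin 7))))

def cert2_1_3 : Cert :=
  (.split 4 (-58) (.split 0 (-33) (.split 6 (-57) (.split 5 88 (.lin 5) (.split 3 60 (.lin 7)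
    (.splitN 57711 (.split 4 (-196) .sq (.split 5 205 (.split 3 160 (.split 4 (-174) (.lin 8)
    (.split 1 57 (.split 6 (-125) (.lin 1) (.splitN 36386 (.wt 1) (.split 2 (-52) (.split 3 74
    (.lin 6) (.split 3 87 (.lin 7) (.split 1 26 (.wt 0) (.split 6 (-62) (.split 5 97 (.lin 5)
    (.split 1 37 (.wt 2) (.split 6 (-71) (.split 5 106 (.lin 5) (.splitN 48541 (.split 5 149
    (.split 6 (-98) (.lin 1) (.split 3 124 (.split 2 (-73) (.wt 2) (.split 3 115 (.split 1 47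
    (.wt 2) (.split 5 134 (.split 0 (-43) (.lin 3) (.split 4 (-84) (.lin 0) (.split 6 (-80)
    (.split 5 115 (.lin 1) (.split 3 106 (.splitN 44837 (.split 2 (-65) (.wt 1) (.split 4 (-67)
    (.split 0 (-38) (.split 4 (-83) (.split 6 (-93) (.split 5 133 (.lin 1) (.split 3 96 (.lin 2)
    .sq)) (.lin 3)) (.lin 0)) (.lin 0)) (.wt 0))) (.wt 1)) (.lin 4))) (.lin 1)))) (.lin 1)))
    (.lin 4))) (.lin 4))) .sq) (.wt 1))) (.lin 1)))) (.lin 1))))) (.split 3 142 (.split 1 38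
    (.split 6 (-116) (.lin 1) (.split 2 (-46) (.wt 2) (.split 3 124 (.split 1 29 (.splitN 48099
    (.splitN 43420 (.wt 6) (.split 2 (-32) (.wt 0) (.split 3 94 (.wt 0) (.split 5 124 (.lin 2)
    (.split 0 (-69) (.split 4 (-137) (.split 6 (-75) (.split 5 142 (.lin 2) (.split 6 (-84) .sq
    (.lin 1))) (.lin 1)) (.lin 0)) (.lin 7)))))) (.wt 0)) (.split 6 (-62) (.split 0 (-79) (.lin
    3) (.split 4 (-156) (.lin 0) (.split 5 97 (.lin 1) (.split 3 115 (.splitN 48125 (.split 5 175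
    (.split 6 (-103) (.lin 1) (.split 0 (-70) (.lin 3) (.split 4 (-138) (.lin 0) (.split 3 106
    (.split 2 (-34) (.splitN 40782 (.wt 1) (.split 5 111 (.wt 0) (.split 6 (-75) (.split 0 (-42)
    (.split 4 (-83) (.splitN 45808 (.wt 6) (.wt 0)) (.lin 0)) (.lin 3)) (.lin 1)))) (.splitN
    45382 (.split 5 144 (.split 6 (-89) (.lin 1) (.split 0 (-52) (.lin 3) (.split 4 (-102) (.lin
    0) (.splitN 39636 (.wt 0) (.split 5 128 (.split 6 (-80) (.lin 1) (.split 5 116 (.split 3 64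
    (.split 5 107 (.split 6 (-71) (.lin 1) (.split 5 98 (.wt 0) (.lin 1))) (.lin 2)) (.wt 1))
    (.lin 1))) (.wt 0)))))) (.wt 0)) (.wt 1))) (.lin 4))))) .sq) (.wt 1)) (.lin 4))))) (.lin 1)))
    (.lin 4)))) (.split 6 (-75) (.split 5 97 (.lin 1) (.split 5 106 (.lin 5) (.splitN 47842
    (.split 2 (-32) (.split 3 65 (.lin 6) (.split 4 (-141) .sq (.split 0 (-70) (.lin 0) (.split 3
    115 (.split 5 164 (.split 6 (-107) (.lin 1) (.split 0 (-61) (.lin 3) (.split 4 (-120) (.lin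
    0) (.splitN 39735 (.wt 1) (.split 2 (-43) (.split 3 74 (.lin 6) (.splitN 45841 (.split 5 154
    (.split 3 101 (.split 0 (-52) (.lin 7) (.split 4 (-102) (.lin 0) (.split 1 51 (.split 5 109
    (.wt 0) (.split 6 (-80) (.split 0 (-42) (.split 4 (-83) (.split 5 124 (.lin 1) (.split 3 87
    (.lin 4) .sq)) (.lin 0)) (.lin 3)) (.lin 1))) (.wt 6)))) (.lin 6)) (.wt 1)) (.wt 1)))
    (.splitN 45064 (.split 4 (-67) (.split 0 (-38) (.split 6 (-84) (.split 5 124 (.lin 5) (.split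
    3 74 (.lin 6) (.wt 0))) (.lin 3)) (.lin 0)) (.wt 0)) (.wt 1))))))) .sq) (.lin 7))))) (.wt 2))
    (.wt 1)))) (.lin 3))) (.lin 4))))) (.split 6 (-93) (.split 5 124 (.lin 5) (.splitN 48070
    (.split 2 (-35) (.split 3 69 (.lin 7) (.split 2 (-49) (.split 3 87 (.lin 7) (.splitN 44189
    .sq (.split 1 75 (.split 2 (-60) (.split 3 92 (.lin 6) .sq) (.wt 1)) (.wt 1)))) (.wt 2)))
    (.wt 0)) (.wt 1))) (.lin 3)))) (.lin 6)) .sq)) (.wt 1)))) (.lin 3)) (.lin 0)) (.split 0 (-29)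
    (.lin 0) (.split 4 (-48) (.lin 0) (.split 3 97 (.split 5 106 (.splitN 80862 (.split 4 (-23)
    (.split 0 (-15) (.split 1 70 (.split 6 (-39) (.split 5 52 (.lin 5) (.split 3 42 (.lin 7)
    (.split 1 47 (.split 6 (-71) (.lin 1) (.split 5 89 (.split 2 (-60) (.wt 2) (.split 3 88
    (.split 3 79 (.split 2 (-53) (.wt 2) (.split 3 70 (.split 1 25 (.wt 2) (.split 6 (-44)
    (.split 5 61 (.lin 5) (.split 2 (-38) (.split 5 75 (.split 4 (-39) (.lin 8) (.split 0 (-20)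
    (.lin 0) (.split 4 (-30) (.lin 0) (.splitN 40573 (.wt 1) (.split 1 40 (.wt 0) (.split 6 (-53)
    (.split 2 (-40) (.wt 0) (.split 3 52 (.wt 0) (.lin 2))) (.lin 1))))))) (.split 4 (-38)
    (.split 0 (-20) (.split 4 (-47) (.splitN 40910 (.wt 1) (.wt 3)) (.lin 0)) (.lin 0)) (.lin
    8))) .cand)) (.lin 1))) (.lin 7))) (.lin 7)) (.lin 6))) (.lin 5))) (.split 6 (-66) (.split 5
    61 (.lin 1) (.split 5 79 (.lin 5) (.splitN 49235 (.split 2 (-32) (.split 3 51 (.lin 7)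
    (.split 2 (-56) (.split 3 69 (.lin 7) (.splitN 40098 (.wt 1) (.split 4 (-38) (.split 0 (-20)
    (.split 4 (-47) (.split 1 52 (.split 6 (-75) (.split 2 (-64) (.wt 0) (.split 3 79 (.wt 0)
    (.lin 2))) (.lin 3)) (.lin 8)) (.lin 0)) (.lin 0)) (.split 0 (-16) (.lin 0) (.split 1 65
    (.split 6 (-80) (.lin 1) (.split 5 89 (.splitN 45968 (.split 1 59 (.wt 1) (.wt 0)) (.wt 1))
    (.lin 5))) (.wt 2)))))) (.split 4 (-38) (.split 0 (-20) (.split 1 61 (.split 4 (-47) (.split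
    1 52 (.split 6 (-76) (.lin 1) (.split 6 (-75) (.split 5 97 (.lin 1) (.splitN 43314 (.split 2
    (-45) (.split 3 69 (.lin 2) (.wt 0)) (.wt 0)) (.wt 1))) (.lin 3))) (.lin 8)) (.lin 0)) (.lin
    8)) (.lin 0)) (.split 0 (-16) (.lin 0) (.splitN 43116 (.wt 0) (.split 1 65 (.split 6 (-80)
    (.lin 1) (.split 5 89 (.wt 1) (.lin 5))) (.wt 0))))))) (.wt 2)) (.wt 1)))) (.lin 3))))) (.lin
    3)) (.lin 8)) (.lin 0)) (.split 0 (-11) (.lin 0) (.split 4 (-12) (.lin 0) (.split 1 46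
    (.split 6 (-49) (.lin 3) (.split 5 53 (.splitN 61779 (.split 2 (-52) (.split 3 60 (.lin 7)
    (.split 1 27 (.wt 2) (.split 6 (-35) (.split 5 43 (.lin 5) (.split 1 40 (.split 6 (-44) (.lin
    1) (.split 5 44 (.splitN 48803 (.wt 1) (.wt 1)) (.lin 1))) (.wt 2))) (.lin 1)))) (.split 3 52
    (.splitN 58677 (.split 1 34 (.splitN 39894 (.wt 1) .cand) (.split 6 (-48) (.split 5 52 (.lin
    1) (.splitN 52943 (.split 2 (-43) (.split 3 51 (.lin 2) (.wt 0)) (.wt 0)) (.wt 1))) (.lin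
    3))) (.wt 1)) (.lin 7))) (.wt 1)) (.lin 5))) (.split 6 (-57) (.split 5 61 (.lin 5) (.splitN
    68231 (.split 2 (-43) (.split 3 51 (.lin 7) (.wt 0)) (.wt 0)) (.wt 1))) (.lin 3)))))) (.wt
    1)) (.split 1 60 (.lin 8) (.splitN 84497 (.split 2 (-31) (.split 3 42 (.lin 7) (.split 4
    (-12) (.split 0 (-11) (.split 4 (-29) (.split 2 (-46) (.split 3 60 (.lin 7) (.split 1 90
    (.split 6 (-112) (.lin 3) (.split 5 134 (.split 2 (-52) (.split 3 65 (.lin 6) (.splitN 49011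
    (.split 4 (-32) (.split 0 (-20) (.split 4 (-47) (.split 3 78 (.lin 7) (.splitN 45982 (.wt 3)
    (.wt 1))) (.lin 0)) (.lin 0)) (.wt 0)) (.wt 1))) (.wt 2)) (.lin 5))) (.wt 2))) (.wt 2)) (.lin
    0)) (.lin 0)) (.wt 0))) (.wt 2)) (.wt 1)))) (.lin 7)))))

def cert2_1_4 : Cert :=
  (.split 2 (-75) (.split 3 87 (.lin 7) (.splitN 105860 (.split 2 (-307) .sq (.split 3 307
    (.split 5 296 (.splitN 97793 (.split 2 (-290) .sq (.split 3 291 (.split 5 279 (.split 4 (-53)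
    (.split 0 (-29) (.split 4 (-65) (.split 6 (-57) (.split 5 88 (.lin 5) (.split 3 114 (.lin 7)
    (.splitN 37223 .sq (.split 1 26 (.wt 0) (.split 6 (-62) (.split 5 97 (.lin 5) (.split 1 39
    (.wt 2) (.split 6 (-71) (.split 5 106 (.lin 5) (.splitN 44351 .sq (.splitN 52118 (.split 0
    (-78) .sq (.split 1 82 (.split 6 (-148) (.lin 3) (.split 5 215 (.split 5 112 (.wt 3) (.split
    6 (-80) (.splitN 47789 .sq (.split 1 45 (.wt 0) (.split 1 56 (.split 6 (-121) (.lin 3)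
    (.split 5 188 (.wt 1) (.lin 1))) (.wt 1)))) (.lin 1))) (.lin 5))) .sq)) (.wt 1)))) (.lin
    1)))) (.lin 1)))))) (.lin 3)) (.lin 0)) (.lin 0)) (.split 0 (-25) (.lin 0) (.split 5 98
    (.splitN 75421 (.split 2 (-255) .sq (.split 3 255 (.split 4 (-23) (.split 0 (-15) (.split 1
    70 (.split 2 (-237) (.lin 7) (.split 3 96 (.lin 7) (.splitN 51252 (.split 1 38 (.wt 2)
    (.split 6 (-57) (.split 5 70 (.lin 5) (.split 2 (-170) .sq (.splitN 48836 (.split 3 167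
    (.split 2 (-147) (.lin 7) (.split 1 56 (.split 6 (-76) (.lin 1) (.splitN 40162 (.wt 1)
    (.split 2 (-127) (.wt 2) (.split 3 151 (.split 4 (-46) (.wt 0) (.split 0 (-20) (.lin 0)
    (.split 4 (-30) (.lin 0) (.split 6 (-67) (.lin 3) (.split 5 80 (.splitN 44974 (.split 1 44
    (.wt 0) (.split 6 (-62) (.split 5 79 (.lin 1) (.wt 1)) (.lin 1))) (.wt 0)) (.lin 5))))))
    (.lin 4))))) (.split 6 (-75) (.split 5 88 (.lin 5) (.split 4 (-39) (.lin 8) (.split 0 (-20)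
    (.lin 0) (.split 4 (-30) (.lin 0) (.splitN 43016 (.wt 0) (.split 2 (-100) (.split 3 110 (.lin
    6) (.split 2 (-108) (.split 3 119 (.lin 6) (.split 1 68 (.split 6 (-80) (.lin 1) (.split 5 89
    (.wt 1) (.lin 1))) (.wt 0))) (.wt 0))) (.wt 0))))))) (.lin 3)))) .sq) (.wt 1)))) (.lin 3)))
    (.wt 3)))) (.lin 8)) (.lin 0)) (.split 0 (-11) (.lin 0) (.split 4 (-12) (.lin 0) (.split 1 62
    (.split 6 (-67) (.lin 3) (.split 5 71 (.splitN 66615 (.split 2 (-235) .sq (.split 3 232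
    (.split 1 60 (.split 6 (-62) (.lin 1) (.split 5 62 (.split 1 38 (.split 6 (-40) (.lin 3)
    (.split 5 44 (.split 1 27 (.wt 2) (.split 6 (-35) (.split 5 43 (.lin 1) (.splitN 46165 (.wt
    1) (.split 2 (-119) (.wt 0) (.split 3 115 (.wt 0) (.lin 2))))) (.lin 1))) (.lin 5))) (.split
    6 (-48) (.split 5 52 (.lin 5) (.splitN 53877 (.split 1 43 (.split 6 (-53) (.lin 1) (.split 2
    (-205) (.split 3 213 (.lin 2) .sq) (.wt 0))) (.wt 0)) (.wt 6))) (.lin 3))) (.lin 5))) (.wt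
    2)) (.lin 7))) (.wt 1)) (.lin 5))) (.wt 2))))) .sq)) (.wt 1)) (.split 1 60 (.lin 8) (.split 6
    (-84) (.splitN 77233 (.split 4 (-13) (.split 0 (-11) (.split 4 (-29) (.split 3 96 (.lin 7)
    (.splitN 55432 (.split 1 139 (.split 6 (-157) (.lin 3) (.split 5 179 (.split 1 129 (.split 6
    (-152) (.lin 1) (.split 5 170 (.splitN 52500 (.split 2 (-129) .sq (.split 1 87 (.split 6
    (-103) (.lin 3) (.split 5 125 (.splitN 48899 (.split 4 (-30) (.split 0 (-20) (.split 4 (-47)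
    (.split 3 105 (.lin 7) (.splitN 43136 .sq (.wt 1))) (.lin 0)) (.lin 0)) (.wt 0)) (.wt 1))
    (.lin 5))) (.wt 2))) (.wt 1)) (.lin 5))) .sq) (.lin 5))) (.wt 2)) (.wt 1))) (.lin 0)) (.lin
    0)) (.wt 0)) (.wt 1)) (.lin 1)))))) .sq) .sq)) (.wt 1)) .sq) .sq)) (.wt 1))) (.split 3 317
    (.splitN 196796 (.split 4 (-439) .sq (.split 0 (-218) (.lin 0) (.split 3 286 (.split 5 439
    (.split 2 (-29) (.split 3 33 (.lin 7) (.splitN 112479 (.split 5 327 cert2_1_3 .sq) (.wt 1)))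
    (.splitN 107931 (.split 5 324 (.split 3 52 (.split 0 (-43) (.lin 7) (.split 4 (-84) (.lin 0)
    (.split 3 28 (.split 0 (-16) (.lin 7) (.split 4 (-30) (.lin 0) (.split 2 (-16) (.split 0 (-7)
    (.lin 7) (.split 4 (-12) (.lin 0) (.split 3 24 (.lin 7) (.splitN 66197 (.split 5 72 (.splitN
    59058 (.split 5 62 (.splitN 56073 (.split 5 57 (.splitN 52516 (.split 1 42 (.split 1 25 (.wt
    2) (.split 6 (-35) (.split 5 43 (.lin 1) (.wt 0)) (.lin 1))) (.wt 0)) (.wt 1)) (.wt 0)) (.wt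
    1)) (.wt 0)) (.wt 1)) (.wt 0)) (.wt 6))))) (.splitN 44348 (.split 4 (-13) (.split 0 (-11)
    (.split 6 (-39) (.split 5 52 (.lin 5) (.split 3 24 (.lin 7) (.wt 0))) (.lin 3)) (.lin 0))
    (.wt 0)) (.wt 6))))) (.split 5 43 (.lin 2) (.split 0 (-15) (.split 4 (-29) (.split 6 (-35)
    (.split 5 52 (.lin 2) (.split 1 39 (.split 6 (-179) (.lin 1) (.split 5 215 (.split 6 (-125)
    (.lin 1) (.split 5 161 (.split 6 (-98) (.lin 1) (.split 5 134 (.split 6 (-85) (.lin 1)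
    (.split 5 125 (.split 6 (-80) (.lin 1) (.split 5 116 (.splitN 48388 (.split 2 (-12) (.split 5
    107 (.split 6 (-71) (.lin 1) (.split 5 98 (.split 5 75 (.split 6 (-53) (.lin 1) (.split 0
    (-25) (.lin 3) (.split 4 (-48) (.lin 0) (.split 3 43 (.splitN 43336 (.split 1 29 (.splitN
    36999 (.wt 1) (.split 4 (-41) (.wt 0) (.split 0 (-20) (.lin 0) (.split 6 (-40) (.lin 3)
    (.split 5 53 (.wt 0) (.lin 1)))))) (.split 0 (-16) (.lin 3) (.split 4 (-30) (.lin 0) (.split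
    6 (-44) (.split 5 61 (.lin 1) (.wt 0)) (.lin 1))))) (.wt 1)) (.lin 4))))) (.split 6 (-53)
    (.split 0 (-24) (.split 4 (-47) (.split 3 42 (.lin 4) (.splitN 43089 (.split 1 31 (.split 5
    88 (.lin 1) (.split 0 (-33) (.split 4 (-65) (.split 6 (-62) (.lin 1) (.split 5 89 (.split 3
    51 (.lin 2) (.splitN 41903 (.wt 0) (.wt 0))) (.lin 1))) (.lin 0)) (.lin 3))) (.wt 0)) (.wt
    1))) (.lin 0)) (.lin 3)) (.lin 1))) (.lin 2))) (.lin 2)) (.wt 0)) (.wt 1)) (.lin 2))) (.lin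
    2))) (.lin 2))) (.lin 2))) (.lin 2))) (.wt 2))) (.lin 1)) (.lin 0)) (.lin 7)))))) (.split 5
    70 (.lin 2) (.split 6 (-48) (.split 5 88 (.lin 2) (.split 6 (-57) (.split 5 97 (.lin 2) (.wt
    2)) (.lin 1))) (.lin 1)))) .sq) (.wt 1))) .sq) (.lin 7)))) (.wt 1)) (.lin 6)))

def cert2_1_5 : Cert :=
  (.split 4 (-1) (.split 0 (-2) (.split 4 (-11) (.split 5 16 (.lin 5) (.split 2 (-3) (.split 3 15
    (.lin 7) (.splitN 17240 (.wt 1) (.split 1 22 (.split 2 (-50) (.wt 2) (.split 5 42 (.split 6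
    (-26) (.lin 1) (.split 3 70 (.split 1 9 (.wt 2) (.split 5 26 (.split 0 (-7) (.lin 3) (.split
    4 (-12) (.lin 0) (.split 6 (-17) (.split 5 25 (.lin 1) (.splitN 31250 (.wt 1) (.split 2 (-17)
    (.wt 0) (.split 3 16 (.wt 0) (.lin 2))))) (.lin 1)))) (.lin 1))) (.lin 2))) (.split 6 (-26)
    (.split 0 (-15) (.split 4 (-29) (.split 3 24 (.lin 4) (.splitN 837456 (.split 4 (-9297) (.div
    4) (.split 0 (-4646) (.lin 0) (.split 6 (-4657) (.lin 3) (.split 5 9305 (.split 3 4696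
    (.splitN 146112 (.split 0 (-2389) (.div 0) (.split 6 (-2398) (.lin 3) (.split 5 4787 (.split
    1 7 (.wt 2) (.split 2 (-25) (.wt 2) (.splitN 73329 (.split 4 (-261) .sq (.split 0 (-128)
    (.lin 0) (.split 6 (-139) (.lin 3) (.split 5 260 (.split 3 142 (.splitN 67051 (.split 5 250
    (.split 6 (-130) (.lin 1) (.split 2 (-16) (.splitN 48549 (.wt 6) (.split 3 71 (.wt 0) (.split
    0 (-60) (.split 4 (-119) (.wt 0) (.lin 0)) (.lin 7)))) (.split 3 35 (.split 5 152 (.split 0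
    (-25) (.lin 7) (.split 4 (-48) (.lin 0) (.split 6 (-85) (.lin 1) (.split 5 107 (.split 6
    (-62) (.lin 1) (.split 5 80 (.split 6 (-49) (.lin 1) (.split 5 71 (.split 6 (-44) (.lin 1)
    (.splitN 40259 (.splitN 33244 (.wt 1) (.split 5 44 (.wt 1) (.split 6 (-35) (.split 5 61 (.lin
    1) (.split 3 33 (.lin 2) (.wt 0))) (.lin 1)))) (.wt 1))) (.lin 2))) (.lin 2))) (.lin 2)))))
    (.lin 2)) (.wt 2)))) .sq) (.wt 1)) (.lin 4)) (.lin 1))))) (.wt 1)))) (.lin 1)))) (.wt 3))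
    (.lin 4)) (.lin 1))))) (.wt 1))) (.lin 0)) (.lin 3)) (.lin 1)))) (.split 6 (-21) (.split 6
    (-30) (.split 5 34 (.lin 5) (.splitN 366211 (.split 0 (-601) .sq (.split 1 600 (.split 6
    (-1192) (.lin 3) (.split 5 1790 (.splitN 334683 (.split 2 (-576) .sq (.split 3 2329 (.splitN
    315387 (.split 1 558 (.split 3 558 (.split 4 (-559) .sq (.split 0 (-277) (.lin 0) (.split 6
    (-832) (.lin 3) (.split 5 1106 (.splitN 300929 (.split 5 544 (.splitN 267208 (.split 3 513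
    (.split 5 514 cert2_1_4 .sq) .sq) (.wt 1)) .sq) (.wt 1)) (.lin 5))))) .sq) .sq) (.wt 1))
    (.lin 2))) (.wt 1)) (.lin 5))) .sq)) (.wt 1))) (.lin 3)) (.lin 1))))) (.wt 2))) (.lin 0))
    (.lin 0)) (.split 0 2 (.lin 0) (.split 1 15 (.lin 8) (.split 2 (-11) (.splitN 605880 (.split
    1 16760 (.split 6 (-16753) (.lin 3) (.split 5 16748 (.split 2 (-16761) (.div 2) (.split 3
    16756 (.split 3 8 (.wt 2) (.split 2 (-20) (.splitN 120290 (.split 1 3260 (.split 6 (-3253)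
    (.lin 3) (.split 5 3248 (.split 2 (-3261) (.div 2) (.split 3 6496 (.split 3 4876 (.split 4
    1304 (.splitN 10503 (.wt 1) (.split 5 9 (.wt 0) (.split 6 (-17) (.split 1 24 (.lin 8)
    (.splitN 90792 (.split 1 294 (.split 6 (-283) (.lin 3) (.split 5 539 (.split 5 278 (.split 3
    16 (.wt 2) (.split 2 (-29) (.splitN 65819 (.split 1 251 (.split 6 (-247) (.lin 3) (.split 5
    242 (.split 4 232 (.splitN 61998 (.split 2 (-1641) (.div 2) (.split 3 1636 (.split 1 238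
    (.split 4 214 (.split 4 7 (.wt 2) (.split 0 7 (.lin 0) (.split 4 24 (.lin 0) (.split 2 (-38)
    (.split 5 206 (.splitN 18565 (.wt 1) (.split 5 17 (.wt 0) (.split 1 51 (.lin 8) (.split 3 31
    (.wt 2) (.split 2 (-47) (.split 3 38 (.wt 2) (.split 2 (-56) (.split 3 44 (.wt 2) (.split 2
    (-65) (.splitN 48925 (.split 5 29 (.wt 2) (.split 6 (-44) (.split 1 60 (.lin 8) (.split 4 196
    (.split 1 186 (.split 6 (-166) (.lin 3) (.split 5 152 (.split 4 142 (.split 0 70 (.split 4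
    133 (.splitN 45937 (.split 2 (-1191) (.div 2) (.split 3 1177 (.split 3 60 (.wt 2) (.split 2
    (-74) (.split 3 68 (.wt 2) (.split 2 (-83) (.split 3 76 (.wt 2) (.split 2 (-92) (.split 3 83
    (.wt 2) (.split 2 (-101) (.split 1 63 (.wt 2) (.split 6 (-53) (.splitN 28088 .sq (.split 5 43
    (.wt 0) (.split 3 91 (.wt 2) (.split 2 (-110) (.splitN 32363 .sq (.split 5 54 (.wt 0) (.split
    1 87 (.lin 8) (.split 6 (-75) (.split 4 115 (.splitN 39491 .sq (.splitN 42704 (.split 4 42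
    (.wt 0) (.split 0 20 (.lin 0) (.split 1 105 (.lin 8) (.split 6 (-84) (.split 2 (-119) .sq
    (.lin 7)) (.lin 1))))) (.wt 1))) (.lin 8)) (.lin 1))))) (.lin 7))))) (.lin 1))) (.lin 7)))
    (.lin 7))) (.lin 7))) (.lin 7))) (.lin 7))) (.wt 1)) (.lin 0)) (.lin 0)) (.lin 8)) (.lin 5)))
    .sq) (.lin 8))) (.lin 1))) (.wt 1)) (.lin 7))) (.lin 7))) (.lin 7)))))) (.lin 8)) (.lin
    7))))) (.lin 8)) .sq) (.lin 7))) (.wt 3)) (.lin 8)) (.lin 5))) .sq) (.wt 1)) (.lin 7))) (.lin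
    5)) (.lin 1))) .sq) (.wt 1))) (.lin 1)))) (.div 4)) (.lin 6)) (.lin 2))) (.lin 5))) (.div 1))
    (.wt 1)) (.lin 7))) (.lin 7))) (.lin 5))) (.div 1)) (.wt 3)) (.lin 7)))))

def cert2_1_6 : Cert :=
  (.split 4 (-57) (.split 0 (-33) (.split 6 (-57) (.split 5 88 (.lin 5) (.split 2 60 (.lin 7)
    (.splitN 56905 (.split 4 (-196) .sq (.split 5 205 (.split 4 (-174) (.lin 8) (.split 1 57
    (.split 1 38 (.split 6 (-116) (.lin 1) (.split 3 (-48) (.wt 2) (.split 2 133 (.split 3 (-46)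
    (.wt 2) (.split 2 124 (.split 1 29 (.splitN 48099 (.splitN 43420 (.wt 6) (.split 2 94 (.wt 0)
    (.split 5 115 (.lin 2) (.split 0 (-60) (.split 4 (-119) (.split 6 (-71) (.split 5 133 (.lin
    2) (.split 6 (-80) (.split 5 142 (.lin 1) .sq) (.lin 1))) (.lin 1)) (.lin 0)) (.lin 7)))))
    (.wt 0)) (.split 6 (-62) (.split 0 (-79) (.lin 3) (.split 4 (-156) (.lin 0) (.split 5 97
    (.lin 1) (.split 2 115 (.splitN 48125 (.split 5 175 (.split 6 (-103) (.lin 1) (.split 0 (-70)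
    (.lin 3) (.split 4 (-138) (.lin 0) (.split 2 106 (.split 3 (-34) (.splitN 40782 (.wt 1)
    (.split 5 111 (.wt 0) (.split 6 (-75) (.split 0 (-42) (.split 4 (-83) (.splitN 45808 (.wt 6)
    (.wt 0)) (.lin 0)) (.lin 3)) (.lin 1)))) (.splitN 45382 (.split 5 144 (.split 6 (-89) (.lin
    1) (.split 0 (-52) (.lin 3) (.split 4 (-102) (.lin 0) (.splitN 39636 (.wt 0) (.split 5 128
    (.split 6 (-80) (.lin 1) (.split 5 116 (.split 2 64 (.split 5 107 (.split 6 (-71) (.lin 1)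
    (.split 5 98 (.wt 0) (.lin 1))) (.lin 2)) (.wt 1)) (.lin 1))) (.wt 0)))))) (.wt 0)) (.wt 1)))
    (.lin 4))))) .sq) (.wt 1)) (.lin 4))))) (.lin 1))) (.lin 4))) (.lin 4)))) (.split 6 (-75)
    (.split 5 97 (.lin 1) (.split 5 106 (.lin 5) (.split 3 (-32) (.split 2 65 (.lin 6) (.splitN
    48816 (.split 4 (-141) .sq (.split 5 164 (.split 6 (-107) (.lin 1) (.split 0 (-61) (.lin 3)
    (.split 4 (-120) (.lin 0) (.split 3 (-52) (.split 2 78 (.lin 4) (.split 2 83 (.lin 6) (.split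
    5 149 (.split 6 (-98) (.lin 1) (.split 2 115 (.split 1 47 (.wt 2) (.split 5 134 (.split 0
    (-43) (.lin 3) (.split 4 (-84) (.lin 0) (.split 6 (-80) (.split 5 115 (.lin 1) (.split 2 106
    (.splitN 44837 (.split 3 (-65) (.wt 1) (.split 4 (-67) (.split 0 (-38) (.split 4 (-83)
    (.split 6 (-93) (.split 5 133 (.lin 1) .sq) (.lin 3)) (.lin 0)) (.lin 0)) (.wt 0))) (.wt 1))
    (.lin 4))) (.lin 1)))) (.lin 1))) (.lin 4))) .sq))) (.split 2 106 (.splitN 39735 (.wt 1)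
    (.split 3 (-43) (.split 2 74 (.lin 6) (.splitN 45841 (.split 5 154 (.split 2 101 (.split 0
    (-52) (.lin 7) (.split 4 (-102) (.lin 0) (.split 1 51 (.split 5 109 (.wt 0) (.split 6 (-80)
    (.split 0 (-42) (.split 4 (-83) (.split 5 124 (.lin 1) (.split 2 87 (.lin 4) .sq)) (.lin 0))
    (.lin 3)) (.lin 1))) (.wt 6)))) (.lin 6)) (.wt 1)) (.wt 1))) (.splitN 45064 (.split 4 (-67)
    (.split 0 (-38) (.split 6 (-84) (.split 5 124 (.lin 5) (.split 2 74 (.lin 6) (.wt 0))) (.lin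
    3)) (.lin 0)) (.wt 0)) (.wt 1)))) (.lin 4)))))) .sq)) (.wt 1))) (.wt 2)))) (.lin 3))) (.split
    6 (-93) (.split 5 124 (.lin 5) (.split 4 (-138) (.lin 8) (.splitN 47598 (.split 3 (-35)
    (.split 2 69 (.lin 7) (.split 1 87 (.split 2 107 (.split 3 (-49) (.split 6 (-130) (.lin 4)
    (.split 5 179 (.split 2 87 (.lin 7) (.splitN 44189 .sq (.wt 1))) (.lin 2))) (.wt 2)) (.wt 2))
    (.wt 2))) (.wt 0)) (.wt 1)))) (.lin 3)))) .sq)) (.wt 1)))) (.lin 3)) (.lin 0)) (.split 0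
    (-29) (.lin 0) (.split 4 (-48) (.lin 0) (.split 2 88 (.split 5 104 (.splitN 79535 (.split 4
    (-23) (.split 0 (-15) (.split 1 70 (.split 6 (-39) (.split 5 52 (.lin 5) (.split 2 42 (.lin
    7) (.split 1 47 (.split 6 (-71) (.lin 1) (.split 5 89 (.split 3 (-57) (.wt 2) (.split 2 79
    (.split 3 (-53) (.wt 2) (.split 2 70 (.split 1 25 (.wt 2) (.split 6 (-44) (.split 5 61 (.lin
    5) (.split 3 (-38) (.split 5 75 (.split 4 (-39) (.lin 8) (.split 0 (-20) (.lin 0) (.split 4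
    (-30) (.lin 0) (.splitN 40573 (.wt 1) (.split 1 40 (.wt 0) (.split 6 (-53) (.split 2 56 (.wt
    0) (.split 3 (-47) (.wt 0) (.lin 2))) (.lin 1))))))) (.split 4 (-38) (.split 0 (-20) (.split
    4 (-47) (.splitN 40910 (.wt 1) (.wt 3)) (.lin 0)) (.lin 0)) (.lin 8))) .cand)) (.lin 1)))
    (.lin 7))) (.lin 7))) (.lin 5))) (.split 6 (-66) (.split 5 61 (.lin 1) (.split 5 79 (.lin 5)
    (.splitN 48740 (.split 3 (-32) (.split 2 51 (.lin 7) (.split 3 (-52) (.split 2 60 (.lin 6)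
    (.split 2 69 (.lin 7) (.split 4 (-38) (.split 0 (-20) (.split 1 61 (.split 4 (-47) (.split 1
    52 (.split 6 (-75) (.split 5 97 (.lin 1) (.splitN 43542 (.wt 1) (.wt 0))) (.lin 3)) (.lin 8))
    (.lin 0)) (.lin 8)) (.lin 0)) (.split 0 (-16) (.lin 0) (.splitN 43234 (.wt 3) (.split 1 69
    (.split 6 (-80) (.lin 1) (.split 5 89 (.wt 1) (.lin 5))) (.wt 0))))))) (.split 4 (-38)
    (.split 0 (-20) (.split 1 61 (.split 4 (-47) (.split 1 52 (.split 6 (-76) (.lin 1) (.split 6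
    (-75) (.split 5 97 (.lin 1) (.splitN 43314 (.split 2 63 (.split 3 (-39) (.lin 2) (.wt 0))
    (.wt 0)) (.wt 1))) (.lin 3))) (.lin 8)) (.lin 0)) (.lin 8)) (.lin 0)) (.split 0 (-16) (.lin
    0) (.splitN 43116 (.wt 0) (.split 1 65 (.split 6 (-80) (.lin 1) (.split 5 89 (.wt 1) (.lin
    5))) (.wt 0))))))) (.wt 2)) (.wt 1)))) (.lin 3))))) (.lin 3)) (.lin 8)) (.lin 0)) (.split 0
    (-11) (.lin 0) (.split 4 (-12) (.lin 0) (.split 2 70 (.split 1 46 (.split 6 (-49) (.lin 3)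
    (.split 5 53 (.splitN 61001 (.split 3 (-47) (.split 2 51 (.lin 7) (.split 1 26 (.wt 2)
    (.split 6 (-35) (.split 5 43 (.lin 5) (.split 1 42 (.split 6 (-44) (.lin 1) (.split 5 44
    (.splitN 49058 (.wt 1) (.wt 1)) (.lin 1))) (.wt 2))) (.lin 1)))) (.split 2 52 (.splitN 56825
    (.split 1 34 (.splitN 40613 (.wt 1) .cand) (.split 6 (-48) (.split 5 52 (.lin 1) (.wt 0))
    (.lin 3))) (.wt 1)) (.lin 6))) (.wt 1)) (.lin 5))) (.split 6 (-57) (.split 5 61 (.lin 5)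
    (.splitN 67284 (.split 2 46 (.split 3 (-39) (.lin 7) (.wt 0)) (.wt 0)) (.wt 1))) (.lin 3)))
    (.lin 7))))) (.wt 1)) (.split 1 60 (.lin 8) (.splitN 82780 (.split 2 77 (.split 3 (-31)
    (.split 4 (-13) (.split 0 (-11) (.split 4 (-29) (.split 2 51 (.lin 7) (.split 3 (-57) (.lin
    7) (.split 1 79 (.split 6 (-103) (.lin 3) (.split 5 125 (.splitN 48605 (.split 3 (-40)
    (.split 4 (-36) (.split 0 (-20) (.split 2 69 (.lin 7) (.split 3 (-48) (.lin 7) (.wt 0)))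
    (.lin 0)) (.wt 0)) (.wt 0)) (.wt 1)) (.lin 5))) (.wt 2)))) (.lin 0)) (.lin 0)) (.wt 0)) (.wt
    2)) (.wt 2)) (.wt 1)))) (.lin 7)))))

def cert2_1_7 : Cert :=
  (.split 3 (-74) (.split 2 78 (.lin 7) (.splitN 107261 (.split 2 309 (.split 3 (-300) (.lin 7)
    (.split 5 301 (.split 4 (-55) (.split 0 (-29) (.split 4 (-65) (.split 2 105 (.lin 7) (.split
    1 37 (.wt 2) (.split 6 (-75) (.split 5 106 (.lin 5) (.splitN 52685 (.split 1 116 (.split 6
    (-206) (.lin 1) (.split 2 151 (.split 5 278 (.split 3 (-156) (.lin 6) (.split 3 (-120) (.lin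
    7) (.splitN 51025 (.split 1 43 (.wt 2) (.split 6 (-80) (.split 5 115 (.lin 5) (.splitN 45242
    .sq (.split 5 134 (.wt 1) (.split 6 (-98) .sq (.lin 1))))) (.lin 1))) (.wt 1)))) (.lin 2))
    .sq)) .sq) (.wt 1))) (.lin 3)))) (.lin 0)) (.lin 0)) (.split 0 (-25) (.lin 0) (.split 5 101
    (.split 1 88 (.splitN 76379 (.split 2 258 (.split 3 (-277) (.lin 6) (.split 4 (-23) (.split 0
    (-15) (.split 1 70 (.split 2 87 (.lin 7) (.splitN 51960 (.split 1 35 (.wt 2) (.split 6 (-57)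
    (.split 5 70 (.lin 5) (.split 2 180 (.split 3 (-178) (.lin 6) (.splitN 49115 (.split 2 171
    (.split 1 56 (.split 6 (-76) (.lin 1) (.splitN 39844 (.wt 1) (.split 3 (-132) (.wt 2) (.split
    2 160 (.split 3 (-121) (.wt 2) (.split 2 146 (.split 3 (-115) (.wt 2) (.split 2 137 (.split 3
    (-109) (.wt 2) (.split 2 128 (.split 4 (-47) (.wt 0) (.split 0 (-20) (.lin 0) (.split 4 (-30)
    (.lin 0) (.split 6 (-67) (.lin 3) (.split 5 80 (.splitN 45200 (.split 1 43 (.wt 0) (.split 6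
    (-62) (.split 5 79 (.lin 1) (.wt 1)) (.lin 1))) (.wt 0)) (.lin 5)))))) (.lin 6))) (.lin 6)))
    (.lin 6))) (.lin 4))))) (.split 6 (-75) (.split 5 88 (.lin 5) (.split 4 (-39) (.lin 8)
    (.split 0 (-20) (.lin 0) (.split 4 (-30) (.lin 0) (.split 3 (-83) (.split 2 92 (.lin 6)
    (.split 3 (-100) (.split 2 110 (.lin 6) (.split 3 (-108) (.split 2 119 (.lin 6) (.split 3
    (-116) (.split 2 128 (.lin 6) .sq) (.wt 0))) (.wt 0))) (.wt 0))) (.wt 0)))))) (.lin 3))) .sq)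
    (.wt 1))) .sq)) (.lin 3))) (.wt 3))) (.lin 8)) (.lin 0)) (.split 0 (-11) (.lin 0) (.split 4
    (-12) (.lin 0) (.split 1 67 (.split 6 (-67) (.lin 3) (.split 5 71 (.splitN 67183 (.split 2
    239 (.split 3 (-228) (.lin 7) (.split 1 43 (.splitN 39875 (.wt 1) .cand) (.split 6 (-57)
    (.split 5 61 (.lin 5) (.splitN 62367 (.wt 0) (.wt 1))) (.lin 3)))) .sq) (.wt 1)) (.lin 5)))
    (.wt 2)))))) .sq) (.wt 1)) (.lin 8)) (.split 1 60 (.lin 8) (.split 6 (-84) (.splitN 78833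
    (.split 4 (-12) (.split 0 (-11) (.split 4 (-29) (.split 2 87 (.lin 7) (.split 1 169 (.split 6
    (-193) (.lin 3) (.split 5 215 (.splitN 54452 (.split 1 140 (.split 6 (-157) (.lin 3) (.split
    5 179 (.split 2 154 (.split 3 (-165) (.lin 6) (.split 3 (-138) (.lin 7) (.splitN 52047
    (.split 1 101 (.split 6 (-121) (.lin 3) (.split 5 143 (.split 2 143 (.split 3 (-129) (.lin 7)
    (.split 1 96 (.split 6 (-116) (.lin 1) (.split 5 134 (.split 4 (-38) (.split 0 (-20) (.split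
    4 (-47) (.split 2 96 (.lin 7) (.split 1 83 (.split 6 (-107) (.lin 1) (.split 5 125 (.split 3
    (-78) (.split 2 105 (.lin 7) (.splitN 43136 .sq (.wt 1))) (.wt 2)) (.lin 5))) (.wt 2))) (.lin
    0)) (.lin 0)) (.split 0 (-16) (.lin 0) (.split 1 78 (.lin 8) (.split 6 (-103) (.lin 3)
    (.split 5 116 (.splitN 49061 (.wt 0) (.wt 1)) (.lin 5)))))) (.lin 5))) (.wt 2))) .sq) (.lin
    5))) (.wt 2)) (.wt 1)))) .sq) (.lin 5))) .sq) (.wt 1)) (.lin 5))) (.wt 2))) (.lin 0)) (.lin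
    0)) (.wt 0)) (.wt 1)) (.lin 1)))))) .sq)) .sq) (.wt 1))) (.split 2 304 (.splitN 188570
    (.split 4 (-427) .sq (.split 0 (-214) (.lin 0) (.split 2 277 (.split 5 428 (.split 3 (-27)
    (.split 2 33 (.lin 7) (.splitN 109665 (.split 5 322 cert2_1_6 .sq) (.wt 1))) (.splitN 107677
    (.split 5 324 (.split 2 52 (.split 0 (-43) (.lin 7) (.split 4 (-84) (.lin 0) (.split 2 28
    (.split 0 (-16) (.lin 7) (.split 4 (-30) (.lin 0) (.split 3 (-16) (.split 0 (-7) (.lin 7)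
    (.split 4 (-12) (.lin 0) (.split 2 24 (.lin 7) (.splitN 66197 (.split 5 72 (.splitN 59058
    (.split 5 62 (.splitN 56073 (.split 5 57 (.splitN 52516 (.split 1 42 (.split 1 25 (.wt 2)
    (.split 6 (-35) (.split 5 43 (.lin 1) (.wt 0)) (.lin 1))) (.wt 0)) (.wt 1)) (.wt 0)) (.wt 1))
    (.wt 0)) (.wt 1)) (.wt 0)) (.wt 6))))) (.splitN 44348 (.split 4 (-13) (.split 0 (-11) (.split
    6 (-39) (.split 5 52 (.lin 5) (.split 2 24 (.lin 7) (.wt 0))) (.lin 3)) (.lin 0)) (.wt 0))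
    (.wt 6))))) (.split 5 43 (.lin 2) (.split 0 (-15) (.split 4 (-29) (.split 6 (-35) (.split 5
    52 (.lin 2) (.split 1 39 (.split 6 (-179) (.lin 1) (.split 5 215 (.split 6 (-125) (.lin 1)
    (.split 5 161 (.split 6 (-98) (.lin 1) (.split 5 134 (.split 6 (-85) (.lin 1) (.split 5 125
    (.split 6 (-80) (.lin 1) (.split 5 116 (.splitN 48388 (.split 3 (-12) (.split 5 107 (.split 6
    (-71) (.lin 1) (.split 5 98 (.split 5 75 (.split 6 (-53) (.lin 1) (.split 0 (-25) (.lin 3)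
    (.split 4 (-48) (.lin 0) (.split 2 43 (.splitN 43336 (.split 1 29 (.splitN 36999 (.wt 1)
    (.split 4 (-41) (.wt 0) (.split 0 (-20) (.lin 0) (.split 6 (-40) (.lin 3) (.split 5 53 (.wt
    0) (.lin 1)))))) (.split 0 (-16) (.lin 3) (.split 4 (-30) (.lin 0) (.split 6 (-44) (.split 5
    61 (.lin 1) (.wt 0)) (.lin 1))))) (.wt 1)) (.lin 4))))) (.split 6 (-53) (.split 0 (-24)
    (.split 4 (-47) (.split 2 42 (.lin 4) (.splitN 43089 (.split 1 31 (.split 5 88 (.lin 1)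
    (.split 0 (-33) (.split 4 (-65) (.split 6 (-62) (.lin 1) (.split 2 51 (.lin 2) (.split 5 89
    (.splitN 41903 (.wt 0) (.wt 0)) (.lin 1)))) (.lin 0)) (.lin 3))) (.wt 0)) (.wt 1))) (.lin 0))
    (.lin 3)) (.lin 1))) (.lin 2))) (.lin 2)) (.wt 0)) (.wt 1)) (.lin 2))) (.lin 2))) (.lin 2)))
    (.lin 2))) (.lin 2))) (.wt 2))) (.lin 1)) (.lin 0)) (.lin 7)))))) (.split 5 70 (.lin 2)
    (.split 6 (-48) (.split 5 88 (.lin 2) (.split 6 (-57) (.split 5 97 (.lin 2) (.wt 2)) (.lin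
    1))) (.lin 1)))) .sq) (.wt 1))) .sq) (.lin 7)))) (.wt 1)) (.lin 6)))

def cert2_1_8 : Cert :=
  (.split 4 (-1) (.split 0 (-2) (.split 4 (-11) (.split 5 16 (.lin 5) (.split 3 (-3) (.split 2 15
    (.lin 7) (.splitN 17240 (.wt 1) (.split 1 22 (.split 3 (-50) (.wt 2) (.split 5 42 (.split 6
    (-26) (.lin 1) (.split 2 70 (.split 1 9 (.wt 2) (.split 5 26 (.split 0 (-7) (.lin 3) (.split
    4 (-12) (.lin 0) (.split 6 (-17) (.split 5 25 (.lin 1) (.splitN 31250 (.wt 1) (.split 2 19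
    (.wt 0) (.split 3 (-20) (.wt 0) (.lin 2))))) (.lin 1)))) (.lin 1))) (.lin 2))) (.split 6
    (-26) (.split 0 (-15) (.split 4 (-29) (.split 2 24 (.lin 4) (.splitN 837456 (.split 4 (-9297)
    (.div 4) (.split 0 (-4646) (.lin 0) (.split 6 (-4657) (.lin 3) (.split 5 9305 (.split 2 4696
    (.splitN 146112 (.split 0 (-2389) (.div 0) (.split 6 (-2398) (.lin 3) (.split 5 4787 (.split
    1 7 (.wt 2) (.split 3 (-25) (.wt 2) (.splitN 73329 (.split 4 (-261) .sq (.split 0 (-128)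
    (.lin 0) (.split 6 (-139) (.lin 3) (.split 5 260 (.split 2 142 (.splitN 67051 (.split 5 250
    (.split 6 (-130) (.lin 1) (.split 3 (-16) (.splitN 48549 (.wt 6) (.split 2 71 (.wt 0) (.split
    0 (-60) (.split 4 (-119) (.wt 0) (.lin 0)) (.lin 7)))) (.split 2 35 (.split 5 152 (.split 0
    (-25) (.lin 7) (.split 4 (-48) (.lin 0) (.split 6 (-85) (.lin 1) (.split 5 107 (.split 6
    (-62) (.lin 1) (.split 5 80 (.split 6 (-49) (.lin 1) (.split 5 71 (.split 6 (-44) (.lin 1)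
    (.splitN 40259 (.splitN 33244 (.wt 1) (.split 5 44 (.wt 1) (.split 6 (-35) (.split 5 61 (.lin
    1) (.split 2 33 (.lin 2) (.wt 0))) (.lin 1)))) (.wt 1))) (.lin 2))) (.lin 2))) (.lin 2)))))
    (.lin 2)) (.wt 2)))) .sq) (.wt 1)) (.lin 4)) (.lin 1))))) (.wt 1)))) (.lin 1)))) (.wt 3))
    (.lin 4)) (.lin 1))))) (.wt 1))) (.lin 0)) (.lin 3)) (.lin 1)))) (.split 6 (-21) (.split 6
    (-30) (.split 5 34 (.lin 5) (.splitN 366211 (.split 0 (-601) .sq (.split 1 600 (.split 6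
    (-1192) (.lin 3) (.split 5 1790 (.splitN 334683 (.split 2 9290 (.split 2 575 (.split 3
    (-1731) (.lin 2) (.split 3 (-1137) (.lin 4) (.split 3 (-853) (.lin 6) (.split 3 (-570) (.lin
    7) (.splitN 315387 (.split 1 558 (.split 4 (-559) .sq (.split 0 (-277) (.lin 0) (.split 6
    (-832) (.lin 3) (.split 5 1106 (.splitN 300929 (.split 2 543 (.split 3 (-534) (.lin 7)
    (.split 5 544 (.splitN 266278 (.split 5 510 cert2_1_7 .sq) (.wt 1)) .sq)) .sq) (.wt 1)) (.lin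
    5))))) .sq) (.wt 1)))))) .sq) (.div 2)) (.wt 1)) (.lin 5))) .sq)) (.wt 1))) (.lin 3)) (.lin
    1))))) (.wt 2))) (.lin 0)) (.lin 0)) (.split 0 2 (.lin 0) (.split 1 15 (.lin 8) (.split 3
    (-11) (.splitN 605880 (.split 1 16760 (.split 6 (-16753) (.lin 3) (.split 5 16748 (.split 2
    16760 (.split 2 8 (.wt 2) (.split 3 (-20) (.splitN 120290 (.split 1 3260 (.split 6 (-3253)
    (.lin 3) (.split 5 3248 (.split 2 3260 (.split 3 (-4881) (.lin 6) (.split 4 1304 (.splitN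
    10503 (.wt 1) (.split 5 9 (.wt 0) (.split 6 (-17) (.split 1 24 (.lin 8) (.splitN 90792
    (.split 1 294 (.split 6 (-283) (.lin 3) (.split 5 539 (.split 5 278 (.split 2 16 (.wt 2)
    (.split 3 (-29) (.splitN 65819 (.split 1 251 (.split 6 (-247) (.lin 3) (.split 5 242 (.split
    4 232 (.splitN 61998 (.split 1 238 (.split 4 7 (.wt 2) (.split 0 7 (.lin 0) (.split 4 24
    (.lin 0) (.split 3 (-38) (.split 5 206 (.splitN 18565 (.wt 1) (.split 5 17 (.wt 0) (.split 1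
    51 (.lin 8) (.split 2 31 (.wt 2) (.split 3 (-47) (.split 2 38 (.wt 2) (.split 3 (-56) (.split
    2 44 (.wt 2) (.split 3 (-65) (.splitN 48925 (.split 5 29 (.wt 2) (.split 6 (-44) (.split 1 60
    (.lin 8) (.split 4 196 (.split 1 186 (.split 6 (-166) (.lin 3) (.split 5 152 (.split 4 142
    (.split 0 70 (.split 4 133 (.splitN 45937 (.split 2 1190 (.split 2 60 (.wt 2) (.split 3 (-74)
    (.split 2 68 (.wt 2) (.split 3 (-83) (.split 2 76 (.wt 2) (.split 3 (-92) (.split 2 83 (.wt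
    2) (.split 3 (-101) (.split 1 63 (.wt 2) (.split 6 (-53) (.splitN 28088 .sq (.split 5 43 (.wt
    0) (.split 2 91 (.wt 2) (.split 3 (-110) (.splitN 32363 .sq (.split 5 54 (.wt 0) (.split 1 87
    (.lin 8) (.split 6 (-75) (.split 4 115 (.splitN 39491 .sq (.splitN 42704 (.split 4 42 (.wt 0)
    (.split 0 20 (.lin 0) (.split 1 105 (.lin 8) (.split 6 (-84) (.split 3 (-119) .sq (.lin 7))
    (.lin 1))))) (.wt 1))) (.lin 8)) (.lin 1))))) (.lin 7))))) (.lin 1))) (.lin 7))) (.lin 7)))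
    (.lin 7))) (.lin 7))) (.div 2)) (.wt 1)) (.lin 0)) (.lin 0)) (.lin 8)) (.lin 5))) .sq) (.lin
    8))) (.lin 1))) (.wt 1)) (.lin 7))) (.lin 7))) (.lin 7)))))) (.lin 8)) (.lin 7))))) .sq) (.wt
    3)) (.lin 8)) (.lin 5))) .sq) (.wt 1)) (.lin 7))) (.lin 5)) (.lin 1))) .sq) (.wt 1))) (.lin
    1)))) (.div 4))) (.div 2)) (.lin 5))) (.div 1)) (.wt 1)) (.lin 7))) (.div 2)) (.lin 5)))
    (.div 1)) (.wt 3)) (.lin 7)))))

def cert2_1_9 : Cert :=
  (.split 2 (-1) (.split 3 (-1) (.split 1 15 (.lin 4) (.split 0 2 (.lin 7) (.split 4 6 (.lin 0)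
    (.splitN 65978 (.split 0 1092 (.split 4 2185 (.split 1 1820 (.split 6 (-1813) (.lin 3)
    (.split 5 1808 (.split 4 728 (.split 0 363 (.split 2 (-363) (.lin 7) (.split 2 (-5) (.split 6
    (-21) (.split 1 33 (.lin 4) (.split 0 11 (.lin 7) (.split 4 24 (.lin 0) (.splitN 50287
    (.split 1 1370 (.split 6 (-1354) (.lin 3) (.split 5 1340 (.split 3 (-3) (.split 6 (-30)
    (.split 1 51 (.lin 4) (.split 0 20 (.lin 7) (.split 4 42 (.lin 0) (.splitN 47079 (.split 1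
    1280 (.split 6 (-1255) (.lin 3) (.split 5 1232 (.split 0 200 (.split 4 385 (.split 2 (-183)
    (.lin 7) (.split 3 (-183) (.lin 7) (.splitN 46031 (.split 1 1190 (.split 6 (-1165) (.lin 3)
    (.split 5 1142 (.split 1 198 (.split 6 (-670) (.lin 1) (.split 5 647 (.split 6 (-422) (.lin
    1) (.split 5 395 (.split 6 (-296) (.lin 1) (.split 5 269 (.split 6 (-233) (.lin 1) (.split 5
    206 (.split 6 (-202) (.lin 1) (.split 5 179 (.split 6 (-188) (.lin 1) (.split 3 (-165) (.lin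
    2) (.split 2 (-84) (.lin 6) (.split 3 (-84) (.lin 6) (.split 4 187 (.split 5 61 (.splitN
    31874 (.split 1 162 (.split 2 (-66) (.lin 6) (.split 3 (-66) (.lin 6) (.split 4 151 (.split 5
    46 (.splitN 29478 (.split 2 (-12) (.split 6 (-39) (.split 1 69 (.lin 4) (.split 0 29 (.lin 7)
    (.split 4 60 (.lin 0) (.split 3 (-57) (.lin 6) (.splitN 11627 .sq (.split 5 30 (.splitN 23993
    (.split 5 25 (.splitN 19741 (.split 5 16 (.wt 1) (.wt 0)) (.wt 1)) (.wt 0)) (.wt 1)) (.wt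
    0))))))) (.lin 2)) (.wt 2)) (.wt 1)) (.wt 0)) (.lin 8)))) .sq) (.wt 1)) (.wt 2)) (.lin
    8)))))) (.lin 2))) (.lin 2))) (.lin 2))) (.lin 2))) (.lin 2))) .sq) (.lin 2))) (.div 1)) (.wt
    1)))) (.lin 0)) .sq) (.lin 2))) (.div 1)) (.wt 1))))) (.lin 2)) (.wt 0)) (.lin 2))) (.div 1))
    (.wt 1))))) (.lin 2)) (.wt 2))) (.lin 0)) (.div 4)) (.lin 2))) (.div 1)) (.lin 0)) (.div 0))
    (.wt 1))))) cert2_1_5) (.split 3 (-1) cert2_1_8 (.split 5 25 (.lin 2) (.split 0 (-15) (.split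
    4 (-29) (.split 6 (-17) (.split 5 34 (.lin 2) (.splitN 144554 (.split 1 3980 (.split 4
    (-1593) (.div 4) (.split 0 (-794) (.lin 0) (.split 6 (-4765) (.lin 3) (.split 5 5552 (.split
    2 781 (.split 3 781 (.splitN 29233 (.wt 1) (.splitN 78781 (.split 4 (-873) (.div 4) (.split 0
    (-434) (.lin 0) (.split 2 421 (.split 3 421 (.split 5 2180 (.split 1 14 (.wt 0) (.split 6
    (-26) (.split 5 43 (.lin 2) (.splitN 31856 (.wt 1) (.split 1 17 (.wt 0) (.split 6 (-35)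
    (.split 2 19 (.wt 0) (.split 5 70 (.lin 2) (.split 0 (-33) (.split 4 (-65) (.split 6 (-48)
    (.split 5 79 (.lin 2) (.split 6 (-53) (.split 5 88 (.lin 2) (.splitN 71439 (.split 4 (-765)
    (.div 4) (.split 0 (-380) (.lin 0) (.split 2 367 (.split 5 1910 (.splitN 38153 (.wt 1)
    (.splitN 59503 (.split 4 (-657) (.div 4) (.split 0 (-326) (.lin 0) (.split 2 313 (.split 3
    295 (.split 5 1640 (.splitN 58627 (.split 4 (-621) (.div 4) (.split 0 (-308) (.lin 0) (.split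
    2 295 (.split 3 277 (.split 5 1550 (.split 1 36 (.wt 0) (.split 6 (-66) (.split 5 97 (.lin 2)
    (.split 6 (-71) (.split 5 106 (.lin 2) (.splitN 39713 (.wt 1) (.split 1 44 (.wt 0) (.split 6
    (-80) (.split 5 115 (.lin 2) (.split 2 39 (.wt 0) (.split 5 133 (.lin 2) (.split 0 (-51)
    (.split 4 (-101) (.split 6 (-93) (.split 5 142 (.lin 2) (.split 6 (-98) (.split 5 151 (.lin
    2) (.split 3 259 (.splitN 50912 .sq (.splitN 54913 (.split 4 (-585) (.div 4) (.split 0 (-290)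
    (.lin 0) (.split 2 277 (.split 3 241 (.split 1 152 (.wt 0) (.split 6 (-156) (.split 5 205
    (.lin 2) (.split 6 (-183) (.split 5 232 (.lin 2) (.split 6 (-197) .sq (.lin 1))) (.lin 1)))
    (.lin 1))) (.lin 7)) (.lin 7)))) (.wt 3))) (.lin 7))) (.lin 1))) (.lin 1)) (.lin 0)) (.lin
    7))))) (.lin 1))))) (.lin 1))) (.lin 1))) (.div 5)) (.lin 7)) (.lin 7)))) (.wt 3)) (.div 5))
    (.lin 7)) (.lin 7)))) (.wt 3))) (.div 5)) (.lin 7)))) (.wt 0))) (.lin 1))) (.lin 1)) (.lin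
    0)) (.lin 7)))) (.lin 1))))) (.lin 1))) (.div 5)) (.lin 7)) (.lin 7)))) (.wt 3))) (.lin 7))
    (.lin 7)) (.lin 5))))) (.div 1)) (.wt 0))) (.lin 1)) (.lin 0)) (.lin 7)))))

def cert2_1 : Cert :=
  (.split 1 (-1) (.split 4 (-11) cert2_1_2 (.lin 8)) (.split 6 (-8) cert2_1_9 (.lin 1)))

theorem check2_1 :
    check task2 cert2_1
      [(3, ⟨none, none⟩), (7, ⟨none, none⟩), (7, ⟨none, none⟩), (7, ⟨none, none⟩), (7, ⟨none, none⟩), (8, ⟨some (8), none⟩), (6, ⟨none, none⟩)] ⟨some (720), none⟩ = true := by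
  decide +kernel

end Cfsg.Agent.EightLocal
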