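import Cfsg.Agent.Lib.EightLocal.Cases3P0

/-!
# The search of family 3
-/

set_option autoImplicit false
set_option maxRecDepth 20000
set_option Elab.async false

namespace Cfsg.Agent.EightLocal

open Cfsg.Agent.SelfNine

theorem found3 {n : ℤ} {f : List ℤ}
    (hf : Fits f [(3, ⟨none, none⟩), (7, ⟨none, none⟩), (7, ⟨none, none⟩), (7, ⟨none, none⟩), (7, ⟨none, none⟩), (8, ⟨none, none⟩), (6, ⟨none, none⟩)])
    (hs : Sol task3 n f) : (n, f) ∈ task3.allowed :=
  check_sound _ (.split 5 (-1) cert3_0 cert3_1) _ ⟨some (720), none⟩ n f hf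
    ⟨fun l hl => by cases hl; exact hs.pos, fun l hl => nomatch hl⟩ hs
    (check_split_of check3_0 check3_1)

end Cfsg.Agent.EightLocal
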