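import Cfsg.Agent.Lib.EightLocal.Task3

/-!
# Search trees of family 3, part 0
-/

set_option autoImplicit false
set_option maxRecDepth 20000
set_option Elab.async false

namespace Cfsg.Agent.EightLocal

open Cfsg.Agent.SelfNine

def cert3_0_0 : Cert :=
  (.split 4 (-1) (.split 4 (-4) (.split 3 15 (.lin 7) (.splitN 103950 (.split 1 (-1125) (.div 1)
    (.split 6 1113 (.split 5 (-1109) (.lin 5) (.split 3 1124 (.split 4 (-1119) (.lin 7) (.splitN
    42940 (.split 1 (-477) (.div 1) (.split 6 465 (.split 5 (-461) (.lin 5) (.split 2 (-462)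
    (.lin 6) (.split 3 476 (.split 4 (-471) (.lin 7) (.wt 2)) (.div 3)))) (.lin 3))) (.wt 6)))
    (.div 3))) (.lin 3))) (.wt 1))) (.wt 0)) (.split 6 23 (.lin 2) (.split 1 (-38) (.split 0
    (-15) (.split 2 (-29) (.splitN 50696 (.split 1 (-549) (.div 1) (.split 0 (-520) (.lin 3)
    (.split 2 (-1038) (.lin 0) (.split 6 528 (.split 5 (-515) (.lin 2) (.split 2 (-534) (.lin 6)
    (.split 0 (-268) (.lin 0) (.split 3 259 (.splitN 46950 (.split 1 (-513) (.div 1) (.split 6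
    492 (.split 5 (-479) (.lin 2) (.split 2 (-498) (.lin 6) (.split 0 (-250) (.lin 0) (.split 4
    241 (.split 5 (-22) (.split 6 32 (.lin 1) (.split 1 (-47) (.split 1 (-56) (.split 6 41 (.lin
    1) (.splitN 45120 (.split 1 (-477) (.div 1) (.split 6 456 (.split 5 (-443) (.lin 2) (.split 0
    (-191) .sq (.split 2 (-372) (.lin 0) (.split 1 (-198) .sq (.split 6 316 (.split 5 (-299)
    (.lin 2) (.split 6 244 (.split 5 (-227) (.lin 2) (.split 6 208 (.split 5 (-191) (.lin 2)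
    (.split 6 190 (.split 5 (-173) (.lin 2) (.split 2 (-165) (.lin 6) (.split 0 (-83) (.lin 0)
    (.split 3 70 (.split 4 70 (.splitN 38661 (.split 1 (-181) .sq (.split 6 168 (.split 5 (-155)
    (.lin 2) (.split 6 163 (.split 5 (-146) (.lin 2) (.split 2 (-147) (.lin 6) (.split 0 (-74)
    (.lin 0) (.split 2 (-138) (.lin 0) (.split 3 61 (.split 4 61 (.split 3 20 (.splitN 32610
    (.split 1 (-162) .sq (.split 6 150 (.split 5 (-137) (.lin 2) (.split 6 145 (.split 5 (-128)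
    (.lin 2) (.split 2 (-129) (.lin 6) (.split 0 (-65) (.lin 0) (.split 4 52 (.split 4 19 (.split
    0 (-34) (.lin 7) (.split 2 (-66) (.lin 0) (.splitN 27803 (.split 1 (-152) .sq (.split 6 136
    (.split 5 (-119) (.lin 2) (.split 5 (-58) (.split 1 (-92) (.split 6 77 (.lin 1) (.splitN
    19808 .sq (.split 1 (-124) .sq (.split 6 118 (.split 5 (-101) (.lin 2) (.split 6 109 (.split
    5 (-92) (.lin 2) (.split 2 (-57) (.lin 6) (.split 0 (-29) (.lin 0) (.split 2 (-48) (.lin 0)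
    (.splitN 26088 (.split 1 (-110) .sq (.split 2 (-39) (.lin 6) (.split 0 (-20) (.lin 0) (.split
    3 7 (.split 4 7 (.wt 0) (.lin 7)) (.lin 7))))) (.wt 1)))))) (.lin 1))) (.lin 1))))) (.lin 6))
    (.split 3 11 (.split 0 (-25) (.lin 7) (.split 2 (-48) (.lin 0) (.splitN 21124 (.split 4 13
    (.split 6 69 (.split 1 (-84) (.lin 4) (.split 0 (-16) (.lin 7) (.split 2 (-30) (.lin 0)
    (.splitN 19751 (.wt 3) (.wt 0))))) (.lin 2)) (.wt 0)) (.wt 1)))) (.splitN 20346 (.wt 0) (.wt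
    6))))) (.lin 1))) (.wt 1)))) (.split 5 (-110) (.lin 2) (.split 0 (-33) (.split 2 (-65)
    (.split 1 (-92) (.split 6 132 (.split 5 (-101) (.lin 2) (.split 6 127 (.split 5 (-92) (.lin
    2) (.splitN 21249 (.wt 3) (.split 3 13 (.splitN 24885 (.split 5 (-55) (.split 6 77 (.lin 1)
    (.split 1 (-110) (.split 6 86 (.lin 1) .sq) (.lin 4))) (.wt 1)) (.wt 1)) (.wt 0)))) (.lin
    1))) (.lin 1)) (.lin 6)) (.lin 0)) (.lin 7)))) (.lin 7))))) (.lin 1))) (.lin 1))) (.wt 1))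
    (.split 5 (-128) (.lin 2) (.split 0 (-33) (.split 2 (-65) (.split 1 (-92) (.split 6 150
    (.split 5 (-119) (.lin 2) (.split 6 145 (.split 5 (-110) (.lin 2) (.split 4 43 (.splitN 34935
    (.splitN 20987 (.wt 3) (.split 4 18 (.splitN 31167 (.split 4 14 (.splitN 25528 (.split 5
    (-52) (.split 6 77 (.lin 1) (.split 1 (-110) (.split 6 86 (.lin 1) .sq) (.lin 4))) (.wt 1))
    (.wt 1)) (.wt 0)) (.wt 1)) (.wt 0))) (.wt 1)) (.lin 7))) (.lin 1))) (.lin 1)) (.lin 6)) (.lin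
    0)) (.lin 7)))) (.lin 7)) (.lin 7)))))) (.lin 1))) (.lin 1))) (.wt 1)) (.lin 7)) (.lin 7)))))
    (.lin 1))) (.lin 1))) (.lin 1))) (.lin 1)))))) (.lin 3))) (.wt 1))) (.lin 6)) (.lin 4))) (.wt
    2)) (.lin 7))))) (.lin 3))) (.wt 1)) (.lin 7))))) (.lin 3))))) (.wt 1)) (.lin 0)) (.lin 7))
    (.lin 4))))

def cert3_0_1 : Cert :=
  (.split 1 (-255) (.lin 6) (.split 2 259 (.split 4 17 (.splitN 64145 (.split 2 241 (.split 0 120
    (.split 3 (-138) (.lin 7) (.split 5 (-245) .sq (.split 2 223 (.split 0 111 (.split 3 (-129)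
    (.lin 7) (.split 4 11 (.split 3 (-120) (.lin 7) (.split 2 26 (.wt 2) (.split 0 16 (.lin 0)
    (.split 6 41 (.lin 3) (.split 5 (-64) (.split 3 (-29) (.split 2 45 (.wt 2) (.split 0 25 (.lin
    0) (.split 6 50 (.lin 3) (.split 5 (-82) (.split 3 (-38) (.splitN 26863 (.wt 1) (.split 2 76
    (.wt 2) (.split 0 38 (.lin 0) (.split 6 59 (.lin 3) (.split 5 (-100) (.split 3 (-47) (.splitN
    32773 (.split 1 (-29) (.wt 0) (.wt 1)) (.wt 3)) (.lin 7)) (.lin 5)))))) (.lin 7)) (.lin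
    5))))) (.lin 7)) (.lin 5)))))) (.split 3 (-29) (.splitN 58330 (.split 5 (-230) .sq (.split 1
    (-201) (.lin 6) (.split 2 68 (.split 0 30 (.split 3 (-48) (.lin 7) (.split 5 (-102) (.split 6
    64 (.lin 1) (.split 1 (-38) (.splitN 37496 (.wt 1) (.split 2 29 (.wt 0) (.split 0 16 (.lin 0)
    (.split 2 42 (.lin 0) (.split 3 (-38) (.splitN 44727 .cand (.wt 1)) (.lin 7)))))) (.lin 4)))
    (.split 6 150 (.split 1 (-138) (.lin 4) (.split 1 (-75) (.lin 6) (.split 2 46 (.split 0 21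
    (.split 3 (-39) (.lin 7) (.split 5 (-50) (.split 1 (-39) (.split 6 50 (.lin 1) (.split 5
    (-64) (.split 6 55 (.lin 1) (.split 5 (-73) (.split 2 27 (.wt 2) (.split 0 16 (.lin 0)
    (.split 2 42 (.lin 0) (.split 3 (-38) (.splitN 41681 (.wt 0) (.wt 1)) (.lin 7))))) (.lin 2)))
    (.lin 2))) (.split 6 69 (.split 5 (-92) (.lin 2) (.split 6 64 (.split 5 (-83) (.lin 2)
    (.split 2 32 (.split 0 12 (.split 1 (-29) (.split 6 51 (.split 5 (-74) (.lin 1) (.split 3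
    (-30) (.lin 7) (.splitN 42429 (.wt 0) (.splitN 44290 (.split 1 (-36) (.split 6 46 (.lin 1)
    (.split 5 (-64) (.wt 0) (.lin 1))) (.wt 0)) (.wt 1))))) (.lin 3)) (.lin 6)) (.lin 0)) (.wt
    2))) (.lin 1))) (.lin 1))) (.wt 2))) (.lin 0)) (.wt 2)))) (.lin 1)))) (.lin 0)) (.split 0 34
    (.lin 0) (.split 2 78 (.lin 0) (.split 6 59 (.lin 3) (.split 5 (-100) (.split 3 (-56)
    (.splitN 46000 (.split 1 (-30) (.split 6 68 (.lin 1) (.split 5 (-109) (.split 6 73 (.lin 1)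
    (.split 5 (-118) (.splitN 41968 (.split 1 (-40) (.split 6 82 (.lin 1) (.split 5 (-127)
    (.splitN 37061 .sq (.split 5 (-138) (.split 6 95 (.lin 1) .sq) (.wt 1))) (.lin 2))) (.wt 0))
    (.wt 1)) (.lin 2))) (.lin 2))) (.wt 0)) (.wt 1)) (.lin 7)) (.lin 5)))))))) (.wt 1)) (.lin
    7)))) (.lin 0)) (.lin 6)))) (.lin 0)) .sq) (.wt 1)) (.split 3 (-38) (.splitN 70336 (.split 2
    103 (.split 0 48 (.split 3 (-93) (.lin 7) (.split 2 87 (.split 0 39 (.split 3 (-84) (.lin 7)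
    (.split 5 (-49) (.split 6 37 (.lin 1) (.split 5 (-253) .sq (.split 1 (-219) (.lin 6) (.split
    2 77 (.split 0 34 (.split 2 61 (.split 3 (-75) (.lin 7) (.split 5 (-116) (.split 1 (-56)
    (.split 6 86 (.lin 1) (.splitN 39746 (.wt 1) (.split 2 27 (.wt 2) (.split 0 16 (.lin 0)
    (.split 2 42 (.lin 0) (.split 3 (-47) (.splitN 51209 (.split 1 (-151) .sq (.split 5 (-184)
    .sq (.split 1 (-138) (.lin 6) (.split 2 60 (.split 0 25 (.split 2 43 (.split 1 (-74) (.split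
    3 (-66) (.lin 7) (.splitN 48986 (.split 4 42 (.split 3 (-57) (.lin 7) (.split 5 (-119)
    (.split 6 100 (.lin 1) (.split 1 (-118) .sq (.split 6 132 (.split 5 (-155) (.lin 5) (.split 4
    32 (.split 3 (-48) (.lin 7) (.splitN 45118 (.wt 1) (.wt 0))) (.wt 2))) (.lin 3)))) (.wt 6)))
    (.wt 3)) (.wt 1))) (.lin 6)) (.lin 0)) (.lin 0)) (.wt 2))))) (.wt 1)) (.lin 7))))))) (.lin
    6)) (.split 1 (-84) (.lin 6) (.split 2 41 (.split 0 16 (.split 2 25 (.split 3 (-57) (.lin 7)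
    (.splitN 40095 (.wt 1) (.split 5 (-57) (.split 1 (-38) (.splitN 54697 .cand (.wt 1)) (.lin
    6)) (.wt 2)))) (.lin 0)) (.lin 0)) (.wt 2))))) (.lin 0)) (.lin 0)) (.wt 2))))) (.wt 2)))
    (.lin 0)) (.wt 2))) (.lin 0)) (.wt 2)) (.wt 1)) (.lin 7))) (.lin 6)))

def cert3_0_2 : Cert :=
  (.split 4 (-1) (.split 3 (-3) (.split 0 11 (.lin 7) (.split 2 24 (.lin 0) (.split 4 (-8)
    (.split 0 20 (.lin 7) (.split 2 42 (.lin 0) (.splitN 139320 (.split 0 4560 (.split 3 (-4548)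
    (.lin 7) (.split 1 (-1521) (.div 1) (.split 2 3800 (.split 0 1897 (.split 3 (-1884) (.lin 7)
    (.split 4 (-1884) (.lin 7) (.split 5 (-3041) (.div 5) (.splitN 116237 (.split 4 (-1269) (.div
    4) (.split 5 (-2537) (.div 5) (.split 3 (-16) (.split 0 29 (.lin 7) (.split 2 60 (.lin 0)
    (.splitN 55085 (.split 1 (-585) (.div 1) (.split 3 (-585) (.div 3) (.split 4 (-585) (.div 4)
    (.split 5 (-1169) (.div 5) (.wt 2))))) (.wt 6)))) (.wt 0)))) (.wt 6))))) (.lin 0)) (.div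
    2)))) (.div 0)) (.wt 6)))) (.wt 0)))) (.wt 0)) (.split 3 (-11) (.split 1 (-12) (.split 6 23
    (.lin 3) (.split 5 (-28) (.split 2 7 (.wt 2) (.split 0 7 (.lin 0) (.split 2 24 (.lin 0)
    (.split 6 32 (.lin 3) (.split 5 (-46) (.split 3 (-20) (.splitN 113400 (.split 1 (-327) .sq
    (.split 2 326 (.split 0 160 (.split 6 483 (.split 5 (-641) (.lin 5) (.splitN 105907 (.split 3
    (-317) .sq (.split 4 745 (.split 4 295 (.split 5 (-319) .sq (.split 1 (-291) (.lin 6)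
    (.splitN 97718 (.split 5 (-304) .sq (.split 1 (-273) (.lin 6) (.split 2 277 (.split 0 138
    (.split 4 45 (.split 3 (-183) (.lin 7) (.splitN 82968 (.split 5 (-282) .sq cert3_0_1) (.wt
    1))) (.split 3 (-65) (.splitN 74887 (.split 5 (-55) (.split 6 37 (.lin 1) (.split 1 (-244)
    .sq (.split 5 (-56) (.split 3 (-250) .sq (.split 5 (-250) .sq (.split 2 59 (.split 0 25
    (.split 2 43 (.split 1 (-67) (.split 6 86 (.lin 3) (.split 5 (-100) (.split 2 25 (.wt 2)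
    (.split 0 16 (.lin 0) (.split 2 42 (.lin 0) (.split 3 (-74) (.split 5 (-129) (.split 1 (-92)
    (.split 6 113 (.lin 1) (.splitN 50426 .sq (.wt 1))) (.lin 6)) (.wt 2)) (.lin 7))))) (.lin
    5))) (.split 6 87 (.split 5 (-110) (.lin 5) (.splitN 40043 (.wt 1) (.split 2 34 (.split 0 16
    (.split 2 25 (.split 1 (-38) (.split 6 78 (.split 5 (-92) (.lin 5) (.splitN 54897 .cand (.wt
    1))) (.lin 3)) (.lin 6)) (.lin 0)) (.lin 0)) (.wt 2)))) (.lin 3))) (.lin 0)) (.lin 0)) (.wt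
    2)))) (.wt 2)))) (.wt 2)) (.wt 1)) (.lin 7))) (.lin 0)) (.lin 6)))) (.wt 1)))) (.lin 7))
    (.lin 2))) (.wt 1))) (.lin 3)) (.lin 0)) .sq)) (.wt 1)) (.lin 7)) (.lin 5)))))) (.lin 5)))
    (.split 5 (-11) (.split 1 (-5) (.split 2 22 (.split 0 7 (.split 2 7 (.split 6 15 (.split 5
    (-20) (.lin 1) (.splitN 113245 (.split 3 (-1233) (.div 3) (.split 4 1222 (.splitN 34045 (.wt
    1) (.split 4 7 (.wt 0) (.split 3 (-20) (.splitN 100346 (.split 3 (-1089) (.div 3) (.split 4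
    1078 (.splitN 53287 (.wt 6) (.split 3 (-56) (.wt 0) (.split 4 43 (.wt 2) (.lin 2)))) (.lin
    2))) (.wt 0)) (.lin 2)))) (.lin 2))) (.wt 1))) (.lin 3)) (.lin 0)) (.lin 0)) (.split 0 11
    (.lin 0) (.split 6 23 (.lin 3) (.split 3 (-20) (.splitN 191908 (.split 2 5330 (.split 0 2662
    (.split 6 2670 (.split 5 (-5330) (.lin 1) (.split 3 (-2133) (.div 3) (.split 5 (-4790) (.lin
    2) (.split 6 2400 (.split 5 (-4520) (.lin 2) (.split 4 107 (.split 5 (-39) (.split 6 28 (.lin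
    1) (.split 0 20 (.lin 3) (.split 2 42 (.lin 0) (.split 3 (-29) (.splitN 106023 (.split 3
    (-1161) (.div 3) (.split 0 1146 (.split 6 1158 (.split 4 30 (.splitN 82609 (.split 3 (-909)
    (.div 3) (.split 5 (-2054) (.lin 2) (.split 6 1032 (.split 5 (-1928) (.lin 2) (.split 4 15
    (.split 5 (-65) (.split 6 41 (.lin 1) (.split 0 29 (.lin 3) (.split 2 60 (.lin 0) (.split 5
    (-89) (.split 6 50 (.lin 1) (.split 0 38 (.lin 3) (.split 2 78 (.lin 0) (.split 3 (-47)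
    (.splitN 42137 (.split 5 (-112) (.split 6 64 (.lin 1) (.split 0 56 (.lin 3) (.split 2 114
    (.lin 0) (.split 5 (-127) (.split 3 (-65) .sq (.lin 4)) (.lin 1))))) (.wt 2)) (.wt 1)) (.lin
    4))))) (.wt 2))))) (.wt 2)) (.wt 2))) (.lin 1)))) (.wt 1)) (.wt 0)) (.lin 3)) (.lin 7))) (.wt
    1)) (.lin 4))))) (.wt 2)) (.wt 2))) (.lin 1))))) (.lin 3)) (.lin 0)) (.div 2)) (.wt 1)) (.lin
    4))))) (.wt 0)) (.wt 2))) (.lin 7)))

def cert3_0_3 : Cert :=
  (.split 1 (-255) (.lin 6) (.split 2 259 (.split 3 17 (.splitN 64145 (.split 2 241 (.split 0 120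
    (.split 4 (-138) (.lin 7) (.split 5 (-245) .sq (.split 2 223 (.split 0 111 (.split 4 (-129)
    (.lin 7) (.split 3 11 (.split 4 (-120) (.lin 7) (.split 2 26 (.wt 2) (.split 0 16 (.lin 0)
    (.split 6 41 (.lin 3) (.split 5 (-64) (.split 4 (-29) (.split 2 45 (.wt 2) (.split 0 25 (.lin
    0) (.split 6 50 (.lin 3) (.split 5 (-82) (.split 4 (-38) (.splitN 26863 (.wt 1) (.split 2 76
    (.wt 2) (.split 0 38 (.lin 0) (.split 6 59 (.lin 3) (.split 5 (-100) (.split 4 (-47) (.splitN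
    32773 (.split 1 (-29) (.wt 0) (.wt 1)) (.wt 3)) (.lin 7)) (.lin 5)))))) (.lin 7)) (.lin
    5))))) (.lin 7)) (.lin 5)))))) (.split 4 (-29) (.splitN 58330 (.split 5 (-230) .sq (.split 1
    (-201) (.lin 6) (.split 2 68 (.split 0 30 (.split 4 (-48) (.lin 7) (.split 5 (-102) (.split 6
    64 (.lin 1) (.split 1 (-38) (.splitN 37496 (.wt 1) (.split 2 29 (.wt 0) (.split 0 16 (.lin 0)
    (.split 2 42 (.lin 0) (.split 4 (-38) (.splitN 44727 .cand (.wt 1)) (.lin 7)))))) (.lin 4)))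
    (.split 6 150 (.split 1 (-138) (.lin 4) (.split 1 (-75) (.lin 6) (.split 2 46 (.split 0 21
    (.split 4 (-39) (.lin 7) (.split 5 (-50) (.split 1 (-39) (.split 6 50 (.lin 1) (.split 5
    (-64) (.split 6 55 (.lin 1) (.split 5 (-73) (.split 2 27 (.wt 2) (.split 0 16 (.lin 0)
    (.split 2 42 (.lin 0) (.split 4 (-38) (.splitN 41681 (.wt 0) (.wt 1)) (.lin 7))))) (.lin 2)))
    (.lin 2))) (.split 6 69 (.split 5 (-92) (.lin 2) (.split 6 64 (.split 5 (-83) (.lin 2)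
    (.split 2 32 (.split 0 12 (.split 1 (-29) (.split 6 51 (.split 5 (-74) (.lin 1) (.split 4
    (-30) (.lin 7) (.splitN 42429 (.wt 0) (.splitN 44290 (.split 1 (-36) (.split 6 46 (.lin 1)
    (.split 5 (-64) (.wt 0) (.lin 1))) (.wt 0)) (.wt 1))))) (.lin 3)) (.lin 6)) (.lin 0)) (.wt
    2))) (.lin 1))) (.lin 1))) (.wt 2))) (.lin 0)) (.wt 2)))) (.lin 1)))) (.lin 0)) (.split 0 34
    (.lin 0) (.split 2 78 (.lin 0) (.split 6 59 (.lin 3) (.split 5 (-100) (.split 4 (-56)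
    (.splitN 46000 (.split 1 (-30) (.split 6 68 (.lin 1) (.split 5 (-109) (.split 6 73 (.lin 1)
    (.split 5 (-118) (.splitN 41968 (.split 1 (-40) (.split 6 82 (.lin 1) (.split 5 (-127)
    (.splitN 37061 .sq (.split 5 (-138) (.split 6 95 (.lin 1) .sq) (.wt 1))) (.lin 2))) (.wt 0))
    (.wt 1)) (.lin 2))) (.lin 2))) (.wt 0)) (.wt 1)) (.lin 7)) (.lin 5)))))))) (.wt 1)) (.lin
    7)))) (.lin 0)) (.lin 6)))) (.lin 0)) .sq) (.wt 1)) (.split 4 (-38) (.splitN 70336 (.split 2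
    103 (.split 0 48 (.split 4 (-93) (.lin 7) (.split 2 87 (.split 0 39 (.split 4 (-84) (.lin 7)
    (.split 5 (-49) (.split 6 37 (.lin 1) (.split 5 (-253) .sq (.split 1 (-219) (.lin 6) (.split
    2 77 (.split 0 34 (.split 2 61 (.split 4 (-75) (.lin 7) (.split 5 (-116) (.split 1 (-56)
    (.split 6 86 (.lin 1) (.splitN 39746 (.wt 1) (.split 2 27 (.wt 2) (.split 0 16 (.lin 0)
    (.split 2 42 (.lin 0) (.split 4 (-47) (.splitN 51209 (.split 1 (-151) .sq (.split 5 (-184)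
    .sq (.split 1 (-138) (.lin 6) (.split 2 60 (.split 0 25 (.split 2 43 (.split 1 (-74) (.split
    4 (-66) (.lin 7) (.splitN 48986 (.split 3 42 (.split 4 (-57) (.lin 7) (.split 5 (-119)
    (.split 6 100 (.lin 1) (.split 1 (-118) .sq (.split 6 132 (.split 5 (-155) (.lin 5) (.split 3
    32 (.split 4 (-48) (.lin 7) (.splitN 45118 (.wt 1) (.wt 0))) (.wt 2))) (.lin 3)))) (.wt 6)))
    (.wt 3)) (.wt 1))) (.lin 6)) (.lin 0)) (.lin 0)) (.wt 2))))) (.wt 1)) (.lin 7))))))) (.lin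
    6)) (.split 1 (-84) (.lin 6) (.split 2 41 (.split 0 16 (.split 2 25 (.split 4 (-57) (.lin 7)
    (.splitN 40095 (.wt 1) (.split 5 (-57) (.split 1 (-38) (.splitN 54697 .cand (.wt 1)) (.lin
    6)) (.wt 2)))) (.lin 0)) (.lin 0)) (.wt 2))))) (.lin 0)) (.lin 0)) (.wt 2))))) (.wt 2)))
    (.lin 0)) (.wt 2))) (.lin 0)) (.wt 2)) (.wt 1)) (.lin 7))) (.lin 6)))

def cert3_0_4 : Cert :=
  (.split 5 (-67) (.split 2 78 (.lin 6) (.split 0 38 (.lin 0) (.split 3 (-47) (.split 4 214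
    (.split 1 7 (.wt 2) (.split 2 87 (.lin 6) (.split 0 43 (.lin 0) (.split 2 96 (.lin 0) (.split
    3 (-56) (.splitN 45424 (.split 4 8 (.wt 2) (.split 3 (-65) (.splitN 26956 (.wt 1) (.split 2
    174 (.split 0 84 (.split 1 79 (.split 6 69 (.split 5 (-155) (.lin 5) (.splitN 42787 (.split 2
    164 (.split 0 79 (.split 2 151 (.split 6 60 (.split 5 (-137) (.lin 5) (.split 3 (-149) .sq
    (.split 4 97 (.split 4 39 (.split 3 (-111) (.lin 7) (.splitN 38461 (.split 1 33 (.split 6 23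
    (.lin 1) (.splitN 35376 (.split 2 142 (.split 0 70 (.split 6 51 (.split 5 (-119) (.lin 5)
    (.split 3 (-102) (.lin 7) (.split 4 25 (.split 1 20 (.split 6 28 (.lin 1) (.split 5 (-82)
    (.wt 0) (.lin 1))) .cand) (.split 3 (-74) (.splitN 30047 (.wt 1) (.split 1 16 (.wt 0) (.split
    6 46 (.split 5 (-110) (.lin 1) (.wt 0)) (.lin 1)))) (.lin 4))))) (.lin 3)) (.lin 0)) .sq)
    (.wt 1))) (.split 6 42 (.split 5 (-119) (.lin 5) (.split 2 105 (.lin 6) (.split 0 52 (.lin 0)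
    (.split 2 114 (.lin 0) (.split 3 (-74) (.splitN 29894 (.wt 1) (.split 4 31 (.splitN 36137
    (.split 4 22 (.split 3 (-93) (.lin 7) (.split 1 34 (.wt 0) (.split 6 37 (.split 5 (-110)
    (.lin 2) (.split 1 55 (.wt 1) (.split 0 65 (.lin 3) (.split 2 132 (.lin 0) (.split 3 (-83)
    .sq (.lin 4)))))) (.lin 1)))) (.wt 0)) (.wt 1)) (.wt 0))) (.lin 7)))))) (.lin 3))) (.wt 1)))
    (.split 3 (-92) (.splitN 30205 (.wt 1) (.split 1 45 (.split 6 14 (.lin 1) (.splitN 39208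
    (.split 1 32 (.split 5 (-76) (.split 6 28 (.lin 1) (.split 2 125 (.split 0 61 (.split 6 42
    (.split 5 (-101) (.lin 5) (.splitN 35823 (.split 1 21 (.split 4 51 (.wt 0) (.split 3 (-101)
    (.split 4 54 (.wt 0) (.split 3 (-110) .sq (.lin 4))) (.lin 4))) (.wt 0)) (.wt 1))) (.lin 3))
    (.lin 0)) .sq)) (.wt 2)) (.wt 0)) (.wt 1))) (.wt 0))) (.lin 7))) (.lin 7)))) (.lin 3)) (.lin
    0)) (.lin 0)) .sq) (.wt 1))) (.lin 3)) (.lin 3)) (.lin 0)) .sq)) (.lin 7))) (.wt 1)) (.lin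
    7)))))) (.lin 7)) (.lin 7)))) (.split 1 52 (.split 2 115 (.split 6 28 (.splitN 48075 (.split
    3 (-212) .sq (.split 4 196 (.split 5 (-35) (.split 2 42 (.lin 6) (.split 0 20 (.lin 0)
    (.split 3 (-29) (.splitN 41495 (.split 3 (-190) .sq (.split 4 169 (.split 4 160 (.split 4 33
    (.split 3 (-84) (.lin 2) (.split 1 19 (.split 6 10 (.lin 1) (.splitN 32266 (.split 4 7 (.wt
    2) (.split 3 (-38) (.splitN 21305 (.wt 1) (.split 1 11 (.wt 0) .cand)) (.lin 4))) (.wt 1)))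
    (.split 6 19 (.split 0 29 (.lin 3) (.split 2 60 (.lin 0) (.split 3 (-38) (.splitN 21889 (.wt
    1) (.split 4 21 (.split 3 (-75) (.lin 2) (.splitN 32640 (.split 4 11 (.split 1 27 (.wt 0)
    (.split 5 (-46) (.split 3 (-47) (.wt 0) (.lin 4)) (.lin 1))) (.split 3 (-47) (.splitN 27768
    (.wt 0) (.split 1 33 (.split 5 (-56) (.lin 1) (.wt 1)) (.wt 0))) (.lin 4))) (.wt 1))) (.wt
    2))) (.lin 4)))) (.lin 1)))) (.split 3 (-56) (.split 1 35 (.split 1 15 (.split 0 30 (.split 2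
    61 (.splitN 24499 (.wt 6) (.wt 0)) (.lin 0)) (.lin 3)) (.split 2 51 (.lin 6) (.split 0 25
    (.lin 0) (.split 2 60 (.lin 0) (.split 3 (-65) (.splitN 36269 (.split 1 24 (.splitN 32798
    (.split 3 (-75) (.split 4 42 (.lin 4) (.wt 3)) (.wt 0)) (.wt 1)) (.wt 0)) (.wt 1)) (.lin
    7)))))) (.wt 2)) (.lin 7))) (.lin 7)) (.lin 2))) (.wt 1)) (.lin 7)))) (.split 1 16 (.split 2
    43 (.split 6 10 (.split 4 32 (.split 3 (-48) (.lin 2) (.split 4 13 (.splitN 22761 (.split 5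
    (-28) (.wt 6) (.split 1 7 (.split 2 25 (.wt 0) (.lin 8)) (.lin 1))) (.wt 1)) (.split 1 15
    (.split 5 (-20) (.lin 1) (.split 3 (-39) (.lin 2) (.splitN 20374 (.wt 0) (.wt 1)))) (.wt
    2)))) (.split 3 (-47) (.splitN 29024 (.split 1 13 (.split 5 (-20) (.lin 1) (.splitN 21784
    (.wt 0) (.wt 1))) (.wt 0)) (.wt 1)) (.lin 2))) (.lin 1)) (.lin 8)) (.lin 1))) (.lin 4))) (.wt
    1)) (.lin 1)) (.lin 8)) (.lin 1)))

def cert3_0_5 : Cert :=
  (.split 4 (-1) (.split 3 (-3) (.split 4 (-3) (.split 0 20 (.lin 7) (.split 2 42 (.lin 0)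
    (.splitN 289940 (.splitN 20756 (.wt 3) (.split 5 (-30) (.split 0 534 (.split 2 1069 (.split 1
    1033 (.split 6 528 (.split 5 (-1064) (.lin 5) (.split 3 (-525) (.lin 7) (.split 4 (-525)
    (.lin 7) (.splitN 258654 (.split 1 502 (.split 2 504 (.split 0 250 (.split 6 240 (.split 5
    (-488) (.lin 5) (.split 3 (-237) (.lin 7) (.split 4 (-237) (.lin 7) (.splitN 229226 (.split 2
    474 (.split 0 232 (.split 6 (-1) (.split 1 42 (.lin 1) (.split 2 78 (.lin 8) (.split 5 (-227)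
    (.lin 5) (.wt 2)))) (.split 1 39 (.splitN 146526 (.split 2 379 (.split 0 187 (.split 6 177
    (.split 5 (-389) (.lin 1) (.split 5 (-362) (.lin 5) (.split 3 (-174) (.lin 7) (.split 1 15
    (.split 6 14 (.lin 1) (.splitN 58741 (.split 2 231 (.split 0 111 (.split 6 105 (.split 5
    (-218) (.lin 1) (.split 4 (-102) (.lin 4) (.split 5 (-90) (.split 6 41 (.lin 1) (.split 0 47
    (.lin 3) (.split 2 96 (.lin 0) (.splitN 52358 (.splitN 27563 (.wt 1) (.split 2 191 (.split 0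
    93 (.split 6 87 (.split 5 (-182) (.lin 1) (.split 3 (-31) (.splitN 39811 (.split 4 (-34) (.wt
    0) (.split 2 160 (.split 0 79 (.split 6 69 (.split 5 (-146) (.lin 1) (.split 3 (-66) (.lin 4)
    (.splitN 39058 (.splitN 29947 (.wt 1) (.split 4 (-12) (.split 5 (-100) (.split 6 46 (.lin 1)
    (.split 5 (-109) (.splitN 33459 (.split 2 133 (.wt 0) (.split 0 70 (.lin 0) (.split 6 68
    (.lin 3) (.split 5 (-145) .sq (.lin 1))))) (.wt 0)) (.lin 1))) (.lin 2)) (.wt 0))) (.wt 1))))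
    (.lin 3)) (.lin 0)) .sq)) (.wt 1)) (.split 4 (-20) (.splitN 43421 (.split 2 172 (.split 0 84
    (.split 6 78 (.split 5 (-164) (.lin 1) (.split 3 (-20) (.splitN 37240 .cand (.wt 1)) (.split
    4 (-38) (.splitN 38655 (.wt 0) (.wt 1)) (.lin 4)))) (.lin 3)) (.lin 0)) .sq) (.wt 1)) (.lin
    4)))) (.lin 3)) (.lin 0)) .sq)) (.wt 1))))) (.split 6 37 (.split 5 (-74) (.lin 1) (.split 3
    (-30) (.lin 4) (.split 4 (-30) (.lin 4) (.split 2 76 (.split 0 34 (.split 6 24 (.split 5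
    (-56) (.lin 1) (.split 4 (-21) (.lin 4) (.wt 2))) (.lin 3)) (.lin 0)) (.wt 2))))) (.lin
    1))))) (.lin 3)) (.lin 0)) .sq) (.wt 1))) (.split 3 (-19) (.split 4 (-19) (.split 0 38 (.lin
    7) (.split 2 78 (.lin 0) (.split 3 (-165) (.lin 7) (.split 3 (-25) (.split 5 (-55) (.split 0
    47 (.lin 7) (.split 2 96 (.lin 0) (.split 6 10 (.lin 1) (.split 5 (-64) (.split 4 (-156)
    (.lin 7) (.split 1 27 (.split 6 19 (.lin 1) (.split 3 (-31) (.split 5 (-82) (.split 0 56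
    (.lin 7) (.split 2 114 (.lin 0) (.split 6 28 (.lin 1) (.split 5 (-91) (.split 4 (-147) (.lin
    7) (.split 1 23 (.split 6 37 (.lin 1) (.splitN 47970 (.split 4 (-25) (.split 5 (-109) (.split
    6 46 (.lin 1) (.splitN 44754 (.split 4 (-33) (.split 5 (-127) (.split 0 74 (.lin 7) (.split 2
    150 (.lin 0) (.split 6 55 (.lin 1) (.split 5 (-136) .sq (.lin 1))))) (.lin 2)) (.wt 0)) (.wt
    1))) (.lin 2)) (.wt 0)) (.wt 1))) (.wt 2))) (.lin 2))))) (.lin 2)) (.wt 2))) (.wt 2))) (.lin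
    2))))) (.lin 2)) (.wt 2))))) (.wt 2)) (.wt 2)))))) (.lin 3)) (.lin 0)) .sq) (.wt 1)) (.split
    0 47 (.lin 3) (.split 2 96 (.lin 0) (.split 6 186 (.split 5 (-416) (.lin 5) (.wt 2)) (.lin
    3)))))) (.lin 0)) .sq) (.wt 1))))) (.lin 3)) (.lin 0)) .sq) .sq) (.wt 1))))) (.lin 3)) (.lin
    6)) (.lin 0)) .sq) (.wt 2))) (.wt 1)))) (.wt 0)) (.wt 0)) (.split 3 (-20) (.splitN 75600
    (.split 0 2508 (.split 2 5011 (.split 1 5002 (.split 3 (-837) (.div 3) (.split 5 (-14)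
    (.splitN 15236 (.wt 1) (.split 0 271 (.split 6 258 (.split 5 (-524) (.lin 5) (.splitN 70509
    (.split 1 259 (.split 2 260 (.split 0 129 (.split 6 123 (.split 5 (-254) (.lin 5) (.split 3
    (-260) .sq (.split 4 241 (.splitN 65131 (.split 2 247 (.split 0 120 (.split 6 114 (.split 5
    (-236) (.lin 5) (.split 6 (-1) (.split 1 24 (.lin 1) (.split 5 (-119) (.lin 5) (.split 5
    (-25) (.split 1 33 (.lin 1) (.split 3 (-38) (.split 2 60 (.lin 8) (.split 5 (-30) (.split 1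
    42 (.lin 1) (.split 3 (-47) (.split 2 78 (.lin 8) (.split 4 34 (.split 3 (-156) (.lin 7)
    (.split 4 32 (.splitN 38878 (.split 2 171 (.split 0 84 (.split 5 (-83) (.lin 5) (.split 4 18
    (.splitN 34187 (.split 2 161 (.split 0 79 (.split 2 151 (.split 5 (-74) (.lin 5) (.split 3
    (-93) (.lin 7) (.split 4 15 (.split 3 (-84) (.lin 7) (.splitN 25585 (.split 5 (-46) (.wt 1)
    (.split 1 71 (.split 6 (-17) (.lin 1) (.split 3 (-57) (.lin 2) (.split 1 50 (.split 6 (-4)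
    (.lin 1) (.split 3 (-48) (.lin 2) (.wt 0))) (.wt 0)))) (.wt 0))) (.wt 3))) (.wt 2)))) (.lin
    0)) (.lin 0)) .sq) (.wt 1)) (.wt 2))) (.lin 0)) .sq) (.wt 1)) (.wt 2))) (.wt 2))) (.lin 2)))
    (.wt 2))) (.lin 2))) (.wt 2)))) (.split 1 115 cert3_0_4 (.lin 3)))) (.lin 3)) (.lin 0)) .sq)
    (.wt 1)) (.lin 7)))) (.lin 3)) (.lin 0)) .sq) .sq) (.wt 1))) (.lin 3)) .sq)) (.wt 2))) (.lin
    6)) (.lin 0)) (.div 0)) (.wt 1)) (.lin 7)))

def cert3_0_6 : Cert :=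
  (.split 5 (-67) (.split 2 78 (.lin 6) (.split 0 38 (.lin 0) (.split 3 205 (.split 4 (-47)
    (.split 1 7 (.wt 2) (.split 2 87 (.lin 6) (.split 0 43 (.lin 0) (.split 2 96 (.lin 0) (.split
    4 (-56) (.splitN 45387 (.split 3 8 (.wt 2) (.split 4 (-65) (.splitN 26966 (.wt 1) (.split 2
    174 (.split 0 84 (.split 1 79 (.split 6 69 (.split 5 (-155) (.lin 5) (.splitN 42753 (.split 2
    164 (.split 0 79 (.split 2 151 (.split 6 60 (.split 5 (-137) (.lin 5) (.split 4 (-149) .sq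
    (.split 3 97 (.split 3 39 (.split 4 (-111) (.lin 7) (.splitN 38461 (.split 1 33 (.split 6 23
    (.lin 1) (.splitN 35376 (.split 2 142 (.split 0 70 (.split 6 51 (.split 5 (-119) (.lin 5)
    (.split 4 (-102) (.lin 7) (.split 3 25 (.split 1 20 (.split 6 28 (.lin 1) (.split 5 (-82)
    (.wt 0) (.lin 1))) .cand) (.split 4 (-74) (.splitN 30047 (.wt 1) (.split 1 16 (.wt 0) (.split
    6 46 (.split 5 (-110) (.lin 1) (.wt 0)) (.lin 1)))) (.lin 4))))) (.lin 3)) (.lin 0)) .sq)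
    (.wt 1))) (.split 6 42 (.split 5 (-119) (.lin 5) (.split 2 105 (.lin 6) (.split 0 52 (.lin 0)
    (.split 2 114 (.lin 0) (.split 4 (-74) (.splitN 29894 (.wt 1) (.split 3 31 (.splitN 36137
    (.split 3 22 (.split 4 (-93) (.lin 7) (.split 1 34 (.wt 0) (.split 6 37 (.split 5 (-110)
    (.lin 2) (.split 1 55 (.wt 1) (.split 0 65 (.lin 3) (.split 2 132 (.lin 0) (.split 4 (-83)
    .sq (.lin 4)))))) (.lin 1)))) (.wt 0)) (.wt 1)) (.wt 0))) (.lin 7)))))) (.lin 3))) (.wt 1)))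
    (.split 4 (-92) (.splitN 30205 (.wt 1) (.split 1 45 (.split 6 14 (.lin 1) (.splitN 39208
    (.split 1 32 (.split 5 (-76) (.split 6 28 (.lin 1) (.split 2 125 (.split 0 61 (.split 6 42
    (.split 5 (-101) (.lin 5) (.splitN 35823 (.split 1 21 (.split 3 51 (.wt 0) (.split 4 (-101)
    (.split 3 54 (.wt 0) (.split 4 (-110) .sq (.lin 4))) (.lin 4))) (.wt 0)) (.wt 1))) (.lin 3))
    (.lin 0)) .sq)) (.wt 2)) (.wt 0)) (.wt 1))) (.wt 0))) (.lin 7))) (.lin 7)))) (.lin 3)) (.lin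
    0)) (.lin 0)) .sq) (.wt 1))) (.lin 3)) (.lin 3)) (.lin 0)) .sq)) (.lin 7))) (.wt 1)) (.lin
    7)))))) (.lin 7)) (.lin 7)))) (.split 1 52 (.split 2 115 (.split 6 28 (.splitN 48075 (.split
    4 (-212) .sq (.split 5 (-35) (.split 2 42 (.lin 6) (.split 0 20 (.lin 0) (.split 3 187
    (.split 4 (-29) (.splitN 41458 (.split 4 (-190) .sq (.split 3 169 (.split 3 160 (.split 3 33
    (.split 4 (-84) (.lin 2) (.split 1 19 (.split 6 10 (.lin 1) (.splitN 32266 (.split 3 7 (.wt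
    2) (.split 4 (-38) (.splitN 21305 (.wt 1) (.split 1 11 (.wt 0) .cand)) (.lin 4))) (.wt 1)))
    (.split 6 19 (.split 0 29 (.lin 3) (.split 2 60 (.lin 0) (.split 4 (-38) (.splitN 21889 (.wt
    1) (.split 3 21 (.split 4 (-75) (.lin 2) (.splitN 32640 (.split 3 11 (.split 1 27 (.wt 0)
    (.split 5 (-46) (.split 4 (-47) (.wt 0) (.lin 4)) (.lin 1))) (.split 4 (-47) (.splitN 27768
    (.wt 0) (.split 1 33 (.split 5 (-56) (.lin 1) (.wt 1)) (.wt 0))) (.lin 4))) (.wt 1))) (.wt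
    2))) (.lin 4)))) (.lin 1)))) (.split 4 (-56) (.split 1 35 (.split 1 15 (.split 0 30 (.split 2
    61 (.splitN 24499 (.wt 6) (.wt 0)) (.lin 0)) (.lin 3)) (.split 2 51 (.lin 6) (.split 0 25
    (.lin 0) (.split 2 60 (.lin 0) (.split 4 (-65) (.splitN 36269 (.split 1 24 (.splitN 32798
    (.split 3 46 (.split 4 (-84) (.lin 4) (.wt 3)) (.wt 0)) (.wt 1)) (.wt 0)) (.wt 1)) (.lin
    7)))))) (.wt 2)) (.lin 7))) (.lin 7)) (.lin 2))) (.wt 1)) (.lin 7)) (.lin 7)))) (.split 1 16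
    (.split 2 43 (.split 6 10 (.split 3 32 (.split 4 (-48) (.lin 2) (.split 3 13 (.splitN 22761
    (.split 5 (-28) (.wt 6) (.split 1 7 (.split 2 25 (.wt 0) (.lin 8)) (.lin 1))) (.wt 1))
    (.split 4 (-29) (.split 1 15 (.split 5 (-20) (.lin 1) (.split 4 (-39) (.lin 2) (.splitN 20374
    (.wt 0) (.wt 1)))) (.wt 2)) (.lin 2)))) (.split 4 (-47) (.splitN 29024 (.split 1 13 (.split 5
    (-20) (.lin 1) (.splitN 21784 (.wt 0) (.wt 1))) (.wt 0)) (.wt 1)) (.lin 2))) (.lin 1)) (.lin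
    8)) (.lin 1)))) (.wt 1)) (.lin 1)) (.lin 8)) (.lin 1)))

def cert3_0_7 : Cert :=
  (.split 1 (-1) (.split 3 (-1) cert3_0_2 (.split 4 (-11) (.split 1 (-12) (.split 6 23 (.lin 3)
    (.split 5 (-28) (.split 2 7 (.wt 2) (.split 0 7 (.lin 0) (.split 2 24 (.lin 0) (.split 6 32
    (.lin 3) (.split 5 (-46) (.split 4 (-20) (.splitN 113400 (.split 1 (-327) .sq (.split 2 326
    (.split 0 160 (.split 6 483 (.split 5 (-641) (.lin 5) (.splitN 105919 (.split 3 315 (.split 4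
    (-921) (.lin 2) (.split 4 (-471) (.lin 7) (.split 4 (-317) .sq (.split 5 (-319) .sq (.split 1
    (-291) (.lin 6) (.splitN 97718 (.split 5 (-304) .sq (.split 1 (-273) (.lin 6) (.split 2 277
    (.split 0 138 (.split 3 45 (.split 4 (-183) (.lin 7) (.splitN 82968 (.split 5 (-282) .sq
    cert3_0_3) (.wt 1))) (.split 4 (-65) (.splitN 74887 (.split 5 (-55) (.split 6 37 (.lin 1)
    (.split 1 (-244) .sq (.split 5 (-56) (.split 4 (-250) .sq (.split 5 (-250) .sq (.split 2 59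
    (.split 0 25 (.split 2 43 (.split 1 (-67) (.split 6 86 (.lin 3) (.split 5 (-100) (.split 2 25
    (.wt 2) (.split 0 16 (.lin 0) (.split 2 42 (.lin 0) (.split 4 (-74) (.split 5 (-129) (.split
    1 (-92) (.split 6 113 (.lin 1) (.splitN 50426 .sq (.wt 1))) (.lin 6)) (.wt 2)) (.lin 7)))))
    (.lin 5))) (.split 6 87 (.split 5 (-110) (.lin 5) (.splitN 40043 (.wt 1) (.split 2 34 (.split
    0 16 (.split 2 25 (.split 1 (-38) (.split 6 78 (.split 5 (-92) (.lin 5) (.splitN 54940 .cand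
    (.wt 1))) (.lin 3)) (.lin 6)) (.lin 0)) (.lin 0)) (.wt 2)))) (.lin 3))) (.lin 0)) (.lin 0))
    (.wt 2)))) (.wt 2)))) (.wt 2)) (.wt 1)) (.lin 7))) (.lin 0)) (.lin 6)))) (.wt 1))))))) .sq)
    (.wt 1))) (.lin 3)) (.lin 0)) .sq)) (.wt 1)) (.lin 7)) (.lin 5)))))) (.lin 5))) (.split 5
    (-11) (.split 1 (-5) (.split 2 22 (.split 0 7 (.split 2 7 (.split 6 15 (.split 5 (-20) (.lin
    1) (.splitN 113245 (.split 3 1232 (.splitN 34044 (.wt 1) (.split 3 7 (.wt 0) (.split 4 (-20)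
    (.splitN 53277 (.wt 6) (.split 3 29 (.wt 0) (.split 4 (-38) (.wt 2) (.lin 2)))) (.lin 2))))
    (.div 3)) (.wt 1))) (.lin 3)) (.lin 0)) (.lin 0)) (.split 0 11 (.lin 0) (.split 6 23 (.lin 3)
    (.split 4 (-20) (.splitN 191908 (.split 2 5330 (.split 0 2662 (.split 6 2670 (.split 5
    (-5330) (.lin 1) (.split 4 (-2133) (.div 4) (.split 5 (-4790) (.lin 2) (.split 6 2400 (.split
    5 (-4520) (.lin 2) (.split 3 107 (.split 5 (-39) (.split 6 28 (.lin 1) (.split 0 20 (.lin 3)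
    (.split 2 42 (.lin 0) (.split 4 (-29) (.splitN 106023 (.split 4 (-1161) (.div 4) (.split 0
    1146 (.split 6 1158 (.split 3 30 (.splitN 82609 (.split 4 (-909) (.div 4) (.split 5 (-2054)
    (.lin 2) (.split 6 1032 (.split 5 (-1928) (.lin 2) (.split 3 15 (.split 5 (-65) (.split 6 41
    (.lin 1) (.split 0 29 (.lin 3) (.split 2 60 (.lin 0) (.split 5 (-89) (.split 6 50 (.lin 1)
    (.split 0 38 (.lin 3) (.split 2 78 (.lin 0) (.split 4 (-47) (.splitN 42137 (.split 5 (-112)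
    (.split 6 64 (.lin 1) (.split 0 56 (.lin 3) (.split 2 114 (.lin 0) (.split 5 (-127) (.split 4
    (-65) .sq (.lin 4)) (.lin 1))))) (.wt 2)) (.wt 1)) (.lin 4))))) (.wt 2))))) (.wt 2)) (.wt
    2))) (.lin 1)))) (.wt 1)) (.wt 0)) (.lin 3)) (.lin 7))) (.wt 1)) (.lin 4))))) (.wt 2)) (.wt
    2))) (.lin 1))))) (.lin 3)) (.lin 0)) (.div 2)) (.wt 1)) (.lin 4))))) (.wt 0)) (.wt 2)))
    (.lin 7))) (.split 5 (-2) (.split 2 15 (.lin 6) (.split 0 7 (.lin 0) (.split 2 24 (.lin 0)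
    (.split 3 (-1) cert3_0_5 (.split 4 (-20) (.splitN 75600 (.split 0 2508 (.split 2 5011 (.split
    1 5002 (.split 1 836 (.split 2 2090 (.split 0 1042 (.split 6 1032 (.split 3 836 (.split 4
    (-2703) (.lin 4) (.split 4 (-837) (.div 4) (.split 5 (-14) (.splitN 15236 (.wt 1) (.split 0
    271 (.split 6 258 (.split 5 (-524) (.lin 5) (.splitN 70521 (.split 1 259 (.split 2 260
    (.split 0 129 (.split 6 123 (.split 5 (-254) (.lin 5) (.split 3 259 (.split 4 (-390) (.lin 7)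
    (.splitN 65239 (.split 2 247 (.split 0 120 (.split 6 114 (.split 5 (-236) (.lin 5) (.split 3
    246 (.split 4 (-248) .sq (.split 6 (-1) (.split 1 24 (.lin 1) (.split 5 (-119) (.lin 5)
    (.split 5 (-25) (.split 1 33 (.lin 1) (.split 2 60 (.lin 8) (.split 4 (-38) (.split 5 (-30)
    (.split 1 42 (.lin 1) (.split 2 78 (.lin 8) (.split 4 (-47) (.split 3 34 (.split 4 (-156)
    (.lin 7) (.split 3 32 (.splitN 38878 (.split 2 171 (.split 0 84 (.split 5 (-83) (.lin 5)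
    (.split 3 18 (.splitN 34187 (.split 2 161 (.split 0 79 (.split 2 151 (.split 5 (-74) (.lin 5)
    (.split 4 (-93) (.lin 7) (.split 3 15 (.split 4 (-84) (.lin 7) (.splitN 25585 (.split 5 (-46)
    (.wt 1) (.split 1 71 (.split 6 (-17) (.lin 1) (.split 4 (-57) (.lin 2) (.split 1 50 (.split 6
    (-4) (.lin 1) (.split 4 (-48) (.lin 2) (.wt 0))) (.wt 0)))) (.wt 0))) (.wt 3))) (.wt 2))))
    (.lin 0)) (.lin 0)) .sq) (.wt 1)) (.wt 2))) (.lin 0)) .sq) (.wt 1)) (.wt 2))) (.wt 2)) (.lin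
    2)))) (.wt 2)) (.lin 2)))) (.wt 2)))) (.split 1 115 cert3_0_6 (.lin 3)))) .sq)) (.lin 3))
    (.lin 0)) .sq) (.wt 1))) .sq)) (.lin 3)) (.lin 0)) .sq) .sq) (.wt 1))) (.lin 3)) .sq)) (.wt
    2)))) (.div 3)) (.lin 3)) (.lin 0)) (.div 2)) (.div 1)) (.lin 6)) (.lin 0)) (.div 0)) (.wt
    1)) (.lin 7)))))) (.wt 2)))

def cert3_0 : Cert :=
  (.split 2 (-1) (.split 0 (-2) (.split 1 (-2) (.split 2 (-11) (.split 5 (-2) (.split 1 (-20)
    (.split 3 (-1) (.split 4 6 (.lin 7) (.split 3 (-4) (.split 4 15 (.lin 7) (.splitN 103950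
    (.split 1 (-1125) (.div 1) (.split 6 1113 (.split 5 (-1109) (.lin 5) (.split 3 (-1125) (.div
    3) (.splitN 42940 (.split 1 (-477) (.div 1) (.split 6 465 (.split 5 (-461) (.lin 5) (.split 2
    (-462) (.lin 6) (.split 3 (-477) (.div 3) (.wt 2)))) (.lin 3))) (.wt 6)))) (.lin 3))) (.wt
    1))) (.wt 0))) cert3_0_0) (.lin 6)) (.wt 2)) (.lin 0)) (.lin 6)) (.lin 0)) (.split 0 2 (.lin
    0) cert3_0_7))

theorem check3_0 :
    check task3 cert3_0
      [(3, ⟨none, none⟩), (7, ⟨none, none⟩), (7, ⟨none, none⟩), (7, ⟨none, none⟩), (7, ⟨none, none⟩), (8, ⟨none, some (-1)⟩), (6, ⟨none, none⟩)] ⟨some (720), none⟩ = true := by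
  decide +kernel

def cert3_1_0 : Cert :=
  (.split 5 76 (.split 1 (-66) (.lin 1) (.split 2 (-138) (.lin 8) (.split 6 (-26) (.lin 1)
    (.split 5 48 (.split 1 (-39) (.lin 1) (.split 2 (-84) (.lin 8) (.split 6 (-13) (.lin 1)
    (.split 3 (-30) (.split 4 60 (.lin 4) (.split 5 27 (.wt 2) (.split 2 (-56) (.split 0 (-29)
    (.split 2 (-65) (.split 4 69 (.lin 7) (.splitN 151612 (.split 3 (-372) .sq (.split 4 412
    (.split 4 375 (.split 1 (-29) (.split 6 (-8) (.lin 1) (.split 5 35 (.wt 2) (.split 1 (-38)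
    (.split 3 (-327) (.lin 2) (.split 2 (-83) (.split 4 78 (.lin 2) (.splitN 72033 (.wt 1)
    (.split 3 (-86) (.wt 0) (.split 4 124 (.splitN 80079 (.wt 6) (.split 3 (-47) (.wt 0) (.split
    4 79 (.splitN 82391 (.wt 0) (.wt 0)) (.lin 2)))) (.lin 2))))) (.lin 8))) (.lin 1)))) (.split
    6 (-8) (.split 2 (-66) (.lin 8) (.split 5 43 (.lin 1) (.wt 2))) (.lin 1))) .sq) (.lin 2)))
    (.wt 1))) (.lin 0)) (.lin 0)) (.lin 6)))) (.split 4 70 (.split 5 35 (.split 1 (-30) (.lin 1)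
    (.split 2 (-66) (.lin 8) (.split 6 (-8) (.lin 1) (.split 4 61 (.split 3 (-20) (.split 5 26
    (.wt 2) (.split 1 (-29) (.split 2 (-65) (.split 4 51 (.lin 2) (.splitN 130562 (.splitN 107783
    (.wt 1) (.split 3 (-25) (.wt 0) (.wt 0))) (.wt 1))) (.lin 8)) (.lin 1))) (.split 5 34 (.split
    1 (-21) (.lin 1) (.split 2 (-48) (.lin 8) (.wt 0))) (.wt 0))) (.lin 2))))) (.split 4 42 (.lin
    2) (.splitN 96904 (.split 1 (-28) (.split 6 (-8) (.lin 1) (.split 4 51 (.lin 2) (.splitN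
    85152 (.wt 0) (.wt 6)))) (.wt 0)) (.wt 6)))) (.lin 2)))))) (.split 0 (-33) (.split 2 (-74)
    (.split 0 (-38) (.split 2 (-83) (.split 4 51 (.lin 7) (.splitN 265306 (.split 3 (-2925) (.div
    3) (.split 4 2986 (.split 3 (-12) (.split 4 60 (.lin 7) (.splitN 135020 (.split 3 (-1485)
    (.div 3) (.split 4 1546 (.split 3 (-26) (.split 4 69 (.lin 7) (.splitN 113609 (.split 3
    (-307) .sq (.split 4 367 (.split 1 (-21) (.splitN 96583 (.split 4 285 (.split 3 (-246) (.lin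
    2) (.split 3 (-85) (.split 4 123 (.lin 2) (.splitN 79910 (.split 5 69 (.split 1 (-57) (.lin
    1) (.split 2 (-120) (.lin 8) (.split 6 (-17) (.lin 1) (.split 4 240 (.split 1 (-43) (.split 6
    (-8) (.lin 1) (.split 2 (-101) (.split 4 141 (.lin 2) (.split 5 57 (.wt 2) (.split 2 (-119)
    (.splitN 65877 (.split 3 (-116) (.split 4 177 (.lin 2) .sq) (.wt 0)) (.wt 1)) (.lin 8))))
    (.lin 8))) (.split 6 (-8) (.split 2 (-102) (.lin 8) (.split 1 (-32) (.split 5 61 (.lin 1)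
    (.split 4 141 (.lin 2) (.splitN 73933 (.wt 0) (.wt 1)))) (.wt 2))) (.lin 1))) .sq)))) (.wt
    2)) (.wt 1))) (.split 4 151 (.split 5 68 (.split 1 (-57) (.lin 1) (.split 2 (-120) (.lin 8)
    (.split 6 (-17) (.lin 1) (.split 4 142 (.split 3 (-34) (.split 4 78 (.lin 2) (.split 1 (-30)
    (.split 2 (-92) (.split 0 (-47) (.split 2 (-101) (.split 4 87 (.lin 7) (.splitN 81323 (.split
    5 61 (.split 1 (-48) (.lin 1) (.split 1 (-47) (.split 2 (-102) (.lin 8) (.split 6 (-4) (.lin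
    1) (.split 3 (-43) (.split 4 96 (.lin 2) (.splitN 74669 (.split 3 (-59) (.split 3 (-68) (.wt
    2) (.split 4 115 (.wt 2) (.lin 2))) (.wt 0)) (.wt 1))) (.wt 0)))) (.lin 6))) (.wt 2)) (.wt
    1))) (.lin 0)) (.lin 0)) (.lin 6)) (.wt 2))) (.wt 2)) (.lin 2))))) (.wt 2)) (.lin 2)))) .sq)
    (.wt 1)) (.wt 2)) (.lin 2))) (.wt 1))) (.wt 2)) (.lin 2))) (.wt 1))) (.wt 0)) (.lin 2))) (.wt
    1))) (.lin 0)) (.lin 0)) (.lin 6)) (.lin 5)))))) (.split 2 (-101) (.split 0 (-51) (.split 4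
    60 (.lin 7) (.splitN 183162 (.split 3 (-2025) (.div 3) (.split 4 2239 (.splitN 137492 (.split
    3 (-15) (.split 4 69 (.lin 7) (.split 1 (-31) (.split 2 (-119) (.split 0 (-60) (.split 4 78
    (.lin 7) (.splitN 89051 (.split 4 980 (.split 3 (-921) (.lin 7) (.split 3 (-21) (.split 4 87
    (.lin 7) (.splitN 79276 (.split 4 872 (.split 3 (-813) (.lin 7) (.split 3 (-40) (.split 4 105
    (.lin 7) (.splitN 72517 (.split 4 800 (.split 5 118 (.split 1 (-111) (.lin 1) (.split 2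
    (-228) (.lin 8) (.split 1 (-51) (.split 2 (-137) (.split 0 (-69) (.splitN 67651 (.split 4 728
    (.split 3 (-54) (.split 4 123 (.lin 7) (.split 2 (-138) (.split 0 (-74) (.split 2 (-155)
    (.split 4 132 (.lin 7) (.splitN 60479 .sq (.split 3 (-145) (.wt 1) (.wt 6)))) (.lin 0)) (.lin
    0)) (.wt 2))) (.wt 0)) (.div 4)) (.wt 1)) (.lin 0)) (.lin 6)) (.wt 2)))) (.wt 2)) (.div 4))
    (.wt 1))) (.wt 2))) (.div 4)) (.wt 1))) (.wt 0))) (.div 4)) (.wt 1))) (.lin 0)) (.lin 6))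
    (.wt 2))) (.wt 0)) (.wt 6)) (.lin 2))) (.wt 1))) (.lin 0)) (.lin 6)))

def cert3_1_1 : Cert :=
  (.split 3 (-21) (.splitN 175192 (.split 1 (-1917) (.div 1) (.split 6 942 (.split 4 1024 (.split
    2 (-156) (.wt 2) (.split 0 (-79) (.lin 0) (.split 1 (-129) (.lin 6) (.split 6 51 (.split 4
    133 (.split 4 115 (.split 5 27 (.wt 0) (.split 1 (-47) (.split 2 (-83) (.split 4 69 (.lin 2)
    (.splitN 75424 (.wt 6) (.split 1 (-86) (.wt 0) (.split 6 24 (.split 4 106 (.split 2 (-129)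
    (.lin 6) (.split 0 (-65) (.lin 0) (.split 4 97 (.split 1 (-75) (.wt 0) (.split 6 19 (.split 3
    (-38) (.wt 0) (.split 4 88 (.split 1 (-70) (.wt 0) (.splitN 81836 (.wt 1) (.split 1 (-51)
    (.wt 0) (.split 5 35 (.split 6 6 (.split 4 70 (.wt 0) (.lin 2)) (.lin 1)) (.lin 1))))) (.lin
    2))) (.lin 1))) (.lin 7)))) (.lin 2)) (.lin 1))))) (.lin 8)) (.lin 1))) (.lin 7)) (.lin 2))
    (.lin 1))))) (.lin 2)) (.lin 1))) (.wt 0)) (.splitN 74812 (.wt 1) (.split 5 35 (.splitN 88454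
    (.wt 1) (.split 3 (-16) (.split 4 51 (.lin 2) (.splitN 209969 (.split 1 (-2313) (.div 1)
    (.split 6 1140 (.split 4 1195 (.splitN 172160 (.split 1 (-1881) (.div 1) (.split 6 924
    (.split 4 979 (.split 1 (-429) (.wt 0) (.split 6 199 (.split 4 250 (.split 1 (-189) (.wt 0)
    (.split 6 78 (.split 4 133 (.splitN 95549 (.wt 1) (.split 1 (-86) (.wt 0) (.split 6 28
    (.split 4 79 (.splitN 118273 (.wt 6) (.split 1 (-41) (.wt 0) (.split 5 26 (.split 6 6 (.split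
    4 52 (.wt 0) (.lin 2)) (.lin 1)) (.lin 1)))) (.lin 2)) (.lin 1)))) (.lin 2)) (.lin 1))) (.lin
    2)) (.lin 1))) (.lin 2)) (.lin 1))) (.wt 3)) (.lin 2)) (.lin 1))) (.wt 0))) (.split 5 30
    (.splitN 1760391 (.wt 6) (.split 1 (-46) (.wt 0) (.split 6 6 (.split 4 43 (.wt 0) (.lin 2))
    (.lin 1)))) (.split 1 (-47) (.split 0 (-42) (.split 2 (-83) (.split 4 51 (.lin 2) (.splitN
    481973 (.split 0 (-684) .sq (.split 2 (-1362) (.lin 0) (.split 1 (-1326) (.lin 6) (.split 6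
    645 (.split 4 691 (.splitN 437947 (.split 1 (-650) .sq (.split 6 303 (.split 2 (-678) (.lin
    8) (.split 4 349 (.splitN 401561 (.split 2 (-626) .sq (.split 1 (-588) (.lin 6) (.split 6 276
    (.split 4 322 (.split 2 (-228) (.split 1 (-200) (.split 6 82 (.lin 1) (.split 4 132 (.lin 2)
    (.splitN 200312 (.wt 1) (.wt 0)))) (.lin 6)) (.split 1 (-192) (.lin 6) (.split 6 78 (.split 4
    124 (.split 2 (-92) (.split 0 (-47) (.split 2 (-101) (.split 1 (-65) (.splitN 263774 .cand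
    (.wt 1)) (.lin 6)) (.lin 0)) (.lin 0)) (.wt 2)) (.lin 2)) (.lin 1)))) (.lin 2)) (.lin 1))))
    (.wt 1)) (.lin 2))) (.lin 1))) (.wt 1)) (.lin 2)) (.lin 1))))) (.wt 1))) (.lin 8)) (.lin 5))
    (.lin 1))))) (.split 1 (-56) (.split 2 (-101) (.split 4 60 (.lin 2) (.splitN 225338 (.split 0
    (-453) .sq (.split 2 (-894) (.lin 0) (.split 1 (-849) (.lin 6) (.split 6 402 (.split 4 466
    (.splitN 210507 (.split 1 (-436) .sq (.split 6 195 (.split 2 (-480) (.lin 8) (.split 2 (-444)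
    .sq (.split 1 (-399) (.lin 6) (.split 6 177 (.split 4 241 (.split 3 (-16) (.split 4 69 (.lin
    2) (.split 1 (-364) (.wt 2) (.split 6 159 (.split 4 223 (.split 1 (-324) (.wt 2) (.split 6
    136 (.split 4 196 (.split 1 (-270) (.wt 2) (.split 6 109 (.split 4 169 (.split 1 (-222) (.wt
    2) (.split 6 87 (.split 4 151 (.split 1 (-192) (.wt 2) (.split 6 73 (.split 4 133 (.split 1
    (-164) (.wt 2) (.split 6 55 (.split 4 115 (.split 1 (-137) (.wt 2) (.split 6 42 (.split 4 106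
    (.split 1 (-125) (.wt 2) (.split 6 37 (.split 4 97 (.split 2 (-143) (.wt 2) (.split 1 (-93)
    (.lin 6) (.split 6 24 (.split 4 88 (.split 2 (-136) (.wt 2) (.split 0 (-65) (.lin 0) (.split
    1 (-84) (.lin 6) (.split 2 (-120) (.lin 0) (.split 1 (-75) (.lin 6) (.split 6 15 (.split 4 79
    (.split 2 (-103) (.split 0 (-56) (.split 1 (-65) (.split 2 (-119) (.split 1 (-74) (.split 6
    14 (.lin 1) (.split 4 78 (.lin 2) (.splitN 92110 (.wt 0) (.wt 0)))) (.lin 6)) (.lin 0)) (.lin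
    6)) (.lin 0)) (.wt 2)) (.lin 2)) (.lin 1))))))) (.lin 2)) (.lin 1)))) (.lin 2)) (.lin 1)))
    (.lin 2)) (.lin 1))) (.lin 2)) (.lin 1))) (.lin 2)) (.lin 1))) (.lin 2)) (.lin 1))) (.lin 2))
    (.lin 1))) (.lin 2)) (.lin 1))) (.lin 2)) (.lin 1)))) (.wt 2)) (.lin 2)) (.lin 1))))) (.lin
    1))) (.wt 1)) (.lin 2)) (.lin 1))))) (.wt 1))) (.lin 8)) (.lin 1)))))

def cert3_1_2 : Cert :=
  (.split 6 (-1) (.split 1 (-12) (.split 5 25 (.lin 1) (.split 0 (-24) (.split 2 (-47) (.split 3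
    (-5) (.split 4 33 (.lin 4) (.split 5 435 (.split 1 (-426) (.lin 1) (.split 2 (-858) (.lin 8)
    (.split 5 292 (.split 1 (-282) (.lin 1) (.split 2 (-570) (.lin 8) (.split 5 250 (.split 1
    (-237) (.lin 1) (.split 2 (-480) (.lin 8) (.split 5 231 (.split 2 (-444) (.lin 8) cert3_1_0)
    (.wt 2)))) (.wt 2)))) (.wt 2)))) (.wt 2))) (.wt 0)) (.lin 0)) (.lin 3))) (.split 5 8 (.wt 1)
    (.split 2 (-20) (.split 0 (-11) (.split 2 (-29) (.split 1 (-4) (.split 3 (-6) (.split 4 24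
    (.lin 4) (.split 5 57 (.split 2 (-102) (.lin 8) (.split 5 37 (.split 6 (-13) (.lin 1) (.split
    0 (-25) (.lin 3) (.split 2 (-48) (.lin 0) (.split 5 33 (.split 6 (-8) (.lin 1) (.split 5 17
    (.wt 6) (.lin 1))) (.wt 2))))) (.wt 2))) (.wt 2))) (.wt 0)) (.wt 0)) (.lin 0)) (.lin 0))
    (.lin 6)))) (.split 1 (-20) (.split 2 (-29) (.split 4 15 (.lin 2) (.split 5 10 (.wt 1)
    (.split 1 (-29) (.split 0 (-24) (.split 2 (-47) (.split 4 24 (.lin 2) (.split 3 (-4) (.split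
    4 33 (.lin 2) (.split 5 21 (.wt 2) (.split 1 (-38) (.split 2 (-65) (.split 4 42 (.lin 2)
    (.split 5 86 (.split 5 45 (.split 3 (-195) (.wt 2) (.split 3 (-46) (.split 4 78 (.lin 2)
    (.splitN 111497 (.split 1 (-1233) (.div 1) (.split 6 600 (.split 4 835 (.splitN 61320 (.wt 1)
    (.split 5 26 (.wt 0) (.split 1 (-47) (.split 2 (-83) (.wt 2) (.lin 8)) (.lin 1)))) (.lin 2))
    (.lin 1))) (.wt 0))) (.splitN 64703 (.wt 1) cert3_1_1))) (.split 1 (-65) (.split 0 (-60)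
    (.split 2 (-119) (.splitN 166192 (.split 1 (-1845) (.div 1) (.split 3 (-14) (.split 4 78
    (.lin 2) (.splitN 102781 (.split 1 (-1125) (.div 1) (.split 6 532 (.split 2 (-1218) (.lin 8)
    (.split 0 (-271) .sq (.split 2 (-534) (.lin 0) (.split 1 (-480) (.lin 6) (.split 1 (-272) .sq
    (.split 6 105 (.split 2 (-372) (.lin 8) (.split 2 (-345) (.lin 6) (.split 2 (-290) .sq
    (.split 0 (-142) (.lin 0) (.split 1 (-228) (.lin 6) (.split 6 87 (.split 3 (-265) .sq (.split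
    4 430 (.splitN 97697 (.split 4 263 (.split 3 (-64) (.splitN 74571 (.split 5 55 (.wt 2)
    (.split 1 (-74) (.split 0 (-69) (.split 2 (-137) (.split 4 132 (.lin 2) (.split 1 (-151) .sq
    (.split 6 42 (.split 2 (-246) (.lin 8) (.splitN 68332 (.split 2 (-172) .sq (.split 0 (-83)
    (.lin 0) (.split 1 (-102) (.lin 6) (.split 2 (-156) (.lin 0) (.split 1 (-93) (.lin 6) (.split
    6 15 (.split 5 71 (.split 3 (-123) .sq (.split 4 205 (.splitN 59361 (.wt 1) (.split 5 70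
    (.split 3 (-104) (.wt 0) (.split 4 178 (.split 3 (-96) (.wt 0) (.split 4 169 (.split 1 (-83)
    (.wt 2) (.split 6 6 (.split 3 (-69) (.wt 2) (.split 4 133 (.wt 2) (.lin 2))) (.lin 1))) (.lin
    2))) (.lin 2))) (.wt 6))) (.lin 2))) (.lin 5)) (.lin 1))))))) (.wt 1))) (.lin 1)))) (.lin 8))
    (.lin 5)) (.lin 1))) (.wt 1)) (.split 4 196 (.splitN 56445 (.wt 1) (.split 3 (-38) (.split 4
    96 (.lin 2) (.splitN 79647 (.split 1 (-217) .sq (.split 2 (-239) .sq (.split 0 (-119) (.lin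
    0) (.split 4 169 (.split 5 62 (.split 5 57 (.splitN 65933 (.wt 1) (.split 1 (-129) (.wt 0)
    (.split 6 37 (.split 4 142 (.split 1 (-112) (.wt 0) (.split 6 28 (.split 3 (-50) (.wt 0)
    (.split 4 124 (.splitN 72878 (.wt 6) (.split 1 (-67) (.wt 0) (.split 6 6 (.split 4 106 (.wt
    0) (.lin 2)) (.lin 1)))) (.lin 2))) (.lin 1))) (.lin 2)) (.lin 1)))) .cand) (.split 1 (-83)
    (.split 4 114 (.lin 2) (.splitN 68103 (.split 3 (-40) (.split 4 123 (.lin 2) (.split 1 (-96)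
    (.split 6 14 (.lin 1) (.split 2 (-173) (.split 4 132 (.lin 2) .sq) (.lin 8))) (.wt 2))) (.wt
    0)) (.wt 1))) (.lin 1))) (.lin 7))))) (.wt 1))) (.split 5 67 (.split 3 (-25) .cand (.split 4
    160 (.split 1 (-68) (.split 2 (-128) (.split 0 (-65) (.split 4 87 (.lin 7) (.split 1 (-108)
    (.split 2 (-164) (.split 0 (-83) (.split 4 105 (.lin 7) (.splitN 89903 (.split 1 (-122)
    (.split 5 58 (.split 6 37 (.lin 1) (.split 4 114 (.lin 2) (.split 1 (-152) (.split 6 50 (.lin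
    1) (.split 2 (-209) (.split 4 123 (.lin 2) .sq) (.lin 8))) (.wt 2)))) (.wt 0)) (.wt 0)) (.wt
    1))) (.lin 0)) (.lin 6)) (.wt 2))) (.lin 0)) (.lin 6)) (.wt 0)) (.lin 7))) (.wt 2)))) (.lin
    7))) .sq) (.wt 1)) (.lin 2))) (.lin 1))))))) (.lin 1))))))) (.lin 1))) (.wt 1))) (.wt 2)))
    (.wt 1)) (.lin 8)) (.lin 5)) (.lin 1))) (.split 1 (-101) (.split 0 (-96) (.split 2 (-191)
    (.splitN 108781 (.split 3 (-18) (.split 4 114 (.lin 2) (.splitN 77228 .sq (.wt 1))) (.wt 0))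
    (.wt 1)) (.lin 8)) (.lin 5)) (.lin 1)))) (.lin 8)) (.lin 1)))) (.wt 0))) (.lin 8)) (.lin 5))
    (.lin 1)))) (.lin 8)) (.lin 1)))

def cert3_1_3 : Cert :=
  (.split 5 76 (.split 1 (-66) (.lin 1) (.split 2 (-138) (.lin 8) (.split 6 (-26) (.lin 1)
    (.split 5 48 (.split 1 (-39) (.lin 1) (.split 2 (-84) (.lin 8) (.split 6 (-13) (.lin 1)
    (.split 4 (-30) (.split 3 51 (.lin 2) (.split 5 27 (.wt 2) (.split 2 (-56) (.split 0 (-29)
    (.split 2 (-65) (.splitN 151603 (.split 3 375 (.split 4 (-345) (.lin 2) (.split 1 (-29)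
    (.split 6 (-8) (.lin 1) (.split 5 35 (.wt 2) (.split 1 (-38) (.split 3 78 (.lin 2) (.split 2
    (-83) (.split 4 (-327) (.lin 2) (.splitN 72033 (.wt 1) (.split 4 (-86) (.wt 0) (.split 3 124
    (.splitN 80079 (.wt 6) (.split 4 (-47) (.wt 0) (.split 3 79 (.splitN 82391 (.wt 0) (.wt 0))
    (.lin 2)))) (.lin 2))))) (.lin 8))) (.lin 1)))) (.split 6 (-8) (.split 2 (-66) (.lin 8)
    (.split 5 43 (.lin 1) (.wt 2))) (.lin 1)))) .sq) (.wt 1)) (.lin 0)) (.lin 0)) (.lin 6))))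
    (.split 3 70 (.split 5 35 (.split 1 (-30) (.lin 1) (.split 3 61 (.split 2 (-66) (.lin 8)
    (.split 6 (-8) (.lin 1) (.split 4 (-20) (.split 5 26 (.wt 2) (.split 1 (-29) (.split 3 51
    (.lin 2) (.split 2 (-65) (.splitN 130562 (.splitN 107783 (.wt 1) (.split 4 (-25) (.wt 0) (.wt
    0))) (.wt 1)) (.lin 8))) (.lin 1))) (.split 5 34 (.split 1 (-21) (.lin 1) (.split 2 (-48)
    (.lin 8) (.wt 0))) (.wt 0))))) (.lin 2))) (.split 3 42 (.lin 2) (.splitN 96904 (.split 1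
    (-28) (.split 6 (-8) (.lin 1) (.split 3 51 (.lin 2) (.splitN 85152 (.wt 0) (.wt 6)))) (.wt
    0)) (.wt 6)))) (.lin 2)))))) (.split 2 (-65) (.split 2 (-74) (.split 0 (-38) (.split 2 (-83)
    (.split 3 51 (.lin 7) (.splitN 265306 (.split 3 2924 (.split 4 (-12) (.split 3 60 (.lin 7)
    (.splitN 135009 (.split 3 1484 (.split 4 (-26) (.splitN 113577 (.split 3 313 (.split 4 (-282)
    (.lin 2) (.split 1 (-21) (.split 4 (-85) (.split 3 123 (.lin 2) (.splitN 79910 (.split 5 69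
    (.split 1 (-57) (.lin 1) (.split 2 (-120) (.lin 8) (.split 6 (-17) (.lin 1) (.split 3 240
    (.split 4 (-192) (.lin 2) (.split 1 (-43) (.split 6 (-8) (.lin 1) (.split 3 141 (.lin 2)
    (.split 2 (-101) (.split 5 57 (.wt 2) (.split 2 (-119) (.splitN 65877 (.split 4 (-116)
    (.split 3 177 (.lin 2) .sq) (.wt 0)) (.wt 1)) (.lin 8))) (.lin 8)))) (.split 6 (-8) (.split 2
    (-102) (.lin 8) (.split 1 (-32) (.split 5 61 (.lin 1) (.splitN 73933 (.wt 0) (.wt 1))) (.wt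
    2))) (.lin 1)))) .sq)))) (.wt 2)) (.wt 1))) (.split 3 151 (.split 5 68 (.split 1 (-57) (.lin
    1) (.split 3 142 (.split 2 (-120) (.lin 8) (.split 6 (-17) (.lin 1) (.split 4 (-34) (.split 3
    78 (.lin 2) (.split 1 (-30) (.split 2 (-92) (.split 0 (-47) (.split 2 (-101) (.split 3 87
    (.lin 7) (.splitN 81323 (.split 5 61 (.split 1 (-48) (.lin 1) (.split 1 (-47) (.split 2
    (-102) (.lin 8) (.split 6 (-4) (.lin 1) (.split 4 (-43) (.split 3 96 (.lin 2) (.splitN 74669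
    (.split 4 (-59) (.split 4 (-68) (.wt 2) (.split 3 115 (.wt 2) (.lin 2))) (.wt 0)) (.wt 1)))
    (.wt 0)))) (.lin 6))) (.wt 2)) (.wt 1))) (.lin 0)) (.lin 0)) (.lin 6)) (.wt 2))) (.wt 2))))
    (.lin 2))) (.wt 2)) (.lin 2))) (.wt 2))) .sq) (.wt 1)) (.wt 2)) (.div 3)) (.wt 1))) (.wt 0))
    (.div 3)) (.wt 1))) (.lin 0)) (.lin 0)) (.lin 6)) (.lin 8)))))) (.split 2 (-101) (.split 0
    (-51) (.split 3 60 (.lin 7) (.splitN 183162 (.split 3 2024 (.split 4 (-2046) (.lin 2)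
    (.splitN 137531 (.split 4 (-15) (.split 3 69 (.lin 7) (.split 1 (-31) (.split 2 (-119)
    (.split 0 (-60) (.split 3 78 (.lin 7) (.splitN 89051 (.split 3 980 (.split 4 (-939) (.lin 4)
    (.split 4 (-21) (.split 3 87 (.lin 7) (.splitN 79276 (.split 3 872 (.split 4 (-831) (.lin 4)
    (.split 4 (-40) (.split 3 105 (.lin 7) (.splitN 72517 (.split 3 800 (.split 5 118 (.split 1
    (-111) (.lin 1) (.split 2 (-228) (.lin 8) (.split 1 (-51) (.split 2 (-137) (.split 0 (-69)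
    (.splitN 67651 (.split 3 728 (.split 4 (-54) (.split 3 123 (.lin 7) (.split 2 (-138) (.split
    0 (-74) (.split 2 (-155) (.split 3 132 (.lin 7) (.splitN 60479 .sq (.split 4 (-145) (.wt 1)
    (.wt 6)))) (.lin 0)) (.lin 0)) (.wt 2))) (.wt 0)) (.div 3)) (.wt 1)) (.lin 0)) (.lin 6)) (.wt
    2)))) (.wt 2)) (.div 3)) (.wt 1))) (.wt 2))) (.div 3)) (.wt 1))) (.wt 0))) (.div 3)) (.wt
    1))) (.lin 0)) (.lin 6)) (.wt 2))) (.wt 0)) (.wt 6))) (.div 3)) (.wt 1))) (.lin 0)) (.lin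
    6)))

def cert3_1_4 : Cert :=
  (.split 4 (-21) (.splitN 175192 (.split 1 (-1917) (.div 1) (.split 6 942 (.split 3 1024 (.split
    2 (-156) (.wt 2) (.split 0 (-79) (.lin 0) (.split 1 (-129) (.lin 6) (.split 6 51 (.split 3
    133 (.split 3 115 (.split 5 27 (.wt 0) (.split 1 (-47) (.split 3 69 (.lin 2) (.split 2 (-83)
    (.splitN 75424 (.wt 6) (.split 1 (-86) (.wt 0) (.split 6 24 (.split 3 106 (.split 2 (-129)
    (.lin 6) (.split 0 (-65) (.lin 0) (.split 3 97 (.split 1 (-75) (.wt 0) (.split 6 19 (.split 4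
    (-38) (.wt 0) (.split 3 88 (.split 1 (-70) (.wt 0) (.splitN 81836 (.wt 1) (.split 1 (-51)
    (.wt 0) (.split 5 35 (.split 6 6 (.split 3 70 (.wt 0) (.lin 2)) (.lin 1)) (.lin 1))))) (.lin
    2))) (.lin 1))) (.lin 7)))) (.lin 2)) (.lin 1)))) (.lin 8))) (.lin 1))) (.lin 7)) (.lin 2))
    (.lin 1))))) (.lin 2)) (.lin 1))) (.wt 0)) (.splitN 74812 (.wt 1) (.split 5 35 (.splitN 88454
    (.wt 1) (.split 4 (-16) (.split 3 51 (.lin 2) (.splitN 209969 (.split 1 (-2313) (.div 1)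
    (.split 6 1140 (.split 3 1195 (.splitN 172160 (.split 1 (-1881) (.div 1) (.split 6 924
    (.split 3 979 (.split 1 (-429) (.wt 0) (.split 6 199 (.split 3 250 (.split 1 (-189) (.wt 0)
    (.split 6 78 (.split 3 133 (.splitN 95549 (.wt 1) (.split 1 (-86) (.wt 0) (.split 6 28
    (.split 3 79 (.splitN 118273 (.wt 6) (.split 1 (-41) (.wt 0) (.split 5 26 (.split 6 6 (.split
    3 52 (.wt 0) (.lin 2)) (.lin 1)) (.lin 1)))) (.lin 2)) (.lin 1)))) (.lin 2)) (.lin 1))) (.lin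
    2)) (.lin 1))) (.lin 2)) (.lin 1))) (.wt 3)) (.lin 2)) (.lin 1))) (.wt 0))) (.split 5 30
    (.splitN 1760391 (.wt 6) (.split 1 (-46) (.wt 0) (.split 6 6 (.split 3 43 (.wt 0) (.lin 2))
    (.lin 1)))) (.split 1 (-47) (.split 3 51 (.lin 2) (.split 0 (-42) (.split 2 (-83) (.splitN
    481973 (.split 0 (-684) .sq (.split 2 (-1362) (.lin 0) (.split 1 (-1326) (.lin 6) (.split 6
    645 (.split 3 691 (.splitN 437947 (.split 1 (-650) .sq (.split 6 303 (.split 3 349 (.split 2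
    (-678) (.lin 8) (.splitN 401561 (.split 2 (-626) .sq (.split 1 (-588) (.lin 6) (.split 6 276
    (.split 3 322 (.split 2 (-228) (.split 1 (-200) (.split 6 82 (.lin 1) (.split 3 132 (.lin 2)
    (.splitN 200312 (.wt 1) (.wt 0)))) (.lin 6)) (.split 1 (-192) (.lin 6) (.split 6 78 (.split 3
    124 (.split 2 (-92) (.split 0 (-47) (.split 2 (-101) (.split 1 (-65) (.splitN 263774 .cand
    (.wt 1)) (.lin 6)) (.lin 0)) (.lin 0)) (.wt 2)) (.lin 2)) (.lin 1)))) (.lin 2)) (.lin 1))))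
    (.wt 1))) (.lin 2)) (.lin 1))) (.wt 1)) (.lin 2)) (.lin 1))))) (.wt 1)) (.lin 8)) (.lin 5)))
    (.lin 1))))) (.split 1 (-56) (.split 3 60 (.lin 2) (.split 2 (-101) (.splitN 225338 (.split 0
    (-453) .sq (.split 2 (-894) (.lin 0) (.split 1 (-849) (.lin 6) (.split 6 402 (.split 3 466
    (.splitN 210507 (.split 1 (-436) .sq (.split 6 195 (.split 2 (-480) (.lin 8) (.split 2 (-444)
    .sq (.split 1 (-399) (.lin 6) (.split 6 177 (.split 3 241 (.split 4 (-16) (.split 3 69 (.lin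
    2) (.split 1 (-364) (.wt 2) (.split 6 159 (.split 3 223 (.split 1 (-324) (.wt 2) (.split 6
    136 (.split 3 196 (.split 1 (-270) (.wt 2) (.split 6 109 (.split 3 169 (.split 1 (-222) (.wt
    2) (.split 6 87 (.split 3 151 (.split 1 (-192) (.wt 2) (.split 6 73 (.split 3 133 (.split 1
    (-164) (.wt 2) (.split 6 55 (.split 3 115 (.split 1 (-137) (.wt 2) (.split 6 42 (.split 3 106
    (.split 1 (-125) (.wt 2) (.split 6 37 (.split 3 97 (.split 2 (-143) (.wt 2) (.split 1 (-93)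
    (.lin 6) (.split 6 24 (.split 3 88 (.split 2 (-136) (.wt 2) (.split 0 (-65) (.lin 0) (.split
    1 (-84) (.lin 6) (.split 2 (-120) (.lin 0) (.split 1 (-75) (.lin 6) (.split 6 15 (.split 3 79
    (.split 2 (-103) (.split 0 (-56) (.split 1 (-65) (.split 2 (-119) (.split 1 (-74) (.split 6
    14 (.lin 1) (.split 3 78 (.lin 2) (.splitN 92110 (.wt 0) (.wt 0)))) (.lin 6)) (.lin 0)) (.lin
    6)) (.lin 0)) (.wt 2)) (.lin 2)) (.lin 1))))))) (.lin 2)) (.lin 1)))) (.lin 2)) (.lin 1)))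
    (.lin 2)) (.lin 1))) (.lin 2)) (.lin 1))) (.lin 2)) (.lin 1))) (.lin 2)) (.lin 1))) (.lin 2))
    (.lin 1))) (.lin 2)) (.lin 1))) (.lin 2)) (.lin 1)))) (.wt 2)) (.lin 2)) (.lin 1))))) (.lin
    1))) (.wt 1)) (.lin 2)) (.lin 1))))) (.wt 1)) (.lin 8))) (.lin 1)))))

def cert3_1_5 : Cert :=
  (.split 6 (-1) (.split 1 (-12) (.split 5 25 (.lin 1) (.split 0 (-24) (.split 2 (-47) (.split 4
    (-5) (.split 3 33 (.lin 4) (.split 5 435 (.split 1 (-426) (.lin 1) (.split 2 (-858) (.lin 8)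
    (.split 5 292 (.split 1 (-282) (.lin 1) (.split 2 (-570) (.lin 8) (.split 5 250 (.split 1
    (-237) (.lin 1) (.split 2 (-480) (.lin 8) (.split 5 231 (.split 2 (-444) (.lin 8) (.split 6
    (-103) (.lin 1) cert3_1_3)) (.wt 2)))) (.wt 2)))) (.wt 2)))) (.wt 2))) (.wt 0)) (.lin 0))
    (.lin 3))) (.split 5 8 (.wt 1) (.split 2 (-20) (.split 0 (-11) (.split 2 (-29) (.split 1 (-4)
    (.split 4 (-6) (.split 3 24 (.lin 4) (.split 5 57 (.split 2 (-102) (.lin 8) (.split 5 37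
    (.split 6 (-13) (.lin 1) (.split 0 (-25) (.lin 3) (.split 2 (-48) (.lin 0) (.split 5 33
    (.split 6 (-8) (.lin 1) (.split 5 17 (.wt 6) (.lin 1))) (.wt 2))))) (.wt 2))) (.wt 2))) (.wt
    0)) (.wt 0)) (.lin 0)) (.lin 0)) (.lin 6)))) (.split 1 (-20) (.split 3 15 (.lin 2) (.split 2
    (-29) (.split 5 10 (.wt 1) (.split 1 (-29) (.split 3 24 (.lin 2) (.split 0 (-24) (.split 2
    (-47) (.split 4 (-4) (.split 3 33 (.lin 2) (.split 5 21 (.wt 2) (.split 1 (-38) (.split 3 42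
    (.lin 2) (.split 2 (-65) (.split 5 86 (.split 5 45 (.split 4 (-195) (.wt 2) (.split 4 (-46)
    (.split 3 78 (.lin 2) (.splitN 111497 (.split 1 (-1233) (.div 1) (.split 6 600 (.split 3 835
    (.splitN 61320 (.wt 1) (.split 5 26 (.wt 0) (.split 1 (-47) (.split 2 (-83) (.wt 2) (.lin 8))
    (.lin 1)))) (.lin 2)) (.lin 1))) (.wt 0))) (.splitN 64703 (.wt 1) cert3_1_4))) (.split 1
    (-65) (.split 0 (-60) (.split 2 (-119) (.splitN 166192 (.split 1 (-1845) (.div 1) (.split 4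
    (-14) (.split 3 78 (.lin 2) (.splitN 102781 (.split 1 (-1125) (.div 1) (.split 6 532 (.split
    2 (-1218) (.lin 8) (.split 0 (-271) .sq (.split 2 (-534) (.lin 0) (.split 1 (-480) (.lin 6)
    (.split 1 (-272) .sq (.split 6 105 (.split 2 (-372) (.lin 8) (.split 2 (-345) (.lin 6)
    (.split 2 (-290) .sq (.split 0 (-142) (.lin 0) (.split 3 275 (.splitN 96656 (.split 4 (-65)
    (.split 3 123 (.lin 2) (.splitN 74635 (.split 5 55 (.wt 2) (.split 1 (-74) (.split 3 132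
    (.lin 2) (.split 0 (-69) (.split 2 (-137) (.split 1 (-151) .sq (.split 6 42 (.split 2 (-246)
    (.lin 8) (.splitN 68386 (.split 2 (-172) .sq (.split 0 (-83) (.lin 0) (.split 2 (-156) (.lin
    0) (.split 1 (-93) (.lin 6) (.split 3 168 (.split 4 (-93) (.lin 2) (.split 5 70 (.split 1
    (-81) (.wt 2) (.split 6 6 (.split 3 134 (.wt 2) (.split 4 (-74) (.wt 2) (.lin 2))) (.lin 1)))
    (.wt 2))) .sq))))) (.wt 1))) (.lin 1))) (.lin 8)) (.lin 5))) (.lin 1))) (.wt 1))) (.split 3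
    196 (.splitN 56445 (.wt 1) (.split 4 (-38) (.split 3 96 (.lin 2) (.splitN 79647 (.split 1
    (-217) .sq (.split 2 (-239) .sq (.split 0 (-119) (.lin 0) (.split 3 169 (.split 5 62 (.split
    5 57 (.splitN 65933 (.wt 1) (.split 1 (-129) (.wt 0) (.split 6 37 (.split 3 142 (.split 1
    (-112) (.wt 0) (.split 6 28 (.split 4 (-50) (.wt 0) (.split 3 124 (.splitN 72878 (.wt 6)
    (.split 1 (-67) (.wt 0) (.split 6 6 (.split 3 106 (.wt 0) (.lin 2)) (.lin 1)))) (.lin 2)))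
    (.lin 1))) (.lin 2)) (.lin 1)))) .cand) (.split 1 (-83) (.split 3 114 (.lin 2) (.splitN 68103
    (.split 4 (-40) (.split 3 123 (.lin 2) (.split 1 (-96) (.split 6 14 (.lin 1) (.split 3 132
    (.lin 2) (.split 2 (-173) .sq (.lin 8)))) (.wt 2))) (.wt 0)) (.wt 1))) (.lin 1))) (.lin
    7))))) (.wt 1))) (.split 5 67 (.split 4 (-25) .cand (.split 3 160 (.split 1 (-68) (.split 2
    (-128) (.split 0 (-65) (.split 3 87 (.lin 7) (.split 1 (-108) (.split 2 (-164) (.split 0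
    (-83) (.split 3 105 (.lin 7) (.splitN 89903 (.split 1 (-122) (.split 5 58 (.split 6 37 (.lin
    1) (.split 3 114 (.lin 2) (.split 1 (-152) (.split 6 50 (.lin 1) (.split 3 123 (.lin 2)
    (.split 2 (-209) .sq (.lin 8)))) (.wt 2)))) (.wt 0)) (.wt 0)) (.wt 1))) (.lin 0)) (.lin 6))
    (.wt 2))) (.lin 0)) (.lin 6)) (.wt 0)) (.lin 7))) (.wt 2)))) (.lin 7))) (.wt 1)) .sq)))))
    (.lin 1))))))) (.lin 1))) (.wt 1))) (.wt 2))) (.wt 1)) (.lin 8)) (.lin 5)) (.lin 1))) (.split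
    1 (-101) (.split 3 105 (.lin 2) (.split 0 (-96) (.split 2 (-191) (.splitN 108781 (.split 4
    (-18) (.splitN 77228 .sq (.wt 1)) (.wt 0)) (.wt 1)) (.lin 8)) (.lin 5))) (.lin 1))) (.lin
    8))) (.lin 1)))) (.wt 0)) (.lin 8)) (.lin 5))) (.lin 1))) (.lin 8))) (.lin 1)))

def cert3_1_6 : Cert :=
  (.split 5 37 (.wt 2) (.splitN 102329 (.split 0 (-308) .sq (.split 2 (-606) (.lin 0) (.split 3
    295 (.split 4 295 (.splitN 96153 (.split 2 (-302) .sq (.split 0 (-151) (.lin 0) (.split 6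
    (-130) (.lin 3) (.split 5 278 (.split 3 142 (.split 3 7 (.wt 2) (.split 4 133 (.split 4 7
    (.wt 2) (.split 3 133 (.split 5 110 (.split 6 (-44) (.lin 1) (.split 4 88 (.split 5 44 (.wt
    2) (.split 2 (-74) (.split 0 (-38) (.split 2 (-83) (.split 3 37 (.split 1 (-89) (.wt 2)
    (.split 2 (-192) (.lin 6) (.split 0 (-97) (.lin 0) (.split 4 79 (.split 4 18 (.wt 2) (.split
    5 60 (.wt 2) (.split 1 (-39) (.split 2 (-110) (.wt 2) (.lin 6)) (.split 2 (-147) (.lin 6)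
    (.split 0 (-74) (.lin 0) (.split 4 52 (.split 5 65 (.wt 2) (.split 2 (-92) (.split 0 (-47)
    (.split 2 (-101) (.split 3 17 (.wt 2) (.split 4 43 (.splitN 40692 (.wt 1) (.split 1 (-34)
    (.wt 2) (.split 5 75 (.wt 2) (.split 6 (-26) (.split 4 34 (.split 1 (-28) (.wt 2) (.split 5
    98 (.splitN 45078 (.wt 1) (.split 5 82 (.wt 2) (.split 6 (-35) (.split 0 (-60) (.split 2
    (-119) (.split 3 28 (.wt 2) (.split 4 25 (.wt 0) (.lin 2))) (.lin 0)) (.lin 3)) (.lin 1))))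
    (.lin 1))) (.split 5 97 (.lin 2) (.split 1 (-29) (.split 2 (-119) (.split 6 (-35) (.split 3
    25 (.wt 0) (.lin 2)) (.lin 1)) (.lin 8)) (.lin 4)))) (.lin 1))))) (.lin 7))) (.lin 0)) (.lin
    0)) (.lin 6))) (.lin 7))))))) (.lin 7))))) (.split 4 61 (.split 0 (-60) (.split 2 (-119)
    (.split 4 16 (.wt 2) (.split 3 79 (.split 1 (-29) (.split 0 (-69) (.split 2 (-137) (.splitN
    41221 (.wt 1) (.split 1 (-70) (.wt 2) (.split 2 (-174) (.lin 6) (.split 0 (-88) (.lin 0)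
    (.split 3 61 (.split 4 43 (.split 1 (-40) (.wt 2) (.split 2 (-147) (.lin 6) (.split 0 (-74)
    (.lin 0) (.split 3 43 (.split 4 25 (.wt 0) (.lin 7)) (.lin 7))))) (.lin 7)) (.lin 7))))))
    (.lin 0)) (.lin 7)) (.lin 4)) (.lin 2))) (.lin 0)) (.lin 7)) (.lin 2))) (.lin 0)) (.lin 0))
    (.lin 6))) (.lin 2))) (.split 2 (-137) (.split 0 (-69) (.splitN 61385 (.split 2 (-200) .sq
    (.split 0 (-97) (.lin 0) (.split 1 (-75) (.lin 6) (.split 6 (-21) (.split 3 79 (.split 4 79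
    (.split 3 35 (.split 4 33 (.lin 7) (.splitN 52958 (.split 2 (-180) .sq (.split 0 (-88) (.lin
    0) (.split 4 70 (.splitN 52393 (.split 2 (-169) .sq (.split 0 (-83) (.lin 0) (.split 1 (-48)
    (.lin 6) (.split 6 (-39) (.split 6 (-58) (.lin 3) (.split 5 134 (.split 3 16 (.wt 2) (.split
    4 52 (.split 1 (-29) (.split 6 (-53) (.lin 1) (.split 5 125 (.split 2 (-146) (.split 0 (-74)
    (.split 2 (-155) (.split 4 42 (.lin 7) (.splitN 48401 .sq (.wt 0))) (.lin 0)) (.lin 0)) (.lin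
    6)) (.lin 5))) (.split 6 (-48) (.split 3 30 (.split 4 42 (.lin 4) (.splitN 48844 (.wt 0) (.wt
    1))) (.wt 0)) (.lin 1))) (.lin 7))) (.lin 5))) (.lin 1))))) (.wt 1)) (.lin 7)))) (.wt 1)))
    (.split 4 52 (.splitN 39932 .sq (.splitN 55601 (.split 2 (-178) .sq (.split 0 (-88) (.lin 0)
    (.split 1 (-57) (.lin 6) (.split 6 (-30) (.split 6 (-67) (.lin 3) (.split 5 152 (.split 4 43
    (.split 4 29 (.splitN 49949 (.split 1 (-42) (.wt 0) (.split 6 (-39) (.split 2 (-165) .sq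
    (.split 0 (-83) (.lin 0) (.split 2 (-156) (.lin 0) (.split 6 (-58) (.lin 3) (.split 5 134
    (.split 3 61 (.splitN 49309 (.split 1 (-36) (.wt 0) (.split 6 (-44) (.split 4 16 (.wt 2)
    (.split 1 (-22) (.split 5 124 (.lin 1) (.split 0 (-78) (.split 2 (-155) (.split 6 (-53) (.lin
    1) (.split 3 51 (.lin 2) .sq)) (.lin 0)) (.lin 3))) (.wt 0))) (.lin 1))) (.wt 1)) (.lin 7))
    (.lin 5)))))) (.lin 1))) (.wt 1)) (.split 0 (-78) (.split 2 (-155) (.split 3 52 (.splitN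
    47870 .sq (.split 1 (-21) (.wt 1) (.wt 0))) (.lin 7)) (.lin 0)) (.lin 7))) (.lin 7)) (.lin
    5))) (.lin 1))))) (.wt 1))) (.lin 7))) (.lin 7)) (.lin 7)) (.lin 1))))) (.wt 1)) (.lin 0))
    (.lin 6))) (.lin 7))) (.lin 7))) (.lin 7)) (.lin 5))))) (.wt 1)) (.lin 7)) (.lin 7)))) (.wt
    1)))

def cert3_1_7 : Cert :=
  (.split 2 (-82) (.split 0 (-42) (.split 6 (-66) (.split 5 106 (.lin 5) (.split 4 60 (.lin 7)
    (.splitN 58041 (.split 2 (-183) .sq (.split 3 (-21) (.split 4 69 (.lin 7) (.splitN 53425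
    (.split 2 (-170) .sq (.split 0 (-83) (.lin 0) (.split 4 163 (.split 3 (-59) (.split 4 105
    (.lin 7) (.splitN 40544 .sq (.splitN 48295 (.split 2 (-112) .sq (.split 0 (-56) (.lin 0)
    (.split 2 (-102) (.lin 0) (.split 6 (-94) (.lin 3) (.split 5 143 (.split 3 (-99) .sq (.split
    4 142 (.split 1 42 (.split 6 (-89) (.lin 1) (.split 5 134 (.split 4 129 (.split 3 (-84) (.lin
    7) (.splitN 45895 (.split 1 31 (.split 6 (-80) (.lin 1) (.split 5 125 (.split 2 (-94) (.wt 0)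
    (.split 0 (-47) (.lin 0) (.split 6 (-67) (.lin 3) (.split 5 107 (.wt 0) (.lin 1))))) (.lin
    1))) (.wt 0)) (.wt 1))) .sq) (.lin 5))) (.wt 0)) (.lin 7))) (.lin 5)))))) (.wt 1)))) (.split
    4 133 (.splitN 52264 (.split 5 173 (.split 2 (-147) (.lin 6) (.split 0 (-74) (.lin 0) (.split
    2 (-138) (.lin 0) (.split 4 124 (.split 1 34 (.split 3 (-43) (.split 4 87 (.lin 7) (.splitN
    47659 (.split 5 149 (.split 6 (-89) (.lin 1) (.split 1 29 (.splitN 45262 (.split 5 117 (.wt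
    1) (.split 6 (-75) (.split 0 (-51) (.split 2 (-101) (.split 4 96 (.lin 4) .sq) (.lin 0))
    (.lin 3)) (.lin 1))) (.wt 1)) (.split 0 (-52) (.lin 3) (.split 2 (-102) (.lin 0) (.split 6
    (-71) (.split 5 115 (.lin 1) (.wt 0)) (.lin 1)))))) .sq) (.wt 1))) (.split 4 106 (.splitN
    42981 (.wt 3) (.split 2 (-86) (.split 0 (-47) (.split 6 (-75) (.split 5 124 (.lin 5) (.split
    4 78 (.lin 7) (.splitN 48987 (.split 1 29 (.split 3 (-31) (.wt 1) (.wt 0)) (.wt 0)) (.wt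
    1)))) (.lin 3)) (.lin 0)) (.wt 2))) (.lin 7))) (.split 6 (-84) (.split 5 124 (.lin 1) (.wt
    2)) (.lin 3))) (.lin 7))))) .sq) (.wt 1)) (.lin 7))) .sq))) (.wt 1))) (.wt 2))) (.wt 1))))
    (.lin 3)) (.lin 0)) (.split 0 (-38) (.lin 0) (.split 2 (-66) (.lin 0) (.split 6 (-76) (.lin
    3) (.split 5 125 (.split 3 (-69) (.split 4 87 (.lin 7) (.split 2 (-47) (.split 0 (-24)
    (.split 6 (-48) (.split 5 70 (.lin 5) (.split 4 96 (.lin 7) (.splitN 49794 (.split 3 (-171)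
    .sq (.split 5 89 (.split 6 (-67) (.lin 1) (.split 1 34 (.split 6 (-62) (.lin 1) (.splitN
    48377 (.split 4 172 (.split 3 (-147) (.lin 7) (.split 2 (-56) (.split 0 (-29) (.split 2 (-65)
    (.split 1 25 (.wt 2) (.lin 6)) (.lin 0)) (.lin 0)) (.split 0 (-25) (.lin 0) (.split 5 80
    (.split 1 33 (.split 6 (-53) (.lin 1) (.split 5 71 (.splitN 45086 (.wt 1) (.wt 0)) (.lin 1)))
    (.wt 2)) (.lin 5))))) .sq) (.wt 1))) (.split 0 (-25) (.lin 3) (.split 2 (-48) (.lin 0)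
    (.split 6 (-66) (.split 5 88 (.lin 1) (.wt 0)) (.lin 3)))))) (.split 1 33 (.lin 6) (.split 2
    (-56) (.split 0 (-29) (.split 4 105 (.lin 7) (.wt 2)) (.lin 0)) (.lin 6))))) (.wt 1)))) (.lin
    3)) (.lin 0)) (.split 0 (-20) (.lin 0) (.split 2 (-30) (.lin 0) (.wt 2))))) (.split 4 115
    (.split 2 (-47) (.split 0 (-24) (.split 6 (-48) (.split 5 70 (.lin 5) (.split 4 42 (.lin 7)
    (.split 3 (-37) (.split 4 60 (.lin 7) (.splitN 51512 (.splitN 40467 (.wt 1) (.split 5 105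
    (.split 6 (-71) (.lin 1) (.split 1 34 (.split 5 84 (.split 2 (-57) (.lin 6) (.split 0 (-29)
    (.lin 0) (.split 2 (-48) (.lin 0) (.split 4 88 (.splitN 48313 (.split 1 33 (.split 6 (-53)
    (.lin 1) (.split 5 71 (.splitN 43403 (.wt 1) (.split 3 (-48) (.wt 0) (.split 4 70 (.wt 1)
    (.lin 2)))) (.lin 1))) (.wt 0)) (.wt 1)) (.lin 7))))) (.split 2 (-56) (.split 0 (-29) (.split
    2 (-65) (.split 4 69 (.lin 7) (.split 1 32 (.split 6 (-62) (.lin 1) (.split 5 89 (.splitN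
    45674 (.wt 1) (.wt 1)) (.lin 1))) (.wt 2))) (.lin 0)) (.lin 0)) (.lin 6))) (.split 0 (-25)
    (.lin 3) (.split 2 (-48) (.lin 0) (.wt 0))))) (.wt 6))) (.wt 1))) (.split 2 (-50) (.split 0
    (-29) (.split 6 (-57) (.split 5 88 (.lin 5) (.wt 2)) (.lin 3)) (.lin 0)) (.wt 2))))) (.lin
    3)) (.lin 0)) (.split 0 (-20) (.lin 0) (.split 2 (-30) (.lin 0) (.splitN 45703 (.split 1 29
    (.split 6 (-40) (.lin 3) (.split 3 (-47) (.split 4 60 (.lin 2) (.wt 0)) (.wt 0))) (.wt 0))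
    (.wt 6))))) (.lin 4))) (.lin 1))))))

def cert3_1_8 : Cert :=
  (.split 3 (-12) (.split 4 24 (.lin 7) (.split 5 42 (.split 1 25 (.split 2 (-30) (.lin 6)
    (.splitN 237193 (.splitN 26260 (.wt 1) (.split 3 (-483) .sq (.split 2 (-20) (.split 0 (-11)
    (.split 2 (-29) (.split 1 7 (.wt 0) (.lin 6)) (.lin 0)) (.lin 0)) (.split 5 26 (.split 1 16
    (.split 1 11 (.split 6 (-17) (.lin 1) (.split 5 17 (.splitN 30121 (.wt 1) (.wt 0)) (.lin 1)))
    (.split 6 (-17) (.split 5 25 (.lin 1) (.wt 2)) (.lin 1))) (.lin 6)) (.split 1 24 (.lin 6)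
    (.splitN 74650 (.wt 0) (.wt 1))))))) (.wt 1))) (.lin 6)) (.split 6 (-26) (.splitN 103950
    (.split 1 1124 (.split 2 (-2811) (.div 2) (.split 0 (-1406) (.lin 0) (.split 6 (-2524) (.lin
    3) (.split 5 3923 (.split 3 (-1125) (.div 3) (.split 4 5011 (.split 1 311 (.split 2 (-312)
    .sq (.split 0 (-155) (.lin 0) (.splitN 96651 (.split 3 (-302) .sq (.split 4 448 (.split 2
    (-12) (.split 0 (-11) (.split 2 (-29) (.split 4 33 (.lin 7) (.split 4 300 (.split 3 (-282)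
    (.lin 7) (.split 5 301 (.split 2 (-291) (.lin 6) (.split 1 43 (.splitN 80973 (.split 4 272
    (.split 5 273 (.split 1 17 (.splitN 62973 (.split 2 (-241) .sq (.split 0 (-119) (.lin 0)
    (.split 6 (-130) (.lin 3) (.split 5 251 (.split 4 240 (.split 1 11 (.split 0 (-24) (.split 2
    (-47) (.wt 2) (.lin 0)) (.lin 3)) (.split 5 241 (.split 6 (-125) (.lin 1) (.split 5 101
    (.split 6 (-58) (.lin 1) (.split 5 71 (.split 6 (-44) (.lin 1) (.split 5 62 (.split 3 (-67)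
    (.split 4 78 (.lin 2) (.splitN 38071 (.wt 1) (.split 2 (-35) (.wt 0) (.split 0 (-16) (.lin 0)
    (.split 6 (-31) (.lin 3) (.split 5 44 (.wt 0) (.lin 1))))))) (.split 4 97 (.split 4 88
    (.split 2 (-46) (.wt 2) (.split 0 (-20) (.lin 0) (.split 6 (-31) (.lin 3) (.split 5 44
    (.splitN 47034 (.wt 6) (.split 3 (-22) (.wt 0) (.split 4 34 (.wt 0) (.lin 2)))) (.lin 1)))))
    (.lin 4)) (.lin 2))) (.lin 1))) (.split 6 (-48) (.split 0 (-33) (.split 2 (-65) (.split 4 42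
    (.lin 2) (.split 4 51 (.lin 4) (.splitN 37162 (.wt 1) (.split 3 (-43) (.wt 0) (.split 4 88
    (.splitN 39953 (.wt 1) (.split 3 (-26) (.wt 0) (.split 4 70 (.splitN 43590 (.wt 1) (.wt 3))
    (.lin 2)))) (.lin 2)))))) (.lin 0)) (.lin 3)) (.lin 1)))) (.split 6 (-62) (.split 0 (-51)
    (.split 2 (-101) (.split 5 115 (.lin 1) (.split 4 69 (.lin 4) (.splitN 36170 .sq (.splitN
    47585 (.split 3 (-91) (.wt 0) (.splitN 36586 (.wt 1) (.split 3 (-48) (.wt 0) (.split 4 151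
    (.split 3 (-45) (.wt 0) (.split 2 (-142) .sq (.split 0 (-70) (.lin 0) (.split 6 (-85) (.lin
    3) (.split 5 152 (.split 4 106 (.splitN 45990 (.split 3 (-34) (.wt 0) (.splitN 40738 (.wt 1)
    (.split 3 (-27) (.wt 0) (.wt 1)))) (.wt 1)) (.lin 4)) (.lin 1)))))) (.lin 4))))) (.wt 1)))))
    (.lin 0)) (.lin 3)) (.lin 1)))) .sq)) .sq) (.lin 1))))) (.wt 1)) (.split 6 (-35) (.split 5 52
    (.lin 5) (.split 2 (-246) (.lin 6) (.splitN 72405 (.split 4 256 cert3_1_7 .sq) (.wt 1))))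
    (.lin 1))) .sq) .sq) (.wt 1)) (.split 6 (-66) (.split 5 79 (.lin 5) (.split 2 (-246) (.lin 6)
    (.split 2 (-44) (.split 0 (-24) (.split 6 (-75) (.split 5 97 (.lin 5) (.split 4 42 (.lin 7)
    (.split 2 (-60) (.split 0 (-33) (.split 6 (-84) (.split 5 115 (.lin 5) (.split 4 51 (.lin 7)
    (.splitN 63593 (.split 3 (-21) (.split 4 60 (.lin 7) (.splitN 58503 (.split 2 (-86) (.split 0
    (-47) (.split 2 (-101) (.split 6 (-102) (.split 5 151 (.lin 5) (.split 4 78 (.lin 7) .sq))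
    (.lin 3)) (.lin 0)) (.lin 0)) (.wt 2)) (.wt 1))) (.wt 0)) (.wt 1)))) (.lin 3)) (.lin 0)) (.wt
    2)))) (.lin 3)) (.lin 0)) (.wt 2)))) (.lin 3)))) .sq)) .sq)) (.lin 0)) (.lin 0)) (.wt 2))
    (.lin 7))) (.wt 1)))) .sq) (.lin 2))) (.lin 5))))) (.div 1)) (.wt 1)) (.lin 1)))) (.split 3
    (-5) (.split 4 15 (.lin 7) (.split 5 42 (.split 4 34 (.split 1 25 (.splitN 31171 (.wt 1)
    (.split 2 (-20) (.split 0 (-11) (.split 2 (-29) (.split 1 7 (.wt 0) (.lin 6)) (.lin 0)) (.lin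
    0)) (.split 0 (-7) (.lin 0) (.split 4 16 (.splitN 81038 (.split 1 23 (.split 5 17 (.wt 2)
    (.split 6 (-17) (.split 1 15 (.lin 4) (.wt 0)) (.lin 1))) (.wt 0)) (.wt 1)) (.lin 7)))))
    (.lin 6)) (.lin 2)) (.split 6 (-26) (.splitN 166320 (.split 1 1844 (.split 2 (-16) (.split 0
    (-11) (.split 2 (-29) (.split 4 24 (.lin 7) (.split 0 (-402) .sq (.split 2 (-786) (.lin 0)
    (.split 4 403 (.splitN 155774 (.split 1 385 (.split 2 (-387) .sq (.split 0 (-191) (.lin 0)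
    (.split 4 196 (.splitN 143236 (.split 5 370 (.splitN 30306 (.wt 1) (.split 1 48 (.splitN
    113594 (.split 2 (-328) .sq (.split 0 (-164) (.lin 0) (.split 4 169 (.split 1 17 (.splitN
    80750 (.split 2 (-274) .sq (.split 0 (-137) (.lin 0) (.split 4 142 (.split 5 275 (.split 6
    (-143) (.lin 1) (.split 1 11 (.split 0 (-24) (.split 2 (-47) (.split 4 33 (.lin 4) (.split 2
    (-236) (.wt 0) (.split 0 (-115) (.lin 0) (.split 6 (-121) (.lin 3) (.split 5 233 (.split 4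
    124 (.splitN 33275 (.wt 1) (.split 2 (-80) (.wt 0) (.split 0 (-38) (.lin 0) (.split 6 (-40)
    (.lin 3) (.split 5 71 (.split 4 43 (.wt 0) (.lin 4)) (.lin 1)))))) (.lin 4)) (.lin 1))))))
    (.lin 0)) (.lin 3)) (.split 4 133 (.split 2 (-34) (.split 0 (-20) (.split 6 (-39) (.split 5
    61 (.lin 1) (.split 4 33 (.lin 4) (.splitN 50152 (.wt 3) (.split 5 216 (.split 6 (-116) (.lin
    1) (.split 0 (-97) (.lin 3) (.split 2 (-192) (.lin 0) (.split 4 106 (.split 5 183 (.split 6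
    (-98) (.lin 1) (.split 0 (-79) (.lin 3) (.split 2 (-156) (.lin 0) (.split 4 88 (.split 5 158
    (.split 6 (-85) (.lin 1) (.split 0 (-70) (.lin 3) (.split 2 (-138) (.lin 0) (.split 4 79
    (.split 5 144 (.split 6 (-80) (.lin 1) (.split 0 (-61) (.lin 3) (.split 2 (-120) (.lin 0)
    (.split 4 70 (.split 5 130 (.split 6 (-71) (.lin 1) (.split 0 (-52) (.lin 3) (.split 2 (-102)
    (.lin 0) (.split 4 61 (.splitN 61019 (.split 2 (-57) (.split 0 (-33) (.split 6 (-48) (.split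
    5 79 (.lin 1) (.split 4 42 (.lin 4) (.wt 0))) (.lin 3)) (.lin 0)) (.wt 0)) (.wt 1)) (.lin
    4))))) (.wt 1)) (.lin 4))))) (.wt 1)) (.lin 4))))) (.wt 1)) (.lin 4))))) (.wt 1)) (.lin
    4))))) (.wt 1))))) (.lin 3)) (.lin 0)) (.wt 2)) (.lin 4)))) .sq) (.lin 7)))) (.wt 1)) (.split
    6 (-35) (.split 5 52 (.lin 2) (.split 2 (-33) (.split 0 (-20) (.split 6 (-48) (.split 5 70
    (.lin 5) (.split 4 33 (.lin 7) (.splitN 83114 (.splitN 66868 (.split 1 26 (.split 2 (-212)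
    (.split 0 (-110) (.split 6 (-138) (.split 5 250 (.lin 1) .sq) (.lin 3)) (.lin 0)) (.wt 0))
    (.wt 0)) (.wt 6)) (.wt 1)))) (.lin 3)) (.lin 0)) (.wt 0))) (.lin 1))) (.lin 7)))) (.wt 1))
    (.split 6 (-48) (.split 5 61 (.lin 2) (.split 6 (-57) (.split 5 70 (.lin 2) (.split 6 (-62)
    (.split 5 79 (.lin 2) (.wt 2)) (.lin 1))) (.lin 1))) (.lin 1)))) .sq) (.wt 1)) (.lin 7))))
    .sq) (.wt 1)) (.lin 7))))) (.lin 0)) (.lin 0)) (.wt 2)) (.div 1)) (.wt 1)) (.lin 1)))) (.wt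
    0)))

def cert3_1_9 : Cert :=
  (.split 2 (-82) (.split 0 (-42) (.split 6 (-66) (.split 5 106 (.lin 5) (.split 3 60 (.lin 7)
    (.splitN 58041 (.split 2 (-183) .sq (.split 4 (-21) (.split 3 69 (.lin 7) (.splitN 53425
    (.split 2 (-170) .sq (.split 0 (-83) (.lin 0) (.split 3 163 (.split 4 (-59) (.split 3 105
    (.lin 7) (.splitN 40544 .sq (.splitN 48295 (.split 2 (-112) .sq (.split 0 (-56) (.lin 0)
    (.split 2 (-102) (.lin 0) (.split 6 (-94) (.lin 3) (.split 5 143 (.split 3 129 (.split 4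
    (-84) (.lin 7) (.split 1 40 (.split 6 (-89) (.lin 1) (.split 5 134 (.splitN 45895 (.split 1
    31 (.split 2 (-94) (.wt 0) (.split 0 (-47) (.lin 0) (.split 6 (-67) (.lin 3) (.split 5 107
    (.wt 0) (.lin 1))))) (.wt 0)) (.wt 1)) (.lin 5))) (.wt 0))) .sq) (.lin 5)))))) (.wt 1))))
    (.split 3 133 (.splitN 52264 (.split 5 173 (.split 2 (-147) (.lin 6) (.split 0 (-74) (.lin 0)
    (.split 2 (-138) (.lin 0) (.split 3 124 (.split 1 34 (.split 4 (-43) (.split 3 87 (.lin 7)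
    (.splitN 47659 (.split 5 149 (.split 6 (-89) (.lin 1) (.split 1 29 (.splitN 45262 (.split 5
    117 (.wt 1) (.split 6 (-75) (.split 0 (-51) (.split 2 (-101) (.split 3 96 (.lin 4) .sq) (.lin
    0)) (.lin 3)) (.lin 1))) (.wt 1)) (.split 0 (-52) (.lin 3) (.split 2 (-102) (.lin 0) (.split
    6 (-71) (.split 5 115 (.lin 1) (.wt 0)) (.lin 1)))))) .sq) (.wt 1))) (.split 3 106 (.splitN
    42981 (.wt 3) (.split 2 (-86) (.split 0 (-47) (.split 6 (-75) (.split 5 124 (.lin 5) (.split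
    3 78 (.lin 7) (.splitN 48987 (.split 1 29 (.split 4 (-31) (.wt 1) (.wt 0)) (.wt 0)) (.wt
    1)))) (.lin 3)) (.lin 0)) (.wt 2))) (.lin 7))) (.split 6 (-84) (.split 5 124 (.lin 1) (.wt
    2)) (.lin 3))) (.lin 7))))) .sq) (.wt 1)) (.lin 7))) .sq))) (.wt 1))) (.wt 2))) (.wt 1))))
    (.lin 3)) (.lin 0)) (.split 0 (-38) (.lin 0) (.split 2 (-66) (.lin 0) (.split 6 (-76) (.lin
    3) (.split 5 125 (.split 4 (-69) (.split 3 69 (.lin 4) (.split 3 87 (.lin 7) (.splitN 54650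
    (.split 3 202 (.split 4 (-183) (.lin 7) (.split 2 (-47) (.split 0 (-24) (.split 6 (-48)
    (.split 5 70 (.lin 5) (.split 3 96 (.lin 7) (.splitN 49794 (.split 3 181 (.split 4 (-156)
    (.lin 7) (.split 5 89 (.split 6 (-67) (.lin 1) (.split 1 34 (.split 6 (-62) (.lin 1) (.splitN
    48377 (.split 3 172 (.split 4 (-147) (.lin 7) (.split 2 (-56) (.split 0 (-29) (.split 2 (-65)
    (.split 1 25 (.wt 2) (.lin 6)) (.lin 0)) (.lin 0)) (.split 0 (-25) (.lin 0) (.split 5 80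
    (.split 1 33 (.split 6 (-53) (.lin 1) (.split 5 71 (.splitN 45086 (.wt 1) (.wt 0)) (.lin 1)))
    (.wt 2)) (.lin 5))))) .sq) (.wt 1))) (.split 0 (-25) (.lin 3) (.split 2 (-48) (.lin 0)
    (.split 6 (-66) (.split 5 88 (.lin 1) (.wt 0)) (.lin 3)))))) (.split 1 33 (.lin 6) (.wt 2))))
    .sq) (.wt 1)))) (.lin 3)) (.lin 0)) (.split 0 (-20) (.lin 0) (.split 2 (-30) (.lin 0) (.wt
    2))))) .sq) (.wt 1)))) (.split 3 115 (.split 2 (-47) (.split 0 (-24) (.split 6 (-48) (.split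
    5 70 (.lin 5) (.split 3 42 (.lin 7) (.split 4 (-37) (.split 3 60 (.lin 7) (.splitN 51512
    (.splitN 40467 (.wt 1) (.split 5 105 (.split 6 (-71) (.lin 1) (.split 1 34 (.split 5 84
    (.split 2 (-57) (.lin 6) (.split 0 (-29) (.lin 0) (.split 2 (-48) (.lin 0) (.split 3 88
    (.splitN 48313 (.split 1 33 (.split 6 (-53) (.lin 1) (.split 5 71 (.splitN 43403 (.wt 1)
    (.split 4 (-48) (.wt 0) (.split 3 70 (.wt 1) (.lin 2)))) (.lin 1))) (.wt 0)) (.wt 1)) (.lin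
    7))))) (.split 2 (-56) (.split 0 (-29) (.split 2 (-65) (.split 3 69 (.lin 7) (.split 1 32
    (.split 6 (-62) (.lin 1) (.split 5 89 (.splitN 45674 (.wt 1) (.wt 1)) (.lin 1))) (.wt 2)))
    (.lin 0)) (.lin 0)) (.lin 6))) (.split 0 (-25) (.lin 3) (.split 2 (-48) (.lin 0) (.wt 0)))))
    (.wt 6))) (.wt 1))) (.split 2 (-50) (.split 0 (-29) (.split 6 (-57) (.split 5 88 (.lin 5)
    (.wt 2)) (.lin 3)) (.lin 0)) (.wt 2))))) (.lin 3)) (.lin 0)) (.split 0 (-20) (.lin 0) (.split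
    2 (-30) (.lin 0) (.splitN 45703 (.split 1 29 (.split 6 (-40) (.lin 3) (.split 3 42 (.split 4
    (-21) (.lin 2) (.wt 0)) (.wt 0))) (.wt 0)) (.wt 6))))) (.lin 4))) (.lin 1))))))

def cert3_1_10 : Cert :=
  (.split 4 (-12) (.split 3 24 (.lin 7) (.split 5 42 (.split 1 25 (.split 6 (-31) (.lin 1)
    (.split 2 (-30) (.lin 6) (.splitN 237193 (.splitN 26260 (.wt 1) (.split 3 482 (.split 4
    (-489) (.lin 2) (.split 2 (-20) (.split 0 (-11) (.split 2 (-29) (.split 1 7 (.wt 0) (.lin 6))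
    (.lin 0)) (.lin 0)) (.split 5 26 (.split 1 16 (.split 1 11 (.split 6 (-17) (.lin 1) (.split 5
    17 (.splitN 30096 (.wt 1) (.wt 0)) (.lin 1))) (.split 6 (-17) (.split 5 25 (.lin 1) (.wt 2))
    (.lin 1))) (.lin 6)) (.split 1 24 (.lin 6) (.splitN 74793 (.wt 0) (.wt 1)))))) .sq)) (.wt
    1)))) (.lin 6)) (.split 6 (-26) (.splitN 103950 (.split 1 311 (.split 2 (-312) .sq (.splitN
    96651 (.split 3 302 (.split 4 (-291) (.lin 7) (.split 2 (-12) (.split 0 (-11) (.split 2 (-29)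
    (.split 3 33 (.lin 7) (.split 5 301 (.split 2 (-291) (.lin 6) (.split 1 43 (.splitN 80973
    (.split 3 272 (.split 5 273 (.split 1 17 (.splitN 62973 (.split 2 (-241) .sq (.split 0 (-119)
    (.lin 0) (.split 6 (-130) (.lin 3) (.split 5 251 (.split 3 240 (.split 1 11 (.split 0 (-24)
    (.split 2 (-47) (.wt 2) (.lin 0)) (.lin 3)) (.split 5 241 (.split 6 (-125) (.lin 1) (.split 5
    101 (.split 6 (-58) (.lin 1) (.split 5 71 (.split 6 (-44) (.lin 1) (.split 5 62 (.split 4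
    (-67) (.split 3 78 (.lin 2) (.splitN 38071 (.wt 1) (.split 2 (-35) (.wt 0) (.split 0 (-16)
    (.lin 0) (.split 6 (-31) (.lin 3) (.split 5 44 (.wt 0) (.lin 1))))))) (.split 3 97 (.split 3
    88 (.split 2 (-46) (.wt 2) (.split 0 (-20) (.lin 0) (.split 6 (-31) (.lin 3) (.split 5 44
    (.splitN 47034 (.wt 6) (.split 3 63 (.wt 0) (.split 4 (-56) (.wt 0) (.lin 2)))) (.lin 1)))))
    (.lin 4)) (.lin 2))) (.lin 1))) (.split 6 (-48) (.split 3 42 (.lin 2) (.split 0 (-33) (.split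
    2 (-65) (.split 3 51 (.lin 4) (.splitN 37162 (.wt 1) (.split 4 (-43) (.wt 0) (.split 3 88
    (.splitN 39953 (.wt 1) (.split 4 (-26) (.wt 0) (.split 3 70 (.splitN 43590 (.wt 1) (.wt 3))
    (.lin 2)))) (.lin 2))))) (.lin 0)) (.lin 3))) (.lin 1)))) (.split 6 (-62) (.split 0 (-51)
    (.split 2 (-101) (.split 5 115 (.lin 1) (.split 3 69 (.lin 4) (.splitN 36170 .sq (.splitN
    47585 (.split 4 (-91) (.wt 0) (.splitN 36586 (.wt 1) (.split 4 (-48) (.wt 0) (.split 3 151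
    (.split 4 (-45) (.wt 0) (.split 2 (-142) .sq (.split 0 (-70) (.lin 0) (.split 6 (-85) (.lin
    3) (.split 5 152 (.split 3 106 (.splitN 45990 (.split 4 (-34) (.wt 0) (.splitN 40738 (.wt 1)
    (.split 4 (-27) (.wt 0) (.wt 1)))) (.wt 1)) (.lin 4)) (.lin 1)))))) (.lin 4))))) (.wt 1)))))
    (.lin 0)) (.lin 3)) (.lin 1)))) .sq)) .sq) (.lin 1))))) (.wt 1)) (.split 6 (-35) (.split 5 52
    (.lin 5) (.split 2 (-246) (.lin 6) (.splitN 72405 (.split 3 256 (.split 4 (-237) (.lin 7)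
    cert3_1_9) .sq) (.wt 1)))) (.lin 1))) .sq) .sq) (.wt 1)) (.split 6 (-66) (.split 5 79 (.lin
    5) (.split 2 (-246) (.lin 6) (.split 2 (-44) (.split 0 (-24) (.split 6 (-75) (.split 5 97
    (.lin 5) (.split 3 42 (.lin 7) (.split 2 (-60) (.split 0 (-33) (.split 6 (-84) (.split 5 115
    (.lin 5) (.split 3 51 (.lin 7) (.splitN 63593 (.split 4 (-21) (.split 3 60 (.lin 7) (.splitN
    58503 (.split 2 (-86) (.split 0 (-47) (.split 2 (-101) (.split 6 (-102) (.split 5 151 (.lin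
    5) (.split 3 78 (.lin 7) .sq)) (.lin 3)) (.lin 0)) (.lin 0)) (.wt 2)) (.wt 1))) (.wt 0)) (.wt
    1)))) (.lin 3)) (.lin 0)) (.wt 2)))) (.lin 3)) (.lin 0)) (.wt 2)))) (.lin 3)))) .sq)) (.lin
    0)) (.lin 0)) (.wt 2))) .sq) (.wt 1))) .sq) (.wt 1)) (.lin 1)))) (.split 4 (-5) (.split 3 15
    (.lin 7) (.split 5 42 (.split 3 34 (.split 1 25 (.splitN 31171 (.wt 1) (.split 2 (-20)
    (.split 0 (-11) (.split 2 (-29) (.split 1 7 (.wt 0) (.lin 6)) (.lin 0)) (.lin 0)) (.split 0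
    (-7) (.lin 0) (.split 3 16 (.splitN 81038 (.split 1 23 (.split 5 17 (.wt 2) (.split 6 (-17)
    (.split 1 15 (.lin 4) (.wt 0)) (.lin 1))) (.wt 0)) (.wt 1)) (.lin 7))))) (.lin 6)) (.lin 2))
    (.split 6 (-26) (.splitN 166320 (.split 1 1844 (.split 2 (-16) (.split 0 (-11) (.split 2
    (-29) (.split 3 24 (.lin 7) (.split 0 (-402) .sq (.split 2 (-786) (.lin 0) (.split 3 403
    (.splitN 155774 (.split 1 385 (.split 2 (-387) .sq (.split 0 (-191) (.lin 0) (.split 3 196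
    (.splitN 143236 (.split 5 370 (.splitN 30306 (.wt 1) (.split 1 48 (.splitN 113594 (.split 2
    (-328) .sq (.split 0 (-164) (.lin 0) (.split 3 169 (.split 1 17 (.splitN 80750 (.split 2
    (-274) .sq (.split 0 (-137) (.lin 0) (.split 3 142 (.split 5 275 (.split 6 (-143) (.lin 1)
    (.split 1 11 (.split 0 (-24) (.split 2 (-47) (.split 3 33 (.lin 4) (.split 2 (-236) (.wt 0)
    (.split 0 (-115) (.lin 0) (.split 6 (-121) (.lin 3) (.split 5 233 (.split 3 124 (.splitN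
    33275 (.wt 1) (.split 2 (-80) (.wt 0) (.split 0 (-38) (.lin 0) (.split 6 (-40) (.lin 3)
    (.split 5 71 (.split 3 43 (.wt 0) (.lin 4)) (.lin 1)))))) (.lin 4)) (.lin 1)))))) (.lin 0))
    (.lin 3)) (.split 3 133 (.split 2 (-34) (.split 0 (-20) (.split 6 (-39) (.split 5 61 (.lin 1)
    (.split 3 33 (.lin 4) (.splitN 50152 (.wt 3) (.split 5 216 (.split 6 (-116) (.lin 1) (.split
    0 (-97) (.lin 3) (.split 2 (-192) (.lin 0) (.split 3 106 (.split 5 183 (.split 6 (-98) (.lin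
    1) (.split 0 (-79) (.lin 3) (.split 2 (-156) (.lin 0) (.split 3 88 (.split 5 158 (.split 6
    (-85) (.lin 1) (.split 0 (-70) (.lin 3) (.split 2 (-138) (.lin 0) (.split 3 79 (.split 5 144
    (.split 6 (-80) (.lin 1) (.split 0 (-61) (.lin 3) (.split 2 (-120) (.lin 0) (.split 3 70
    (.split 5 130 (.split 6 (-71) (.lin 1) (.split 0 (-52) (.lin 3) (.split 2 (-102) (.lin 0)
    (.split 3 61 (.splitN 61019 (.split 2 (-57) (.split 0 (-33) (.split 6 (-48) (.split 5 79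
    (.lin 1) (.split 3 42 (.lin 4) (.wt 0))) (.lin 3)) (.lin 0)) (.wt 0)) (.wt 1)) (.lin 4)))))
    (.wt 1)) (.lin 4))))) (.wt 1)) (.lin 4))))) (.wt 1)) (.lin 4))))) (.wt 1)) (.lin 4))))) (.wt
    1))))) (.lin 3)) (.lin 0)) (.wt 2)) (.lin 4)))) .sq) (.lin 7)))) (.wt 1)) (.split 6 (-35)
    (.split 5 52 (.lin 2) (.split 2 (-33) (.split 0 (-20) (.split 6 (-48) (.split 5 70 (.lin 5)
    (.split 3 33 (.lin 7) (.splitN 83114 (.splitN 66868 (.split 1 26 (.split 2 (-212) (.split 0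
    (-110) (.split 6 (-138) (.split 5 250 (.lin 1) .sq) (.lin 3)) (.lin 0)) (.wt 0)) (.wt 0))
    (.wt 6)) (.wt 1)))) (.lin 3)) (.lin 0)) (.wt 0))) (.lin 1))) (.lin 7)))) (.wt 1)) (.split 6
    (-48) (.split 5 61 (.lin 2) (.split 6 (-57) (.split 5 70 (.lin 2) (.split 6 (-62) (.split 5
    79 (.lin 2) (.wt 2)) (.lin 1))) (.lin 1))) (.lin 1)))) .sq) (.wt 1)) (.lin 7)))) .sq) (.wt
    1)) (.lin 7))))) (.lin 0)) (.lin 0)) (.wt 2)) (.div 1)) (.wt 1)) (.lin 1)))) (.wt 0)))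

def cert3_1_11 : Cert :=
  (.split 1 (-1) (.split 3 (-1) (.split 4 6 (.lin 7) (.splitN 22389 (.wt 1) cert3_1_2)) (.split 4
    (-1) (.splitN 22389 (.wt 1) cert3_1_5) (.split 0 (-15) (.split 2 (-29) (.split 5 9 (.wt 6)
    (.split 6 (-1) (.split 1 (-12) (.split 0 (-24) (.split 2 (-47) (.split 5 32 (.wt 2) (.split 2
    (-56) (.split 0 (-29) (.split 2 (-65) cert3_1_6 (.lin 0)) (.lin 0)) (.lin 6))) (.lin 0))
    (.lin 3)) (.split 1 (-5) (.split 5 21 (.wt 2) (.split 6 (-8) (.split 0 (-24) (.split 2 (-47)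
    (.split 5 34 (.lin 1) (.splitN 253096 (.split 0 (-497) .sq (.split 2 (-984) (.lin 0) (.split
    6 (-481) (.lin 3) (.split 3 484 (.split 4 484 (.splitN 225858 (.split 2 (-472) .sq (.split 0
    (-236) (.lin 0) (.split 6 (-220) (.lin 3) (.split 5 449 (.split 3 430 (.split 4 430 (.split 3
    223 (.split 4 223 (.splitN 200946 (.split 2 (-443) .sq (.split 0 (-218) (.lin 0) (.split 6
    (-202) (.lin 3) (.split 5 413 (.split 3 37 (.splitN 138335 (.split 2 (-367) .sq (.split 0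
    (-182) (.lin 0) (.split 6 (-166) (.lin 3) (.split 4 169 (.split 4 34 (.split 5 233 (.split 0
    (-70) (.lin 7) (.split 2 (-138) (.lin 0) (.split 6 (-112) (.lin 1) (.split 5 179 (.split 6
    (-85) (.lin 1) (.split 5 152 (.split 5 37 (.wt 2) (.split 6 (-17) (.split 5 52 (.lin 1)
    (.splitN 74818 (.split 3 8 (.wt 2) (.split 4 8 (.wt 2) (.splitN 41795 (.wt 1) .cand))) (.wt
    1))) (.lin 1))) (.lin 2))) (.lin 2))))) (.lin 2)) (.split 5 61 (.lin 2) (.split 0 (-51)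
    (.split 2 (-101) (.split 6 (-26) (.split 5 79 (.lin 2) (.split 6 (-35) (.split 5 88 (.lin 1)
    (.splitN 74152 (.splitN 34801 (.wt 1) (.split 3 23 (.splitN 60962 (.split 2 (-213) .sq
    (.split 0 (-106) (.lin 0) (.split 6 (-94) (.lin 3) (.split 5 197 (.split 4 97 (.splitN 58775
    (.split 3 15 (.wt 0) (.wt 0)) (.wt 1)) (.lin 4)) (.lin 1))))) (.wt 1)) (.wt 0))) (.wt 1)))
    (.lin 1))) (.lin 1)) (.lin 0)) (.lin 7)))) (.lin 4))))) (.wt 1)) (.split 5 61 (.lin 2)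
    (.split 0 (-51) (.split 2 (-101) (.split 6 (-26) (.split 5 79 (.lin 2) (.split 6 (-35)
    (.split 5 88 (.lin 1) (.split 4 169 (.splitN 88717 (.splitN 34584 (.wt 1) (.split 4 31
    (.splitN 70041 (.split 4 22 (.splitN 61495 (.split 2 (-213) .sq (.split 0 (-106) (.lin 0)
    (.split 6 (-94) (.lin 3) (.split 5 197 (.split 3 97 (.splitN 58775 (.split 4 15 (.wt 0) (.wt
    0)) (.wt 1)) (.lin 4)) (.lin 1))))) (.wt 1)) (.wt 0)) (.wt 1)) (.wt 0))) (.wt 1)) (.lin 4)))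
    (.lin 1))) (.lin 1)) (.lin 0)) (.lin 7)))) (.lin 1))))) (.wt 1)) (.lin 4)) (.lin 4)) (.lin
    2)) (.lin 2)) (.lin 1))))) (.wt 1)) (.lin 4)) (.lin 4))))) (.wt 1))) (.lin 0)) (.lin 3))
    (.lin 1))) (.wt 0))) (.split 1 (-29) (.split 2 (-47) (.splitN 124501 (.split 1 (-1377) (.div
    1) (.split 5 1358 (.split 6 676 (.split 3 2023 (.split 5 36 (.wt 2) (.split 1 (-56) (.split 2
    (-101) (.splitN 79149 (.split 1 (-873) (.div 1) (.split 3 853 (.split 4 853 (.split 3 11 (.wt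
    2) (.splitN 24579 (.wt 1) (.split 4 7 (.wt 0) (.split 5 59 (.wt 2) (.split 1 (-74) (.split 2
    (-137) (.splitN 64680 (.split 1 (-693) (.div 1) (.split 3 664 (.split 4 664 (.split 5 70 (.wt
    2) (.split 1 (-83) (.split 2 (-155) (.splitN 61117 (.split 1 (-657) (.div 1) (.split 5 638
    (.split 0 (-646) (.lin 3) (.split 2 (-1290) (.lin 0) (.split 3 628 (.split 4 628 (.split 5 74
    (.wt 2) (.split 1 (-92) (.split 0 (-87) (.split 2 (-173) (.splitN 53648 .sq (.splitN 58670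
    (.split 3 39 (.wt 0) (.split 4 39 (.wt 0) .sq)) (.wt 1))) (.lin 8)) (.lin 5)) (.lin 1)))
    (.lin 4)) (.lin 4)))) (.lin 1))) (.wt 1)) (.lin 8)) (.lin 1))) (.lin 4)) (.lin 4))) (.wt 1))
    (.lin 8)) (.lin 1)))))) (.lin 4)) (.lin 4))) (.wt 1)) (.lin 8)) (.lin 1))) (.lin 2)) (.lin
    1)) (.lin 1))) (.wt 3)) (.lin 8)) (.lin 1)))) (.lin 0)) (.lin 7)))) (.split 6 (-8) (.split 5
    16 (.lin 5) (.split 3 (-1) (.split 4 6 (.lin 7) cert3_1_8) (.split 4 (-1) cert3_1_10 (.split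
    5 25 (.lin 2) (.split 0 (-15) (.split 2 (-29) (.split 6 (-17) (.split 5 34 (.lin 2) (.split 5
    35 (.wt 2) (.split 6 (-26) (.splitN 69531 (.split 0 (-255) .sq (.split 2 (-498) (.lin 0)
    (.split 3 241 (.split 4 241 (.split 1 254 (.split 6 (-499) (.lin 3) (.split 5 746 (.splitN
    65208 (.split 2 (-244) .sq (.split 0 (-119) (.lin 0) (.split 6 (-364) (.lin 3) (.split 5 476
    (.split 3 106 (.split 4 106 (.split 1 7 (.wt 2) (.split 3 7 (.wt 2) (.split 5 52 (.lin 2)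
    (.split 6 (-35) (.split 4 97 (.split 4 10 (.wt 2) (.split 5 70 (.lin 2) (.split 0 (-33)
    (.split 2 (-65) (.split 6 (-44) (.split 5 79 (.lin 2) (.split 1 16 (.wt 2) (.split 6 (-53)
    (.split 5 88 (.lin 2) (.splitN 48261 (.split 1 170 (.split 6 (-283) (.lin 3) (.split 5 395
    (.split 2 (-181) .sq (.split 0 (-88) (.lin 0) (.split 6 (-256) (.lin 3) (.split 5 341 (.split
    3 70 (.split 4 70 (.split 3 17 (.wt 2) (.split 5 97 (.lin 2) (.split 0 (-42) (.split 2 (-83)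
    (.split 6 (-62) (.split 5 106 (.lin 2) (.split 4 61 (.split 1 29 (.wt 2) (.split 6 (-71)
    (.split 4 22 (.wt 2) (.split 5 124 (.lin 2) (.split 0 (-51) (.split 2 (-101) (.split 6 (-80)
    (.split 5 133 (.lin 2) (.split 3 61 (.splitN 40220 .sq (.wt 1)) (.lin 7))) (.lin 1)) (.lin
    0)) (.lin 7)))) (.lin 1))) (.lin 7))) (.lin 1)) (.lin 0)) (.lin 7)))) (.lin 7)) (.lin 7))
    (.lin 5))))) (.lin 5))) .sq) (.wt 1))) (.lin 1)))) (.lin 1)) (.lin 0)) (.lin 7)))) (.lin 7))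
    (.lin 1))))) (.lin 7)) (.lin 7)) (.lin 5))))) (.wt 1)) (.lin 5))) .sq) (.lin 7)) (.lin 7))))
    (.wt 1)) (.lin 1)))) (.lin 1)) (.lin 0)) (.lin 7)))))) (.lin 1)))

def cert3_1_12 : Cert :=
  (.split 4 (-30) (.split 6 (-75) (.split 1 123 (.lin 4) (.split 0 47 (.lin 7) (.split 2 96 (.lin
    0) (.split 5 32 (.wt 2) (.split 6 (-80) (.split 1 132 (.lin 4) (.splitN 2024186 (.split 0
    1409 (.split 2 2815 (.split 1 2869 (.splitN 1905642 (.split 1 1371 (.split 6 (-710) (.lin 1)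
    (.split 2 1339 (.split 4 (-660) (.lin 2) (.split 3 (-29) (.wt 2) (.splitN 87502 (.wt 1)
    (.split 3 (-16) (.split 6 (-93) (.split 1 150 (.lin 4) (.split 4 (-161) (.wt 0) (.split 6
    (-229) (.lin 2) (.split 1 403 (.split 2 385 (.splitN 93627 (.wt 1) (.split 4 (-70) (.wt 0)
    (.split 6 (-139) (.lin 2) (.split 1 223 (.split 0 84 (.split 2 169 (.splitN 107570 (.wt 1)
    (.wt 0)) (.lin 0)) (.lin 7)) (.lin 4))))) (.lin 8)) (.lin 4))))) (.lin 2)) (.split 5 44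
    (.split 4 (-159) (.split 6 (-210) (.split 1 384 (.lin 4) (.split 0 173 (.lin 7) (.split 2 348
    (.lin 0) (.splitN 372644 .sq (.wt 0))))) (.lin 2)) (.split 6 (-211) (.lin 2) (.split 2 349
    (.split 5 35 (.wt 2) (.split 6 (-89) (.split 1 141 (.lin 4) (.split 2 290 (.split 1 331
    (.split 6 (-188) (.lin 1) (.split 4 (-129) (.lin 2) (.split 2 257 (.split 1 295 (.split 6
    (-170) (.lin 1) (.split 4 (-111) (.lin 2) (.split 2 232 (.split 1 277 (.split 6 (-161) (.lin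
    1) (.split 4 (-102) (.lin 2) (.split 2 219 (.split 1 259 (.split 6 (-152) (.lin 1) (.split 4
    (-93) (.lin 2) (.split 4 (-65) (.split 6 (-120) (.split 1 195 (.lin 4) (.split 2 150 (.lin 8)
    (.splitN 234396 (.split 2 182 (.split 1 223 (.split 6 (-134) (.lin 1) (.split 4 (-75) (.lin
    2) (.split 2 158 (.split 1 196 (.split 6 (-121) (.lin 1) (.split 4 (-66) (.lin 2) (.wt 0)))
    (.lin 6)) (.wt 2)))) (.lin 6)) (.wt 2)) (.wt 1)))) (.lin 2)) (.split 6 (-112) (.lin 2)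
    (.split 1 178 (.split 2 133 (.split 4 (-47) (.split 6 (-102) (.split 1 159 (.lin 4) (.split 2
    114 (.lin 8) (.split 4 (-52) (.split 6 (-111) (.split 1 177 (.lin 4) (.split 2 132 (.lin 8)
    (.splitN 244651 (.wt 0) (.wt 0)))) (.lin 2)) (.split 6 (-103) (.lin 2) (.split 1 160 (.split
    2 115 (.splitN 259516 (.wt 0) (.wt 0)) (.lin 8)) (.lin 4)))))) (.lin 2)) (.split 6 (-94)
    (.lin 2) (.split 1 142 (.split 2 97 (.splitN 291786 (.wt 0) (.wt 0)) (.lin 8)) (.lin 4))))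
    (.lin 8)) (.lin 4)))))) (.lin 6)) (.wt 2)))) (.lin 6)) (.wt 2)))) (.lin 6)) (.wt 2)))) (.lin
    6)) (.wt 2))) (.lin 1))) (.lin 8)))) (.split 1 150 (.lin 6) (.splitN 219554 (.split 2 375
    (.split 1 421 (.split 6 (-238) (.lin 1) (.split 4 (-174) (.lin 2) (.splitN 170347 (.split 1
    233 (.split 6 (-143) (.lin 1) (.split 4 (-75) (.lin 2) (.wt 0))) (.wt 0)) (.wt 6)))) (.lin
    6)) (.wt 0)) (.wt 6)))))))) (.lin 8))) .sq) (.wt 1)) (.lin 6)) (.lin 0)) .sq) (.wt 1))) (.lin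
    1)))))) (.lin 2)) (.split 6 (-112) (.lin 2) (.split 0 57 (.split 2 169 (.split 2 115 (.split
    5 27 (.wt 2) (.split 3 (-20) (.split 6 (-66) (.split 1 96 (.lin 4) (.split 0 29 (.lin 7)
    (.split 2 60 (.lin 0) (.split 4 (-24) (.wt 2) (.split 6 (-103) (.lin 2) (.split 1 151 (.split
    0 48 (.split 2 97 (.split 5 36 (.wt 2) (.split 6 (-71) (.split 1 105 (.lin 4) (.split 4 (-16)
    (.splitN 145088 (.wt 6) (.split 3 (-23) (.wt 0) (.split 6 (-94) (.lin 2) (.split 1 133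
    (.split 0 39 (.split 2 79 (.splitN 147096 (.wt 1) (.wt 0)) (.lin 0)) (.lin 7)) (.lin 4)))))
    (.split 6 (-94) (.lin 2) (.split 1 133 (.split 0 39 (.split 2 79 (.split 5 50 (.splitN 415224
    (.wt 1) (.split 3 (-29) (.wt 0) (.split 6 (-76) (.lin 2) (.split 1 106 (.split 2 61 (.splitN
    1933808 (.wt 0) (.wt 0)) (.lin 8)) (.lin 4))))) (.wt 2)) (.lin 0)) (.lin 7)) (.lin 4)))))
    (.lin 1))) (.lin 0)) (.lin 7)) (.lin 4))))))) (.lin 2)) (.split 6 (-94) (.lin 2) (.split 1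
    133 (.split 0 39 (.split 2 79 (.split 4 (-12) (.split 6 (-66) (.split 1 96 (.lin 4) (.split 0
    29 (.lin 7) (.split 2 60 (.lin 0) (.split 5 38 (.wt 2) (.split 6 (-71) (.split 1 105 (.lin 4)
    (.split 5 50 (.splitN 415224 (.wt 1) (.split 4 (-29) (.wt 0) (.split 6 (-76) (.lin 2) (.split
    1 106 (.split 2 61 (.splitN 1933808 (.wt 0) (.wt 0)) (.lin 8)) (.lin 4))))) (.wt 2))) (.lin
    1)))))) (.lin 2)) (.wt 0)) (.lin 0)) (.lin 7)) (.lin 4))))) (.lin 0)) (.lin 8)) (.lin 7))))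

def cert3_1_13 : Cert :=
  (.split 3 (-30) (.split 6 (-111) (.split 1 159 (.lin 4) (.split 0 47 (.lin 7) (.split 2 96
    (.lin 0) (.split 4 (-12) (.split 6 (-120) (.split 0 56 (.lin 7) (.split 2 114 (.lin 0)
    (.splitN 114841 (.split 1 278 (.split 2 214 (.split 4 (-37) (.split 6 (-138) (.split 1 213
    (.lin 4) (.split 0 74 (.lin 7) (.split 2 150 (.lin 0) (.splitN 99998 .sq (.wt 1))))) (.lin
    2)) (.split 5 75 (.split 4 (-25) (.split 6 (-129) (.split 1 195 (.lin 4) (.split 0 65 (.lin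
    7) (.split 2 132 (.lin 0) (.splitN 83231 .sq (.split 3 (-52) (.wt 0) (.split 6 (-148) (.lin
    2) (.split 1 223 (.split 2 169 (.split 3 (-43) (.wt 0) (.split 0 66 (.split 2 133 (.splitN
    87103 (.wt 1) (.wt 0)) (.lin 0)) (.lin 7))) (.lin 8)) (.lin 4)))))))) (.lin 2)) (.split 3
    (-61) (.split 6 (-147) (.split 1 231 (.lin 4) (.split 0 83 (.lin 7) (.split 2 168 (.lin 0)
    .sq))) (.lin 2)) (.split 0 75 (.split 2 151 (.split 5 69 (.splitN 98637 (.wt 1) (.split 3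
    (-52) (.wt 0) (.split 6 (-130) (.lin 2) (.split 1 196 (.split 2 133 (.split 3 (-47) (.wt 0)
    (.split 6 (-121) (.lin 2) (.split 1 178 (.split 2 115 (.splitN 107577 (.wt 0) (.wt 0)) (.lin
    8)) (.lin 4)))) (.lin 8)) (.lin 4))))) (.wt 2)) (.lin 0)) (.lin 7)))) (.split 1 195 (.lin 6)
    (.split 2 196 (.split 0 97 (.split 3 (-75) (.lin 7) (.splitN 97402 (.split 2 174 (.split 0 84
    (.split 3 (-66) (.lin 7) (.split 2 158 (.split 0 75 (.split 3 (-57) (.lin 7) (.split 4 (-21)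
    (.split 6 (-147) (.split 1 213 (.lin 4) (.split 0 65 (.lin 7) (.split 2 132 (.lin 0) .sq)))
    (.lin 2)) (.wt 0))) (.lin 0)) (.wt 2))) (.lin 0)) (.wt 2)) (.wt 1))) (.lin 0)) (.lin 6)))))
    (.lin 6)) .sq) (.wt 1)))) (.lin 2)) (.wt 2))))) (.lin 2)) (.split 4 (-30) (.split 6 (-111)
    (.split 1 159 (.lin 4) (.split 0 47 (.lin 7) (.split 2 96 (.lin 0) (.split 3 (-12) (.split 6
    (-120) (.split 0 56 (.lin 7) (.split 2 114 (.lin 0) (.splitN 114841 (.split 5 118 (.split 1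
    278 (.split 6 (-193) (.lin 1) (.split 2 259 (.split 5 75 (.split 3 (-25) (.split 6 (-129)
    (.split 1 195 (.lin 4) (.split 0 65 (.lin 7) (.split 2 132 (.lin 0) (.splitN 83231 .sq
    (.split 4 (-52) (.wt 0) (.split 6 (-148) (.lin 2) (.split 1 223 (.split 2 169 (.split 4 (-43)
    (.wt 0) (.split 0 66 (.split 2 133 (.splitN 87103 (.wt 1) (.wt 0)) (.lin 0)) (.lin 7))) (.lin
    8)) (.lin 4)))))))) (.lin 2)) (.split 4 (-61) (.split 6 (-147) (.split 1 231 (.lin 4) (.split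
    0 83 (.lin 7) (.split 2 168 (.lin 0) .sq))) (.lin 2)) (.split 0 75 (.split 2 151 (.split 5 69
    (.splitN 98637 (.wt 1) (.split 4 (-52) (.wt 0) (.split 6 (-130) (.lin 2) (.split 1 196
    (.split 2 133 (.split 4 (-47) (.wt 0) (.split 6 (-121) (.lin 2) (.split 1 178 (.split 2 115
    (.splitN 107577 (.wt 0) (.wt 0)) (.lin 8)) (.lin 4)))) (.lin 8)) (.lin 4))))) (.wt 2)) (.lin
    0)) (.lin 7)))) (.split 1 195 (.lin 6) (.split 2 196 (.split 0 97 (.split 4 (-75) (.lin 7)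
    (.splitN 97402 (.split 2 174 (.split 0 84 (.split 4 (-66) (.lin 7) (.split 2 158 (.split 0 75
    (.split 4 (-57) (.lin 7) (.split 3 (-21) (.split 6 (-147) (.split 1 213 (.lin 4) (.split 0 65
    (.lin 7) (.split 2 132 (.lin 0) .sq))) (.lin 2)) (.wt 0))) (.lin 0)) (.wt 2))) (.lin 0)) (.wt
    2)) (.wt 1))) (.lin 0)) (.lin 6)))) (.lin 8))) .sq) (.wt 2)) (.wt 1)))) (.lin 2)) (.wt 2)))))
    (.lin 2)) (.split 0 57 (.split 2 115 (.split 5 186 (.split 6 (-238) (.lin 2) (.split 1 295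
    (.split 3 (-20) (.split 0 29 (.lin 7) (.split 2 60 (.lin 0) (.split 4 (-14) (.split 6 (-102)
    (.split 1 141 (.lin 4) (.split 0 38 (.lin 7) (.split 2 78 (.lin 0) (.splitN 155235 (.split 5
    83 (.split 6 (-188) (.lin 1) (.split 1 241 (.split 1 196 (.split 3 (-25) (.split 0 47 (.lin
    7) (.split 2 96 (.lin 0) (.splitN 121652 (.split 5 73 (.splitN 94439 (.wt 1) (.split 4 (-25)
    (.split 6 (-120) (.split 1 177 (.lin 4) (.split 0 56 (.lin 7) (.split 2 114 (.lin 0) (.splitN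
    100266 (.split 5 64 (.wt 0) (.wt 0)) (.wt 0))))) (.lin 2)) (.wt 0))) (.wt 2)) (.wt 1))))
    (.split 4 (-22) (.split 6 (-111) (.split 1 159 (.lin 4) (.split 0 47 (.lin 7) (.split 2 96
    (.lin 0) (.splitN 124105 (.wt 0) (.wt 1))))) (.lin 2)) (.wt 0))) (.lin 6)) (.lin 4))) (.wt
    2)) (.wt 1))))) (.lin 2)) (.wt 2)))) (.splitN 318235 (.split 1 139 (.split 2 70 (.split 0 34
    (.split 4 (-21) (.lin 7) (.wt 0)) (.lin 0)) (.lin 6)) (.wt 0)) (.wt 6))) (.lin 4))) (.wt 2))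
    (.lin 0)) (.lin 7))))

def cert3_1_14 : Cert :=
  (.split 4 (-1) (.splitN 36287 (.wt 1) (.split 3 (-3) (.split 6 (-21) (.split 1 33 (.lin 4)
    (.split 4 (-3) (.split 6 (-30) (.split 1 51 (.lin 4) (.split 0 20 (.lin 7) (.split 2 42 (.lin
    0) (.split 5 8 (.wt 0) (.split 6 (-35) (.split 1 60 (.lin 4) (.split 5 22 (.wt 2) (.split 6
    (-44) (.split 1 69 (.lin 4) (.split 5 60 (.split 3 (-30) (.split 6 (-75) (.split 1 123 (.lin
    4) (.split 0 47 (.lin 7) (.split 2 96 (.lin 0) (.split 5 32 (.wt 2) (.split 6 (-80) (.split 1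
    132 (.lin 4) (.splitN 2024186 (.split 0 1409 (.split 2 2815 (.split 1 2869 (.splitN 1905642
    (.split 1 1371 (.split 6 (-710) (.lin 1) (.split 3 (-660) (.lin 2) (.split 2 1339 (.split 4
    (-29) (.wt 2) (.splitN 87502 (.wt 1) (.split 4 (-16) (.split 6 (-93) (.split 1 150 (.lin 4)
    (.split 3 (-161) (.wt 0) (.split 6 (-229) (.lin 2) (.split 1 403 (.split 2 385 (.splitN 93627
    (.wt 1) (.split 3 (-70) (.wt 0) (.split 6 (-139) (.lin 2) (.split 1 223 (.split 0 84 (.split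
    2 169 (.splitN 107570 (.wt 1) (.wt 0)) (.lin 0)) (.lin 7)) (.lin 4))))) (.lin 8)) (.lin
    4))))) (.lin 2)) (.split 5 44 (.split 3 (-159) (.split 6 (-210) (.split 1 384 (.lin 4)
    (.split 0 173 (.lin 7) (.split 2 348 (.lin 0) (.splitN 372644 .sq (.wt 0))))) (.lin 2))
    (.split 6 (-211) (.lin 2) (.split 2 349 (.split 5 35 (.wt 2) (.split 6 (-89) (.split 1 141
    (.lin 4) (.split 2 290 (.split 1 331 (.split 6 (-188) (.lin 1) (.split 3 (-129) (.lin 2)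
    (.split 2 257 (.split 1 295 (.split 6 (-170) (.lin 1) (.split 3 (-111) (.lin 2) (.split 2 232
    (.split 1 277 (.split 6 (-161) (.lin 1) (.split 3 (-102) (.lin 2) (.split 2 219 (.split 1 259
    (.split 6 (-152) (.lin 1) (.split 3 (-93) (.lin 2) (.split 3 (-65) (.split 6 (-120) (.split 1
    195 (.lin 4) (.split 2 150 (.lin 8) (.splitN 234396 (.split 2 182 (.split 1 223 (.split 6
    (-134) (.lin 1) (.split 3 (-75) (.lin 2) (.split 2 158 (.split 1 196 (.split 6 (-121) (.lin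
    1) (.split 3 (-66) (.lin 2) (.wt 0))) (.lin 6)) (.wt 2)))) (.lin 6)) (.wt 2)) (.wt 1))))
    (.lin 2)) (.split 6 (-112) (.lin 2) (.split 1 178 (.split 2 133 (.split 3 (-47) (.split 6
    (-102) (.split 1 159 (.lin 4) (.split 2 114 (.lin 8) (.split 3 (-52) (.split 6 (-111) (.split
    1 177 (.lin 4) (.split 2 132 (.lin 8) (.splitN 244651 (.wt 0) (.wt 0)))) (.lin 2)) (.split 6
    (-103) (.lin 2) (.split 1 160 (.split 2 115 (.splitN 259516 (.wt 0) (.wt 0)) (.lin 8)) (.lin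
    4)))))) (.lin 2)) (.split 6 (-94) (.lin 2) (.split 1 142 (.split 2 97 (.splitN 291786 (.wt 0)
    (.wt 0)) (.lin 8)) (.lin 4)))) (.lin 8)) (.lin 4)))))) (.lin 6)) (.wt 2)))) (.lin 6)) (.wt
    2)))) (.lin 6)) (.wt 2)))) (.lin 6)) (.wt 2))) (.lin 1))) (.lin 8)))) (.split 1 150 (.lin 6)
    (.splitN 219554 (.split 2 375 (.split 1 421 (.split 6 (-238) (.lin 1) (.split 3 (-174) (.lin
    2) (.splitN 170347 (.split 1 233 (.split 6 (-143) (.lin 1) (.split 3 (-75) (.lin 2) (.wt 0)))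
    (.wt 0)) (.wt 6)))) (.lin 6)) (.wt 0)) (.wt 6))))))) (.lin 8)))) .sq) (.wt 1)) (.lin 6))
    (.lin 0)) .sq) (.wt 1))) (.lin 1)))))) (.lin 2)) cert3_1_12) (.split 6 (-66) (.split 1 87
    (.lin 4) (.split 1 105 (.lin 6) cert3_1_13)) (.lin 1)))) (.lin 1)))) (.lin 1)))))) (.lin 2))
    (.wt 1))) (.lin 2)) (.wt 1))) (.split 3 (-11) (.splitN 24903 (.wt 1) (.splitN 605880 (.split
    1 6704 (.split 6 (-6700) (.lin 3) (.split 5 6695 (.split 2 6694 (.split 3 (-6705) (.div 3)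
    (.split 4 13381 (.split 4 6694 (.splitN 570292 (.split 1 6308 (.split 6 (-6304) (.lin 3)
    (.split 5 6299 (.split 2 7 (.wt 0) (.split 0 7 (.lin 0) (.split 1 24 (.lin 6) (.split 2 24
    (.lin 0) (.split 1 33 (.lin 6) (.split 6 (-21) (.split 3 (-20) (.splitN 302626 (.split 1 3356
    (.split 6 (-3343) (.lin 3) (.split 5 3329 (.split 2 3346 (.split 3 (-3357) (.div 3) (.split 4
    3337 (.splitN 285908 (.split 1 3176 (.split 2 3166 (.split 3 (-3177) (.div 3) (.split 4 3157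
    (.splitN 107574 (.split 1 1160 (.split 6 (-1147) (.lin 3) (.split 5 1133 (.split 3 (-1161)
    (.div 3) (.split 4 2266 (.split 4 1141 (.split 4 7 (.wt 0) (.split 3 (-29) (.splitN 33707
    (.wt 1) (.splitN 80020 (.split 1 872 (.split 6 (-859) (.lin 3) (.split 5 845 (.split 5 24
    (.wt 0) (.split 2 45 (.wt 2) (.split 0 25 (.lin 0) (.split 2 60 (.lin 0) (.split 3 (-47)
    (.splitN 66241 (.split 1 728 (.split 6 (-697) (.lin 3) (.split 5 665 (.split 2 700 (.split 3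
    (-729) (.div 3) (.split 4 691 (.split 4 19 (.wt 2) (.split 3 (-56) (.splitN 38952 (.wt 1)
    (.split 5 37 (.wt 0) (.split 1 105 (.lin 6) (.split 2 63 (.wt 2) (.split 0 34 (.lin 0)
    (.split 2 78 (.lin 0) (.split 3 (-65) (.splitN 61152 (.split 1 656 (.split 2 610 (.split 5
    108 (.wt 2) (.split 1 195 (.lin 6) (.split 6 (-156) .sq (.lin 1)))) (.lin 6)) (.div 1)) (.wt
    3)) (.lin 7)))))))) (.lin 7))) (.lin 7))) (.lin 6)) (.lin 5))) (.div 1)) (.wt 3)) (.lin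
    7)))))) (.lin 5))) (.div 1)) (.wt 3))) (.lin 7))) (.lin 7)) (.lin 2))) (.lin 5))) (.div 1))
    (.wt 3)) (.lin 7))) (.lin 6)) (.div 1)) (.wt 0)) (.lin 7))) (.lin 6)) (.lin 5))) (.div 1))
    (.wt 0)) (.lin 7)) (.lin 1))))))) (.lin 5))) (.div 1)) (.wt 3)) (.lin 7)) (.lin 2))) (.lin
    6)) (.lin 5))) (.div 1)) (.wt 3))) (.lin 7)))

def cert3_1 : Cert :=
  (.split 2 (-1) (.split 0 (-2) (.split 2 (-11) cert3_1_11 (.lin 0)) (.lin 0)) (.split 0 2 (.lin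
    0) (.split 1 15 (.lin 6) (.split 6 (-12) (.split 3 (-1) cert3_1_14 (.split 4 (-11) (.splitN
    24903 (.wt 1) (.splitN 605880 (.split 1 6704 (.split 6 (-6700) (.lin 3) (.split 5 6695
    (.split 2 6694 (.split 3 6704 (.split 2 7 (.wt 0) (.split 0 7 (.lin 0) (.split 2 24 (.lin 0)
    (.split 1 33 (.lin 6) (.split 4 (-20) (.splitN 302632 (.split 1 3356 (.split 6 (-3343) (.lin
    3) (.split 5 3329 (.split 2 3346 (.split 3 3356 (.splitN 285939 (.split 1 3176 (.split 6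
    (-3163) (.lin 3) (.split 5 3149 (.split 2 3166 (.split 3 3176 (.splitN 107578 (.split 1 1160
    (.split 6 (-1147) (.lin 3) (.split 5 1133 (.split 3 1160 (.split 3 7 (.wt 0) (.split 4 (-29)
    (.splitN 80036 (.split 1 872 (.split 2 862 (.split 2 45 (.wt 2) (.split 0 25 (.lin 0) (.split
    2 60 (.lin 0) (.split 4 (-47) (.splitN 66260 (.split 1 728 (.split 6 (-697) (.lin 3) (.split
    5 665 (.split 3 728 (.split 4 (-729) (.div 4) (.split 3 19 (.wt 2) (.split 4 (-56) (.splitN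
    38952 (.wt 1) (.split 5 36 (.wt 0) (.split 1 105 (.lin 6) (.split 2 63 (.wt 2) (.split 0 34
    (.lin 0) (.split 2 78 (.lin 0) (.split 3 682 (.split 4 (-65) (.splitN 61139 (.split 1 656
    (.split 2 610 (.split 5 108 (.wt 2) (.split 1 195 (.lin 6) (.split 6 (-156) .sq (.lin 1))))
    (.lin 6)) (.div 1)) (.wt 3)) (.lin 7)) (.lin 7)))))))) (.lin 7)))) (.div 3)) (.lin 5))) (.div
    1)) (.wt 3)) (.lin 7))))) (.lin 6)) (.div 1)) (.wt 3)) (.lin 7))) (.div 3)) (.lin 5))) (.div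
    1)) (.wt 3)) (.div 3)) (.lin 6)) (.lin 5))) (.div 1)) (.wt 0)) (.div 3)) (.lin 6)) (.lin 5)))
    (.div 1)) (.wt 0)) (.lin 7)))))) (.div 3)) (.lin 6)) (.lin 5))) (.div 1)) (.wt 3))) (.lin
    7))) (.lin 1)))))

theorem check3_1 :
    check task3 cert3_1
      [(3, ⟨none, none⟩), (7, ⟨none, none⟩), (7, ⟨none, none⟩), (7, ⟨none, none⟩), (7, ⟨none, none⟩), (8, ⟨some (8), none⟩), (6, ⟨none, none⟩)] ⟨some (720), none⟩ = true := by
  decide +kernel

end Cfsg.Agent.EightLocal
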