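import Cfsg.Agent.Lib.EightLocal.Task4

/-!
# Search trees of family 4, part 0
-/

set_option autoImplicit false
set_option maxRecDepth 20000
set_option Elab.async false

namespace Cfsg.Agent.EightLocal

open Cfsg.Agent.SelfNine

def cert4_0_0 : Cert :=
  (.split 1 (-1) (.split 2 (-21) (.split 5 (-5) (.split 6 10 (.lin 1) (.split 4 (-1) (.split 0
    (-36) (.split 3 42 (.lin 11) (.wt 2)) (.lin 10)) (.split 1 (-17) (.splitN 48195 (.split 0
    (-2305) (.div 0) (.split 2 (-4602) (.lin 0) (.split 1 (-257) (.div 1) (.split 2 (-2541) (.lin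
    2) (.split 6 2526 (.split 5 (-2525) (.lin 4) (.split 6 1387 (.split 5 (-1382) (.lin 4)
    (.split 6 816 (.split 5 (-815) (.lin 4) (.split 6 532 (.split 5 (-527) (.lin 4) (.split 6 388
    (.split 5 (-383) (.lin 4) (.split 6 316 (.split 5 (-311) (.lin 4) (.split 6 280 (.split 4 262
    (.split 5 (-275) (.lin 4) (.split 6 262 (.split 5 (-257) (.lin 4) (.split 2 (-31) (.split 0
    (-23) (.split 3 21 (.split 0 (-253) (.lin 3) (.split 1 (-35) (.split 6 240 (.split 5 (-239)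
    (.lin 4) (.split 2 (-372) (.lin 8) (.split 0 (-194) (.lin 0) (.split 2 (-309) (.lin 8)
    (.split 0 (-163) (.lin 0) (.split 2 (-282) (.lin 8) (.split 0 (-149) (.lin 0) (.split 2
    (-264) (.lin 8) (.split 0 (-140) (.lin 0) (.split 4 127 (.split 4 9 (.lin 11) (.splitN 35854
    (.split 1 (-185) (.div 1) (.split 2 (-183) (.lin 9) (.splitN 21547 (.wt 1) (.split 3 15
    (.split 0 (-95) (.lin 0) (.split 2 (-47) (.split 4 82 (.split 4 18 (.lin 11) (.splitN 24987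
    (.split 2 (-70) (.wt 0) (.split 5 (-14) (.wt 1) (.wt 1))) (.wt 0))) (.lin 11)) (.lin 0)))
    (.wt 0))))) (.wt 1))) (.lin 11))))))))))) (.lin 3)) (.lin 9))) (.wt 2)) (.lin 0)) (.wt 2)))
    (.lin 1))) (.lin 4)) (.lin 1))) (.lin 1))) (.lin 1))) (.lin 1))) (.lin 1))) (.lin 1))) (.lin
    2)))))) (.wt 1)) (.lin 7)))) (.wt 2)) (.wt 2)) (.split 3 24 (.lin 9) (.split 2 (-78) (.split
    3 87 (.lin 9) (.splitN 142559 (.wt 4) (.split 1 2 (.wt 1) (.split 3 96 (.lin 9) (.splitN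
    157139 (.wt 4) (.split 5 (-14) (.split 3 114 (.lin 9) (.split 2 (-359) (.split 3 393 (.lin 9)
    (.splitN 638276 (.wt 4) (.split 1 13 (.wt 1) (.split 5 (-56) (.split 3 438 (.lin 9) (.splitN
    711176 (.wt 4) (.split 5 (-62) (.split 2 (-1371) (.split 0 (-1422) (.split 3 1464 (.lin 9)
    (.splitN 6074802 .sq (.split 1 132 (.wt 1) (.split 3 1581 (.lin 9) (.splitN 6449436 .sq
    (.split 1 141 (.wt 1) (.split 5 (-568) (.split 0 (-1737) (.split 3 2094 (.lin 9) (.splitN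
    9654903 .sq (.split 1 211 (.wt 1) (.split 5 (-851) (.split 0 (-1917) (.split 3 2454 (.lin 9)
    (.splitN 12388527 .sq (.split 1 272 (.wt 1) (.split 5 (-1092) (.split 0 (-2066) (.split 3
    2751 (.lin 9) (.splitN 15033096 .sq (.split 1 330 (.wt 1) (.split 2 (-1656) (.split 0 (-2372)
    (.split 3 3084 (.lin 9) (.splitN 19217772 .sq (.split 1 422 (.wt 1) (.split 2 (-2118) (.split
    0 (-2885) (.split 3 3642 (.lin 9) (.splitN 27512073 .sq (.split 1 605 (.wt 1) (.split 2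
    (-3032) (.split 0 (-3888) (.split 3 4740 (.lin 9) (.splitN 48375270 .sq (.split 1 1065 (.wt
    1) (.split 0 (-4118) (.split 3 5199 (.lin 9) (.splitN 55585944 .sq (.split 1 1222 (.wt 1)
    (.split 2 (-6119) (.split 0 (-7281) (.split 3 8439 (.lin 9) (.splitN 164420721 .sq (.split 1
    3622 (.wt 1) (.split 0 (-8483) (.split 3 10842 (.lin 9) (.splitN 241435737 .sq (.split 1 5318
    (.wt 1) (.split 0 (-9329) (.split 3 12534 (.lin 9) (.splitN 311207049 .sq (.split 1 6848 (.wt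
    1) (.split 0 (-10094) (.split 3 14064 (.lin 9) (.splitN 385389864 .sq (.split 1 8473 (.wt 1)
    (.split 0 (-10908) (.split 3 15693 (.lin 9) (.splitN 475853076 .sq (.split 1 10415 (.wt 1)
    (.split 0 (-11880) (.split 3 17637 (.lin 9) (.splitN 599545908 .sq (.split 1 13156 (.wt 1)
    (.split 0 (-13248) (.split 3 20373 (.lin 9) (.splitN 802442196 .sq (.split 1 17542 (.wt 1)
    (.split 0 (-15444) (.split 3 24765 (.lin 9) (.splitN 1198583028 .sq (.split 1 26314 (.wt 1)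
    (.split 0 (-19827) (.split 3 33531 (.lin 9) (.splitN 2248762977 .sq (.split 1 47618 (.wt 1)
    (.split 0 (-30479) (.split 3 54834 (.lin 9) (.splitN 6242428449 .sq (.split 1 124999 (.wt 1)
    (.split 0 (-69170) (.split 3 132216 (.lin 9) (.splitN 37930550904 .sq (.split 1 499999 (.wt
    1) (.split 0 (-256671) (.split 3 507219 (.lin 9) (.splitN 573195804201 .sq (.split 1 999999
    (.wt 1) (.split 2 (-5000000) (.split 5 (-4000000) (.split 3 10000005 (.lin 9) (.split 5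
    (-5000000) (.split 4 (-1) (.wt 0) (.split 6 5000009 (.lin 4) (.lin 7))) (.wt 6))) (.wt 1))
    (.wt 1))))) (.lin 8))))) (.lin 8))))) (.lin 8))))) (.lin 8))))) (.lin 8))))) (.lin 8)))))
    (.lin 8))))) (.lin 8))))) (.lin 8))))) (.lin 8))))) (.lin 8))))) (.lin 8)) (.wt 1))))) (.lin
    8))))) (.lin 8)) (.wt 1))))) (.lin 8)) (.wt 1))))) (.lin 8)) (.wt 1))))) (.lin 8)) (.wt
    1))))) (.lin 8)) (.wt 1))))) (.lin 8)) (.wt 1)))))))) (.lin 8)) (.wt 2)) (.wt 1)))) (.wt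
    1))))) (.wt 2))) (.wt 1))))))) (.wt 2))))

def cert4_0_1 : Cert :=
  (.split 6 (-1) (.split 5 13 (.lin 1) (.split 4 9 (.lin 7) (.split 3 367 (.splitN 73682 (.splitN
    24779 (.wt 1) (.split 0 (-266) .sq (.split 3 250 (.split 2 (-267) .sq (.split 3 41 (.split 0
    (-149) (.lin 0) (.split 1 (-135) (.lin 3) (.split 4 136 (.split 3 15 (.split 2 (-34) (.wt 0)
    (.split 1 (-9) (.lin 9) (.split 6 (-4) (.lin 2) (.split 5 14 (.wt 0) (.lin 1))))) (.split 2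
    (-39) (.split 0 (-32) (.split 5 55 (.split 4 46 (.split 2 (-129) (.lin 12) (.split 3 25
    (.split 2 (-120) (.lin 12) (.split 5 26 (.split 1 (-18) (.lin 1) (.split 4 19 (.split 2 (-66)
    (.lin 12) (.split 6 (-8) (.lin 1) (.splitN 51613 (.split 3 20 (.split 2 (-57) (.lin 12)
    (.split 2 (-56) (.split 1 (-17) (.split 5 22 (.lin 1) (.split 4 18 (.lin 4) (.splitN 39649
    (.wt 0) (.wt 0)))) (.lin 9)) (.lin 0))) (.split 2 (-49) (.split 0 (-41) (.split 2 (-65)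
    (.split 1 (-17) (.split 5 22 (.lin 1) (.split 4 18 (.lin 4) (.splitN 48497 (.wt 0) (.wt 0))))
    (.lin 9)) (.lin 0)) (.lin 0)) (.wt 0))) (.wt 1)))) (.lin 4))) (.split 2 (-64) (.split 0 (-41)
    (.split 4 18 (.lin 11) (.split 3 24 (.split 2 (-74) (.split 4 27 (.lin 11) (.splitN 40527
    (.split 2 (-89) (.wt 2) (.split 0 (-50) (.lin 0) (.split 2 (-75) (.lin 0) (.splitN 37632 (.wt
    0) (.split 1 (-10) (.wt 0) (.split 6 (-21) (.split 5 49 (.lin 1) (.wt 0)) (.lin 2))))))) (.wt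
    0))) (.lin 0)) (.wt 2))) (.lin 0)) (.wt 2)))) (.split 2 (-68) (.split 0 (-54) (.split 5 22
    (.lin 6) (.splitN 51572 (.wt 4) (.wt 1))) (.lin 0)) (.wt 2)))) (.lin 4)) (.split 2 (-70)
    (.split 0 (-45) (.split 2 (-79) (.split 0 (-50) (.split 2 (-88) (.split 4 18 (.lin 11)
    (.splitN 34098 (.wt 1) (.split 3 26 (.split 4 27 (.lin 11) (.splitN 45470 (.split 2 (-188)
    .sq (.split 0 (-104) (.lin 0) (.split 6 (-76) (.lin 3) (.split 5 158 (.split 4 82 (.split 3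
    24 (.split 4 36 (.lin 11) (.splitN 39561 (.split 2 (-93) (.split 0 (-59) (.split 2 (-110)
    (.split 1 (-22) (.split 6 (-58) (.lin 3) (.split 5 140 (.split 2 (-122) (.wt 0) (.split 0
    (-68) (.lin 0) (.split 2 (-111) (.lin 0) (.split 6 (-22) (.lin 2) (.split 5 68 (.split 4 46
    (.wt 0) (.lin 10)) (.lin 5)))))) (.lin 4))) (.wt 1)) (.lin 0)) (.lin 0)) (.wt 0)) (.wt 5)))
    (.wt 2)) (.lin 11)) (.lin 6))))) (.wt 1))) (.wt 2)))) (.lin 8)) (.lin 0)) (.lin 8)) (.lin 0))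
    (.lin 8))) (.lin 0)) (.wt 2))) (.lin 11)))) (.split 2 (-77) (.split 0 (-63) (.split 5 29
    (.split 4 19 (.split 6 (-8) (.lin 1) (.splitN 67008 (.split 0 (-238) .sq (.split 3 223
    (.split 2 (-244) .sq (.split 3 97 (.split 2 (-138) (.lin 12) (.split 5 19 (.split 1 (-9)
    (.lin 1) (.split 0 (-72) (.split 4 10 (.split 2 (-120) (.lin 12) (.split 3 60 (.lin 3)
    (.splitN 58715 (.wt 3) (.wt 1)))) (.lin 4)) (.lin 2))) (.wt 2))) (.split 2 (-128) (.split 5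
    17 (.split 1 (-9) (.lin 1) (.split 4 10 (.splitN 62272 (.wt 1) (.wt 1)) (.lin 4))) (.wt 2))
    (.lin 12)))) (.lin 3))) (.wt 1))) (.lin 4)) (.wt 2)) (.lin 0)) (.wt 2)))) (.lin 3)))) (.wt
    1)) (.lin 9)))) (.split 1 (-17) (.split 4 9 (.lin 4) (.splitN 129243 (.split 0 (-355) .sq
    (.split 3 340 (.split 2 (-356) .sq (.split 3 48 (.split 0 (-199) (.lin 0) (.split 4 190
    (.splitN 86853 (.split 2 (-291) .sq (.split 0 (-167) (.lin 0) (.split 5 149 (.split 3 17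
    (.split 2 (-139) (.wt 2) (.split 0 (-77) (.lin 0) (.split 5 59 (.split 2 (-106) (.wt 2)
    (.split 0 (-59) (.lin 0) (.split 5 41 (.split 2 (-89) (.wt 2) (.split 0 (-50) (.lin 0)
    (.split 5 32 (.split 2 (-77) (.wt 2) (.split 5 27 (.splitN 27427 (.wt 1) (.split 3 7 (.wt 0)
    (.split 2 (-38) (.split 4 28 (.splitN 43778 (.split 5 8 (.wt 1) (.split 1 (-26) (.split 4 18
    (.lin 4) (.split 2 (-56) (.splitN 39565 (.wt 1) (.wt 0)) (.lin 12))) (.lin 1))) (.wt 5))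
    (.lin 11)) (.lin 12)))) (.lin 12))) (.lin 6)))) (.lin 6)))) (.lin 6)))) (.split 2 (-47)
    (.split 4 136 (.splitN 64197 (.split 5 5 (.wt 1) (.split 1 (-26) (.split 4 18 (.lin 4)
    (.split 2 (-65) (.splitN 57168 (.split 5 67 (.split 2 (-228) .sq (.split 0 (-136) (.lin 0)
    (.split 4 109 (.splitN 39731 (.wt 3) (.split 5 26 (.split 2 (-122) (.split 1 (-62) (.split 6
    19 (.lin 1) (.split 4 36 (.lin 4) (.splitN 51560 (.splitN 43329 (.wt 1) (.split 3 29 (.wt 0)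
    (.split 5 14 (.wt 1) (.split 4 45 (.lin 4) (.split 1 (-171) (.lin 9) (.split 6 73 (.split 4
    91 (.splitN 48356 (.split 2 (-149) (.split 0 (-95) (.split 1 (-89) (.split 6 32 (.lin 1)
    (.split 4 54 (.lin 4) .sq)) (.lin 9)) (.lin 0)) (.wt 0)) (.wt 1)) (.lin 4)) (.lin 1)))))))
    (.wt 0)))) (.lin 9)) (.split 1 (-81) (.lin 9) (.split 6 33 (.split 4 55 (.splitN 54713
    (.split 5 18 (.split 2 (-94) (.wt 2) (.split 0 (-68) (.lin 0) (.split 1 (-54) (.lin 9)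
    (.split 6 19 (.split 4 28 (.split 1 (-45) (.lin 7) (.splitN 46233 (.wt 1) (.split 3 27 (.wt
    0) (.split 2 (-75) (.split 3 36 (.wt 2) (.split 2 (-84) (.lin 0) (.split 1 (-27) (.lin 9)
    (.wt 0)))) (.wt 2))))) (.lin 4)) (.lin 1))))) (.split 4 27 (.lin 4) (.split 2 (-83) (.split 6
    24 (.split 4 46 (.splitN 47532 (.split 3 31 (.splitN 45668 (.split 2 (-105) (.split 0 (-68)
    (.split 1 (-62) (.split 2 (-119) (.wt 0) (.lin 0)) (.lin 9)) (.lin 0)) (.wt 0)) (.wt 0)) (.wt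
    0)) (.wt 1)) (.lin 4)) (.lin 1)) (.lin 12)))) (.wt 1)) (.lin 4)) (.lin 1)))) (.split 4 36
    (.lin 4) (.splitN 46451 (.split 3 36 (.splitN 45271 (.split 2 (-118) (.split 0 (-72) (.split
    3 29 (.split 1 (-53) (.split 4 45 (.lin 11) (.split 2 (-121) (.split 0 (-77) (.split 2 (-137)
    (.wt 3) (.lin 0)) (.lin 0)) (.wt 0))) (.lin 3)) (.wt 0)) (.lin 0)) (.wt 0)) (.wt 1)) (.wt 0))
    (.wt 1))))) (.lin 11)))) (.wt 2)) (.wt 1)) (.lin 12))) (.lin 1))) (.wt 5)) (.lin 11)) (.lin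
    12))) (.lin 6)))) (.wt 3)) (.lin 11))) (.split 0 (-63) (.split 2 (-74) (.split 5 144 (.splitN
    43942 (.wt 3) (.splitN 75035 (.split 5 5 (.wt 1) (.split 1 (-26) (.split 0 (-334) (.lin 5)
    (.split 3 313 (.split 6 136 (.split 4 271 (.splitN 64207 (.split 2 (-228) .sq (.split 5 21
    .cand (.wt 2))) (.wt 1)) (.lin 4)) (.lin 12)) (.lin 6))) (.lin 1))) (.wt 5))) (.lin 12))
    (.lin 12)) (.lin 6)))) (.lin 6))) (.wt 3))) (.lin 1)))

def cert4_0_2 : Cert :=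
  (.split 4 1246 (.split 2 (-12) (.split 0 (-14) (.splitN 180222 (.split 0 (-423) .sq (.split 2
    (-822) (.lin 0) (.split 3 412 (.split 4 406 (.splitN 168058 (.split 1 406 (.split 2 (-407)
    .sq (.split 5 406 (.split 3 53 (.split 0 (-226) (.lin 0) (.split 4 217 (.splitN 110297
    (.split 2 (-328) .sq (.split 0 (-190) (.lin 0) (.split 4 181 (.split 3 19 (.splitN 58958
    (.split 2 (-236) .sq (.split 0 (-122) (.lin 0) (.split 5 33 (.split 0 (-46) (.lin 6) (.split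
    2 (-61) (.lin 8) (.split 0 (-37) (.lin 0) (.split 2 (-52) (.lin 8) (.split 0 (-32) (.lin 0)
    (.split 2 (-43) (.lin 8) (.split 5 12 (.split 4 1 (.split 1 1 (.split 2 (-21) (.lin 12)
    (.split 3 15 (.lin 0) (.splitN 20571 (.wt 0) (.wt 0)))) (.lin 9)) (.lin 4)) (.split 6 (-8)
    (.split 3 13 (.split 0 (-23) (.lin 0) (.split 2 (-30) (.lin 0) (.split 2 (-29) (.split 5 22
    (.lin 5) (.splitN 22414 (.wt 4) (.wt 4))) (.lin 0)))) (.wt 2)) (.lin 1))))))))) (.split 6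
    (-21) (.splitN 38179 (.split 5 202 (.split 2 (-214) (.lin 8) (.split 2 (-26) (.split 1 181
    (.split 1 13 (.split 4 9 (.lin 7) (.split 2 (-34) (.split 0 (-23) (.split 2 (-43) (.splitN
    35138 (.split 1 3 (.split 4 18 (.lin 7) (.splitN 20527 (.split 3 11 (.splitN 17067 (.split 5
    94 (.split 6 (-44) (.lin 1) (.split 5 77 (.wt 1) (.lin 1))) (.div 5)) (.wt 0)) (.wt 0)) (.wt
    1))) (.split 6 (-26) (.split 4 18 (.lin 7) (.splitN 25128 (.wt 1) (.split 3 7 (.wt 0) (.split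
    2 (-105) (.split 0 (-63) (.split 6 (-57) (.split 5 103 (.lin 1) (.split 4 45 (.lin 7) (.split
    2 (-135) (.split 0 (-77) (.split 6 (-75) (.split 5 139 (.lin 1) .sq) (.lin 3)) (.lin 0)) (.wt
    0)))) (.lin 3)) (.lin 0)) (.wt 0))))) (.lin 1))) (.wt 1)) (.lin 8)) (.lin 0)) (.lin 8)))
    (.split 4 9 (.split 0 (-27) (.lin 11) (.lin 10)) (.splitN 24208 (.wt 1) (.split 2 (-167) (.wt
    2) (.split 0 (-91) (.lin 0) (.split 3 11 (.wt 0) (.split 4 73 (.split 2 (-59) (.split 0 (-41)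
    (.split 6 (-48) (.split 5 76 (.lin 6) (.split 4 27 (.lin 11) (.splitN 36267 (.wt 3) (.wt
    1)))) (.lin 3)) (.lin 0)) (.wt 0)) (.lin 11)))))))) (.lin 9)) (.wt 2))) (.div 5)) (.wt 1))
    (.lin 1))))) (.wt 3)) (.split 0 (-23) (.split 2 (-29) (.splitN 16983 (.wt 5) (.split 5 64
    (.split 0 (-109) (.lin 6) (.split 1 82 (.split 6 (-71) (.lin 1) (.split 1 64 (.split 2 (-138)
    (.lin 8) (.split 5 23 (.split 6 (-40) (.lin 1) (.split 0 (-73) (.lin 6) (.split 1 37 (.split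
    2 (-93) (.lin 12) (.split 6 (-31) (.lin 1) (.split 1 28 (.split 6 (-26) (.lin 1) (.split 1 19
    (.split 2 (-84) (.lin 8) (.split 0 (-68) (.lin 0) (.split 5 15 (.split 6 (-17) (.lin 1)
    (.split 4 10 (.split 1 10 (.split 2 (-70) (.lin 8) (.split 5 11 (.split 6 (-8) (.lin 1)
    (.split 4 1 (.split 1 1 (.wt 1) (.lin 7)) (.lin 4))) (.wt 2))) (.lin 7)) (.lin 4))) (.wt
    2)))) (.lin 7))) (.lin 7)))) (.lin 7)))) (.wt 2))) (.lin 7))) (.lin 9))) (.wt 2))) (.lin 10))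
    (.lin 0))) (.lin 11)))) (.wt 3)) (.lin 11))) (.split 0 (-63) (.split 2 (-65) (.splitN 18002
    (.wt 0) (.split 5 22 (.split 6 (-211) (.lin 1) (.split 4 10 (.split 1 208 (.split 6 (-112)
    (.lin 1) (.split 1 109 (.split 6 (-62) (.lin 1) (.split 1 55 (.split 6 (-35) (.lin 1) (.split
    1 28 (.split 6 (-22) (.lin 1) (.split 1 19 (.split 6 (-17) (.lin 1) (.split 1 10 (.splitN
    58415 (.split 0 (-219) .sq (.split 2 (-228) (.lin 2) (.split 3 223 (.split 1 3 (.split 6 (-8)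
    (.lin 1) (.split 5 5 (.split 4 1 (.split 2 (-98) (.wt 0) (.split 0 (-91) (.lin 2) (.split 3
    88 (.wt 1) (.lin 3)))) (.lin 4)) (.lin 1))) (.split 6 (-8) (.split 4 1 (.split 5 13 (.lin 1)
    (.splitN 27056 (.wt 0) (.wt 1))) (.lin 4)) (.lin 1))) (.lin 3)))) (.wt 5)) (.lin 7))) (.lin
    7))) (.lin 7))) (.lin 7))) (.lin 7))) (.lin 7)) (.lin 4))) (.wt 2))) (.lin 10)) (.lin 11)))
    .sq)) .sq) (.wt 3)) (.lin 11)) (.lin 11)))) (.wt 3)) (.lin 0)) (.wt 2)) (.div 4))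

def cert4_0_3 : Cert :=
  (.split 3 (-1) (.split 2 (-5) (.split 3 (-3) (.split 5 (-1) (.split 1 (-26) (.split 2 (-12)
    (.split 1 (-35) (.split 2 (-2624) (.split 1 (-2645) (.split 6 1324 (.lin 1) (.splitN 15679305
    .sq (.split 5 (-10) (.split 2 (-17224) (.split 1 (-17252) (.split 6 8632 (.lin 1) (.splitN
    669033549 .sq (.split 2 (-360824) (.split 1 (-360854) (.split 6 180433 (.lin 1) (.splitN
    292971770352 .sq (.split 2 (-8750000) (.split 1 (-8750024) (.split 2 (-17500000) (.split 3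
    (-4000000) (.split 4 (-1) (.split 0 (-17500014) (.lin 11) (.lin 10)) (.wt 0)) (.wt 6)) (.wt
    6)) (.lin 9)) (.wt 6)))) (.lin 9)) (.wt 6)))) (.lin 9)) (.wt 6)) (.wt 1)))) (.lin 9)) (.wt
    2)) (.lin 9)) (.wt 0)) (.lin 9)) (.split 2 (-25) (.split 1 (-1) (.split 4 (-1) (.split 6
    (-12) (.lin 7) (.lin 4)) (.split 5 20 (.split 1 (-26) (.split 6 5 (.lin 1) (.split 4 9 (.lin
    4) (.split 0 (-1) (.split 4 18 (.lin 11) (.split 3 (-30) (.split 2 (-56) (.split 1 (-80)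
    (.splitN 246504 (.split 1 (-1355) (.div 1) (.split 6 672 (.split 4 685 (.splitN 158626
    (.split 1 (-869) (.div 1) (.split 6 429 (.split 2 (-849) (.lin 12) (.split 5 5 (.wt 2)
    (.splitN 74922 (.split 1 (-401) (.div 1) (.split 6 190 (.split 2 (-363) (.lin 12) (.split 3
    (-192) (.lin 6) (.wt 2))) (.lin 1))) (.wt 1)))) (.lin 1))) (.wt 3)) (.lin 4)) (.lin 1))) (.wt
    0)) (.lin 9)) (.lin 0)) (.split 2 (-41) (.split 1 (-44) (.split 5 9 (.split 6 19 (.lin 1)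
    (.split 4 27 (.lin 4) (.splitN 222171 (.wt 1) (.split 3 (-29) (.wt 0) (.split 2 (-52) (.split
    3 (-12) (.wt 2) (.wt 1)) (.wt 2)))))) (.wt 2)) (.lin 9)) (.wt 2)))) (.split 3 (-47) (.split 1
    (-62) (.splitN 242581 (.split 1 (-1337) (.div 1) (.split 6 663 (.split 0 648 (.split 3
    (-1326) (.lin 6) (.split 1 (-486) .sq (.split 6 240 (.split 4 253 (.split 0 225 (.split 2
    (-246) (.lin 5) (.split 3 (-480) (.lin 6) (.split 5 13 (.split 2 (-37) (.wt 2) (.wt 2)) (.wt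
    2)))) (.lin 5)) (.lin 4)) (.lin 1)))) (.lin 5)) (.lin 1))) (.wt 3)) (.lin 9)) (.lin 0)))))
    (.lin 9)) (.wt 2))) (.split 5 40 (.lin 9) (.split 1 1 (.wt 2) (.split 5 49 (.lin 9) (.split 2
    (-208) (.split 5 229 (.lin 9) (.splitN 745198 (.wt 4) (.split 1 11 (.wt 2) (.split 2 (-958)
    (.split 5 994 (.lin 9) (.split 1 54 (.wt 2) (.split 2 (-4145) (.split 5 4216 (.lin 9) (.split
    1 233 (.wt 2) (.split 2 (-17569) (.split 5 17815 (.lin 9) (.split 1 988 (.wt 2) (.split 3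
    (-23753) (.split 5 42313 (.lin 9) (.split 6 (-21653) (.splitN 3133392237 .sq (.split 1 3583
    (.wt 1) (.split 5 44914 (.lin 9) (.split 6 (-24254) (.splitN 3491620164 .sq (.split 1 4328
    (.wt 6) (.split 2 (-151515) (.split 5 179599 (.lin 9) (.split 6 (-91965) (.splitN 64254076425
    .sq (.split 1 17542 (.wt 6) (.split 5 192820 (.lin 9) (.split 1 18866 (.wt 6) (.split 2
    (-660377) (.split 5 703003 (.lin 9) (.split 1 62499 (.wt 6) (.split 5 746635 (.lin 9) (.split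
    1 66665 (.wt 6) (.split 2 (-2333333) (.split 5 2423758 (.lin 9) (.split 1 166665 (.wt 6)
    (.split 2 (-5833333) (.split 5 6023758 (.lin 9) (.split 1 333332 (.wt 6) (.split 2
    (-11666666) (.split 5 12023752 (.lin 9) (.split 2 (-17500000) (.split 4 (-1) (.split 0
    (-17500014) (.lin 11) (.lin 10)) (.wt 0)) (.wt 6))) (.wt 6)))) (.wt 6)))) (.wt 6)))))) (.wt
    6)))))) (.lin 1))) (.wt 6)))) (.lin 1))))) (.lin 1))) (.wt 2)))) (.wt 2)))) (.wt 2)))) (.wt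
    2))))) (.wt 2)))))) (.wt 4))) (.wt 0)) (.wt 0)) (.split 0 (-5) (.split 2 (-3) (.split 5 (-1)
    (.split 2 (-16) cert4_0_0 (.wt 2)) (.split 1 (-1) (.split 2 (-16) (.split 0 (-14) (.split 2
    (-25) (.split 4 (-1) (.split 6 (-12) (.lin 7) (.lin 4)) (.splitN 5011213 (.split 2 (-139161)
    (.div 2) (.splitN 603592 (.split 2 (-16761) (.div 2) (.split 3 6704 (.split 4 3352 (.split 5
    3352 (.splitN 165922 (.split 1 (-905) (.div 1) (.split 3 1808 (.split 4 904 (.split 0 (-2710)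
    (.lin 11) (.split 2 (-3612) (.lin 10) (.split 0 (-403) .sq (.split 2 (-786) (.lin 0) (.split
    3 394 (.split 4 388 (.splitN 153799 (.split 1 (-390) .sq (.split 2 (-391) .sq cert4_0_1))
    (.wt 3)) (.lin 11)) (.lin 11)))))) (.div 4)) (.div 3))) (.wt 3)) (.div 5)) (.div 4)) (.div
    3))) (.wt 1))) (.wt 0))) (.lin 8)) (.lin 0)) (.lin 8)) (.split 6 (-3) (.split 4 (-1) (.split
    6 (-12) (.split 1 18 (.lin 7) (.split 0 (-18) (.split 3 24 (.lin 11) (.splitN 604800 (.split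
    1 3352 (.split 3 6704 (.split 2 (-12) (.split 0 (-23) (.split 3 33 (.lin 11) (.splitN 311556
    (.split 3 3428 (.split 2 (-21) (.split 0 (-32) (.split 3 42 (.lin 11) (.splitN 165071 (.split
    5 50 (.split 0 (-400) .sq (.split 2 (-750) (.lin 0) (.split 3 763 (.split 2 (-435) (.lin 5)
    (.splitN 155619 (.split 5 35 (.split 1 385 (.split 6 (-206) (.lin 1) (.split 3 592 (.split 3
    387 (.split 5 12 (.wt 2) (.split 6 (-17) (.split 1 27 (.lin 7) (.splitN 73699 (.split 2 (-38)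
    (.split 0 (-41) (.split 3 51 (.lin 11) (.split 2 (-43) (.split 0 (-50) (.split 3 60 (.lin 11)
    (.split 2 (-93) (.split 0 (-108) (.split 3 114 (.lin 11) (.split 2 (-121) (.split 0 (-135)
    (.split 3 141 (.lin 11) (.splitN 56258 .sq (.split 5 29 (.split 2 (-130) (.split 0 (-140)
    (.split 3 150 (.lin 11) (.splitN 63791 .sq (.split 4 (-21) (.wt 1) (.split 6 (-40) (.lin 4)
    (.split 1 55 (.split 4 (-16) (.wt 1) (.split 6 (-31) (.lin 4) (.split 1 37 (.split 5 17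
    (.split 6 (-26) (.lin 1) (.split 1 28 (.split 2 (-236) (.wt 0) (.split 0 (-235) (.lin 2)
    (.split 3 241 (.splitN 68352 (.wt 1) (.wt 1)) (.lin 3)))) (.lin 7))) (.wt 1)) (.lin 7))))
    (.lin 7)))))) (.lin 0)) (.wt 2)) (.wt 1)))) (.lin 10)) (.wt 2))) (.lin 10)) (.wt 2))) (.lin
    0)) (.wt 0))) (.lin 0)) (.wt 0)) (.wt 1))) (.lin 1))) .sq) (.lin 6))) .sq) (.wt 2)) (.wt 5)))
    (.lin 0)))) (.wt 2)) (.wt 3))) (.lin 0)) (.wt 2)) (.div 3)) (.wt 3))) (.lin 0)) (.wt 0))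
    (.div 3)) (.div 1)) (.wt 1))) (.lin 10))) (.lin 4)) (.splitN 226800 (.split 2 (-6231) (.div
    2) (.split 0 (-6229) (.lin 10) (.split 3 6226 cert4_0_2 (.lin 11)))) (.wt 1))) (.lin 1))))
    (.wt 0)) (.lin 0)))

def cert4_0_4 : Cert :=
  (.split 5 (-37) (.split 6 23 (.lin 1) (.split 1 (-26) (.split 6 32 (.lin 1) (.split 1 (-35)
    (.split 6 37 (.lin 1) (.split 1 (-44) (.split 2 19 (.wt 2) (.split 0 22 (.lin 0) (.split 3
    (-29) (.splitN 69034 (.split 2 67 (.split 1 (-252) .sq (.split 6 289 (.split 0 166 (.split 5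
    (-284) (.lin 4) (.split 4 136 (.split 3 (-250) .sq (.split 0 153 (.split 4 11 (.split 0 72
    (.split 3 (-120) (.lin 0) (.split 3 (-84) (.lin 11) (.split 2 52 (.split 0 67 (.split 3 (-75)
    (.lin 11) (.split 2 50 (.split 0 58 (.split 3 (-66) (.lin 11) (.split 4 3 (.split 0 45
    (.split 3 (-48) (.lin 11) (.splitN 33112 (.split 1 (-167) (.div 1) (.split 6 177 (.split 5
    (-176) (.lin 4) (.split 6 168 (.split 5 (-167) (.lin 4) (.splitN 27246 (.split 1 (-149) (.div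
    1) (.split 6 150 (.split 5 (-149) (.lin 4) (.split 6 145 (.split 5 (-140) (.lin 4) (.split 2
    31 (.split 0 27 (.split 3 (-30) (.lin 0) (.wt 0)) (.lin 10)) (.wt 0))) (.lin 1))) (.lin 1)))
    (.wt 1))) (.lin 1))) (.lin 2))) (.wt 0))) (.lin 10)) (.split 0 35 (.lin 10) (.split 3 (-47)
    (.splitN 44570 (.wt 1) (.split 2 34 (.wt 0) (.split 0 53 (.lin 10) (.split 3 (-65) (.splitN
    47329 (.wt 5) (.wt 0)) (.lin 0))))) (.lin 11))))) (.lin 0)) (.wt 2))) (.lin 0)) (.wt 2))))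
    (.lin 10)) (.split 1 (-62) (.split 0 44 (.lin 10) (.split 6 50 (.lin 1) (.split 1 (-71)
    (.split 6 55 (.lin 1) (.split 1 (-80) (.split 6 231 (.split 5 (-212) (.lin 4) (.split 3 (-65)
    (.splitN 43185 (.wt 1) (.splitN 54523 (.split 2 34 (.wt 0) (.split 0 53 (.lin 0) (.split 0 62
    (.lin 10) (.split 4 109 (.split 3 (-83) (.split 1 (-186) .sq (.split 0 130 (.split 3 (-210)
    (.lin 0) (.split 6 177 (.split 5 (-158) (.lin 4) (.split 6 168 (.split 5 (-149) (.lin 4)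
    (.split 6 163 (.split 5 (-140) (.lin 4) (.split 4 82 (.splitN 52500 (.split 2 60 (.split 3
    (-178) .sq (.split 0 112 (.split 4 64 (.split 5 (-73) (.split 0 99 (.split 3 (-156) (.lin 0)
    (.splitN 46483 (.wt 1) (.split 2 46 (.wt 0) (.split 0 67 (.lin 0) (.split 3 (-92) (.split 4
    46 (.split 3 (-105) (.wt 0) (.split 0 76 (.split 4 19 (.wt 0) (.lin 10)) (.lin 0))) (.lin
    10)) (.lin 0)))))) (.lin 8)) (.split 2 47 (.splitN 48295 (.split 3 (-125) (.wt 0) (.split 0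
    81 (.split 4 37 (.split 3 (-115) (.wt 0) (.split 3 (-84) (.split 0 67 (.lin 0) (.split 4 27
    (.lin 10) (.wt 1))) (.wt 0))) (.lin 10)) (.lin 0))) (.wt 0)) (.split 0 67 (.lin 0) (.split 3
    (-92) (.split 3 (-165) (.lin 0) (.split 4 55 (.splitN 46282 (.wt 0) (.wt 1)) (.lin 10)))
    (.lin 0))))) (.lin 10)) (.lin 0))) (.wt 2)) (.wt 1)) (.lin 10))) (.lin 1))) (.lin 1))) (.lin
    2))) (.lin 8))) (.lin 11)) (.lin 10))))) (.wt 3))) (.lin 11))) (.lin 7)) (.lin 7))) (.lin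
    7)))) (.lin 7))) (.lin 0))) (.lin 10))) (.lin 8)) (.lin 1))) (.wt 2)) (.wt 1)) (.lin 11))))
    (.lin 7))) (.lin 7))) (.lin 7))) (.splitN 91257 (.split 2 48 (.split 0 184 (.split 4 163
    (.split 1 (-296) .sq (.split 3 (-296) .sq (.split 5 (-12) (.split 6 10 (.lin 1) (.split 1
    (-17) (.splitN 80339 (.split 3 (-278) .sq (.split 4 11 (.split 6 42 (.split 1 (-54) (.lin 7)
    (.split 0 54 (.split 3 (-93) (.lin 0) (.split 3 (-84) (.lin 6) (.split 3 (-66) (.lin 11)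
    (.split 2 37 (.split 0 49 (.split 3 (-57) (.lin 11) (.split 4 3 (.split 0 36 (.split 3 (-39)
    (.lin 11) (.splitN 29119 (.split 2 26 (.split 0 31 (.split 3 (-30) (.lin 11) (.splitN 23654
    (.wt 3) (.split 2 16 (.wt 0) (.wt 0)))) (.lin 0)) (.wt 0)) (.wt 1))) (.lin 10)) (.split 6 23
    (.lin 4) (.split 1 (-35) (.split 0 26 (.lin 10) (.split 3 (-38) (.splitN 38757 (.wt 1)
    (.split 2 20 (.wt 0) (.split 0 31 (.lin 0) (.split 3 (-47) (.splitN 39927 (.wt 3) (.split 2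
    25 (.wt 0) (.split 0 40 (.lin 0) (.split 3 (-56) (.splitN 44195 (.wt 0) (.wt 3)) (.lin 0)))))
    (.lin 11))))) (.lin 11))) (.lin 7))))) (.lin 0)) (.wt 2))))) (.lin 10))) (.lin 4)) (.split 6
    32 (.lin 4) (.split 1 (-53) (.split 0 35 (.lin 10) (.split 3 (-29) (.split 3 (-56) (.splitN
    37009 (.wt 1) (.split 2 21 (.wt 0) (.split 0 40 (.lin 0) (.split 3 (-65) (.split 2 25 (.wt 2)
    (.split 0 49 (.lin 0) (.split 3 (-74) (.splitN 49209 (.splitN 39828 (.wt 3) (.split 5 (-14)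
    (.split 6 37 (.lin 1) (.split 1 (-62) (.split 3 (-189) .sq (.split 0 112 (.split 2 38 (.wt 2)
    (.split 4 64 (.splitN 43920 (.wt 0) (.split 3 (-101) (.split 0 71 (.lin 0) (.split 4 27 (.lin
    10) (.split 3 (-114) (.split 1 (-98) (.wt 1) (.lin 9)) (.wt 0)))) (.wt 0))) (.lin 10))) (.lin
    0))) (.lin 7))) (.wt 1))) (.wt 3)) (.lin 11)))) (.lin 11))))) (.lin 11)) (.lin 0))) (.lin
    7))))) (.wt 1)) (.lin 7))) (.wt 2)))) (.lin 10)) (.lin 0)) (.wt 2)) (.wt 1)))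

def cert4_0_5 : Cert :=
  (.split 6 (-1) (.split 4 9 (.lin 7) (.split 2 50 (.wt 2) (.split 0 62 (.lin 2) (.split 3 (-74)
    (.splitN 74995 (.split 2 55 (.wt 2) (.split 0 67 (.lin 0) (.split 5 15 (.wt 2) (.split 0 76
    (.lin 8) (.split 3 (-92) (.split 4 190 (.split 3 (-248) .sq (.split 2 114 (.splitN 67678
    (.split 5 26 (.wt 2) (.split 3 (-101) (.split 3 (-233) .sq (.split 5 158 (.split 5 71 (.split
    6 (-31) (.lin 1) (.split 2 69 (.wt 2) (.split 3 (-110) (.split 2 71 (.wt 2) (.split 3 (-119)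
    (.split 1 (-23) (.split 0 107 (.lin 2) (.split 3 (-137) (.split 4 27 (.lin 7) (.splitN 57567
    (.split 2 79 (.wt 2) (.split 5 36 (.wt 2) (.split 0 121 (.lin 8) (.split 3 (-171) .sq (.split
    0 135 (.split 6 (-13) (.lin 3) (.split 5 50 (.split 4 46 (.split 2 101 (.split 0 130 (.split
    2 92 (.split 3 (-164) (.splitN 54251 .sq (.wt 0)) (.lin 0)) (.lin 8)) (.lin 0)) (.lin 8))
    (.lin 4)) (.lin 6))) (.lin 0)))))) (.wt 0))) (.lin 3))) (.split 6 (-8) (.split 0 148 (.split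
    3 (-210) (.lin 0) (.split 3 (-192) (.lin 3) (.split 4 46 (.split 4 18 (.lin 7) (.splitN 62214
    (.split 2 79 (.wt 2) (.splitN 52942 (.wt 3) (.split 5 36 (.wt 2) (.split 0 112 (.lin 8)
    (.split 3 (-137) (.split 1 (-13) (.split 6 (-26) (.lin 1) (.split 5 59 (.split 4 37 (.split 4
    27 (.lin 7) (.splitN 57428 (.split 5 51 (.split 6 (-17) (.lin 1) (.split 5 41 (.wt 1) (.lin
    1))) (.wt 1)) (.wt 0))) (.lin 7)) (.lin 1))) (.split 6 (-17) (.split 5 49 (.lin 1) (.split 4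
    37 (.split 4 27 (.lin 7) (.splitN 56297 (.wt 0) (.split 2 89 (.wt 0) (.split 5 52 (.wt 1)
    (.split 6 (-26) (.split 0 134 (.lin 2) (.split 5 67 (.lin 1) (.split 3 (-173) .sq (.lin 3))))
    (.lin 1)))))) (.lin 7))) (.lin 1))) (.lin 3)))))) (.wt 5))) (.lin 7)))) (.lin 8)) (.lin 1)))
    (.lin 9))) (.lin 9)))) (.split 0 103 (.lin 8) (.split 3 (-119) (.split 3 (-146) (.splitN
    61345 (.split 2 64 (.wt 2) (.split 2 98 (.split 3 (-185) .sq (.split 0 139 (.split 1 (-36)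
    (.lin 9) (.split 6 (-21) (.split 4 27 (.lin 7) (.split 2 92 (.split 5 104 (.split 4 64
    (.split 2 74 (.wt 2) (.split 0 121 (.lin 8) (.split 1 (-27) (.lin 9) (.split 3 (-164) (.split
    6 (-26) (.split 4 36 (.lin 7) (.split 5 95 (.splitN 57275 .sq (.wt 0)) (.lin 9))) (.lin 1))
    (.lin 0))))) (.lin 10)) (.lin 9)) (.lin 8))) (.lin 1))) (.lin 0))) (.wt 2))) (.wt 3)) (.lin
    9)) (.lin 3)))) (.lin 9))) (.lin 9))) (.wt 0)) (.split 0 130 (.lin 8) (.split 3 (-146)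
    (.splitN 67258 (.split 5 54 (.split 4 46 (.split 6 (-22) (.lin 1) (.split 0 174 (.split 3
    (-228) (.lin 0) (.split 2 160 (.split 2 155 (.split 5 23 (.wt 2) (.split 3 (-155) (.splitN
    56672 .sq (.split 1 (-17) (.wt 1) (.split 6 (-12) (.split 4 28 (.split 4 18 (.lin 7) (.split
    5 47 (.split 6 (-17) (.lin 1) (.split 5 32 (.split 4 19 (.splitN 61569 (.wt 1) (.wt 0)) (.lin
    4)) (.lin 1))) (.wt 2))) (.lin 7)) (.lin 1)))) (.lin 9))) (.lin 8)) (.lin 2))) .sq)) (.lin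
    4)) (.wt 2)) (.wt 3)) (.lin 3))))) (.lin 11)) (.lin 3)))))) (.wt 5)) (.lin 3))))) (.split 1
    (-26) (.split 4 18 (.lin 4) (.split 0 53 (.lin 5) (.split 3 (-74) (.split 5 113 (.splitN
    46450 (.wt 1) (.split 2 44 (.wt 0) (.split 0 71 (.lin 5) (.split 1 (-207) (.lin 9) (.split 6
    96 (.split 4 208 (.split 3 (-92) (.split 2 65 (.wt 2) (.split 0 89 (.lin 5) (.split 3 (-110)
    (.split 5 95 (.split 5 18 (.wt 2) (.split 1 (-35) (.split 4 27 (.lin 4) (.split 0 98 (.lin 5)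
    (.split 3 (-128) (.splitN 61039 (.split 2 71 (.wt 2) (.split 0 103 (.lin 0) (.split 3 (-137)
    (.splitN 49710 (.wt 3) (.split 0 177 (.split 2 142 (.split 4 91 (.splitN 58822 (.split 5 25
    (.wt 2) (.split 1 (-44) (.split 4 36 (.lin 4) (.split 0 116 (.lin 5) (.split 3 (-155) (.split
    0 145 (.split 2 106 (.split 5 59 (.split 4 64 (.splitN 55553 (.split 2 79 (.wt 0) (.split 0
    121 (.lin 0) (.split 3 (-164) .sq (.lin 6)))) (.wt 3)) (.lin 10)) (.lin 5)) (.lin 5)) .sq)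
    (.lin 6)))) (.lin 1))) (.wt 3)) (.lin 10)) (.lin 5)) .sq)) (.lin 6)))) (.wt 3)) (.lin 6))))
    (.lin 1))) (.lin 12)) (.lin 6)))) (.lin 6)) (.lin 4)) (.lin 1)))))) (.lin 12)) (.lin 6))))
    (.lin 1)))

def cert4_0_6 : Cert :=
  (.split 2 87 (.split 0 76 (.split 4 (-45) (.lin 10) (.split 3 (-66) (.lin 11) (.splitN 89324
    (.split 1 287 (.split 6 (-274) (.lin 7) (.split 5 266 (.split 5 78 (.split 1 127 (.split 2 45
    (.wt 2) (.split 0 40 (.lin 0) (.split 3 (-47) (.split 0 49 (.lin 0) (.split 4 (-27) (.lin 10)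
    (.split 5 31 (.wt 2) (.split 6 (-35) (.split 1 45 (.lin 7) (.split 5 32 (.wt 2) (.split 4
    (-15) (.split 0 63 (.split 0 62 (.lin 11) (.split 2 78 (.lin 10) (.split 3 (-48) (.lin 0)
    (.split 4 (-18) (.lin 10) (.splitN 68041 (.wt 0) (.wt 0)))))) (.lin 10)) (.split 6 (-85)
    (.lin 4) (.split 1 91 (.split 2 63 (.wt 2) (.split 0 58 (.lin 0) (.split 3 (-56) (.splitN
    68738 (.split 5 51 (.wt 1) (.split 6 (-57) (.split 1 63 (.lin 7) (.split 6 (-62) (.split 1 72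
    (.lin 7) (.split 2 78 (.split 0 67 (.split 3 (-57) (.lin 0) (.wt 3)) (.lin 0)) (.wt 2)))
    (.lin 1))) (.lin 1))) (.wt 0)) (.lin 11)))) (.lin 7)))))) (.lin 1))))) (.split 0 58 (.split 4
    (-27) (.lin 11) (.split 5 42 (.split 2 53 (.wt 2) (.split 1 45 (.lin 9) (.split 5 32 (.splitN
    65765 (.wt 1) (.split 4 (-15) (.split 3 (-34) (.split 2 70 (.wt 0) (.lin 0)) (.split 2 75
    (.split 0 49 (.split 2 61 (.split 4 (-18) (.lin 10) (.splitN 73853 (.wt 1) (.wt 0))) (.lin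
    0)) (.lin 0)) (.wt 2))) (.split 0 53 (.lin 10) (.lin 11)))) (.split 1 63 (.lin 9) (.split 6
    (-53) (.split 4 (-17) (.splitN 71466 (.split 2 73 (.split 1 82 (.split 6 (-62) (.lin 1)
    (.split 4 (-18) (.lin 4) (.split 2 69 (.split 0 49 (.split 3 (-30) (.lin 0) (.wt 0)) (.lin
    0)) (.wt 0)))) (.lin 9)) (.wt 0)) (.wt 1)) (.lin 4)) (.lin 1)))))) (.split 6 (-44) (.split 1
    54 (.lin 7) (.split 2 64 (.split 0 49 (.split 4 (-18) (.lin 10) (.split 3 (-34) (.split 2 52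
    (.split 4 (-9) (.lin 10) (.splitN 66688 (.wt 1) (.wt 0))) (.lin 0)) (.split 2 60 (.lin 0)
    (.split 4 (-17) (.splitN 76102 (.wt 0) (.wt 0)) (.lin 10))))) (.lin 0)) (.wt 2))) (.lin 1))))
    (.lin 0))))) (.lin 9)) (.split 6 (-62) (.split 1 72 (.lin 7) (.split 6 (-80) (.split 1 90
    (.lin 7) (.split 6 (-89) (.splitN 78498 (.split 2 72 (.split 0 67 (.split 3 (-57) (.lin 11)
    (.split 2 68 (.split 0 58 (.split 4 (-27) (.lin 10) (.split 3 (-48) (.lin 11) (.split 1 241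
    (.split 6 (-251) (.lin 1) (.split 5 239 (.split 6 (-229) (.lin 7) (.split 5 221 (.split 2 52
    (.split 0 49 (.split 4 (-18) (.lin 10) (.split 3 (-39) (.lin 11) (.split 2 43 (.wt 2) (.split
    0 40 (.lin 0) (.split 3 (-38) (.split 4 (-9) (.lin 10) (.splitN 68352 (.wt 0) (.wt 0))) (.lin
    0)))))) (.lin 0)) (.splitN 74015 (.split 3 (-33) (.split 0 49 (.lin 0) (.split 3 (-47)
    (.split 4 (-9) (.lin 10) (.splitN 67661 (.wt 0) (.wt 0))) (.lin 0))) (.wt 0)) (.wt 1))) (.lin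
    4))) (.lin 4))) .sq))) (.lin 0)) (.wt 2))) (.lin 0)) (.wt 2)) (.wt 1)) (.lin 1))) (.lin 1)))
    (.lin 1))) (.lin 4))) .sq) (.wt 3)))) (.lin 0)) (.split 3 (-31) (.split 5 51 (.split 1 190
    (.split 2 177 (.split 5 36 (.split 1 163 (.split 3 (-56) (.split 4 (-23) (.split 6 (-48)
    (.split 1 72 (.lin 7) (.split 0 80 (.lin 11) (.split 2 101 (.lin 8) (.split 2 147 (.split 1
    118 (.split 6 (-76) (.lin 1) (.split 4 (-54) (.lin 4) (.split 5 30 (.split 6 (-71) (.lin 1)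
    (.split 4 (-45) (.lin 4) (.split 2 116 (.wt 2) (.split 3 (-57) (.split 1 100 (.split 6 (-62)
    (.lin 1) (.split 4 (-36) (.lin 4) (.split 2 130 (.wt 2) (.split 1 81 (.lin 9) (.split 6 (-53)
    (.split 4 (-35) (.split 3 (-74) (.wt 2) (.wt 2)) (.lin 4)) (.lin 1)))))) (.lin 9)) (.wt
    2))))) (.wt 2)))) (.lin 9)) (.wt 2))))) (.lin 4)) (.split 6 (-49) (.lin 4) (.split 1 64
    (.split 0 90 (.split 2 124 (.split 2 110 (.split 2 88 (.wt 2) (.split 0 76 (.lin 0) (.split 1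
    45 (.lin 9) (.split 3 (-65) (.split 5 27 (.wt 2) (.split 1 54 (.lin 9) (.split 6 (-44)
    (.split 4 (-17) (.split 1 63 (.lin 7) (.splitN 64222 (.split 2 105 (.split 0 85 (.split 3
    (-66) (.lin 0) (.wt 0)) (.lin 0)) (.wt 0)) (.wt 0))) (.lin 4)) (.lin 1)))) (.lin 11)))))
    (.lin 8)) (.lin 12)) (.lin 11)) (.lin 7)))) (.split 1 63 (.lin 9) (.split 6 (-44) (.split 4
    (-17) (.split 2 110 (.split 0 76 (.split 4 (-36) (.lin 11) (.split 5 29 (.split 4 (-26)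
    (.split 2 88 (.wt 2) (.split 3 (-41) (.split 2 97 (.split 1 73 (.split 6 (-49) (.lin 1)
    (.split 4 (-27) (.lin 4) (.splitN 66156 (.wt 0) (.wt 0)))) (.lin 9)) (.lin 0)) (.wt 2)))
    (.lin 4)) (.wt 2))) (.lin 0)) (.wt 2)) (.lin 4)) (.lin 1)))) (.lin 9)) (.split 6 (-39)
    (.split 1 45 (.lin 7) (.splitN 59798 (.wt 4) (.split 2 97 (.split 0 85 (.split 3 (-58)
    (.splitN 67572 (.split 4 (-15) (.wt 1) (.split 6 (-58) (.lin 4) (.split 1 64 (.split 2 92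
    (.split 5 43 (.wt 1) (.wt 2)) (.lin 8)) (.lin 7)))) (.wt 1)) (.wt 2)) (.lin 0)) (.wt 2))))
    (.lin 1))) (.wt 2)) (.lin 9)) (.wt 2)) (.wt 2)))

def cert4_0_7 : Cert :=
  (.split 5 18 (.split 2 37 (.wt 2) (.split 3 (-103) (.wt 2) (.split 3 (-34) (.splitN 108578
    (.split 5 6 (.wt 1) (.split 6 (-17) (.split 1 27 (.lin 7) (.split 2 197 (.wt 2) (.split 0 121
    (.lin 0) (.split 1 117 (.lin 9) (.split 6 (-66) (.split 4 (-53) (.splitN 80630 .sq (.wt 1))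
    (.lin 4)) (.lin 1)))))) (.lin 1))) (.wt 0)) (.split 5 9 (.wt 2) (.split 6 (-17) (.split 1 27
    (.lin 7) (.splitN 414746 (.split 1 2290 (.split 6 (-1151) (.lin 1) (.split 4 (-1134) (.lin 4)
    (.split 2 179 (.split 1 181 (.split 2 177 (.split 3 (-20) (.split 1 163 (.split 2 79 (.wt 2)
    (.split 1 72 (.lin 9) (.split 6 (-44) (.split 4 (-35) (.splitN 104183 (.split 2 144 (.split 0
    85 (.split 3 (-25) (.split 1 127 (.split 2 133 (.split 6 (-67) (.lin 1) (.split 4 (-54) (.lin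
    4) (.splitN 85375 (.wt 1) (.wt 0)))) (.lin 0)) (.lin 9)) (.wt 0)) (.lin 0)) (.wt 2)) (.wt 1))
    (.lin 4)) (.lin 1)))) (.lin 9)) (.wt 2)) (.wt 2)) (.lin 9)) (.wt 2)))) (.div 1)) (.wt 1)))
    (.lin 1)))))) (.split 6 (-21) (.split 1 27 (.lin 7) (.split 6 (-26) (.split 1 36 (.lin 7)
    (.splitN 330013 (.split 1 1822 (.split 3 (-3645) (.div 3) (.split 2 753 (.split 0 738 (.split
    3 (-732) (.lin 11) (.split 2 596 (.split 0 585 (.split 3 (-579) (.lin 11) (.split 2 557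
    (.split 0 549 (.split 1 570 (.split 6 (-1093) (.lin 2) (.split 5 1085 (.split 6 (-827) (.lin
    1) (.split 5 815 (.split 6 (-692) (.lin 1) (.split 5 680 (.split 6 (-625) (.lin 1) (.split 5
    617 (.split 6 (-593) (.lin 1) (.split 5 581 (.split 3 (-78) (.split 0 89 (.lin 11) (.split 2
    96 (.lin 10) (.splitN 88476 (.splitN 48356 (.wt 0) (.splitN 75174 (.split 0 229 (.split 3
    (-219) (.lin 11) (.split 1 214 (.split 2 232 (.split 5 42 (.split 2 164 (.split 0 153 (.split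
    3 (-165) (.lin 6) (.split 3 (-147) (.lin 11) (.split 5 32 (.split 1 109 (.split 4 (-19)
    (.split 6 (-48) (.split 1 72 (.lin 7) (.split 0 139 (.split 0 107 (.lin 11) (.split 2 123
    (.lin 5) (.split 3 (-111) (.lin 11) (.split 5 28 (.split 1 100 (.split 6 (-62) (.lin 1)
    (.split 4 (-36) (.lin 4) (.splitN 61000 (.wt 1) (.split 2 142 (.wt 0) (.split 3 (-92) (.wt 0)
    (.split 1 90 (.lin 9) (.split 2 151 (.split 6 (-57) (.split 4 (-35) (.wt 0) (.lin 4)) (.lin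
    1)) (.lin 12)))))))) (.lin 9)) (.wt 2))))) (.lin 8))) (.lin 4)) (.split 6 (-49) (.lin 4)
    (.split 1 64 (.split 5 27 (.split 6 (-44) (.lin 1) (.split 1 55 (.splitN 68672 (.split 4 (-9)
    (.split 6 (-39) (.split 1 54 (.lin 7) (.wt 2)) (.lin 4)) (.wt 1)) (.wt 0)) (.lin 7))) .cand)
    (.lin 7)))) (.lin 9)) (.split 6 (-39) (.split 1 45 (.lin 7) (.split 6 (-44) (.split 1 54
    (.lin 7) (.split 2 123 (.split 0 108 (.split 1 73 (.split 6 (-58) (.lin 1) (.split 3 (-111)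
    (.lin 3) (.split 3 (-102) (.lin 6) (.split 2 109 (.split 0 103 (.split 1 64 (.split 6 (-53)
    (.lin 1) (.split 4 (-9) (.lin 4) (.split 3 (-93) (.lin 3) (.splitN 63171 (.wt 0) (.wt 1)))))
    (.lin 9)) (.lin 0)) (.wt 2))))) (.lin 9)) (.lin 5)) (.wt 2))) (.lin 1))) (.lin 1))))) (.lin
    10)) (.split 0 183 (.split 3 (-174) (.lin 11) (.split 5 31 .cand (.wt 2))) .sq)) (.splitN
    64793 (.split 2 119 (.split 0 108 (.split 3 (-102) (.lin 11) (.wt 4)) (.lin 10)) (.wt 2))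
    (.wt 1))) .sq) .sq)) .sq) (.wt 1))) (.wt 0)))) (.split 2 179 (.split 3 (-29) (.split 0 26
    (.lin 0) (.split 0 35 (.lin 11) (.split 2 42 (.lin 10) (.splitN 101106 (.split 1 304
    cert4_0_6 .sq) (.wt 1))))) (.split 2 57 (.split 0 36 (.split 4 (-36) (.lin 10) (.split 2 38
    (.split 3 (-19) (.wt 2) (.split 0 22 (.split 2 25 (.split 4 (-9) (.lin 10) (.splitN 152235
    (.splitN 136829 (.wt 1) (.split 5 48 (.wt 0) (.split 1 63 (.lin 9) (.split 5 164 (.wt 1)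
    (.split 6 (-116) (.split 1 126 (.lin 7) (.split 1 180 (.lin 9) (.splitN 147959 (.wt 0)
    (.split 5 189 (.wt 0) (.split 6 (-188) (.split 1 198 (.lin 7) (.wt 5)) (.lin 1)))))) (.lin
    1)))))) (.wt 0))) (.lin 0)) (.lin 0))) (.split 1 45 (.lin 9) (.splitN 203472 (.split 3 (-12)
    (.split 0 31 (.lin 0) (.split 2 51 (.lin 0) (.split 4 (-18) (.lin 10) (.split 4 (-17)
    (.splitN 89122 (.wt 0) (.splitN 95925 (.split 5 45 (.split 1 73 (.wt 3) (.lin 9)) (.wt 0))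
    (.wt 1))) (.lin 10))))) (.wt 0)) (.wt 1))))) (.lin 0)) (.wt 2))) (.wt 2))) (.lin 4))) (.lin
    4))) (.lin 4))) (.lin 4))) (.lin 4))) .sq) (.lin 10)) (.wt 2))) (.lin 10)) (.wt 2))) (.lin
    10)) (.wt 2))) (.div 1)) (.wt 1))) (.lin 1))) (.lin 1)))

def cert4_0_8 : Cert :=
  (.split 5 38 (.split 6 (-161) (.lin 1) (.split 1 154 (.split 6 (-94) (.lin 1) (.split 1 91
    (.split 6 (-62) (.lin 1) (.split 1 55 (.split 6 (-44) (.lin 1) (.split 1 37 (.split 6 (-35)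
    (.lin 1) (.split 1 28 (.split 5 12 (.split 6 (-17) (.lin 1) (.split 4 1 (.split 1 10 (.split
    6 (-8) (.lin 1) (.split 1 1 (.splitN 22051 (.wt 1) (.wt 0)) (.lin 7))) (.lin 7)) (.lin 4)))
    (.split 6 (-8) (.split 4 19 (.splitN 77775 (.split 3 (-272) .sq (.split 1 5 (.split 5 22
    (.lin 1) (.split 0 35 (.lin 2) (.split 6 (-17) (.lin 1) (.split 4 9 (.lin 4) (.split 5 23
    (.split 4 10 (.split 3 (-47) (.splitN 23998 (.wt 1) (.split 2 41 (.wt 0) (.wt 1))) (.lin 3))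
    (.lin 4)) (.lin 1)))))) (.split 2 30 (.wt 2) (.split 0 31 (.lin 0) (.split 3 (-38) (.split 4
    4 (.split 2 89 (.split 0 90 (.split 3 (-93) (.lin 11) (.split 2 74 (.split 0 72 (.split 3
    (-75) (.lin 11) (.splitN 29870 (.split 2 61 (.split 0 67 (.split 3 (-66) (.lin 11) (.split 2
    57 (.split 0 58 (.split 3 (-57) (.lin 11) (.split 5 16 (.wt 1) (.split 6 (-17) (.split 1 18
    (.lin 7) (.split 2 43 (.split 0 49 (.split 3 (-48) (.lin 11) (.split 2 39 (.wt 1) (.wt 0)))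
    (.lin 0)) (.wt 0))) (.lin 1)))) (.lin 0)) (.wt 0))) (.lin 0)) (.wt 0)) (.wt 3))) (.lin 10))
    (.wt 2))) (.lin 10)) (.wt 2)) (.split 5 22 (.lin 4) (.split 1 19 (.split 0 44 (.lin 10)
    (.split 6 (-17) (.split 6 (-26) (.lin 1) (.split 4 10 (.split 1 10 (.split 5 31 (.lin 1)
    (.split 3 (-56) (.splitN 43655 (.wt 1) (.split 2 57 (.wt 0) (.split 0 71 (.lin 2) (.split 3
    (-83) (.splitN 48008 (.split 2 73 (.wt 0) (.split 0 89 (.lin 2) (.split 3 (-101) (.split 2 81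
    (.wt 0) (.split 2 122 (.split 0 126 (.split 3 (-138) (.lin 3) (.split 2 95 (.split 0 99
    (.split 3 (-111) (.lin 0) (.wt 0)) (.lin 2)) (.wt 0))) (.lin 2)) (.wt 0))) (.lin 3)))) (.wt
    1)) (.lin 3))))) (.lin 3))) (.lin 7)) (.lin 4))) (.lin 1))) (.lin 7)))) (.lin 11)))))) (.wt
    3)) (.lin 4)) (.lin 1))) (.lin 7))) (.lin 7))) (.lin 7))) (.lin 7))) (.lin 7))) (.split 6
    (-21) (.split 2 115 (.split 0 202 (.split 4 172 (.split 2 114 (.splitN 75000 (.split 1 260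
    (.split 3 (-262) .sq (.split 0 180 (.split 4 154 (.split 1 15 (.split 0 40 (.lin 8) (.split 3
    (-56) (.split 4 9 (.lin 7) (.splitN 55088 (.split 2 29 (.wt 2) (.split 0 49 (.lin 8) (.split
    3 (-65) (.splitN 23432 (.wt 3) (.split 3 (-216) .sq (.split 5 185 (.split 6 (-98) (.lin 1)
    (.split 4 91 (.split 2 95 (.split 1 3 (.wt 1) (.split 6 (-26) (.split 4 18 (.lin 7) (.splitN
    42993 (.wt 1) .cand)) (.lin 1))) (.wt 2)) (.lin 7))) (.lin 9)))) (.lin 3)))) (.wt 3))) (.lin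
    3))) (.split 6 (-30) (.split 2 25 (.wt 2) (.split 0 31 (.lin 0) (.split 3 (-38) (.splitN
    68627 (.split 5 245 (.split 4 12 (.split 0 117 (.split 3 (-129) (.lin 11) (.split 2 87
    (.split 0 90 (.split 3 (-102) (.lin 11) (.split 4 3 (.splitN 27397 (.split 2 45 (.split 0 45
    (.split 3 (-57) (.lin 0) (.split 3 (-48) (.lin 11) (.split 2 35 (.split 0 40 (.split 3 (-39)
    (.lin 0) (.wt 0)) (.lin 0)) (.wt 0)))) (.lin 10)) (.wt 0)) (.wt 1)) (.split 0 44 (.lin 10)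
    (.split 3 (-56) (.splitN 43968 (.wt 1) (.splitN 53567 .cand (.wt 3))) (.lin 11))))) (.lin
    10)) (.wt 2))) (.lin 10)) (.split 5 49 (.lin 4) (.split 0 53 (.lin 10) (.split 6 (-35)
    (.split 5 58 (.lin 4) (.split 3 (-74) (.splitN 44227 (.wt 1) (.split 2 40 (.wt 0) (.split 0
    58 (.lin 0) (.split 2 55 (.wt 2) (.split 0 71 (.lin 0) (.split 0 80 (.lin 10) (.split 3
    (-101) (.splitN 55039 (.split 2 93 (.split 1 163 (.split 3 (-192) .sq (.split 0 139 (.split 4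
    73 (.split 5 172 (.split 6 (-166) (.lin 1) (.split 1 145 (.split 6 (-157) (.lin 1) (.split 1
    136 (.split 6 (-152) (.lin 1) (.split 1 127 (.split 2 74 (.split 0 130 (.split 4 64 (.splitN
    52503 (.split 5 65 (.wt 2) (.split 6 (-44) (.split 5 160 (.split 5 113 (.splitN 46568 (.wt 1)
    (.split 2 62 (.wt 2) (.split 0 85 (.lin 0) (.split 3 (-110) (.split 3 (-138) (.wt 4) (.split
    0 103 (.split 3 (-129) (.lin 0) (.split 4 28 (.split 5 108 (.split 5 79 (.wt 4) (.split 3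
    (-115) (.split 0 94 (.lin 0) (.split 3 (-128) (.split 4 27 (.lin 10) (.split 1 40 (.wt 0)
    (.wt 0))) (.lin 0))) (.wt 4))) (.wt 2)) (.lin 10))) (.lin 0))) (.lin 0))))) (.split 6 (-71)
    (.split 3 (-134) .sq (.split 1 54 (.lin 9) (.split 6 (-89) (.split 4 30 (.split 1 63 (.lin 7)
    (.split 2 62 (.wt 2) (.split 0 85 (.lin 0) (.split 3 (-110) .sq (.lin 0))))) (.wt 1)) (.lin
    1)))) (.lin 1))) .sq) (.lin 1))) (.wt 0)) (.lin 10)) (.lin 0)) (.split 0 98 (.lin 10) (.split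
    3 (-119) (.split 5 88 (.split 0 121 (.split 3 (-156) (.lin 0) (.split 4 37 (.splitN 51308
    (.split 2 83 (.split 0 112 (.split 3 (-138) (.lin 0) (.wt 4)) (.lin 8)) (.wt 2)) (.wt 1))
    (.lin 10))) (.lin 8)) (.wt 2)) (.lin 11)))) (.lin 7))) (.lin 7))) (.lin 7))) .sq) (.lin 10))
    (.lin 0))) .sq) (.wt 2)) (.wt 1)) (.lin 11)))))))) (.lin 11))) (.lin 1))))) .sq) (.wt 1))
    (.lin 11)))) (.lin 1))) (.lin 10)) (.lin 0))) .sq) (.wt 3)) (.wt 2)) (.lin 10)) (.lin 0))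
    (.wt 2)) (.lin 1)))

def cert4_0_9 : Cert :=
  (.split 5 (-1) (.split 1 (-1) (.split 6 5 (.lin 1) (.split 4 (-1) (.split 5 (-13) (.split 6 10
    (.lin 1) (.split 5 (-22) (.split 2 15 (.lin 10) (.split 3 (-6) (.split 0 13 (.lin 0) (.split
    2 24 (.lin 10) (.splitN 243395 (.split 2 97 (.split 0 90 (.split 3 (-84) (.lin 11) (.split 2
    71 (.split 0 63 (.split 3 (-57) (.lin 11) (.split 2 62 (.split 0 58 (.split 3 (-48) (.lin 11)
    (.split 2 58 (.split 0 49 (.split 3 (-39) (.lin 11) (.split 5 (-489) .sq (.split 3 (-21)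
    (.split 0 35 (.lin 11) (.split 2 42 (.lin 10) (.split 4 (-18) (.lin 10) (.split 5 (-49)
    (.split 6 28 (.lin 1) (.split 1 (-17) (.split 1 (-26) (.splitN 76797 (.split 5 (-419) (.div
    5) (.split 2 49 (.split 0 40 (.split 1 (-35) (.split 3 (-30) (.lin 0) (.split 4 (-9) (.lin
    10) (.splitN 72203 (.wt 0) (.wt 3)))) (.lin 9)) (.lin 0)) (.wt 2))) (.wt 1)) (.lin 9)) (.lin
    7))) (.wt 2))))) (.split 2 37 (.split 0 27 (.split 3 (-16) (.split 0 22 (.lin 0) (.split 2 33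
    (.lin 0) (.split 4 (-9) (.lin 10) (.splitN 80589 (.wt 0) (.split 5 (-26) (.split 6 19 (.lin
    1) (.split 1 (-17) (.split 5 (-46) (.split 1 (-35) (.split 5 (-71) (.split 1 (-62) (.split 5
    (-127) (.split 1 (-131) (.split 6 140 (.lin 2) (.split 5 (-148) (.wt 2) (.lin 4))) (.wt 2))
    (.wt 2)) (.lin 9)) (.wt 1)) (.lin 9)) (.wt 1)) (.lin 7))) (.wt 1)))))) (.split 0 22 (.split 2
    25 (.splitN 201206 (.wt 4) (.split 1 (-124) (.wt 0) (.split 6 123 (.split 5 (-239) (.lin 1)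
    (.wt 2)) (.lin 2)))) (.lin 0)) (.lin 0))) (.lin 0)) (.wt 2))))) (.lin 0)) (.wt 2))) (.lin 0))
    (.wt 2))) (.lin 10)) (.wt 2))) (.lin 10)) (.wt 2)) (.wt 1)))) (.wt 0))) (.lin 4))) (.lin 4))
    (.split 3 (-11) (.split 2 7 (.wt 2) (.split 0 13 (.lin 0) (.split 3 (-20) (.splitN 125131
    (.split 0 6192 (.split 2 6190 (.split 1 (-689) (.div 1) (.split 6 6855 (.split 5 (-6854)
    (.lin 4) (.split 6 3768 (.split 5 (-3767) (.lin 4) (.split 6 2224 (.split 5 (-2219) (.lin 4)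
    (.split 6 1450 (.split 5 (-1445) (.lin 4) (.split 6 1063 (.split 4 1054 (.split 3 (-1377)
    (.div 3) (.split 2 81 (.split 0 418 (.split 4 397 (.splitN 108945 (.split 1 (-599) (.div 1)
    (.split 6 591 (.split 5 (-590) (.lin 4) (.split 1 (-327) .sq (.split 0 238 (.split 3 (-453)
    (.lin 0) (.split 6 384 (.split 5 (-383) (.lin 4) (.split 6 352 (.split 5 (-347) (.lin 4)
    (.split 6 334 (.split 5 (-329) (.lin 4) (.split 4 217 (.split 2 75 (.split 3 (-328) .sq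
    cert4_0_4) (.wt 2)) (.lin 10))) (.lin 1))) (.lin 1))) (.lin 2))) (.lin 8)))) (.lin 7))) (.wt
    3)) (.lin 10)) (.lin 8)) (.wt 2))) (.lin 4)) (.lin 1))) (.lin 1))) (.lin 1))) (.lin 1)))
    (.lin 2))) (.lin 10)) (.div 0)) (.wt 1)) (.lin 11)))) (.lin 11)))) (.split 2 11 (.lin 8)
    (.split 3 (-3) (.split 0 13 (.lin 0) (.split 2 20 (.lin 8) (.split 5 (-6) (.split 4 (-1)
    (.split 2 82 (.split 3 (-66) (.lin 9) (.split 5 (-68) (.lin 9) (.split 2 48 (.split 3 (-30)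
    (.lin 9) (.split 5 (-32) (.lin 9) (.split 2 32 (.split 0 18 (.split 1 1 (.split 3 (-12) (.lin
    0) (.split 6 5 (.lin 1) (.split 6 6 (.split 5 (-14) (.lin 1) (.split 4 (-9) (.lin 4) (.splitN
    51160 (.wt 0) (.wt 0)))) (.lin 2)))) (.lin 9)) (.lin 8)) (.wt 2)))) (.wt 2)))) (.wt 2))
    (.split 6 14 (.lin 4) (.lin 7))) (.wt 2)))) (.wt 0)))) (.split 1 (-1) (.split 3 (-20) (.split
    2 22 (.wt 2) (.split 3 (-38) (.split 2 27 (.wt 2) (.split 3 (-47) (.split 5 6 (.wt 2) (.split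
    3 (-56) (.split 4 (-1) (.split 6 (-21) (.lin 7) (.lin 4)) (.splitN 109963 (.split 1 (-599)
    (.div 1) (.split 3 (-1197) (.div 3) (.split 5 1148 (.split 6 (-571) (.lin 1) (.split 4 1162
    (.splitN 86716 (.split 0 283 (.split 2 502 (.split 2 268 (.split 4 244 (.splitN 80912 (.split
    3 (-274) .sq (.split 2 250 (.split 5 230 cert4_0_5 (.lin 9)) (.lin 9))) (.wt 5)) (.lin 10))
    (.lin 8)) (.lin 0)) .sq) (.wt 3)) (.lin 7))) (.lin 9)))) (.wt 0))) (.lin 9))) (.lin 9)))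
    (.lin 9))) (.lin 9)) (.split 6 (-3) (.split 4 (-1) (.split 6 (-12) (.split 1 18 (.lin 7)
    (.split 2 15 (.lin 10) (.splitN 43091 (.wt 1) (.split 3 (-5) (.split 0 13 (.lin 0) (.split 2
    24 (.lin 10) cert4_0_7)) (.wt 0))))) (.lin 4)) (.split 3 (-11) (.split 2 13 (.wt 2) (.split 0
    13 (.lin 0) (.split 3 (-20) (.splitN 324000 (.split 0 16074 (.split 2 32128 (.split 1 1786
    (.split 3 (-3573) (.div 3) (.split 0 3564 (.split 2 5344 (.split 2 4453 (.split 4 1786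
    (.splitN 181227 (.split 1 994 (.split 3 (-1989) (.div 3) (.split 0 1980 (.split 2 2473
    (.split 4 994 (.split 5 994 (.splitN 142382 (.split 1 778 (.split 3 (-1557) (.div 3) (.split
    0 1548 (.split 2 1546 (.split 4 778 (.split 2 16 (.wt 2) (.split 0 22 (.lin 0) (.split 3
    (-29) (.splitN 118650 (.split 5 652 (.splitN 97057 (.split 1 526 (.split 6 (-584) (.lin 1)
    (.split 4 577 (.split 0 305 (.split 3 (-570) (.lin 0) (.split 2 295 (.split 4 271 (.splitN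
    90748 (.split 1 293 (.split 3 (-295) .sq (.split 5 293 cert4_0_8 .sq)) .sq) (.wt 5)) (.lin
    10)) (.lin 10))) .sq) (.lin 7))) (.div 1)) (.wt 5)) (.div 5)) (.wt 3)) (.lin 11)))) (.div 4))
    (.lin 10)) (.lin 11))) (.div 1)) (.wt 5)) (.div 5)) (.div 4)) (.lin 8)) (.lin 11))) (.div 1))
    (.wt 3)) (.div 4)) (.lin 8)) (.lin 2)) (.lin 11))) (.div 1)) (.lin 0)) (.div 0)) (.wt 0))
    (.lin 11)))) (.lin 11))) (.lin 1))))

def cert4_0_10 : Cert :=
  (.split 6 (-1) (.split 1 9 (.lin 1) (.split 1 27 (.lin 7) (.split 5 (-30) (.split 1 36 (.lin 1)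
    (.split 4 (-35) (.split 3 42 (.lin 6) (.splitN 37219 (.wt 1) (.split 2 37 (.wt 0) (.split 0
    (-86) (.lin 0) (.split 1 54 (.lin 2) (.split 4 (-53) (.split 2 49 (.wt 2) (.split 3 69 (.lin
    0) (.split 1 63 (.lin 2) (.split 4 (-62) (.splitN 48775 (.splitN 39965 (.wt 3) (.split 2 141
    (.split 5 (-171) (.lin 12) (.split 2 99 (.split 4 (-180) (.lin 10) (.split 3 185 (.split 0
    (-64) (.lin 0) (.split 4 (-162) (.lin 10) (.split 5 (-135) (.lin 12) (.split 2 95 (.split 2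
    70 (.split 5 (-122) (.lin 12) (.splitN 46026 (.split 5 (-62) (.wt 1) (.split 3 72 (.wt 3)
    (.split 5 (-55) (.wt 1) (.split 1 81 (.lin 9) (.split 2 61 (.split 3 89 (.wt 0) (.split 0
    (-18) (.split 4 (-71) (.split 5 (-41) (.wt 1) (.split 1 108 (.lin 9) (.split 6 (-35) (.split
    1 151 (.split 0 (-41) (.lin 8) (.split 3 133 (.split 2 52 (.wt 0) (.split 0 (-32) (.lin 8)
    (.split 4 (-90) (.lin 10) (.split 4 (-80) (.split 3 102 (.wt 3) (.wt 0)) (.lin 10))))) (.lin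
    0))) .sq) (.lin 1)))) (.lin 10)) (.lin 0))) (.split 3 87 (.lin 0) (.wt 0))))))) (.wt 3)))
    (.split 3 96 (.lin 0) (.split 1 90 (.lin 2) (.split 4 (-89) (.splitN 44095 (.wt 0) (.split 3
    157 (.split 0 (-37) (.lin 0) (.split 5 (-122) (.lin 5) (.wt 1))) (.wt 0))) (.lin 10))))) (.wt
    2))))) .sq)) (.wt 2))) (.wt 0))) (.wt 1)) (.lin 10))))) (.lin 10))))))) (.lin 4))) (.split 4
    (-126) (.lin 4) (.split 2 69 (.splitN 45063 (.split 1 201 (.split 5 (-10) (.splitN 33098 (.wt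
    1) (.split 2 22 (.wt 0) (.split 1 36 (.lin 9) (.split 3 42 (.lin 0) (.split 4 (-35) (.splitN
    34057 (.wt 1) (.split 2 27 (.wt 0) (.split 3 51 (.lin 0) (.split 1 63 (.lin 9) (.split 4
    (-44) (.split 2 56 (.split 2 43 (.split 5 (-21) (.wt 2) (.splitN 38922 (.split 2 40 (.wt 1)
    (.wt 0)) (.wt 1))) (.split 0 (-59) (.lin 8) (.split 3 69 (.lin 0) (.split 4 (-108) (.lin 10)
    (.splitN 40022 (.wt 0) (.wt 1)))))) (.wt 2)) (.lin 10)))))) (.lin 10)))))) (.wt 2)) .sq) (.wt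
    3)) (.wt 2)))))) (.split 5 (-31) (.splitN 20466 (.wt 1) (.split 2 29 (.wt 2) (.split 3 51
    (.lin 0) (.split 5 (-49) (.split 4 (-44) (.split 2 123 (.splitN 49146 (.split 3 201 (.split 5
    (-201) .sq (.split 6 96 (.split 1 13 (.split 2 97 (.split 6 32 (.lin 2) (.split 5 (-67)
    (.split 5 (-76) (.split 2 92 (.splitN 45323 (.split 2 34 (.wt 2) (.split 3 60 (.lin 0)
    (.split 6 41 (.lin 2) (.split 5 (-85) (.split 5 (-94) (.split 4 (-53) (.split 5 (-181) .sq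
    (.split 6 87 (.split 0 (-50) (.lin 8) (.split 3 142 (.split 2 83 (.split 1 3 (.splitN 27017
    (.split 5 (-149) (.div 5) (.split 6 73 (.split 0 (-28) (.lin 2) (.split 3 97 (.splitN 25547
    (.split 5 (-131) (.div 5) (.split 6 64 (.split 5 (-122) (.lin 1) (.wt 1)) (.lin 1))) (.wt 0))
    (.lin 3))) (.lin 1))) (.wt 0)) (.split 6 82 (.split 3 133 (.split 4 (-90) (.lin 7) (.splitN
    40014 (.wt 1) (.wt 3))) (.lin 3)) (.lin 1))) (.lin 8)) (.lin 3))) (.lin 1))) (.lin 10)) (.lin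
    5)) (.lin 1))))) (.wt 0)) (.lin 8)) (.lin 4)) (.lin 1))) (.lin 2)) (.splitN 39022 (.wt 1)
    (.split 2 39 (.wt 0) (.split 3 60 (.lin 0) (.split 5 (-58) (.split 4 (-53) (.splitN 39846
    (.wt 1) (.split 2 51 (.wt 0) (.split 5 (-67) (.split 4 (-62) (.split 2 52 (.wt 0) (.split 0
    (-68) (.lin 0) (.split 3 78 (.lin 0) (.split 4 (-71) (.split 2 63 (.wt 2) (.split 3 87 (.lin
    0) (.split 5 (-85) (.split 4 (-80) (.split 2 92 (.split 4 (-153) (.lin 10) (.split 3 164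
    (.split 5 (-163) .sq (.split 6 69 (.split 2 79 (.split 3 124 (.splitN 45651 (.split 1 25
    (.split 6 59 (.lin 2) (.split 5 (-139) (.split 4 (-90) (.lin 7) (.wt 1)) (.lin 1))) (.wt 1))
    (.wt 0)) (.split 0 (-27) (.split 1 45 (.lin 9) (.split 4 (-98) (.split 5 (-108) .sq (.lin
    12)) (.lin 10))) (.lin 0))) (.split 4 (-98) (.splitN 44958 (.wt 0) (.wt 1)) (.lin 10))) (.lin
    1))) .sq)) (.wt 2)) (.lin 10)) (.lin 5)))) (.lin 10))))) (.lin 10)) (.lin 5)))) (.lin 10))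
    (.lin 5)))))) (.lin 1))) .sq) (.wt 3)) (.wt 2)) (.lin 10)) (.lin 5))))) (.lin 4)))

def cert4_0_11 : Cert :=
  (.splitN 17466 (.wt 1) (.split 5 (-30) (.split 1 36 (.lin 1) (.split 4 (-35) (.split 2 42 (.lin
    5) (.splitN 50519 (.splitN 26675 (.wt 1) (.split 3 12 (.wt 0) (.splitN 32893 (.wt 1) (.split
    3 16 (.wt 0) (.splitN 35190 (.wt 1) (.split 2 49 (.wt 2) (.split 2 212 (.split 0 90 (.split 3
    187 (.split 5 (-194) (.lin 5) (.splitN 49186 (.split 3 68 (.split 5 (-149) (.lin 6) (.split 4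
    (-153) (.lin 11) (.split 5 (-131) (.lin 12) (.splitN 46028 (.split 2 61 (.wt 2) (.split 1 187
    (.split 3 43 (.split 0 13 (.lin 0) (.split 4 (-44) (.split 4 (-135) (.lin 11) (.split 5
    (-122) (.lin 12) (.split 2 71 (.wt 2) (.split 2 192 (.split 3 34 (.split 0 22 (.lin 0)
    (.split 1 54 (.lin 3) (.split 4 (-53) (.splitN 42452 (.split 2 83 (.wt 2) (.split 2 177
    (.split 5 (-99) (.lin 12) (.split 5 (-54) (.split 4 (-62) (.splitN 37622 (.wt 1) (.split 2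
    118 (.wt 0) (.split 0 44 (.lin 0) (.split 4 (-71) (.split 3 29 (.wt 0) (.split 1 81 (.lin 3)
    (.split 2 135 (.split 0 49 (.split 2 124 (.split 4 (-81) (.lin 10) (.wt 2)) (.lin 0)) (.lin
    0)) (.wt 0)))) (.lin 11))))) (.lin 4)) (.split 2 128 (.split 0 49 (.split 1 127 (.split 3 29
    (.split 0 31 (.lin 0) (.split 2 115 (.split 4 (-62) (.wt 0) (.lin 11)) (.lin 0))) (.splitN
    37782 (.wt 0) (.split 2 103 (.wt 0) (.split 0 35 (.lin 0) (.split 4 (-71) (.wt 1) (.lin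
    11)))))) (.lin 9)) (.lin 0)) (.split 0 49 (.lin 0) (.split 1 108 (.lin 9) (.split 6 (-30)
    (.split 4 (-80) .sq (.lin 11)) (.lin 1))))))) .sq)) (.wt 0)) (.lin 11)))) (.split 1 63 (.lin
    3) (.split 4 (-62) (.split 2 165 (.split 0 58 (.split 5 (-95) (.lin 6) (.splitN 42700 (.split
    2 89 (.split 0 22 (.split 2 79 (.split 4 (-63) (.lin 10) (.wt 3)) (.lin 0)) (.lin 0)) (.wt
    0)) (.wt 1))) (.lin 0)) (.wt 0)) (.lin 11)))) .sq)))) (.lin 11))) (.split 1 63 (.lin 3)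
    (.split 4 (-62) (.splitN 40041 (.wt 3) (.split 2 75 (.wt 0) (.split 2 117 (.split 0 31
    (.split 5 (-86) (.lin 6) (.split 4 (-108) (.lin 10) (.split 2 111 (.split 5 (-81) (.lin 12)
    (.split 2 98 (.split 5 (-61) (.split 2 87 (.wt 0) (.split 0 13 (.lin 0) (.split 3 54 (.wt 0)
    (.split 2 96 (.lin 0) (.wt 0))))) (.wt 1)) (.wt 1))) (.wt 0)))) (.lin 0)) (.wt 0)))) (.lin
    11)))) .sq)) (.wt 3))))) (.split 2 87 (.lin 0) (.split 1 81 (.lin 3) (.split 4 (-80) (.splitN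
    42930 (.wt 0) (.split 2 138 (.split 5 (-122) (.lin 5) (.wt 1)) (.wt 0))) (.lin 11))))) (.wt
    1))) (.lin 0)) (.lin 0)) .sq))))))) (.wt 1))) (.lin 4))) (.split 4 (-135) (.lin 4) (.split 3
    28 (.splitN 38244 (.split 2 188 (.split 5 (-10) (.splitN 23928 (.wt 1) (.split 3 9 (.wt 0)
    (.split 2 33 (.lin 0) (.split 1 27 (.lin 9) (.split 4 (-26) (.split 2 50 (.wt 2) (.split 0 13
    (.lin 0) (.split 1 45 (.lin 9) (.split 4 (-35) (.split 2 98 (.split 1 109 (.split 6 (-49)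
    (.lin 1) (.split 4 (-72) (.lin 4) (.splitN 30004 (.wt 1) (.splitN 36020 (.split 3 17 (.wt 0)
    (.split 2 60 (.lin 0) (.wt 3))) (.wt 3))))) (.lin 9)) (.split 1 99 (.lin 9) (.split 6 (-39)
    (.split 4 (-53) (.splitN 30201 (.wt 0) (.splitN 35325 (.split 3 19 (.wt 0) (.wt 0)) (.wt 1)))
    (.lin 4)) (.lin 1)))) (.lin 11))))) (.lin 11)))))) (.splitN 23789 (.split 3 12 (.wt 1) (.wt
    0)) (.wt 1))) .sq) (.wt 3)) (.split 1 36 (.lin 9) (.split 2 51 (.lin 0) (.split 1 63 (.lin 9)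
    (.split 6 (-21) (.split 4 (-26) (.split 4 (-44) (.splitN 34688 (.wt 0) (.splitN 41141 (.split
    2 100 (.split 3 79 (.split 1 172 (.split 6 (-85) (.lin 1) (.split 4 (-108) (.lin 4) (.split 3
    66 (.split 5 (-6) (.split 2 68 (.split 0 13 (.split 1 109 (.split 3 43 (.splitN 38870 (.split
    3 40 (.split 2 52 (.wt 0) (.lin 0)) (.wt 0)) (.wt 1)) (.lin 0)) (.lin 9)) (.lin 0)) (.wt 2))
    (.wt 0)) (.wt 0)))) (.lin 9)) (.lin 0)) (.wt 0)) (.wt 1))) (.lin 11)) (.lin 4)) (.lin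
    1)))))))))

def cert4_0_12 : Cert :=
  (.split 1 14 (.split 6 10 (.lin 1) (.split 3 106 (.split 5 (-40) (.splitN 45543 (.split 5
    (-202) .sq (.split 6 96 (.split 3 97 (.split 1 3 (.split 6 19 (.lin 1) (.split 5 (-49)
    (.splitN 28977 (.split 5 (-149) (.div 5) (.split 6 73 (.split 5 (-140) (.lin 1) (.split 3 61
    (.split 4 (-72) (.lin 7) (.splitN 23763 (.split 5 (-131) (.div 5) (.split 6 64 (.split 0 45
    (.split 2 106 (.split 2 38 (.wt 2) (.split 5 (-58) (.split 6 28 (.lin 1) (.split 5 (-67)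
    (.splitN 23082 (.wt 1) (.wt 1)) (.lin 1))) (.lin 9))) (.lin 2)) (.lin 3)) (.lin 1))) (.wt
    1))) (.lin 3))) (.lin 1))) (.wt 0)) (.lin 1))) (.split 6 91 (.split 3 88 (.split 4 (-99)
    (.lin 7) (.splitN 32100 (.wt 1) (.split 3 18 (.wt 0) (.split 6 23 (.lin 3) (.split 5 (-58)
    (.split 4 (-35) (.splitN 35185 (.wt 1) (.split 2 43 (.wt 0) (.split 5 (-67) (.split 6 28
    (.lin 1) (.split 5 (-76) (.split 4 (-44) (.split 3 26 (.wt 0) (.splitN 36913 (.wt 1) (.split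
    2 60 (.wt 0) (.split 5 (-85) (.split 6 37 (.lin 1) (.split 4 (-53) (.splitN 42577 (.split 2
    62 (.wt 0) (.split 3 37 (.wt 0) (.split 5 (-103) (.split 6 46 (.lin 1) (.split 5 (-112)
    (.split 2 135 (.split 3 69 (.split 2 80 (.wt 0) (.split 5 (-121) (.split 6 55 (.lin 1)
    (.split 4 (-71) (.split 3 58 (.split 5 (-176) (.lin 9) (.split 6 82 (.split 5 (-167) (.lin 1)
    (.split 2 95 (.wt 0) (.split 0 22 (.lin 0) (.split 2 120 (.split 5 (-158) (.lin 9) (.split 6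
    73 (.split 3 44 (.wt 0) (.split 0 31 (.split 2 105 (.lin 0) (.split 6 68 (.lin 2) (.split 5
    (-148) (.split 4 (-80) .sq (.lin 4)) (.lin 1)))) (.lin 0))) (.lin 1))) (.wt 1))))) (.lin 1)))
    (.wt 0)) (.lin 7))) (.lin 9))) (.wt 1)) (.wt 0)) (.lin 1))) (.lin 9)))) (.wt 1)) (.lin 7)))
    (.lin 9))))) (.lin 7)) (.lin 1))) (.lin 9)))) (.lin 7)) (.lin 1)))))) (.lin 3)) (.lin 1)))
    (.lin 3)) (.lin 1))) (.wt 3)) (.lin 4)) (.lin 3))) (.splitN 32294 (.wt 1) (.split 2 48 (.wt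
    2) (.split 5 (-40) (.split 3 16 (.wt 0) (.split 4 (-35) (.split 5 (-45) (.split 2 56 (.wt 2)
    (.splitN 48619 (.split 2 203 (.split 0 85 (.split 4 (-189) (.lin 10) (.split 5 (-201) .sq
    (.split 6 87 (.split 3 66 (.split 1 136 (.split 4 (-144) (.lin 11) (.splitN 45941 (.split 2
    72 (.wt 2) (.split 5 (-58) (.split 3 43 (.split 2 93 (.wt 2) (.split 0 26 (.lin 0) (.split 4
    (-53) (.split 5 (-67) (.splitN 36615 (.wt 1) (.split 3 28 (.wt 0) (.split 5 (-72) (.split 2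
    102 (.wt 2) (.split 0 31 (.lin 0) (.split 4 (-71) (.splitN 42753 (.split 3 41 (.split 2 125
    (.wt 0) (.split 0 49 (.lin 0) (.split 2 141 (.lin 0) (.split 5 (-94) (.split 4 (-89) .sq
    (.lin 11)) (.lin 6))))) (.wt 3)) (.wt 1)) (.lin 11)))) (.lin 12)))) (.lin 12)) (.lin 11))))
    (.split 4 (-62) (.split 5 (-72) (.splitN 39993 (.wt 3) (.split 2 86 (.wt 0) (.split 0 13
    (.lin 0) (.split 4 (-71) (.split 2 146 (.split 2 88 (.wt 0) (.split 1 25 (.wt 1) (.split 5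
    (-176) (.lin 9) (.split 6 73 (.split 5 (-171) (.lin 12) (.split 2 131 (.split 5 (-158) (.lin
    9) (.split 6 64 (.split 5 (-153) (.lin 12) (.split 1 30 (.wt 1) (.split 6 55 (.split 5 (-144)
    (.lin 12) (.split 2 112 (.split 5 (-131) (.lin 9) (.split 6 46 (.split 5 (-126) (.lin 12)
    (.split 1 37 (.wt 1) (.split 6 37 (.split 5 (-117) (.lin 12) (.split 3 53 (.wt 3) (.split 0
    22 (.split 2 97 (.split 4 (-81) (.lin 10) (.wt 0)) (.lin 0)) (.lin 0)))) (.lin 1)))) (.lin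
    1))) (.wt 2))) (.lin 1)))) (.lin 1))) (.wt 0))) (.lin 1))))) (.wt 0)) (.lin 11))))) (.lin
    12)) (.lin 11))) (.lin 12))) (.wt 3))) (.lin 3)) (.split 2 87 (.lin 0) (.split 4 (-80)
    (.splitN 41816 (.wt 0) (.split 2 177 (.split 3 151 (.split 1 154 (.split 4 (-162) (.lin 10)
    (.splitN 46079 (.split 1 60 (.split 6 23 (.lin 3) (.split 5 (-103) (.split 4 (-144) (.lin 7)
    (.split 2 100 (.split 0 13 (.split 6 69 (.split 5 (-158) (.lin 5) (.split 4 (-90) (.lin 10)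
    (.split 1 41 (.split 6 41 (.lin 2) (.split 5 (-121) (.split 1 31 (.split 2 94 (.split 3 70
    (.wt 0) (.lin 0)) (.wt 2)) (.wt 1)) (.lin 4))) (.wt 0)))) (.lin 2)) (.lin 0)) (.wt 0))) (.lin
    4))) (.wt 0)) (.wt 1))) (.lin 2)) (.lin 0)) (.wt 0))) (.lin 11)))) (.lin 1)))) (.lin 0)) .sq)
    (.wt 1))) (.lin 12)) (.lin 11))) (.lin 12)))))

def cert4_0_13 : Cert :=
  (.split 2 9 (.wt 2) (.split 1 (-1) (.split 5 (-31) (.split 6 19 (.lin 1) (.split 5 (-36)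
    (.split 2 29 (.wt 2) (.split 5 (-49) (.split 6 28 (.lin 1) (.split 5 (-54) (.split 3 9 (.wt
    2) (.split 4 (-1) (.splitN 90563 (.split 5 (-491) (.div 5) (.split 0 441 (.split 2 682
    (.split 0 333 (.split 2 574 (.split 2 466 (.split 3 448 (.splitN 80508 (.split 5 (-437) (.div
    5) (.split 2 412 (.splitN 72894 (.split 5 (-401) (.div 5) (.split 3 358 (.splitN 68250
    (.split 2 59 (.wt 2) (.split 5 (-85) (.split 2 66 (.wt 2) (.split 3 23 (.wt 2) (.split 5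
    (-103) (.split 6 55 (.lin 1) (.split 5 (-108) (.splitN 38633 (.wt 1) (.split 3 25 (.wt 4)
    (.split 2 219 (.split 0 90 (.split 3 210 (.split 2 71 (.wt 2) (.split 5 (-121) (.split 6 64
    (.lin 1) (.split 5 (-126) (.split 5 (-231) .sq (.split 2 200 (.split 0 81 (.split 3 142
    (.splitN 61938 (.split 5 (-217) .sq (.split 2 182 (.split 0 72 (.split 2 173 (.split 0 67
    (.split 2 164 (.split 3 124 (.split 2 79 (.wt 2) (.split 4 (-26) (.splitN 54423 (.split 3 35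
    (.wt 2) (.split 0 58 (.split 5 (-139) (.split 6 73 (.lin 1) (.split 4 (-35) (.split 5 (-144)
    (.split 2 146 (.split 0 49 (.split 4 (-44) (.split 5 (-187) .sq (.split 0 (-1) (.lin 8)
    (.split 2 133 (.split 3 88 (.split 4 (-53) (.splitN 52348 (.split 2 90 (.wt 2) (.split 3 44
    (.wt 2) (.split 0 40 (.split 5 (-157) (.split 6 82 (.lin 1) (.split 4 (-62) (.split 5 (-162)
    .sq (.lin 12)) (.lin 10))) (.lin 9)) (.lin 0)))) (.wt 1)) (.lin 11)) (.lin 9)) (.lin 8))))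
    (.lin 10)) (.lin 0)) .sq) (.lin 12)) (.lin 10))) (.lin 9)) (.lin 0))) (.wt 1)) (.lin 10)))
    (.lin 9)) (.lin 8)) (.lin 0)) (.lin 8)) (.lin 0)) (.lin 8))) (.wt 1)) (.lin 9)) (.lin 0))
    (.lin 8))) (.lin 12))) (.lin 9))) .sq) (.lin 0)) .sq))) (.lin 12))) (.lin 9)))) (.lin 9)))
    (.wt 3)) (.lin 9))) (.wt 1)) (.lin 9))) (.wt 0)) (.lin 9)) (.lin 9)) (.lin 8)) (.lin 0))
    (.lin 8)) (.lin 6))) (.wt 0)) (.split 0 35 (.lin 10) (.lin 11)))) (.lin 12))) (.lin 9)))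
    (.lin 12))) (.lin 9)) (.split 4 (-1) (.splitN 172800 (.split 1 958 (.split 2 4790 (.split 3
    1916 (.split 5 (-6701) (.lin 9) (.split 6 3349 (.split 4 (-4302) (.lin 7) (.split 4 (-959)
    (.div 4) (.split 5 (-4298) (.lin 4) (.split 0 945 (.split 6 2148 (.split 5 (-3101) (.lin 4)
    (.split 6 1549 (.split 2 3445 (.split 2 1897 (.splitN 162986 (.split 1 904 (.split 5 (-905)
    (.div 5) (.splitN 79544 (.split 1 436 (.split 3 1321 (.split 3 872 (.split 4 (-437) (.div 4)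
    (.split 0 423 (.split 2 853 (.split 5 (-437) (.div 5) (.splitN 61009 (.split 1 328 (.split 3
    745 (.split 4 (-329) (.div 4) (.split 5 (-329) (.div 5) (.split 0 242 (.split 2 560 (.split 1
    242 (.split 6 (-116) (.lin 1) (.split 2 515 (.split 2 242 (.splitN 58484 (.split 3 235
    (.split 4 (-236) .sq (.split 5 (-236) .sq (.split 0 (-1) (.split 3 33 (.lin 0) (.split 4
    (-26) (.splitN 51962 (.split 1 217 (.split 6 (-107) (.lin 1) (.split 3 219 (.split 4 (-207)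
    (.lin 11) (.split 5 (-218) .sq cert4_0_10)) .sq)) .sq) (.wt 3)) (.lin 10))) (.split 2 24
    (.lin 0) (.split 4 (-17) (.splitN 53248 (.split 2 228 (.split 4 (-216) (.lin 10) (.split 6
    (-1) (.split 1 9 (.lin 1) (.split 1 18 (.lin 7) cert4_0_11)) (.split 1 217 (.split 5 (-13)
    (.split 5 (-22) (.split 2 26 (.wt 2) (.split 5 (-27) (.split 3 9 (.wt 2) (.split 4 (-26)
    (.splitN 51760 (.split 5 (-218) .sq (.split 6 105 cert4_0_12 (.lin 1))) (.wt 3)) (.lin 11)))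
    (.lin 12))) (.lin 4)) (.lin 1)) (.lin 1)))) .sq) (.wt 3)) (.lin 11)))))) .sq) (.wt 3)) .sq)
    (.lin 8))) .sq) (.lin 8)) .sq))) (.lin 9)) (.div 1)) (.wt 3))) (.lin 10)) (.lin 11))) (.div
    3)) (.lin 9)) (.div 1)) (.wt 1))) (.div 1)) (.wt 0)) (.lin 10)) (.lin 2)) (.lin 1))) (.lin
    1)) (.lin 11))))) (.lin 1))) (.div 3)) (.div 2)) (.div 1)) (.wt 0)) (.split 6 5 (.lin 4)
    (.lin 7)))))

def cert4_0 : Cert :=
  (.split 2 (-1) cert4_0_3 (.split 3 (-1) (.split 0 4 (.lin 0) cert4_0_9) (.split 5 (-1)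
    cert4_0_13 (.split 1 18 (.lin 9) (.split 2 35 (.wt 2) (.split 1 54 (.lin 9) (.split 3 10 (.wt
    2) (.split 5 7 (.wt 2) (.split 1 72 (.lin 9) (.split 6 (-44) (.split 4 (-1) (.splitN 74057
    (.split 1 400 (.split 0 333 (.split 0 (-149) (.lin 8) (.split 2 682 (.split 3 493 (.split 6
    (-526) (.lin 3) (.split 5 518 (.split 4 (-351) (.lin 7) (.split 2 524 (.split 0 252 (.split 2
    443 (.split 0 211 (.split 2 398 (.split 2 367 (.split 0 175 (.split 3 340 (.splitN 64890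
    (.split 1 346 (.split 2 335 (.split 0 157 (.split 2 317 (.split 0 148 (.split 3 286 (.split 5
    284 (.splitN 36870 (.wt 1) (.splitN 60260 (.split 1 328 (.split 2 299 (.split 5 266 (.split 3
    23 (.wt 0) (.splitN 39908 (.wt 1) (.split 3 28 (.wt 0) (.split 0 130 (.split 2 281 (.split 0
    121 (.split 2 87 (.wt 2) (.split 1 135 (.lin 9) (.split 6 (-75) (.split 4 (-252) (.lin 7)
    (.split 3 223 (.split 5 203 (.split 2 91 (.wt 2) (.split 3 36 (.wt 2) (.split 5 185 (.split 5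
    27 (.wt 2) (.split 1 171 (.lin 9) (.split 6 (-102) (.split 2 263 (.split 3 196 (.splitN 52335
    .sq (.splitN 58817 (.split 1 310 (.split 3 178 (.split 2 97 (.wt 0) (.split 6 (-107) .sq
    (.lin 12))) (.lin 9)) (.div 1)) (.wt 3))) (.lin 9)) (.lin 8)) (.lin 1)))) (.lin 9)))) (.lin
    9)) (.lin 9))) (.lin 1)))) (.lin 0)) (.lin 8)) (.lin 0))))) (.lin 9)) (.lin 8)) (.div 1))
    (.wt 5))) (.lin 9)) (.lin 9)) (.lin 0)) (.lin 8)) (.lin 0)) (.lin 8)) (.div 1)) (.wt 0))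
    (.lin 9)) (.lin 0)) (.lin 9)) (.lin 8)) (.lin 0)) (.lin 8)) (.lin 0)) (.lin 8))) (.lin 4)))
    (.lin 3)) (.lin 2))) (.lin 3)) (.div 1)) (.wt 0)) (.split 0 44 (.lin 10) (.lin 11))) (.lin
    1)))))))))))

theorem check4_0 :
    check task4 cert4_0
      [(0, ⟨none, none⟩), (1, ⟨none, none⟩), (7, ⟨none, none⟩), (7, ⟨none, none⟩), (1, ⟨none, none⟩), (5, ⟨none, none⟩), (6, ⟨none, none⟩)] ⟨some (720), none⟩ = true := by
  decide +kernel

end Cfsg.Agent.EightLocal
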