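import Cfsg.Agent.Lib.EightLocal.Task5

/-!
# Search trees of family 5, part 1
-/

set_option autoImplicit false
set_option maxRecDepth 20000
set_option Elab.async false

namespace Cfsg.Agent.EightLocal

open Cfsg.Agent.SelfNine

def cert5_27_0 : Cert :=
  (.split 3 29 (.split 4 177 (.lin 6) (.splitN 2240508 (.split 0 62210 (.split 2 62308 (.split 1
    (-62256) (.lin 2) (.split 4 124315 (.split 2 12442 (.split 0 12364 (.split 1 (-12387) (.lin
    2) (.split 6 (-12440) (.lin 7) (.split 4 12418 (.splitN 2005508 (.split 2 11128 (.split 0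
    11050 (.split 6 (-11126) (.lin 7) (.split 4 11104 (.splitN 444165 (.wt 1) (.splitN 1445998
    (.split 2 8032 (.split 0 7954 (.split 6 (-8030) (.lin 7) (.split 4 8008 (.split 0 216 (.wt 0)
    (.split 2 297 (.lin 1) (.split 1 (-245) (.split 6 (-271) (.splitN 850829 (.split 2 4720
    (.split 0 4642 (.split 6 (-4718) (.lin 7) (.split 4 4696 (.wt 2) (.lin 6))) (.lin 1)) (.div
    2)) (.wt 0)) (.lin 7)) (.lin 2)))) (.lin 6))) (.lin 1)) (.div 2)) (.wt 5))) (.lin 6))) (.lin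
    1)) (.div 2)) (.wt 0)) (.lin 6)))) (.lin 1)) (.div 2)) (.lin 0))) (.lin 1)) (.div 0)) (.wt
    0))) (.split 6 (-460) (.split 4 402 (.lin 6) (.split 0 375 (.lin 7) (.split 2 486 (.lin 9)
    (.split 1 (-425) (.splitN 935648 .sq (.split 5 36 (.split 6 (-928) (.split 4 888 (.lin 6)
    (.split 0 861 (.lin 7) (.split 1 (-884) (.split 2 954 (.lin 9) (.splitN 4090499 .sq (.split 5
    23 (.wt 1) (.splitN 13625713 (.split 1 (-151389) (.div 1) (.split 2 151444 (.split 2 75694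
    (.split 0 75598 (.split 6 (-75665) (.lin 7) (.split 4 75625 (.splitN 12582524 (.split 2 69898
    (.split 0 69802 (.split 6 (-69869) (.lin 7) (.split 4 69829 (.split 6 (-2082) (.split 4 2049
    (.lin 6) (.split 2 2115 (.lin 9) .sq)) (.wt 1)) (.lin 6))) (.lin 1)) (.div 2)) (.wt 1)) (.lin
    6))) (.lin 1)) (.div 2)) (.lin 2))) (.wt 1))))) (.lin 8)))) (.split 4 889 (.split 0 862
    (.split 1 (-894) (.lin 8) (.split 2 946 (.split 5 27 (.split 4 429 (.lin 6) (.splitN 74975206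
    (.wt 1) (.split 0 475 (.wt 0) (.split 6 (-541) (.split 4 510 (.lin 6) (.wt 1)) (.lin 7)))))
    (.split 0 600 (.split 2 685 (.split 1 (-624) (.lin 2) (.split 6 (-659) (.lin 7) (.split 4 619
    (.splitN 1956690 (.split 0 466 (.split 2 559 (.split 1 (-498) (.lin 2) (.split 6 (-533) (.lin
    7) (.wt 0))) (.lin 1)) (.wt 0)) (.wt 1)) (.lin 6)))) (.lin 1)) (.wt 2))) (.lin 9))) (.lin 7))
    (.lin 6))) (.splitN 2467362 (.split 0 68510 (.split 2 68617 (.split 2 13702 (.split 0 13597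
    (.split 6 (-13682) (.lin 7) (.split 4 13633 (.splitN 2277337 (.split 2 12640 (.split 0 12535
    (.split 6 (-12620) (.lin 7) (.split 4 12571 (.split 6 (-540) (.split 4 483 (.lin 6) (.split 0
    456 (.lin 7) (.split 1 (-497) (.split 2 567 (.lin 9) (.splitN 1908448 (.split 2 10588 (.split
    0 10483 (.split 1 (-10524) (.lin 2) (.split 6 (-10568) (.lin 7) (.split 0 4658 (.split 2 4762
    (.split 1 (-4701) (.lin 2) (.split 6 (-4736) (.lin 7) (.split 4 4687 (.splitN 1708796 (.split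
    0 1676 (.split 6 (-1757) (.lin 7) (.wt 2)) (.wt 0)) (.wt 1)) (.lin 6)))) (.lin 1)) (.wt 0))))
    (.lin 1)) (.div 2)) (.wt 1))) (.lin 8)))) (.wt 1)) (.lin 6))) (.lin 1)) (.div 2)) (.wt 1))
    (.lin 6))) (.lin 1)) (.div 2)) (.lin 1)) (.div 0)) (.wt 1)))) (.lin 11))))) (.split 4 421
    (.split 0 394 (.split 1 (-444) (.lin 8) (.split 2 478 (.split 5 36 (.split 0 159 (.lin 1)
    (.split 4 186 (.lin 6) (.split 6 (-339) (.split 4 303 (.lin 6) (.split 0 276 (.lin 7) (.split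
    1 (-299) (.split 2 369 (.lin 9) (.split 5 31 (.splitN 22268041 (.wt 6) (.split 0 341 (.wt 0)
    (.split 6 (-406) (.wt 0) (.lin 7)))) (.wt 2))) (.lin 8)))) (.split 4 304 (.split 0 277
    (.split 1 (-309) (.lin 8) (.split 5 27 (.split 0 180 (.wt 2) (.split 2 270 (.lin 1) (.split 1
    (-209) (.split 6 (-244) (.split 0 206 (.wt 2) (.split 2 297 (.lin 1) (.split 1 (-236) (.split
    6 (-271) (.split 4 240 (.lin 6) (.splitN 3571091 (.wt 1) (.split 0 252 (.wt 2) (.split 2 342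
    (.lin 1) (.split 1 (-281) (.split 6 (-316) (.wt 0) (.lin 7)) (.lin 2)))))) (.lin 7)) (.lin
    2)))) (.lin 7)) (.lin 2)))) (.split 0 212 (.split 2 298 (.split 1 (-237) (.lin 2) (.split 6
    (-272) (.lin 7) (.splitN 955963 (.split 0 164 (.split 2 253 (.split 1 (-192) (.lin 2) (.split
    6 (-227) (.lin 0) (.wt 0))) (.lin 1)) (.wt 0)) (.wt 6)))) (.lin 1)) (.wt 2)))) (.lin 7))
    (.lin 6))))) (.split 0 219 (.split 2 325 (.split 1 (-264) (.lin 2) (.split 6 (-299) (.lin 7)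
    (.splitN 677310 (.split 0 149 (.split 2 253 (.split 1 (-192) (.lin 2) (.split 6 (-236) (.lin
    0) (.split 5 49 (.lin 1) (.wt 0)))) (.lin 1)) (.wt 0)) (.wt 6)))) (.lin 1)) (.wt 2))) (.lin
    9))) (.lin 7)) (.lin 6))))

def cert5_27_1 : Cert :=
  (.split 0 130 (.split 5 67 (.lin 4) (.split 4 160 (.splitN 648969 (.split 7 (-36) (.wt 0)
    (.split 4 151 (.split 0 66 (.wt 2) (.split 4 96 (.lin 12) (.split 3 26 (.wt 2) (.split 1
    (-717) .sq (.split 2 775 (.split 5 644 (.splitN 223997 (.wt 1) (.splitN 613250 (.split 2 710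
    (.split 6 (-677) (.lin 9) (.split 0 97 (.split 5 94 (.lin 1) (.split 4 124 (.splitN 420472
    .cand (.wt 3)) (.lin 12))) (.split 4 132 (.lin 12) (.split 6 (-239) (.split 5 85 (.lin 6)
    (.split 6 (-267) (.split 5 112 (.lin 6) (.split 6 (-298) (.split 5 139 (.lin 6) (.split 6
    (-321) (.split 5 166 (.lin 6) (.split 2 351 (.lin 9) (.split 1 (-290) (.splitN 372383 .sq
    (.splitN 430695 (.split 6 (-401) (.split 2 414 (.lin 3) (.split 1 (-371) (.split 5 247 (.lin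
    4) .sq) (.lin 11))) (.wt 1)) (.wt 1))) (.lin 11)))) (.wt 2))) (.wt 2))) (.wt 2))) (.wt 2)))))
    .sq) (.wt 3))) (.lin 1)) (.lin 2)))))) (.lin 12))) (.wt 3)) (.lin 12))) (.split 4 159 (.lin
    12) (.splitN 196793 .sq (.split 7 (-33) (.splitN 408629 (.split 2 2254 (.split 0 2167 (.split
    1 (-2190) (.lin 2) (.split 4 2203 (.splitN 241806 (.split 2 1336 (.split 1 (-1272) (.lin 2)
    (.split 5 1139 (.split 4 1285 (.split 0 162 (.wt 0) (.split 4 204 (.lin 12) (.splitN 224675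
    .sq (.split 0 223 (.wt 0) (.split 2 315 (.lin 1) (.split 6 (-280) (.split 4 267 (.lin 12)
    .sq) (.lin 7))))))) (.lin 8)) (.lin 1))) (.div 2)) (.wt 3)) (.lin 8))) (.lin 1)) (.div 2))
    (.wt 0)) (.split 5 54 (.split 0 141 (.lin 1) (.split 4 168 (.lin 6) cert5_27_0)) (.split 3 29
    (.splitN 1216014 (.split 1 (-13509) (.div 1) (.split 2 13555 (.split 2 6754 (.split 0 6640
    (.split 1 (-6699) (.lin 2) (.split 5 6566 (.split 4 6667 (.splitN 1136865 (.split 2 6304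
    (.split 1 (-6249) (.lin 2) (.split 5 6116 (.split 4 6217 (.split 0 156 (.wt 2) (.split 2 270
    (.lin 1) (.split 1 (-218) (.split 6 (-244) (.splitN 953378 (.split 2 5296 (.split 0 5182
    (.split 1 (-5241) (.lin 2) (.split 5 5081 (.split 4 5209 (.split 0 179 (.wt 2) (.split 2 297
    (.lin 1) (.split 1 (-245) (.split 6 (-271) (.splitN 825156 (.split 2 4576 (.split 0 4462
    (.split 1 (-4521) (.lin 2) (.split 5 4334 (.split 4 4489 (.split 0 213 (.wt 2) (.split 2 324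
    (.lin 1) (.split 1 (-272) (.split 6 (-298) (.splitN 743054 (.split 2 4126 (.split 0 4012
    (.split 1 (-4071) (.lin 2) (.split 4 4039 (.split 0 252 (.wt 2) (.split 2 369 (.lin 1)
    (.split 1 (-317) (.split 6 (-343) (.split 4 285 (.lin 12) (.splitN 508805 .sq (.splitN 660502
    (.split 2 3658 (.split 0 3544 (.split 1 (-3603) (.lin 2) (.split 5 3344 (.split 4 3571
    (.splitN 615241 (.split 0 489 (.wt 0) (.split 6 (-577) (.split 4 519 (.lin 12) .sq) (.lin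
    7))) (.wt 5)) (.lin 8)) (.lin 1))) (.lin 1)) (.div 2)) (.wt 3)))) (.lin 7)) (.lin 2)))) (.lin
    8))) (.lin 1)) (.div 2)) (.wt 3)) (.lin 7)) (.lin 2)))) (.lin 8)) (.lin 1))) (.lin 1)) (.div
    2)) (.wt 3)) (.lin 7)) (.lin 2)))) (.lin 8)) (.lin 1))) (.lin 1)) (.div 2)) (.wt 3)) (.lin
    7)) (.lin 2)))) (.lin 8)) (.lin 1))) (.div 2)) (.wt 3)) (.lin 8)) (.lin 1))) (.lin 1)) (.div
    2)) (.lin 2))) (.wt 3)) (.splitN 3681519 (.split 1 (-40905) (.div 1) (.split 2 40960 (.split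
    2 20452 (.split 1 (-20388) (.lin 2) (.split 4 20356 (.split 6 (-20423) (.lin 9) (.splitN
    3398261 (.split 2 18868 (.split 6 (-18839) (.lin 9) (.split 0 564 (.split 4 583 (.splitN
    2258514 (.split 2 12532 (.split 6 (-12926) (.lin 3) (.split 6 (-292) (.split 2 324 (.lin 9)
    (.split 1 (-263) (.splitN 1729251 (.split 1 (-1219) .sq (.split 2 1279 (.split 6 (-1253)
    (.lin 9) (.split 0 303 (.split 4 322 (.splitN 1030066 (.split 1 (-886) .sq (.split 2 946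
    (.split 6 (-920) (.lin 9) (.split 0 256 (.split 4 277 (.split 5 538 (.split 2 847 (.split 1
    (-786) (.lin 2) (.split 6 (-821) (.lin 6) (.split 0 239 (.split 4 259 (.split 5 334 (.split 2
    622 (.split 1 (-561) (.lin 2) (.split 6 (-596) (.lin 6) (.split 0 195 (.split 2 577 (.split 1
    (-516) (.lin 2) (.split 5 76 (.lin 1) (.split 6 (-551) (.lin 7) (.split 4 214 (.splitN 386038
    (.wt 5) (.split 5 223 (.split 2 469 (.split 1 (-408) (.lin 2) (.split 6 (-443) (.lin 6)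
    (.splitN 498878 (.split 0 152 (.split 2 433 (.split 1 (-372) (.lin 2) (.split 5 112 (.lin 1)
    (.split 6 (-407) (.lin 7) (.splitN 475125 (.wt 0) (.wt 1))))) (.lin 1)) (.wt 0)) (.wt 1))))
    (.lin 1)) (.wt 1))) (.lin 12))))) (.lin 1)) (.wt 2)))) (.lin 1)) (.wt 2)) (.lin 12)) (.wt
    2)))) (.lin 1)) (.wt 2)) (.lin 12)) (.wt 2))) (.lin 2))) (.wt 1)) (.lin 12)) (.wt 2))) (.lin
    2))) (.wt 1)) (.lin 11))) (.wt 2))) (.div 2)) (.wt 1)) (.lin 12)) (.wt 2))) (.div 2)) (.wt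
    1))) (.lin 8))) (.div 2)) (.lin 2))) (.wt 1))))))))

def cert5_27_2 : Cert :=
  (.split 3 29 (.split 0 73 (.wt 2) (.split 2 153 (.lin 1) (.split 1 (-101) (.split 5 113 (.split
    6 (-127) (.split 4 105 (.lin 12) (.splitN 748863 (.split 5 26 (.wt 1) (.split 2 162 (.lin 1)
    (.split 1 (-110) (.split 0 160 (.split 4 187 (.split 6 (-136) (.splitN 284132 (.wt 1) (.split
    0 86 (.wt 0) (.split 2 171 (.lin 1) (.split 1 (-119) (.split 5 104 (.split 6 (-145) (.split 4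
    114 (.lin 12) (.splitN 310676 (.wt 1) (.split 0 103 (.wt 0) (.split 5 86 (.split 6 (-163)
    (.wt 2) (.lin 7)) (.lin 4))))) (.lin 7)) (.lin 4)) (.lin 2))))) (.lin 6)) (.lin 6)) (.lin 4))
    (.lin 2)))) (.wt 5))) (.lin 7)) (.lin 4)) (.lin 2)))) (.split 0 160 (.split 4 187 (.split 5
    122 (.split 6 (-118) (.split 5 52 (.split 0 110 (.split 2 217 (.split 1 (-156) (.lin 2)
    (.split 6 (-191) (.lin 7) (.split 4 160 (.split 4 133 (.split 0 83 (.split 2 190 (.split 1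
    (-129) (.lin 2) (.split 6 (-164) (.lin 7) (.split 4 106 (.split 5 36 (.split 2 172 (.split 1
    (-111) (.lin 2) (.split 0 63 (.wt 2) (.split 2 153 (.lin 1) (.split 1 (-92) (.split 6 (-127)
    (.split 4 96 (.lin 12) (.splitN 896132 (.split 5 23 (.wt 1) (.split 6 (-136) (.splitN 574002
    (.wt 1) (.split 0 73 (.wt 0) (.split 2 171 (.lin 1) (.split 1 (-110) (.split 6 (-145) (.wt 0)
    (.lin 0)) (.lin 2))))) (.lin 6))) (.wt 5))) (.lin 7)) (.lin 2))))) (.lin 1)) (.split 2 162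
    (.lin 1) (.split 1 (-101) (.split 6 (-136) (.split 0 62 (.wt 2) (.split 2 171 (.lin 1)
    (.split 1 (-110) (.split 6 (-145) (.split 4 96 (.lin 12) (.split 0 74 (.split 1 (-120) (.lin
    4) (.split 4 97 (.splitN 408600 (.wt 1) (.split 1 (-117) (.wt 0) (.split 2 172 (.split 5 41
    (.wt 0) (.lin 0)) (.lin 2)))) (.lin 12))) (.split 1 (-119) (.split 6 (-154) (.split 4 105
    (.lin 12) (.splitN 501050 (.split 5 47 (.split 1 (-120) (.lin 4) (.split 6 (-155) (.lin 6)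
    (.wt 0))) (.wt 2)) (.wt 3))) (.lin 7)) (.lin 4)))) (.lin 7)) (.lin 2)))) (.lin 6)) (.lin
    2)))) (.lin 12)))) (.lin 1)) (.split 2 171 (.lin 1) (.split 1 (-110) (.split 6 (-145) (.split
    4 114 (.lin 12) (.split 5 36 (.split 2 199 (.split 1 (-138) (.lin 2) (.split 6 (-173) (.lin
    6) (.split 5 27 (.split 1 (-129) (.lin 4) (.splitN 1217162 (.wt 1) (.split 0 96 (.wt 0)
    (.split 1 (-119) (.split 6 (-154) (.wt 0) (.lin 7)) (.lin 4))))) (.split 1 (-119) (.split 6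
    (-154) (.split 0 102 (.split 6 (-164) (.lin 7) (.split 0 95 (.split 2 181 (.split 1 (-120)
    (.lin 2) (.split 4 115 (.split 6 (-155) (.lin 0) (.splitN 657360 (.wt 0) (.wt 0))) (.lin 0)))
    (.lin 1)) (.wt 2))) (.wt 2)) (.lin 6)) (.lin 4))))) (.lin 1)) (.split 0 98 (.split 1 (-147)
    (.lin 4) (.split 0 96 (.split 2 199 (.split 1 (-138) (.lin 2) (.split 6 (-173) (.lin 3) (.wt
    2))) (.lin 1)) (.wt 2))) (.wt 2)))) (.lin 7)) (.lin 2)))) (.lin 12)) (.lin 6)))) (.lin 1))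
    (.split 2 198 (.lin 1) (.split 1 (-137) (.split 6 (-172) (.split 4 141 (.lin 12) (.split 5 37
    (.split 5 27 (.split 0 125 (.wt 2) (.split 2 216 (.lin 1) (.split 1 (-155) (.split 6 (-190)
    (.split 4 159 (.lin 6) (.splitN 1720006 (.wt 1) (.split 0 135 (.wt 0) (.split 1 (-164)
    (.split 4 168 (.lin 8) (.splitN 1811429 (.wt 1) (.split 0 150 (.wt 2) (.split 2 234 (.lin 1)
    (.split 1 (-173) (.split 6 (-208) (.wt 0) (.lin 7)) (.lin 2)))))) (.lin 4))))) (.lin 7))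
    (.lin 2)))) (.split 1 (-146) (.split 0 132 (.split 2 217 (.split 1 (-156) (.lin 2) (.split 6
    (-200) (.lin 0) (.split 4 151 (.splitN 835697 (.split 0 117 (.split 6 (-182) (.lin 7) (.wt
    0)) (.wt 0)) (.wt 1)) (.lin 8)))) (.lin 1)) (.wt 2)) (.lin 4))) (.wt 2))) (.lin 7)) (.lin
    2)))) (.split 1 (-119) (.split 6 (-154) (.split 0 103 (.split 4 124 (.split 0 79 (.split 4
    106 (.splitN 474584 (.split 0 70 (.split 4 97 (.split 5 59 (.wt 2) (.split 6 (-163) (.split 0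
    63 (.wt 2) (.split 2 198 (.lin 1) (.split 1 (-137) (.split 6 (-172) (.split 5 113 (.split 4
    96 (.lin 12) (.splitN 302043 (.wt 1) (.split 1 (-169) (.wt 0) (.split 2 226 (.split 5 95 (.wt
    2) (.lin 1)) (.lin 2))))) (.lin 7)) (.lin 3)) (.lin 2)))) (.lin 6))) (.lin 12)) (.split 2 198
    (.lin 1) (.split 5 104 (.split 4 105 (.lin 12) (.splitN 321674 (.wt 3) .cand)) (.lin 7))))
    (.wt 3)) (.lin 12)) (.split 2 207 (.lin 1) (.split 1 (-146) (.split 4 114 (.lin 12) (.split 0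
    95 (.split 5 75 (.split 2 217 (.split 1 (-156) (.lin 2) (.split 6 (-200) (.lin 0) (.splitN
    439378 (.wt 0) (.wt 1)))) (.lin 1)) (.wt 2)) (.wt 2))) (.lin 2)))) (.lin 12)) (.wt 2)) (.lin
    6)) (.lin 8))) (.lin 6)) (.lin 6)) (.lin 6)) (.lin 7)))

def cert5_27_3 : Cert :=
  (.split 7 (-64) (.splitN 570332 (.split 1 (-6309) (.div 1) (.split 5 6278 (.split 2 3154
    (.split 4 3112 (.splitN 147407 (.split 2 814 (.split 0 709 (.split 5 707 (.split 4 772
    (.splitN 139694 (.split 2 760 (.split 0 655 (.split 4 718 (.split 0 35 (.wt 2) (.split 1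
    (-65) (.split 6 (-82) (.splitN 114067 (.split 2 616 (.split 5 491 (.split 4 574 (.split 0 51
    (.wt 2) (.split 2 153 (.lin 1) (.split 1 (-74) (.split 6 (-91) (.split 4 114 (.lin 12)
    (.splitN 58283 .sq (.splitN 106058 (.split 2 580 (.split 5 446 (.split 4 538 (.split 3 17
    (.wt 0) (.split 2 162 (.lin 1) (.split 6 (-100) (.split 0 67 (.wt 2) (.split 2 180 (.lin 1)
    (.split 1 (-92) (.split 6 (-118) (.split 4 132 (.lin 12) (.splitN 82988 .sq (.splitN 96862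
    (.split 2 526 (.split 4 475 (.split 0 116 (.wt 0) (.split 6 (-172) (.split 4 186 (.lin 12)
    .sq) (.lin 7))) (.lin 10)) (.div 2)) (.wt 3)))) (.lin 7)) (.lin 4)))) (.lin 7)))) (.lin 10))
    (.lin 1)) (.div 2)) (.wt 3)))) (.lin 7)) (.lin 4)))) (.lin 10)) (.lin 1)) (.div 2)) (.wt 3))
    (.lin 7)) (.lin 4))) (.lin 10)) (.lin 1)) (.div 2)) (.wt 3)) (.lin 10)) (.lin 1)) (.lin 1))
    (.div 2)) (.wt 3)) (.lin 10)) (.div 2)) (.lin 4))) (.wt 0)) (.splitN 54834 (.wt 1) (.split 0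
    58 (.split 4 106 (.split 0 25 (.wt 2) (.split 2 99 (.lin 1) (.split 1 (-56) (.split 4 60
    (.lin 12) (.split 3 21 (.wt 2) (.split 2 108 (.lin 1) (.split 6 (-82) (.split 6 (-197) (.wt
    2) (.split 2 262 (.split 2 244 (.split 1 (-165) (.lin 11) (.split 5 266 (.split 5 131 (.split
    6 (-163) (.wt 2) (.split 1 (-129) (.lin 11) (.split 5 95 (.split 6 (-153) (.wt 2) (.split 5
    86 (.split 1 (-120) (.lin 11) (.split 0 34 (.wt 2) (.split 1 (-65) (.split 5 77 (.split 6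
    (-91) (.split 4 69 (.lin 12) (.splitN 91214 (.wt 6) (.split 7 (-46) (.wt 0) (.split 2 190
    (.split 4 88 (.split 3 27 (.wt 2) (.split 1 (-111) (.lin 11) (.split 5 68 (.split 6 (-100)
    (.splitN 131067 (.wt 1) (.split 7 (-37) (.wt 0) (.split 2 172 (.split 4 79 (.splitN 510850
    (.split 5 27 (.wt 1) (.split 2 135 (.lin 1) (.split 6 (-109) (.splitN 285997 (.wt 1) (.split
    0 44 (.wt 0) (.split 2 144 (.lin 1) (.split 1 (-83) (.split 5 59 (.split 6 (-118) (.split 4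
    78 (.lin 12) (.splitN 310596 (.wt 1) (.wt 0))) (.lin 3)) (.lin 1)) (.lin 2))))) (.lin 6))))
    (.wt 5)) (.lin 12)) (.lin 2)))) (.lin 7)) (.lin 4)))) (.lin 12)) (.lin 2))))) (.lin 7)) (.lin
    4)) (.lin 4)))) (.lin 7))) (.lin 4)))) (.lin 4)) (.lin 0))) (.lin 9)) (.lin 3))) (.lin 7)))))
    (.lin 4)))) (.lin 12)) (.split 2 126 (.lin 1) (.split 1 (-83) (.split 6 (-100) (.split 4 87
    (.lin 12) (.split 3 16 (.wt 2) (.split 2 135 (.lin 1) (.split 6 (-109) (.split 7 (-42)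
    (.split 2 153 (.lin 1) (.split 4 105 (.lin 12) (.splitN 400032 (.split 0 11090 (.split 1
    (-4437) (.div 1) (.split 2 4519 (.split 5 4388 (.split 2 2218 (.split 0 2122 (.split 1
    (-2145) (.lin 2) (.split 4 2176 (.splitN 355010 (.split 2 1966 (.split 1 (-1893) (.lin 2)
    (.split 4 1924 (.splitN 179444 (.split 0 349 (.split 4 403 (.splitN 157206 (.split 2 345
    (.split 0 250 (.split 1 (-273) (.lin 2) (.split 5 212 (.split 4 304 (.splitN 148183 (.split 0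
    62 (.wt 2) (.split 1 (-92) (.split 6 (-118) (.split 4 114 (.lin 12) (.split 2 320 (.split 0
    223 (.split 1 (-246) (.lin 2) (.split 5 176 (.split 4 277 (.split 0 70 (.wt 2) (.split 5 167
    (.split 6 (-127) (.split 3 25 (.wt 2) (.split 5 158 (.split 6 (-136) (.split 4 259 (.split 0
    86 (.wt 2) (.split 2 189 (.lin 1) (.split 5 149 (.split 1 (-110) (.split 6 (-145) (.split 4
    132 (.lin 12) (.splitN 98459 .sq (.split 0 88 (.wt 0) (.split 1 (-119) (.split 6 (-154)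
    (.split 4 141 (.lin 12) (.splitN 107351 .sq (.splitN 120586 (.split 0 114 (.wt 0) (.split 2
    216 (.lin 1) (.split 6 (-172) (.split 4 159 (.lin 12) .sq) (.lin 7)))) (.wt 5)))) (.lin 7))
    (.lin 4))))) (.lin 7)) (.lin 4)) (.lin 1)))) (.lin 10)) (.lin 7)) (.lin 1))) (.lin 7)) (.lin
    1))) (.lin 8)) (.lin 1))) (.lin 1)) .sq)) (.lin 7)) (.lin 4))) (.wt 3)) (.lin 8)) (.lin 1)))
    (.lin 1)) .sq) (.wt 3)) (.lin 12)) .sq) (.wt 3)) (.lin 8))) (.div 2)) (.wt 0)) (.lin 8)))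
    (.lin 1)) (.div 2)) (.lin 1)) (.lin 2))) (.div 0)) (.wt 0)))) (.split 6 (-226) (.split 2 252
    (.lin 9) (.split 1 (-191) (.splitN 164969 .sq cert5_27_1) (.lin 11))) (.split 4 205 (.split 0
    169 (.split 2 253 (.split 1 (-192) (.lin 11) (.split 5 248 (.split 5 140 (.split 5 131
    (.split 7 (-33) (.split 4 96 (.lin 12) (.splitN 247305 (.split 3 29 (.splitN 121503 (.wt 1)
    (.split 0 93 (.wt 0) (.split 2 180 (.lin 1) (.split 1 (-119) (.split 6 (-145) (.wt 0) (.lin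
    7)) (.lin 2))))) .cand) (.wt 3))) cert5_27_2) (.lin 4)) (.lin 1)) (.lin 0))) (.lin 9)) (.lin
    7)) (.lin 6)))) (.lin 7))))) (.lin 7)) (.lin 4))))))

def cert5_27 : Cert :=
  (.split 5 18 (.split 0 26 (.wt 6) (.split 2 81 (.lin 1) (.split 1 (-38) (.split 6 (-55) (.split
    6 (-2061) (.wt 2) (.split 0 2032 (.split 6 (-1293) (.wt 2) (.split 0 1267 (.split 6 (-1056)
    (.wt 2) (.split 0 1033 (.split 1 (-1038) (.lin 11) (.split 3 16 (.wt 2) (.split 6 (-64)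
    (.split 0 37 (.wt 2) (.split 2 99 (.lin 1) (.split 1 (-47) (.split 6 (-73) (.split 4 69 (.lin
    12) (.splitN 53689 (.wt 1) (.split 0 46 (.wt 2) (.split 2 108 (.lin 1) (.split 1 (-56)
    (.split 6 (-82) (.split 4 78 (.lin 12) (.split 7 (-769) (.wt 0) (.split 2 1846 (.split 4 2797
    (.split 4 1789 (.splitN 57610 (.wt 1) (.split 7 (-362) (.wt 0) (.split 4 1384 (.splitN 59836
    (.wt 1) (.split 7 (-253) (.wt 0) (.split 4 1267 (.split 0 57 (.wt 2) (.split 1 (-65) (.split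
    6 (-91) (.split 7 (-181) (.wt 0) (.split 4 1195 (.split 0 69 (.wt 2) (.split 2 126 (.lin 1)
    (.split 1 (-74) (.split 6 (-100) (.splitN 78818 (.wt 6) (.split 7 (-86) (.wt 0) (.split 4
    1105 (.split 0 83 (.wt 2) (.split 2 144 (.lin 1) (.split 1 (-92) (.split 6 (-118) (.splitN
    124284 (.wt 6) (.split 7 (-52) (.wt 0) (.split 5 5 (.wt 1) (.split 1 (-101) (.split 6 (-127)
    (.split 0 142 (.wt 2) (.split 1 (-164) (.split 6 (-190) (.wt 6) (.lin 7)) (.lin 4))) (.lin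
    7)) (.lin 4))))) (.lin 7)) (.lin 4)))) (.lin 6)))) (.lin 7)) (.lin 4)))) (.lin 6))) (.lin 7))
    (.lin 4))) (.lin 6)))) (.lin 6)))) (.lin 6)) (.lin 0)) (.lin 1)))) (.lin 7)) (.lin 4))))))
    (.lin 7)) (.lin 4)))) (.lin 7)))) (.lin 7))) (.lin 7))) (.lin 7))) (.lin 7)) (.lin 4))))
    (.split 2 90 (.lin 1) (.split 1 (-47) (.split 6 (-64) cert5_27_3 (.lin 7)) (.lin 4))))

theorem check5_27 :
    check task5 cert5_27
      [(7, ⟨some (25), none⟩), (7, ⟨none, some (-29)⟩), (1, ⟨some (73), none⟩), (7, ⟨some (16), some (34)⟩), (7, ⟨some (52), none⟩), (5, ⟨some (5), none⟩), (8, ⟨none, some (-46)⟩), (8, ⟨none, some (-28)⟩)] ⟨some (29880), none⟩ = true := by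
  decide +kernel

def cert5_28_0 : Cert :=
  (.split 0 58 (.split 1 (-66) (.lin 4) (.splitN 1912779 (.split 2 10624 (.split 4 10609 (.split
    3 10528 (.splitN 1759842 (.split 2 9760 (.split 4 9745 (.split 3 9664 (.split 3 44 (.wt 2)
    (.split 6 (-82) (.splitN 1015467 (.split 2 5638 (.split 4 5614 (.split 3 5542 (.split 0 25
    (.wt 2) (.split 1 (-38) (.split 6 (-91) (.split 4 96 (.lin 12) (.splitN 839247 (.split 2 4648
    (.split 4 4615 (.split 3 4543 (.splitN 556675 (.split 2 3082 (.split 4 3049 (.split 3 2977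
    (.splitN 321950 (.split 2 1786 (.split 4 1753 (.split 3 1681 (.split 3 68 (.wt 2) (.split 6
    (-109) (.splitN 268493 (.split 2 1480 (.split 3 1375 (.split 3 87 (.wt 2) (.split 2 189 (.lin
    1) (.split 6 (-127) (.splitN 76103 .sq (.splitN 241320 (.split 2 1336 (.split 4 1267 (.split
    3 1231 (.split 7 (-316) (.wt 0) (.split 4 367 (.splitN 218165 (.split 2 1210 (.split 3 1105
    (.split 7 (-261) (.wt 0) (.split 4 313 (.split 0 36 (.wt 2) (.split 1 (-47) (.split 6 (-136)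
    (.split 4 105 (.lin 12) (.splitN 81755 .sq (.splitN 189904 (.split 2 1048 (.split 3 934
    (.splitN 168628 (.split 2 922 (.split 3 808 (.split 7 (-136) (.wt 0) (.split 4 187 (.splitN
    155803 (.split 2 850 (.split 3 736 (.split 7 (-124) (.wt 0) (.split 4 169 (.split 5 6 (.wt 1)
    (.split 1 (-56) (.split 6 (-145) (.splitN 139117 (.split 2 760 (.split 3 637 (.splitN 101387
    (.wt 6) (.split 3 131 (.wt 0) (.split 2 252 (.lin 1) (.split 6 (-190) .sq (.lin 7))))) (.lin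
    1)) (.div 2)) (.wt 0)) (.lin 7)) (.lin 4))) (.lin 12))) (.lin 1)) (.div 2)) (.wt 5)) (.lin
    8))) (.lin 1)) (.div 2)) (.wt 5)) (.lin 1)) (.div 2)) (.wt 0)))) (.lin 7)) (.lin 4))) (.lin
    8))) (.lin 1)) (.div 2)) (.wt 5)) (.lin 8))) (.lin 1)) (.lin 0)) (.div 2)) (.wt 5))) (.lin
    7)))) (.lin 1)) (.div 2)) (.wt 5)) (.lin 7))) (.lin 1)) (.lin 0)) (.div 2)) (.wt 5)) (.lin
    1)) (.lin 0)) (.div 2)) (.wt 3)) (.lin 1)) (.lin 0)) (.div 2)) (.wt 0))) (.lin 7)) (.lin 4)))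
    (.lin 1)) (.lin 0)) (.div 2)) (.wt 5)) (.lin 7))) (.lin 1)) (.lin 0)) (.div 2)) (.wt 5))
    (.lin 1)) (.lin 0)) (.div 2)) (.wt 5))) (.split 2 171 (.lin 1) (.split 1 (-65) (.split 6
    (-109) (.split 4 114 (.lin 8) (.split 4 123 (.lin 12) (.splitN 2127955 (.split 2 11812
    (.split 0 11698 (.split 3 11680 (.split 4 11761 (.splitN 1930667 (.split 2 10714 (.split 0
    10600 (.split 3 10582 (.split 4 10663 (.splitN 1224018 (.split 2 6790 (.split 3 6658 (.split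
    4 6739 (.split 0 1074 (.splitN 943572 (.split 2 5242 (.split 3 5110 (.split 4 5191 (.split 0
    936 (.splitN 895953 (.split 2 924 (.split 0 808 (.split 3 790 (.split 4 871 (.splitN 607424
    (.split 2 751 (.split 0 637 (.split 3 619 (.split 4 700 (.splitN 530883 (.split 2 698 (.split
    3 565 (.split 6 (-632) (.lin 9) (.split 4 646 (.split 5 9 (.wt 2) (.split 1 (-74) (.split 6
    (-118) (.splitN 248590 (.split 0 420 (.splitN 231765 (.split 3 43 (.wt 2) (.split 6 (-127)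
    (.split 2 427 (.split 0 295 (.split 6 (-362) (.lin 9) (.split 4 358 (.splitN 199419 (.split 2
    388 (.split 3 250 (.split 6 (-326) (.lin 9) (.split 4 322 (.split 3 114 (.split 0 70 (.wt 2)
    (.split 2 207 (.lin 1) (.split 6 (-145) (.split 0 86 (.wt 2) (.split 1 (-101) (.split 6
    (-154) (.split 4 150 (.lin 8) (.splitN 114722 .sq (.split 0 92 (.wt 0) (.split 2 225 (.lin 1)
    (.split 1 (-110) (.split 6 (-163) (.split 4 159 (.lin 8) (.splitN 131750 .sq (.splitN 134904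
    (.split 0 140 (.wt 0) (.split 1 (-155) (.split 6 (-208) (.split 4 204 (.lin 8) .sq) (.lin 7))
    (.lin 4))) (.wt 3)))) (.lin 7)) (.lin 4)))))) (.lin 7)) (.lin 4))) (.lin 7)))) (.split 2 252
    (.lin 10) (.split 6 (-190) (.split 4 259 (.splitN 142199 .sq (.splitN 156665 (.split 0 79
    (.wt 0) (.split 2 279 (.lin 1) (.split 6 (-217) .sq (.lin 7)))) (.wt 1))) (.lin 10)) (.lin
    7)))) (.lin 10))) (.lin 1)) .sq) (.wt 1)) (.lin 10))) (.lin 1)) .sq) (.lin 7))) (.wt 3)) .sq)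
    (.wt 1)) (.lin 7)) (.lin 4))) (.lin 10))) (.lin 1)) .sq) (.wt 5)) (.lin 10)) (.lin 1)) (.lin
    1)) .sq) (.wt 5)) (.lin 10)) (.lin 1)) (.lin 1)) .sq) (.wt 5)) .sq) (.lin 10)) (.lin 1))
    (.div 2)) (.wt 5)) .sq) (.lin 10)) (.lin 1)) (.div 2)) (.wt 5)) (.lin 10)) (.lin 1)) (.lin
    1)) (.div 2)) (.wt 3)) (.lin 10)) (.lin 1)) (.lin 1)) (.div 2)) (.wt 3)))) (.lin 7)) (.lin
    4))))

def cert5_28_1 : Cert :=
  (.split 2 8536 (.split 6 (-8489) (.lin 9) (.split 0 1214 (.split 1 (-1227) (.lin 4) (.split 4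
    1267 (.splitN 1401817 (.split 2 1166 (.split 1 (-1074) (.lin 2) (.split 3 1042 (.split 4 1114
    (.split 6 (-1118) (.lin 9) (.splitN 986666 (.split 2 973 (.split 0 871 (.split 1 (-885) (.lin
    2) (.split 4 925 (.split 6 (-929) (.lin 9) (.split 3 191 (.split 3 89 (.splitN 541467 (.split
    0 690 (.split 1 (-696) (.lin 4) (.split 4 736 (.splitN 510725 (.split 2 686 (.split 0 188
    (.split 1 (-201) (.lin 4) (.split 6 (-290) (.lin 7) (.split 4 286 (.split 4 241 (.split 3 65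
    (.split 0 83 (.wt 2) (.split 1 (-101) (.split 6 (-145) (.split 0 124 (.wt 2) (.split 2 234
    (.lin 1) (.split 1 (-146) (.split 6 (-190) (.split 4 177 (.lin 8) (.splitN 166175 .sq (.wt
    0))) (.lin 7)) (.lin 4)))) (.lin 7)) (.lin 4))) (.split 6 (-145) (.split 0 69 (.wt 2) (.split
    1 (-83) (.split 6 (-154) (.split 0 75 (.wt 2) (.split 6 (-163) (.split 0 82 (.wt 2) (.split 1
    (-101) (.split 6 (-172) (.splitN 235687 (.split 0 88 (.wt 2) (.split 2 225 (.lin 1) (.split 1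
    (-110) (.split 4 141 (.lin 8) (.splitN 129545 .sq (.split 7 (-51) (.splitN 150366 (.split 0
    102 (.wt 0) (.split 2 243 (.lin 1) (.split 1 (-119) (.split 6 (-190) (.split 4 159 (.lin 8)
    .sq) (.lin 7)) (.lin 4)))) (.wt 3)) .cand))) (.lin 4)))) (.wt 3)) (.lin 7)) (.lin 4))) (.lin
    7))) (.lin 7)) (.lin 4))) (.lin 7))) (.lin 8)) (.lin 6)))) (.split 2 297 (.lin 1) (.split 1
    (-155) (.split 1 (-209) (.split 6 (-253) (.split 4 240 (.lin 8) (.splitN 297152 .sq (.wt 3)))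
    (.lin 7)) (.lin 4)) (.lin 2)))) .sq) (.wt 3)) (.lin 8))) .sq) (.wt 3)) (.split 2 216 (.lin
    10) (.split 4 871 (.split 6 (-172) (.splitN 395149 (.split 0 536 (.split 1 (-543) (.lin 4)
    (.split 6 (-731) (.lin 7) (.split 4 673 (.split 4 583 (.splitN 371848 (.split 2 555 (.split 1
    (-408) (.lin 2) (.split 4 448 (.split 6 (-506) (.lin 9) (.splitN 337597 (.split 2 522 (.split
    6 (-470) (.lin 9) (.split 0 147 (.split 2 397 (.split 1 (-156) (.lin 4) (.split 6 (-344)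
    (.lin 7) (.split 4 196 (.split 0 101 (.split 1 (-111) (.lin 4) (.split 6 (-299) (.lin 7)
    (.split 4 151 (.split 0 79 (.split 1 (-93) (.lin 4) (.split 4 133 (.splitN 225467 (.split 3
    99 (.wt 2) (.split 7 (-51) (.split 2 234 (.lin 1) (.splitN 149349 (.split 0 66 (.wt 2)
    (.split 1 (-83) (.split 6 (-190) (.split 4 123 (.lin 8) (.splitN 132947 .sq (.split 3 143
    (.wt 0) (.split 2 288 (.lin 1) (.split 6 (-226) .sq (.lin 0)))))) (.lin 7)) (.lin 4))) (.wt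
    3))) .cand)) (.wt 3)) (.lin 8))) (.split 2 243 (.lin 1) (.split 1 (-101) (.split 6 (-199)
    (.split 4 132 (.lin 8) (.splitN 146492 .sq (.splitN 211416 (.split 7 (-55) (.wt 3) .cand)
    (.wt 1)))) (.lin 7)) (.lin 4)))) (.lin 8)))) (.split 2 261 (.lin 1) (.split 1 (-119) (.split
    6 (-217) (.split 4 150 (.lin 8) (.splitN 175652 .sq (.splitN 209279 (.split 7 (-51) (.wt 1)
    (.split 2 317 (.split 6 (-272) (.lin 9) (.splitN 197403 .cand (.wt 1))) .sq)) (.wt 1))))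
    (.lin 7)) (.lin 4)))) (.lin 8)))) (.lin 1)) (.split 2 306 (.lin 1) (.split 1 (-164) (.split 6
    (-262) (.split 4 195 (.lin 8) (.splitN 262727 .sq (.wt 1))) (.lin 7)) (.lin 4))))) .sq) (.wt
    1))) (.lin 8))) .sq) (.wt 1)) (.lin 8)) (.lin 6)))) .sq) (.wt 1)) (.lin 7)) (.lin 6))))
    (.split 2 315 (.lin 10) (.split 4 772 (.split 6 (-262) (.splitN 229661 .sq (.split 0 186
    (.split 1 (-192) (.lin 4) (.split 4 232 (.split 0 128 (.split 1 (-138) (.lin 4) (.split 4 178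
    (.split 0 113 (.split 1 (-120) (.lin 4) (.split 4 160 (.split 6 (-304) (.split 2 351 (.lin 9)
    (.splitN 279314 .sq (.split 0 67 (.wt 0) (.split 1 (-83) (.wt 1) (.lin 4))))) (.wt 1)) (.lin
    8))) (.wt 1)) (.lin 8))) (.wt 1)) (.lin 8))) (.wt 1))) (.lin 6)) (.lin 6))))) (.lin 8)))
    (.lin 1)) .sq) (.wt 1))) (.lin 8)) (.lin 1))) .sq) (.wt 1)) (.lin 8))) .sq)) (.div 2))

def cert5_28_2 : Cert :=
  (.split 0 130 (.split 2 262 (.split 1 (-138) (.lin 4) (.split 6 (-227) (.lin 7) (.split 4 205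
    (.split 4 160 (.splitN 192730 (.wt 1) (.split 7 (-33) (.split 2 153 (.lin 1) (.split 4 96
    (.lin 8) (.split 3 65 (.split 0 67 (.wt 2) (.split 2 162 (.lin 1) (.split 6 (-127) (.split 0
    74 (.wt 2) (.split 1 (-92) (.split 6 (-136) (.split 4 114 (.lin 8) (.splitN 251294 (.wt 1)
    (.split 3 43 (.wt 0) (.split 6 (-145) (.split 0 88 (.wt 2) (.split 2 198 (.lin 1) (.split 1
    (-101) (.split 1 (-110) (.split 6 (-163) (.split 4 132 (.lin 8) (.splitN 291662 (.wt 1)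
    (.split 3 52 (.wt 0) (.split 6 (-172) (.split 0 99 (.wt 0) (.split 2 216 (.lin 1) (.split 1
    (-119) (.split 4 141 (.lin 8) (.splitN 306356 (.wt 1) (.split 0 110 (.wt 0) (.split 1 (-128)
    (.split 6 (-190) (.wt 0) (.lin 7)) (.lin 4))))) (.lin 2)))) (.lin 6))))) (.lin 7)) (.lin 4))
    (.lin 2)))) (.lin 6))))) (.lin 7)) (.lin 4))) (.lin 7)))) (.split 2 180 (.lin 1) (.split 6
    (-145) (.splitN 221790 (.wt 1) (.split 0 92 (.split 1 (-102) (.lin 4) (.split 6 (-191) (.lin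
    7) (.split 4 124 (.split 0 74 (.split 1 (-84) (.lin 4) (.split 4 106 (.splitN 293751 (.wt 1)
    (.split 3 70 (.wt 0) (.split 6 (-154) (.split 0 64 (.wt 2) (.split 2 198 (.lin 1) (.split 6
    (-163) (.split 1 (-83) (.split 4 105 (.lin 8) (.splitN 324983 (.wt 1) (.wt 0))) (.lin 4))
    (.lin 3)))) (.lin 6)))) (.lin 8))) (.split 1 (-92) (.splitN 389570 .cand (.wt 1)) (.lin 4)))
    (.lin 8)))) (.split 1 (-110) (.splitN 397838 .cand (.wt 1)) (.lin 4)))) (.lin 6)))))) (.split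
    3 82 (.split 6 (-199) (.wt 1) (.split 3 75 (.split 6 (-181) (.wt 1) (.split 4 142 (.split 0
    115 (.split 1 (-129) (.lin 8) (.split 3 43 (.wt 1) (.split 2 153 (.lin 10) (.split 6 (-127)
    (.split 0 84 (.split 1 (-93) (.lin 4) (.wt 1)) (.wt 0)) (.lin 6))))) (.lin 7)) (.lin 6)))
    (.wt 0))) (.wt 0)))) (.lin 8)) (.lin 6)))) (.lin 1)) (.split 2 216 (.lin 1) (.split 1 (-92)
    (.split 1 (-146) (.split 6 (-190) (.split 4 159 (.lin 8) (.split 7 (-33) (.split 4 168 (.lin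
    8) (.split 3 65 (.splitN 1531701 (.split 2 8500 (.split 0 8404 (.split 6 (-8480) (.lin 7)
    (.split 4 8458 (.splitN 1432547 (.split 0 1137 (.split 2 1243 (.split 1 (-1164) (.lin 2)
    (.split 4 2203 (.split 6 (-414) (.split 4 375 (.lin 6) (.split 0 339 (.lin 7) (.split 1
    (-353) (.split 2 450 (.lin 9) (.splitN 760625 .sq (.wt 0))) (.lin 8)))) (.split 4 385 (.split
    0 349 (.split 1 (-363) (.lin 8) (.split 2 442 (.splitN 253559 (.wt 1) (.split 3 44 (.wt 2)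
    (.split 6 (-298) (.split 4 258 (.lin 6) (.split 0 222 (.lin 7) (.split 1 (-236) (.split 2 333
    (.lin 9) (.splitN 377135 .sq (.splitN 410343 (.split 0 247 (.wt 0) (.split 2 351 (.lin 1)
    (.split 6 (-316) (.split 4 276 (.lin 6) .sq) (.lin 7)))) (.wt 3)))) (.lin 8)))) (.split 4 259
    (.split 0 223 (.split 2 325 (.splitN 449671 .cand (.wt 3)) (.lin 9)) (.lin 7)) (.lin 6)))))
    (.lin 9))) (.lin 7)) (.lin 6))) (.lin 0))) (.lin 1)) .sq) (.wt 3)) (.lin 6))) (.lin 1)) (.div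
    2)) (.wt 3)) (.split 2 252 (.lin 1) (.split 6 (-217) (.splitN 1215336 (.split 2 6736 (.split
    0 6613 (.split 6 (-6716) (.lin 7) (.split 4 6667 (.splitN 1121328 (.split 0 975 (.split 2
    1108 (.split 6 (-1073) (.lin 7) (.split 4 1024 (.splitN 795008 (.split 0 791 (.split 6 (-893)
    (.lin 7) (.split 4 844 (.splitN 742681 (.split 2 788 (.split 0 664 (.split 6 (-767) (.lin 7)
    (.split 4 718 (.splitN 697245 (.split 6 (-408) (.split 4 348 (.lin 6) (.split 0 312 (.lin 7)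
    (.split 1 (-326) (.split 2 450 (.lin 9) .sq) (.lin 8)))) (.split 4 358 (.split 0 322 (.split
    1 (-336) (.lin 8) (.split 2 442 (.splitN 237715 (.wt 1) (.split 0 218 (.split 2 352 (.split 1
    (-228) (.lin 4) (.split 6 (-317) (.lin 7) (.split 4 250 (.splitN 424738 .cand (.wt 1)) (.lin
    8)))) (.lin 1)) (.split 2 342 (.lin 1) (.split 1 (-236) (.split 6 (-307) (.split 4 258 (.lin
    8) (.splitN 390869 .sq (.wt 1))) (.lin 7)) (.lin 4))))) (.lin 9))) (.lin 7)) (.lin 6))) (.wt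
    1)) (.lin 6))) (.lin 1)) .sq) (.wt 1)) (.lin 6))) .sq) (.wt 1)) (.lin 6))) (.lin 1)) .sq)
    (.wt 1)) (.lin 6))) (.lin 1)) (.div 2)) (.wt 1)) (.lin 6))))) (.split 3 71 (.split 6 (-383)
    (.wt 1) (.split 4 349 (.split 1 (-336) (.lin 8) (.split 0 280 (.split 1 (-291) (.lin 4) (.wt
    3)) (.wt 0))) (.lin 6))) (.wt 0)))) (.lin 7)) (.lin 4)) (.lin 2))))

def cert5_28_3 : Cert :=
  (.split 7 (-42) (.split 2 162 (.lin 1) (.split 4 105 (.lin 8) (.splitN 1667708 (.split 2 9256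
    (.split 1 (-9165) (.lin 2) (.split 4 9205 (.split 6 (-9209) (.lin 9) (.splitN 1538774
    cert5_28_1 (.wt 1))) (.lin 8))) (.div 2)) (.wt 1)))) (.split 3 94 cert5_28_2 (.split 2 198
    (.lin 1) (.split 6 (-172) (.split 0 403 (.split 1 (-417) (.lin 4) (.split 4 439 (.split 0 156
    (.split 1 (-165) (.lin 4) (.split 4 187 (.split 7 (-33) (.split 4 96 (.lin 8) (.splitN
    5996827 (.split 2 33304 (.split 6 (-33356) (.lin 0) (.splitN 5618729 (.split 2 2357 (.split 6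
    (-2405) (.lin 0) (.splitN 3097514 (.split 2 1742 (.split 6 (-1793) (.lin 0) (.split 6 (-1703)
    (.lin 9) (.splitN 2586236 (.split 2 1588 (.split 6 (-1550) (.lin 9) (.split 0 106 (.split 1
    (-120) (.lin 4) (.split 4 142 (.splitN 1792743 (.split 2 1316 (.split 6 (-1325) (.lin 0)
    (.split 3 348 (.split 2 496 (.split 6 (-461) (.lin 6) (.split 3 181 (.split 2 334 (.split 6
    (-299) (.lin 6) (.split 0 83 (.split 1 (-93) (.lin 4) (.split 6 (-272) (.lin 7) (.split 4 115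
    (.split 3 137 (.split 2 262 (.split 6 (-227) (.lin 6) (.splitN 474635 (.split 0 70 (.split 1
    (-84) (.lin 4) (.splitN 291103 (.wt 1) .cand)) (.split 1 (-92) (.split 4 114 (.lin 8)
    (.splitN 363403 (.split 3 102 (.split 2 226 (.split 6 (-191) (.lin 0) (.wt 0)) (.lin 1)) (.wt
    0)) (.wt 1))) (.lin 4))) (.wt 1))) (.lin 1)) (.split 2 252 (.lin 1) (.split 6 (-217) (.splitN
    455476 (.splitN 287430 (.wt 1) .cand) (.wt 1)) (.lin 6)))) (.lin 8)))) (.split 1 (-101)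
    (.split 4 123 (.lin 8) (.splitN 410022 (.split 3 130 (.split 2 280 (.split 6 (-245) (.lin 6)
    (.splitN 368519 (.split 0 96 (.split 2 262 (.split 6 (-227) (.lin 3) (.split 1 (-102) (.lin
    4) (.wt 0))) (.lin 1)) (.wt 0)) (.wt 1))) (.lin 1)) (.wt 0)) (.wt 1))) (.lin 4)))) (.lin 1))
    (.splitN 268603 (.wt 3) (.split 0 83 (.split 1 (-93) (.lin 4) (.split 6 (-434) (.lin 7)
    (.split 0 76 (.split 1 (-84) (.lin 4) (.split 4 106 (.split 6 (-348) (.split 2 378 (.lin 0)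
    (.split 3 267 (.lin 6) (.splitN 473081 (.split 0 66 (.split 1 (-75) (.lin 4) (.splitN 403731
    (.wt 1) .cand)) (.wt 2)) (.wt 1)))) (.split 2 388 (.splitN 463131 .cand (.wt 1)) (.lin 0)))
    (.lin 8))) (.wt 2)))) (.wt 2))))) (.lin 1)) (.split 2 459 (.lin 1) (.split 6 (-424) (.splitN
    533348 .sq (.splitN 704271 (.split 0 81 (.split 1 (-93) (.lin 4) (.split 4 115 (.split 0 73
    (.split 1 (-84) (.lin 4) (.split 4 106 (.split 6 (-700) (.split 3 618 (.lin 6) .sq) (.wt 1))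
    (.lin 8))) (.wt 1)) (.lin 8))) (.wt 1)) (.wt 1))) (.lin 6))))) .sq) (.wt 1)) (.lin 8)))
    (.split 2 261 (.lin 1) (.split 1 (-128) (.split 4 150 (.lin 8) (.splitN 568299 (.split 3 219
    (.split 2 415 (.split 6 (-380) (.lin 6) (.splitN 399707 (.split 0 134 (.split 1 (-147) (.lin
    4) (.split 0 126 (.split 1 (-138) (.lin 4) (.split 6 (-353) (.lin 7) (.split 4 160 (.splitN
    384086 (.wt 0) (.wt 1)) (.lin 8)))) (.wt 0))) (.wt 0)) (.wt 1))) (.lin 1)) (.wt 0)) (.wt 1)))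
    (.lin 4))))) .sq) (.wt 1)))) .sq) (.wt 1))) .sq) (.wt 1))) (.div 2)) (.wt 1))) (.split 0 84
    (.split 1 (-93) (.lin 4) (.wt 3)) (.wt 0))) (.lin 8))) (.split 2 297 (.lin 1) (.split 1
    (-173) (.split 4 186 (.lin 8) (.split 3 14005 (.split 2 14455 (.split 6 (-14672) (.lin 0)
    (.split 3 6303 (.split 2 6751 (.split 6 (-6968) (.lin 0) (.split 3 3919 (.split 6 (-4340)
    (.lin 6) (.split 3 2729 (.split 6 (-3152) (.lin 6) (.split 3 2093 (.split 6 (-2513) (.lin 6)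
    (.split 3 1721 (.split 2 2170 (.split 6 (-2144) (.lin 6) (.split 3 1495 (.split 6 (-1919)
    (.lin 6) (.split 3 1353 (.split 6 (-1775) (.lin 6) (.split 3 1261 (.split 6 (-1685) (.lin 6)
    (.split 7 (-31) (.splitN 521121 (.split 3 171 (.split 2 622 (.split 6 (-587) (.lin 6)
    (.splitN 407035 (.split 0 218 (.split 1 (-228) (.lin 4) (.split 6 (-398) (.lin 7) (.wt 0)))
    (.wt 0)) (.wt 6))) (.lin 1)) (.wt 0)) (.wt 1)) (.wt 0))) (.wt 0))) (.wt 0))) (.wt 0))) (.lin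
    1)) (.wt 0))) (.wt 0))) (.wt 0))) (.wt 0))) (.lin 1)) (.wt 0))) (.lin 1)) (.wt 0))) (.lin
    4)))) (.lin 8))) (.split 1 (-425) (.split 4 438 (.lin 8) (.wt 2)) (.lin 4))) (.lin 7)))))

def cert5_28_4 : Cert :=
  (.split 0 58 (.split 1 (-66) (.lin 4) (.split 4 115 (.split 4 106 (.split 5 9 (.wt 1) (.split 1
    (-38) (.split 6 (-82) (.split 7 (-42) (.split 2 126 (.lin 1) (.split 4 69 (.lin 8) (.splitN
    588279 (.split 2 3262 (.split 6 (-3242) (.lin 0) (.split 3 3211 (.split 0 26 (.wt 2) (.split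
    1 (-47) (.split 6 (-91) (.split 4 78 (.lin 8) (.splitN 350627 (.split 2 1930 (.split 6
    (-1901) (.lin 0) (.split 3 1861 (.split 3 69 (.wt 2) (.split 6 (-118) (.splitN 306550 (.split
    2 1696 (.split 6 (-1667) (.lin 0) (.split 3 1627 (.split 0 34 (.wt 2) (.split 1 (-56) (.split
    6 (-127) (.split 4 87 (.lin 8) (.splitN 250910 (.split 2 1390 (.split 6 (-1352) (.lin 0)
    (.split 3 1303 (.split 3 129 (.wt 2) (.split 2 234 (.lin 1) (.split 6 (-190) (.splitN 140414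
    (.wt 1) (.split 0 45 (.wt 2) (.split 1 (-65) (.split 4 96 (.lin 8) (.splitN 205764 (.split 2
    1138 (.split 6 (-1091) (.lin 0) (.split 3 1033 (.split 3 139 (.wt 0) (.split 6 (-208)
    (.splitN 166793 (.wt 6) (.split 3 263 (.wt 0) (.split 2 378 (.lin 1) (.split 6 (-325) .sq
    (.lin 0))))) (.lin 7))) (.lin 6))) (.div 2)) (.wt 3))) (.lin 4)))) (.lin 7)))) (.lin 6)))
    (.div 2)) (.wt 3))) (.lin 7)) (.lin 4))) (.lin 6))) (.div 2)) (.wt 3)) (.lin 7))) (.lin 6)))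
    (.div 2)) (.wt 3))) (.lin 7)) (.lin 4))) (.lin 6))) (.div 2)) (.wt 3)))) (.split 4 88 (.split
    3 94 (.split 0 28 (.wt 2) (.split 2 117 (.lin 1) (.split 1 (-47) (.split 6 (-91) (.split 3 45
    (.wt 6) (.split 6 (-100) (.split 0 34 (.wt 6) (.split 1 (-56) (.split 6 (-109) (.split 4 69
    (.lin 8) (.split 3 52 (.wt 2) (.split 2 144 (.lin 1) (.split 6 (-118) (.splitN 285514 (.wt 1)
    (.split 7 (-33) (.splitN 301398 (.wt 6) (.split 0 48 (.wt 0) (.split 1 (-65) (.wt 0) (.lin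
    4)))) (.wt 1))) (.lin 7))))) (.lin 7)) (.lin 4))) (.lin 7))) (.lin 7)) (.lin 4)))) (.split 2
    162 (.lin 1) (.split 6 (-136) (.split 0 25 (.wt 2) (.split 1 (-47) (.split 6 (-145) (.split 4
    60 (.lin 8) (.split 7 (-33) (.split 4 69 (.lin 8) (.splitN 2669898 (.split 2 14818 (.split 6
    (-14798) (.lin 0) (.split 3 14749 (.split 3 99 (.wt 2) (.split 6 (-154) (.splitN 2239115
    (.split 2 12424 (.split 6 (-12404) (.lin 0) (.split 3 12355 (.split 0 34 (.wt 2) (.split 1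
    (-56) (.split 6 (-163) (.split 4 78 (.lin 8) (.splitN 891168 (.split 2 4936 (.split 6 (-4907)
    (.lin 0) (.split 3 4849 (.split 3 130 (.wt 2) (.split 2 225 (.lin 1) (.split 6 (-181)
    (.splitN 809256 (.split 2 4486 (.split 6 (-4457) (.lin 0) (.split 3 4399 (.split 3 151 (.wt
    2) (.split 2 252 (.lin 1) (.split 6 (-208) (.splitN 744012 (.split 2 4126 (.split 6 (-4097)
    (.lin 0) (.split 3 4039 (.split 3 187 (.wt 2) (.split 2 288 (.lin 1) (.split 6 (-244)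
    (.splitN 689120 (.split 2 3820 (.split 6 (-3791) (.lin 0) (.split 3 3733 (.split 3 243 (.wt
    2) (.split 2 342 (.lin 1) (.split 6 (-298) (.splitN 639788 (.split 2 3550 (.split 6 (-3521)
    (.lin 0) (.split 3 3463 (.split 0 44 (.wt 2) (.split 1 (-65) (.split 6 (-316) (.split 4 87
    (.lin 8) (.splitN 567564 (.split 2 3136 (.split 6 (-3098) (.lin 0) (.split 3 3031 (.splitN
    399964 (.wt 1) (.splitN 487332 (.split 3 462 (.wt 0) (.split 2 567 (.lin 1) (.split 6 (-532)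
    .sq (.lin 0)))) (.wt 3))) (.lin 6))) (.div 2)) (.wt 0))) (.lin 7)) (.lin 4))) (.lin 6)))
    (.div 2)) (.wt 3)) (.lin 0)))) (.lin 6))) (.div 2)) (.wt 3)) (.lin 0)))) (.lin 6))) (.div 2))
    (.wt 3)) (.lin 0)))) (.lin 6))) (.div 2)) (.wt 3)) (.lin 0)))) (.lin 6))) (.div 2)) (.wt 3)))
    (.lin 7)) (.lin 4))) (.lin 6))) (.div 2)) (.wt 3)) (.lin 6))) (.lin 6))) (.div 2)) (.wt 3)))
    (.split 0 40 (.wt 1) (.split 1 (-56) (.split 6 (-154) (.split 4 69 (.lin 8) (.split 3 341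
    (.wt 1) (.wt 0))) (.lin 7)) (.lin 4))))) (.lin 7)) (.lin 4))) (.lin 7)))) (.lin 8))) (.lin
    7)) (.lin 4))) (.lin 12)) (.lin 8))) (.split 2 135 (.lin 1) (.split 1 (-65) (.split 6 (-109)
    (.split 4 78 (.lin 8) (.split 4 87 (.lin 12) (.split 5 9 (.split 0 138 (.wt 1) (.split 1
    (-146) (.split 6 (-190) (.split 4 168 (.lin 8) (.wt 1)) (.lin 7)) (.lin 4))) (.split 2 144
    (.lin 1) (.split 1 (-74) (.split 6 (-118) cert5_28_3 (.lin 7)) (.lin 4)))))) (.lin 7)) (.lin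
    4))))

def cert5_28_5 : Cert :=
  (.split 0 38 (.split 4 88 (.splitN 166828 (.split 3 49 (.wt 2) (.split 2 144 (.lin 1) (.split 6
    (-100) (.split 3 54 (.wt 2) (.split 6 (-109) (.split 2 374 (.split 3 277 (.split 5 239
    (.split 3 129 (.split 0 25 (.wt 2) (.split 1 (-56) (.split 6 (-118) (.split 3 70 (.wt 2)
    (.split 2 180 (.lin 1) (.split 5 212 (.split 6 (-136) (.split 1 (-179) (.wt 2) (.split 5 140
    (.split 1 (-135) (.wt 2) (.split 2 307 (.split 5 95 (.split 1 (-101) (.wt 2) (.split 5 59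
    (.splitN 98072 (.wt 6) (.split 1 (-83) (.wt 0) (.split 5 41 (.wt 2) (.lin 4)))) (.lin 4)))
    (.lin 4)) (.lin 2))) (.lin 4))) (.lin 7)) (.lin 1)))) (.lin 7)) (.lin 4))) (.split 2 225
    (.lin 1) (.split 5 167 (.split 6 (-172) (.splitN 108728 .sq (.split 0 26 (.wt 0) (.split 1
    (-56) (.split 6 (-190) (.split 4 78 (.lin 12) (.splitN 118043 .sq (.split 1 (-70) (.wt 0)
    (.split 5 32 (.wt 2) (.lin 4))))) (.lin 7)) (.lin 4)))) (.lin 6)) (.lin 1)))) (.lin 1)) (.lin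
    1)) .sq) (.lin 7))) (.lin 7)))) (.wt 3)) (.lin 12)) (.split 2 153 (.lin 1) (.split 1 (-65)
    (.split 6 (-109) (.split 4 87 (.lin 12) (.splitN 194979 (.split 2 402 (.split 6 (-362) (.lin
    3) (.split 3 110 (.splitN 156514 (.split 2 355 (.split 3 74 (.splitN 137440 (.split 2 326
    (.split 5 194 (.split 5 66 (.split 2 235 (.split 1 (-120) (.lin 8) (.split 3 44 (.wt 2)
    (.split 2 162 (.lin 1) (.split 6 (-118) (.split 5 41 (.split 5 32 (.split 0 43 (.wt 2)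
    (.split 1 (-74) (.split 6 (-127) (.split 3 61 (.wt 2) (.split 6 (-145) (.wt 2) (.lin 7)))
    (.lin 7)) (.lin 4))) (.split 1 (-74) (.split 6 (-136) (.split 0 46 (.wt 2) (.split 1 (-92)
    (.split 6 (-145) (.splitN 100152 (.wt 6) (.split 3 56 (.wt 0) (.split 6 (-154) (.splitN
    111478 (.wt 6) (.wt 0)) (.lin 7)))) (.lin 7)) (.lin 4))) (.lin 7)) (.lin 8))) (.split 1 (-92)
    (.split 6 (-145) (.splitN 86286 (.wt 1) (.split 0 44 (.wt 2) (.split 1 (-101) (.split 6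
    (-154) (.split 4 96 (.lin 12) (.split 7 (-54) (.wt 0) (.split 4 97 (.splitN 102190 (.wt 1)
    (.split 3 63 (.wt 0) (.split 2 216 (.lin 1) (.split 6 (-172) (.splitN 108503 .sq (.wt 0))
    (.lin 3))))) (.lin 12)))) (.lin 7)) (.lin 4)))) (.lin 7)) (.lin 4))) (.lin 7))))) (.lin 1))
    (.split 2 198 (.lin 1) (.split 1 (-101) (.split 1 (-110) (.split 6 (-154) (.splitN 93599 .sq
    (.splitN 107128 (.split 3 51 (.wt 0) (.split 6 (-163) (.split 3 52 (.wt 0) (.split 2 216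
    (.lin 1) (.split 6 (-172) .sq (.lin 7)))) (.lin 7))) (.wt 3))) (.lin 7)) (.lin 4)) (.lin
    8)))) (.lin 1)) .sq) (.wt 3)) (.split 2 189 (.lin 1) (.split 6 (-145) (.splitN 148680 (.split
    2 320 (.split 5 149 (.split 6 (-281) (.lin 3) (.split 5 58 (.split 2 262 (.split 1 (-111)
    (.lin 8) (.split 1 (-102) (.lin 4) (.split 6 (-209) (.lin 7) (.split 5 36 (.split 7 (-51)
    (.split 0 43 (.wt 2) (.split 2 207 (.lin 1) (.split 6 (-154) (.split 1 (-74) (.split 4 105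
    (.lin 12) (.splitN 107809 (.split 3 88 (.wt 2) (.split 2 225 (.lin 1) (.split 6 (-172) .sq
    (.lin 3)))) (.wt 0))) (.lin 4)) (.lin 3)))) (.splitN 110696 (.wt 1) .cand)) (.split 2 207
    (.lin 1) (.split 1 (-83) (.split 6 (-163) (.split 7 (-51) (.split 4 96 (.lin 12) (.splitN
    99335 .sq (.wt 3))) (.split 4 97 (.split 0 47 (.split 4 88 (.splitN 114263 (.splitN 106300
    (.wt 1) (.split 3 91 (.wt 0) (.split 2 225 (.lin 1) (.split 6 (-172) (.split 3 99 (.wt 2)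
    (.split 6 (-190) .sq (.lin 6))) (.lin 0))))) (.wt 0)) (.lin 12)) (.split 1 (-92) (.split 4 96
    (.lin 12) (.splitN 117298 (.splitN 108329 (.wt 3) (.split 3 93 (.split 2 235 (.split 6 (-191)
    (.lin 3) (.split 5 48 (.split 1 (-93) (.lin 4) (.split 3 83 (.split 2 217 (.split 6 (-173)
    (.lin 0) (.wt 2)) (.lin 1)) (.wt 0))) (.wt 1))) (.lin 1)) (.wt 0))) (.wt 1))) (.lin 4)))
    (.lin 12))) (.lin 7)) (.lin 4))))))) (.lin 1)) (.split 2 225 (.lin 1) (.split 1 (-92) (.split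
    6 (-163) (.split 1 (-101) (.split 6 (-172) (.splitN 112292 .sq (.split 7 (-52) (.wt 0)
    (.split 4 97 (.split 0 50 (.split 4 88 (.wt 0) (.lin 12)) (.wt 1)) (.lin 12)))) (.lin 6))
    (.lin 4)) (.lin 3)) (.lin 8))))) (.lin 1)) .sq) (.wt 3)) (.lin 7)))) .sq) (.wt 3)) (.split 2
    225 (.lin 1) (.split 6 (-163) (.split 6 (-172) (.splitN 110348 .sq (.splitN 178176 (.split 2
    341 (.split 3 223 (.split 7 (-51) (.split 4 96 (.lin 12) (.splitN 121246 (.split 3 117 (.wt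
    5) (.split 2 243 (.lin 1) (.split 6 (-190) .sq (.lin 6)))) (.wt 3))) .cand) (.lin 1)) .sq)
    (.wt 1))) (.lin 6)) (.lin 3))))) .sq) (.wt 3))) (.lin 7)) (.lin 4))))

def cert5_28_6 : Cert :=
  (.split 3 65 (.split 5 54 (.split 2 190 (.split 1 (-120) (.lin 2) (.split 1 (-102) (.lin 8)
    (.split 6 (-164) (.lin 6) (.split 3 52 (.split 6 (-155) (.lin 6) (.split 5 36 (.split 2 163
    (.split 1 (-93) (.lin 2) (.split 1 (-84) (.lin 8) (.split 6 (-137) (.lin 6) (.split 0 47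
    (.split 2 154 (.split 6 (-128) (.lin 3) (.split 1 (-75) (.lin 4) (.split 4 70 (.split 3 43
    (.wt 2) (.split 2 144 (.lin 1) (.split 6 (-118) (.split 5 24 (.wt 2) (.split 2 153 (.lin 1)
    (.split 1 (-74) (.split 6 (-127) (.splitN 612320 (.wt 0) (.wt 0)) (.lin 0)) (.lin 2)))) (.lin
    3)))) (.lin 12)))) (.lin 1)) (.split 2 144 (.lin 1) (.split 6 (-118) (.split 1 (-74) (.split
    4 78 (.lin 12) (.split 3 50 (.split 2 154 (.split 6 (-128) (.lin 3) (.splitN 840794 (.split 5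
    23 (.wt 1) (.split 2 153 (.lin 1) (.split 1 (-83) (.split 6 (-127) (.splitN 627712 (.wt 0)
    (.wt 0)) (.lin 0)) (.lin 2)))) (.wt 5))) (.lin 1)) (.wt 2))) (.lin 4)) (.lin 3))))))) (.lin
    1)) (.split 2 153 (.lin 1) (.split 1 (-83) (.split 6 (-127) (.split 0 47 (.split 2 172
    (.split 6 (-146) (.lin 3) (.split 1 (-93) (.lin 4) (.split 4 70 (.split 3 44 (.wt 2) (.splitN
    391924 (.wt 0) (.splitN 449888 (.split 5 48 (.split 2 163 (.split 1 (-84) (.lin 2) (.split 6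
    (-137) (.lin 0) (.wt 0))) (.lin 1)) (.wt 1)) (.wt 1)))) (.lin 12)))) (.lin 1)) (.split 1
    (-92) (.split 4 78 (.lin 12) (.splitN 492877 (.split 3 45 (.split 2 172 (.split 6 (-146)
    (.lin 3) (.splitN 458047 (.split 1 (-93) (.split 2 171 (.lin 2) (.split 5 49 (.lin 0) (.split
    6 (-145) (.splitN 444767 (.wt 0) (.wt 0)) (.lin 0)))) (.wt 0)) (.wt 1))) (.lin 1)) (.wt 0))
    (.wt 1))) (.lin 4))) (.lin 6)) (.lin 8))))) (.split 2 153 (.lin 1) (.splitN 458782 (.wt 5)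
    (.split 5 49 (.split 1 (-93) (.lin 4) (.split 6 (-155) (.lin 6) (.splitN 531344 (.wt 5)
    (.split 5 39 (.split 2 172 (.split 1 (-84) (.lin 2) (.split 6 (-146) (.lin 6) (.splitN
    2412509 (.split 0 50 (.split 2 163 (.split 1 (-75) (.lin 2) (.split 6 (-137) (.lin 3) (.split
    4 70 (.splitN 1377216 (.splitN 907266 (.wt 5) (.split 5 25 (.split 2 154 (.split 1 (-66)
    (.lin 2) (.split 6 (-128) (.lin 0) (.wt 0))) (.lin 1)) (.wt 1))) (.wt 1)) (.lin 12)))) (.lin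
    1)) (.wt 0)) (.wt 1)))) (.lin 1)) (.wt 1))))) (.wt 1)))))))) (.lin 1)) (.split 2 171 (.lin 1)
    (.split 1 (-101) (.split 6 (-145) (.split 3 52 (.split 6 (-181) (.split 2 198 (.lin 3)
    (.split 1 (-128) (.split 5 76 (.lin 4) (.split 0 47 (.split 4 70 (.splitN 266517 (.wt 1)
    (.split 1 (-150) (.wt 0) (.split 2 226 (.split 5 113 (.split 5 104 (.splitN 287103 (.wt 1)
    (.wt 0)) (.lin 4)) (.lin 1)) (.lin 2)))) (.lin 12)) (.split 5 122 (.split 4 78 (.lin 12)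
    (.splitN 382645 (.split 3 51 (.split 5 85 (.lin 6) (.split 1 (-137) (.split 1 (-172) (.wt 2)
    (.split 5 113 (.splitN 287904 (.wt 1) (.split 1 (-161) (.wt 0) (.split 2 226 (.split 5 104
    (.split 1 (-146) (.wt 2) (.split 2 208 (.split 5 86 (.split 6 (-182) (.lin 0) (.splitN 303252
    (.wt 0) (.wt 0))) (.lin 0)) (.lin 2))) (.lin 1)) (.lin 2)))) (.lin 4))) (.lin 8))) (.wt 0))
    (.wt 1))) (.lin 1)))) (.lin 11))) (.split 2 208 (.split 1 (-129) (.lin 11) (.split 0 47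
    (.split 4 70 (.splitN 363809 .cand (.wt 3)) (.lin 12)) (.split 1 (-110) (.split 5 77 (.split
    4 78 (.lin 12) (.splitN 385776 (.split 3 46 (.split 6 (-156) (.split 2 189 (.lin 3) (.split 5
    67 (.lin 1) (.split 6 (-164) (.split 5 76 (.lin 6) (.split 1 (-128) (.splitN 326096 (.wt 0)
    (.wt 0)) (.lin 8))) (.wt 2)))) (.wt 2)) (.wt 0)) (.wt 1))) (.lin 4)) (.lin 4)))) (.lin 3)))
    (.split 1 (-156) (.lin 2) (.splitN 417960 (.split 0 48 (.split 4 70 (.splitN 394307 (.split 5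
    82 (.split 2 208 (.split 1 (-120) (.lin 2) (.split 6 (-182) (.lin 3) (.wt 0))) (.lin 1)) (.wt
    2)) (.wt 1)) (.lin 12)) (.wt 0)) (.wt 1)))) (.lin 6)) (.lin 8)))) (.split 2 162 (.lin 1)
    (.split 1 (-147) (.lin 2) (.split 5 45 (.split 2 208 (.split 1 (-93) (.lin 8) (.split 6
    (-191) (.lin 3) (.splitN 598333 (.wt 5) (.split 5 39 (.split 6 (-173) (.lin 6) (.splitN
    4118394 (.split 0 49 (.split 2 190 (.split 6 (-164) (.lin 3) (.split 1 (-75) (.lin 4) (.split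
    4 70 (.splitN 1962277 (.split 3 76 (.split 2 172 (.split 6 (-146) (.lin 3) (.splitN 1724137
    (.wt 0) (.wt 1))) (.lin 1)) (.wt 0)) (.wt 1)) (.lin 12)))) (.lin 1)) (.wt 0)) (.wt 1))) (.wt
    1))))) (.lin 1)) (.wt 2)))))

def cert5_28_7 : Cert :=
  (.split 6 (-226) (.split 2 243 (.lin 3) (.split 1 (-137) (.split 5 67 (.lin 1) (.split 5 85
    (.lin 4) (.splitN 1109209 (.split 1 (-991) .sq (.split 2 1108 (.split 2 1011 (.split 7 (-33)
    (.split 2 261 (.lin 9) (.split 4 78 (.lin 12) (.splitN 157193 .sq (.wt 3)))) (.split 4 79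
    (.splitN 867442 (.split 2 882 (.split 6 (-857) (.lin 3) (.split 3 65 (.split 1 (-155) (.split
    1 (-164) (.split 5 112 (.lin 4) (.splitN 427829 (.split 1 (-541) .sq (.split 2 622 (.split 2
    570 (.split 5 455 (.split 1 (-498) (.lin 2) (.split 6 (-551) (.lin 3) (.split 3 52 (.split 5
    121 (.lin 6) (.split 1 (-173) (.split 6 (-428) (.wt 2) (.split 2 460 (.split 1 (-381) (.lin
    11) (.split 5 347 (.split 0 43 (.wt 2) (.split 5 329 (.split 4 78 (.lin 12) (.split 3 43 (.wt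
    2) (.split 6 (-263) (.split 2 297 (.lin 3) (.split 1 (-218) (.split 5 166 (.lin 1) (.split 6
    (-287) (.split 2 315 (.lin 3) (.split 1 (-236) (.split 5 184 (.lin 1) (.splitN 285731 .sq
    (.split 1 (-326) (.wt 0) (.split 2 397 (.split 5 266 (.split 6 (-341) (.wt 0) (.split 2 361
    (.split 5 209 (.split 2 334 (.split 6 (-308) (.lin 3) (.wt 1)) (.lin 1)) (.wt 1)) (.lin 3)))
    (.lin 1)) (.lin 2))))) (.lin 11))) (.wt 2))) (.lin 11))) (.wt 2)))) (.lin 4))) (.lin 1)))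
    (.lin 3))) (.lin 11))) (.splitN 214664 (.wt 3) (.split 6 (-388) (.split 2 405 (.lin 3)
    (.split 1 (-326) .sq (.lin 11))) (.split 2 415 (.split 0 51 (.split 5 121 (.lin 4) (.split 4
    70 (.splitN 294251 .cand (.wt 3)) (.lin 12))) (.wt 2)) (.lin 3))))))) (.lin 1)) .sq) (.lin
    2))) (.wt 3))) (.lin 11)) (.lin 2)) (.splitN 488993 (.split 1 (-597) .sq (.split 2 712
    (.split 6 (-695) (.lin 3) (.split 6 (-236) (.split 2 261 (.lin 3) (.split 1 (-155) (.split 5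
    103 (.lin 4) (.splitN 416812 (.split 1 (-514) .sq (.split 2 622 (.split 6 (-605) (.lin 3)
    (.split 0 51 (.split 5 112 (.lin 4) (.split 4 70 (.split 6 (-265) (.split 2 297 (.lin 3)
    (.split 1 (-182) (.split 5 139 (.lin 1) (.splitN 341841 (.split 6 (-283) (.split 2 315 (.lin
    3) (.split 5 157 (.lin 1) (.split 1 (-347) .sq (.split 2 460 (.split 6 (-434) (.lin 3)
    (.split 3 78 (.split 5 175 (.lin 1) (.split 1 (-218) (.splitN 288061 (.split 6 (-317) (.split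
    2 351 (.lin 3) (.split 5 211 (.lin 1) .sq)) (.wt 2)) (.wt 3)) (.lin 2))) (.wt 2))) (.lin
    2))))) (.wt 2)) (.wt 1))) (.lin 11))) (.wt 2)) (.lin 12))) (.wt 2))) (.lin 2))) (.wt 1)))
    (.lin 11))) (.wt 2))) (.lin 2))) (.wt 1)))) .sq) (.wt 3)) (.lin 12))) .sq) (.lin 2))) (.wt
    3)))) (.lin 11))) (.split 2 262 (.split 1 (-174) (.lin 11) (.split 5 149 (.split 5 131
    (.split 7 (-33) (.split 2 144 (.lin 1) (.split 4 78 (.lin 12) (.split 3 65 (.splitN 214295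
    (.split 5 54 (.split 2 199 (.split 1 (-120) (.lin 2) (.split 3 52 (.split 5 23 (.wt 2)
    (.split 2 153 (.lin 1) (.split 1 (-74) (.split 6 (-118) (.split 0 43 (.wt 2) (.split 2 162
    (.lin 1) (.split 6 (-127) (.split 1 (-83) (.split 4 87 (.lin 12) (.splitN 139515 (.wt 1)
    (.splitN 160767 (.split 3 44 (.wt 0) (.split 2 171 (.lin 1) (.split 6 (-136) (.split 5 34
    (.wt 1) (.split 1 (-92) (.split 6 (-145) (.splitN 146465 (.wt 1) (.wt 0)) (.lin 6)) (.lin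
    4))) (.lin 3)))) (.wt 3)))) (.lin 4)) (.lin 3)))) (.lin 6)) (.lin 8)))) .cand)) (.lin 1))
    (.split 2 180 (.lin 1) (.split 1 (-83) (.split 1 (-101) (.split 6 (-145) (.splitN 179477
    (.splitN 115071 (.wt 1) (.split 3 45 (.wt 2) (.split 5 122 (.split 6 (-154) (.split 0 47
    (.split 4 79 (.splitN 124583 (.wt 1) (.split 1 (-111) (.wt 0) (.split 2 208 (.split 5 68 (.wt
    0) (.lin 4)) (.lin 2)))) (.lin 12)) (.split 4 87 (.lin 12) .cand)) (.lin 6)) (.lin 6)))) (.wt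
    0)) (.lin 6)) (.lin 8)) (.lin 2)))) (.wt 3)) (.split 1 (-156) (.lin 2) (.split 6 (-136)
    (.splitN 248891 (.split 5 48 (.split 2 217 (.split 1 (-93) (.lin 8) (.split 6 (-191) (.lin 3)
    (.split 5 32 (.split 1 (-84) (.lin 4) (.splitN 147564 (.wt 1) .cand)) (.split 2 189 (.lin 1)
    (.split 1 (-83) (.split 6 (-145) (.split 6 (-154) (.split 0 50 (.split 1 (-84) (.lin 4)
    (.split 6 (-173) (.lin 7) (.split 4 79 (.splitN 165391 (.splitN 150996 (.wt 1) (.split 3 72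
    (.wt 0) (.split 6 (-163) (.split 3 86 (.wt 2) (.wt 0)) (.lin 6)))) (.wt 1)) (.lin 8)))) (.wt
    2)) (.lin 6)) (.lin 0)) (.lin 8)))))) (.lin 1)) (.split 2 198 (.lin 1) (.split 1 (-92)
    (.splitN 167211 (.split 0 47 (.split 4 79 .cand (.lin 12)) (.split 4 87 (.lin 12) (.splitN
    141995 (.wt 0) (.splitN 153620 (.split 1 (-112) (.split 5 67 (.lin 4) (.wt 1)) (.wt 0)) (.wt
    1))))) (.wt 1)) (.lin 8)))) (.wt 3)) (.lin 6)))))) (.split 2 244 (.split 4 79 (.splitN 209409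
    (.wt 3) cert5_28_6) (.lin 12)) (.lin 9))) (.lin 4)) (.lin 1))) (.lin 3)))

def cert5_28_8 : Cert :=
  (.split 6 (-298) (.split 2 315 (.lin 3) (.splitN 204920 .sq (.split 5 54 (.split 3 204 (.lin 1)
    (.split 1 (-84) (.lin 8) (.split 0 29 (.split 1 (-75) (.lin 4) (.split 4 52 (.splitN 567584
    (.split 2 3136 (.split 6 (-3134) (.lin 0) (.split 3 3085 (.splitN 528591 (.wt 1) (.wt 0))
    (.lin 6))) (.div 2)) (.wt 0)) (.lin 12))) (.split 1 (-56) (.split 4 60 (.lin 12) (.split 5 36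
    (.split 3 222 (.lin 1) (.split 1 (-66) (.lin 8) (.split 6 (-604) (.split 3 537 (.lin 6)
    (.split 5 27 (.wt 1) (.split 1 (-65) (.splitN 5403216 (.split 2 30010 (.split 6 (-29981)
    (.lin 0) (.splitN 5061935 (.split 2 28120 (.split 6 (-28091) (.lin 0) (.split 6 (-875)
    (.split 2 909 (.lin 0) (.split 3 816 (.lin 6) (.splitN 2286188 .sq (.splitN 3726279 (.split 6
    (-1949) .sq (.wt 1)) (.wt 1))))) (.wt 2))) (.div 2)) (.wt 1))) (.div 2)) (.wt 1)) (.lin 4))))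
    (.split 2 631 (.split 3 538 (.split 5 27 (.split 1 (-57) (.lin 4) (.split 3 316 (.wt 1)
    (.split 2 405 (.lin 1) (.split 6 (-379) (.wt 1) (.lin 0))))) (.split 1 (-65) (.splitN 1910618
    (.split 3 443 (.split 2 532 (.split 6 (-506) (.lin 0) (.splitN 1573415 (.split 3 341 (.split
    2 433 (.split 6 (-407) (.lin 0) (.splitN 1226476 (.split 3 249 (.split 2 334 (.split 6 (-308)
    (.lin 0) (.wt 0)) (.lin 1)) (.wt 0)) (.wt 1))) (.lin 1)) (.wt 0)) (.wt 1))) (.lin 1)) (.wt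
    0)) (.wt 1)) (.lin 4))) (.lin 6)) (.lin 0))))) (.split 1 (-74) (.splitN 1607313 (.split 2
    8914 (.split 6 (-8894) (.lin 0) (.splitN 1505376 (.split 2 8356 (.split 6 (-8336) (.lin 0)
    (.split 3 1442 (.split 2 1549 (.split 6 (-1532) (.lin 0) (.split 3 621 (.split 2 730 (.split
    6 (-713) (.lin 0) (.splitN 871285 (.split 3 515 (.split 2 622 (.split 6 (-605) (.lin 0)
    (.splitN 805426 (.split 3 400 (.split 2 505 (.split 6 (-488) (.lin 0) (.splitN 719371 (.split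
    3 293 (.split 2 397 (.split 6 (-380) (.lin 0) (.wt 2)) (.lin 1)) (.wt 0)) (.wt 1))) (.lin 1))
    (.wt 0)) (.wt 1))) (.lin 1)) (.wt 0)) (.wt 1))) (.lin 1)) (.wt 2))) (.lin 1)) (.wt 2))) (.div
    2)) (.wt 1))) (.div 2)) (.wt 1)) (.lin 4)))) (.lin 4))))) (.split 1 (-83) (.splitN 1258281
    (.split 1 (-1026) .sq (.split 5 995 (.split 2 1070 (.split 3 952 (.splitN 997491 (.split 2
    939 (.split 6 (-920) (.lin 3) (.split 0 29 (.split 4 52 (.wt 2) (.lin 12)) (.split 1 (-92)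
    (.split 4 60 (.lin 12) (.splitN 757489 (.split 2 799 (.split 6 (-767) (.lin 3) (.split 3 255
    (.splitN 568884 (.split 2 672 (.split 6 (-641) (.lin 3) (.split 3 173 (.split 1 (-128)
    (.split 5 94 (.lin 4) (.splitN 359472 .cand (.wt 3))) (.lin 11)) (.splitN 496491 (.split 2
    598 (.split 1 (-390) (.lin 2) (.split 6 (-569) (.lin 3) (.split 5 334 (.split 1 (-363) (.lin
    4) (.split 5 308 (.split 1 (-336) (.lin 4) (.split 5 282 (.split 1 (-309) (.lin 4) (.split 5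
    257 (.split 1 (-291) (.lin 4) (.split 5 240 (.split 2 550 (.split 1 (-273) (.lin 8) (.split 6
    (-524) (.lin 3) (.split 5 180 (.split 2 487 (.split 1 (-210) (.lin 8) (.split 6 (-461) (.lin
    3) (.split 5 112 (.split 2 415 (.split 1 (-138) (.lin 8) (.split 6 (-389) (.lin 3) (.splitN
    418033 (.split 1 (-106) (.split 5 76 (.lin 4) (.splitN 345019 (.wt 0) (.wt 1))) (.wt 0)) (.wt
    1)))) (.lin 1)) (.wt 2)))) (.lin 1)) (.wt 2)))) (.lin 1)) (.wt 2))) (.wt 2))) (.wt 2))) (.wt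
    2))) (.wt 2)))) .sq) (.wt 1)))) .sq) (.wt 3)) (.splitN 473516 (.split 1 (-96) (.split 5 67
    (.lin 4) (.splitN 417518 (.split 1 (-112) (.split 2 405 (.lin 2) (.split 6 (-379) (.split 5
    85 (.lin 4) (.splitN 402776 .sq (.wt 1))) (.lin 3))) (.wt 0)) (.wt 1))) (.wt 0)) (.wt 1))))
    .sq) (.wt 1))) (.lin 4)))) .sq) (.wt 3)) (.lin 1)) .sq) (.lin 4))) (.wt 3)) (.lin 4)))))
    (.split 2 325 (.split 3 241 (.split 1 (-192) (.lin 11) (.split 5 176 (.split 5 61 (.split 1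
    (-93) (.lin 4) (.split 0 29 (.split 1 (-84) (.lin 4) (.split 4 52 (.splitN 319292 (.wt 1)
    (.split 1 (-67) (.wt 0) (.split 5 41 (.wt 2) (.lin 4)))) (.lin 12))) (.split 1 (-56) (.split
    6 (-154) (.split 4 60 (.lin 12) (.split 5 41 (.split 1 (-75) (.lin 4) (.split 3 169 (.split 2
    271 (.split 6 (-245) (.lin 3) (.split 5 32 (.split 1 (-66) (.lin 4) (.split 6 (-199) (.split
    2 216 (.lin 0) (.split 3 132 (.lin 6) (.split 5 27 (.split 2 253 (.split 1 (-57) (.lin 8)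
    (.splitN 3168261 (.wt 1) (.split 3 151 (.wt 0) (.split 2 243 (.lin 1) (.split 6 (-217)
    (.splitN 3696731 (.wt 1) (.wt 0)) (.lin 0)))))) (.lin 1)) (.split 1 (-65) (.splitN 918999
    (.split 3 147 (.split 2 235 (.split 6 (-209) (.lin 0) (.wt 0)) (.lin 1)) (.wt 0)) (.wt 1))
    (.lin 4))))) (.split 2 226 (.split 3 133 (.split 5 27 (.split 1 (-57) (.lin 4) (.splitN
    1462848 (.wt 1) (.split 3 105 (.wt 0) (.split 2 189 (.lin 1) (.split 6 (-163) (.splitN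
    1834877 (.wt 1) (.split 3 115 (.wt 0) (.split 2 207 (.lin 1) (.split 6 (-181) (.splitN
    2256896 (.wt 1) (.wt 0)) (.lin 0))))) (.lin 0)))))) (.split 1 (-65) (.splitN 828099 (.split 3
    117 (.split 2 208 (.split 3 111 (.split 6 (-173) (.lin 6) (.splitN 709060 (.split 3 102
    (.split 2 190 (.split 6 (-164) (.lin 0) (.splitN 652061 (.wt 0) (.wt 1))) (.lin 1)) (.wt 0))
    (.wt 1))) (.wt 2)) (.lin 1)) (.wt 0)) (.wt 1)) (.lin 8))) (.lin 6)) (.lin 0)))) (.split 2 198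
    (.lin 1) (.split 1 (-74) (.splitN 644977 (.split 3 136 (.split 2 235 (.split 6 (-209) (.lin
    0) (.splitN 551536 (.split 3 112 (.split 2 208 (.split 6 (-182) (.lin 0) (.splitN 496913 (.wt
    0) (.wt 1))) (.lin 1)) (.wt 0)) (.wt 1))) (.lin 1)) (.wt 0)) (.wt 1)) (.lin 8))))) (.lin 1))
    (.split 2 261 (.lin 1) (.split 6 (-235) (.splitN 730018 (.wt 5) (.split 5 39 (.split 1 (-66)
    (.lin 4) (.split 5 31 (.split 1 (-57) (.lin 4) (.split 6 (-276) (.wt 1) (.split 2 298 (.split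
    3 214 (.splitN 6105801 (.wt 1) (.split 3 190 (.wt 0) (.split 2 279 (.lin 1) (.split 6 (-253)
    (.splitN 9516815 (.wt 1) (.wt 0)) (.lin 0))))) (.lin 6)) (.lin 0)))) (.wt 2))) (.wt 1)))
    (.lin 3))))) (.split 1 (-83) (.splitN 546987 (.split 3 170 (.split 2 289 (.split 6 (-272)
    (.lin 0) (.split 3 162 (.split 6 (-254) (.lin 6) (.splitN 497428 (.split 3 143 (.split 2 262
    (.split 6 (-236) (.lin 3) (.splitN 470593 (.split 3 130 (.split 2 244 (.split 6 (-218) (.lin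
    3) (.split 3 110 (.split 2 226 (.split 6 (-200) (.lin 3) (.splitN 414951 (.split 3 102
    (.split 5 55 (.split 2 208 (.split 1 (-84) (.lin 2) (.split 6 (-182) (.lin 0) (.wt 0))) (.lin
    1)) (.wt 2)) (.wt 2)) (.wt 1))) (.lin 1)) (.wt 2))) (.lin 1)) (.wt 0)) (.wt 1))) (.lin 1))
    (.wt 0)) (.wt 1))) (.wt 0))) (.lin 1)) (.wt 0)) (.wt 1)) (.lin 8)))) (.lin 7)) (.lin 4))))
    (.split 2 216 (.lin 1) (.split 3 196 (.split 1 (-92) (.split 6 (-181) (.split 0 25 (.wt 2)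
    (.split 1 (-101) (.split 4 60 (.lin 12) (.splitN 209617 (.wt 0) (.splitN 402513 .cand (.wt
    1)))) (.lin 4))) (.lin 3)) (.lin 8)) (.lin 6)))) (.lin 1))) (.lin 6)) (.lin 3)))

def cert5_28_9 : Cert :=
  (.split 0 38 (.split 4 70 (.split 7 (-33) (.split 4 60 (.lin 12) (.splitN 1260773 (.split 2
    6988 (.split 3 6901 (.splitN 303758 (.split 2 512 (.split 3 421 (.splitN 268232 (.split 2 476
    (.split 3 385 (.split 6 (-443) (.lin 3) (.split 5 84 (.split 0 29 (.split 4 61 (.wt 2) (.lin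
    12)) (.split 2 189 (.lin 1) (.split 6 (-154) (.split 1 (-56) (.split 4 69 (.lin 12) (.splitN
    224691 .cand (.wt 3))) (.lin 4)) (.lin 3)))) (.split 2 243 (.lin 1) (.split 3 331 (.split 1
    (-110) (.split 6 (-199) (.splitN 133757 .sq (.splitN 144706 (.split 0 29 (.wt 0) (.split 1
    (-119) (.split 6 (-217) (.split 4 69 (.lin 12) .sq) (.lin 7)) (.lin 4))) (.wt 3))) (.lin 3))
    (.lin 8)) (.lin 6))))) (.lin 1)) .sq) (.wt 3)) (.lin 1)) .sq) (.wt 3)) (.lin 1)) (.div 2))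
    (.wt 0))) (.split 4 61 cert5_28_8 (.lin 12))) (.lin 12)) (.split 2 189 (.lin 1) (.split 1
    (-65) (.split 6 (-163) (.split 4 69 (.lin 12) (.split 7 (-33) (.split 4 78 (.lin 12) (.splitN
    446311 (.split 2 2470 (.split 6 (-2441) (.lin 3) (.splitN 417698 (.split 2 604 (.split 6
    (-578) (.lin 3) (.splitN 346214 (.split 2 542 (.split 3 439 (.split 6 (-515) (.lin 3) (.split
    5 91 (.split 1 (-138) (.lin 4) (.split 5 44 (.split 1 (-93) (.lin 4) (.splitN 147706 (.wt 3)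
    (.split 3 206 (.split 2 334 (.split 6 (-308) (.lin 3) (.split 5 32 (.split 6 (-290) (.lin 6)
    (.split 3 151 (.split 6 (-236) (.lin 6) (.splitN 261579 .cand (.wt 1))) (.splitN 251598 .cand
    (.wt 1)))) (.split 1 (-83) (.splitN 184058 (.split 3 169 (.split 2 298 (.split 6 (-272) (.lin
    0) (.split 0 51 (.split 1 (-84) (.lin 4) (.split 6 (-254) (.lin 7) (.split 4 79 (.splitN
    172401 (.splitN 159927 (.wt 3) (.split 3 115 (.split 2 235 (.split 6 (-200) (.lin 0) (.wt 1))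
    (.lin 1)) (.wt 0))) (.wt 1)) (.lin 8)))) (.wt 0))) (.lin 1)) (.wt 0)) (.wt 1)) (.lin 8))))
    (.lin 1)) (.split 2 315 (.lin 1) (.split 6 (-271) (.splitN 233306 .sq (.split 5 28 (.split 1
    (-75) (.lin 4) (.split 0 50 (.split 1 (-66) (.lin 4) (.split 4 79 (.splitN 261072 (.split 6
    (-281) (.split 2 341 (.split 6 (-299) (.lin 0) (.split 3 232 (.splitN 237014 .sq (.wt 0))
    (.lin 6))) .sq) (.wt 1)) (.wt 3)) (.lin 8))) (.wt 2))) (.wt 1))) (.lin 3)))))) (.split 2 225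
    (.lin 1) (.split 3 203 (.split 2 370 (.split 6 (-344) (.lin 3) (.split 0 51 (.split 1 (-129)
    (.lin 4) (.split 6 (-326) (.lin 7) (.split 4 79 (.split 3 142 (.split 2 307 (.split 6 (-272)
    (.lin 3) (.split 3 123 (.split 2 280 (.split 6 (-245) (.lin 3) (.split 3 113 (.split 5 73
    (.split 2 253 (.split 1 (-111) (.lin 8) (.split 6 (-218) (.lin 3) (.splitN 146667 (.wt 0)
    (.split 1 (-108) (.wt 1) (.wt 2))))) (.lin 1)) (.wt 2)) (.wt 2))) (.lin 1)) (.wt 2))) (.lin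
    1)) (.wt 2)) (.lin 12)))) (.wt 2))) (.lin 1)) (.wt 2))))) (.split 2 270 (.lin 1) (.split 1
    (-137) (.split 6 (-226) (.splitN 171179 .sq (.wt 1)) (.lin 3)) (.lin 8))))) (.lin 1)) .sq)
    (.wt 1))) .sq) (.wt 1))) (.div 2)) (.wt 1))) (.split 4 79 (.split 5 54 (.split 1 (-102) (.lin
    4) (.split 3 596 (.split 2 721 (.split 6 (-731) (.lin 0) (.split 3 291 (.split 2 415 (.split
    6 (-398) (.lin 3) (.split 3 204 (.split 2 325 (.split 6 (-308) (.lin 3) (.split 3 171 (.split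
    2 298 (.split 6 (-281) (.lin 3) (.split 3 160 (.split 6 (-263) (.lin 6) (.split 0 51 (.split
    2 280 (.split 1 (-93) (.lin 4) (.split 4 70 (.splitN 10761565 (.split 3 134 (.split 2 253
    (.split 6 (-227) (.lin 3) (.splitN 3166713 (.split 1 (-75) (.split 2 207 (.lin 2) (.split 5
    40 (.lin 4) (.wt 0))) (.wt 0)) (.wt 1))) (.lin 1)) (.wt 0)) (.wt 1)) (.lin 12))) (.lin 1))
    (.wt 0))) (.wt 0))) (.lin 1)) (.wt 0))) (.lin 1)) (.wt 0))) (.lin 1)) (.wt 0))) (.lin 1))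
    (.wt 0))) (.split 1 (-101) (.splitN 742170 (.split 2 4108 (.split 6 (-4088) (.lin 3) (.split
    3 172 (.split 6 (-343) (.split 2 360 (.lin 3) (.split 1 (-173) (.split 5 121 (.lin 4)
    (.splitN 309725 .sq (.splitN 387556 (.split 2 2146 (.split 6 (-2126) (.lin 3) (.split 5 506
    (.split 2 748 (.split 1 (-624) (.lin 2) (.split 6 (-731) (.lin 3) (.wt 6))) (.lin 1)) (.wt
    1))) (.div 2)) (.wt 1)))) (.lin 11))) (.wt 2)) (.wt 2))) (.div 2)) (.wt 1)) (.lin 8))) (.lin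
    12)))) (.lin 7)) (.lin 4))))

def cert5_28_10 : Cert :=
  (.split 7 (-42) (.split 2 135 (.lin 1) (.split 4 69 (.lin 12) (.splitN 1640447 (.split 2 9112
    (.split 3 9016 (.splitN 301112 (.split 1 (-3321) (.div 1) (.split 2 1660 (.split 6 (-4880)
    (.lin 0) (.split 3 4840 (.split 5 1544 (.split 1 (-512) .sq (.split 5 482 (.split 2 527
    (.split 3 430 (.split 5 410 (.splitN 266360 (.split 2 492 (.split 3 394 cert5_28_5 (.lin 1))
    .sq) (.wt 3)) (.lin 1)) (.lin 1)) .sq) (.lin 4))) (.lin 1)) (.lin 6))) (.div 2))) (.wt 3))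
    (.lin 1)) (.div 2)) (.wt 1)))) (.split 4 88 (.split 3 94 (.split 0 38 (.split 4 70 (.split 6
    (-324) (.split 2 342 (.lin 3) (.split 1 (-236) (.split 5 202 (.lin 4) (.splitN 326141 .sq
    (.wt 0))) (.lin 11))) (.split 2 361 (.split 5 266 (.split 6 (-170) (.split 2 189 (.lin 3)
    (.split 1 (-83) (.split 5 49 (.lin 4) (.split 0 28 (.wt 2) (.split 4 60 (.lin 12) (.split 3
    61 (.wt 2) (.split 1 (-246) (.lin 11) (.split 5 212 (.split 7 (-35) (.wt 2) (.split 4 61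
    (.splitN 215478 (.wt 1) (.splitN 400688 .cand (.wt 3))) (.lin 12))) (.lin 4))))))) (.lin
    11))) (.split 2 208 (.split 1 (-120) (.lin 11) (.split 5 113 (.split 5 95 (.split 7 (-33)
    (.split 2 126 (.lin 1) (.split 4 60 (.lin 12) (.split 3 47 (.wt 2) (.split 1 (-111) (.lin 11)
    (.split 5 86 (.split 6 (-100) (.split 0 26 (.wt 2) (.split 2 144 (.lin 1) (.split 6 (-109)
    (.split 1 (-56) (.split 5 77 (.split 4 69 (.lin 12) (.split 3 62 (.wt 2) (.split 2 162 (.lin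
    1) (.split 1 (-102) (.lin 2) (.split 1 (-93) (.lin 11) (.split 6 (-127) (.split 5 59 (.splitN
    135982 (.wt 1) (.split 1 (-77) (.wt 0) (.split 5 41 (.wt 2) (.lin 4)))) (.lin 4)) (.lin
    3))))))) (.lin 4)) (.lin 4)) (.lin 3)))) (.lin 6)) (.lin 4)))))) (.split 2 190 (.split 4 61
    (.split 3 65 (.split 0 29 (.wt 2) (.split 2 126 (.lin 1) (.split 5 86 (.split 6 (-100)
    (.split 1 (-56) (.split 4 60 (.lin 12) (.split 3 43 (.wt 2) (.split 2 135 (.lin 1) (.split 1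
    (-111) (.lin 2) (.split 5 77 (.split 6 (-109) (.splitN 586631 (.split 5 23 (.wt 1) (.split 2
    144 (.lin 1) (.split 1 (-65) (.split 6 (-118) (.splitN 257078 (.wt 1) (.splitN 415736 (.split
    5 32 (.wt 1) (.split 2 153 (.lin 1) (.split 1 (-74) (.split 6 (-127) (.split 1 (-106) (.wt 0)
    (.split 5 68 (.splitN 290179 (.wt 1) (.split 1 (-88) (.wt 0) (.split 5 50 (.splitN 325077
    (.wt 1) (.wt 0)) (.lin 4)))) (.lin 4))) (.lin 3)) (.lin 8)))) (.wt 5))) (.lin 3)) (.lin 8))))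
    (.wt 5)) (.lin 3)) (.lin 1)))))) (.lin 4)) (.lin 3)) (.lin 1)))) (.split 1 (-93) (.lin 2)
    (.split 5 68 (.split 6 (-118) (.split 0 25 (.wt 2) (.split 2 153 (.lin 1) (.split 5 59
    (.split 6 (-127) (.split 1 (-56) (.split 4 60 (.lin 12) (.split 5 41 (.split 1 (-75) (.lin 4)
    (.split 5 32 (.split 1 (-66) (.lin 4) (.split 5 27 (.split 1 (-57) (.lin 8) (.splitN 1312841
    (.wt 1) (.wt 0))) (.split 2 162 (.lin 1) (.split 1 (-65) (.split 6 (-136) (.splitN 535802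
    (.wt 1) (.split 3 76 (.wt 0) (.split 2 171 (.lin 1) (.split 6 (-145) (.splitN 588830 (.wt 1)
    (.split 3 83 (.wt 0) (.split 6 (-154) (.wt 0) (.lin 6)))) (.lin 0))))) (.lin 0)) (.lin 8)))))
    (.split 2 171 (.lin 1) (.split 1 (-74) (.split 6 (-145) (.splitN 405151 (.wt 1) (.split 3 74
    (.wt 0) (.split 6 (-154) (.splitN 429911 (.wt 1) (.split 3 80 (.wt 0) (.split 2 189 (.lin 1)
    (.split 6 (-163) (.splitN 471348 (.wt 0) (.wt 0)) (.lin 0))))) (.lin 6)))) (.lin 0)) (.lin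
    8))))) (.split 2 180 (.lin 1) (.split 3 79 (.split 1 (-83) (.split 6 (-154) (.splitN 326124
    (.wt 1) (.split 3 71 (.wt 0) (.split 5 50 (.split 1 (-84) (.lin 2) (.split 6 (-163) (.splitN
    351219 (.wt 0) (.wt 0)) (.lin 6))) (.lin 1)))) (.lin 3)) (.lin 8)) (.lin 6))))) (.lin 4))
    (.lin 3)) (.lin 1)))) (.lin 6)) (.lin 1)))) (.lin 12)) (.lin 9))) (.lin 4)) (.lin 1))) (.lin
    3))) (.lin 1)) (.lin 3))) (.lin 12)) (.split 2 135 (.lin 1) (.split 1 (-65) (.split 6 (-109)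
    (.split 4 69 (.lin 12) cert5_28_7) (.lin 7)) (.lin 4)))) (.split 2 171 (.lin 1) (.split 6
    (-136) (.split 6 (-145) cert5_28_9 (.lin 7)) (.lin 6)))) (.lin 12)))

def cert5_28_11 : Cert :=
  (.split 3 56 (.split 6 (-263) (.lin 6) (.split 0 97 (.split 4 151 (.split 5 45 (.split 1 (-138)
    (.lin 4) (.split 6 (-200) (.lin 6) (.split 0 79 (.split 1 (-120) (.lin 4) (.split 4 133
    (.split 5 32 (.split 1 (-111) (.lin 4) (.split 0 61 (.wt 2) (.split 1 (-92) (.split 6 (-136)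
    (.split 4 114 (.lin 12) (.split 3 45 (.wt 2) (.split 6 (-145) (.splitN 126059 (.splitN 98844
    (.wt 6) (.split 7 (-53) (.wt 0) (.split 4 124 (.splitN 114892 (.wt 1) (.split 5 25 (.wt 1)
    (.split 6 (-154) (.split 0 75 (.wt 0) (.split 2 207 (.lin 1) (.split 1 (-110) (.split 6
    (-163) (.wt 0) (.lin 0)) (.lin 2)))) (.lin 6)))) (.lin 12)))) (.wt 5)) (.lin 7)))) (.lin 7))
    (.lin 4)))) (.split 2 189 (.lin 1) (.split 1 (-92) (.split 6 (-145) (.split 0 64 (.wt 2)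
    (.split 1 (-110) (.split 6 (-154) (.split 4 114 (.lin 8) (.splitN 95687 .sq (.split 7 (-53)
    (.wt 0) (.split 4 124 (.splitN 108375 (.wt 1) (.split 3 46 (.wt 0) (.split 2 207 (.lin 1)
    (.split 6 (-163) (.split 0 70 (.wt 0) (.split 1 (-119) (.split 6 (-172) (.split 4 123 (.lin
    6) (.splitN 115127 .sq (.wt 0))) (.lin 7)) (.lin 4))) (.lin 6))))) (.lin 8))))) (.lin 7))
    (.lin 4))) (.lin 7)) (.lin 8)))) (.lin 12))) (.split 2 198 (.lin 1) (.split 1 (-92) (.split 1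
    (-110) (.split 6 (-154) (.split 4 132 (.lin 12) (.splitN 105344 .sq (.split 7 (-54) (.wt 0)
    (.split 4 142 (.split 5 32 (.split 6 (-182) (.lin 6) (.split 3 44 (.wt 2) (.split 6 (-163)
    (.split 5 24 (.wt 2) (.split 2 216 (.lin 1) (.split 1 (-119) (.split 6 (-172) (.splitN 122111
    .sq (.wt 1)) (.lin 6)) (.lin 2)))) (.lin 6)))) (.split 2 216 (.lin 1) (.split 1 (-128)
    (.split 6 (-172) (.splitN 124136 .sq (.wt 1)) (.lin 6)) (.lin 8)))) (.lin 12))))) (.lin 7))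
    (.lin 4)) (.lin 2)))))) (.split 2 198 (.lin 1) (.split 1 (-101) (.split 1 (-110) (.split 6
    (-154) (.splitN 96839 .sq (.split 7 (-55) (.wt 3) (.split 4 142 (.splitN 123557 (.split 0 79
    (.split 4 124 (.splitN 114772 (.split 3 47 (.wt 2) (.split 6 (-163) (.split 0 61 (.wt 2)
    (.split 2 216 (.lin 1) (.split 1 (-119) (.split 6 (-172) (.split 4 114 (.lin 12) .sq) (.lin
    7)) (.lin 2)))) (.lin 6))) (.wt 3)) (.lin 12)) (.split 2 225 (.lin 1) (.split 1 (-128)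
    (.split 6 (-172) (.split 4 132 (.lin 12) .sq) (.lin 3)) (.lin 2)))) (.wt 3)) (.lin 12))))
    (.lin 7)) (.lin 4)) (.lin 8)))) (.lin 12)) (.split 2 216 (.lin 1) (.split 1 (-110) (.split 1
    (-128) (.split 6 (-172) (.split 4 150 (.lin 12) (.splitN 131588 .sq (.splitN 139357 (.split 5
    34 (.split 6 (-227) (.lin 6) (.split 3 45 (.wt 0) (.split 5 27 (.split 0 109 (.wt 0) (.split
    2 234 (.lin 1) (.split 6 (-190) (.split 4 159 (.lin 6) .sq) (.lin 7)))) (.wt 1)))) (.wt 1))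
    (.wt 3)))) (.lin 7)) (.lin 4)) (.lin 2))))) (.split 2 189 (.lin 1) (.split 6 (-136) (.split 6
    (-145) (.splitN 173938 (.split 0 97 (.split 2 289 (.split 6 (-236) (.lin 7) (.split 4 151
    (.split 5 45 (.split 2 262 (.split 1 (-156) (.lin 2) (.split 1 (-138) (.lin 4) (.split 6
    (-218) (.lin 6) (.split 0 79 (.split 2 244 (.split 1 (-120) (.lin 4) (.split 6 (-191) (.lin
    7) (.split 4 133 (.split 5 32 (.split 1 (-111) (.lin 4) (.split 7 (-51) (.split 4 114 (.lin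
    12) (.splitN 111672 (.split 0 70 (.split 4 124 (.splitN 106891 (.split 5 23 (.wt 2) (.split 2
    207 (.lin 1) (.split 1 (-92) (.split 6 (-154) (.splitN 100160 .sq (.split 0 65 (.wt 0)
    (.split 1 (-101) (.split 6 (-163) (.split 4 123 (.lin 8) .sq) (.lin 7)) (.lin 4)))) (.lin 6))
    (.lin 8)))) (.wt 3)) (.lin 12)) (.split 2 216 (.lin 1) (.split 6 (-163) (.split 1 (-101)
    (.split 4 132 (.lin 12) .sq) (.lin 4)) (.lin 3)))) (.wt 3))) (.split 2 226 (.split 4 124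
    (.split 0 70 (.split 1 (-102) (.lin 4) (.split 6 (-173) (.lin 7) (.splitN 112446 (.wt 3)
    .cand))) (.split 2 207 (.lin 1) (.split 6 (-163) (.split 1 (-101) (.split 4 123 (.lin 12)
    (.splitN 118624 (.wt 0) (.splitN 138575 (.split 5 31 (.split 1 (-102) (.lin 4) (.split 6
    (-173) (.lin 6) (.split 3 67 (.split 2 208 (.split 6 (-164) (.lin 0) (.splitN 128217 (.wt 0)
    (.wt 0))) (.lin 1)) (.wt 0)))) (.wt 1)) (.wt 1)))) (.lin 4)) (.lin 3)))) (.lin 12)) (.lin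
    1)))) (.split 2 207 (.lin 1) (.split 1 (-101) (.split 6 (-163) (.splitN 102509 .sq (.split 7
    (-53) (.wt 1) (.split 0 68 (.split 1 (-102) (.lin 4) (.split 6 (-173) (.lin 7) (.split 4 106
    (.splitN 113599 (.wt 3) (.wt 1)) (.lin 8)))) (.wt 2)))) (.lin 7)) (.lin 4)))) (.lin 12))))
    (.lin 1)) (.split 2 216 (.lin 1) (.split 1 (-110) (.split 6 (-172) (.split 4 132 (.lin 12)
    (.splitN 120572 .sq (.split 5 33 (.split 1 (-129) (.lin 4) (.split 6 (-200) (.lin 7) (.split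
    7 (-55) (.wt 0) (.split 4 142 (.splitN 124755 (.wt 5) (.split 5 27 (.split 3 66 (.split 6
    (-182) (.lin 6) (.split 0 92 (.split 1 (-111) (.lin 4) (.split 4 133 (.splitN 133019 (.wt 0)
    (.wt 0)) (.lin 8))) (.wt 2))) (.wt 2)) (.wt 1))) (.lin 12))))) (.wt 1)))) (.lin 7)) (.lin
    4))))))) (.lin 1)) (.split 2 216 (.lin 1) (.split 1 (-101) (.split 1 (-110) (.split 6 (-172)
    (.splitN 112067 .sq (.split 0 74 (.split 6 (-209) (.lin 7) (.split 4 124 (.wt 1) (.lin 12)))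
    (.wt 1))) (.lin 7)) (.lin 4)) (.lin 8)))) (.lin 12))) (.lin 1)) (.split 2 234 (.lin 1)
    (.split 1 (-110) (.split 1 (-128) (.split 6 (-190) (.split 4 150 (.lin 12) (.splitN 148112
    .sq (.wt 1))) (.lin 7)) (.lin 4)) (.lin 2)))) (.wt 1)) (.lin 7)) (.lin 6))))

def cert5_28_12 : Cert :=
  (.split 7 (-33) (.split 4 96 (.lin 12) (.split 3 65 (.split 5 58 (.split 2 271 (.split 1 (-174)
    (.lin 8) (.split 6 (-236) (.lin 6) (.split 0 92 (.split 2 235 (.split 1 (-156) (.lin 2)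
    (.split 1 (-138) (.lin 4) (.split 6 (-200) (.lin 7) (.split 4 124 (.split 3 52 (.splitN
    252724 (.split 5 36 (.split 2 208 (.split 1 (-129) (.lin 2) (.split 0 74 (.split 1 (-102)
    (.lin 4) (.splitN 150881 (.wt 1) .cand)) (.split 6 (-145) (.split 4 114 (.lin 12) (.splitN
    151945 (.wt 1) .cand)) (.lin 7)))) (.lin 1)) (.split 2 180 (.lin 1) (.split 1 (-101) (.split
    6 (-145) (.split 0 74 (.split 2 208 (.split 6 (-182) (.lin 3) (.split 1 (-120) (.lin 4)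
    (.split 4 106 (.split 3 47 (.splitN 143886 (.wt 1) (.split 0 62 (.wt 0) (.split 1 (-110)
    (.split 6 (-154) (.split 4 105 (.lin 12) (.splitN 150807 (.split 1 (-111) (.split 2 198 (.lin
    2) (.split 6 (-163) (.wt 0) (.lin 0))) (.wt 1)) (.wt 0))) (.lin 7)) (.lin 4)))) (.splitN
    164878 (.split 0 69 (.split 1 (-111) (.lin 4) (.split 6 (-164) (.lin 7) (.wt 2))) (.wt 0))
    (.wt 1))) (.lin 12)))) (.lin 1)) (.split 1 (-119) (.split 4 114 (.lin 12) (.splitN 140306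
    (.wt 0) (.splitN 170765 (.split 3 49 .cand (.wt 0)) (.wt 1)))) (.lin 4))) (.lin 6)) (.lin
    8)))) (.wt 3)) (.split 2 180 (.lin 1) (.split 0 82 (.split 4 115 (.split 5 37 (.split 2 208
    (.split 1 (-111) (.lin 2) (.split 6 (-173) (.lin 6) (.splitN 172623 (.wt 5) (.split 0 70
    (.split 1 (-102) (.lin 4) (.split 6 (-164) (.lin 7) (.split 4 106 (.split 5 30 (.split 6
    (-155) (.lin 6) (.splitN 205891 (.split 0 65 (.split 1 (-84) (.lin 4) (.split 6 (-146) (.lin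
    7) (.wt 0))) (.wt 0)) (.wt 1))) (.wt 1)) (.lin 12)))) (.wt 2))))) (.lin 1)) (.wt 2)) (.lin
    12)) (.wt 2)))) (.lin 12))))) (.lin 1)) (.split 1 (-119) (.split 4 132 (.lin 12) (.splitN
    250775 (.splitN 153822 (.wt 3) .cand) (.wt 1))) (.lin 4))))) (.lin 1)) (.split 2 198 (.lin 1)
    (.split 1 (-119) (.splitN 180357 (.split 0 110 (.split 4 142 (.split 0 83 (.split 4 115
    (.split 3 52 (.split 3 47 .cand .cand) (.split 1 (-192) (.lin 2) (.splitN 140402 (.wt 0)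
    (.splitN 153453 (.split 0 67 (.split 4 97 (.split 1 (-131) (.split 2 234 (.lin 2) (.split 5
    76 (.lin 1) (.wt 1))) (.wt 0)) (.lin 12)) (.wt 0)) (.wt 1))))) (.lin 12)) (.split 1 (-146)
    (.split 4 123 (.lin 12) (.splitN 158581 (.split 3 48 (.split 0 102 (.split 4 133 (.split 5 97
    (.split 2 271 (.split 1 (-192) (.lin 2) (.split 6 (-236) (.lin 6) (.split 0 95 (.split 4 124
    (.split 5 76 (.split 2 235 (.split 1 (-156) (.lin 2) (.split 6 (-209) (.lin 0) (.splitN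
    152678 (.wt 0) (.wt 1)))) (.lin 1)) (.wt 2)) (.lin 12)) (.wt 2)))) (.lin 1)) (.wt 2)) (.lin
    12)) (.wt 2)) (.wt 0)) (.wt 1))) (.lin 4))) (.lin 12)) (.wt 2)) (.wt 1)) (.lin 8)))) (.split
    1 (-183) (.lin 2) (.splitN 258231 (.splitN 153916 (.wt 5) (.split 0 122 (.split 4 151 (.split
    5 65 (.split 0 84 (.split 1 (-138) (.lin 4) (.split 6 (-227) (.lin 7) (.split 4 115 (.splitN
    166774 (.wt 5) (.split 5 40 (.split 1 (-111) (.lin 8) (.split 6 (-200) (.lin 6) (.splitN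
    223015 (.split 0 74 (.split 1 (-102) (.lin 4) (.split 4 106 (.split 3 84 (.split 2 217
    (.split 6 (-182) (.lin 6) (.splitN 211276 (.split 0 65 (.split 1 (-93) (.lin 4) (.split 1
    (-86) (.split 5 31 (.lin 4) (.wt 0)) (.wt 0))) (.wt 0)) (.wt 1))) (.lin 1)) (.wt 0)) (.lin
    12))) (.wt 0)) (.wt 1)))) (.wt 1))) (.lin 12)))) (.wt 2)) (.wt 1)) (.lin 12)) (.wt 0))) (.wt
    1))))) (.split 0 122 (.split 4 142 (.split 3 66 (.split 5 110 (.split 5 48 (.split 2 244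
    (.split 1 (-174) (.lin 2) (.split 1 (-156) (.lin 8) (.split 6 (-218) (.lin 6) (.split 0 102
    (.split 1 (-138) (.lin 4) (.split 6 (-200) (.lin 7) (.split 0 92 (.split 4 115 (.split 3 56
    (.split 6 (-182) (.lin 6) (.split 0 84 (.split 1 (-120) (.lin 4) (.split 4 106 (.split 5 39
    (.split 2 190 (.split 6 (-164) (.lin 6) (.split 0 75 (.split 1 (-102) (.lin 4) (.split 6
    (-155) (.lin 7) (.split 4 97 (.splitN 2879086 (.split 3 51 (.split 6 (-146) (.lin 6) (.splitN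
    730198 (.wt 5) (.split 5 29 (.split 2 163 (.split 6 (-137) (.lin 6) (.splitN 1493235 (.split
    0 65 (.split 2 154 (.split 1 (-84) (.lin 2) (.split 6 (-128) (.lin 0) (.wt 0))) (.lin 1))
    (.wt 0)) (.wt 1))) (.lin 1)) (.wt 1)))) (.wt 0)) (.wt 1)) (.lin 12)))) (.wt 2))) (.lin 1))
    (.wt 2)) (.lin 12))) (.wt 2))) (.wt 2)) (.lin 12)) (.wt 2)))) (.wt 2))))) (.lin 1)) (.split 1
    (-110) (.splitN 687564 (.split 0 91 (.split 1 (-192) (.lin 4) (.split 4 115 (.splitN 624922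
    (.split 0 85 (.split 2 271 (.split 4 106 (.split 3 54 (.split 6 (-236) (.lin 6) (.splitN
    562695 (.split 3 51 (.split 0 69 (.split 2 235 (.split 1 (-165) (.lin 2) (.split 6 (-209)
    (.lin 3) (.split 4 88 (.splitN 464116 (.split 1 (-114) (.split 5 58 (.lin 4) (.wt 2)) (.wt
    0)) (.wt 1)) (.lin 12)))) (.lin 1)) (.wt 2)) (.wt 0)) (.wt 1))) (.wt 0)) (.lin 12)) (.lin 1))
    (.wt 0)) (.wt 1)) (.lin 12))) (.wt 0)) (.wt 1)) (.lin 8))) (.wt 2)) (.wt 2)) (.lin 12)) (.wt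
    2)))

def cert5_28_13 : Cert :=
  (.split 0 130 (.split 4 160 (.split 6 (-262) (.split 2 288 (.lin 9) (.split 1 (-173) (.split 5
    49 (.lin 4) (.splitN 198692 .sq (.splitN 4854452 (.split 2 26968 (.split 6 (-27002) (.lin 3)
    (.splitN 4548280 (.split 1 (-2093) .sq (.split 2 2215 (.split 6 (-4169) (.lin 0) (.split 6
    (-2252) (.lin 3) (.splitN 2683706 (.split 1 (-1586) .sq (.split 2 1702 (.split 5 1571 (.split
    6 (-1739) (.lin 3) (.splitN 2370401 (.split 2 1501 (.split 6 (-1532) (.lin 3) (.splitN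
    2216792 (.split 6 (-1444) .sq (.split 7 (-33) (.split 4 96 (.lin 12) (.splitN 232782 (.split
    2 1282 (.split 6 (-1307) (.lin 3) (.split 0 94 (.split 5 85 (.lin 4) (.wt 1)) (.wt 1))) (.div
    2)) (.wt 1))) (.split 3 72 (.split 5 67 (.lin 1) (.split 1 (-191) (.split 0 122 (.split 3 64
    (.split 5 85 (.lin 1) (.split 0 112 (.split 5 94 (.lin 1) (.split 4 133 (.splitN 684544
    (.split 1 (-714) .sq (.split 2 802 (.split 6 (-821) (.lin 3) (.split 6 (-776) (.lin 9)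
    (.splitN 231669 (.wt 3) (.split 0 96 (.split 4 115 (.split 3 56 (.split 5 121 (.lin 1)
    (.split 1 (-209) (.splitN 491904 (.split 1 (-556) .sq (.split 2 631 (.split 6 (-632) (.lin 3)
    (.splitN 466369 (.split 0 86 (.split 5 130 (.lin 1) (.split 4 106 (.split 2 566 (.split 1
    (-489) (.lin 2) (.split 6 (-551) (.lin 3) (.splitN 426295 (.split 2 530 (.split 6 (-515)
    (.lin 3) (.split 3 51 .cand (.wt 2))) .sq) (.wt 1)))) .sq) (.lin 12))) (.wt 2)) (.wt 1)))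
    (.lin 2))) (.wt 1)) (.lin 2))) (.wt 2)) (.lin 12)) (.wt 2))))) (.lin 2))) (.wt 1)) (.lin
    12))) (.wt 2))) (.wt 2)) (.wt 2)) (.lin 2))) (.wt 2)))) (.wt 1))) .sq) (.wt 1))) (.lin 1))
    (.lin 2))) (.wt 1)))) (.lin 2))) (.wt 1))) (.div 2)) (.wt 1)))) (.lin 11))) (.split 2 352
    (.split 2 289 (.split 1 (-210) (.lin 11) cert5_28_12) (.lin 9)) (.lin 3))) (.lin 12)) (.split
    2 225 (.lin 1) (.split 1 (-155) (.split 6 (-199) (.split 4 159 (.lin 12) (.splitN 161153 .sq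
    (.split 3 87 (.split 7 (-33) (.split 4 168 (.lin 12) (.splitN 428474 (.split 1 (-4761) (.div
    1) (.split 2 4870 (.split 2 2380 (.split 1 (-2298) (.lin 2) (.split 4 2311 (.split 6 (-2342)
    (.lin 9) (.splitN 394956 (.split 2 2182 (.split 1 (-2100) (.lin 2) (.split 4 2113 (.split 6
    (-2144) (.lin 9) (.split 5 369 (.split 0 495 (.split 2 973 (.split 1 (-894) (.lin 2) (.split
    6 (-938) (.lin 7) (.split 4 529 (.split 5 149 (.split 2 757 (.split 1 (-678) (.lin 2) (.split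
    6 (-722) (.lin 6) (.split 5 124 (.split 3 69 (.split 6 (-677) (.lin 6) (.splitN 327516
    (.split 5 104 (.split 0 421 (.split 2 622 (.split 1 (-543) (.lin 2) (.split 4 457 (.split 1
    (-430) .sq (.split 2 523 (.split 6 (-488) (.lin 9) (.splitN 303651 (.split 2 434 (.split 1
    (-354) (.lin 2) (.split 4 367 (.split 6 (-398) (.lin 9) (.splitN 284613 (.split 3 59 (.split
    2 411 (.split 6 (-371) (.lin 9) (.split 5 36 (.split 6 (-285) (.split 4 240 (.lin 6) (.split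
    1 (-227) (.split 2 324 (.lin 9) .sq) (.lin 8))) (.split 4 250 (.splitN 248998 .cand (.wt 1))
    (.lin 6))) (.split 1 (-173) (.split 2 252 (.lin 10) (.split 6 (-217) (.splitN 192176 .sq (.wt
    1)) (.lin 6))) (.lin 8)))) .sq) (.wt 2)) (.wt 1))) (.lin 8))) .sq) (.wt 1))) (.lin 2))) (.lin
    12))) (.lin 1)) .sq) (.wt 6)) (.wt 1))) (.wt 2)) (.wt 1)))) (.lin 1)) (.wt 1)) (.lin 12))))
    (.lin 1)) .sq) (.wt 1))) (.lin 8))) (.div 2)) (.wt 1))) (.lin 8))) (.div 2)) (.lin 2))) (.wt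
    1))) (.splitN 518524 (.wt 5) (.split 0 1932 (.split 4 1951 (.split 3 61 (.split 5 193 (.split
    2 2197 (.split 1 (-2127) (.lin 2) (.split 6 (-2171) (.lin 6) (.split 0 710 (.split 2 982
    (.split 1 (-912) (.lin 2) (.split 6 (-956) (.lin 7) (.split 0 390 (.split 2 658 (.split 1
    (-588) (.lin 2) (.split 6 (-632) (.lin 7) (.split 0 275 (.split 2 541 (.split 1 (-471) (.lin
    2) (.split 6 (-515) (.lin 7) (.split 0 228 (.split 2 496 (.split 1 (-426) (.lin 2) (.split 6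
    (-470) (.lin 7) (.split 0 210 (.split 1 (-390) (.lin 4) (.split 4 232 (.split 3 48 (.split 6
    (-434) (.lin 6) (.split 0 195 (.split 4 214 (.split 5 74 (.split 2 325 (.split 1 (-255) (.lin
    2) (.split 6 (-299) (.lin 6) (.splitN 13905579 (.wt 0) (.wt 1)))) (.lin 1)) (.wt 0)) (.lin
    12)) (.wt 0))) (.wt 0)) (.lin 12))) (.wt 0)))) (.lin 1)) (.wt 0)))) (.lin 1)) (.wt 0))))
    (.lin 1)) (.wt 0)))) (.lin 1)) (.wt 0)))) (.lin 1)) (.wt 1)) (.wt 0)) (.lin 12)) (.wt 0))))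
    (.wt 2)))) (.lin 7)) (.lin 4))))

def cert5_28_14 : Cert :=
  (.split 7 (-42) (.split 2 171 (.lin 1) (.split 4 105 (.lin 12) (.splitN 313125 (.split 2 1732
    (.split 1 (-1641) (.lin 2) (.split 4 1672 (.split 6 (-1685) (.lin 9) (.splitN 288305 (.split
    0 466 (.split 4 520 (.split 1 (-470) .sq (.split 4 493 (.split 2 493 (.split 6 (-443) (.lin
    9) (.splitN 235739 (.split 2 437 (.split 1 (-345) (.lin 2) (.split 4 376 (.split 6 (-389)
    (.lin 9) (.split 3 114 (.split 3 74 (.split 0 140 (.split 4 187 (.splitN 192583 (.split 2 386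
    (.split 6 (-335) (.lin 9) (.split 5 72 (.split 2 325 (.split 6 (-281) (.lin 6) cert5_28_11)
    (.lin 1)) (.split 2 225 (.lin 1) (.split 1 (-137) (.split 6 (-172) (.splitN 124280 .sq (.wt
    1)) (.lin 6)) (.lin 4))))) .sq) (.wt 3)) (.lin 12)) (.split 2 252 (.lin 1) (.split 1 (-164)
    (.split 6 (-208) (.split 4 186 (.lin 12) (.splitN 193796 .sq (.wt 1))) (.lin 7)) (.lin 4))))
    (.split 6 (-163) (.splitN 179175 (.split 2 348 (.split 6 (-299) (.lin 9) (.split 4 241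
    (.splitN 167347 (.split 2 329 (.split 6 (-281) (.lin 9) (.split 5 46 (.split 0 97 (.split 2
    298 (.split 1 (-138) (.lin 4) (.split 6 (-245) (.lin 7) (.split 4 169 (.split 4 151 (.split 0
    79 (.split 6 (-227) (.lin 7) (.split 4 133 (.split 5 32 (.split 1 (-111) (.lin 4) (.split 7
    (-51) (.split 4 114 (.lin 12) (.splitN 121465 (.split 2 245 (.split 6 (-191) (.lin 9)
    (.splitN 117094 (.split 2 232 (.split 0 70 (.split 1 (-93) (.lin 2) (.split 3 88 (.split 4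
    124 (.split 6 (-173) (.lin 9) (.split 5 27 (.splitN 105863 (.wt 1) (.split 0 62 (.wt 0)
    (.split 2 225 (.lin 1) (.split 3 79 (.split 1 (-92) (.split 4 123 (.lin 0) (.split 6 (-172)
    .sq (.lin 0))) (.lin 2)) (.lin 1))))) (.split 0 61 (.split 1 (-92) (.split 2 225 (.lin 10)
    (.split 4 115 (.split 6 (-172) .sq (.lin 0)) (.lin 5))) (.lin 8)) (.lin 1)))) (.lin 8)) (.lin
    1))) (.lin 1)) .sq) (.wt 1))) .sq) (.wt 1))) (.splitN 108907 (.wt 0) .cand))) (.split 2 225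
    (.lin 1) (.split 1 (-101) (.split 6 (-172) (.splitN 115856 .sq (.wt 1)) (.lin 6)) (.lin 4))))
    (.lin 12))) (.split 2 234 (.lin 1) (.split 1 (-110) (.split 6 (-190) (.split 4 132 (.lin 12)
    (.splitN 137744 .sq (.wt 1))) (.lin 7)) (.lin 4)))) (.lin 12)) (.lin 8)))) (.lin 1)) (.split
    2 252 (.lin 1) (.split 1 (-128) (.split 6 (-208) (.split 4 150 (.lin 12) .sq) (.lin 7)) (.lin
    4)))) (.split 2 234 (.lin 1) (.split 1 (-101) (.split 6 (-181) (.splitN 125900 .sq (.wt 1))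
    (.lin 6)) (.lin 8))))) .sq) (.wt 1)) (.lin 10))) .sq) (.wt 1)) (.lin 7))) (.split 1 (-273)
    (.lin 2) (.split 2 243 (.lin 10) (.split 4 304 (.split 6 (-190) (.splitN 133352 .sq (.splitN
    165326 (.split 5 36 (.split 7 (-55) (.wt 1) (.split 0 149 (.split 1 (-174) (.lin 4) (.split 0
    80 (.split 4 124 (.splitN 154565 (.split 5 31 (.split 1 (-102) (.lin 4) (.split 3 251 (.split
    6 (-353) (.lin 6) (.split 3 231 (.split 6 (-326) (.lin 6) (.split 0 70 (.split 1 (-93) (.lin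
    4) (.split 4 115 (.split 3 190 (.split 2 325 (.split 6 (-290) (.lin 0) (.splitN 145906
    (.split 0 68 (.split 1 (-84) (.lin 4) (.split 6 (-272) (.lin 7) (.split 3 126 (.split 2 253
    (.split 6 (-209) (.lin 0) (.wt 0)) (.lin 1)) (.wt 0)))) (.wt 0)) (.wt 1))) (.lin 1)) (.wt 0))
    (.lin 8))) (.wt 2))) (.wt 0))) (.wt 0))) (.wt 1)) (.wt 1)) (.lin 12)) (.wt 2))) (.wt 0)))
    (.wt 1)) (.wt 1))) (.lin 6)) (.lin 6)))))) (.lin 8))) .sq) (.wt 1))) .sq) (.lin 8))) (.lin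
    12)) .sq) (.wt 1))) (.lin 8))) (.div 2)) (.wt 1)))) (.split 3 219 (.split 3 95 cert5_28_13
    (.split 0 143 (.split 4 178 (.split 5 237 (.split 2 622 (.split 1 (-498) (.lin 2) (.split 6
    (-677) (.lin 3) (.split 6 (-596) (.lin 6) (.split 0 93 (.split 1 (-318) (.lin 4) (.split 6
    (-533) (.lin 7) (.split 4 124 (.split 3 195 (.split 6 (-506) (.lin 7) (.split 0 87 (.split 4
    115 (.split 5 44 (.split 2 343 (.split 1 (-129) (.lin 8) (.split 6 (-335) (.lin 3) (.split 1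
    (-120) (.lin 4) (.split 6 (-317) (.lin 6) (.splitN 313600 (.split 7 (-33) (.split 4 96 (.lin
    12) (.splitN 236045 (.split 0 71 (.split 1 (-111) (.lin 4) (.split 6 (-299) (.lin 7) (.split
    0 68 (.split 1 (-102) (.lin 4) (.split 1 (-84) (.split 5 31 (.lin 4) (.splitN 229547 (.wt 0)
    (.wt 1))) (.wt 0))) (.wt 0)))) (.wt 0)) (.wt 1))) (.wt 0)) (.wt 6)))))) (.lin 1)) (.wt 2))
    (.lin 12)) (.wt 2))) (.wt 2)) (.lin 12)))) (.wt 2))))) (.lin 1)) (.wt 2)) (.lin 12)) (.wt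
    2))) (.split 2 333 (.lin 1) (.split 6 (-298) (.splitN 269756 .sq (.splitN 1870804 (.split 2
    10390 (.split 1 (-10137) (.lin 2) (.split 6 (-10361) (.lin 9) (.splitN 1239183 (.split 2 6880
    (.split 1 (-6627) (.lin 2) (.split 6 (-6851) (.lin 9) (.splitN 1055804 (.split 2 5854 (.split
    1 (-5601) (.lin 2) (.split 6 (-5825) (.lin 9) (.splitN 980258 (.split 2 5440 (.split 6
    (-5411) (.lin 9) (.split 0 586 (.split 4 619 (.split 7 (-29) (.split 4 96 (.lin 12) (.splitN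
    318172 (.split 2 1750 (.split 1 (-1488) (.lin 2) (.split 6 (-3116) (.lin 0) (.split 6 (-1712)
    (.lin 9) (.split 0 113 (.split 4 142 (.wt 1) (.lin 12)) (.wt 0))))) (.div 2)) (.wt 1))) (.wt
    0)) (.lin 12)) (.wt 0))) (.div 2)) (.wt 6)))) (.div 2)) (.wt 6)))) (.div 2)) (.wt 6)))) (.div
    2)) (.wt 6))) (.lin 6)))))

def cert5_28 : Cert :=
  (.split 2 99 (.lin 1) (.split 6 (-73) (.split 5 18 (.splitN 44453 (.wt 1) (.split 7 (-64)
    (.split 4 87 (.lin 12) cert5_28_0) cert5_28_4)) (.split 2 117 (.lin 1) (.split 1 (-47)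
    (.split 6 (-91) (.split 7 (-64) (.split 2 153 (.lin 1) (.split 4 87 (.lin 12) (.splitN 404281
    (.split 2 2236 (.split 6 (-2171) (.lin 9) (.split 4 2167 (.splitN 372218 (.split 1 (-569) .sq
    (.split 5 536 (.split 2 587 (.split 4 1033 (.split 5 455 (.split 6 (-524) (.lin 9) (.split 4
    520 (.splitN 298050 (.split 2 519 (.split 3 403 (.split 6 (-452) (.lin 9) (.split 4 448
    (.split 0 98 (.splitN 210920 (.split 2 427 (.split 3 313 (.split 5 293 (.split 6 (-362) (.lin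
    9) (.split 4 358 (.split 0 49 (.splitN 136415 (.split 2 328 (.split 3 214 (.split 5 194
    (.split 4 259 (.split 3 95 (.split 0 27 (.wt 2) (.split 1 (-56) (.split 6 (-100) (.split 4 96
    (.lin 12) (.split 3 46 (.wt 2) (.split 2 171 (.lin 1) (.split 5 176 (.split 6 (-109) (.splitN
    62495 .sq (.split 7 (-134) (.wt 0) (.split 4 169 (.split 7 (-124) (.wt 0) (.split 4 160
    (.split 3 52 (.wt 2) (.split 6 (-118) (.split 7 (-116) (.wt 0) (.split 4 151 (.split 5 32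
    (.wt 2) (.split 2 198 (.lin 1) (.split 1 (-74) (.split 6 (-136) (.splitN 83636 .sq (.wt 3))
    (.lin 7)) (.lin 4)))) (.lin 12))) (.lin 7))) (.lin 12))) (.lin 12)))) (.lin 7)) (.lin 1)))))
    (.lin 7)) (.lin 4))) (.split 2 207 (.lin 1) (.split 6 (-145) (.split 4 205 (.splitN 88901 .sq
    (.split 0 28 (.wt 0) (.split 1 (-56) (.split 6 (-154) (.split 4 96 (.lin 12) (.splitN 94715
    .sq (.splitN 107942 (.split 1 (-112) (.wt 0) (.split 5 77 (.split 0 34 (.wt 0) (.split 2 225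
    (.lin 1) (.split 1 (-65) (.split 6 (-163) (.split 4 105 (.lin 12) .sq) (.lin 7)) (.lin 4))))
    (.lin 4))) (.wt 3)))) (.lin 7)) (.lin 4)))) (.lin 10)) (.lin 7)))) (.lin 10)) (.lin 1)) (.lin
    1)) .sq) (.wt 3)) (.split 2 180 (.lin 1) (.split 1 (-74) (.split 6 (-118) (.split 4 114 (.lin
    12) (.splitN 74564 .sq (.splitN 148746 (.split 7 (-185) (.wt 3) (.split 4 277 (.split 2 323
    (.split 3 178 (.split 6 (-254) (.lin 9) (.split 3 87 (.splitN 114856 (.split 2 268 (.split 4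
    196 (.split 3 61 (.splitN 104204 (.split 2 243 (.split 5 77 (.split 4 169 (.split 7 (-100)
    (.wt 3) (.split 0 74 (.split 4 160 (.split 5 23 (.wt 2) (.split 1 (-83) (.split 6 (-127)
    (.splitN 78677 .sq (.splitN 90007 (.split 3 46 (.wt 0) (.split 2 198 (.lin 1) (.split 6
    (-136) .sq (.lin 7)))) (.wt 3))) (.lin 7)) (.lin 4))) (.lin 12)) (.split 2 207 (.lin 1)
    (.split 1 (-101) (.split 6 (-145) (.split 4 141 (.lin 12) .sq) (.lin 7)) (.lin 4))))) (.lin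
    10)) (.lin 1)) .sq) (.wt 3)) (.split 2 207 (.lin 1) (.split 5 77 (.split 6 (-145) (.split 4
    169 (.splitN 95219 .sq (.split 0 55 (.wt 0) (.split 1 (-83) (.split 6 (-154) (.split 4 123
    (.lin 12) (.splitN 102491 .sq (.wt 3))) (.lin 7)) (.lin 4)))) (.lin 10)) (.lin 7)) (.lin
    1)))) (.lin 10)) .sq) (.wt 3)) (.split 2 225 (.lin 1) (.split 6 (-163) (.split 4 205 (.splitN
    111419 .sq (.split 7 (-97) (.wt 0) (.split 0 53 (.split 4 142 (.wt 1) (.lin 12)) (.wt 1))))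
    (.lin 10)) (.lin 7))))) (.lin 1)) .sq) (.lin 12))) (.wt 1)))) (.lin 7)) (.lin 4)))) (.lin
    10))) (.lin 1)) (.lin 1)) .sq) (.wt 3)) (.split 2 234 (.lin 1) (.split 1 (-128) (.split 6
    (-172) (.split 4 168 (.lin 12) (.splitN 147464 .sq (.wt 1))) (.lin 7)) (.lin 4)))) (.lin
    10))) (.lin 1)) .sq) (.wt 1)) (.lin 10))) (.lin 1)) (.lin 0)) .sq) (.lin 4))) (.wt 1)) (.lin
    10))) (.div 2)) (.wt 1)))) (.split 0 58 (.split 4 106 cert5_28_10 (.lin 12)) (.split 2 153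
    (.lin 1) (.split 1 (-83) (.split 6 (-127) (.split 4 87 (.lin 12) cert5_28_14) (.lin 7)) (.lin
    4))))) (.lin 7)) (.lin 4)))) (.lin 7)))

theorem check5_28 :
    check task5 cert5_28
      [(7, ⟨some (25), none⟩), (7, ⟨none, some (-29)⟩), (1, ⟨some (73), none⟩), (7, ⟨some (43), none⟩), (7, ⟨some (52), none⟩), (5, ⟨some (5), none⟩), (8, ⟨none, some (-46)⟩), (8, ⟨none, some (-28)⟩)] ⟨some (29880), none⟩ = true := by
  decide +kernel

def cert5_29 : Cert :=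
  (.lin 7)

theorem check5_29 :
    check task5 cert5_29
      [(7, ⟨some (25), none⟩), (7, ⟨none, some (-29)⟩), (1, ⟨some (73), none⟩), (7, ⟨some (16), none⟩), (7, ⟨some (52), none⟩), (5, ⟨some (5), none⟩), (8, ⟨some (-37), some (-37)⟩), (8, ⟨none, some (-28)⟩)] ⟨some (29880), none⟩ = true := by
  decide +kernel

def cert5_30 : Cert :=
  (.lin 7)

theorem check5_30 :
    check task5 cert5_30
      [(7, ⟨some (25), none⟩), (7, ⟨none, some (-29)⟩), (1, ⟨some (64), none⟩), (7, ⟨some (7), none⟩), (7, ⟨some (34), none⟩), (5, ⟨some (5), none⟩), (8, ⟨some (-28), some (-19)⟩), (8, ⟨none, some (-28)⟩)] ⟨some (23400), none⟩ = true := by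
  decide +kernel

def cert5_31 : Cert :=
  (.lin 4)

theorem check5_31 :
    check task5 cert5_31
      [(7, ⟨some (25), none⟩), (7, ⟨some (-20), some (-11)⟩), (1, ⟨some (64), none⟩), (7, ⟨some (7), none⟩), (7, ⟨some (34), none⟩), (5, ⟨some (5), none⟩), (8, ⟨none, some (-19)⟩), (8, ⟨none, some (-28)⟩)] ⟨some (23400), none⟩ = true := by
  decide +kernel

def cert5_32 : Cert :=
  (.split 0 22 (.split 4 34 (.split 6 (-202) (.wt 1) (.split 2 226 (.split 3 196 (.split 1 (-192)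
    (.lin 11) (.split 5 203 (.split 5 185 (.split 6 (-109) (.wt 1) (.split 3 97 (.split 2 118
    (.split 1 (-93) (.lin 11) (.split 5 95 (.split 5 5 (.wt 1) (.split 2 36 (.lin 1) (.split 6
    (-28) (.split 3 11 (.wt 1) (.split 1 (-84) (.lin 11) (.split 6 (-37) (.split 0 9 (.wt 1)
    (.split 5 68 (.split 3 70 (.split 6 (-46) (.split 4 24 (.lin 12) (.wt 1)) (.lin 7)) (.lin 7))
    (.lin 4))) (.lin 7)))) (.lin 7)))) (.lin 1))) (.lin 9)) (.lin 6))) (.lin 4)) (.lin 1))) (.lin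
    6)) (.lin 3))) (.lin 12)) (.split 2 45 (.lin 1) (.split 6 (-37) (.split 4 33 (.lin 12)
    (.split 3 8 (.wt 1) (.split 2 54 (.lin 1) (.split 7 (-11) (.split 2 63 (.lin 1) (.split 4 42
    (.lin 12) (.split 5 8 (.wt 1) (.split 6 (-55) (.split 3 51 (.split 5 16 (.wt 1) (.split 6
    (-64) (.split 0 25 (.wt 1) (.split 6 (-73) (.split 4 51 (.lin 12) (.split 0 35 (.wt 1)
    (.split 6 (-82) (.split 4 60 (.lin 12) (.split 3 36 (.split 0 69 (.wt 1) (.split 6 (-109)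
    (.split 4 87 (.lin 12) (.split 3 25 (.wt 1) (.wt 0))) (.lin 7))) (.wt 0))) (.lin 7)))) (.lin
    7))) (.lin 6))) (.wt 3)) (.lin 6))))) (.wt 0))))) (.lin 7))))

theorem check5_32 :
    check task5 cert5_32
      [(7, ⟨some (7), none⟩), (7, ⟨none, some (-11)⟩), (1, ⟨some (28), none⟩), (7, ⟨some (7), none⟩), (7, ⟨some (16), none⟩), (5, ⟨some (5), none⟩), (8, ⟨none, some (-19)⟩), (8, ⟨some (-19), some (-10)⟩)] ⟨some (23400), none⟩ = true := by
  decide +kernel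

def cert5_33 : Cert :=
  (.lin 7)

theorem check5_33 :
    check task5 cert5_33
      [(7, ⟨some (7), none⟩), (7, ⟨none, some (-11)⟩), (1, ⟨some (28), none⟩), (7, ⟨some (7), none⟩), (7, ⟨some (16), none⟩), (5, ⟨some (5), none⟩), (8, ⟨some (-10), some (-10)⟩), (8, ⟨none, some (-10)⟩)] ⟨some (3960), none⟩ = true := by
  decide +kernel

def cert5_34 : Cert :=
  (.lin 4)

theorem check5_34 :
    check task5 cert5_34
      [(7, ⟨some (7), none⟩), (7, ⟨some (-2), some (-2)⟩), (1, ⟨some (28), none⟩), (7, ⟨some (7), none⟩), (7, ⟨some (16), none⟩), (5, ⟨some (5), none⟩), (8, ⟨none, some (-10)⟩), (8, ⟨none, some (-10)⟩)] ⟨some (3960), none⟩ = true := by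
  decide +kernel

def cert5_35_0 : Cert :=
  (.split 6 (-60) (.split 2 90 (.lin 9) (.split 3 69 (.lin 11) (.splitN 106838 (.split 0 20 (.wt
    2) (.split 5 (-31) (.split 7 (-53) (.split 2 117 (.lin 9) (.split 4 78 (.lin 12) (.splitN
    33821 .sq (.splitN 48778 (.split 1 8 (.wt 0) (.split 5 (-40) (.split 3 78 (.lin 11) (.split 0
    32 (.wt 2) (.split 5 (-49) (.split 0 34 (.wt 2) (.split 5 (-58) (.split 4 96 (.lin 8)
    (.splitN 42164 .sq (.split 7 (-94) (.wt 0) (.split 4 169 (.split 0 75 (.split 5 (-86) (.lin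
    4) (.split 2 133 (.split 3 88 (.split 6 (-74) (.lin 9) (.splitN 44867 (.split 0 44 (.wt 0)
    (.split 5 (-67) (.split 4 105 (.lin 8) .sq) (.lin 4))) (.wt 1))) (.lin 2)) .sq)) .sq) (.lin
    8))))) (.lin 4))) (.lin 4)))) (.lin 4))) (.wt 3))))) (.split 4 133 (.split 4 124 (.split 1 11
    (.split 3 133 (.splitN 33352 (.wt 6) (.split 0 46 (.wt 0) (.split 5 (-58) (.wt 2) (.lin 4))))
    (.lin 11)) (.split 5 (-40) (.split 3 78 (.lin 11) (.split 0 44 (.split 5 (-59) (.lin 4)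
    (.split 4 88 (.split 7 (-37) (.split 2 99 (.lin 2) (.split 0 28 (.wt 2) (.split 5 (-49)
    (.split 4 69 (.lin 8) (.split 6 (-98) (.wt 2) (.split 3 106 (.splitN 43177 (.wt 1) (.split 6
    (-86) (.wt 2) (.split 3 97 (.split 6 (-82) (.wt 2) (.split 3 88 (.split 7 (-46) (.wt 0)
    (.split 4 79 (.splitN 48506 (.wt 1) (.splitN 52295 (.split 0 34 (.wt 0) (.split 5 (-58)
    (.split 4 78 (.lin 8) (.wt 0)) (.lin 4))) (.wt 3))) (.lin 8))) (.lin 11))) (.lin 11)))) (.lin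
    11)))) (.lin 4)))) .cand) (.lin 8))) (.split 5 (-67) (.split 4 78 (.lin 8) (.splitN 77859
    (.split 6 (-66) (.split 3 87 (.lin 11) (.split 7 (-37) (.split 4 87 (.lin 8) (.splitN 59464
    (.split 2 171 (.split 6 (-100) (.split 2 135 (.lin 9) (.split 3 114 (.lin 11) (.splitN 58283
    .sq (.wt 1)))) (.splitN 55692 (.split 0 70 (.split 5 (-86) (.lin 4) (.split 0 68 (.split 5
    (-77) (.lin 4) (.split 4 106 (.split 7 (-42) (.split 4 96 (.lin 8) (.splitN 48472 (.split 0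
    60 (.split 5 (-68) (.lin 4) (.split 6 (-77) (.split 2 126 (.lin 0) .sq) (.wt 0))) (.wt 0))
    (.wt 1))) (.wt 0)) (.lin 8))) (.wt 2))) (.wt 2)) (.wt 1))) .sq) (.wt 1))) (.split 0 59
    (.split 5 (-68) (.lin 4) (.split 3 106 (.split 2 118 (.split 6 (-92) (.lin 0) (.wt 0)) (.lin
    1)) (.wt 0))) (.wt 0)))) (.wt 2)) (.wt 1))) (.lin 4)))) (.lin 4))) (.lin 12)) (.lin 8)))
    (.lin 4))) (.wt 3)))) (.split 2 154 (.split 3 70 (.split 0 35 (.split 4 160 (.split 5 (-50)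
    (.lin 4) (.split 4 133 (.split 7 (-53) (.split 4 60 (.lin 8) (.split 4 69 (.lin 12) (.split 1
    11 (.split 5 (-41) (.lin 4) (.split 3 61 (.splitN 26587 (.split 0 21 (.wt 0) (.split 5 (-31)
    (.wt 1) (.lin 4))) (.wt 3)) (.lin 11))) (.split 5 (-31) (.split 3 42 (.lin 11) (.split 0 16
    (.wt 2) (.split 5 (-40) (.split 4 78 (.lin 8) (.split 6 (-50) (.wt 2) (.split 3 61 (.split 6
    (-37) (.split 3 51 (.lin 11) (.split 7 (-78) (.split 2 117 (.lin 9) (.split 4 105 (.lin 8)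
    (.splitN 38438 .sq (.wt 0)))) (.split 2 118 (.split 4 115 (.split 0 25 (.wt 2) (.split 5
    (-49) (.split 6 (-38) (.splitN 39060 (.wt 1) (.wt 0)) (.wt 2)) (.lin 4))) (.lin 0)) (.lin
    9)))) (.splitN 30675 (.wt 0) (.splitN 35968 (.split 0 29 (.split 5 (-41) (.lin 4) (.wt 6))
    (.wt 0)) (.wt 1)))) (.lin 11)))) (.lin 4)))) (.lin 4))))) (.split 2 100 (.split 4 115 (.split
    4 106 (.split 4 79 (.split 1 11 (.split 0 22 (.wt 2) (.split 5 (-31) (.split 3 36 (.wt 2)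
    (.split 6 (-37) (.wt 2) (.lin 11))) (.lin 4))) (.split 5 (-31) (.split 3 42 (.lin 11) (.split
    0 25 (.split 5 (-41) (.lin 4) (.split 4 70 (.split 6 (-51) (.wt 2) (.split 3 61 (.split 6
    (-37) (.split 3 51 (.lin 11) (.splitN 37694 (.wt 1) (.split 0 18 (.wt 2) (.split 5 (-40)
    (.split 4 51 (.lin 8) (.split 7 (-46) (.wt 0) (.split 4 61 (.splitN 43098 (.wt 1) (.split 7
    (-37) (.wt 0) (.split 4 52 (.splitN 58302 (.splitN 53667 (.wt 3) (.split 6 (-39) (.wt 0) (.wt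
    0))) (.wt 1)) (.lin 8)))) (.lin 8)))) (.lin 4))))) (.split 3 43 (.split 0 16 (.wt 2) (.wt 2))
    (.lin 11))) (.lin 11))) (.lin 8))) (.split 5 (-49) (.split 4 60 (.lin 8) (.split 6 (-41)
    (.split 3 60 (.lin 7) (.splitN 61308 (.splitN 41032 (.wt 1) (.split 7 (-29) (.split 4 69
    (.lin 8) (.split 6 (-55) (.wt 2) (.wt 6))) (.wt 0))) (.wt 1))) (.wt 2))) (.lin 4)))) (.lin
    4))) (.lin 12)) (.lin 3)) (.lin 0)) (.lin 9))) (.lin 12))) (.lin 3)) (.split 5 (-49) (.split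
    4 60 (.lin 8) (.split 4 69 (.lin 12) (.split 7 (-53) (.split 2 72 (.lin 2) (.split 2 81 (.lin
    9) (.split 4 87 (.lin 8) (.split 4 96 (.lin 12) (.splitN 25397 .sq (.splitN 46080 (.split 4
    173 (.splitN 45973 (.split 4 163 (.split 1 11 (.split 3 61 (.splitN 29332 (.split 6 (-44)
    (.wt 0) (.split 3 43 (.split 0 44 (.wt 0) (.split 5 (-58) (.split 4 105 (.lin 8) .sq) (.lin
    4))) (.lin 11))) (.wt 3)) (.lin 11)) (.split 5 (-58) (.split 3 42 (.lin 11) (.split 6 (-36)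
    (.split 3 51 (.lin 11) (.split 6 (-39) (.split 2 99 (.lin 9) (.split 3 60 (.lin 11) (.splitN
    33740 .sq (.split 0 71 (.split 5 (-86) (.lin 4) (.split 0 67 (.split 5 (-77) (.lin 4)
    (.splitN 42665 (.split 7 (-56) (.split 2 108 (.lin 2) (.split 4 105 (.lin 8) (.splitN 38519
    .sq (.split 7 (-99) (.wt 0) (.split 4 151 (.split 0 57 (.split 5 (-68) (.lin 4) (.split 7
    (-85) (.wt 0) (.split 4 133 (.split 0 50 (.split 5 (-59) (.lin 4) (.split 6 (-52) (.wt 0)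
    (.wt 1))) (.wt 1)) (.lin 8)))) (.wt 1)) (.lin 8)))))) (.wt 3)) (.wt 1))) (.wt 6))) (.wt
    2))))) (.wt 2))) (.wt 2))) (.lin 4))) .sq) (.wt 1)) .sq) (.wt 1))))))) (.split 2 100 (.split
    4 133 (.split 4 124 (.split 1 11 (.split 5 (-86) (.lin 4) (.split 3 61 (.splitN 42837 .cand
    (.wt 3)) (.lin 11))) (.split 5 (-58) (.split 3 42 (.lin 11) (.split 0 72 (.split 5 (-86)
    (.lin 4) (.split 6 (-42) (.split 3 60 (.lin 11) (.splitN 51158 (.split 7 (-38) (.split 4 87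
    (.lin 8) (.splitN 43439 (.wt 0) (.wt 1))) (.wt 0)) (.wt 6))) (.wt 2))) (.wt 2))) (.lin 4)))
    (.lin 12)) (.lin 8)) (.lin 9))))) (.lin 4))) (.lin 11)) (.lin 9)))

def cert5_35_1 : Cert :=
  (.splitN 595627 (.split 2 3298 (.split 3 3283 (.split 6 (-3269) (.lin 9) (.split 4 6596 (.split
    0 6568 (.split 5 (-6584) (.lin 4) (.split 5 (-3299) (.div 5) (.splitN 545382 (.split 2 3028
    (.split 6 (-2999) (.lin 9) (.split 0 732 (.split 4 3724 (.split 5 (-743) (.lin 4) (.splitN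
    513790 (.split 2 2848 (.split 2 712 (.split 4 1420 (.split 6 (-686) (.lin 9) (.splitN 415681
    (.split 0 638 (.split 5 (-653) (.lin 4) (.split 2 640 (.split 6 (-614) (.lin 9) (.split 4 639
    (.splitN 390257 (.split 5 (-618) .sq (.split 6 (-132) (.split 2 162 (.lin 9) (.split 3 141
    (.lin 11) (.splitN 68651 .sq (.split 0 24 (.wt 0) (.split 5 (-31) (.split 4 51 (.lin 12)
    (.split 0 25 (.wt 0) (.split 5 (-40) (.split 4 60 (.lin 12) (.splitN 72539 .sq (.split 1 7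
    (.wt 0) (.split 5 (-49) (.split 3 150 (.lin 11) (.split 7 (-40) (.wt 1) (.split 0 373 (.split
    5 (-383) (.lin 4) (.split 0 342 (.split 5 (-356) (.lin 4) (.split 0 177 (.split 5 (-185)
    (.lin 4) (.split 4 205 (.splitN 106866 (.split 2 580 (.split 6 (-551) (.lin 9) (.split 7
    (-37) (.wt 3) (.split 0 103 (.split 5 (-113) (.lin 4) (.split 4 124 (.splitN 99837 (.split 2
    544 (.split 6 (-515) (.lin 9) (.split 0 92 (.split 5 (-104) (.lin 4) (.split 4 115 (.split 2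
    219 (.split 6 (-245) (.lin 0) (.split 3 313 (.split 6 (-191) (.lin 9) (.splitN 87571 (.split
    0 37 (.wt 0) (.split 5 (-58) (.split 4 69 (.lin 8) (.splitN 79019 .sq (.split 0 74 (.split 5
    (-86) (.lin 4) (.split 4 97 (.wt 1) (.lin 8))) (.wt 0)))) (.lin 4))) (.wt 1))) (.lin 6)))
    .sq) (.lin 8))) (.wt 2))) (.div 2)) (.wt 1)) (.lin 8))) (.wt 2)))) (.div 2)) (.wt 1)) (.lin
    8))) (.wt 6))) (.wt 2))) (.wt 2)))) (.lin 4))))) (.lin 4)))) (.lin 4)))))) (.split 3 142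
    (.splitN 209541 (.split 0 447 (.split 5 (-455) (.lin 4) (.split 2 450 (.split 4 448 (.split 0
    83 (.split 5 (-95) (.lin 4) (.split 7 (-105) (.split 2 135 (.lin 9) (.split 4 123 (.lin 12)
    (.splitN 48482 .sq (.wt 3)))) (.split 2 298 (.split 2 226 (.split 4 286 (.split 4 187
    (.splitN 21222 (.wt 1) cert5_35_0) (.lin 8)) (.lin 0)) (.lin 9)) (.lin 1)))) (.split 5 (-94)
    (.split 4 105 (.lin 8) (.split 4 114 (.lin 12) (.splitN 35603 .sq (.splitN 94931 (.split 0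
    258 (.split 5 (-266) (.lin 4) (.split 2 249 (.split 4 268 (.split 6 (-60) (.split 2 90 (.lin
    9) (.split 3 69 (.lin 11) (.splitN 47915 .sq (.splitN 79920 (.split 7 (-56) (.wt 1) (.split 0
    195 (.split 5 (-203) (.lin 4) (.split 4 250 (.split 7 (-55) (.wt 1) (.split 4 209 (.split 1
    11 (.wt 0) (.split 5 (-103) (.split 3 78 (.lin 11) (.splitN 70759 (.split 7 (-32) (.split 0
    169 (.split 5 (-185) (.lin 4) (.split 4 123 (.lin 8) (.splitN 55691 .sq (.splitN 59496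
    (.split 6 (-90) (.split 2 126 (.lin 9) (.split 3 96 (.lin 2) .sq)) (.wt 1)) (.wt 1))))) (.lin
    12)) (.wt 0)) (.wt 6))) (.lin 4))) .sq)) (.lin 8))) .sq)) (.wt 1))))) (.splitN 69055 (.split
    0 202 (.split 5 (-212) (.lin 4) (.split 4 215 (.split 7 (-60) (.split 2 90 (.lin 9) (.split 0
    151 (.split 5 (-167) (.lin 4) (.split 4 150 (.lin 12) (.splitN 53747 .sq (.wt 1)))) (.lin
    12))) (.split 2 109 (.split 6 (-30) (.split 3 42 (.lin 11) (.splitN 37952 .sq (.split 1 15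
    (.split 5 (-194) (.lin 8) (.split 3 61 (.splitN 44316 (.split 7 (-37) (.wt 0) (.split 6 (-39)
    (.split 2 72 (.lin 9) (.split 3 51 (.lin 2) (.splitN 40787 .sq (.split 0 106 (.wt 0) (.split
    5 (-121) (.split 4 141 (.lin 8) .sq) (.lin 4)))))) (.wt 1))) (.wt 1)) (.lin 11))) (.wt 2))))
    (.wt 6)) (.lin 9))) .sq)) .sq) (.wt 1))) .sq) .sq)) .sq) (.wt 1))))) (.lin 4))) .sq) .sq))
    .sq) (.wt 1)) (.lin 11)))) (.wt 1)) .sq)) .sq)) .sq) (.wt 1))) (.lin 0)) .sq) (.div 2)) (.wt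
    1))) (.lin 3)) .sq)) (.div 2)) (.wt 1)))) (.lin 12)) (.div 4))) (.lin 2)) (.div 2)) (.wt 1))

def cert5_35_2 : Cert :=
  (.split 7 (-42) (.split 2 108 (.lin 9) (.splitN 80405 (.split 0 17 (.wt 2) (.split 5 (-49)
    (.split 4 69 (.lin 12) (.split 6 (-124) (.wt 2) (.split 2 172 (.split 1 211 (.split 3 331
    (.split 5 (-230) (.lin 4) (.split 6 (-109) (.wt 2) (.split 2 154 (.split 3 313 (.splitN 75215
    (.split 1 25 (.wt 2) (.split 5 (-58) (.split 1 188 (.split 3 209 (.split 1 151 (.split 6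
    (-90) (.wt 2) (.split 2 136 (.split 1 69 (.split 5 (-113) (.lin 0) (.split 3 178 (.split 3
    151 (.split 5 (-86) (.lin 4) (.split 3 142 (.splitN 61597 (.split 1 40 (.wt 2) (.split 5
    (-67) (.split 1 44 (.wt 2) (.split 5 (-76) (.splitN 53552 (.wt 1) (.split 7 (-53) (.wt 0)
    (.split 4 70 (.splitN 58462 (.wt 1) (.split 1 52 (.wt 0) (.split 5 (-85) (.wt 1) (.lin 4))))
    (.lin 12)))) (.lin 4))) (.lin 4))) (.wt 3)) (.lin 7))) (.lin 2)) (.lin 6))) (.split 5 (-94)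
    (.split 3 132 (.lin 7) (.split 3 186 (.split 1 115 (.split 5 (-140) (.lin 4) (.split 6 (-78)
    (.wt 2) (.splitN 67816 (.split 3 167 (.split 1 97 (.split 5 (-122) (.lin 4) (.split 7 (-51)
    (.split 2 117 (.lin 9) (.split 4 78 (.lin 12) (.splitN 59336 .sq (.wt 0)))) (.split 2 118
    (.split 4 70 (.splitN 60481 (.wt 1) (.split 6 (-73) (.wt 2) (.wt 6))) (.lin 12)) (.lin 9))))
    (.lin 11)) .sq) (.wt 1)))) (.lin 11)) .sq)) (.lin 4))) (.lin 3))) (.lin 2)) .sq) .sq) (.lin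
    4))) (.wt 3)) (.lin 6)) (.lin 3)))) (.lin 2)) .sq) (.lin 3)))) (.lin 4))) (.wt 3))) (.split 4
    61 (.splitN 236142 (.split 6 (-377) (.wt 2) (.split 2 415 (.split 3 465 (.split 5 (-428)
    (.lin 1) (.split 1 403 (.split 6 (-149) (.split 2 171 (.lin 3) (.split 1 304 (.split 3 177
    (.lin 11) (.splitN 90098 .sq (.split 0 17 (.wt 0) (.split 5 (-49) (.split 4 51 (.lin 12)
    (.split 1 36 (.wt 0) (.split 5 (-67) (.split 3 195 (.lin 7) (.splitN 102167 .sq (.split 1 48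
    (.wt 0) (.split 5 (-76) (.split 7 (-33) (.wt 0) (.split 4 52 (.splitN 116020 (.wt 1) (.splitN
    157030 (.split 1 76 (.wt 0) (.split 3 222 (.lin 2) (.split 5 (-103) (.splitN 123992 .sq
    (.split 1 100 (.wt 0) (.split 3 249 (.lin 2) (.split 5 (-130) (.splitN 148049 .sq (.split 1
    207 (.wt 0) (.split 2 271 (.split 5 (-148) (.split 3 276 (.lin 6) (.split 5 (-238) .sq (.lin
    4))) (.lin 0)) (.lin 2)))) (.lin 4))))) (.lin 4)))) (.wt 3))) (.lin 12))) (.lin 4))))) (.lin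
    4)))) (.lin 4))))) (.lin 11))) (.split 2 190 (.split 0 20 (.split 4 52 (.wt 2) (.lin 12))
    (.split 5 (-49) (.split 4 51 (.lin 12) (.splitN 197761 (.split 3 419 (.split 5 (-383) (.lin
    1) (.split 1 94 (.split 3 250 (.split 5 (-113) (.lin 4) (.split 3 232 (.split 6 (-105)
    (.split 2 135 (.lin 3) (.split 1 37 (.wt 2) (.split 5 (-67) (.splitN 79027 (.wt 6) (.split 7
    (-35) (.wt 0) (.split 4 52 (.splitN 101259 (.wt 1) (.splitN 125069 (.split 1 50 (.wt 0)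
    (.split 5 (-76) (.split 1 56 (.wt 2) (.split 5 (-85) (.splitN 111213 (.wt 1) (.split 1 63
    (.wt 0) (.split 5 (-94) (.split 6 (-136) (.wt 1) (.split 3 214 (.split 6 (-117) (.wt 2)
    (.split 2 136 (.split 3 196 (.split 1 75 (.wt 2) (.split 5 (-103) (.splitN 119136 (.wt 1)
    (.split 1 81 (.wt 0) (.split 5 (-112) (.split 3 195 (.lin 6) (.wt 2)) (.lin 0)))) (.lin 0)))
    (.lin 6)) (.lin 3))) (.lin 6))) (.lin 4)))) (.lin 4))) (.lin 4))) (.wt 3))) (.lin 12))))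
    (.lin 4)))) (.splitN 132249 (.split 1 46 (.split 5 (-68) (.lin 4) (.split 3 142 (.splitN
    109421 (.splitN 56432 (.wt 1) (.split 6 (-98) (.wt 2) (.split 3 133 (.split 7 (-33) (.split 2
    99 (.lin 9) (.split 4 60 (.lin 12) (.split 1 29 (.wt 0) (.split 3 96 (.lin 2) (.split 5 (-58)
    (.splitN 61793 (.wt 1) (.split 6 (-80) (.wt 0) (.split 2 118 (.split 3 115 (.split 1 35 (.wt
    0) (.split 5 (-67) (.split 6 (-73) (.wt 0) (.split 3 106 (.splitN 64862 (.wt 0) (.wt 0))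
    (.lin 6))) (.lin 4))) (.lin 6)) (.lin 0)))) (.lin 4)))))) (.splitN 72267 (.wt 1) .cand))
    (.lin 7)))) (.wt 1)) (.lin 7))) (.split 5 (-76) (.split 3 114 (.lin 7) (.split 7 (-33) .cand
    (.split 4 52 (.splitN 89975 (.wt 0) .cand) (.lin 12)))) (.lin 4))) (.wt 1))) (.lin 7))) (.lin
    2)) (.split 3 150 (.lin 2) (.split 5 (-121) (.split 3 159 (.lin 7) (.splitN 176300 (.split 6
    (-72) (.split 2 99 (.lin 3) (.split 1 340 (.split 3 168 (.lin 7) (.split 3 363 (.split 5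
    (-320) (.lin 1) (.split 7 (-33) (.split 4 60 (.lin 12) (.splitN 95190 (.split 6 (-76) (.split
    2 117 (.lin 3) (.split 3 177 (.lin 6) (.split 5 (-302) (.lin 1) (.splitN 82097 .sq (.split 1
    111 (.wt 3) (.split 3 195 (.lin 2) (.split 5 (-139) .sq (.lin 4)))))))) (.wt 2)) (.wt 3)))
    (.split 2 172 (.split 4 52 (.splitN 164762 (.splitN 117776 (.wt 3) (.split 6 (-100) (.split 2
    126 (.lin 3) (.split 3 195 (.lin 6) (.split 6 (-103) (.split 2 135 (.lin 3) (.split 3 322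
    (.split 5 (-239) (.lin 1) (.split 1 214 (.splitN 154410 .cand (.wt 3)) (.lin 2))) .sq)) (.wt
    2)))) (.wt 2))) (.wt 1)) (.lin 12)) (.lin 9)))) .sq)) (.lin 11))) (.wt 2)) (.wt 1))) (.lin
    4))))) .sq) (.wt 1))) (.lin 4))) (.lin 3))) (.lin 2))) .sq) (.lin 3))) (.wt 3)) (.lin 12)))

def cert5_35_3 : Cert :=
  (.split 0 25 (.split 4 79 (.splitN 315962 (.split 6 (-811) (.wt 2) (.split 2 865 (.split 1 538
    (.split 5 (-563) (.lin 4) (.splitN 300763 (.split 2 530 (.split 3 530 (.split 5 (-518) (.lin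
    1) (.split 1 466 (.split 5 (-491) (.lin 4) (.splitN 281168 cert5_35_2 (.wt 3))) (.lin 11)))
    .sq) .sq) (.wt 3))) .sq) (.lin 3))) (.wt 3)) (.lin 12)) (.split 5 (-58) (.split 4 60 (.lin
    12) (.splitN 296973 (.splitN 43622 (.wt 1) (.split 1 516 (.split 5 (-545) (.lin 4) (.split 2
    523 (.split 6 (-497) (.lin 3) (.splitN 256794 (.split 2 484 (.split 6 (-452) (.lin 3) (.split
    3 484 (.split 5 (-482) (.lin 1) (.split 1 448 (.split 1 421 (.split 5 (-455) (.lin 4) (.split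
    7 (-42) (.split 2 108 (.lin 9) (.split 4 78 (.lin 12) (.splitN 98039 (.split 1 247 (.splitN
    93390 .cand (.wt 3)) .sq) (.wt 1)))) (.split 4 70 (.splitN 232786 (.split 2 457 (.split 6
    (-425) (.lin 3) (.split 3 456 (.split 6 (-165) (.split 2 198 (.lin 3) (.split 3 186 (.lin 6)
    (.split 1 277 (.split 5 (-320) (.lin 1) (.splitN 113804 .sq (.split 1 27 (.wt 0) (.split 5
    (-67) (.split 3 204 (.lin 7) (.splitN 122516 .sq (.split 7 (-35) (.wt 1) (.split 4 61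
    (.splitN 183816 (.split 1 162 (.split 5 (-194) (.lin 4) (.splitN 170838 (.split 1 123 (.split
    5 (-149) (.lin 4) (.splitN 161080 (.split 1 102 (.split 5 (-131) (.lin 4) (.split 1 91
    (.split 5 (-122) (.lin 4) (.splitN 152061 (.split 1 86 (.split 5 (-113) (.lin 4) (.split 1 35
    (.wt 1) (.split 5 (-76) (.split 6 (-222) (.split 3 267 (.lin 6) .sq) (.wt 2)) (.lin 4))))
    (.wt 0)) (.wt 1))) (.wt 2))) (.wt 0)) (.wt 1))) (.wt 0)) (.wt 1))) (.wt 0)) (.wt 1)) (.lin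
    12))))) (.lin 4))))) (.lin 11)))) (.split 2 199 (.splitN 173340 (.split 3 387 (.split 5
    (-365) (.lin 1) (.split 1 90 (.split 5 (-230) (.lin 0) (.split 5 (-122) (.lin 4) (.splitN
    141452 (.split 6 (-67) (.split 3 96 (.lin 7) (.split 6 (-118) (.split 2 144 (.lin 3) (.split
    3 132 (.lin 6) (.split 3 141 (.lin 7) (.split 1 46 (.split 3 214 (.split 5 (-77) (.lin 4)
    (.splitN 110790 (.split 7 (-33) (.split 2 153 (.lin 9) (.split 4 69 (.lin 12) (.splitN 69218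
    .sq (.split 1 32 (.wt 0) (.split 5 (-67) (.split 6 (-155) (.wt 2) (.split 3 196 (.split 1 34
    (.wt 0) (.split 3 159 (.lin 2) (.split 5 (-76) (.splitN 78290 .sq (.wt 1)) (.lin 4)))) (.lin
    6))) (.lin 4)))))) (.split 4 61 (.split 1 37 (.split 5 (-68) (.lin 4) (.split 3 196 (.splitN
    100901 (.split 1 32 (.split 5 (-59) (.lin 4) (.splitN 90509 (.split 6 (-120) (.split 3 150
    (.lin 6) (.split 6 (-160) (.wt 1) (.split 3 178 (.splitN 85254 (.wt 3) (.split 3 151 (.wt 0)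
    (.split 2 162 (.lin 1) (.split 6 (-136) (.wt 3) (.lin 0))))) (.lin 6)))) (.wt 0)) (.wt 1)))
    (.wt 0)) (.wt 1)) (.lin 6))) (.wt 0)) (.lin 12))) (.wt 1))) (.lin 2)) (.split 3 159 (.lin 2)
    (.split 5 (-85) (.split 3 168 (.lin 7) (.splitN 79100 .sq (.splitN 113153 (.split 7 (-30)
    (.split 2 153 (.lin 9) (.split 4 69 (.lin 12) (.splitN 86954 (.split 1 76 (.split 5 (-104)
    (.lin 4) (.split 1 53 (.wt 1) (.split 3 177 (.lin 2) (.split 5 (-94) .sq (.lin 4))))) (.wt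
    0)) (.wt 1)))) (.wt 0)) (.wt 6)))) (.lin 4))))))) (.split 2 145 (.split 1 77 (.split 5 (-104)
    (.lin 4) (.split 7 (-33) .cand (.split 4 61 (.splitN 112612 (.split 1 38 (.split 5 (-68)
    (.lin 4) (.splitN 93686 (.split 1 28 (.split 5 (-59) (.lin 4) (.splitN 84660 (.wt 0) (.wt
    1))) (.wt 0)) (.wt 1))) (.wt 0)) (.wt 1)) (.lin 12)))) (.wt 2)) (.lin 3)))) (.wt 2)) (.wt
    1)))) (.split 5 (-130) (.split 3 159 (.lin 7) (.splitN 110949 (.split 6 (-82) (.split 3 168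
    (.lin 6) (.split 1 304 (.split 5 (-338) (.lin 4) (.split 3 177 (.lin 7) (.splitN 100488
    (.split 6 (-109) (.split 2 135 (.lin 3) (.split 3 195 (.lin 6) .sq)) (.wt 0)) (.wt 6))))
    (.lin 11))) (.wt 0)) (.wt 6))) (.lin 4)))) .sq) (.wt 1)) (.lin 3))) .sq)) .sq) (.wt 1)) (.lin
    12)))) (.lin 11)) (.lin 2))) .sq)) .sq) (.wt 1))) .sq)) .sq)) (.wt 1))) (.lin 4)))

def cert5_35_4 : Cert :=
  (.split 7 (-56) (.split 2 126 (.lin 9) (.split 4 105 (.lin 12) (.splitN 50264 .sq (.splitN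
    78480 (.split 2 436 (.split 6 (-371) (.lin 9) (.split 6 (-65) (.split 2 135 (.lin 9) (.split
    3 96 (.lin 11) (.splitN 55529 .sq (.split 0 157 (.split 4 259 (.split 1 153 (.split 5 (-302)
    (.lin 4) (.splitN 73108 (.split 0 135 (.split 1 130 (.split 5 (-257) (.lin 4) (.split 2 186
    (.split 6 (-119) (.lin 9) (.split 1 32 (.wt 1) (.split 5 (-76) (.split 3 105 (.lin 11)
    (.splitN 59174 .sq (.wt 1))) (.lin 4)))) .sq)) .sq) .sq) (.wt 1))) .sq) (.lin 12)) .sq))))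
    (.wt 6))) (.div 2)) (.wt 1))))) (.split 6 (-65) (.split 2 99 (.lin 9) (.split 3 96 (.lin 11)
    (.split 4 483 (.splitN 253143 (.split 2 472 (.split 6 (-443) (.lin 9) (.split 3 471 (.split 7
    (-42) (.split 2 117 (.lin 9) (.split 4 87 (.lin 12) (.splitN 98052 (.split 0 232 (.split 4
    286 (.split 1 230 (.split 2 257 (.split 6 (-209) (.lin 9) (.splitN 87399 (.split 0 133
    (.split 5 (-356) (.lin 4) (.split 2 231 (.split 6 (-182) (.lin 9) (.split 0 111 (.split 4 160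
    (.split 3 221 (.split 5 (-257) (.lin 1) (.split 1 151 (.splitN 81144 (.split 2 216 (.split 6
    (-164) (.lin 9) (.split 5 (-194) .sq (.split 0 95 (.split 4 142 (.split 1 59 (.split 5 (-140)
    (.lin 4) (.splitN 71520 (.split 6 (-74) (.split 2 126 (.lin 9) (.split 3 105 (.lin 11)
    (.splitN 50912 .sq (.split 0 84 (.split 5 (-131) (.lin 4) (.split 2 184 (.split 6 (-137)
    (.lin 9) (.split 0 71 (.split 5 (-122) (.lin 4) (.split 4 124 (.split 0 69 (.split 5 (-113)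
    (.lin 4) (.split 3 170 (.split 1 38 (.split 5 (-95) (.lin 4) (.splitN 63007 (.split 6 (-84)
    (.split 2 135 (.lin 9) (.split 3 114 (.lin 11) (.splitN 56825 .sq (.split 6 (-98) (.split 2
    144 (.lin 9) (.split 3 123 (.lin 11) .sq)) (.wt 1))))) (.wt 6)) (.wt 1))) (.split 5 (-85)
    (.split 3 123 (.lin 11) (.split 6 (-128) (.lin 11) (.splitN 63623 (.split 6 (-85) (.split 2
    135 (.lin 9) (.split 3 132 (.lin 11) .sq)) (.wt 0)) (.wt 6)))) (.lin 4))) .sq)) (.wt 6))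
    (.lin 12))) (.wt 2))) .sq)) (.wt 2))))) (.wt 2)) (.wt 1))) (.split 3 123 (.lin 2) (.split 5
    (-103) (.split 3 132 (.lin 11) (.split 6 (-155) (.lin 11) (.splitN 73044 (.split 6 (-79)
    (.split 2 126 (.lin 9) (.split 3 141 (.lin 11) (.splitN 69056 .sq (.wt 6)))) (.wt 0)) (.wt
    6)))) (.lin 4)))) (.lin 12)) (.wt 2)))) .sq) (.wt 1)) (.lin 2))) .sq) (.lin 12)) (.wt 2)))
    .sq)) (.wt 2)) (.wt 1))) .sq) .sq) (.lin 12)) .sq) (.wt 1)))) (.split 6 (-89) (.split 2 117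
    (.lin 9) (.split 3 105 (.lin 2) (.split 3 114 (.lin 11) (.split 0 103 (.split 4 133 (.splitN
    213128 (.split 6 (-97) (.split 3 123 (.lin 11) (.split 6 (-101) (.split 5 (-455) (.lin 7)
    (.split 2 135 (.lin 9) (.split 3 132 (.lin 11) (.split 0 91 (.split 4 124 (.split 2 411
    (.split 6 (-380) (.lin 9) (.splitN 198524 (.split 0 86 (.split 3 394 (.split 1 81 (.split 5
    (-158) (.lin 4) (.split 6 (-112) (.split 2 144 (.lin 9) (.split 3 141 (.lin 11) (.splitN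
    67760 .sq (.split 6 (-120) (.split 2 153 (.lin 9) (.split 3 150 (.lin 11) (.splitN 75293 .sq
    (.split 0 68 (.split 5 (-140) (.lin 4) (.split 4 97 (.split 6 (-137) (.split 2 171 (.lin 9)
    (.split 3 159 (.lin 2) (.split 3 168 (.lin 11) (.splitN 91817 .sq (.splitN 148637 (.split 0
    58 (.split 5 (-131) (.lin 4) (.split 4 88 (.split 7 (-37) (.wt 1) (.split 4 79 (.split 1 43
    (.split 5 (-95) (.lin 4) (.splitN 122351 (.split 1 34 (.split 5 (-86) (.lin 4) (.splitN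
    113438 (.split 1 31 (.split 5 (-77) (.lin 4) (.splitN 101297 (.split 0 48 (.split 5 (-68)
    (.lin 4) (.split 4 70 (.split 3 294 (.split 2 289 (.split 6 (-263) (.lin 0) (.wt 1)) (.lin
    1)) (.wt 0)) (.lin 8))) (.wt 0)) (.wt 1))) (.wt 0)) (.wt 1))) (.wt 0)) (.wt 1))) (.wt 0))
    (.lin 12))) (.lin 12))) (.wt 6)) (.wt 1)))))) (.wt 6)) (.lin 12))) (.wt 6))))) (.wt 6)))))
    (.wt 2))) (.split 2 343 (.split 3 186 (.lin 2) (.split 6 (-317) (.lin 9) (.wt 2))) (.lin 2)))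
    .sq) (.wt 2)) (.wt 1))) .sq) (.lin 12)) (.wt 2))))) (.wt 2))) (.wt 2)) (.wt 1)) (.lin 12))
    (.wt 2))))) (.wt 2))) .sq)) .sq) (.wt 1)) .sq))) (.wt 2)))

def cert5_35_5 : Cert :=
  (.split 3 87 (.lin 11) (.splitN 28103 (.wt 1) (.split 0 40 (.split 7 (-64) (.split 2 126 (.lin
    9) (.split 4 78 (.lin 12) (.splitN 160378 (.split 1 1772 (.split 5 (-1805) (.lin 4) (.split 2
    886 (.split 3 2608 (.split 4 853 (.split 5 (-887) (.div 5) (.split 3 1690 (.split 1 871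
    (.splitN 141765 (.split 2 778 (.split 4 745 (.split 6 (-731) (.lin 3) (.split 5 (-779) (.div
    5) (.split 1 763 (.splitN 127009 (.split 2 688 (.split 4 655 (.split 5 (-689) (.div 5)
    (.splitN 83075 (.split 2 454 (.split 4 421 (.split 0 17 (.wt 2) (.split 5 (-49) (.split 4 87
    (.lin 12) (.splitN 43460 .sq (.split 1 197 (.split 5 (-230) (.lin 4) (.splitN 76420 (.split 1
    180 (.split 5 (-212) (.lin 4) (.split 2 218 (.split 3 340 (.split 4 187 (.splitN 71471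
    (.split 2 203 (.split 4 169 (.split 3 181 (.split 5 (-149) (.lin 7) (.split 1 115 (.split 6
    (-100) (.split 2 162 (.lin 9) (.split 4 133 (.split 3 123 (.lin 11) (.splitN 67436 .sq (.wt
    0))) (.lin 3))) (.splitN 65078 (.split 2 186 (.split 4 151 (.split 3 162 (.split 5 (-131)
    (.lin 7) (.split 1 97 (.split 1 49 (.split 5 (-77) (.lin 4) (.split 3 142 (.split 3 133
    (.split 7 (-109) (.wt 0) (.split 4 133 (.split 0 25 (.wt 2) (.split 5 (-58) (.split 4 96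
    (.lin 12) (.splitN 46619 .sq (.split 1 26 (.wt 0) (.split 5 (-67) (.split 3 96 (.lin 7)
    (.splitN 49940 .sq (.split 6 (-85) (.wt 0) (.wt 1)))) (.lin 4))))) (.lin 4))) (.lin 12)))
    (.lin 11)) (.lin 7))) (.split 5 (-76) (.split 3 114 (.lin 11) (.splitN 54395 .sq (.split 7
    (-105) (.wt 0) (.split 4 133 (.split 7 (-89) (.wt 1) (.split 4 115 (.splitN 61953 (.split 7
    (-79) (.wt 3) (.split 4 106 (.split 1 85 (.split 5 (-113) (.lin 4) (.split 0 25 (.wt 0)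
    (.split 5 (-85) (.split 4 96 (.lin 12) (.splitN 58040 .sq (.wt 1))) (.lin 4)))) .sq) (.lin
    12))) (.wt 1)) (.lin 12))) (.lin 12))))) (.lin 4))) (.lin 11))) .sq) (.lin 3)) .sq) (.wt 1)))
    (.lin 11))) .sq) (.lin 3)) .sq) (.wt 3)) (.lin 3)) (.lin 1)) .sq)) .sq) (.wt 3))) .sq)))
    (.lin 4))) (.lin 3)) (.div 2)) (.wt 3))) (.lin 3)) (.div 2)) (.wt 1)) (.lin 4)))) (.lin 3))
    (.div 2)) (.wt 0)) (.lin 4)) (.lin 1))) (.lin 3)) (.lin 1)) (.div 2))) (.div 1)) (.wt 0))))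
    (.split 4 88 (.splitN 1681652 (.split 2 9328 (.split 5 (-9329) (.div 5) (.split 3 18610
    (.split 1 9340 (.splitN 1593058 (.split 2 8842 (.split 1 1251 (.split 3 10060 (.split 5
    (-1283) (.lin 4) (.splitN 1291547 (.split 1 1125 (.split 5 (-1157) (.lin 4) (.split 2 1128
    (.split 3 2239 (.splitN 1150448 (.split 1 1059 (.split 2 1063 (.split 3 1063 (.split 1 997
    (.splitN 1018491 (.split 2 1000 (.split 6 (-992) (.lin 3) (.split 3 1000 (.split 5 (-995)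
    (.lin 1) (.split 1 934 cert5_35_3 (.lin 11))) .sq)) .sq) (.wt 3)) (.lin 11)) .sq) .sq) .sq)
    (.wt 3)) (.lin 1)) .sq)) .sq) (.wt 3))) (.lin 2)) .sq) (.div 2)) (.wt 3)) (.lin 8)) (.lin
    1))) (.div 2)) (.wt 3)) (.lin 12))) (.split 5 (-67) (.split 4 69 (.lin 12) (.splitN 402788
    (.split 2 2236 (.split 6 (-2207) (.lin 9) (.split 4 4472 (.split 5 (-2237) (.div 5) (.split 1
    2194 (.splitN 363406 (.split 2 2002 (.split 6 (-1973) (.lin 9) (.split 0 573 (.split 4 2500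
    (.split 1 572 (.split 5 (-1130) (.lin 4) (.splitN 339905 (.split 2 559 (.split 4 1060 (.split
    6 (-533) (.lin 9) (.splitN 285512 (.split 0 501 (.split 1 500 (.split 2 508 (.split 6 (-479)
    (.lin 9) (.split 3 507 (.split 5 (-932) (.lin 7) (.split 1 439 (.split 4 504 (.splitN 267702
    (.split 5 (-488) .sq (.split 7 (-112) (.split 2 180 (.lin 9) (.split 6 (-389) (.lin 9)
    (.split 4 159 (.lin 12) (.splitN 91088 .sq (.wt 1))))) cert5_35_4)) (.wt 1)) .sq) (.lin 11)))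
    .sq)) .sq) .sq) .sq) (.wt 1))) (.lin 3)) .sq) (.wt 1))) .sq) (.lin 3)) .sq)) (.div 2)) (.wt
    1)) (.lin 4))) (.div 4))) (.div 2)) (.wt 1))) (.lin 4)))))

def cert5_35_6 : Cert :=
  (.split 6 (-42) (.split 2 63 (.lin 3) (.split 2 72 (.lin 9) (.split 3 69 (.lin 11) (.splitN
    166901 (.split 1 386 (.split 3 391 (.split 1 340 (.split 5 (-365) (.lin 4) (.split 7 (-42)
    (.split 2 90 (.lin 9) (.split 4 60 (.lin 12) (.splitN 81765 (.split 3 251 (.split 5 (-239)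
    (.lin 1) (.split 0 20 (.split 4 70 (.wt 2) (.lin 12)) (.split 5 (-49) (.split 4 69 (.lin 12)
    (.splitN 66705 (.split 3 210 (.split 5 (-194) (.lin 1) (.split 1 63 (.split 5 (-104) (.lin 0)
    (.split 5 (-86) (.lin 4) (.split 1 43 (.split 5 (-68) (.lin 4) (.split 3 97 (.split 1 34
    (.split 5 (-59) (.lin 4) (.split 3 88 (.split 6 (-54) (.wt 2) .cand) (.lin 7))) (.split 3 78
    (.lin 2) (.split 5 (-67) (.split 6 (-49) (.split 3 96 (.lin 7) (.splitN 55512 (.wt 6) (.wt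
    1))) (.wt 2)) (.lin 4)))) (.lin 7))) (.split 5 (-76) (.split 3 96 (.lin 7) (.splitN 50211
    (.wt 0) (.splitN 58377 (.split 7 (-48) (.split 4 78 (.lin 12) (.splitN 53480 (.split 1 57
    (.split 5 (-77) (.lin 4) (.wt 1)) (.wt 0)) (.wt 1))) (.wt 0)) (.wt 1)))) (.lin 4))))) (.split
    5 (-94) (.split 3 114 (.lin 7) (.wt 2)) (.lin 4)))) .sq) (.wt 1))) (.lin 4)))) .sq) (.wt
    1)))) (.split 2 91 (.split 4 61 (.split 0 20 (.split 4 52 (.split 1 33 (.wt 2) (.split 5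
    (-49) (.split 1 38 (.wt 2) (.split 5 (-58) (.split 3 110 (.wt 2) (.split 1 60 (.lin 11)
    (.split 5 (-76) (.split 3 124 (.wt 2) (.split 1 78 (.lin 11) (.split 5 (-94) (.split 3 134
    (.wt 2) (.split 5 (-103) (.split 6 (-53) (.wt 2) (.split 1 96 (.lin 11) (.split 5 (-112)
    (.split 3 142 (.wt 2) (.split 5 (-121) (.split 7 (-35) (.wt 2) (.split 2 73 (.split 4 43
    (.split 3 179 (.wt 2) (.split 5 (-157) (.splitN 107037 (.split 3 196 (.wt 2) (.split 5 (-175)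
    (.split 1 159 (.lin 2) .sq) (.lin 1))) (.wt 1)) (.lin 1))) (.lin 3)) (.lin 9))) (.lin 7)))
    (.lin 4)))) (.lin 7))) (.lin 4)))) (.lin 4)))) (.lin 4))) (.lin 4))) (.lin 12)) (.split 4 51
    (.lin 12) (.splitN 112135 (.split 1 116 (.split 5 (-158) (.lin 0) (.split 5 (-140) (.lin 4)
    (.split 1 83 (.split 5 (-104) (.lin 4) (.split 1 72 (.split 5 (-95) (.lin 4) (.split 1 68
    (.split 5 (-86) (.lin 4) (.split 7 (-33) .cand (.split 4 52 (.splitN 69867 (.wt 0) (.splitN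
    89477 (.split 1 35 (.split 5 (-59) (.lin 4) (.splitN 78082 (.split 1 27 (.split 5 (-50) (.lin
    4) (.wt 1)) (.wt 0)) (.wt 1))) (.wt 0)) (.wt 1))) (.lin 12)))) (.wt 2))) (.wt 2))) (.wt 2))))
    (.wt 2)) (.wt 1)))) (.lin 12)) (.lin 9)))) (.lin 11)) .sq) .sq) (.wt 1))))) (.split 2 100
    (.split 2 91 (.splitN 116191 (.split 1 321 (.split 5 (-338) (.lin 4) (.split 3 324 (.split 5
    (-320) (.lin 7) (.split 7 (-42) (.split 2 72 (.lin 9) (.split 4 51 (.lin 3) (.split 4 60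
    (.lin 12) (.splitN 67029 (.split 1 221 (.split 5 (-239) (.lin 4) (.split 3 226 (.split 1 196
    (.split 0 20 (.split 4 70 (.split 1 70 (.split 5 (-86) (.lin 4) (.split 3 106 (.split 6 (-37)
    (.wt 2) .cand) (.lin 7))) (.split 5 (-76) (.split 3 78 (.lin 6) (.split 5 (-94) (.split 3 105
    (.lin 7) (.splitN 60910 (.split 6 (-31) (.split 2 81 (.lin 3) (.split 3 124 (.wt 2) (.split 1
    96 (.lin 11) (.split 5 (-112) (.splitN 53828 .sq (.split 7 (-53) (.wt 0) (.split 2 82 (.split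
    4 61 (.split 3 144 (.wt 2) (.split 5 (-130) .sq (.lin 1))) (.lin 3)) (.lin 9)))) (.lin 4)))))
    (.wt 2)) (.wt 1))) (.lin 4))) (.lin 0))) (.lin 12)) (.split 4 69 (.lin 12) (.splitN 56579
    (.split 1 72 (.split 5 (-95) (.lin 4) (.splitN 49697 (.split 1 41 (.split 5 (-59) (.lin 4)
    (.splitN 44112 (.split 1 26 (.split 5 (-50) (.lin 4) (.wt 2)) (.wt 0)) (.wt 6))) (.wt 0))
    (.wt 6))) (.wt 0)) (.wt 1)))) (.lin 11)) .sq)) .sq) (.wt 1))))) (.split 2 73 (.split 0 20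
    (.split 4 52 (.split 1 85 (.split 5 (-113) (.lin 0) (.split 3 124 (.splitN 43360 (.wt 1)
    (.split 6 (-33) .cand (.split 1 54 (.split 5 (-77) (.lin 0) (.split 1 46 (.split 5 (-59)
    (.lin 4) (.split 1 42 (.split 5 (-50) (.lin 4) (.split 7 (-29) (.split 2 63 (.lin 9) (.split
    4 51 (.lin 3) (.splitN 49624 (.split 1 33 (.split 5 (-41) (.lin 0) (.split 3 52 (.wt 0) (.lin
    6))) (.wt 0)) (.wt 1)))) (.wt 2))) (.wt 2))) (.wt 2))) (.wt 2)))) (.lin 2))) (.split 3 105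
    (.lin 2) (.split 5 (-103) (.split 3 114 (.lin 7) (.split 3 206 (.split 5 (-203) (.lin 1)
    (.splitN 88044 (.split 7 (-29) .cand (.wt 0)) (.wt 6))) (.wt 2))) (.lin 4)))) (.lin 12))
    (.split 4 51 (.lin 12) (.wt 2))) (.lin 9)))) .sq)) .sq) (.wt 1)) (.lin 9)) (.lin 3)))

def cert5_35_7 : Cert :=
  (.split 7 (-56) (.split 2 90 (.lin 9) (.split 4 78 (.lin 12) (.splitN 73055 (.split 1 219
    (.split 5 (-257) (.lin 4) (.split 3 295 (.split 3 223 (.split 5 (-239) (.lin 7) (.split 5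
    (-222) .sq (.split 0 29 (.split 4 133 (.split 6 (-42) (.split 2 99 (.lin 3) (.split 2 108
    (.lin 9) (.split 3 69 (.lin 11) (.split 0 16 (.wt 2) (.split 5 (-49) (.split 4 87 (.lin 12)
    (.splitN 57749 (.split 3 162 (.split 5 (-140) (.lin 7) (.split 1 115 (.split 1 53 (.split 5
    (-77) (.lin 4) (.split 3 106 (.splitN 51974 (.split 7 (-87) (.split 2 135 (.lin 9) (.split 4
    114 (.lin 12) .sq)) (.split 2 136 (.split 4 115 (.split 4 106 (.split 1 38 (.split 5 (-59)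
    (.lin 4) (.split 3 88 (.splitN 39672 (.wt 1) (.splitN 45675 (.split 1 26 (.wt 0) (.split 5
    (-58) (.split 6 (-55) (.wt 0) (.split 3 79 (.wt 6) (.lin 7))) (.lin 4))) (.wt 3))) (.lin 7)))
    (.split 5 (-67) (.split 3 87 (.lin 7) (.split 6 (-55) (.wt 2) (.splitN 42924 (.wt 3) (.wt
    6)))) (.lin 4))) (.lin 12)) (.lin 3)) (.lin 9))) (.wt 1)) (.lin 7))) (.split 5 (-85) (.split
    3 105 (.lin 7) (.splitN 48644 .sq (.splitN 54584 (.split 7 (-90) (.wt 1) (.split 6 (-48)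
    (.split 2 117 (.lin 3) (.split 3 114 (.lin 7) .sq)) (.wt 2))) (.wt 1)))) (.lin 4))) (.lin
    11))) .sq) (.wt 1))) (.lin 4)))))) (.splitN 57648 (.split 1 178 (.split 3 184 (.split 5
    (-176) (.lin 7) (.split 0 20 (.split 4 124 (.splitN 54622 (.split 3 175 (.split 6 (-33)
    (.splitN 51001 (.splitN 41358 (.wt 6) (.split 1 43 (.wt 0) (.split 5 (-67) (.splitN 49280
    (.wt 6) (.split 1 110 (.wt 0) (.split 5 (-130) (.split 3 150 (.lin 7) .sq) (.lin 4)))) (.lin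
    4)))) (.wt 0)) .cand) .sq) (.wt 3)) (.lin 12)) (.split 5 (-49) (.split 4 87 (.lin 12) (.split
    1 76 (.split 5 (-95) (.lin 4) (.split 1 59 (.split 5 (-77) (.lin 4) (.split 6 (-32) (.split 3
    60 (.lin 7) (.split 1 34 (.split 5 (-59) (.lin 4) (.splitN 42730 (.split 7 (-70) (.split 2
    108 (.lin 9) (.split 4 96 (.lin 3) (.split 1 31 (.split 5 (-50) (.lin 4) (.splitN 39269
    (.split 7 (-93) (.split 2 135 (.lin 1) (.split 4 123 (.lin 0) .sq)) (.wt 0)) (.wt 1))) (.wt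
    2)))) (.wt 0)) (.wt 1))) (.wt 2))) (.wt 2))) (.wt 2))) (.wt 2))) (.lin 4)))) .sq) .sq) (.wt
    1))) (.lin 12)) (.split 5 (-58) (.split 4 96 (.lin 12) (.split 3 162 (.split 1 133 (.split 5
    (-176) (.lin 4) (.split 3 155 (.split 1 124 (.split 6 (-38) (.split 2 108 (.lin 9) (.split 3
    69 (.lin 11) (.splitN 37547 .sq (.split 1 61 (.split 5 (-104) (.lin 4) (.splitN 50571 (.split
    1 54 (.split 5 (-95) (.lin 4) (.split 2 153 (.split 4 142 (.split 7 (-101) (.lin 9) (.split 0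
    42 (.split 5 (-86) (.lin 4) (.split 1 46 (.split 5 (-77) (.lin 4) (.split 6 (-47) (.split 2
    117 (.lin 3) (.split 3 78 (.lin 7) (.split 7 (-92) (.lin 9) (.split 1 33 (.split 5 (-59)
    (.lin 4) (.split 3 79 (.splitN 45310 (.split 7 (-67) (.split 2 126 (.lin 1) (.split 4 105
    (.lin 0) .sq)) (.wt 0)) (.wt 0)) (.lin 7))) (.wt 2))))) (.wt 6))) (.wt 2))) (.wt 2))) (.lin
    3)) .sq)) (.wt 2)) (.wt 1))) (.wt 2))))) (.wt 2)) (.lin 11)) (.wt 2))) (.lin 11)) (.wt 2)))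
    (.lin 4))))) .sq) (.lin 7))) .sq) (.wt 1)))) (.split 2 109 (.split 4 97 (.splitN 191474
    (.split 5 (-423) .sq (.split 0 29 (.split 4 79 (.splitN 33167 (.wt 1) cert5_35_6) (.lin 12))
    (.split 5 (-58) (.split 4 60 (.lin 12) (.split 1 97 (.split 5 (-194) (.lin 0) (.split 5
    (-140) (.lin 4) (.split 1 71 (.split 5 (-113) (.lin 4) (.split 1 65 (.split 5 (-104) (.lin 4)
    (.split 3 87 (.split 5 (-95) (.lin 7) (.split 6 (-44) (.split 1 34 (.split 5 (-77) (.lin 4)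
    (.split 3 60 (.lin 7) (.split 3 69 (.lin 11) (.splitN 51261 (.split 7 (-46) (.split 2 90
    (.lin 9) (.split 4 69 (.lin 3) (.split 4 78 (.lin 12) (.splitN 48400 (.split 0 35 (.split 1
    25 (.split 5 (-59) (.lin 4) (.wt 2)) (.wt 0)) (.wt 0)) (.wt 6))))) (.wt 0)) (.wt 6))))) (.lin
    11)) (.wt 2))) (.wt 2))) (.wt 2))) (.wt 2)))) (.wt 2))) (.lin 4)))) (.wt 1)) (.lin 12)) (.lin
    9)))

def cert5_35_8 : Cert :=
  (.split 7 (-15) (.split 2 45 (.lin 9) (.split 4 33 (.lin 12) (.split 6 (-139) (.wt 2) (.split 2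
    154 (.split 1 22 (.split 3 151 (.split 5 (-32) (.lin 4) (.split 6 (-44) (.wt 2) (.split 3 52
    (.split 2 55 (.splitN 45234 (.wt 1) (.split 1 8 (.wt 0) (.split 3 42 (.lin 2) (.split 5 (-31)
    (.splitN 72164 (.wt 1) (.split 6 (-33) (.wt 0) (.split 3 43 (.splitN 81276 (.wt 0) (.wt 0))
    (.lin 6)))) (.lin 4))))) (.lin 9)) (.lin 6)))) (.lin 2)) (.split 3 51 (.lin 2) (.split 5
    (-40) (.splitN 74890 (.wt 1) (.split 6 (-30) (.split 2 54 (.lin 3) (.split 3 60 (.lin 6)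
    (.split 6 (-99) (.wt 2) (.split 2 109 (.split 6 (-64) (.split 2 81 (.lin 3) (.splitN 165117
    (.wt 1) (.split 1 29 (.wt 0) (.split 5 (-49) (.splitN 211968 (.wt 1) (.split 1 36 (.wt 0)
    (.split 5 (-58) (.split 3 132 (.wt 2) (.split 6 (-89) (.wt 2) (.split 2 100 (.split 5 (-67)
    (.split 3 143 (.wt 2) (.split 5 (-85) (.split 3 161 (.wt 2) (.split 5 (-103) (.split 3 175
    (.wt 2) (.split 5 (-112) (.split 6 (-81) (.wt 2) (.split 2 91 (.split 1 105 (.lin 11) (.split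
    5 (-121) (.split 3 364 (.split 5 (-311) (.lin 1) (.split 1 295 (.splitN 634042 (.wt 1)
    (.split 1 116 (.wt 0) (.split 5 (-130) (.split 5 (-139) (.splitN 734182 (.wt 1) (.split 1 132
    (.wt 0) (.split 5 (-148) (.splitN 784083 (.wt 1) (.split 1 139 (.wt 0) (.split 5 (-157)
    (.splitN 833900 (.wt 1) (.split 1 147 (.wt 0) (.split 5 (-166) (.splitN 883607 (.wt 1)
    (.split 1 154 (.wt 0) (.split 5 (-175) (.splitN 933237 (.wt 1) (.split 6 (-71) (.wt 0)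
    (.split 2 82 (.split 3 274 (.wt 2) (.split 5 (-229) (.split 3 301 (.wt 2) (.split 5 (-256)
    (.split 3 331 (.split 1 268 (.split 1 253 (.wt 2) (.split 5 (-274) (.wt 2) (.lin 0))) (.lin
    2)) (.split 1 276 (.lin 2) (.wt 2))) (.lin 1))) (.lin 1))) (.lin 3)))) (.lin 4)))) (.lin
    4)))) (.lin 4)))) (.lin 4)))) (.lin 4)) (.lin 0)))) (.lin 2))) (.split 5 (-310) (.split 1 294
    (.lin 2) (.split 6 (-69) (.split 2 90 (.lin 3) (.splitN 4957377 (.wt 1) (.split 1 351 (.wt 0)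
    (.split 5 (-373) (.splitN 9895287 (.wt 1) (.split 1 422 (.wt 0) (.split 5 (-445) (.splitN
    46380368 (.wt 1) (.split 1 502 (.wt 0) (.split 5 (-526) (.wt 1) (.lin 0)))) (.lin 0)))) (.lin
    0))))) (.split 2 82 (.splitN 41767955 (.split 1 810 (.split 5 (-824) (.lin 0) (.splitN
    4162995 (.split 1 442 (.split 5 (-455) (.lin 0) (.wt 2)) (.wt 0)) (.wt 1))) (.wt 0)) (.wt 1))
    (.lin 3)))) (.lin 1))) (.lin 1))) (.lin 3))) (.lin 1))) (.lin 1))) (.lin 1))) (.lin 1)) (.lin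
    3)))) (.lin 4)))) (.lin 4))))) (.split 2 73 (.split 1 58 (.split 3 106 (.split 5 (-68) (.lin
    4) (.split 6 (-52) (.wt 2) (.split 2 64 (.splitN 265850 .cand (.wt 1)) (.lin 3)))) (.lin 2))
    (.split 3 96 (.lin 2) (.split 5 (-76) (.splitN 8136322 (.split 5 (-45185) (.div 5) (.split 3
    402 (.split 5 (-374) (.lin 1) (.split 3 320 (.split 5 (-293) (.lin 1) (.split 3 303 (.split 5
    (-275) (.lin 1) (.split 6 (-44) (.split 3 105 (.lin 6) (.split 6 (-51) (.split 2 72 (.lin 3)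
    (.split 1 121 (.split 5 (-131) (.lin 0) (.split 3 169 (.splitN 311224 (.wt 1) (.split 1 62
    (.wt 0) (.split 5 (-85) (.splitN 344306 (.wt 1) (.split 3 127 (.wt 2) (.splitN 533151 .cand
    (.wt 1)))) (.lin 0)))) (.lin 6))) (.split 5 (-139) (.split 3 177 (.lin 6) (.wt 2)) (.lin
    0)))) (.split 2 64 (.wt 2) (.lin 3)))) (.wt 2))) (.wt 2))) (.wt 2))) (.wt 2))) (.wt 1)) (.lin
    4)))) (.lin 3))) (.lin 3))))) (.wt 2))) (.lin 4)))) (.lin 3))))) (.split 4 25 (.splitN 227705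
    (.wt 1) (.split 1 15 (.split 5 (-23) (.lin 4) (.split 6 (-275) (.wt 0) (.split 2 280 (.split
    3 277 (.splitN 250393 (.wt 1) (.split 6 (-136) (.wt 0) (.split 2 136 (.split 3 133 (.splitN
    280672 (.wt 1) (.split 6 (-89) (.wt 0) (.split 2 91 (.split 3 88 (.split 6 (-66) (.wt 0)
    (.split 3 70 (.splitN 354993 (.wt 1) (.split 6 (-55) (.wt 0) (.split 3 52 (.split 6 (-43)
    (.wt 0) (.split 3 43 (.splitN 546993 (.wt 1) (.split 6 (-37) (.wt 0) (.split 2 37 (.split 3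
    34 (.splitN 3864734 (.wt 0) (.wt 0)) (.lin 6)) (.lin 0)))) (.lin 6))) (.lin 6)))) (.lin 6)))
    (.lin 6)) (.lin 0)))) (.lin 6)) (.lin 0)))) (.lin 6)) (.lin 0)))) (.wt 0))) (.lin 12)))

def cert5_35_9 : Cert :=
  (.split 0 58 (.split 5 (-68) (.lin 4) (.split 4 79 (.split 4 70 (.splitN 1060258 (.split 2 5890
    (.split 6 (-5906) (.lin 0) (.splitN 993429 (.splitN 50066 (.wt 1) (.split 2 989 (.split 6
    (-1001) (.lin 0) (.split 3 1042 (.splitN 758528 (.split 2 861 (.split 6 (-875) (.lin 0)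
    (.split 3 916 (.split 1 11 (.split 5 (-59) (.lin 4) (.splitN 78125 (.split 2 418 (.split 6
    (-425) (.lin 0) (.split 3 457 (.split 3 403 (.splitN 65486 (.split 2 346 (.split 3 358
    (.split 0 28 (.wt 0) (.split 5 (-40) (.split 4 51 (.lin 8) (.splitN 53575 (.wt 1) (.split 3
    71 (.wt 0) (.split 2 90 (.lin 2) (.split 6 (-73) (.split 0 35 (.wt 0) (.split 5 (-49) (.split
    4 60 (.lin 8) (.splitN 57789 (.wt 1) (.split 3 117 (.wt 0) (.split 2 135 (.lin 2) (.split 6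
    (-118) (.wt 0) (.lin 9)))))) (.lin 4))) (.lin 9)))))) (.lin 4))) (.lin 1)) (.div 2)) (.wt 3))
    (.lin 2)) (.lin 6))) (.div 2)) (.wt 0))) (.split 3 78 (.lin 2) (.split 5 (-40) (.splitN
    644382 (.split 2 791 (.split 6 (-794) (.lin 0) (.split 6 (-226) (.split 3 213 (.lin 6)
    (.split 2 243 (.lin 9) (.split 3 240 (.lin 2) (.splitN 173384 .sq (.split 0 25 (.wt 0)
    (.split 5 (-49) (.split 4 51 (.lin 8) (.split 0 40 (.split 5 (-50) (.lin 4) (.split 4 52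
    (.splitN 216445 (.split 6 (-267) (.split 3 285 (.lin 6) .sq) (.wt 2)) (.wt 1)) (.lin 8)))
    (.wt 2))) (.lin 4))))))) (.split 2 262 (.split 3 259 (.split 2 235 (.split 3 232 (.split 0 50
    (.split 5 (-59) (.lin 4) (.split 4 61 (.split 6 (-118) (.split 2 117 (.lin 0) (.split 3 114
    (.lin 6) (.split 2 135 (.lin 9) (.split 3 132 (.lin 2) (.split 0 39 (.split 5 (-50) (.lin 4)
    (.split 4 52 (.splitN 124365 (.wt 1) (.split 0 29 (.split 5 (-41) (.lin 4) (.split 4 43 (.wt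
    0) (.lin 8))) (.split 5 (-49) (.split 4 51 (.lin 8) (.splitN 181980 (.split 3 189 (.split 2
    190 (.split 6 (-173) (.lin 0) (.splitN 168276 (.wt 0) (.wt 1))) (.lin 1)) (.wt 0)) (.wt 1)))
    (.lin 4)))) (.lin 8))) (.wt 2)))))) (.split 3 142 (.split 2 127 (.split 3 124 (.split 0 35
    (.split 5 (-50) (.lin 4) (.split 4 52 (.split 6 (-87) (.split 3 96 (.lin 6) (.split 0 31
    (.split 5 (-41) (.lin 4) (.split 4 43 (.splitN 118172 (.wt 1) (.wt 0)) (.lin 8))) (.wt 2)))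
    (.split 2 109 (.split 2 100 (.split 3 97 (.splitN 152341 (.splitN 114351 (.wt 3) (.split 0 31
    (.split 5 (-41) (.lin 4) (.split 4 43 (.split 6 (-79) (.wt 0) (.split 3 88 (.split 6 (-66)
    (.split 3 87 (.lin 6) (.splitN 118413 (.wt 0) (.wt 0))) (.wt 2)) (.lin 6))) (.lin 8))) (.wt
    0))) (.wt 1)) (.lin 2)) (.lin 9)) (.lin 0))) (.lin 8))) (.wt 2)) (.lin 2)) (.lin 9)) (.lin
    6))) (.lin 8))) (.wt 2)) (.lin 2)) (.lin 9)) (.lin 6)) (.lin 0)))) .sq) (.wt 1)) (.lin 4))))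
    (.lin 6))) .sq) (.wt 1)) (.lin 6))) .sq)) (.wt 1))) (.div 2)) (.wt 1)) (.lin 12)) (.lin 8)))
    (.split 5 (-67) (.split 4 69 (.lin 8) (.split 4 78 (.lin 12) (.splitN 1031589 (.split 0 28640
    (.split 5 (-28652) (.lin 4) (.split 2 5728 (.split 6 (-5708) (.lin 9) (.split 5 (-5729) (.div
    5) (.split 4 5740 (.splitN 938314 (.split 2 5206 (.split 6 (-5186) (.lin 9) (.split 0 954
    (.split 5 (-968) (.lin 4) (.split 4 979 (.splitN 817754 (.split 0 889 (.split 5 (-905) (.lin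
    4) (.split 2 890 (.split 6 (-866) (.lin 9) (.splitN 626605 (.split 0 774 (.split 5 (-788)
    (.lin 4) (.split 4 799 (.split 2 776 (.split 6 (-758) (.lin 9) (.splitN 593057 (.split 4 752
    (.split 5 (-743) (.lin 8) (.split 1 11 (.splitN 113802 .cand (.wt 1)) (.split 3 78 (.lin 2)
    (.splitN 531813 (.splitN 260973 (.wt 5) (.split 0 93 (.split 5 (-104) (.lin 4) (.splitN
    284332 (.split 0 63 (.split 5 (-77) (.lin 4) (.split 4 79 (.wt 1) (.lin 8))) (.wt 0)) (.wt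
    6))) (.wt 0))) (.wt 1))))) .sq) (.wt 1))) .sq) (.lin 8))) .sq) (.wt 1))) .sq)) .sq) (.wt 1))
    (.lin 8))) .sq)) (.div 2)) (.wt 1)) (.lin 8)))) (.div 2))) (.div 0)) (.wt 1)))) (.lin 4)))

def cert5_35_10 : Cert :=
  (.split 6 (-190) (.split 2 189 (.lin 3) (.split 3 195 (.lin 6) (.split 2 207 (.lin 9) (.split 3
    213 (.lin 2) (.split 0 39 (.split 4 52 (.split 1 72 (.split 1 47 (.split 5 (-77) (.lin 4)
    (.split 0 29 (.split 5 (-68) (.lin 4) (.split 4 43 (.split 6 (-1138) (.wt 2) (.split 3 1177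
    (.split 6 (-727) (.wt 2) (.split 3 763 (.split 6 (-608) (.wt 2) (.split 3 646 (.split 6
    (-560) (.wt 2) (.split 2 595 (.split 3 601 (.split 1 34 (.split 5 (-59) (.lin 4) (.split 6
    (-333) (.wt 2) (.split 2 352 (.split 3 358 (.splitN 608763 (.split 1 25 (.wt 2) (.split 5
    (-58) (.splitN 444444 (.wt 1) .cand) (.lin 4))) (.wt 3)) (.lin 6)) (.lin 0)))) (.split 3 231
    (.lin 2) (.split 5 (-67) (.split 6 (-238) (.split 2 261 (.lin 0) (.split 3 285 (.lin 6)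
    (.splitN 2347075 (.split 6 (-521) (.wt 1) (.split 2 532 (.split 3 556 (.splitN 2202010
    (.split 6 (-490) (.wt 1) (.split 2 505 (.split 6 (-268) (.split 2 288 (.lin 0) (.split 3 312
    (.lin 6) (.splitN 1940769 (.split 6 (-447) (.wt 1) (.split 2 460 (.split 3 484 (.splitN
    1762588 (.split 6 (-405) (.wt 1) (.split 2 415 (.split 3 439 (.splitN 1639114 (.split 6
    (-377) (.wt 1) (.split 2 388 (.split 3 412 (.split 6 (-282) (.split 2 306 (.lin 0) (.splitN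
    1484556 (.split 6 (-346) (.wt 1) (.split 3 385 (.split 6 (-315) (.wt 2) (.split 2 325 (.split
    3 349 (.splitN 1386452 (.splitN 1212347 (.wt 1) .cand) (.wt 0)) (.lin 6)) (.lin 0))) (.lin
    6))) (.wt 3))) (.wt 2)) (.lin 6)) (.lin 0))) (.wt 3)) (.lin 6)) (.lin 0))) (.wt 3)) (.lin 6))
    (.lin 0))) (.wt 3)))) (.wt 2)) (.lin 0))) (.wt 3)) (.lin 6)) (.lin 0))) (.wt 3)))) (.wt 2))
    (.lin 4)))) (.lin 6)) (.lin 0))) (.lin 6))) (.lin 6))) (.lin 6))) (.lin 12))) (.split 4 51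
    (.lin 12) (.split 1 32 (.split 5 (-59) (.lin 4) (.splitN 547614 (.split 2 3028 (.split 6
    (-3008) (.lin 0) (.wt 2)) (.div 2)) (.wt 1))) (.wt 0))))) (.split 3 240 (.lin 2) (.split 5
    (-76) (.split 0 28 (.split 5 (-95) (.lin 4) (.split 4 43 (.split 6 (-236) (.split 2 243 (.lin
    0) (.split 3 294 (.lin 6) (.split 2 261 (.lin 9) (.split 6 (-277) (.split 2 279 (.lin 0)
    (.split 3 330 (.lin 6) (.split 6 (-302) (.split 2 324 (.lin 3) (.split 3 357 (.lin 6) (.split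
    6 (-320) (.split 2 342 (.lin 3) (.split 6 (-590) (.wt 1) (.split 2 622 (.split 3 655 (.split
    1 60 (.split 5 (-77) (.lin 4) (.split 6 (-338) (.split 3 393 (.lin 6) (.split 6 (-362)
    (.split 2 387 (.lin 0) (.split 3 420 (.lin 6) (.split 6 (-456) (.wt 1) (.split 2 469 (.split
    3 502 (.split 6 (-428) (.wt 1) (.split 2 442 (.split 3 475 (.split 6 (-391) (.split 2 414
    (.lin 0) (.split 3 447 (.lin 6) (.split 6 (-411) (.splitN 116907216 (.wt 1) (.split 3 466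
    (.wt 0) (.split 2 441 (.lin 1) (.split 6 (-420) (.wt 0) (.lin 0))))) (.splitN 99911894
    (.split 3 453 (.split 2 415 (.splitN 75474209 (.split 6 (-402) (.lin 0) (.wt 0)) (.wt 1))
    (.lin 1)) (.wt 0)) (.wt 1))))) (.wt 2)) (.lin 6)) (.lin 0))) (.lin 6)) (.lin 0))))) (.wt 0)))
    (.wt 0))) (.wt 0)) (.lin 6)) (.lin 0)))) (.wt 0)))) (.wt 0)))) (.wt 0))))) (.wt 0)) (.lin
    12))) (.wt 0)) (.lin 4)))) (.wt 3)) (.lin 12)) (.wt 2)))))) (.split 2 199 (.split 0 42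
    (.split 1 71 (.split 5 (-104) (.lin 4) (.split 1 69 (.split 5 (-95) (.lin 4) (.split 0 31
    (.split 4 43 (.split 6 (-96) (.split 2 117 (.lin 3) (.split 1 43 (.split 3 223 (.split 5
    (-68) (.lin 4) (.split 6 (-105) (.split 2 126 (.lin 3) (.split 3 132 (.lin 6) (.split 1 34
    (.split 5 (-59) (.lin 4) (.split 6 (-112) (.split 3 141 (.lin 6) (.split 6 (-150) (.split 2
    162 (.lin 0) (.split 3 177 (.lin 6) (.splitN 491254 (.splitN 267901 (.wt 1) (.split 1 29 (.wt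
    0) (.split 5 (-58) (.split 3 197 (.split 2 181 (.split 6 (-164) (.lin 0) (.wt 0)) (.lin 1))
    (.wt 0)) (.lin 4)))) (.wt 1)))) (.split 2 172 (.split 2 163 (.splitN 418956 (.split 1 32
    (.split 3 169 (.split 5 (-50) (.lin 4) (.splitN 264338 (.split 6 (-143) (.wt 1) (.split 3 160
    (.split 6 (-122) (.split 2 144 (.lin 0) (.splitN 246980 (.wt 1) (.split 6 (-132) (.wt 0)
    (.split 3 151 (.wt 0) (.lin 6))))) (.wt 2)) (.lin 6))) (.wt 3))) (.lin 2)) (.wt 0)) (.wt 1))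
    (.lin 9)) (.lin 0)))) (.wt 2))) (.split 3 150 (.lin 2) (.split 5 (-67) (.splitN 849056
    (.split 3 153 (.split 2 127 (.split 6 (-110) (.lin 0) (.wt 0)) (.lin 1)) (.wt 0)) (.wt 1))
    (.lin 4)))))) (.wt 2))) (.lin 2)) (.split 3 150 (.lin 2) (.wt 2)))) (.wt 2)) (.lin 12)) (.wt
    2))) (.wt 0))) (.wt 0)) (.wt 0)) (.lin 9)))

def cert5_35_11 : Cert :=
  (.split 7 (-28) (.split 2 54 (.lin 9) (.split 4 33 (.lin 12) (.split 0 7 (.wt 2) (.split 5
    (-22) (.split 4 42 (.lin 12) (.split 1 22 cert5_35_1 (.split 5 (-40) (.split 3 51 (.lin 11)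
    (.splitN 23349 (.wt 1) (.split 6 (-64) (.split 2 90 (.lin 9) cert5_35_5) (.splitN 270049
    (.split 0 7490 (.split 1 2996 (.split 5 (-10481) (.lin 4) (.split 3 3049 (.split 2 1498
    (.split 7 (-1469) (.lin 9) (.split 5 (-1499) (.div 5) (.split 1 1483 (.split 0 181 (.split 4
    1645 (.split 1 508 (.split 5 (-680) (.lin 4) (.splitN 245285 (.split 0 173 (.split 1 482
    (.split 5 (-644) (.lin 4) (.split 2 484 (.split 4 619 (.split 7 (-452) (.lin 9) (.split 0 147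
    (.split 3 484 (.split 5 (-599) (.lin 7) (.split 4 483 (.split 5 (-484) .sq (.split 0 47
    (.split 7 (-113) (.split 2 144 (.lin 9) (.split 4 132 (.lin 12) (.splitN 58607 .sq (.splitN
    61296 (.split 2 328 (.split 5 (-329) (.div 5) (.split 3 367 (.split 0 16 (.split 4 313 (.wt
    0) (.lin 3)) (.wt 1)) (.lin 7))) (.div 2)) (.wt 1))))) (.split 2 163 (.split 4 151 (.splitN
    208714 (.splitN 27784 (.wt 1) (.split 3 446 (.split 1 412 cert5_35_7 (.lin 11)) .sq)) (.wt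
    1)) (.lin 12)) (.lin 9))) (.split 5 (-76) (.split 4 78 (.lin 12) (.splitN 58552 (.split 2 310
    (.split 7 (-281) (.lin 9) (.split 5 (-311) (.div 5) (.splitN 55450 (.split 2 292 (.split 7
    (-263) (.lin 9) (.split 5 (-293) (.div 5) (.split 7 (-49) (.split 4 105 (.lin 12) (.splitN
    52060 (.split 2 274 (.split 7 (-245) (.lin 9) (.split 7 (-58) (.split 4 114 (.lin 12) (.split
    0 75 (.split 1 47 (.split 5 (-113) (.lin 4) (.splitN 48705 (.split 2 256 (.split 7 (-227)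
    (.lin 9) (.splitN 45843 (.split 2 238 (.split 7 (-209) (.lin 9) (.split 6 (-32) (.split 2 99
    (.lin 9) (.split 3 60 (.lin 11) (.splitN 41516 .sq (.wt 6)))) (.wt 0))) (.div 2)) (.wt 6)))
    (.div 2)) (.wt 1))) (.wt 2)) (.wt 2))) (.wt 0))) (.div 2)) (.wt 6))) (.wt 0)))) (.div 2))
    (.wt 6)))) (.div 2)) (.wt 6))) (.lin 4)))) .sq)) .sq) (.wt 2))) (.lin 3)) .sq)) .sq) (.wt 2))
    (.wt 1))) .sq) (.lin 3)) (.wt 2)) (.lin 4)))) (.div 2)) (.lin 11))) (.div 1)) (.div 0)) (.wt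
    1))))) (.lin 4)))) (.lin 4))))) (.split 0 22 (.split 4 34 (.split 0 11 (.wt 6) (.split 5
    (-22) (.split 4 24 (.lin 12) cert5_35_8) (.lin 4))) (.lin 12)) (.split 5 (-31) (.split 4 33
    (.lin 12) (.split 7 (-15) (.split 2 45 (.lin 9) (.split 4 42 (.lin 12) (.split 1 22 (.split 6
    (-64) (.split 2 81 (.lin 9) (.split 3 69 (.lin 2) cert5_35_9)) (.split 2 73 (.split 3 70
    (.splitN 292803 (.split 0 533 (.split 5 (-572) (.lin 1) (.split 4 610 (.splitN 268578 (.split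
    0 509 (.split 5 (-518) (.lin 4) (.split 1 11 (.splitN 92106 .cand (.wt 1)) (.split 3 42 (.lin
    2) (.split 5 (-40) (.splitN 225224 (.split 0 47 (.split 5 (-86) (.lin 1) (.split 5 (-59)
    (.lin 4) (.split 4 61 (.splitN 141646 (.split 0 33 (.split 5 (-41) (.lin 4) (.split 4 43
    (.splitN 119772 (.split 3 59 (.split 2 55 (.split 6 (-38) (.lin 0) (.wt 0)) (.lin 1)) (.wt
    0)) (.wt 1)) (.lin 8))) (.wt 0)) (.wt 1)) (.lin 8)))) (.wt 0)) (.wt 1)) (.lin 4))))) .sq)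
    (.wt 1)) (.lin 0))) .sq) (.wt 1)) (.lin 2)) (.lin 9))) (.split 3 51 (.lin 2) (.split 5 (-49)
    (.split 6 (-36) (.split 2 54 (.lin 9) (.split 3 60 (.lin 2) (.split 6 (-39) (.split 2 63
    (.lin 9) (.split 3 69 (.lin 2) (.split 6 (-65) (.split 2 90 (.lin 9) (.split 3 96 (.lin 2)
    (.split 0 55 (.split 6 (-77) (.split 2 99 (.lin 9) (.split 3 105 (.lin 2) (.split 1 1173
    (.split 5 (-1220) (.lin 4) (.split 1 117 (.split 5 (-167) (.lin 4) (.split 0 49 (.split 4 61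
    (.split 6 (-86) (.split 2 108 (.lin 9) (.split 3 114 (.lin 2) (.split 1 107 (.split 5 (-149)
    (.lin 4) cert5_35_10) (.wt 3)))) (.wt 2)) (.lin 12)) (.wt 2))) (.wt 3))) (.wt 0)))) (.wt 2))
    (.wt 2)))) (.wt 2)))) (.wt 0)))) (.wt 0)) (.lin 4)))))) (.wt 3))) (.lin 4))))

def cert5_35 : Cert :=
  (.split 5 (-13) (.split 3 15 (.lin 11) (.split 6 (-28) (.split 2 36 (.lin 9) (.split 3 33 (.lin
    11) cert5_35_11)) (.split 7 (-28) (.split 2 36 (.lin 9) (.split 4 24 (.lin 3) (.split 4 33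
    (.lin 12) (.splitN 448962 (.split 1 4976 (.split 2 2488 (.split 5 (-2489) (.div 5) (.split 1
    2482 (.split 0 666 (.split 4 3139 (.splitN 428219 (.split 1 649 (.split 5 (-1310) (.lin 4)
    (.splitN 405086 (.split 2 632 (.split 7 (-623) (.lin 9) (.split 3 631 (.split 4 632 (.split 5
    (-1220) (.lin 6) (.splitN 382920 (.split 5 (-614) .sq (.split 0 20 (.splitN 13866 (.wt 1)
    (.split 6 (-15) (.split 3 24 (.lin 11) (.splitN 193324 (.split 1 431 (.split 5 (-446) (.lin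
    4) (.split 2 434 (.split 4 430 (.split 3 432 (.split 0 11 (.splitN 59860 (.split 2 328
    (.split 4 313 (.split 5 (-329) (.div 5) (.split 3 340 (.wt 2) (.lin 7))) (.lin 3)) (.div 2))
    (.wt 0)) (.splitN 70301 .cand (.wt 1))) .sq) (.lin 3)) .sq)) .sq) (.wt 1))) (.splitN 51543
    (.split 0 14 .cand (.wt 2)) (.wt 1)))) (.splitN 14677 (.wt 0) (.splitN 71273 (.split 6 (-12)
    .cand (.wt 2)) (.wt 1))))) (.wt 1))) .sq) .sq)) .sq) (.wt 1))) .sq) (.wt 1)) (.lin 3)) .sq)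
    (.lin 4))) (.div 2)) (.div 1)) (.wt 1))))) (.split 2 37 (.splitN 16620 (.wt 1) (.split 0 96
    (.split 4 115 (.split 4 106 (.split 0 24 (.split 4 34 (.split 6 (-15) (.split 2 27 (.lin 9)
    (.split 3 24 (.lin 11) (.split 0 11 (.split 4 25 (.split 1 8 (.wt 2) (.split 5 (-22) (.split
    3 38 (.wt 2) (.split 5 (-31) (.split 1 24 (.lin 11) (.splitN 69791 (.wt 1) (.split 7 (-11)
    (.split 2 36 (.lin 9) (.split 4 24 (.lin 3) (.splitN 75511 (.split 5 (-419) (.div 5) (.split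
    3 430 (.wt 0) (.lin 6))) (.wt 0)))) (.wt 1)))) (.lin 7))) (.lin 4))) (.lin 3)) (.split 4 24
    (.lin 3) (.split 5 (-22) (.split 1 13 (.split 3 34 (.split 5 (-23) (.lin 4) (.split 3 25
    (.splitN 37000 (.wt 1) (.splitN 79521 (.split 7 (-12) (.wt 0) (.wt 0)) (.wt 6))) (.lin 7)))
    (.lin 2)) (.wt 2)) (.lin 4)))))) (.split 2 28 (.split 0 10 (.split 4 25 (.split 3 90 (.split
    5 (-95) (.lin 1) (.split 1 88 (.split 3 72 (.split 1 61 (.split 5 (-68) (.lin 4) (.split 3 68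
    (.split 5 (-59) (.lin 7) (.split 1 52 (.split 7 (-15) (.splitN 52610 .cand (.wt 1)) (.split 2
    19 (.split 4 16 (.splitN 2087148 (.splitN 58802 (.wt 3) (.split 1 14 (.split 5 (-14) (.lin 0)
    (.split 3 16 (.wt 0) (.lin 6))) (.wt 0))) (.wt 1)) (.lin 3)) (.lin 9))) (.lin 11))) (.wt 2)))
    (.lin 11)) (.wt 2)) (.lin 2))) (.wt 2)) (.lin 3)) (.wt 2)) (.lin 9))) (.lin 12)) (.split 4 33
    (.lin 12) (.split 1 69 (.split 5 (-167) (.lin 0) (.split 5 (-149) (.lin 4) (.splitN 1094733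
    (.split 1 52 (.split 5 (-140) (.lin 4) (.splitN 923998 (.split 1 50 (.split 0 43 (.split 4 70
    (.split 5 (-86) (.lin 4) (.splitN 351424 (.split 1 36 (.split 5 (-77) (.lin 4) (.splitN
    295593 (.split 1 33 (.split 5 (-68) (.lin 4) (.splitN 246006 (.split 7 (-11) (.splitN 76976
    (.split 1 12 (.split 5 (-50) (.lin 4) (.splitN 44356 (.split 3 21 (.split 2 28 (.split 6
    (-11) (.lin 9) (.wt 0)) (.lin 2)) (.wt 0)) (.wt 1))) (.wt 0)) (.wt 1)) (.wt 0)) (.wt 6)))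
    (.wt 0)) (.wt 6))) (.wt 0)) (.wt 6))) (.lin 3)) (.wt 2)) (.wt 0)) (.wt 6))) (.wt 0)) (.wt
    6)))) (.wt 0)))) (.lin 12)) (.lin 3)) (.wt 2))) (.lin 9))))) (.lin 4))

theorem check5_35 :
    check task5 cert5_35
      [(7, ⟨some (7), none⟩), (7, ⟨some (7), none⟩), (1, ⟨some (19), none⟩), (7, ⟨some (7), none⟩), (7, ⟨some (16), none⟩), (5, ⟨none, none⟩), (8, ⟨none, some (-10)⟩), (8, ⟨none, some (-10)⟩)] ⟨some (3960), none⟩ = true := by
  decide +kernel

def cert5_36 : Cert :=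
  (.wt 2)

theorem check5_36 :
    check task5 cert5_36
      [(7, ⟨some (7), none⟩), (7, ⟨none, none⟩), (1, ⟨some (10), none⟩), (7, ⟨some (7), none⟩), (7, ⟨some (16), none⟩), (5, ⟨none, none⟩), (8, ⟨some (-1), some (-1)⟩), (8, ⟨none, some (-10)⟩)] ⟨some (3960), none⟩ = true := by
  decide +kernel

def cert5_37 : Cert :=
  (.wt 3)

theorem check5_37 :
    check task5 cert5_37
      [(7, ⟨some (7), none⟩), (7, ⟨none, none⟩), (1, ⟨some (1), none⟩), (7, ⟨some (7), none⟩), (7, ⟨some (7), none⟩), (5, ⟨none, none⟩), (8, ⟨none, some (-1)⟩), (8, ⟨some (-1), some (-1)⟩)] ⟨some (3960), none⟩ = true := by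
  decide +kernel

def cert5_38_0 : Cert :=
  (.split 0 (-30) (.split 4 (-74) (.split 5 58 (.lin 4) (.splitN 23120 (.wt 1) (.splitN 184187
    (.split 1 (-2025) (.div 1) (.split 2 (-1013) (.div 2) (.split 7 3041 (.split 4 (-2025) (.div
    4) (.split 7 1979 (.split 5 1012 (.split 0 (-984) (.lin 4) (.splitN 173903 (.split 5 958
    (.split 6 (-929) (.lin 7) (.split 3 7 (.wt 2) (.split 7 43 (.lin 2) (.split 4 (-83) (.split 6
    (-37) (.splitN 162103 (.split 4 (-1773) (.div 4) (.split 7 1727 (.splitN 136519 (.split 5 742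
    (.split 0 (-714) (.lin 4) (.split 0 (-346) .sq (.split 1 (-344) .sq (.split 2 (-344) .sq
    (.split 7 692 (.splitN 126979 (.split 4 (-339) .sq (.split 2 (-261) (.lin 10) (.split 5 311
    (.split 7 296 (.splitN 109844 (.split 4 (-315) .sq (.split 0 (-264) (.lin 3) (.split 6 (-263)
    (.lin 3) (.split 1 (-246) (.lin 11) (.split 7 269 (.split 6 (-99) (.split 1 (-83) (.split 7
    106 (.lin 2) (.split 4 (-146) (.split 5 121 (.lin 4) (.splitN 66302 .sq (.wt 0))) (.lin 3)))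
    (.lin 11)) (.split 1 (-75) (.lin 11) (.splitN 87959 (.split 4 (-276) .sq (.split 0 (-228)
    (.lin 3) (.split 7 233 (.split 6 (-64) (.split 1 (-47) (.split 7 70 (.lin 2) (.split 4 (-110)
    (.split 5 85 (.lin 4) (.splitN 63755 (.splitN 58177 (.split 0 (-60) (.wt 2) (.split 5 131
    (.split 4 (-188) .sq (.split 2 (-81) (.lin 10) (.split 7 143 (.splitN 52895 (.split 0 (-52)
    (.wt 2) (.split 5 122 (.split 6 (-86) (.wt 2) (.split 5 113 (.split 7 107 (.split 0 (-47)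
    (.wt 2) .cand) (.split 2 (-35) (.split 4 (-155) .sq (.lin 12)) (.lin 9))) (.lin 7))) (.lin
    4))) (.wt 3)) (.lin 12)))) (.lin 4))) (.wt 3)) (.wt 0))) (.lin 3))) (.lin 11)) (.split 1
    (-39) (.lin 11) (.splitN 70294 (.split 4 (-245) .sq (.split 7 93 (.split 2 (-54) (.lin 2)
    (.split 0 (-79) (.split 4 (-128) (.split 5 103 (.lin 4) (.splitN 38114 .sq (.splitN 54070
    (.split 0 (-147) .sq (.split 4 (-176) .sq (.split 5 149 (.split 7 66 (.split 6 (-55) (.wt 2)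
    (.split 1 (-30) (.lin 11) (.splitN 45257 (.split 6 (-39) (.split 4 (-137) (.split 1 (-29)
    (.split 7 52 (.lin 2) (.split 5 112 (.lin 4) .sq)) (.lin 11)) (.lin 3)) (.wt 6)) (.wt 1))))
    (.split 2 (-17) (.split 0 (-120) (.lin 3) (.split 4 (-155) (.splitN 49085 .sq (.wt 1)) (.lin
    12))) (.lin 2))) (.lin 10)))) (.wt 1)))) (.lin 3)) (.split 4 (-183) (.lin 3) (.split 4 (-165)
    (.lin 12) (.split 7 66 (.split 6 (-46) (.split 1 (-29) (.split 5 67 (.lin 4) (.splitN 45209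
    .cand (.wt 1))) (.lin 11)) (.split 1 (-21) (.lin 11) (.splitN 41147 (.wt 0) (.wt 1))))
    (.split 2 (-17) (.split 4 (-110) (.split 0 (-45) (.split 5 67 (.lin 4) (.split 6 (-43)
    (.split 5 76 (.lin 7) (.split 1 (-29) (.splitN 45893 .cand (.wt 1)) (.lin 11))) (.wt 2)))
    (.wt 2)) (.lin 12)) (.lin 2))))))) (.split 2 (-44) (.split 0 (-138) (.lin 12) (.split 4
    (-137) (.split 0 (-51) (.split 5 76 (.lin 4) (.split 4 (-155) (.split 7 179 (.splitN 46655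
    .sq (.split 1 (-38) (.wt 1) (.split 2 (-53) (.split 6 (-47) (.lin 11) (.splitN 51142 (.split
    0 (-72) (.split 5 94 (.lin 4) (.split 4 (-173) .sq (.lin 12))) (.wt 1)) (.wt 1))) (.lin 2))))
    (.lin 12)) (.lin 12))) (.wt 2)) (.lin 12))) (.lin 2)))) (.wt 1)))) (.lin 12)))) (.wt 1))))
    (.lin 12)))))) (.wt 3)) (.lin 12)) (.lin 10)))) (.wt 3)) (.lin 2)))))) (.div 5)) (.wt 3))
    (.lin 12))) (.wt 1)) (.lin 11)) (.lin 5))))) (.div 5)) (.wt 3))) (.div 5)) (.lin 12))) (.lin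
    2)))) (.wt 3)))) (.lin 3)) (.split 3 11 (.splitN 151007 (.split 4 (-1665) (.div 4) (.split 7
    1646 (.splitN 142689 (.split 2 (-779) (.div 2) (.split 0 (-22) (.wt 2) (.split 6 (-104) (.wt
    2) (.split 1 (-93) (.lin 11) (.split 7 872 (.split 5 113 (.split 6 (-92) (.wt 2) (.split 5
    104 (.split 6 (-91) (.wt 2) (.split 5 95 (.split 2 (-367) .sq (.split 7 449 (.splitN 124418
    (.split 4 (-347) .sq (.split 2 (-306) (.lin 3) (.split 7 395 (.split 7 332 (.split 0 (-20)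
    (.wt 2) (.splitN 98498 .cand (.wt 1))) (.lin 12)) (.lin 1)))) (.wt 3)) (.lin 1))) (.lin 7)))
    (.lin 7))) (.lin 4)) (.lin 2)))))) (.wt 3)) (.lin 12))) (.wt 3)) (.split 4 (-56) (.split 6
    (-37) (.splitN 134009 (.split 1 (-1485) (.div 1) (.split 5 1508 (.split 2 (-743) (.div 2)
    (.split 7 2249 (.split 4 (-1485) (.div 4) (.split 7 1466 (.split 5 742 (.split 6 (-740) (.lin
    7) (.splitN 121356 (.split 5 670 (.split 6 (-668) (.lin 7) (.split 0 (-14) (.split 4 (-65)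
    (.split 5 40 (.lin 4) (.splitN 109319 (.split 4 (-1197) (.div 4) (.split 7 1169 (.split 5 598
    (.split 6 (-587) (.lin 7) (.split 6 (-46) (.split 4 (-74) (.split 1 (-29) (.split 7 52 (.lin
    2) (.split 5 49 (.lin 4) (.splitN 89408 (.split 4 (-981) (.div 4) (.split 7 953 (.split 6
    (-52) (.split 4 (-83) (.split 1 (-38) (.split 7 61 (.lin 2) (.split 5 58 (.lin 4) (.splitN
    79842 (.split 4 (-873) (.div 4) (.split 7 845 (.split 5 436 (.split 6 (-425) (.lin 7) (.split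
    6 (-56) (.split 4 (-92) (.split 1 (-47) (.split 7 70 (.lin 2) (.split 5 67 (.lin 4) (.splitN
    74494 (.split 1 (-222) .sq (.split 4 (-236) .sq (.split 6 (-200) (.lin 3) (.split 7 206
    (.split 6 (-65) (.split 1 (-56) (.split 7 79 (.lin 2) (.split 5 76 (.lin 4) (.splitN 60526
    (.split 4 (-194) .sq (.split 2 (-99) (.lin 3) (.split 6 (-164) (.lin 3) (.split 1 (-147)
    (.lin 11) (.split 5 176 (.split 5 167 (.split 0 (-25) (.split 4 (-110) (.split 5 85 (.lin 4)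
    (.split 7 161 (.split 6 (-145) (.wt 2) (.splitN 55150 (.split 4 (-171) .sq (.split 6 (-128)
    (.lin 3) (.split 7 134 (.split 6 (-75) (.split 1 (-65) (.split 7 88 (.lin 2) (.split 4 (-119)
    (.split 5 94 (.lin 4) (.splitN 43217 .sq (.splitN 51965 (.split 7 89 (.wt 3) (.split 4 (-128)
    (.splitN 47123 .sq (.split 7 102 (.wt 0) (.split 4 (-137) .sq (.lin 12)))) (.lin 12))) (.wt
    1)))) (.lin 3))) (.lin 11)) (.wt 2)) (.lin 12)))) (.wt 1))) (.lin 12))) (.lin 3)) (.wt 2))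
    (.lin 10)) (.lin 4)))))) (.wt 1)))) (.lin 11)) (.wt 2)) (.lin 12))))) (.wt 1)))) (.lin 11))
    (.lin 3)) (.wt 2))) (.div 5)) (.lin 12))) (.wt 1)))) (.lin 11)) (.lin 3)) (.wt 2)) (.lin
    12))) (.wt 1)))) (.lin 11)) (.lin 3)) (.wt 2))) (.div 5)) (.lin 12))) (.wt 1))) (.lin 3))
    (.wt 2))) (.div 5)) (.wt 1))) (.div 5)) (.lin 12))) (.lin 1))) (.lin 4))) (.wt 1)) (.lin 11))
    (.lin 5))))

def cert5_38_1 : Cert :=
  (.split 3 11 (.splitN 113941 (.split 1 (-327) .sq (.split 7 332 (.split 5 356 (.split 6 (-93)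
    (.split 1 (-92) (.splitN 41595 (.split 5 220 (.split 7 206 (.splitN 39478 (.split 5 202
    (.split 7 188 (.wt 2) (.lin 1)) (.div 5)) (.wt 0)) (.lin 1)) (.div 5)) (.wt 0)) (.lin 11))
    (.split 2 64 (.split 1 (-84) (.lin 11) (.split 7 89 (.split 5 176 (.split 4 (-120) (.lin 3)
    (.split 0 (-25) (.wt 2) (.split 4 (-111) (.lin 3) (.split 2 8 (.split 6 (-51) (.split 4 (-65)
    (.split 1 (-47) (.split 7 52 (.lin 2) (.split 5 58 (.lin 1) (.splitN 19846 (.wt 1) (.splitN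
    23106 (.split 0 (-15) (.wt 0) (.split 7 85 (.split 1 (-75) (.lin 2) (.split 4 (-93) (.lin 5)
    (.split 6 (-83) (.lin 3) (.split 7 75 (.split 5 77 (.split 1 (-66) (.lin 2) (.split 4 (-84)
    (.lin 5) (.wt 1))) (.lin 1)) (.wt 0))))) (.wt 0))) (.wt 3))))) (.lin 11)) (.lin 3)) (.split 4
    (-66) (.lin 3) (.split 1 (-39) (.lin 11) (.split 7 44 (.split 5 59 (.split 0 (-20) (.wt 2)
    (.split 5 50 (.splitN 21473 (.splitN 17052 (.wt 3) (.split 7 39 (.split 1 (-30) (.lin 2)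
    (.split 4 (-48) (.lin 5) (.split 6 (-38) (.lin 3) (.wt 1)))) (.wt 0))) (.wt 1)) (.lin 1)))
    (.lin 1)) (.lin 2))))) (.split 1 (-29) (.split 7 80 (.split 6 (-37) (.splitN 23678 (.wt 1)
    (.split 0 (-14) (.wt 2) (.split 6 (-60) (.wt 2) (.split 2 28 (.split 1 (-48) (.lin 11)
    (.split 7 44 (.split 5 77 (.split 6 (-47) (.wt 2) (.split 1 (-39) (.lin 11) (.split 7 35
    (.split 6 (-41) (.wt 2) (.split 2 10 (.split 1 (-30) (.lin 11) (.split 7 26 (.split 5 41 (.wt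
    0) (.lin 1)) (.lin 2))) (.lin 3))) (.lin 2)))) (.lin 1)) (.lin 2))) (.lin 3))))) (.lin 9))
    (.lin 2)) (.lin 2)))))) (.lin 1)) (.lin 2))) (.lin 9))) (.lin 4)) (.lin 2))) (.wt 3))
    (.splitN 95605 (.split 5 526 (.split 7 521 (.split 6 (-524) (.lin 7) (.splitN 90603 (.split 5
    490 (.split 2 460 (.split 7 485 (.split 0 (-12) (.split 5 40 (.lin 4) (.split 4 (-47)
    (.splitN 81949 (.split 5 454 (.split 7 440 (.split 6 (-38) (.split 5 49 (.lin 7) (.split 1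
    (-29) (.splitN 70771 (.split 1 (-247) .sq (.split 7 260 (.split 5 275 (.split 6 (-272) (.lin
    7) (.splitN 65070 (.split 1 (-233) .sq (.split 5 257 (.split 6 (-254) (.lin 7) (.split 4
    (-236) .sq (.split 7 206 (.split 5 236 (.split 6 (-227) (.lin 7) (.split 7 73 (.split 4
    (-102) (.lin 12) (.splitN 49607 (.split 5 206 (.split 6 (-200) (.lin 7) (.split 2 13 (.split
    1 (-66) (.lin 2) (.split 7 34 (.lin 2) (.split 6 (-83) (.lin 9) (.split 0 (-23) (.split 6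
    (-60) (.split 1 (-47) (.split 7 52 (.lin 2) (.split 5 76 (.lin 4) (.splitN 32634 (.wt 4) (.wt
    6)))) (.lin 11)) (.wt 2)) (.wt 2))))) (.splitN 22389 (.wt 1) (.split 7 48 (.splitN 41325
    .cand (.wt 1)) (.split 2 145 (.split 1 (-56) (.split 5 76 (.lin 1) (.split 6 (-64) (.split 6
    (-73) (.split 4 (-74) (.splitN 43139 (.split 1 (-150) .sq (.split 5 176 (.split 6 (-164)
    (.lin 11) (.splitN 42333 (.split 1 (-138) .sq (.split 2 100 (.split 5 147 (.split 6 (-137)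
    (.lin 7) (.split 0 (-21) (.split 5 85 (.lin 1) (.split 4 (-83) (.split 6 (-110) (.wt 2)
    (.split 1 (-93) (.lin 11) (.split 5 122 (.split 6 (-109) (.wt 2) (.split 1 (-84) (.lin 11)
    (.split 5 113 (.splitN 39197 (.split 6 (-75) (.split 1 (-65) (.splitN 33308 (.wt 1) (.split 7
    56 (.wt 0) (.split 4 (-92) (.split 6 (-100) (.wt 2) (.split 2 28 (.split 7 68 (.split 4 (-93)
    (.lin 12) (.split 6 (-89) (.wt 0) (.split 1 (-66) (.lin 11) (.wt 0)))) (.wt 0)) (.lin 3)))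
    (.lin 12)))) (.lin 11)) (.wt 2)) (.wt 1)) (.lin 4)))) (.lin 4)))) (.lin 12))) (.wt 2))) .sq)
    (.lin 2))) (.wt 1))) (.lin 4))) (.wt 1)) (.lin 12)) (.lin 9)) (.lin 7))) (.lin 2)) (.lin
    1)))))) .sq) (.wt 1))) (.split 1 (-65) (.split 5 85 (.lin 1) (.split 6 (-73) (.split 4 (-101)
    (.splitN 35603 .sq (.split 2 1 (.wt 1) (.split 5 94 (.lin 1) (.split 1 (-74) (.split 6 (-91)
    (.splitN 40139 .sq (.split 0 (-21) (.split 5 103 (.lin 1) (.split 4 (-110) (.splitN 44270 .sq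
    (.split 6 (-168) (.wt 0) (.split 2 82 (.split 1 (-147) (.lin 11) (.split 7 152 (.wt 3) (.lin
    2))) (.lin 3)))) (.lin 12))) (.wt 6))) (.lin 9)) (.lin 2))))) (.lin 12)) (.lin 7))) (.lin
    2)))) .sq) (.lin 12)))) (.lin 4))) (.wt 1))) (.lin 4)) (.lin 2))) (.wt 1)) (.lin 11))) (.wt
    2)) (.lin 1)) (.div 5)) (.wt 1)) (.lin 12))) (.wt 2)) (.lin 1)) (.lin 1)) (.div 5)) (.wt 1)))
    (.lin 1)) (.div 5)) (.wt 1)))

def cert5_38_2 : Cert :=
  (.splitN 45182 (.split 0 (-182) .sq (.split 2 180 (.split 4 (-188) .sq (.split 0 (-156) (.lin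
    12) (.split 5 186 (.split 1 (-156) (.lin 4) (.split 6 (-186) .sq (.split 2 154 (.split 3 63
    (.split 6 (-92) (.split 2 54 (.lin 9) (.split 1 (-38) (.split 5 67 (.lin 4) (.splitN 39506
    (.split 1 (-116) .sq (.split 2 145 (.split 2 122 (.split 4 (-123) .sq (.split 5 128 (.split 0
    (-84) (.lin 4) (.split 1 (-93) (.lin 4) (.split 6 (-149) .sq (.split 7 35 (.split 2 63 (.lin
    9) (.splitN 34495 (.split 2 108 (.split 6 (-137) (.lin 9) (.split 4 (-104) .sq (.split 0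
    (-75) (.lin 12) (.split 3 58 (.split 5 76 (.lin 7) (.split 1 (-47) (.splitN 27512 .sq (.split
    7 26 (.wt 1) (.split 0 (-66) (.lin 12) (.split 4 (-65) (.splitN 32931 (.split 0 (-34) (.split
    5 85 (.lin 1) (.split 4 (-74) .sq (.lin 12))) (.wt 0)) (.wt 1)) (.lin 12))))) (.lin 11)))
    (.wt 2))))) .sq) (.wt 1))) (.split 0 (-75) (.lin 12) (.split 4 (-74) (.split 3 53 (.split 5
    76 (.lin 1) (.split 1 (-47) (.splitN 36248 (.split 0 (-35) (.split 5 85 (.lin 1) (.split 4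
    (-83) .sq (.lin 12))) (.wt 0)) (.wt 1)) (.lin 2))) (.wt 0)) (.lin 12))))))) .sq)) .sq) (.lin
    2))) (.wt 1))) (.lin 11))) (.split 2 64 (.split 1 (-66) (.lin 11) (.split 0 (-31) (.split 5
    58 (.lin 4) (.split 4 (-65) (.splitN 39480 (.split 4 (-166) .sq (.split 0 (-138) (.lin 12)
    (.split 7 35 (.splitN 35715 (.split 4 (-155) .sq (.split 0 (-120) (.lin 12) (.split 5 152
    (.split 3 38 (.split 6 (-69) (.split 5 67 (.lin 6) (.split 2 36 (.lin 9) (.split 1 (-38)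
    (.split 5 76 (.lin 4) (.splitN 32642 (.splitN 24074 (.wt 1) (.split 4 (-115) .sq (.split 5
    121 (.split 0 (-75) (.lin 4) (.split 7 30 (.split 2 45 (.lin 9) (.splitN 28182 (.split 5 103
    (.split 0 (-57) (.lin 1) (.split 1 (-57) (.lin 8) (.split 4 (-84) (.lin 6) (.split 3 33
    (.split 1 (-47) (.split 5 85 (.lin 1) (.split 6 (-83) (.lin 6) (.split 0 (-44) (.split 2 46
    (.split 1 (-48) (.lin 2) (.split 5 94 (.lin 1) (.split 4 (-74) .sq (.lin 0)))) (.lin 1)) (.wt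
    1)))) (.lin 2)) (.wt 0))))) .sq) (.wt 1))) (.splitN 26994 (.wt 0) (.split 0 (-43) (.split 4
    (-83) (.split 3 32 (.split 1 (-47) (.split 5 94 (.lin 1) (.split 0 (-57) .sq (.split 6 (-74)
    (.split 5 103 (.lin 6) (.split 2 45 (.lin 9) .sq)) (.wt 1)))) (.lin 2)) (.wt 0)) (.lin 12))
    (.wt 0))))) .sq))) (.wt 1))) (.lin 11)))) (.split 2 37 (.split 1 (-39) (.lin 11) (.split 0
    (-53) (.split 5 76 (.lin 4) (.split 4 (-83) (.splitN 32625 (.split 3 32 (.split 6 (-47)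
    (.split 5 85 (.lin 7) (.split 1 (-29) (.split 0 (-57) (.split 5 94 (.lin 4) (.split 4 (-92)
    (.splitN 27242 .sq (.split 7 26 (.wt 0) (.split 0 (-82) (.split 5 112 (.lin 1) (.split 4
    (-119) .sq (.lin 12))) (.wt 0)))) (.lin 12))) (.wt 2)) (.lin 11))) (.wt 2)) (.wt 2)) (.wt 1))
    (.lin 12))) (.wt 2))) (.lin 9))) (.split 1 (-48) (.lin 11) (.split 2 27 (.lin 2) (.split 6
    (-64) (.splitN 29793 (.split 0 (-73) (.split 5 94 (.lin 4) (.split 4 (-101) .sq (.lin 12)))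
    (.wt 0)) (.wt 6)) (.lin 11))))) .sq))) (.wt 1)) (.split 2 46 (.split 0 (-120) (.lin 12)
    (.split 6 (-64) (.split 0 (-50) (.split 5 76 (.lin 4) (.split 4 (-101) (.split 3 34 (.split 5
    85 (.lin 1) (.split 1 (-29) (.splitN 35714 (.split 3 33 (.split 5 94 (.lin 1) (.split 1 (-38)
    (.splitN 30824 .sq (.split 6 (-67) (.split 2 27 (.lin 9) (.split 1 (-47) (.split 5 103 (.lin
    1) .sq) (.lin 11))) (.wt 1))) (.lin 2))) (.wt 2)) (.wt 1)) (.lin 2))) (.wt 2)) (.lin 12)))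
    (.wt 2)) (.lin 9))) (.lin 9))))) (.wt 1)) (.lin 12))) (.wt 2))) (.lin 9))) (.split 1 (-129)
    (.lin 2) (.split 2 45 (.lin 2) (.split 6 (-91) (.splitN 39142 (.split 0 (-58) (.split 5 85
    (.lin 4) (.split 4 (-92) .sq (.lin 12))) (.wt 2)) (.wt 1)) (.lin 11))))) (.lin 9)))) .sq)))
    .sq)) (.wt 1))

def cert5_38_3 : Cert :=
  (.split 4 (-1233) (.div 4) (.split 7 1214 (.split 5 616 (.split 1 (-597) (.lin 4) (.split 0
    (-17) (.split 5 40 (.lin 4) (.split 4 (-47) (.splitN 100197 (.split 0 (-301) .sq (.split 1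
    (-301) .sq (.split 2 299 (.split 3 300 (.split 7 593 (.split 6 (-596) (.lin 11) (.splitN
    91079 (.split 5 490 (.split 4 (-777) (.lin 10) (.split 1 (-284) .sq (.split 2 283 (.split 3
    284 (.split 7 557 (.split 6 (-560) (.lin 11) (.split 4 (-287) .sq (.split 0 (-255) (.lin 12)
    (.split 7 260 (.splitN 83056 (.split 6 (-276) .sq (.split 2 244 (.split 7 82 (.splitN 60467
    (.split 0 (-227) .sq (.split 2 225 (.split 4 (-231) .sq (.split 0 (-201) (.lin 12) (.split 6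
    (-231) .sq (.split 2 199 (.split 0 (-21) (.split 5 49 (.lin 4) (.split 4 (-56) (.split 2 14
    (.split 1 (-66) (.lin 2) (.split 7 34 (.lin 2) (.split 4 (-65) (.split 6 (-92) (.lin 9)
    (.splitN 44942 (.split 0 (-41) (.split 4 (-83) (.split 5 67 (.lin 4) (.split 0 (-165) .sq
    (.split 6 (-48) (.split 4 (-92) (.split 7 43 (.lin 9) (.split 0 (-52) (.split 4 (-101)
    (.split 5 76 (.lin 4) (.splitN 42601 (.split 0 (-133) .sq (.split 4 (-210) (.lin 12) (.split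
    3 33 (.split 5 85 (.lin 7) (.splitN 27161 .sq (.split 2 1 (.wt 1) (.split 6 (-58) (.split 4
    (-110) (.split 1 (-38) (.split 7 52 (.lin 2) (.split 5 94 (.lin 1) (.splitN 33335 .sq
    (.splitN 38403 (.split 6 (-66) (.split 4 (-119) (.split 1 (-47) (.split 7 61 (.lin 2) (.split
    5 103 (.lin 1) .sq)) (.lin 11)) (.lin 3)) (.wt 1)) (.wt 1))))) (.lin 11)) (.lin 3)) (.wt
    2))))) (.wt 2)))) (.wt 1))) (.lin 3)) (.wt 2))) (.lin 3)) (.wt 2)))) (.lin 3)) (.wt 2)) (.wt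
    1))) (.lin 3)))) (.split 7 45 cert5_38_2 (.split 0 (-174) (.lin 12) (.split 6 (-73) (.split 4
    (-83) (.splitN 54827 (.split 0 (-30) (.split 5 58 (.lin 4) (.split 4 (-92) (.split 4 (-196)
    .sq (.split 0 (-138) (.lin 12) (.split 3 66 (.split 5 182 (.split 1 (-165) (.lin 8) (.split 1
    (-138) (.lin 4) (.split 6 (-200) (.lin 7) (.split 3 60 (.split 2 136 (.split 6 (-188) .sq
    (.split 2 127 (.splitN 52048 (.split 5 172 (.split 3 38 (.split 1 (-38) (.split 2 109 (.split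
    5 76 (.lin 1) (.split 6 (-164) (.lin 7) (.splitN 45555 (.split 4 (-158) .sq (.split 5 149
    (.split 1 (-111) (.lin 4) (.split 6 (-146) (.lin 7) (.split 0 (-39) (.split 5 85 (.lin 1)
    (.split 4 (-101) (.split 4 (-151) .sq (.split 0 (-93) (.lin 12) (.split 6 (-100) (.split 1
    (-65) (.split 5 112 (.lin 4) .sq) (.lin 11)) (.split 2 37 (.split 1 (-66) (.lin 11) (.split 7
    71 (.splitN 39529 (.split 3 33 (.split 5 94 (.lin 1) (.split 0 (-64) (.split 5 112 (.lin 1)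
    (.split 4 (-119) .sq (.lin 12))) (.wt 2))) (.wt 0)) (.wt 1)) (.lin 9))) (.lin 9))))) (.lin
    12))) (.wt 2)))) .sq)) (.wt 1)))) (.lin 10)) (.lin 2)) (.splitN 47486 (.split 0 (-77) (.split
    5 103 (.lin 1) (.split 4 (-137) .sq (.lin 12))) (.wt 2)) (.wt 1))) .sq) (.wt 1)) (.lin 9)))
    (.lin 1)) (.wt 2))))) .sq) (.wt 2)))) (.lin 12))) (.wt 2)) (.wt 1)) (.lin 12)) (.lin 9)))))
    (.lin 12))) (.wt 2)) (.lin 9))))) .sq)) (.wt 1)) (.split 2 181 (.split 0 (-192) (.lin 12)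
    (.split 6 (-91) (.split 0 (-32) (.split 5 58 (.lin 4) (.split 4 (-128) (.split 7 242 (.splitN
    38537 .sq (.split 2 1 (.wt 1) (.split 6 (-100) (.split 3 62 (.split 5 76 (.lin 1) (.split 1
    (-38) (.splitN 43847 .sq (.split 3 59 (.split 5 85 (.lin 1) (.split 1 (-47) (.split 0 (-39)
    (.split 5 94 (.lin 1) (.split 4 (-137) (.splitN 50858 .sq (.splitN 55521 (.split 0 (-69)
    (.split 4 (-164) .sq (.lin 12)) (.wt 1)) (.wt 1))) (.lin 12))) (.wt 6)) (.lin 2))) (.wt 2)))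
    (.lin 2))) (.wt 2)) (.lin 9)))) (.lin 12)) (.lin 12))) (.wt 2)) (.lin 9))) (.lin 9))) (.lin
    9))) (.wt 1)) (.lin 12))))) (.lin 2)) .sq) .sq))) (.div 5)) (.wt 1))) (.lin 2)) .sq) .sq)))
    (.wt 1)) (.lin 12))) (.wt 2))) (.div 5)) (.lin 12)))

def cert5_38_4 : Cert :=
  (.split 7 24 (.split 2 9 (.lin 2) (.splitN 48400 (.split 2 256 (.split 6 (-272) (.lin 9)
    (.splitN 44374 (.split 5 238 (.split 0 (-210) (.lin 4) (.split 5 202 (.split 6 (-202) .sq
    (.split 3 35 (.split 3 15 (.splitN 25787 (.split 2 130 (.split 5 130 (.splitN 15271 (.wt 6)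
    (.split 7 10 (.wt 0) (.split 4 (-29) (.splitN 23379 (.splitN 18892 (.wt 1) (.split 0 (-14)
    (.wt 0) (.split 4 (-30) (.lin 12) (.split 1 (-45) (.wt 0) (.split 2 28 (.split 5 68 (.split 6
    (-43) (.wt 0) (.split 2 19 (.split 5 41 (.wt 1) (.lin 1)) (.lin 3))) (.lin 0)) (.lin 2))))))
    (.wt 0)) (.lin 12)))) (.div 5)) (.div 2)) (.wt 0)) (.split 6 (-37) (.splitN 31211 (.split 7
    12 (.splitN 19835 .cand (.wt 0)) .cand) (.wt 1)) (.lin 11))) (.split 2 45 (.lin 2) (.split 6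
    (-64) (.splitN 11064 (.wt 1) (.split 0 (-12) (.split 5 40 (.lin 4) (.split 4 (-29) (.splitN
    25601 (.split 2 130 (.split 1 (-102) (.lin 2) (.split 4 (-114) .sq (.split 6 (-127) .sq
    (.split 7 12 (.splitN 14618 (.split 2 76 (.split 3 61 (.wt 3) (.lin 2)) (.div 2)) (.wt 0))
    (.split 0 (-30) (.split 5 58 (.lin 4) (.split 4 (-56) (.split 0 (-90) .sq (.split 4 (-102)
    (.lin 12) (.split 2 93 (.split 6 (-110) (.lin 9) (.splitN 23393 (.split 1 (-26) (.split 2 54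
    (.lin 2) (.split 5 67 (.lin 4) (.split 6 (-73) .sq (.lin 9)))) (.wt 0)) (.wt 1))) .sq)))
    (.lin 12))) (.wt 2)))))) (.div 2)) (.wt 1)) (.lin 12))) (.wt 6))) (.lin 11))))) .sq)) (.div
    5)) (.wt 1))) (.div 2)) (.wt 1))) (.split 4 (-38) (.split 3 22 (.split 0 (-30) (.split 5 49
    (.lin 1) (.split 5 58 (.lin 4) (.split 4 (-65) (.splitN 135888 (.split 5 742 (.split 7 710
    (.splitN 120766 (.split 1 (-332) .sq (.split 7 341 (.splitN 107760 (.split 4 (-318) .sq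
    (.split 7 278 (.splitN 103033 (.split 4 (-308) .sq (.split 0 (-273) (.lin 12) (.split 7 260
    (.split 5 305 (.split 2 253 (.split 1 (-264) (.lin 4) (.split 6 (-281) (.lin 7) (.split 3 11
    (.splitN 33620 (.split 5 184 (.split 7 143 (.wt 2) (.lin 1)) (.div 5)) (.wt 0)) (.split 6
    (-37) (.splitN 88152 (.split 4 (-279) .sq (.split 7 233 (.split 7 77 (.splitN 62313 (.splitN
    56654 (.split 0 (-214) .sq (.split 4 (-220) .sq (.split 5 217 (.split 2 12 (.split 6 (-83)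
    (.lin 9) (.splitN 47193 (.split 4 (-197) .sq (.split 2 3 (.split 1 (-57) (.lin 2) (.split 7
    34 (.lin 2) (.split 6 (-74) (.lin 9) (.splitN 23889 (.split 5 130 (.split 4 (-138) (.lin 10)
    (.split 6 (-41) (.split 1 (-29) (.split 7 43 (.lin 2) (.split 5 67 (.lin 1) (.split 4 (-83)
    (.splitN 22705 (.split 5 112 (.split 0 (-75) (.lin 1) (.split 4 (-120) (.lin 10) (.split 7 61
    (.split 1 (-39) (.lin 2) (.split 6 (-56) (.lin 9) (.wt 2))) (.wt 0)))) (.div 5)) (.wt 1))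
    (.lin 3)))) (.lin 11)) (.wt 2))) (.div 5)) (.wt 1))))) .cand)) (.wt 1))) (.split 1 (-29)
    (.split 6 (-46) (.splitN 23521 (.wt 1) (.split 7 48 (.splitN 41222 .cand (.wt 0)) (.split 1
    (-56) (.split 6 (-73) (.split 4 (-92) (.wt 2) (.lin 12)) (.lin 9)) (.lin 2)))) (.lin 9))
    (.lin 2))) .sq))) (.wt 3)) (.wt 1)) (.split 1 (-65) (.split 5 103 (.lin 1) (.split 6 (-82)
    (.split 4 (-119) (.splitN 44027 .sq (.split 1 (-79) (.wt 0) (.split 7 89 (.wt 0) (.lin 2))))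
    (.lin 12)) (.lin 9))) (.lin 2))) (.lin 12))) (.wt 1)) (.lin 11))))) (.lin 1)) .sq) (.lin
    12)))) (.wt 3)) (.lin 12))) (.wt 3)) (.lin 2))) (.wt 3)) (.lin 1)) (.div 5)) (.wt 3)) (.lin
    12)))) (.splitN 1627965 (.split 2 9040 (.split 5 9040 (.split 7 9035 (.split 6 (-9038) (.lin
    7) (.splitN 1419451 (.split 1 (-1189) .sq (.split 2 1171 (.split 7 1196 (.split 5 1211
    (.split 4 (-1227) (.lin 5) (.split 6 (-1217) (.lin 7) (.splitN 774127 (.split 1 (-877) .sq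
    (.split 2 865 (.split 7 890 (.split 5 905 (.split 6 (-911) (.lin 7) (.splitN 656706 (.split 1
    (-807) .sq (.split 7 818 cert5_38_1 (.lin 2))) (.wt 1))) (.lin 4)) (.lin 2)) (.lin 2))) (.wt
    1)))) (.lin 4)) (.lin 2)) (.lin 2))) (.wt 1))) (.lin 1)) (.div 5)) (.div 2)) (.wt 1)))
    (.split 6 (-46) (.splitN 122682 (.split 0 (-3351) (.div 0) (.split 1 (-1341) (.div 1) (.split
    2 670 (.split 3 3350 (.split 4 (-8031) (.lin 5) (.split 4 (-1341) (.div 4) (.split 0 (-1308)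
    (.lin 12) (.split 6 (-1991) (.lin 3) (.split 7 1322 (.split 5 670 (.split 0 (-642) (.lin 4)
    (.splitN 112778 cert5_38_3 (.wt 1))) (.div 5)) (.lin 12)))))) (.div 3)) (.div 2)))) (.wt 1))
    (.lin 11))) (.lin 12)))

def cert5_38_5 : Cert :=
  (.split 2 (-1) (.split 7 16 (.lin 2) (.split 4 (-29) (.split 1 (-12) (.split 7 34 (.lin 2)
    (.split 5 31 (.lin 4) (.split 4 (-47) (.split 6 (-28) (.splitN 17463 (.wt 1) (.split 3 22
    cert5_38_0 (.split 7 52 (.lin 2) (.split 4 (-65) (.split 6 (-46) (.splitN 157248 (.split 0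
    (-4341) (.div 0) (.split 4 (-1737) (.div 4) (.split 6 (-1712) (.lin 3) (.split 7 1718 (.split
    5 868 (.split 0 (-840) (.lin 4) (.splitN 143811 (.split 4 (-1593) (.div 4) (.split 6 (-1568)
    (.lin 3) (.split 7 1574 (.split 5 796 (.split 0 (-768) (.lin 4) (.split 0 (-21) (.split 4
    (-83) (.split 5 49 (.lin 4) (.splitN 120561 (.split 0 (-320) .sq (.split 1 (-319) .sq (.split
    2 (-319) .sq (.split 3 318 (.split 7 944 (.split 6 (-632) (.lin 11) (.splitN 110871 (.split 4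
    (-314) .sq (.split 0 (-255) (.lin 3) (.split 6 (-272) (.lin 3) (.split 1 (-246) (.lin 11)
    (.split 7 278 (.splitN 91180 (.split 4 (-281) .sq (.split 0 (-219) (.lin 3) (.split 6 (-236)
    (.lin 3) (.split 1 (-210) (.lin 11) (.split 7 242 (.split 6 (-104) (.split 7 115 (.lin 9)
    (.split 0 (-34) (.split 4 (-155) (.split 5 58 (.lin 4) (.split 3 54 (.split 5 94 (.lin 7)
    (.split 1 (-56) (.splitN 63656 .sq (.wt 1)) (.lin 11))) (.wt 2))) (.lin 3)) (.wt 2))) (.split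
    1 (-75) (.lin 11) (.split 0 (-43) (.split 5 67 (.lin 4) (.split 7 224 (.split 6 (-49) (.split
    7 61 (.lin 9) (.split 0 (-49) (.split 4 (-119) (.split 5 76 (.lin 4) (.splitN 68555 (.split 3
    40 (.split 0 (-194) .sq (.split 4 (-221) .sq (.split 0 (-156) (.lin 3) (.split 7 161 (.split
    6 (-56) (.split 0 (-147) (.lin 3) (.split 1 (-29) (.split 4 (-128) (.split 5 85 (.lin 4)
    (.split 7 70 (.lin 9) (.splitN 58320 (.split 4 (-187) .sq (.split 0 (-111) (.lin 3) (.split 0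
    (-57) (.split 4 (-137) (.split 5 94 (.lin 4) (.split 7 116 (.split 3 31 (.split 5 103 (.lin
    7) (.split 1 (-38) (.splitN 45080 .sq (.split 7 71 (.wt 1) (.split 0 (-102) (.lin 12) (.split
    4 (-146) (.splitN 48986 .sq (.split 1 (-57) (.wt 1) (.split 6 (-83) (.lin 11) (.wt 1))))
    (.lin 12))))) (.lin 11))) (.wt 2)) (.lin 12))) (.lin 3)) (.wt 2)))) (.wt 1)))) (.lin 3))
    (.lin 11))) (.wt 2)) (.lin 12))))) (.wt 2)) (.wt 1))) (.lin 3)) (.wt 2))) (.wt 2)) (.lin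
    12))) (.wt 2)))) (.lin 12)))))) (.wt 1)) (.lin 12)))))) (.wt 1))) (.lin 2)) .sq)))) (.wt 1)))
    (.lin 3)) (.wt 2))) (.div 5)) (.lin 12)))) (.wt 1))) (.div 5)) (.lin 12))))) (.wt 1)) (.lin
    11)) (.lin 5))))) (.lin 11)) (.lin 5)))) (.split 1 (-5) (.split 7 25 (.lin 2) (.split 5 22
    (.lin 4) (.split 4 (-38) (.split 6 (-19) (.split 3 213 (.split 6 (-218) (.lin 11) (.split 3
    79 (.split 6 (-92) (.lin 11) (.split 3 42 (.split 6 (-47) (.lin 11) (.split 3 23 (.split 6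
    (-29) (.lin 11) (.splitN 507797 (.split 2 (-2813) (.div 2) (.split 7 2834 (.split 0 (-12)
    (.split 4 (-47) (.split 5 31 (.lin 4) (.split 3 14 (.split 6 (-20) (.lin 11) (.splitN 101792
    .cand (.wt 1))) (.wt 2))) (.lin 3)) (.wt 2)) (.lin 2))) (.wt 1))) (.wt 2))) (.wt 2))) (.wt
    2))) (.wt 2)) (.lin 11)) (.lin 5)))) (.wt 0))) (.lin 3))) (.split 1 (-12) (.split 5 31 (.lin
    4) (.split 6 (-28) (.splitN 8208 (.wt 1) cert5_38_4) (.lin 11))) (.split 1 (-5) (.split 5 22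
    (.lin 4) (.split 6 (-19) (.split 7 24 (.splitN 62597 (.split 2 346 (.split 6 (-362) (.lin 9)
    (.splitN 57621 (.split 2 310 (.split 6 (-326) (.lin 9) (.split 5 310 (.split 0 (-291) (.lin
    4) (.split 3 38 (.split 2 37 (.split 6 (-47) (.lin 11) (.split 3 15 (.split 6 (-20) (.lin 11)
    .cand) (.splitN 29696 .cand (.wt 1)))) (.lin 2)) (.splitN 31903 .cand (.wt 1)))) (.div 5)))
    (.div 2)) (.wt 1))) (.div 2)) (.wt 1)) (.split 3 15 (.lin 2) (.split 4 (-38) (.split 6 (-28)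
    (.splitN 1015105 (.split 2 5638 (.split 4 (-11277) (.div 4) (.split 6 (-16895) (.lin 0)
    (.split 7 11258 (.split 5 5638 (.split 0 (-5619) (.lin 4) (.splitN 935759 (.split 4 (-10377)
    (.div 4) (.split 7 10358 (.split 0 (-17) (.split 5 31 (.lin 4) (.split 4 (-47) (.splitN
    384817 (.split 3 10640 (.split 6 (-10649) (.lin 11) (.split 3 98 (.split 2 82 (.split 7 107
    (.split 6 (-110) (.lin 11) (.split 0 (-27) (.split 5 40 (.lin 4) (.split 4 (-56) (.splitN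
    88886 (.split 5 490 (.split 4 (-579) (.lin 0) (.split 0 (-471) (.lin 4) (.split 3 33 (.split
    2 10 (.split 7 35 (.split 6 (-38) (.lin 11) (.splitN 35734 (.split 4 (-369) (.div 4) (.split
    5 356 (.split 0 (-354) (.lin 1) (.split 5 184 (.split 4 (-201) (.lin 0) (.wt 2)) (.div 5)))
    (.lin 0))) (.wt 1))) (.lin 2)) (.lin 2)) (.wt 2)))) (.div 5)) (.wt 1)) (.lin 8))) (.wt 2)))
    (.lin 2)) (.lin 2)) (.wt 2))) (.div 3)) (.wt 1)) (.lin 8))) (.wt 2)) (.lin 8))) (.wt 1)))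
    (.div 5)) (.lin 8)))) (.div 2)) (.wt 1)) (.lin 9)) (.lin 8)))) (.lin 11))) (.split 0 (-14)
    (.split 5 22 (.lin 4) (.split 3 12 (.split 2 1 (.split 7 8 (.split 6 (-11) (.lin 9) (.splitN
    91475 (.wt 0) (.wt 1))) (.lin 2)) (.lin 2)) (.wt 2))) (.wt 2)))))

def cert5_38_6 : Cert :=
  (.split 2 (-1) (.split 4 (-38) (.split 7 25 (.lin 9) (.splitN 72846 (.split 0 (-2001) (.div 0)
    (.split 1 800 (.split 0 (-795) (.lin 4) (.split 5 (-788) (.lin 4) (.split 2 (-401) (.div 2)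
    (.split 3 2000 (.split 4 (-3171) (.lin 5) (.split 6 (-3935) (.lin 0) (.split 4 (-801) (.div
    4) (.split 6 (-776) (.lin 3) (.split 7 1169 (.splitN 65720 (.split 4 (-729) (.div 4) (.split
    6 (-704) (.lin 3) (.split 7 710 (.split 0 (-16) (.split 4 (-47) (.split 1 24 (.lin 4) (.split
    3 42 (.lin 7) (.splitN 60645 (.split 1 656 (.split 4 (-657) (.div 4) (.split 6 (-623) (.lin
    3) (.split 7 629 (.split 5 (-329) (.div 5) (.split 0 (-21) (.split 4 (-56) (.split 3 51 (.lin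
    7) (.splitN 57350 (.split 4 (-621) (.div 4) (.split 6 (-578) (.lin 3) (.split 7 584 (.split 5
    (-311) (.div 5) (.split 5 (-6) (.split 1 42 (.lin 4) (.split 3 60 (.lin 7) (.split 6 (-48)
    (.split 4 (-92) (.split 3 96 (.lin 7) (.split 7 61 (.lin 9) (.splitN 52114 (.split 4 (-549)
    (.div 4) (.split 6 (-506) (.lin 3) (.split 0 (-83) (.split 4 (-146) (.split 3 150 (.lin 7)
    .sq) (.lin 3)) (.wt 2)))) (.wt 1)))) (.lin 3)) (.wt 2)))) (.wt 2))) (.lin 12)))) (.wt 1)))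
    (.lin 3)) (.wt 2))) (.lin 12)))) (.div 1)) (.wt 1)))) (.lin 3)) (.wt 2)) (.lin 12)))) (.wt
    1)) (.lin 9)))))) (.div 3))))) (.div 1))) (.wt 1))) (.lin 3)) (.splitN 69470 (.split 0
    (-1911) (.div 0) (.split 1 764 (.split 5 (-752) (.lin 4) (.split 2 382 (.split 4 (-765) (.div
    4) (.split 6 (-1127) (.lin 3) (.split 7 746 (.split 5 (-383) (.div 5) (.splitN 63095 (.split
    2 346 (.split 4 (-693) (.div 4) (.split 6 (-1019) (.lin 3) (.split 7 674 (.split 0 (-246) .sq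
    (.splitN 61299 (.split 1 238 (.split 2 238 (.split 3 240 (.split 2 208 (.split 0 (-210) (.lin
    7) (.split 1 214 (.split 7 215 (.split 5 (-203) (.lin 4) (.split 4 (-426) (.lin 5) (.split 6
    (-425) (.lin 6) (.split 6 (-218) (.lin 7) (.split 4 (-228) (.lin 10) (.splitN 51143 (.split 3
    219 (.split 2 190 (.split 0 (-192) (.lin 7) (.split 1 196 (.split 5 (-185) (.lin 4) (.split 6
    (-200) (.lin 7) (.split 4 (-210) (.lin 10) (.split 7 39 (.splitN 32908 (.split 1 166 (.split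
    3 169 (.split 2 145 (.split 1 151 (.split 5 (-140) (.lin 4) (.split 6 (-182) (.lin 6) (.split
    6 (-155) (.lin 7) (.split 4 (-165) (.lin 10) (.split 7 16 (.split 2 9 (.lin 9) (.splitN 13527
    (.split 2 58 (.split 6 (-65) (.lin 9) (.split 5 (-59) (.div 5) (.split 3 95 (.split 5 (-5)
    (.split 1 24 (.lin 8) (.split 4 (-66) (.lin 6) (.split 0 (-15) (.split 3 51 (.lin 1) (.split
    1 33 (.lin 4) (.split 6 (-56) (.lin 7) (.split 4 (-29) (.split 6 (-23) (.split 3 60 (.lin 6)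
    (.split 2 18 (.lin 9) (.split 4 (-57) (.lin 6) (.split 0 (-23) (.split 3 69 (.lin 1) (.split
    1 42 (.lin 4) (.split 6 (-47) (.lin 7) (.split 0 (-32) (.split 3 78 (.lin 1) (.split 4 (-47)
    .sq (.lin 12))) (.wt 0))))) (.wt 0))))) (.wt 0)) (.lin 12))))) (.wt 0)))) (.wt 1)) .sq)))
    (.div 2)) (.wt 1))) (.split 0 (-16) (.split 3 42 (.lin 1) (.split 5 (-131) (.lin 1) (.split 1
    24 (.lin 4) (.split 6 (-146) (.lin 7) (.split 0 (-21) (.split 1 33 (.lin 4) (.split 5 (-7)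
    (.split 3 60 (.lin 1) (.split 1 42 (.lin 4) (.split 6 (-128) (.lin 7) (.split 0 (-31) (.split
    3 69 (.lin 1) (.split 5 (-113) (.lin 1) (.split 1 51 (.lin 4) (.split 6 (-119) (.lin 7)
    (.split 4 (-56) (.split 6 (-49) (.split 3 87 (.lin 6) (.split 2 18 (.lin 9) (.split 1 115
    (.split 5 (-95) (.lin 1) (.split 5 (-77) (.lin 4) (.split 3 105 (.lin 7) (.splitN 22364 .sq
    (.splitN 26138 (.split 7 27 (.split 0 (-91) (.split 2 46 (.split 4 (-101) .sq (.lin 3)) (.lin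
    1)) (.wt 1)) (.wt 0)) (.wt 1)))))) (.lin 11)))) (.wt 2)) (.lin 12)))))) (.wt 2))))) (.wt 2)))
    (.wt 2)))))) (.wt 2))))))) (.lin 11)) (.lin 1)) .sq) .sq) (.wt 1)) (.split 0 (-165) (.lin 1)
    (.split 3 60 (.lin 1) (.split 0 (-37) (.split 3 87 (.lin 1) (.split 5 (-131) (.lin 1) (.split
    1 42 (.lin 4) (.split 6 (-173) (.lin 7) (.splitN 28879 (.split 2 14 (.wt 2) (.wt 0)) (.wt
    6)))))) (.wt 2)))))))) (.lin 11))) (.lin 1)) .sq) (.wt 1))))))) (.lin 1)) (.lin 11))) (.lin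
    1)) .sq) .sq) .sq) (.wt 1))) (.lin 12)))) (.div 2)) (.wt 1))) (.lin 12)))) (.div 2))) (.div
    1))) (.wt 1)))

def cert5_38_7 : Cert :=
  (.split 7 112 (.split 2 (-81) (.lin 9) (.splitN 102592 (.split 3 301 (.split 4 (-305) .sq
    (.split 6 (-42) (.split 1 241 (.split 2 (-63) (.lin 9) (.split 4 (-92) (.split 3 78 (.lin 7)
    (.split 7 52 (.lin 9) (.split 0 (-191) (.wt 2) (.split 1 178 (.split 3 232 (.split 0 (-151)
    (.wt 2) (.split 4 (-264) (.lin 3) (.split 1 142 (.split 3 196 (.split 0 (-127) (.wt 2)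
    (.split 1 115 (.split 3 169 (.split 0 (-109) (.wt 2) (.split 1 97 (.split 3 151 (.split 0
    (-96) (.wt 2) (.split 3 142 (.split 0 (-90) (.wt 2) (.split 1 79 (.split 3 133 (.split 0
    (-83) (.wt 2) (.split 1 70 (.split 3 124 (.split 4 (-183) (.lin 8) (.split 7 80 (.split 2
    (-36) (.lin 9) (.split 0 (-65) (.wt 2) (.split 1 52 (.split 3 106 (.split 0 (-55) (.wt 2)
    (.split 1 43 (.split 3 97 (.split 4 (-129) (.lin 8) (.split 6 (-55) (.wt 2) (.split 3 88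
    (.splitN 42882 (.wt 1) (.split 0 (-47) (.wt 2) (.split 4 (-120) (.lin 3) (.split 1 34 (.split
    3 79 (.split 7 56 (.wt 0) (.split 2 (-17) (.split 4 (-101) (.splitN 52205 (.splitN 46313 (.wt
    6) (.split 7 74 (.wt 0) (.wt 0))) (.wt 0)) (.lin 0)) (.lin 1))) (.lin 7)) (.lin 4))))) (.lin
    7)))) (.lin 7)) (.lin 4))) (.lin 7)) (.lin 4)))) (.split 2 (-35) (.split 4 (-128) (.split 0
    (-71) (.wt 2) (.split 1 61 (.split 3 115 (.split 0 (-65) (.wt 2) (.split 1 52 (.split 3 106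
    (.split 0 (-47) (.split 1 42 (.lin 4) (.split 3 87 (.lin 7) (.split 4 (-137) (.splitN 51296
    (.wt 1) (.split 6 (-52) (.wt 2) (.split 3 97 (.split 0 (-56) (.wt 2) (.split 4 (-156) (.lin
    3) (.split 1 43 (.split 3 88 (.splitN 54955 (.split 7 90 (.wt 0) (.wt 0)) (.wt 1)) (.lin 7))
    (.lin 4)))) (.lin 7)))) (.lin 8)))) (.split 1 34 (.split 3 88 (.split 4 (-147) (.lin 8)
    (.splitN 55575 (.split 6 (-47) (.split 2 (-54) (.lin 0) (.wt 1)) (.wt 2)) (.wt 3))) (.lin 7))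
    (.lin 4))) (.lin 7)) (.lin 4))) (.lin 7)) (.lin 4))) (.lin 8)) (.lin 9)))) (.lin 7)) (.lin
    4))) (.lin 7)) (.lin 4))) (.lin 7))) (.lin 7)) (.lin 4))) (.lin 7)) (.lin 4))) (.lin 7))
    (.lin 4)))) (.lin 7)) (.lin 4))))) (.lin 0))) (.lin 0)) (.splitN 76669 (.split 0 (-251) .sq
    (.split 3 255 (.split 1 223 (.split 4 (-259) .sq (.split 7 61 (.split 2 (-27) (.lin 9)
    (.splitN 57510 (.split 3 213 (.split 0 (-183) (.lin 7) (.split 4 (-218) .sq (.split 1 169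
    (.split 0 (-84) (.split 4 (-128) (.split 1 87 (.lin 4) (.split 3 114 (.lin 7) (.splitN 47915
    .sq (.split 7 35 (.wt 0) (.split 4 (-137) (.splitN 51011 .sq (.wt 1)) (.lin 8)))))) (.lin 3))
    (.split 3 124 (.split 1 97 (.split 4 (-165) (.lin 0) (.split 6 (-33) .cand (.split 0 (-55)
    (.split 1 51 (.lin 4) (.split 3 78 (.lin 7) (.wt 2))) (.wt 2)))) (.lin 11)) (.lin 1))) (.lin
    0)))) .sq) (.wt 1))) (.split 3 223 (.split 0 (-201) (.lin 7) (.split 1 187 (.split 2 (-26)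
    (.split 0 (-41) (.split 1 42 (.lin 4) (.split 3 69 (.lin 7) (.split 0 (-49) (.split 1 51
    (.lin 4) (.split 3 78 (.lin 7) (.split 4 (-119) (.splitN 62105 (.split 0 (-57) (.split 1 60
    (.lin 4) (.split 3 87 (.lin 7) (.split 6 (-30) (.split 3 96 (.lin 7) (.split 0 (-70) (.split
    4 (-137) (.split 1 69 (.lin 4) (.split 3 105 (.lin 7) (.split 0 (-79) (.split 4 (-146)
    (.split 1 78 (.lin 4) (.split 3 114 (.lin 7) (.splitN 53585 .sq (.split 7 81 (.wt 1) (.split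
    2 (-53) (.split 4 (-173) .sq (.lin 0)) (.lin 9)))))) (.lin 3)) (.wt 2)))) (.lin 3)) (.wt 2)))
    (.wt 2)))) (.wt 2)) (.wt 1)) (.lin 8)))) (.wt 2)))) (.wt 2)) (.lin 9)) (.lin 8))) (.lin 6))))
    (.lin 11)) .sq)) (.wt 1)))) .sq) (.wt 1))) (.split 1 268 (.split 2 (-62) (.split 4 (-128)
    (.split 4 (-155) (.splitN 99469 (.split 0 (-226) .sq (.split 1 214 (.split 2 (-231) .sq
    (.split 7 278 (.splitN 94387 (.split 3 216 (.split 0 (-192) (.lin 7) (.split 4 (-259) .sq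
    (.split 1 133 (.split 7 215 (.splitN 86137 (.split 6 (-29) (.split 3 69 (.lin 7) (.split 4
    (-243) .sq (.split 1 115 (.split 7 197 (.split 0 (-68) (.split 1 69 (.lin 4) (.split 3 105
    (.lin 7) (.split 4 (-191) (.split 7 161 (.splitN 76787 .sq (.wt 1)) (.lin 8)) (.lin 8))))
    (.split 1 61 (.split 3 115 (.splitN 72977 (.split 4 (-215) .sq (.split 7 170 (.split 6 (-46)
    (.split 3 78 (.lin 7) (.split 0 (-52) (.split 1 51 (.lin 4) (.split 3 96 (.lin 7) (.split 4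
    (-173) (.split 7 152 (.splitN 64619 .sq (.wt 3)) (.lin 8)) (.lin 8)))) (.split 1 43 (.split 3
    97 (.splitN 64548 (.split 4 (-185) .sq (.split 7 143 (.split 6 (-51) (.split 0 (-42) (.wt 2)
    (.split 1 34 (.split 3 88 (.wt 2) (.lin 7)) (.lin 4))) (.split 2 (-71) (.splitN 53504 .sq
    (.splitN 57864 (.split 7 117 (.wt 1) (.split 4 (-164) .sq (.lin 6))) (.wt 1))) (.lin 9)))
    (.lin 8))) (.wt 1)) (.lin 7)) (.lin 4)))) (.split 2 (-80) (.splitN 52775 .sq (.wt 6)) (.lin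
    9))) (.lin 8))) (.wt 1)) (.lin 7)) (.lin 4))) (.lin 8)) (.lin 8)))) (.wt 2)) (.wt 1)) (.lin
    8)) (.lin 8)))) .sq) (.wt 1)) (.lin 9))) (.lin 4))) (.wt 1)) (.lin 8)) (.lin 0)) (.lin 9))
    (.lin 8)))

def cert5_38_8 : Cert :=
  (.split 6 (-64) (.split 4 (-101) (.split 4 (-110) (.split 7 70 (.lin 9) (.split 3 87 (.lin 11)
    (.splitN 281117 (.split 1 3104 (.split 4 (-3105) (.div 4) (.split 0 (-3027) (.lin 3) (.split
    6 (-3062) (.lin 0) (.split 3 6082 (.split 7 3068 (.split 3 3085 (.splitN 257619 (.split 4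
    (-2853) (.div 4) (.split 7 2816 (.split 0 (-477) .sq (.split 1 466 (.splitN 236040 (.split 2
    (-451) .sq (.split 3 458 (.split 1 394 (.split 7 881 (.splitN 194682 (.split 0 (-403) .sq
    (.split 2 (-402) .sq (.split 3 410 (.split 4 (-1173) (.lin 5) (.split 4 (-416) .sq (.split 7
    377 (.splitN 160585 (.split 3 368 (.split 1 304 (.split 4 (-375) .sq (.split 2 (-279) (.lin
    0) (.split 6 (-326) (.lin 3) (.split 7 341 (.split 5 37 (.split 5 12 (.split 1 33 (.lin 4)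
    (.split 3 96 (.lin 7) (.split 0 (-92) (.wt 2) (.split 1 79 (.split 0 (-73) (.wt 2) (.split 1
    61 (.split 6 (-111) (.wt 2) (.split 3 169 (.split 0 (-55) (.wt 2) (.split 1 43 (.split 3 151
    (.split 6 (-80) (.wt 2) (.split 3 115 (.splitN 55094 (.wt 6) (.split 7 82 (.wt 0) (.split 4
    (-119) (.split 2 (-17) (.split 4 (-128) (.splitN 56318 (.wt 6) (.split 7 110 (.wt 0) (.split
    2 (-35) (.split 4 (-155) (.split 7 126 (.wt 0) (.split 2 (-62) (.split 4 (-164) (.split 4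
    (-173) (.splitN 67859 .sq (.split 0 (-43) (.wt 0) (.split 1 34 (.split 3 106 (.wt 0) (.lin
    7)) (.lin 4)))) (.lin 8)) (.lin 0)) (.lin 9))) (.lin 8)) (.lin 1)))) (.lin 8)) (.lin 9))
    (.lin 6)))) (.lin 7))) (.lin 7)) (.lin 4))) (.lin 7))) (.lin 4))) (.lin 4))))) (.split 1 286
    (.splitN 71467 (.split 0 (-198) .sq (.split 3 212 (.split 1 142 (.split 6 (-182) (.lin 11)
    (.splitN 64779 (.split 4 (-208) .sq (.split 0 (-129) (.lin 3) (.split 6 (-155) (.lin 0)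
    (.split 7 161 (.split 0 (-70) (.split 4 (-146) (.split 6 (-119) (.lin 3) (.split 3 105 (.lin
    7) (.split 7 125 (.splitN 49274 .sq (.splitN 51303 (.split 1 55 (.wt 1) (.split 3 123 (.lin
    11) .sq)) (.wt 1))) (.lin 12)))) (.lin 3)) (.split 1 52 (.splitN 51658 (.split 6 (-77)
    (.split 4 (-128) (.split 7 88 (.lin 9) (.split 3 105 (.lin 11) (.splitN 44594 .sq (.split 5
    20 (.split 7 91 (.wt 1) (.split 4 (-137) (.splitN 48662 .sq (.split 0 (-49) (.split 1 42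
    (.lin 4) (.split 4 (-155) .sq (.lin 8))) (.wt 1))) (.lin 8))) (.wt 1))))) (.lin 0)) (.wt 2))
    (.wt 1)) (.lin 4))) (.lin 8))))) (.wt 1))) (.lin 11)) .sq)) (.wt 1)) (.lin 0))) (.split 4
    (-137) (.split 6 (-299) (.lin 0) (.split 7 305 (.splitN 53817 (.split 6 (-72) (.split 4
    (-146) (.split 7 79 (.lin 9) (.split 3 96 (.lin 11) (.splitN 49049 .sq (.split 1 45 (.wt 1)
    (.split 4 (-173) .sq (.lin 0)))))) (.lin 0)) (.wt 2)) (.wt 1)) (.lin 8))) (.lin 0))) (.lin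
    8))))) (.lin 11)) .sq) (.wt 3)) (.lin 8)))) .sq))) (.wt 3)) (.lin 2)) (.lin 11)) .sq)) (.wt
    3)) (.lin 4))) (.lin 8))) (.wt 3)) (.lin 10)) (.lin 8)) (.lin 6))))) (.div 1)) (.wt 3))))
    (.lin 3)) (.lin 0)) (.splitN 210292 (.split 0 (-5781) (.div 0) (.split 1 5776 (.split 2
    (-1157) (.div 2) (.split 7 1205 (.split 4 (-2313) (.div 4) (.split 0 (-2271) (.lin 3)
    (.splitN 192017 (.split 0 (-426) .sq (.split 1 421 (.splitN 177950 (.split 0 (-406) .sq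
    (.split 1 394 (.split 5 374 (.split 2 (-405) .sq (.split 4 (-1227) (.lin 0) (.split 4 (-858)
    (.lin 3) (.split 7 458 (.splitN 160804 (.split 4 (-391) .sq (.split 2 (-333) (.lin 0) (.split
    0 (-354) (.lin 3) (.split 7 359 (.split 5 40 (.split 5 12 (.split 1 33 (.lin 4) (.split 3 60
    (.lin 7) (.splitN 28969 (.wt 1) cert5_38_7))) (.split 0 (-40) (.split 4 (-83) (.split 7 341
    (.splitN 55288 (.split 6 (-32) (.split 7 43 (.lin 9) (.split 3 60 (.lin 11) (.split 0 (-55)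
    (.split 4 (-101) (.split 0 (-186) .sq (.split 6 (-39) (.split 3 69 (.lin 7) (.split 7 52
    (.lin 9) (.split 0 (-75) (.split 1 51 (.lin 4) (.split 3 96 (.lin 7) (.wt 2))) (.wt 2))))
    (.wt 2))) (.lin 3)) (.wt 2)))) (.wt 2)) (.wt 1)) (.lin 12)) (.lin 3)) (.wt 2))) (.split 6
    (-41) (.split 7 52 (.lin 9) (.split 3 69 (.lin 11) (.wt 2))) (.wt 2))) (.lin 8))))) (.wt 1))
    (.lin 9))))) (.lin 4)) (.lin 4))) (.wt 1)) (.lin 4))) (.wt 1)))) (.lin 9))) (.lin 4))) (.wt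
    1)))

def cert5_38_9 : Cert :=
  (.split 1 13 (.split 5 13 (.lin 4) (.splitN 33845 (.split 4 (-172) .sq (.split 7 143 (.split 6
    (-53) (.split 7 61 (.lin 9) (.splitN 20850 (.wt 1) .cand)) (.split 3 52 (.splitN 28143
    (.split 4 (-151) .sq (.split 7 125 (.split 7 66 (.split 2 (-36) (.lin 9) (.split 4 (-111)
    (.lin 0) (.split 4 (-93) (.lin 8) (.split 6 (-37) (.split 7 43 (.lin 9) (.split 3 42 (.lin
    11) (.split 0 (-25) (.split 4 (-74) (.split 5 22 (.lin 4) (.splitN 23321 (.split 6 (-39)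
    (.split 4 (-83) (.split 7 52 (.lin 6) (.wt 0)) (.lin 0)) (.wt 0)) (.wt 1))) (.lin 3)) (.wt
    2)))) (.splitN 22582 (.split 0 (-24) (.split 5 22 (.lin 4) (.wt 2)) (.wt 0)) (.wt 1))))))
    (.split 2 (-17) (.split 2 (-26) (.split 4 (-74) (.split 4 (-92) (.splitN 20309 (.wt 0)
    (.splitN 26114 (.split 6 (-29) (.split 3 42 (.lin 11) (.split 0 (-22) (.split 2 (-81) (.lin
    3) (.split 5 22 (.lin 4) (.split 7 101 (.split 4 (-129) (.lin 8) (.split 7 97 (.wt 1) (.wt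
    0))) (.wt 0)))) (.wt 0))) (.wt 1)) (.wt 1))) (.lin 8)) (.lin 0)) (.lin 9)) (.lin 1))) (.lin
    8))) (.wt 1)) (.lin 11))) (.lin 8))) (.wt 1))) (.split 5 14 (.split 3 42 (.lin 11) (.split 6
    (-53) (.split 2 (-243) (.lin 0) (.split 4 (-83) (.split 3 60 (.lin 7) (.split 7 61 (.lin 9)
    (.split 3 69 (.lin 11) (.splitN 88358 (.split 5 12 (.split 4 (-276) .sq (.split 2 (-198)
    (.lin 0) (.split 7 251 (.split 7 124 (.split 2 (-63) (.lin 9) (.split 4 (-147) (.lin 8)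
    (.split 0 (-25) (.split 4 (-92) (.split 1 24 (.lin 4) (.split 3 78 (.lin 7) (.split 6 (-73)
    (.wt 2) (.split 3 88 (.splitN 43383 (.wt 1) (.split 6 (-64) (.wt 2) (.split 3 79 (.split 7 62
    (.wt 0) (.split 2 (-17) (.split 4 (-101) (.splitN 54387 (.split 7 112 (.split 2 (-54) (.lin
    1) (.split 4 (-138) (.lin 0) (.split 7 79 (.wt 2) (.split 2 (-26) (.split 4 (-110) (.splitN
    46222 (.wt 0) (.splitN 52011 (.split 7 84 (.wt 0) (.split 7 93 (.split 2 (-36) (.lin 1)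
    (.split 4 (-120) (.lin 0) (.wt 0))) (.wt 0))) (.wt 1))) (.lin 0)) (.lin 1))))) (.wt 0)) (.wt
    1)) (.lin 0)) (.lin 1))) (.lin 7)))) (.lin 7))))) (.lin 3)) (.split 1 16 (.splitN 57578 .cand
    (.wt 1)) (.lin 4))))) (.split 2 (-17) (.split 2 (-26) (.split 4 (-146) (.splitN 46223 .sq
    (.splitN 71455 (.split 4 (-210) .sq (.split 7 188 (.split 0 (-25) (.split 1 24 (.lin 4)
    (.split 3 78 (.lin 7) (.split 4 (-155) (.split 6 (-56) (.split 3 87 (.lin 7) (.splitN 53657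
    .sq (.split 6 (-94) (.wt 0) (.split 3 115 (.split 6 (-87) (.wt 0) (.split 2 (-44) (.split 3
    106 (.split 6 (-82) (.wt 0) (.split 2 (-53) (.split 3 97 (.splitN 58843 (.split 7 142 (.wt 0)
    (.split 4 (-173) .sq (.lin 8))) (.wt 3)) (.lin 7)) (.lin 0))) (.lin 7)) (.lin 0))) (.lin
    7))))) (.wt 2)) (.lin 8)))) (.split 1 16 (.splitN 54710 (.split 6 (-63) (.split 3 78 (.lin 7)
    (.split 6 (-65) (.split 3 87 (.lin 7) (.splitN 51371 .sq (.split 2 (-53) (.wt 1) (.split 6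
    (-82) (.split 3 96 (.lin 1) .sq) (.lin 0))))) (.wt 1))) (.wt 1)) (.wt 1)) (.lin 4))) (.lin
    8))) (.wt 1))) (.lin 8)) (.lin 9)) (.lin 1))) (.lin 8)))) (.wt 2)) (.wt 1))))) (.lin 0)))
    (.split 3 70 (.splitN 71647 (.split 5 10 (.split 4 (-254) .sq (.split 7 88 (.split 2 (-54)
    (.lin 9) (.split 4 (-129) (.lin 0) (.split 4 (-111) (.lin 8) (.split 6 (-37) (.split 4 (-65)
    (.split 3 51 (.lin 7) (.split 7 43 (.lin 9) (.split 7 62 (.split 0 (-25) (.split 1 24 (.lin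
    4) (.split 6 (-39) (.split 4 (-83) (.split 7 52 (.lin 6) (.split 3 69 (.lin 7) (.split 7 57
    (.split 2 (-9) (.lin 1) (.splitN 44230 (.wt 0) (.wt 0))) (.wt 2)))) (.lin 0)) (.wt 2)))
    (.split 1 16 (.split 4 (-84) (.lin 8) (.wt 2)) (.lin 4))) (.split 2 (-17) (.split 0 (-22)
    (.split 1 24 (.lin 4) (.split 3 60 (.lin 7) (.wt 2))) (.wt 2)) (.lin 1))))) (.lin 0))
    (.splitN 30048 (.wt 4) (.wt 6)))))) (.split 2 (-35) (.split 0 (-21) (.split 1 24 (.lin 4)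
    (.split 3 51 (.lin 7) (.splitN 51562 (.split 6 (-38) (.split 3 69 (.lin 7) (.wt 2)) (.wt 0))
    (.wt 6)))) (.wt 2)) (.lin 1)))) (.wt 2)) (.wt 1)) (.lin 7)))) (.lin 4)))

def cert5_38_10 : Cert :=
  (.split 0 (-30) (.split 4 (-74) (.split 1 22 (.split 5 22 (.lin 4) (.splitN 60482 (.split 2
    (-329) (.div 2) (.split 4 (-657) (.div 4) (.split 0 (-615) (.lin 3) (.split 6 (-614) (.lin 0)
    (.split 7 620 (.split 5 328 (.split 0 (-336) (.lin 4) (.splitN 55098 (.split 4 (-585) (.div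
    4) (.split 7 548 (.split 5 292 (.split 0 (-300) (.lin 4) (.split 0 (-209) .sq (.split 3 207
    (.split 6 (-200) (.lin 11) (.splitN 50065 (.split 4 (-210) .sq (.split 2 (-153) (.lin 0)
    (.split 6 (-173) (.lin 0) (.split 7 179 (.split 7 170 (.splitN 45602 (.split 4 (-194) .sq
    (.split 6 (-155) (.lin 0) (.split 7 152 (.split 6 (-64) (.split 0 (-120) (.lin 3) (.split 4
    (-110) (.split 7 70 (.lin 9) (.split 3 69 (.lin 11) (.splitN 28223 .sq (.splitN 40240 (.split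
    1 7 (.wt 3) (.split 3 78 (.lin 11) (.split 3 126 (.split 6 (-110) (.lin 11) (.splitN 38463
    (.split 0 (-42) (.split 4 (-119) (.split 5 31 (.lin 4) (.splitN 33092 .sq (.split 7 73 (.wt
    1) (.split 4 (-128) .sq (.lin 8))))) (.lin 3)) (.wt 2)) (.wt 1))) .sq))) (.wt 1))))) (.lin
    3))) (.split 3 70 (.splitN 37651 (.split 4 (-177) .sq (.split 7 143 (.split 1 11 (.split 5 31
    (.lin 4) (.split 3 61 (.splitN 28403 (.split 4 (-145) .sq (.split 2 (-72) (.lin 0) (.split 0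
    (-102) (.lin 3) (.split 5 95 (.split 7 98 (.splitN 16934 (.wt 1) (.splitN 26111 (.split 4
    (-133) .sq (.split 7 89 (.split 6 (-42) (.split 4 (-92) (.split 5 68 (.split 7 52 (.lin 9)
    (.split 3 51 (.lin 11) (.splitN 20309 (.wt 1) (.split 0 (-48) (.wt 0) (.split 5 41 (.split 0
    (-47) (.wt 0) (.split 5 32 (.split 2 (-44) (.wt 0) (.split 6 (-54) (.wt 0) (.split 4 (-120)
    (.lin 0) (.split 7 80 (.split 3 52 (.wt 0) (.lin 7)) (.lin 6))))) (.lin 4))) (.lin 4))))))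
    (.lin 0)) (.lin 0)) (.split 3 43 (.split 7 37 (.wt 3) (.split 4 (-83) (.split 0 (-84) (.lin
    12) (.split 7 66 (.splitN 23364 (.split 4 (-118) .sq (.split 0 (-66) (.lin 12) (.split 5 59
    (.split 6 (-33) (.split 3 42 (.lin 11) (.split 7 53 (.split 0 (-56) (.wt 0) (.split 5 41
    (.split 2 (-11) (.split 7 52 (.lin 2) (.wt 1)) (.wt 1)) (.lin 4))) (.wt 1))) (.split 2 (-17)
    (.split 7 60 (.split 0 (-45) (.split 4 (-92) (.split 5 40 (.lin 4) (.wt 1)) (.lin 3)) (.wt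
    1)) (.wt 0)) (.lin 9))) (.lin 4)))) (.wt 1)) (.split 2 (-35) (.split 4 (-110) (.splitN 22823
    .sq (.wt 1)) (.lin 8)) (.lin 2)))) (.lin 8))) (.lin 11))) (.lin 8))) (.wt 3))) (.lin 8))
    (.lin 0))))) (.wt 1)) (.lin 11))) (.split 3 42 (.lin 11) (.split 6 (-32) (.split 0 (-129)
    (.lin 3) (.split 7 43 (.lin 9) (.split 3 51 (.lin 11) (.split 0 (-49) (.split 4 (-101)
    (.split 5 40 (.lin 4) (.split 7 116 (.splitN 32537 (.split 7 95 (.split 0 (-63) (.split 5 49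
    (.lin 4) (.split 0 (-68) (.split 4 (-119) (.split 5 58 (.lin 4) (.splitN 29447 .sq (.split 2
    (-12) (.wt 1) (.split 7 62 (.wt 1) (.lin 2))))) (.lin 3)) (.wt 2))) (.wt 2)) (.wt 0)) (.wt
    1)) (.lin 8))) (.lin 3)) (.wt 2))))) (.wt 2)))) (.lin 8))) (.wt 1)) (.lin 11))) (.lin 12))))
    (.wt 1)) (.lin 12)) (.lin 8))))) (.wt 1))) .sq))) (.div 5)) (.lin 8))) (.wt 1))) (.div 5))
    (.lin 8)))))) (.wt 1))) (.split 3 51 (.lin 11) cert5_38_8)) (.lin 3)) (.split 1 25 (.split 5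
    23 (.splitN 258834 (.split 4 (-2853) (.div 4) (.split 6 (-2828) (.lin 0) (.split 7 2834
    (.splitN 241324 (.split 2 (-485) .sq (.split 3 485 (.split 7 971 (.split 6 (-497) (.lin 7)
    (.splitN 198858 (.split 4 (-442) .sq (.split 6 (-416) (.lin 0) (.split 7 422 (.splitN 173664
    (.split 4 (-412) .sq (.split 7 395 (.split 6 (-105) (.split 4 (-128) (.split 3 96 (.lin 7)
    (.split 7 115 (.lin 9) (.split 3 114 (.lin 11) (.splitN 55205 .sq (.splitN 106841 (.split 5 9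
    (.split 3 249 (.split 6 (-236) (.lin 7) (.split 0 (-29) (.wt 2) (.split 1 16 (.splitN 73280
    (.split 1 8 (.wt 1) (.split 4 (-137) (.split 0 (-20) (.split 3 123 (.lin 7) (.splitN 60227
    .sq (.split 7 154 (.wt 0) (.split 4 (-182) .sq (.lin 8))))) (.lin 4)) (.lin 0))) (.wt 1))
    (.lin 4)))) .sq) (.wt 1)) (.wt 1)))))) (.lin 0)) (.split 3 124 (.splitN 117549 (.split 2
    (-335) .sq (.split 4 (-338) .sq (.split 7 323 (.split 0 (-20) (.split 4 (-56) (.splitN 110406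
    (.split 4 (-323) .sq (.split 7 305 cert5_38_9 (.lin 8))) (.wt 1)) (.lin 3)) (.split 1 7
    (.split 5 5 (.split 6 (-44) (.split 4 (-65) (.split 3 51 (.lin 7) (.split 7 52 (.lin 1)
    (.splitN 38928 (.split 2 (-203) (.div 2) (.split 4 (-309) (.lin 0) (.splitN 36091 (.split 7
    112 (.split 4 (-120) (.lin 8) (.split 7 93 (.split 3 88 (.split 6 (-83) (.lin 7) (.wt 2))
    (.lin 1)) (.wt 0))) (.wt 0)) (.wt 6)))) (.wt 1)))) (.lin 0)) (.wt 2)) (.lin 4)) (.lin 4)))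
    (.lin 8)))) (.wt 1)) (.lin 7))) (.lin 8))) (.wt 1)) (.lin 8)))) (.wt 1))) (.lin 1)) .sq))
    (.wt 1)) (.lin 8)))) (.wt 1)) (.lin 4)) (.lin 4)))

def cert5_38_11 : Cert :=
  (.split 1 19 (.split 5 22 (.lin 4) (.split 3 106 (.splitN 34740 (.split 0 (-161) .sq (.split 4
    (-169) .sq (.split 5 131 (.split 0 (-138) (.lin 12) (.split 2 8 (.splitN 19682 (.split 4
    (-111) .sq (.split 6 (-51) (.split 4 (-83) (.split 7 52 (.lin 9) (.split 3 60 (.lin 2) .sq))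
    (.lin 0)) (.split 7 44 (.splitN 16614 (.split 1 14 (.split 5 31 (.lin 4) (.split 7 29 (.wt 1)
    (.split 3 42 (.lin 2) (.split 4 (-74) (.split 6 (-37) (.split 0 (-52) .sq (.split 7 41
    (.split 6 (-38) (.lin 9) (.wt 1)) (.wt 0))) (.lin 9)) (.lin 5))))) (.wt 0)) (.wt 1)) (.lin
    9)))) (.wt 1)) (.split 3 42 (.lin 2) (.split 6 (-37) (.split 7 80 (.splitN 32960 (.splitN
    15627 (.wt 1) (.split 4 (-155) .sq (.split 0 (-120) (.lin 12) (.split 7 45 (.splitN 28595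
    (.split 4 (-144) .sq (.split 5 104 (.split 1 11 (.split 5 31 (.lin 4) (.split 6 (-62) (.wt 2)
    (.split 3 61 (.splitN 19962 (.split 5 94 (.split 7 26 (.wt 0) (.split 6 (-46) (.wt 1) (.lin
    9))) (.div 5)) (.wt 3)) (.lin 11)))) (.split 3 51 (.lin 2) (.splitN 17685 (.wt 1) (.split 6
    (-64) (.split 2 18 (.lin 9) (.split 3 78 (.lin 11) (.split 4 (-115) .sq (.split 7 35 (.splitN
    25563 (.split 4 (-97) .sq (.split 7 30 (.split 2 36 (.lin 2) (.splitN 23056 (.split 0 (-40)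
    (.split 5 31 (.lin 4) (.split 4 (-74) .sq (.lin 8))) (.wt 0)) (.wt 0))) (.split 0 (-57) (.lin
    12) (.split 0 (-43) (.split 5 31 (.lin 4) (.split 4 (-83) (.split 6 (-70) (.split 2 36 (.lin
    9) (.split 3 87 (.lin 2) .sq)) (.wt 0)) (.lin 8))) (.wt 0))))) (.wt 1)) (.split 2 46 (.split
    0 (-66) (.lin 12) (.split 4 (-83) (.splitN 23905 (.wt 0) (.split 0 (-58) (.split 5 49 (.lin
    4) (.split 4 (-110) .sq (.lin 8))) (.wt 1))) (.lin 8))) (.lin 2)))))) (.split 2 28 (.splitN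
    25994 (.split 4 (-128) .sq (.split 0 (-93) (.lin 12) (.split 7 35 (.split 6 (-46) (.split 3
    60 (.lin 11) (.split 0 (-40) (.split 5 31 (.lin 4) (.split 4 (-74) (.splitN 23364 (.split 7
    30 (.split 2 18 (.lin 2) (.split 0 (-48) (.split 5 40 (.lin 4) (.split 4 (-83) (.split 0
    (-67) .sq (.split 5 59 (.split 4 (-111) (.lin 0) (.split 6 (-48) (.split 2 27 (.lin 9)
    (.split 3 69 (.lin 2) .sq)) (.wt 0))) (.lin 1))) (.lin 8))) (.wt 0))) (.wt 0)) (.wt 1)) (.lin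
    8))) (.wt 2))) (.split 2 10 (.split 7 26 (.wt 1) (.lin 9)) (.lin 9))) (.split 3 69 (.lin 2)
    (.wt 0))))) (.wt 1)) (.lin 9)))))) (.lin 8))) (.wt 1)) (.split 3 69 (.lin 2) (.split 4 (-83)
    (.split 6 (-64) (.split 4 (-92) (.splitN 22391 .sq (.split 4 (-127) .sq (.split 5 59 (.split
    1 11 (.wt 0) (.split 3 78 (.lin 2) (.split 0 (-48) (.split 5 40 (.lin 4) (.split 4 (-110) .sq
    (.lin 8))) (.wt 2)))) (.lin 8)))) (.lin 12)) (.lin 9)) (.lin 8))))))) (.wt 1)) (.lin 9))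
    (.lin 9))))) (.lin 8)))) (.wt 1)) (.lin 11))) (.split 3 51 (.lin 2) (.split 5 31 (.split 4
    (-165) (.lin 0) (.split 0 (-75) (.lin 4) (.split 2 8 (.splitN 28576 (.split 3 137 (.split 4
    (-156) (.lin 10) (.split 4 (-143) .sq (.split 6 (-51) (.split 4 (-83) (.split 4 (-92) (.split
    7 52 (.lin 9) (.split 3 78 (.lin 2) (.splitN 22634 .sq (.split 5 8 (.split 3 87 (.lin 1)
    (.splitN 24668 .sq (.split 0 (-39) (.split 3 96 (.lin 1) (.split 4 (-101) (.split 1 42 (.lin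
    4) .sq) (.lin 3))) (.wt 1)))) (.wt 1))))) (.lin 3)) (.lin 0)) (.split 4 (-120) (.lin 0)
    (.split 7 44 (.splitN 22803 (.split 5 10 (.split 0 (-57) (.lin 4) (.split 1 33 (.lin 4)
    (.splitN 17470 (.wt 3) (.split 7 40 (.split 6 (-38) (.lin 9) (.split 0 (-44) (.split 3 69
    (.lin 1) (.wt 6)) (.wt 1))) (.wt 0))))) (.wt 2)) (.wt 1)) (.lin 9)))))) .sq) (.wt 1)) (.split
    4 (-156) (.lin 0) (.split 3 60 (.lin 2) (.split 6 (-37) (.split 7 80 (.splitN 20559 (.wt 3)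
    (.split 5 10 (.split 0 (-57) (.lin 4) (.split 1 33 (.lin 4) (.splitN 26896 (.wt 1) (.split 6
    (-73) (.wt 2) (.split 2 37 (.split 3 115 (.split 7 53 (.split 6 (-58) (.wt 2) (.split 7 44
    (.split 6 (-52) (.wt 2) (.split 3 97 (.split 7 35 (.split 6 (-46) (.wt 2) (.split 4 (-84)
    (.lin 0) (.split 3 88 (.split 7 26 (.wt 0) (.lin 9)) (.lin 6)))) (.lin 9)) (.lin 7))) (.lin
    9))) (.lin 9)) (.lin 7)) (.lin 9)))))) (.split 6 (-39) (.split 3 69 (.lin 11) (.split 7 45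
    (.split 4 (-120) (.lin 8) (.splitN 33066 (.split 7 35 (.split 6 (-69) (.split 2 36 (.lin 9)
    (.split 3 87 (.lin 2) (.split 3 96 (.lin 11) (.split 4 (-105) .sq (.split 7 30 (.split 2 45
    (.lin 9) (.splitN 24020 .sq (.wt 1))) (.split 4 (-74) (.split 2 55 (.splitN 29686 (.split 0
    (-45) (.split 4 (-83) .sq (.lin 12)) (.wt 0)) (.wt 1)) (.lin 9)) (.lin 8))))))) (.split 2 37
    (.splitN 28813 (.split 7 30 (.split 4 (-102) (.lin 8) (.split 2 18 (.lin 9) (.splitN 25597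
    (.split 1 46 (.split 0 (-66) (.lin 4) (.split 1 41 (.split 0 (-57) (.lin 4) (.split 4 (-84)
    (.lin 8) (.split 5 22 (.split 0 (-39) (.split 3 78 (.lin 1) (.split 1 33 (.lin 4) (.wt 0)))
    (.wt 0)) (.wt 1)))) (.wt 3))) (.wt 3)) (.wt 1)))) (.split 0 (-42) (.split 1 41 (.split 0
    (-57) (.lin 4) (.split 4 (-93) (.lin 8) (.split 1 30 (.split 0 (-48) (.lin 4) (.split 5 22
    (.lin 4) (.wt 0))) (.wt 0)))) (.wt 0)) (.wt 0))) (.wt 1)) (.lin 9))) (.split 3 78 (.lin 2)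
    (.split 0 (-44) (.split 4 (-92) (.split 6 (-61) (.split 3 87 (.lin 6) (.split 2 18 (.lin 9)
    (.split 1 42 (.split 0 (-57) (.lin 4) (.split 4 (-102) (.lin 8) (.split 1 31 (.split 0 (-48)
    (.lin 4) (.split 5 22 (.lin 4) (.wt 0))) (.wt 0)))) (.wt 0)))) (.wt 2)) (.lin 12)) (.wt 2))))
    (.wt 1))) (.split 3 78 (.lin 1) (.split 0 (-51) (.split 3 96 (.lin 1) (.split 1 33 (.lin 4)
    (.splitN 34293 (.split 7 64 (.split 4 (-138) (.lin 8) (.split 1 50 (.split 0 (-66) (.lin 4)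
    (.wt 2)) (.wt 0))) (.wt 0)) (.wt 6)))) (.wt 2))))) (.wt 2)))) (.lin 9)) (.lin 9)))))))
    (.split 0 (-56) (.split 4 (-83) (.split 6 (-37) (.split 3 60 (.lin 11) (.splitN 36001 (.split
    6 (-39) (.split 3 69 (.lin 11) (.split 0 (-130) .sq (.split 4 (-144) .sq (.split 0 (-111)
    (.lin 12) (.split 6 (-48) (.split 3 78 (.lin 11) (.splitN 21617 .sq (.split 7 61 (.splitN
    31181 (.split 0 (-107) .sq (.split 4 (-123) .sq (.split 0 (-93) (.lin 12) (.split 7 51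
    (.splitN 29439 (.split 6 (-57) (.split 2 18 (.lin 9) (.split 3 87 (.lin 11) (.splitN 24551
    .sq (.split 7 43 (.split 2 27 (.lin 9) (.split 1 33 (.wt 1) (.split 4 (-92) (.split 3 96
    (.lin 11) .sq) (.lin 8)))) (.wt 0))))) (.wt 6)) (.wt 1)) (.wt 2))))) (.wt 1)) (.wt 2)))) (.wt
    2)))))) (.wt 2)) (.wt 1))) (.wt 2)) (.lin 8)) (.lin 4)))))

def cert5_38_12 : Cert :=
  (.splitN 270723 (.split 0 (-513) .sq (.split 3 512 (.split 4 (-516) .sq (.split 7 476 (.split 1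
    58 (.splitN 143147 (.split 0 (-365) .sq (.split 3 364 (.split 7 350 (.splitN 130956 (.split 4
    (-356) .sq (.split 5 320 (.split 0 (-327) (.lin 12) (.split 7 314 (.split 6 (-100) (.split 3
    105 (.lin 11) (.splitN 27656 .sq (.splitN 86362 (.split 7 27 (.wt 5) (.split 4 (-74) (.split
    1 7 (.wt 5) (.split 3 114 (.lin 11) (.splitN 31652 .sq (.split 2 230 (.split 3 257 (.split 7
    233 (.split 6 (-236) (.lin 11) (.splitN 77659 (.split 3 238 (.split 7 215 (.split 6 (-218)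
    (.lin 11) (.split 4 (-222) .sq (.split 0 (-183) (.lin 12) (.split 7 179 (.split 5 28 (.split
    0 (-75) (.lin 4) (.split 2 13 (.split 4 (-128) (.split 7 88 (.lin 9) (.splitN 49256 .sq
    (.split 1 17 (.wt 0) (.split 3 123 (.lin 11) (.splitN 51776 .sq (.split 2 1 (.wt 1) (.split 5
    7 (.wt 2) (.wt 1)))))))) (.lin 3)) (.split 5 10 (.wt 2) (.splitN 47635 (.split 7 36 (.wt 1)
    (.split 4 (-83) (.splitN 34307 .sq (.split 7 48 (.wt 1) (.split 4 (-92) (.splitN 36755 .sq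
    (.split 7 67 (.wt 1) (.split 4 (-110) (.splitN 42623 .sq (.split 1 23 (.wt 1) (.split 3 123
    (.lin 11) (.splitN 45143 .sq (.split 0 (-64) (.split 4 (-137) .sq (.lin 12)) (.wt 1))))))
    (.lin 12)))) (.lin 12)))) (.lin 12))) (.wt 1))))) (.split 4 (-83) (.split 7 170 (.splitN
    34829 .sq (.splitN 41820 (.split 7 70 (.wt 1) (.split 4 (-119) .sq (.lin 8))) (.wt 1))) (.lin
    8)) (.lin 8))) (.lin 12))))) (.lin 2)) .sq) (.wt 3))) (.lin 2)) .sq) .sq)))) (.lin 12))) (.wt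
    3)))) (.split 2 64 (.split 7 89 (.split 3 205 (.split 3 142 (.splitN 71635 (.split 0 (-249)
    .sq (.split 4 (-255) .sq cert5_38_11)) (.wt 3)) (.lin 11)) (.lin 2)) (.lin 9)) (.lin 9)))
    (.lin 12))) (.lin 8))) (.wt 3)) (.lin 2)) .sq)) (.wt 3)) (.split 0 (-65) (.split 3 87 (.lin
    2) (.split 7 449 (.split 4 (-92) (.splitN 25640 .sq (.splitN 147952 (.split 0 (-354) .sq
    (.split 1 349 (.split 3 358 (.split 7 296 (.splitN 127553 (.split 3 330 (.split 7 260 (.split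
    6 (-263) (.lin 11) (.splitN 120904 (.split 4 (-322) .sq (.split 5 230 (.split 6 (-86) (.split
    3 150 (.lin 11) (.splitN 48194 .sq (.split 7 45 (.wt 0) (.split 4 (-119) (.splitN 56024 .sq
    (.split 7 60 (.wt 0) (.split 4 (-128) (.splitN 59282 .sq (.split 2 1 (.wt 1) (.split 5 10
    (.wt 2) (.wt 1)))) (.lin 8)))) (.lin 8))))) (.split 2 55 (.split 7 80 (.splitN 71312 (.split
    0 (-218) .sq (.split 4 (-291) (.lin 3) (.split 1 259 (.split 1 205 (.split 3 225 (.split 5 20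
    (.split 2 7 (.splitN 28559 (.split 7 26 (.wt 0) (.split 3 96 (.lin 2) (.split 4 (-101) .sq
    (.lin 8)))) (.wt 1)) (.split 3 96 (.lin 2) (.split 6 (-37) (.split 7 71 (.splitN 27989 .sq
    (.splitN 59181 (.split 3 201 (.split 7 48 (.splitN 43989 (.split 3 155 (.split 0 (-129) (.lin
    1) (.split 1 115 (.splitN 42762 (.split 3 144 (.split 4 (-142) .sq (.split 5 9 (.split 7 26
    (.wt 0) (.split 6 (-46) (.wt 2) (.lin 9))) (.split 1 97 (.split 4 (-101) (.splitN 31148 .sq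
    (.wt 1)) (.lin 8)) (.lin 8)))) .sq) (.wt 3)) (.lin 2))) .sq) (.wt 3)) (.split 3 123 (.lin 2)
    (.split 4 (-101) (.split 4 (-119) (.split 6 (-64) (.splitN 44513 .sq (.split 5 7 (.wt 2) (.wt
    1))) (.lin 9)) (.lin 8)) (.lin 6)))) .sq) (.wt 3))) (.lin 9)) (.lin 9)))) (.split 0 (-83)
    (.split 4 (-110) (.splitN 32444 .sq (.split 2 5 (.wt 1) (.split 3 96 (.lin 2) (.split 7 71
    (.splitN 34793 .sq (.wt 1)) (.lin 9))))) (.lin 8)) (.lin 4))) .sq) (.lin 4)) (.lin 8)))) (.wt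
    3)) (.lin 9)) (.lin 9))) (.lin 8))) (.wt 3))) (.lin 2)) .sq) (.wt 3)) (.lin 2)) .sq) (.lin
    4))) (.wt 3))) (.lin 8)) (.lin 2))) (.lin 4))) (.lin 12))) .sq)) (.wt 3))

def cert5_38_13 : Cert :=
  (.split 2 8 (.split 1 13 (.split 5 13 (.lin 4) (.split 6 (-31) (.split 4 (-56) (.split 7 34
    (.lin 9) (.split 3 42 (.lin 2) (.split 6 (-41) (.split 7 43 (.lin 9) (.split 3 51 (.lin 2)
    (.splitN 13794 (.wt 0) (.wt 1)))) (.wt 2)))) (.lin 0)) (.wt 2))) (.split 3 42 (.lin 2)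
    (.split 5 14 (.splitN 26195 (.split 6 (-32) (.split 4 (-56) (.split 7 34 (.lin 9) (.split 3
    51 (.lin 2) (.splitN 17057 (.wt 3) (.split 5 12 (.split 6 (-40) (.split 4 (-65) (.split 3 60
    (.lin 7) (.split 7 43 (.lin 9) (.split 6 (-47) (.split 3 69 (.lin 7) (.split 7 52 (.lin 9)
    (.splitN 20313 (.wt 3) (.split 7 55 (.wt 1) (.split 6 (-64) (.split 0 (-23) (.split 3 87
    (.lin 1) (.split 4 (-92) .sq (.lin 3))) (.wt 2)) (.lin 9)))))) (.wt 2)))) (.lin 0)) (.wt 2))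
    (.wt 1))))) (.lin 0)) (.wt 2)) (.wt 1)) (.lin 4)))) (.split 3 42 (.lin 2) (.split 4 (-111)
    (.lin 3) (.split 6 (-37) (.split 7 80 (.splitN 15808 (.wt 1) (.split 1 13 (.split 5 13 (.lin
    4) (.split 3 106 (.split 3 97 (.split 7 45 (.split 4 (-75) (.lin 8) (.split 6 (-64) (.split 3
    69 (.lin 11) (.splitN 23290 (.splitN 17354 (.wt 1) (.split 7 29 (.wt 0) (.split 4 (-56)
    (.split 0 (-29) (.wt 2) (.split 5 14 (.split 7 40 (.split 2 27 (.lin 1) (.split 4 (-57) (.lin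
    8) (.split 6 (-84) (.wt 0) (.split 3 88 (.split 6 (-78) (.wt 0) (.split 3 79 (.split 6 (-72)
    (.wt 0) (.split 2 28 (.split 3 70 .point (.lin 6)) (.lin 0))) (.lin 6))) (.lin 6))))) (.wt
    0)) (.lin 4))) (.lin 8)))) (.wt 1))) (.split 2 28 (.split 3 61 (.splitN 22258 (.split 7 35
    (.split 4 (-66) (.lin 8) (.split 6 (-46) (.split 3 51 (.lin 11) (.split 0 (-25) (.split 5 22
    (.lin 4) (.split 4 (-56) (.splitN 19040 (.wt 1) (.wt 0)) (.lin 8))) (.split 5 14 (.split 4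
    (-57) (.lin 8) (.splitN 16986 (.wt 0) (.wt 1))) (.lin 4)))) (.split 2 10 (.split 7 26 (.split
    3 43 (.splitN 18399 (.split 0 (-23) (.split 5 22 (.lin 1) (.split 4 (-56) (.wt 0) (.lin 0)))
    (.wt 0)) (.wt 0)) (.lin 2)) (.lin 9)) (.lin 9)))) (.split 2 10 (.split 3 60 (.lin 2) (.split
    4 (-65) (.split 6 (-55) (.splitN 18976 (.wt 0) (.split 0 (-23) (.wt 0) (.wt 0))) (.lin 9))
    (.lin 5))) (.lin 9))) (.wt 1)) (.lin 11)) (.lin 9)))) (.split 2 46 (.split 3 60 (.lin 1)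
    (.split 3 69 (.lin 2) (.split 4 (-74) (.split 6 (-64) (.splitN 25404 (.split 4 (-105) .sq
    (.split 0 (-25) (.split 5 22 (.lin 4) (.split 4 (-83) (.split 7 71 (.splitN 20213 .sq (.wt
    0)) (.lin 8)) (.lin 8))) (.split 5 14 (.splitN 21114 (.wt 0) (.split 7 77 (.split 4 (-93)
    (.lin 8) (.split 2 13 (.wt 1) (.split 3 78 (.lin 1) (.split 7 66 (.wt 1) (.wt 0))))) (.wt
    0))) (.lin 4)))) (.wt 1)) (.lin 9)) (.lin 8)))) (.lin 1))) (.lin 11)) (.lin 7))) (.split 3 51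
    (.lin 2) (.split 5 14 (.splitN 20641 (.wt 3) (.split 7 45 (.split 4 (-84) (.lin 8) (.split 4
    (-75) (.lin 12) (.split 5 9 (.splitN 23821 (.wt 1) (.split 6 (-64) (.split 2 18 (.lin 9)
    (.splitN 27091 (.wt 1) (.split 0 (-27) (.wt 2) (.split 1 16 (.split 3 106 (.split 4 (-66)
    (.lin 8) (.split 7 30 (.wt 0) (.split 4 (-56) (.splitN 30954 (.wt 1) (.splitN 36014 (.split 7
    36 (.wt 0) (.wt 1)) (.wt 3))) (.lin 8)))) (.lin 7)) (.lin 4))))) (.split 2 28 (.split 3 79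
    (.split 7 35 (.splitN 36311 .cand (.wt 1)) (.split 2 10 (.split 3 69 (.lin 1) (.split 4 (-65)
    (.split 6 (-55) (.split 0 (-21) (.split 3 78 (.lin 1) (.split 1 24 (.lin 2) (.splitN 33527
    (.wt 0) (.wt 0)))) (.wt 2)) (.lin 9)) (.lin 6))) (.lin 9))) (.lin 7)) (.lin 9)))) (.split 0
    (-29) (.split 1 16 (.split 4 (-56) (.splitN 28084 (.split 7 43 (.splitN 26189 (.split 6 (-41)
    (.split 3 60 (.lin 7) (.split 7 31 (.wt 1) (.wt 0))) (.wt 0)) (.wt 1)) (.wt 0)) (.wt 1))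
    (.lin 8)) (.lin 4)) (.lin 4))))) (.split 3 69 (.lin 1) (.split 4 (-74) (.split 6 (-64)
    (.split 5 9 (.splitN 33661 (.wt 1) (.split 0 (-25) (.split 1 24 (.lin 4) (.split 4 (-83)
    (.splitN 39636 (.wt 6) (.split 7 62 (.wt 0) (.split 2 19 (.split 3 105 (.lin 1) (.split 6
    (-82) (.split 4 (-101) (.wt 0) (.lin 8)) (.lin 7))) (.lin 1)))) (.lin 8))) (.split 1 16
    (.splitN 43804 .cand (.wt 1)) (.lin 4)))) (.wt 2)) (.lin 9)) (.lin 8))))) (.lin 4))))) (.lin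
    9)) (.lin 9)))))

def cert5_38_14 : Cert :=
  (.split 3 382 (.split 7 386 (.split 4 (-399) (.lin 5) (.split 6 (-389) (.lin 7) (.splitN 120620
    (.split 3 342 (.split 7 332 (.split 6 (-353) (.lin 7) (.split 6 (-335) (.lin 11) (.splitN
    115864 (.split 4 (-334) .sq (.split 7 314 (.split 6 (-97) (.split 3 87 (.lin 7) (.split 3 105
    (.lin 11) (.splitN 23552 .sq (.splitN 91667 (.split 3 281 (.split 7 287 (.split 7 269 (.split
    6 (-290) (.lin 7) (.split 6 (-272) (.lin 11) (.splitN 87682 (.split 4 (-251) .sq (.split 7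
    233 (.split 0 (-20) (.split 4 (-47) (.split 3 267 (.split 6 (-254) (.lin 11) (.split 7 77
    (.split 2 9 (.lin 1) (.split 2 27 (.lin 9) (.split 4 (-120) (.lin 8) (.splitN 58405 (.split 3
    204 (.split 1 13 (.split 5 13 (.lin 4) (.wt 3)) (.split 5 14 (.split 3 114 (.lin 11) (.split
    6 (-182) (.lin 11) (.split 7 48 (.split 2 45 (.lin 1) (.split 2 54 (.lin 9) (.split 4 (-75)
    (.lin 12) (.splitN 43707 (.split 3 162 (.split 5 9 (.splitN 31906 (.wt 6) (.split 7 29 (.wt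
    0) (.split 4 (-56) (.splitN 33247 (.wt 1) (.split 0 (-27) (.wt 0) (.split 1 16 (.wt 0) (.lin
    4)))) (.lin 8)))) (.split 0 (-29) (.split 1 16 (.split 4 (-56) (.splitN 31355 .sq (.wt 0))
    (.lin 8)) (.lin 4)) (.lin 4))) .sq) (.wt 3))))) (.split 4 (-74) (.split 5 12 (.splitN 37550
    (.wt 1) (.split 0 (-25) (.wt 2) (.split 1 16 (.splitN 44584 (.split 7 55 (.wt 0) (.split 4
    (-83) (.split 3 135 (.wt 2) (.split 2 54 (.lin 1) (.split 6 (-118) .sq (.lin 0)))) (.lin 8)))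
    (.wt 0)) (.lin 4)))) (.wt 2)) (.lin 8))))) (.lin 4))) .sq) (.wt 3))))) (.split 2 181 (.split
    4 (-92) (.split 4 (-101) (.splitN 38312 .sq (.splitN 75569 (.split 1 7 (.wt 0) (.split 3 114
    (.lin 11) (.splitN 40508 .sq (.split 2 1 (.wt 1) (.split 5 11 (.split 3 218 (.split 7 188
    (.split 6 (-200) (.lin 7) (.splitN 70370 (.split 3 203 (.split 7 170 (.split 6 (-182) (.lin
    7) (.split 0 (-29) (.wt 2) (.split 1 16 (.splitN 54456 (.split 3 158 (.split 2 55 (.split 7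
    125 (.splitN 51620 (.split 3 148 (.split 7 116 (.split 6 (-128) (.lin 7) (.splitN 48407
    (.split 3 136 (.split 4 (-126) .sq (.split 7 98 (.splitN 45696 (.split 6 (-118) (.wt 2)
    (.split 3 124 (.split 7 81 (.wt 0) (.split 4 (-110) .sq (.lin 8))) (.lin 7))) (.wt 3)) (.lin
    8))) .sq) (.wt 1))) (.lin 1)) .sq) (.wt 0)) (.lin 1)) (.lin 1)) .sq) (.wt 1)) (.lin 4))))
    (.lin 1)) .sq) (.wt 1))) (.lin 1)) .sq) (.wt 1)))))) (.wt 1))) (.lin 12)) (.lin 8)) (.lin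
    1)))) .sq) (.lin 12)) (.split 1 7 (.split 5 5 (.split 7 29 (.wt 0) (.split 4 (-47) (.split 2
    1 (.wt 1) (.split 7 35 (.wt 1) (.split 4 (-56) (.splitN 36078 (.split 7 127 (.split 4 (-138)
    (.lin 8) (.split 7 112 (.split 4 (-120) (.lin 8) (.splitN 32793 (.split 2 166 (.split 7 74
    (.split 2 27 (.lin 1) (.split 3 241 (.split 6 (-236) (.lin 7) (.split 4 (-84) (.lin 8)
    (.splitN 27287 .sq (.split 7 61 (.wt 1) (.wt 0))))) (.lin 1))) (.wt 0)) (.div 2)) (.wt 6)))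
    (.wt 0))) (.wt 0)) (.wt 1)) (.lin 8)))) (.lin 8))) (.lin 4)) (.lin 4))) (.lin 8))) (.wt 1))))
    (.lin 2)) (.lin 1)) .sq) (.wt 1))))) (.split 2 100 (.split 2 64 (.split 4 (-138) (.lin 0)
    (.split 3 196 (.split 4 (-120) (.lin 3) (.split 3 178 (.split 3 115 (.split 7 89 (.split 0
    (-20) (.split 4 (-47) cert5_38_13 (.lin 12)) (.split 4 (-102) (.lin 3) (.split 1 7 (.split 5
    5 (.split 6 (-41) (.split 3 51 (.lin 7) (.split 6 (-55) (.split 3 60 (.lin 7) (.split 6 (-60)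
    (.split 3 69 (.lin 7) (.split 6 (-65) (.split 3 78 (.lin 7) (.splitN 25677 (.split 2 1 (.wt
    2) (.splitN 20438 (.wt 1) (.split 7 34 (.wt 1) (.wt 0)))) (.wt 6))) (.wt 2))) (.wt 2))) (.wt
    2))) (.wt 2)) (.lin 4)) (.lin 4)))) (.lin 9)) (.lin 7)) (.lin 6))) (.lin 6))) (.lin 9)) (.lin
    0))) (.lin 8))) (.wt 1)))) (.lin 2)) .sq) (.wt 1)))) (.lin 1)) .sq)

def cert5_38_15 : Cert :=
  (.split 2 (-1) (.split 4 (-29) (.split 7 16 (.lin 9) (.splitN 7912 (.wt 0) (.split 6 (-28)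
    (.split 4 (-47) (.split 7 34 (.lin 9) (.split 3 33 (.lin 11) cert5_38_10)) (.lin 0)) (.splitN
    97198 (.split 2 (-527) (.div 2) (.split 7 539 (.split 4 (-1053) (.div 4) (.splitN 88516
    (.split 0 (-295) .sq (.split 1 286 (.splitN 84365 (.split 4 (-285) .sq (.split 0 (-54)
    (.split 2 (-216) (.lin 3) (.split 4 (-74) (.split 7 233 (.splitN 67668 (.split 0 (-244) .sq
    (.split 4 (-249) .sq (.split 6 (-15) (.split 7 25 (.lin 9) (.splitN 14133 (.wt 1) .cand))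
    (.splitN 16860 (.split 4 (-153) (.div 4) (.split 0 (-129) (.lin 3) (.wt 0))) (.wt 6))))) (.wt
    1)) (.lin 9)) (.lin 3))) (.split 6 (-15) (.split 7 25 (.lin 9) (.split 3 24 (.lin 11) (.split
    0 (-17) (.split 1 30 (.split 5 18 (.split 0 (-39) (.lin 4) (.split 1 20 (.split 0 (-30) (.lin
    4) (.split 1 13 (.split 5 13 (.lin 4) (.wt 2)) (.wt 2))) (.wt 2))) (.wt 2)) (.wt 2)) (.wt
    2)))) (.wt 2)))) (.wt 1)) (.lin 4))) (.wt 1))) (.lin 9))) (.wt 1))))) (.lin 0)) (.split 7 24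
    (.splitN 52501 (.split 1 548 (.split 2 274 (.split 3 835 (.split 6 (-290) (.lin 9) (.splitN
    48269 (.split 2 256 (.split 0 (-213) .sq (.split 3 475 (.split 1 466 (.split 1 205 (.split 2
    212 (.split 6 (-227) (.lin 9) (.split 3 212 (.split 2 190 (.split 6 (-209) (.lin 9) (.splitN
    45837 (.split 4 (-206) .sq (.split 1 187 (.split 0 (-192) (.lin 12) (.split 5 185 (.split 6
    (-46) (.split 2 27 (.lin 9) (.split 3 51 (.lin 11) (.splitN 37373 (.splitN 9365 (.wt 1)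
    (.split 3 181 (.split 7 12 (.split 2 36 (.lin 9) (.splitN 14749 (.split 5 76 (.split 0 (-36)
    (.wt 2) (.split 1 25 (.split 5 23 (.split 4 (-39) (.lin 12) (.splitN 13434 (.split 0 (-22)
    (.wt 1) (.split 5 14 (.split 0 (-13) (.wt 1) (.split 1 7 (.split 5 5 (.wt 0) (.lin 4)) (.lin
    4))) (.lin 4))) (.wt 3))) (.lin 4)) (.lin 4))) (.div 5)) (.wt 3))) .cand) .sq)) (.wt 1))))
    (.split 2 28 (.splitN 32877 (.split 4 (-172) .sq (.split 0 (-156) (.lin 12) (.split 6 (-20)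
    (.split 3 33 (.lin 11) (.splitN 29114 (.splitN 8868 (.wt 1) (.split 3 158 (.split 7 12
    (.splitN 19177 .cand (.wt 0)) .cand) .sq)) (.wt 1))) (.splitN 24324 (.split 5 130 (.split 4
    (-151) .sq (.split 7 12 (.splitN 14191 (.split 0 (-114) .sq (.split 4 (-129) (.lin 3) (.split
    4 (-115) .sq (.split 6 (-15) (.split 2 9 (.lin 9) (.split 3 24 (.lin 2) (.splitN 7233 (.wt 0)
    .cand))) (.split 2 1 (.splitN 7276 (.wt 0) (.wt 1)) (.lin 9)))))) (.wt 1)) (.split 2 1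
    (.split 0 (-129) (.lin 12) (.split 3 24 (.lin 2) (.split 4 (-29) (.split 6 (-19) (.splitN
    15366 (.split 5 76 (.split 1 41 (.split 4 (-120) (.lin 0) (.split 0 (-102) (.lin 3) (.split 3
    52 (.splitN 10454 (.wt 3) (.split 1 10 (.wt 1) (.split 3 33 (.lin 2) (.split 0 (-47) (.split
    5 13 (.lin 1) (.split 4 (-47) (.wt 1) (.lin 0))) (.wt 0))))) (.lin 2)))) (.wt 0)) (.div 5))
    (.wt 1)) (.lin 9)) (.lin 6)))) (.lin 9)))) (.div 5)) (.wt 1))))) (.wt 1)) (.lin 9))) (.lin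
    4))) (.lin 8))) (.wt 1))) (.lin 2)) .sq)) .sq) (.lin 4)) (.lin 2)) (.lin 1))) (.div 2)) (.wt
    1))) (.lin 2)) (.div 2)) (.div 1)) (.wt 1)) (.split 3 33 (.lin 2) (.split 4 (-38) (.split 6
    (-28) (.splitN 10866 (.wt 3) (.split 0 (-30) (.split 4 (-65) (.splitN 566194 (.split 1 6272
    (.split 2 3136 (.split 4 (-6273) (.div 4) (.split 7 6254 (.split 3 9394 (.splitN 520334
    (.split 4 (-5769) (.div 4) (.split 7 5750 (.split 0 (-716) .sq (.split 1 709 (.split 5 707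
    (.splitN 462950 (.split 0 (-674) .sq (.split 1 664 (.split 2 672 (.split 3 673 (.split 7 665
    (.splitN 303755 (.split 0 (-544) .sq (.split 1 538 (.split 2 541 (.split 3 542 (.split 7 530
    cert5_38_12 (.lin 2)) .sq) .sq) (.lin 4))) (.wt 3)) (.lin 2)) .sq) .sq) (.lin 4))) (.wt 3))
    (.lin 4)) (.lin 4))) (.lin 8))) (.wt 3)) (.lin 10)) (.lin 8))) (.div 2)) (.div 1)) (.wt 3))
    (.lin 12)) (.split 1 25 (.split 5 23 (.splitN 161947 (.split 2 886 (.split 4 (-1773) (.div 4)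
    (.split 6 (-2639) (.lin 0) (.split 3 2662 (.split 7 1754 (.splitN 151863 (.split 4 (-1665)
    (.div 4) (.split 2 381 (.split 6 (-2027) (.lin 0) cert5_38_14) .sq)) (.wt 1)) (.lin 8)) (.lin
    5)))) (.div 2)) (.wt 1)) (.lin 4)) (.lin 4)))) (.lin 9)) (.lin 8)))))

def cert5_38 : Cert :=
  (.split 4 (-11) (.split 3 (-1) (.split 5 4 (.lin 7) (.split 1 (-2) (.split 6 (-3) (.split 1
    (-11) (.split 0 (-9) (.split 5 22 (.lin 4) (.split 4 (-20) (.split 3 (-10) (.split 6 (-18)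
    (.split 5 40 (.lin 7) (.split 1 (-29) (.split 2 (-1) (.split 4 (-38) (.split 7 25 (.lin 9)
    (.splitN 84905 (.split 4 (-909) (.div 4) (.split 7 890 (.split 5 454 (.split 0 (-417) (.lin
    4) (.split 3 (-417) (.lin 7) (.split 6 (-425) (.lin 7) (.splitN 73340 (.split 5 400 (.split 3
    (-363) (.lin 7) (.split 6 (-371) (.lin 7) (.splitN 40236 (.split 5 220 (.split 0 (-183) (.lin
    4) (.split 3 (-183) (.lin 7) (.split 6 (-191) (.lin 7) (.wt 2)))) (.div 5)) (.wt 6)))) (.div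
    5)) (.wt 1))))) (.div 5)) (.lin 12))) (.wt 1))) (.lin 3)) (.splitN 80353 (.split 1 (-873)
    (.div 1) (.split 2 847 (.split 2 436 (.split 5 436 (.split 0 (-408) (.lin 1) (.split 3 (-408)
    (.lin 1) (.split 7 404 (.split 6 (-407) (.lin 7) (.splitN 66656 (.split 5 364 (.split 0
    (-336) (.lin 1) (.split 3 (-336) (.lin 1) (.split 7 332 (.split 6 (-335) (.lin 7) (.split 0
    (-15) (.split 5 49 (.lin 4) (.split 4 (-29) (.splitN 57706 (.split 5 310 (.split 2 262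
    (.split 3 (-273) (.lin 1) (.split 7 269 (.split 6 (-272) (.lin 7) (.splitN 55485 (.split 5
    292 (.split 3 (-255) (.lin 1) (.split 7 251 (.split 1 (-264) (.lin 4) (.split 6 (-254) (.lin
    7) (.split 3 (-16) (.split 1 (-38) (.split 5 58 (.lin 4) (.splitN 51773 (.split 5 274 (.split
    3 (-237) (.lin 1) (.split 7 224 (.split 6 (-227) (.lin 7) (.split 6 (-27) (.split 3 (-219)
    (.lin 7) (.split 1 (-47) (.split 5 67 (.lin 4) (.splitN 48890 (.split 5 256 (.split 3 (-201)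
    (.lin 7) (.split 6 (-209) (.lin 7) (.split 4 (-228) (.lin 10) (.split 7 21 (.splitN 22382
    (.split 2 112 (.split 5 112 (.split 2 55 (.split 3 (-57) (.lin 7) (.split 6 (-65) (.lin 7)
    (.splitN 19373 (.split 5 94 (.split 1 (-75) (.lin 8) (.split 4 (-57) (.lin 6) (.split 3 (-39)
    (.lin 7) (.split 6 (-47) (.lin 7) (.wt 2))))) (.div 5)) (.wt 1)))) (.lin 10)) (.div 5)) (.div
    2)) (.wt 1)) (.wt 2))))) (.div 5)) (.wt 1))) (.lin 11))) (.wt 2))) (.lin 1))) (.div 5)) (.wt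
    1))) (.lin 11)) (.wt 2)))) (.lin 1))) (.div 5)) (.wt 1))) (.lin 1))) (.lin 10)) (.div 5))
    (.wt 1)) (.lin 12))) (.wt 2))) (.lin 1)))) (.div 5)) (.wt 1))) (.lin 1)))) (.div 5)) (.div
    2)) (.lin 2))) (.wt 1))) (.lin 11))) (.wt 2)) (.wt 2)) (.lin 12))) (.wt 2)) (.lin 11)) (.wt
    0)) (.lin 11))) (.split 6 (-2) (.split 1 (-1) (.split 5 4 (.lin 4) (.splitN 5302 (.wt 0)
    (.split 0 (-3) (.split 5 13 (.lin 4) (.split 4 (-20) cert5_38_5 (.lin 12))) (.wt 2))))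
    (.split 3 15 (.lin 11) (.split 5 (-1) (.split 0 (-5) (.split 1 15 (.lin 4) (.split 3 24 (.lin
    7) (.split 4 (-20) (.split 6 (-11) (.split 3 33 (.lin 7) (.splitN 7301 (.wt 3) cert5_38_6))
    (.wt 2)) (.lin 12)))) (.wt 2)) (.split 0 (-11) (.split 4 (-20) cert5_38_15 (.lin 8)) (.lin
    4))))) (.wt 2))) (.lin 12))

theorem check5_38 :
    check task5 cert5_38
      [(7, ⟨none, some (-2)⟩), (7, ⟨none, none⟩), (1, ⟨none, none⟩), (7, ⟨none, none⟩), (7, ⟨none, none⟩), (5, ⟨none, none⟩), (8, ⟨none, some (-1)⟩), (8, ⟨some (8), none⟩)] ⟨some (3960), none⟩ = true := by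
  decide +kernel

def cert5_39_0 : Cert :=
  (.split 3 (-30) (.split 5 49 (.lin 7) (.split 1 (-65) (.splitN 23120 (.wt 1) (.splitN 198643
    (.split 1 (-2205) (.div 1) (.split 5 2192 (.split 3 (-2181) (.lin 7) (.split 2 (-1103) (.div
    2) (.split 4 (-2205) (.div 4) (.split 7 2213 (.split 5 1102 (.splitN 187924 (.split 2 (-1031)
    (.div 2) (.split 7 2096 (.split 5 1030 (.split 0 7 (.wt 2) (.split 6 (-685) (.wt 2) (.split 7
    1700 (.splitN 173565 (.split 2 (-959) (.div 2) (.split 1 (-408) .sq (.split 7 1322 (.split 5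
    392 (.split 4 (-1308) (.lin 5) (.split 3 (-381) (.lin 7) (.split 6 (-371) (.lin 7) (.splitN
    155082 (.split 1 (-383) .sq (.split 5 365 (.split 3 (-354) (.lin 7) (.split 6 (-344) (.lin 7)
    (.split 2 (-378) .sq (.split 7 719 (.splitN 146517 (.split 4 (-365) .sq (.split 7 377
    (.splitN 135474 (.split 1 (-357) .sq (.split 5 338 (.split 7 351 (.split 6 (-95) (.split 1
    (-137) (.split 4 (-92) (.split 5 121 (.lin 4) (.split 7 106 (.lin 9) (.splitN 65330 .sq (.wt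
    0)))) (.lin 3)) (.lin 11)) (.splitN 96662 (.split 1 (-297) .sq (.split 5 275 (.split 3 (-264)
    (.lin 7) (.split 4 (-291) .sq (.split 7 305 (.split 7 291 (.split 4 (-273) (.lin 12) (.split
    6 (-51) (.split 1 (-92) (.split 4 (-47) (.split 5 76 (.lin 4) (.split 7 61 (.lin 9) (.splitN
    62670 (.split 3 (-91) (.wt 2) (.split 5 158 (.split 4 (-199) .sq (.split 7 206 (.splitN 59427
    (.split 7 194 (.split 7 107 (.split 2 (-54) (.lin 9) (.split 3 (-63) (.wt 2) (.split 5 140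
    (.split 1 (-147) (.lin 11) (.split 5 131 (.split 6 (-82) (.wt 2) (.split 7 84 (.split 3 (-54)
    (.wt 2) (.split 5 104 (.split 6 (-72) (.wt 2) (.splitN 45894 .cand (.wt 1))) (.lin 1)))
    (.split 2 (-17) (.split 4 (-74) (.splitN 44859 .cand (.wt 3)) (.lin 12)) (.lin 9)))) (.lin
    4))) (.lin 1)))) (.split 2 (-26) (.split 4 (-101) (.splitN 43451 .sq (.splitN 48172 (.split 6
    (-79) (.wt 0) (.split 2 (-44) (.split 7 118 (.wt 0) (.split 4 (-110) .sq (.lin 12))) (.lin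
    3))) (.wt 3))) (.lin 12)) (.lin 9))) .sq) (.wt 3)) (.lin 12))) (.lin 7))) (.wt 3)))) (.lin
    3)) (.lin 11)) (.splitN 68990 (.split 1 (-250) .sq (.split 5 230 (.split 3 (-219) (.lin 7)
    (.split 4 (-242) .sq (.split 7 251 (.split 7 93 (.splitN 55558 (.split 1 (-215) .sq (.split 5
    194 (.split 3 (-183) (.lin 7) (.split 7 62 (.split 4 (-48) (.lin 12) (.split 6 (-37) (.split
    1 (-74) (.split 4 (-29) (.split 5 58 (.lin 4) (.splitN 45333 .cand (.wt 1))) (.lin 3)) (.lin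
    11)) (.wt 2))) (.split 2 (-26) (.split 4 (-56) (.splitN 43780 .cand (.wt 1)) (.lin 12)) (.lin
    9)))) (.lin 4))) (.wt 1)) (.split 2 (-53) (.split 4 (-83) (.splitN 48808 (.split 3 (-47)
    (.split 5 58 (.lin 7) (.split 3 (-48) (.split 5 67 (.lin 7) (.split 6 (-32) (.split 1 (-92)
    (.split 5 76 (.lin 4) (.split 1 (-127) .sq (.split 5 104 (.split 3 (-84) (.lin 7) (.splitN
    44788 (.split 6 (-39) (.split 1 (-101) (.split 5 85 (.lin 4) (.splitN 42407 .sq (.split 7 111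
    (.wt 0) (.split 2 (-71) (.split 4 (-101) .sq (.lin 3)) (.lin 9))))) (.lin 11)) (.wt 2)) (.wt
    1))) (.lin 4)))) (.lin 11)) (.wt 2))) (.wt 2))) (.wt 2)) (.wt 1)) (.lin 12)) (.lin 9))) (.lin
    12)))) (.lin 4))) (.wt 1)))) .sq) (.lin 12)))) (.lin 4))) (.wt 1))) .sq) (.lin 4))) (.wt 1))
    (.lin 12))) (.wt 1)) (.lin 1))))) (.lin 4))) (.wt 1))))) (.lin 4)) (.lin 2)))) (.wt 1)) (.lin
    9)))) (.div 5)) (.lin 1))) (.wt 3)) (.div 5)) (.lin 12))))) (.lin 4))) (.wt 3))) (.lin 11)))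
    (.split 0 11 (.split 4 (-29) (.split 5 31 (.lin 4) (.splitN 116555 (.split 4 (-1269) (.div 4)
    (.split 7 1268 (.split 5 634 (.splitN 110795 (.split 3 (-20) (.wt 2) .cand) (.wt 3)) (.div
    5)) (.lin 12))) (.wt 3))) (.lin 3)) (.splitN 177371 (.split 1 (-1953) (.div 1) (.split 5 1931
    (.split 2 (-977) (.div 2) (.split 7 2906 (.split 4 (-1953) (.div 4) (.split 7 1961 (.split 5
    976 (.split 6 (-974) (.lin 7) (.split 3 (-12) (.split 1 (-47) (.split 5 31 (.lin 4) (.splitN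
    128016 (.split 5 706 (.split 6 (-40) (.split 4 (-38) (.split 1 (-65) (.split 5 49 (.lin 4)
    (.split 7 52 (.lin 9) (.splitN 86360 (.split 2 (-473) (.div 2) (.split 7 1160 (.split 5 472
    (.split 6 (-461) (.lin 7) (.split 6 (-52) (.split 4 (-47) (.split 1 (-74) (.split 5 58 (.lin
    4) (.split 7 61 (.lin 9) (.splitN 77708 (.split 2 (-419) (.div 2) (.split 6 (-56) (.split 4
    (-56) (.split 1 (-83) (.split 5 67 (.lin 4) (.split 7 70 (.lin 9) (.split 1 (-241) .sq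
    (.split 7 629 (.split 5 221 (.split 6 (-218) (.lin 7) (.splitN 68520 (.split 1 (-219) .sq
    (.split 5 203 (.split 6 (-200) (.lin 7) (.split 4 (-211) .sq (.split 7 214 (.splitN 61802
    (.split 6 (-65) (.split 1 (-92) (.split 4 (-65) (.split 5 76 (.lin 4) (.split 7 79 (.lin 9)
    (.split 1 (-191) .sq (.split 5 167 (.split 6 (-164) (.lin 7) (.splitN 58665 (.split 4 (-171)
    .sq (.split 3 (-25) .cand (.wt 2))) (.wt 1))) (.lin 4))))) (.lin 3)) (.lin 11)) (.wt 2)) (.wt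
    1)) .sq))) (.lin 4))) (.wt 1))) (.lin 4)) (.lin 2))))) (.lin 11)) (.lin 3)) (.wt 2))) (.wt
    1)))) (.lin 11)) (.lin 3)) (.wt 2))) (.div 5)) (.lin 1))) (.wt 1)))) (.lin 11)) (.lin 3))
    (.wt 2)) (.div 5)) (.wt 1))) (.lin 11)) (.wt 2))) (.div 5)) (.lin 12))) (.lin 1))) (.lin 4)))
    (.wt 1))))

def cert5_39_1 : Cert :=
  (.split 3 (-65) (.split 7 214 (.lin 6) (.split 0 195 (.lin 7) (.split 2 (-80) (.split 1 (-200)
    (.splitN 154187 .sq (.splitN 2218329 (.split 1 (-24633) (.div 1) (.split 6 (-24590) (.lin 0)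
    (.split 0 24703 (.split 7 24776 (.split 6 (-921) (.wt 2) (.split 0 1033 (.split 7 1106
    (.split 4 (-47) (.wt 0) (.split 7 1043 (.split 2 (-126) (.lin 10) (.split 6 (-503) (.wt 2)
    (.split 0 601 (.split 7 620 (.split 6 (-377) (.wt 2) (.split 0 475 (.split 7 494 (.split 4
    (-38) (.wt 0) (.split 2 (-117) (.lin 10) (.split 6 (-325) (.wt 2) (.split 0 412 (.split 7 431
    (.split 6 (-296) (.wt 2) (.split 7 404 (.split 4 (-25) (.split 2 (-89) (.split 3 (-85) (.wt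
    0) (.split 2 (-108) (.lin 10) (.split 6 (-219) (.wt 0) (.split 0 295 (.split 7 323 (.split 3
    (-73) (.wt 0) (.split 7 305 (.split 0 277 (.wt 2) (.lin 7)) (.lin 6))) (.lin 6)) (.lin 3)))))
    (.lin 10)) (.split 2 (-108) (.lin 10) (.split 6 (-213) (.split 1 (-281) (.split 0 276 (.lin
    3) (.split 7 295 (.lin 6) (.splitN 301445 .sq (.split 3 (-70) (.wt 0) (.split 7 368 (.split 0
    349 (.wt 3) (.lin 7)) (.lin 6)))))) (.lin 0)) (.split 1 (-300) (.lin 0) (.split 0 295 (.split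
    7 314 (.split 6 (-172) (.split 1 (-236) (.split 0 231 (.lin 3) (.split 7 250 (.lin 6) (.split
    3 (-77) (.wt 2) (.split 7 296 (.split 0 277 (.split 2 (-90) (.lin 10) (.split 3 (-70) (.split
    2 (-89) (.splitN 252876 (.splitN 240903 (.wt 6) (.split 0 249 (.wt 0) (.split 7 268 (.lin 1)
    (.split 1 (-254) (.split 0 261 (.wt 0) (.split 7 286 (.lin 1) (.split 1 (-272) (.split 6
    (-199) .sq (.lin 0)) (.lin 2)))) (.lin 2))))) (.wt 0)) (.lin 10)) (.splitN 266180 (.split 6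
    (-183) (.split 1 (-254) (.split 0 249 (.lin 3) (.split 7 268 (.lin 1) (.splitN 246527 .sq
    .cand))) (.lin 0)) (.wt 2)) (.wt 1)))) (.lin 7)) (.lin 6))))) (.lin 0)) (.split 1 (-255)
    (.lin 0) (.split 0 250 (.split 7 269 (.splitN 268650 (.split 3 (-90) (.wt 2) (.split 2 (-99)
    (.lin 10) (.split 3 (-74) (.split 2 (-89) (.split 6 (-150) (.split 1 (-227) (.split 3 (-79)
    (.wt 2) (.split 7 251 (.split 6 (-158) (.wt 2) .cand) (.lin 6))) (.lin 0)) (.split 1 (-228)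
    (.lin 0) (.split 0 223 (.split 7 251 (.split 3 (-79) (.split 7 232 (.lin 6) (.split 1 (-218)
    (.splitN 212478 (.wt 1) (.split 6 (-143) (.wt 0) (.split 7 233 (.wt 0) (.lin 6)))) (.lin 8)))
    (.split 7 233 (.split 0 209 (.split 6 (-137) (.lin 3) (.split 1 (-210) (.lin 11) (.splitN
    216584 (.wt 0) (.wt 1)))) (.wt 2)) (.lin 6))) (.lin 1)) (.lin 3)))) (.lin 10)) (.wt 2))))
    (.wt 1)) (.lin 6)) (.lin 3)))) (.lin 6)) (.lin 3)))))) (.lin 6))) (.lin 6)) (.lin 3)))))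
    (.lin 6)) (.lin 3))) (.lin 6)) (.lin 3)))) (.lin 6))) (.lin 1)) (.lin 3))) (.lin 1)) (.lin
    3)))) (.wt 3))) (.lin 11)) (.lin 10)))) (.split 2 (-99) (.lin 10) (.splitN 2561409 (.split 1
    (-28449) (.div 1) (.split 6 (-28433) (.lin 0) (.split 0 28510 (.split 7 28574 (.splitN
    2391143 (.split 0 1516 (.split 7 1574 (.split 6 (-1478) (.lin 7) (.splitN 1099716 (.split 0
    1005 (.split 7 1061 (.split 6 (-992) (.lin 3) (.splitN 860655 (.split 0 877 (.split 7 935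
    (.split 6 (-866) (.lin 3) (.split 1 (-876) (.lin 4) (.splitN 787554 (.split 0 834 (.split 6
    (-821) (.lin 3) (.split 1 (-831) (.lin 4) (.split 7 872 (.split 4 (-34) (.split 7 205 (.lin
    6) (.split 2 (-71) (.splitN 127376 .sq (.splitN 284077 (.split 0 428 (.split 7 485 (.split 6
    (-398) (.lin 3) (.splitN 228206 (.split 0 358 (.split 7 422 (.split 6 (-335) (.lin 3)
    (.splitN 213433 (.split 7 355 (.split 6 (-281) (.lin 6) (.split 1 (-318) (.lin 8) (.splitN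
    195929 (.split 7 331 (.split 6 (-254) (.lin 6) (.split 0 286 (.split 3 (-47) (.split 0 177
    (.lin 7) (.split 2 (-80) (.split 6 (-194) (.wt 2) (.split 0 250 (.split 7 287 (.split 3 (-55)
    (.wt 2) (.split 0 232 (.split 6 (-173) (.wt 2) (.split 7 260 (.split 0 214 (.split 1 (-219)
    (.lin 11) (.splitN 146375 (.split 6 (-163) (.wt 2) (.split 7 242 (.split 4 (-44) (.wt 0)
    (.split 6 (-137) (.split 1 (-191) (.split 7 223 (.lin 2) .sq) (.lin 0)) (.wt 2))) (.lin 6)))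
    (.wt 3))) (.lin 7)) (.lin 6))) (.lin 7))) (.lin 6)) (.lin 3))) (.lin 10))) (.splitN 159336
    (.split 6 (-174) (.split 0 204 (.lin 3) (.split 7 241 (.lin 1) .sq)) (.wt 2)) (.wt 1))) (.lin
    12))) .sq) (.wt 1)))) .sq) (.wt 1))) (.lin 1)) .sq) (.wt 1))) (.lin 1)) .sq) (.wt 1))) (.lin
    10))) (.split 2 (-81) (.lin 10) (.split 6 (-334) (.split 1 (-362) (.split 0 357 (.lin 3)
    (.split 7 385 (.lin 6) (.splitN 524438 .sq (.wt 1)))) (.lin 0)) (.split 1 (-390) (.lin 0)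
    (.split 7 404 (.split 3 (-47) (.split 0 177 (.lin 7) (.split 2 (-62) (.split 6 (-231) (.split
    1 (-272) (.split 0 267 (.lin 3) (.split 7 295 (.lin 6) (.splitN 295127 .sq (.splitN 327447
    (.split 4 (-26) (.wt 0) (.split 2 (-72) (.lin 10) (.split 3 (-49) (.split 0 285 (.lin 7)
    (.split 2 (-71) (.split 1 (-290) (.splitN 317339 .sq (.wt 1)) (.lin 11)) (.lin 10))) (.wt
    0)))) (.wt 1))))) (.lin 0)) (.split 1 (-291) (.lin 0) (.split 7 305 (.splitN 286522 (.split 4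
    (-25) .cand (.split 0 244 (.split 6 (-200) (.lin 3) (.split 1 (-246) (.lin 4) (.splitN 228754
    (.split 3 (-51) (.split 7 205 (.lin 6) (.wt 2)) (.wt 0)) (.wt 6)))) (.wt 2))) (.wt 1)) (.lin
    6)))) (.lin 10))) (.splitN 189508 (.split 4 (-24) (.split 2 (-62) (.split 6 (-159) (.split 0
    195 (.lin 3) (.split 7 223 (.lin 1) (.wt 2))) (.wt 0)) (.lin 10)) (.wt 0)) (.wt 6))) (.lin
    6)))))) (.lin 8)))) .sq) (.wt 1)))) (.lin 1)) .sq) (.wt 1))) (.lin 1)) .sq) (.wt 1))) (.lin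
    1)) .sq) (.wt 1)) (.lin 1)) (.lin 3)))) (.wt 1))))

def cert5_39_2 : Cert :=
  (.split 3 (-61) (.split 7 142 (.lin 6) (.split 0 123 (.lin 7) (.split 2 (-80) (.split 1 (-128)
    (.splitN 85560 (.wt 1) (.split 6 (-96) (.split 0 132 (.lin 3) (.split 0 159 (.lin 7) (.split
    1 (-164) (.split 7 178 (.lin 6) (.splitN 105587 .sq (.split 4 (-41) (.wt 2) (.split 4 (-29)
    (.split 2 (-89) (.splitN 182014 (.split 3 (-82) (.wt 2) (.split 7 233 (.split 6 (-121) (.wt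
    2) (.split 0 187 (.split 4 (-38) (.wt 2) .cand) (.lin 7))) (.lin 6))) (.wt 0)) (.lin 10))
    (.split 7 224 (.split 2 (-99) (.lin 10) (.split 3 (-72) (.split 2 (-89) (.split 1 (-173)
    (.split 6 (-114) (.split 0 186 (.lin 3) (.split 7 196 (.lin 1) (.split 3 (-79) (.split 7 214
    (.lin 6) (.split 2 (-98) (.splitN 198579 (.wt 0) (.split 6 (-119) (.split 0 204 (.lin 3) (.wt
    2)) (.wt 1))) (.lin 10))) (.wt 2)))) (.wt 2)) (.lin 11)) (.lin 10)) (.wt 2))) (.lin 6))))))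
    (.lin 11)))) (.split 7 215 (.split 0 169 (.split 1 (-174) (.lin 11) (.split 4 (-21) (.split 7
    151 (.lin 6) (.split 2 (-89) (.split 6 (-78) (.split 7 169 (.lin 6) (.split 0 141 (.lin 7)
    (.split 1 (-146) (.splitN 102189 (.wt 1) (.split 4 (-38) (.splitN 129227 (.split 4 (-43)
    (.split 3 (-70) (.wt 2) (.split 7 197 (.split 0 151 (.split 2 (-108) (.lin 10) (.split 6
    (-91) (.wt 0) (.split 0 142 (.wt 2) (.lin 3)))) (.lin 7)) (.lin 6))) .cand) (.wt 1)) (.split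
    7 197 (.split 3 (-70) (.split 7 178 (.lin 6) (.split 0 150 (.lin 7) (.split 2 (-98) (.split 6
    (-84) (.split 1 (-164) (.split 3 (-76) (.split 7 196 (.lin 6) (.split 0 168 (.lin 7) (.splitN
    130821 (.wt 0) (.wt 0)))) (.wt 2)) (.lin 0)) (.wt 2)) (.lin 10)))) (.wt 2)) (.lin 6)))) (.lin
    11)))) (.split 7 197 (.split 1 (-156) (.lin 11) (.splitN 125930 (.split 3 (-66) (.split 7 160
    (.lin 6) (.split 0 132 (.lin 7) (.split 4 (-30) (.split 7 169 (.lin 6) (.split 2 (-107)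
    (.splitN 113531 (.split 6 (-67) (.split 7 178 (.lin 6) (.split 0 141 (.lin 7) (.split 3 (-75)
    (.split 0 150 (.lin 7) (.split 2 (-116) (.split 1 (-155) (.split 4 (-39) (.split 2 (-125)
    (.split 7 196 (.lin 1) .sq) (.lin 0)) (.wt 0)) (.lin 11)) (.lin 10))) (.wt 2)))) (.wt 2))
    (.wt 1)) (.lin 10))) (.wt 0)))) (.wt 2)) (.wt 1))) (.lin 6))) (.lin 10))) (.wt 2))) (.lin 7))
    (.lin 6)))) (.lin 11)) (.lin 10)))) (.split 7 224 (.split 0 178 (.split 2 (-99) (.lin 10)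
    (.split 1 (-183) (.lin 11) (.split 6 (-69) (.split 7 124 (.lin 6) (.split 0 105 (.lin 7)
    (.split 1 (-110) (.split 4 (-34) (.split 7 142 (.lin 6) (.split 2 (-71) (.splitN 150362
    (.split 6 (-75) (.split 7 151 (.lin 6) (.split 0 114 (.lin 7) (.split 3 (-47) (.split 7 160
    (.lin 6) (.split 0 123 (.lin 7) (.split 2 (-80) (.split 6 (-105) (.split 1 (-146) (.split 0
    150 (.lin 7) (.split 1 (-155) (.split 7 178 (.lin 1) (.split 3 (-52) (.split 7 196 (.lin 6)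
    (.split 0 159 (.lin 7) (.split 2 (-89) (.split 1 (-164) (.splitN 115712 .sq (.split 4 (-45)
    (.wt 0) (.split 2 (-90) (.lin 10) (.splitN 122253 (.wt 1) (.split 6 (-122) (.wt 0) (.split 0
    169 (.split 7 206 (.wt 2) (.lin 1)) (.lin 3))))))) (.lin 11)) (.lin 10)))) (.split 0 169
    (.split 2 (-90) (.lin 10) (.split 6 (-111) (.split 7 196 (.lin 6) (.split 0 159 (.lin 7)
    (.split 1 (-164) (.splitN 115307 .sq (.split 4 (-40) (.split 2 (-89) (.split 6 (-125) (.wt 2)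
    (.split 0 160 (.split 7 206 (.wt 1) (.lin 1)) (.lin 3))) (.lin 10)) (.wt 2))) (.lin 11))))
    (.wt 2))) (.lin 7)))) (.lin 11))) (.lin 0)) (.split 6 (-84) (.split 7 169 (.lin 6) (.split 3
    (-49) .cand (.wt 2))) (.wt 2))) (.lin 10)))) (.wt 2)))) (.wt 2)) (.wt 1)) (.lin 10))) (.split
    7 206 (.split 2 (-81) (.lin 10) (.split 3 (-42) (.split 7 133 (.lin 6) (.split 0 114 (.lin 7)
    (.split 2 (-62) (.split 6 (-95) (.split 0 141 (.lin 7) (.split 1 (-146) (.split 7 160 (.lin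
    6) (.splitN 194164 (.split 4 (-21) (.split 7 169 (.lin 6) (.split 2 (-71) (.splitN 152353
    (.split 3 (-51) (.split 7 178 (.lin 6) (.split 0 150 (.lin 7) (.split 2 (-80) (.split 6
    (-102) (.split 0 159 (.lin 3) (.split 6 (-120) (.split 0 177 (.lin 3) (.split 7 205 (.lin 1)
    (.wt 0))) (.wt 2))) (.wt 0)) (.lin 10)))) (.wt 2)) (.wt 1)) (.lin 10))) (.wt 0)) (.wt 1)))
    (.lin 11))) (.wt 2)) (.lin 10)))) (.wt 2))) (.lin 6))) (.lin 11)))) (.wt 2)))) (.lin 7))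
    (.lin 6)))

def cert5_39_3 : Cert :=
  (.split 3 (-86) (.split 7 169 (.lin 6) (.split 0 150 (.lin 7) (.split 2 (-107) (.split 1 (-155)
    (.split 4 (-49) (.split 7 205 (.lin 6) (.split 2 (-143) (.splitN 125432 .sq (.splitN 128278
    (.split 0 153 (.wt 0) (.split 1 (-164) .sq (.lin 4))) (.wt 3))) (.lin 10))) (.split 7 359
    (.split 2 (-234) (.lin 10) (.split 6 (-96) (.split 0 186 (.lin 7) (.split 1 (-191) (.split 7
    205 (.lin 6) (.splitN 144224 .sq (.split 4 (-33) (.wt 0) (.split 7 341 (.split 4 (-25)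
    (.split 3 (-114) (.wt 0) (.split 7 260 (.split 0 232 (.wt 0) (.lin 7)) (.lin 6))) (.split 3
    (-142) (.split 7 259 (.lin 6) (.split 0 240 (.lin 7) (.split 1 (-245) (.split 2 (-134)
    (.split 2 (-161) (.splitN 243368 .sq (.wt 3)) (.lin 10)) (.lin 9)) (.lin 8)))) (.split 7 278
    (.split 0 259 (.split 1 (-264) (.lin 8) (.split 2 (-153) (.lin 10) (.split 6 (-114) (.split 1
    (-209) (.split 0 204 (.lin 3) (.split 7 223 (.lin 6) (.split 3 (-111) (.wt 2) (.split 7 251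
    (.split 0 232 (.split 1 (-237) (.lin 8) (.split 2 (-126) (.lin 10) (.split 3 (-103) (.wt 2)
    (.split 2 (-117) (.lin 10) (.split 6 (-123) (.splitN 203866 (.wt 1) (.split 3 (-99) (.wt 0)
    (.split 7 233 (.split 0 214 (.wt 0) (.lin 7)) (.lin 6)))) (.split 1 (-219) (.lin 0) (.split 0
    214 (.split 7 233 (.split 3 (-93) (.splitN 202452 (.wt 1) (.wt 0)) (.wt 2)) (.lin 6)) (.lin
    3)))))))) (.lin 7)) (.lin 6))))) (.lin 0)) (.split 0 241 (.split 7 260 (.split 3 (-96)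
    (.split 2 (-116) (.split 3 (-119) (.split 7 232 (.lin 6) (.split 0 213 (.lin 7) (.split 1
    (-218) (.split 2 (-134) (.splitN 190151 .sq (.split 6 (-105) (.splitN 208012 (.splitN 202967
    (.wt 6) (.split 0 229 (.wt 0) (.split 2 (-143) (.split 3 (-128) (.split 7 250 (.lin 6) .sq)
    (.lin 7)) (.lin 3)))) (.wt 0)) (.splitN 202281 (.split 3 (-126) (.split 2 (-143) (.split 0
    229 (.split 2 (-144) (.lin 3) (.split 1 (-228) (.lin 0) (.split 7 242 (.split 3 (-129) (.lin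
    6) (.wt 6)) (.lin 1)))) .sq) (.lin 10)) (.wt 2)) (.wt 1)))) (.lin 10)) (.lin 8)))) (.split 7
    233 (.split 0 214 (.split 6 (-101) (.split 1 (-209) (.split 0 204 (.lin 3) (.split 7 223
    (.lin 6) (.split 3 (-105) (.wt 2) (.wt 2)))) (.lin 0)) (.wt 2)) (.lin 7)) (.lin 6))) (.lin
    10)) (.wt 2)) (.lin 6)) (.lin 3))))) (.lin 7)) (.lin 6)))) (.lin 6))))) (.lin 11))) (.split 7
    323 (.split 0 277 (.split 1 (-282) (.lin 11) (.split 4 (-34) (.split 7 187 (.lin 6) (.split 2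
    (-125) (.splitN 111824 .sq (.split 6 (-90) (.wt 2) (.splitN 145836 (.split 7 258 (.split 3
    (-156) (.lin 6) (.split 0 214 (.splitN 135453 (.split 7 238 (.split 3 (-138) (.lin 6) (.split
    6 (-80) (.wt 2) (.splitN 122818 (.split 0 177 (.split 1 (-174) (.lin 4) (.split 3 (-111)
    (.lin 7) (.split 7 215 (.split 4 (-43) (.wt 1) (.split 6 (-69) (.split 1 (-164) (.split 0 159
    (.lin 3) (.splitN 118727 .sq (.wt 0))) (.lin 0)) (.wt 1))) (.lin 8)))) .sq) (.wt 1)))) .sq)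
    (.wt 1)) (.lin 12))) .sq) (.wt 1)))) (.lin 10))) (.split 7 305 (.split 6 (-78) (.split 0 159
    (.lin 3) (.split 0 168 (.lin 7) (.split 1 (-173) (.split 7 187 (.lin 6) (.splitN 120896 .sq
    (.split 4 (-25) (.splitN 190942 .cand (.wt 0)) (.split 3 (-119) (.split 7 214 (.lin 6)
    (.split 0 195 (.lin 7) (.split 3 (-141) (.split 7 241 (.lin 6) (.split 0 222 (.lin 7) (.split
    1 (-227) (.split 2 (-152) (.splitN 214208 .sq (.wt 1)) (.lin 9)) (.lin 8)))) (.wt 2)))) (.wt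
    2))))) (.lin 11)))) (.split 7 287 (.split 1 (-264) (.lin 11) (.split 3 (-103) (.split 7 187
    (.lin 6) (.split 0 168 (.lin 7) (.split 2 (-125) (.split 3 (-116) (.split 0 177 (.lin 7)
    (.split 2 (-134) (.split 3 (-120) (.split 7 205 (.lin 6) (.split 2 (-143) (.split 1 (-191)
    (.splitN 151955 .sq (.splitN 175124 (.split 4 (-25) (.wt 1) (.wt 0)) (.wt 1))) (.lin 11))
    (.lin 10))) (.wt 2)) (.lin 10))) (.wt 2)) (.lin 10)))) (.wt 2))) (.lin 6))) (.lin 6)))) (.lin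
    7)) (.lin 6)))) (.lin 6))) (.lin 11)) (.lin 10)))) (.split 7 323 (.split 0 205 (.split 2
    (-198) (.lin 10) (.split 1 (-210) (.lin 11) (.split 4 (-49) (.split 7 151 (.lin 6) (.split 2
    (-89) (.splitN 165350 (.split 3 (-61) (.split 7 178 (.lin 6) (.split 0 123 (.lin 7) (.split 2
    (-116) (.split 1 (-128) (.split 6 (-95) (.wt 2) (.split 7 287 (.split 0 169 (.split 1 (-174)
    (.lin 11) (.split 6 (-89) (.wt 2) (.split 0 160 (.split 1 (-165) (.lin 11) (.splitN 121470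
    (.split 7 252 (.split 6 (-73) (.split 0 132 (.lin 7) (.split 2 (-180) (.lin 9) (.split 1
    (-137) (.splitN 116846 (.split 3 (-82) (.wt 2) (.split 0 151 (.split 7 226 (.splitN 110413
    (.split 6 (-82) (.wt 2) (.split 0 142 (.split 7 212 (.splitN 103801 (.split 3 (-74) (.wt 2)
    (.split 1 (-138) (.lin 11) (.split 4 (-57) (.split 2 (-125) (.split 7 196 (.lin 1) .sq) (.lin
    0)) (.wt 0)))) (.wt 1)) .sq) (.lin 7))) (.wt 3)) .sq) (.lin 7))) (.wt 1)) (.lin 11))))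
    (.split 0 142 (.split 1 (-147) (.lin 11) (.split 3 (-66) (.split 0 132 (.lin 7) (.split 1
    (-137) (.splitN 96857 .sq (.split 4 (-78) (.wt 1) (.split 2 (-153) (.lin 0) (.split 7 224
    (.split 4 (-66) (.wt 1) (.wt 6)) (.lin 1))))) (.lin 11))) (.wt 2))) (.lin 7))) .sq) (.wt 1)))
    (.lin 7)))) (.lin 7)) (.lin 6))) (.lin 11)) (.lin 10)))) (.split 7 296 (.split 0 178 (.split
    2 (-171) (.lin 10) (.split 6 (-96) (.split 7 187 (.lin 6) (.split 0 132 (.lin 7) (.split 1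
    (-137) (.splitN 136061 (.split 7 273 (.split 3 (-47) (.split 1 (-146) (.split 3 (-56) (.wt 2)
    .cand) (.lin 11)) (.split 1 (-165) (.lin 11) (.split 4 (-76) (.split 7 214 (.lin 6) (.split 2
    (-116) (.splitN 114497 .sq (.wt 1)) (.lin 10))) (.wt 2)))) .sq) (.wt 1)) (.lin 11)))) (.split
    7 260 (.split 0 142 (.split 1 (-147) (.lin 11) (.split 6 (-78) (.split 7 169 (.lin 6) (.split
    0 114 (.lin 7) (.split 1 (-119) (.split 3 (-42) (.split 7 178 (.lin 6) (.split 0 123 (.lin 7)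
    (.split 2 (-98) (.split 1 (-128) (.splitN 116659 (.split 7 246 (.split 4 (-88) (.split 2
    (-125) (.split 2 (-134) (.split 7 205 (.lin 1) (.splitN 109574 .sq (.wt 1))) (.lin 10)) (.lin
    0)) (.split 7 224 (.split 3 (-52) (.split 0 132 (.lin 7) (.split 1 (-137) (.split 6 (-91)
    (.wt 2) (.split 1 (-138) (.lin 11) (.split 4 (-63) (.split 2 (-116) (.split 7 196 (.lin 1)
    (.splitN 102833 .sq (.wt 1))) (.lin 0)) (.wt 2)))) (.lin 11))) (.splitN 101876 (.split 4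
    (-68) (.split 2 (-116) (.split 7 196 (.lin 1) (.split 4 (-77) (.split 2 (-125) .sq (.lin 10))
    (.wt 0))) (.lin 10)) (.wt 0)) (.wt 6))) (.lin 6))) .sq) (.wt 1)) (.lin 11)) (.lin 10)))) (.wt
    2)) (.lin 11)))) (.split 1 (-129) (.lin 11) (.split 3 (-47) (.split 7 160 (.lin 6) (.split 3
    (-50) (.split 7 169 (.lin 6) (.split 0 114 (.lin 7) (.split 1 (-119) (.splitN 100108 (.split
    4 (-68) (.split 2 (-116) (.split 2 (-125) (.split 7 187 (.lin 1) (.split 4 (-77) (.split 2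
    (-134) (.splitN 94832 .sq (.wt 6)) (.lin 10)) (.wt 0))) (.lin 10)) (.lin 0)) (.wt 0)) (.wt
    6)) (.lin 11)))) (.wt 2))) (.wt 2))))) (.lin 7)) (.lin 6)))) (.lin 7)) (.lin 6))) (.wt 1))
    (.lin 10))) (.split 7 251 (.split 2 (-126) (.lin 10) cert5_39_2) (.lin 6))))) (.lin 7)) (.lin
    6)))

def cert5_39_4 : Cert :=
  (.split 6 (-136) (.split 7 187 (.lin 6) (.split 0 168 (.lin 7) (.split 1 (-173) (.splitN 117008
    .sq (.split 3 (-235) (.wt 2) (.split 4 (-48) (.split 7 223 (.lin 6) (.split 2 (-89) (.splitN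
    139688 .sq (.splitN 552086 (.split 1 (-6129) (.div 1) (.split 0 6118 (.split 2 (-3065) (.div
    2) (.split 7 9143 (.splitN 233181 (.split 1 (-2565) (.div 1) (.split 0 2554 (.split 2 (-1283)
    (.div 2) (.split 7 3797 (.split 4 (-1245) (.lin 10) (.split 3 (-67) (.wt 2) (.split 6 (-1251)
    (.wt 2) (.split 7 2546 (.split 0 1303 (.splitN 218720 (.split 2 (-1211) (.div 2) (.split 4
    (-1173) (.lin 10) (.split 3 (-65) (.wt 2) (.split 6 (-935) (.wt 2) (.split 7 2150 (.split 0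
    979 (.split 6 (-802) (.wt 2) (.split 7 2015 (.split 0 844 (.split 6 (-738) (.wt 2) (.split 0
    781 (.split 4 (-219) (.wt 3) (.split 2 (-270) (.lin 10) (.split 7 1016 (.split 6 (-616) (.wt
    2) (.split 7 881 (.split 0 664 (.split 6 (-551) (.wt 2) (.split 7 818 (.split 0 601 (.split 6
    (-515) (.wt 2) (.split 0 565 (.split 4 (-132) (.wt 3) (.split 7 692 (.split 2 (-180) (.lin
    10) (.splitN 184408 (.split 6 (-475) (.wt 2) (.split 7 647 (.split 0 520 (.split 6 (-448)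
    (.wt 2) (.split 0 493 (.split 4 (-112) (.wt 3) (.split 7 602 (.split 3 (-56) (.wt 3) (.split
    7 244 (.wt 3) (.splitN 152513 .sq (.split 6 (-173) (.split 7 268 (.lin 6) (.split 1 (-218)
    .sq (.lin 11))) (.wt 1))))) (.lin 6))) (.lin 7))) (.lin 7)) (.lin 6))) (.wt 3))) (.lin 6)))
    (.lin 7))) (.lin 7)) (.lin 6))) (.lin 7)) (.lin 6))) (.lin 1)))) (.lin 7))) (.lin 7)) (.lin
    6))) (.lin 7)) (.lin 6)))))) (.wt 3)) (.lin 7)) (.lin 6))))) (.lin 1))) (.lin 4))) (.wt 3))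
    (.lin 1))) (.lin 4))) (.wt 0))) (.lin 10))) (.split 2 (-270) (.lin 10) (.split 3 (-93)
    (.split 7 250 (.lin 6) (.split 0 231 (.lin 7) (.split 2 (-116) (.split 1 (-236) (.splitN
    215099 .sq (.splitN 1589715 (.split 1 (-17649) (.div 1) (.split 6 (-17570) (.lin 0) (.split 0
    17818 (.split 7 17990 (.splitN 1441794 (.split 1 (-15993) (.div 1) (.split 6 (-15914) (.lin
    0) (.split 0 16162 (.split 7 16334 (.splitN 586375 (.split 1 (-6489) (.div 1) (.split 6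
    (-6410) (.lin 0) (.split 0 6658 (.split 7 6830 (.split 4 (-29) (.wt 0) (.split 3 (-198) (.wt
    2) (.split 2 (-207) (.lin 10) (.split 6 (-222) (.wt 2) (.split 0 403 (.split 7 422 (.split 3
    (-146) (.wt 0) (.split 7 368 (.split 0 349 (.split 3 (-127) (.wt 0) (.split 0 331 (.split 2
    (-135) (.lin 10) (.splitN 234256 (.wt 6) (.split 0 258 (.wt 0) (.split 6 (-145) (.split 1
    (-263) (.split 7 277 (.lin 8) (.splitN 258641 .sq (.wt 0))) (.lin 4)) (.lin 3))))) (.lin 7)))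
    (.lin 7)) (.lin 6))) (.lin 6)) (.lin 3)))))) (.lin 1)) (.lin 3)))) (.wt 3)) (.lin 1)) (.lin
    3)))) (.wt 0)) (.lin 1)) (.lin 3)))) (.wt 0))) (.lin 11)) (.lin 10)))) (.split 2 (-135) (.lin
    10) cert5_39_1)))))) (.lin 11)))) (.splitN 2841215 (.split 2 (-15773) (.div 2) (.split 0
    15874 (.split 3 (-15816) (.lin 7) (.split 7 15893 (.splitN 2586236 (.split 2 (-14351) (.div
    2) (.split 7 14471 (.split 0 1597 (.split 3 (-1533) (.lin 7) (.splitN 2200873 (.split 0 1472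
    (.split 3 (-1407) (.lin 7) (.split 2 (-1471) .sq (.split 7 1592 (.splitN 1413832 (.split 0
    1175 (.split 3 (-1110) (.lin 7) (.split 2 (-1173) .sq (.split 7 1295 (.splitN 1262911 (.split
    0 1108 (.split 3 (-1047) (.lin 7) (.split 2 (-1106) .sq (.split 7 1223 (.split 7 1110 (.split
    3 (-200) (.split 0 258 (.lin 7) (.split 2 (-215) (.split 1 (-263) (.split 7 277 (.lin 6)
    (.splitN 304280 .sq (.split 4 (-29) (.wt 0) (.split 6 (-121) (.wt 0) (.split 6 (-97) (.split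
    1 (-299) (.split 0 294 (.lin 3) (.split 7 313 (.lin 6) (.splitN 371672 .sq (.wt 1)))) (.lin
    0)) (.wt 1)))))) (.lin 11)) (.lin 10))) (.split 0 313 (.split 1 (-318) (.lin 11) (.splitN
    753163 (.split 2 (-845) .sq (.split 7 850 (.split 2 (-783) (.lin 9) (.split 4 (-123) (.split
    2 (-98) (.split 2 (-161) (.split 7 223 (.lin 6) (.splitN 117656 .sq (.split 3 (-118) (.wt 0)
    (.split 0 232 (.split 3 (-105) (.wt 0) (.split 6 (-69) (.split 0 105 (.lin 7) (.split 3 (-80)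
    (.wt 0) (.split 0 196 (.split 6 (-77) (.split 7 241 (.lin 6) (.split 1 (-119) (.splitN 136448
    .sq (.split 3 (-55) (.wt 0) (.wt 1))) (.lin 11))) (.wt 1)) (.lin 7)))) (.wt 1))) (.lin 7)))))
    (.lin 10)) (.lin 0)) (.split 2 (-369) (.lin 0) (.split 7 431 cert5_39_3 (.lin 6))))) .sq))
    (.wt 1))) (.lin 7))) .sq) (.lin 9)))) .sq) (.wt 1)) (.lin 9)))) .sq) (.wt 1)) (.lin 9))))
    .sq) (.wt 1))) .sq) (.lin 9))) (.wt 1)) (.lin 9))) (.lin 3))) (.wt 1)))

def cert5_39_5 : Cert :=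
  (.split 5 18 (.split 0 87 (.lin 4) (.split 2 (-44) (.split 7 106 (.lin 6) (.split 5 9 (.split 0
    96 (.lin 4) (.split 2 (-53) (.split 7 115 (.lin 6) cert5_39_4) (.lin 10))) (.splitN 114796
    (.split 1 (-1269) (.div 1) (.split 0 1249 (.split 3 (-1200) (.lin 7) (.split 6 (-1226) (.lin
    7) (.split 2 (-635) (.div 2) (.split 7 1853 (.split 3 (-624) (.lin 10) (.split 4 (-606) (.lin
    10) (.splitN 106226 (.split 2 (-581) (.div 2) (.split 3 (-51) (.split 7 124 (.lin 6) (.split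
    0 105 (.lin 7) (.split 2 (-62) (.split 1 (-119) (.splitN 100366 (.split 1 (-1089) (.div 1)
    (.split 7 1601 (.split 0 1069 (.split 6 (-1028) (.lin 7) (.split 2 (-545) (.div 2) (.split 3
    (-534) (.lin 10) (.split 4 (-498) (.lin 10) (.split 3 (-61) (.split 7 133 (.lin 6) (.split 0
    114 (.lin 7) (.split 2 (-71) (.split 3 (-66) (.split 7 142 (.lin 6) (.split 0 123 (.lin 7)
    (.split 2 (-80) (.split 1 (-137) (.splitN 71162 .sq (.split 4 (-101) (.wt 1) (.split 7 1160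
    (.split 6 (-93) (.split 7 178 (.lin 6) (.split 1 (-173) .sq (.lin 11))) (.wt 1)) (.lin 8))))
    (.lin 11)) (.lin 10)))) (.wt 2)) (.lin 10)))) (.wt 2)))))) (.lin 4)) (.lin 2))) (.wt 1))
    (.lin 11)) (.lin 10)))) (.wt 2))) (.wt 1)))) (.lin 1))))) (.lin 4))) (.wt 1)))) (.lin 10)))
    (.splitN 173472 (.split 1 (-1917) (.div 1) (.split 5 1886 (.split 3 (-1848) (.lin 11) (.split
    6 (-1874) (.lin 11) (.split 2 (-959) (.div 2) (.split 4 (-4611) (.lin 0) (.split 7 2825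
    (.splitN 162110 (.split 2 (-887) (.div 2) (.split 1 (-384) .sq (.split 7 1223 (.split 3
    (-318) (.lin 11) (.split 6 (-344) (.lin 11) (.splitN 133312 (.split 1 (-344) .sq (.split 3
    (-273) (.lin 11) (.split 6 (-299) (.lin 11) (.split 4 (-330) .sq (.split 7 336 (.splitN
    115186 (.split 1 (-320) .sq (.split 3 (-255) (.lin 11) (.split 6 (-281) (.lin 11) (.split 7
    311 (.split 4 (-282) (.lin 12) (.split 0 79 (.split 0 44 (.split 4 (-29) (.split 5 58 (.lin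
    4) (.splitN 79291 (.split 1 (-251) .sq (.split 5 221 (.split 3 (-201) (.lin 7) (.split 6
    (-209) (.lin 11) (.split 4 (-232) .sq (.split 7 269 (.splitN 74554 (.split 4 (-217) .sq
    (.split 7 226 (.split 3 (-84) (.split 5 112 (.lin 7) (.split 1 (-155) (.split 6 (-155) (.lin
    11) (.splitN 55925 .sq (.split 0 38 (.split 4 (-38) (.split 5 121 (.lin 4) (.splitN 61984
    (.split 0 30 (.split 5 130 (.lin 4) .sq) (.wt 1)) (.wt 1))) (.lin 3)) (.wt 1)))) (.lin 11)))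
    (.split 6 (-116) (.split 1 (-155) (.split 4 (-83) (.split 5 112 (.lin 4) (.split 7 124 (.lin
    9) .sq)) (.lin 3)) (.lin 11)) (.split 1 (-192) (.lin 11) (.split 0 34 (.split 5 67 (.lin 4)
    (.split 0 33 (.split 4 (-47) (.split 3 (-45) (.split 5 85 (.lin 7) (.split 1 (-110) (.split 6
    (-67) (.split 4 (-56) (.split 1 (-119) (.split 5 94 (.lin 4) (.split 7 79 (.lin 9) (.split 3
    (-49) (.split 5 103 (.lin 7) (.split 1 (-128) (.splitN 45890 .sq (.split 7 81 (.wt 1) (.split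
    4 (-65) (.splitN 48500 .sq (.split 2 (-23) (.wt 1) (.split 7 125 (.splitN 49803 (.split 2
    (-9) (.wt 1) (.split 5 112 (.lin 1) (.split 6 (-82) .sq (.lin 3)))) (.wt 1)) (.lin 9))))
    (.lin 12)))) (.lin 11))) (.wt 2)))) (.lin 11)) (.lin 3)) (.wt 2)) (.lin 11))) (.wt 2)) (.lin
    3)) (.wt 2))) (.wt 2))))) .sq)) (.wt 1)) (.lin 12))))) (.lin 4))) (.wt 1))) (.lin 3)) (.split
    3 (-52) (.split 5 40 (.lin 7) (.split 1 (-119) (.split 6 (-263) (.lin 11) (.split 3 (-71)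
    (.split 5 58 (.lin 7) (.split 1 (-137) (.split 6 (-245) (.lin 11) (.split 3 (-85) (.split 5
    76 (.lin 7) (.split 1 (-155) (.split 6 (-227) (.lin 11) (.splitN 50723 .sq (.split 7 72 (.wt
    1) (.splitN 61022 (.split 4 (-21) (.split 6 (-74) (.split 5 94 (.lin 7) (.split 1 (-173)
    (.split 7 88 (.lin 9) .sq) (.lin 11))) (.wt 1)) (.wt 0)) (.wt 6))))) (.lin 11))) (.wt 2)))
    (.lin 11))) (.wt 2))) (.lin 11))) (.wt 2))) (.split 4 (-219) (.lin 12) (.split 7 106 (.lin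
    12) (.splitN 68693 (.split 4 (-27) (.split 7 115 (.lin 12) (.split 0 125 (.split 3 (-136)
    (.split 5 76 (.lin 7) (.split 1 (-200) .sq (.lin 11))) (.wt 2)) (.wt 2))) (.wt 0)) (.wt
    6)))))) .sq)))) (.wt 1)) .sq))))) (.wt 1)))) (.lin 2)))) (.wt 1)) (.lin 2)))))) (.lin 4)))
    (.wt 1)))

def cert5_39_6 : Cert :=
  (.split 5 18 (.split 2 (-17) (.split 0 51 (.lin 4) (.split 2 (-44) (.split 7 70 (.lin 6)
    (.splitN 410542 (.split 1 (-4545) (.div 1) (.split 2 (-2273) (.div 2) (.split 1 (-2316) (.lin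
    0) (.split 0 2302 (.split 3 (-2289) (.lin 7) (.split 7 2321 (.splitN 373982 (.split 2 (-2075)
    (.div 2) (.split 7 2123 (.split 0 599 (.split 1 (-606) (.lin 4) (.split 3 (-579) (.lin 7)
    (.splitN 352836 (.split 2 (-1949) (.div 2) (.split 7 1997 (.split 5 13 (.split 0 60 (.lin 4)
    (.split 2 (-53) (.split 7 79 (.lin 6) (.splitN 308154 (.split 2 (-1697) (.div 2) (.split 7
    1745 (.split 6 (-29) (.split 7 88 (.lin 6) (.split 0 69 (.lin 7) (.split 1 (-74) (.splitN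
    272157 (.split 2 (-1499) (.div 2) (.split 7 1547 (.split 3 (-40) (.split 7 97 (.lin 6)
    (.split 0 78 (.lin 7) (.split 2 (-62) (.split 1 (-83) (.splitN 245358 (.split 0 468 (.split 1
    (-471) (.lin 4) (.split 3 (-435) (.lin 7) (.split 2 (-466) .sq (.split 7 512 (.splitN 212085
    (.split 0 432 (.split 3 (-399) (.lin 7) (.split 7 436 (.split 4 (-354) (.lin 6) (.split 4
    (-85) (.split 3 (-309) (.lin 6) (.split 2 (-134) (.split 7 169 (.lin 6) (.split 3 (-53)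
    (.split 7 178 (.lin 6) (.split 0 87 (.lin 7) (.split 2 (-143) (.split 3 (-58) (.split 0 96
    (.lin 7) (.split 2 (-152) (.split 1 (-101) (.splitN 88838 .sq (.split 6 (-42) (.split 7 196
    (.lin 6) (.split 1 (-110) (.splitN 100079 .sq (.split 0 267 (.split 3 (-219) (.lin 7) (.split
    0 196 (.split 3 (-156) (.lin 7) (.split 0 143 (.split 3 (-102) (.lin 7) (.wt 1)) (.wt 1)))
    (.wt 1))) (.wt 1))) (.lin 11))) (.wt 1))) (.lin 11)) (.lin 10))) (.wt 2)) (.lin 10)))) (.wt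
    2))) (.lin 10))) (.split 3 (-53) (.split 7 106 (.lin 6) (.split 0 87 (.lin 7) (.split 2 (-71)
    (.split 3 (-59) (.split 7 115 (.lin 6) (.split 0 96 (.lin 7) (.split 6 (-38) (.split 3 (-372)
    (.lin 6) (.split 7 124 (.lin 6) (.split 3 (-71) (.split 7 133 (.lin 6) (.split 0 114 (.lin 7)
    (.split 2 (-89) (.split 3 (-77) (.split 7 142 (.lin 6) (.split 0 123 (.lin 7) (.split 1
    (-128) (.split 4 (-24) (.split 7 151 (.lin 6) (.split 2 (-107) (.splitN 136652 (.split 3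
    (-86) (.split 7 160 (.lin 6) (.split 2 (-116) (.split 1 (-137) (.splitN 87281 .sq (.split 3
    (-100) (.split 7 169 (.lin 6) (.split 0 141 (.lin 7) (.split 2 (-125) (.split 1 (-146)
    (.splitN 99188 .sq (.split 3 (-120) (.split 7 196 (.lin 6) (.split 0 168 (.lin 7) (.split 2
    (-143) (.split 1 (-173) .sq (.lin 11)) (.lin 9)))) (.wt 6))) (.lin 11)) (.lin 10)))) (.wt
    6))) (.lin 11)) (.lin 10))) (.wt 2)) (.wt 1)) (.lin 10))) (.wt 2)) (.lin 11)))) (.wt 2))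
    (.lin 10)))) (.wt 2)))) (.wt 2)))) (.wt 2)) (.lin 10)))) (.wt 2)))) .sq)) .sq) (.wt 1)) (.lin
    9))))) .sq) (.wt 1)) (.lin 11)) (.lin 10)))) (.wt 2)) (.lin 9))) (.wt 1)) (.lin 11)))) (.wt
    2)) (.lin 9))) (.wt 1))) (.lin 10))) (.wt 2)) (.lin 9))) (.wt 1)))) .sq) (.lin 9))) (.wt 1))
    (.lin 9))) (.lin 3))))) (.wt 1))) (.lin 10))) (.lin 0)) (.splitN 85511 (.split 1 (-945) (.div
    1) (.split 3 (-912) (.lin 11) (.split 2 (-473) (.div 2) (.split 4 (-498) (.lin 3) (.split 7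
    521 (.splitN 78978 (.split 2 (-437) (.div 2) (.split 4 (-462) (.lin 3) (.split 7 485 (.split
    5 436 (.split 0 51 (.split 3 (-444) (.lin 7) (.split 3 (-46) (.split 5 31 (.lin 7) (.split 1
    (-74) (.splitN 70944 (.split 2 (-383) (.div 2) (.split 7 431 (.split 5 382 (.split 3 (-390)
    (.lin 7) (.split 0 41 (.split 5 40 (.lin 4) (.split 3 (-59) (.split 5 58 (.lin 7) (.splitN
    63539 (.split 2 (-347) (.div 2) (.split 4 (-372) (.lin 3) (.split 7 395 (.split 5 346 (.split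
    1 (-372) (.lin 4) (.split 3 (-67) (.split 5 67 (.lin 7) (.split 1 (-101) (.split 4 (-26)
    (.split 7 52 (.lin 12) (.splitN 57019 (.split 2 (-311) (.div 2) (.split 4 (-336) (.lin 3)
    (.split 5 310 (.split 1 (-336) (.lin 4) (.split 3 (-309) (.lin 7) (.split 0 31 (.split 5 76
    (.lin 4) (.splitN 53833 (.split 2 (-293) (.div 2) (.split 4 (-318) (.lin 3) (.split 5 292
    (.split 3 (-282) (.lin 7) (.splitN 52273 (.split 2 (-275) (.div 2) (.split 4 (-300) (.lin 3)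
    (.split 5 274 (.split 1 (-291) (.lin 4) (.split 3 (-264) (.lin 7) (.split 3 (-92) (.split 5
    94 (.lin 7) (.splitN 48711 (.split 2 (-257) (.div 2) (.split 4 (-282) (.lin 3) (.split 5 256
    (.split 1 (-273) (.lin 4) (.split 3 (-246) (.lin 7) (.split 7 264 (.split 4 (-237) (.lin 12)
    (.split 7 250 (.split 4 (-219) (.lin 12) (.split 3 (-102) (.split 5 112 (.lin 7) (.split 1
    (-137) .sq (.lin 11))) (.wt 2))) (.wt 0))) (.wt 0)))) (.div 5)))) (.wt 6))) (.wt 2)))) (.div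
    5)))) (.wt 6))) (.div 5)))) (.wt 6))) (.wt 2)))) (.div 5)))) (.wt 1))) (.wt 2)) (.lin 11)))
    (.wt 2))) (.div 5)) (.lin 9)))) (.wt 1))) (.wt 2))) (.wt 2))) (.div 5)) (.lin 9))) (.wt 1))
    (.lin 11))) (.wt 2))) (.wt 2)) (.div 5)) (.lin 9)))) (.wt 1)) (.lin 9)))))) (.wt 1)))

def cert5_39_7 : Cert :=
  (.split 6 (-28) (.split 7 34 (.lin 9) (.split 1 (-38) (.splitN 17463 (.wt 1) (.split 0 22
    (.split 5 22 (.lin 4) cert5_39_0) (.split 7 43 (.lin 12) (.split 3 (-30) (.split 1 (-65)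
    (.split 6 (-64) (.split 7 70 (.lin 9) (.split 1 (-101) cert5_39_5 (.lin 11))) cert5_39_6)
    (.lin 11)) (.split 6 (-29) (.split 1 (-47) (.split 5 18 (.split 2 (-17) (.split 7 52 (.lin 6)
    (.split 3 (-12) (.split 7 61 (.lin 6) (.split 0 42 (.lin 7) (.split 2 (-26) (.split 6 (-49)
    (.split 0 60 (.lin 7) (.split 1 (-74) (.split 5 10 (.split 0 69 (.lin 4) (.split 2 (-35)
    (.split 7 88 (.lin 6) (.splitN 2470991 (.split 1 (-27441) (.div 1) (.split 0 27430 (.split 6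
    (-27416) (.lin 7) (.split 2 (-13721) (.div 2) (.split 7 41129 (.splitN 2335014 (.split 1
    (-25929) (.div 1) (.split 0 25918 (.split 6 (-25904) (.lin 7) (.split 2 (-12965) (.div 2)
    (.split 7 38861 (.split 6 (-76) (.split 7 115 (.lin 6) (.split 0 96 (.lin 7) (.split 1 (-101)
    (.splitN 842793 (.split 1 (-9333) (.div 1) (.split 0 9322 (.split 6 (-9308) (.lin 7) (.split
    2 (-4667) (.div 2) (.split 7 13967 (.split 6 (-103) (.split 7 142 (.lin 6) (.split 0 123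
    (.lin 7) (.split 1 (-128) (.splitN 601447 (.split 1 (-6669) (.div 1) (.split 7 11303 (.split
    0 6658 (.split 6 (-6644) (.lin 7) (.split 2 (-3335) (.div 2) (.split 7 9971 (.split 3 (-21)
    (.split 0 132 (.lin 7) (.split 2 (-44) (.split 1 (-137) (.splitN 519551 (.split 1 (-5769)
    (.div 1) (.split 0 5758 (.split 6 (-5735) (.lin 7) (.split 2 (-2885) (.div 2) (.split 4 (-26)
    (.split 7 160 (.lin 6) (.split 2 (-53) (.splitN 294893 (.split 1 (-3249) (.div 1) (.split 7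
    6092 (.split 0 3238 (.split 6 (-3215) (.lin 7) (.split 2 (-1625) (.div 2) (.split 4 (-1596)
    (.lin 10) (.split 6 (-144) (.split 7 196 (.lin 6) (.split 0 168 (.lin 7) (.split 1 (-173)
    (.splitN 263687 (.split 1 (-2925) (.div 1) (.split 7 4508 (.split 0 2914 (.split 6 (-2891)
    (.lin 7) (.split 4 (-35) (.split 2 (-62) (.splitN 217780 (.split 1 (-2385) (.div 1) (.split 0
    2374 (.split 6 (-2351) (.lin 7) (.split 2 (-1193) (.div 2) (.split 7 3536 (.split 4 (-1164)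
    (.lin 10) (.split 6 (-183) (.split 7 250 (.lin 6) (.split 0 213 (.lin 7) (.split 1 (-218)
    (.splitN 198575 .sq (.splitN 204537 (.split 1 (-2241) (.div 1) (.split 0 2230 (.split 6
    (-2207) (.lin 7) (.split 2 (-1121) (.div 2) (.split 7 3320 (.split 0 238 (.split 7 1322
    (.split 6 (-209) (.lin 7) (.wt 1)) (.lin 1)) (.wt 1)) (.lin 1)))) (.lin 4))) (.wt 1))) (.lin
    11)))) (.wt 2))) (.lin 1)))) (.lin 4))) (.wt 1)) (.lin 10)) (.wt 2))) (.lin 4)) (.lin 2)))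
    (.wt 1)) (.lin 11)))) (.wt 2))))) (.lin 4)) (.lin 2))) (.wt 1)) (.lin 10))) (.wt 2)))) (.lin
    4))) (.wt 1)) (.lin 11)) (.lin 10))) (.wt 2)) (.lin 1)))) (.lin 4)) (.lin 2))) (.wt 1)) (.lin
    11)))) (.wt 2)) (.lin 1)))) (.lin 4))) (.wt 1)) (.lin 11)))) (.wt 2)) (.lin 1)))) (.lin 4)))
    (.wt 1)) (.lin 1)))) (.lin 4))) (.wt 1))) (.lin 10))) (.wt 2)) (.lin 11))) (.wt 2)) (.lin
    10)))) (.wt 2))) (.lin 10)) (.splitN 116789 (.split 1 (-1269) (.div 1) (.split 6 (-1253)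
    (.lin 11) (.split 2 (-635) (.div 2) (.split 7 1880 (.splitN 110148 (.split 1 (-1197) (.div 1)
    (.split 6 (-1181) (.lin 11) (.split 5 598 (.split 0 44 (.split 6 (-623) (.lin 7) (.split 0 41
    (.split 3 (-19) (.split 1 (-56) (.splitN 102100 (.split 2 (-563) (.div 2) (.split 5 562
    (.split 7 1124 (.split 6 (-91) (.split 4 (-65) (.split 1 (-110) (.split 7 88 (.lin 2) (.split
    5 76 (.lin 4) (.splitN 61006 (.split 5 328 (.split 6 (-335) (.lin 7) (.wt 2)) (.div 5)) (.wt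
    1)))) (.lin 11)) (.lin 3)) (.wt 2)) (.lin 1)) (.div 5))) (.wt 1)) (.lin 11)) (.wt 2)) (.wt
    2))) (.wt 2)) (.div 5)))) (.wt 1)) (.lin 2))))) (.wt 1))) (.lin 11)) (.wt 2)))))) (.lin 11)))
    (.split 0 35 (.split 0 15 (.split 5 13 (.lin 4) (.splitN 143044 (.split 2 (-779) (.div 2)
    (.split 7 791 (.split 3 (-12) (.split 5 22 (.lin 7) (.split 1 (-29) (.splitN 86238 (.split 1
    (-288) .sq (.split 5 275 (.split 3 (-273) (.lin 7) (.split 2 (-287) .sq (.split 7 296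
    (.splitN 78624 (.split 4 (-276) .sq (.split 7 278 (.split 6 (-15) (.split 1 (-38) (.split 5
    31 (.lin 4) (.splitN 68428 .cand (.wt 1))) (.lin 11)) (.split 2 (-17) (.splitN 32276 (.split
    2 (-167) (.div 2) (.split 4 (-165) (.lin 3) (.split 5 166 (.split 3 (-156) (.lin 7) (.wt 2))
    (.div 5)))) (.wt 1)) (.lin 3))) (.lin 12))) (.wt 1)) (.lin 9)))) (.lin 4))) (.wt 1)) (.lin
    11))) (.wt 2)) (.lin 9))) (.wt 1))) (.split 2 (-17) (.split 7 34 (.lin 12) (.splitN 167515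
    (.split 5 922 (.split 3 (-939) (.lin 7) (.split 0 26 (.split 3 (-37) (.split 5 22 (.lin 7)
    (.split 1 (-47) (.splitN 43559 (.split 2 (-239) (.div 2) (.split 4 (-237) (.lin 3) (.wt 2)))
    (.wt 1)) (.lin 11))) (.wt 2)) (.wt 2))) (.div 5)) (.wt 1))) (.lin 3))) (.wt 2)))

def cert5_39_8 : Cert :=
  (.split 0 11 (.splitN 113465 (.split 1 (-329) .sq (.split 7 314 (.split 5 320 (.split 6 (-92)
    (.split 5 103 (.lin 7) (.split 1 (-110) (.splitN 34163 .sq (.splitN 53444 (.split 5 292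
    (.split 7 278 (.splitN 39005 (.split 5 202 (.split 7 188 (.wt 4) (.lin 1)) (.div 5)) (.wt 4))
    (.lin 1)) (.div 5)) (.wt 0))) (.lin 11))) (.split 2 64 (.split 1 (-120) (.lin 11) (.split 7
    107 (.split 5 194 (.split 4 (-84) (.lin 3) (.split 7 89 (.split 3 (-25) (.wt 2) (.split 5 104
    (.split 1 (-111) (.lin 11) (.split 2 8 (.split 6 (-51) (.split 4 (-47) (.split 1 (-65)
    (.split 7 43 (.lin 2) (.split 5 49 (.lin 1) (.split 7 52 (.lin 9) (.splitN 19846 (.wt 1)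
    (.splitN 23106 (.split 3 (-15) (.wt 0) (.split 7 85 (.split 1 (-93) (.lin 2) (.split 4 (-75)
    (.lin 5) (.split 6 (-83) (.lin 3) (.split 7 75 (.split 5 77 (.split 1 (-84) (.lin 2) (.split
    4 (-66) (.lin 5) (.wt 1))) (.lin 1)) (.wt 0))))) (.wt 0))) (.wt 3)))))) (.lin 11)) (.lin 3))
    (.split 4 (-39) (.lin 3) (.split 1 (-66) (.lin 11) (.split 7 53 (.split 5 59 (.split 7 44
    (.split 3 (-20) (.wt 2) (.split 5 50 (.splitN 21473 (.splitN 17052 (.wt 3) (.split 7 39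
    (.split 1 (-48) (.lin 2) (.split 4 (-30) (.lin 5) (.split 6 (-38) (.lin 3) (.wt 1)))) (.wt
    0))) (.wt 1)) (.lin 1))) (.lin 9)) (.lin 4)) (.lin 2))))) (.split 5 40 (.lin 1) (.split 1
    (-47) (.split 6 (-37) (.split 7 80 (.split 3 (-15) (.wt 2) (.split 6 (-68) (.wt 2) (.split 1
    (-75) (.lin 11) (.split 7 53 (.split 5 68 (.split 6 (-56) (.wt 2) (.split 1 (-66) (.lin 11)
    (.split 7 44 (.split 5 59 (.split 6 (-51) (.wt 2) (.split 1 (-57) (.lin 11) (.split 7 35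
    (.split 6 (-45) (.wt 2) (.split 2 10 (.split 1 (-48) (.lin 11) (.split 7 26 (.split 5 41
    (.split 4 (-21) (.lin 0) (.splitN 27396 (.wt 0) (.wt 0))) (.lin 1)) (.lin 2))) (.lin 3)))
    (.lin 2)))) (.lin 4)) (.lin 2)))) (.lin 4)) (.lin 2))))) (.lin 9)) (.lin 3)) (.lin 2)))))
    (.lin 7))) (.lin 9))) (.lin 1)) (.lin 2))) (.lin 3))) (.lin 4)) (.lin 2))) (.wt 3)) (.split 6
    (-37) (.split 1 (-47) (.split 7 34 (.lin 12) (.splitN 91290 (.split 5 490 (.split 7 485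
    (.split 1 (-498) (.lin 4) (.split 6 (-488) (.lin 7) (.split 3 (-14) (.split 5 40 (.lin 1)
    (.split 1 (-56) (.splitN 79967 (.split 5 436 (.split 7 422 (.split 6 (-425) (.lin 7) (.split
    6 (-44) (.split 5 49 (.lin 7) (.split 1 (-65) (.splitN 74841 (.split 1 (-256) .sq (.split 7
    233 (.split 5 239 (.split 4 (-219) (.lin 5) (.split 6 (-236) (.lin 7) (.splitN 66969 (.split
    6 (-47) (.split 5 58 (.lin 7) (.split 1 (-74) (.split 1 (-239) .sq (.split 7 215 (.split 5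
    221 (.split 4 (-201) (.lin 5) (.split 6 (-218) (.lin 7) (.split 2 13 (.split 4 (-29) (.split
    7 43 (.lin 9) (.splitN 52325 (.split 6 (-57) (.split 4 (-38) (.split 1 (-83) (.split 5 67
    (.lin 4) (.split 7 52 (.lin 9) (.split 1 (-189) .sq (.split 7 161 (.split 5 167 (.split 4
    (-147) (.lin 5) (.split 6 (-173) (.lin 3) (.split 6 (-164) (.lin 7) (.split 6 (-66) (.split 4
    (-47) (.split 1 (-92) (.split 5 76 (.lin 4) (.split 7 61 (.lin 9) (.splitN 45280 (.split 3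
    (-21) (.split 7 152 (.split 1 (-101) (.split 5 85 (.lin 4) (.split 4 (-138) (.lin 5) (.split
    6 (-155) (.lin 7) (.splitN 30077 .sq (.split 2 1 (.wt 1) (.split 6 (-75) (.split 4 (-56)
    (.split 1 (-110) (.split 7 70 (.lin 2) (.split 5 94 (.lin 1) (.splitN 37223 .sq (.split 7 76
    (.wt 0) (.split 5 103 (.lin 1) (.split 1 (-119) (.split 4 (-65) (.split 6 (-91) .sq (.lin 3))
    (.lin 5)) (.lin 2))))))) (.lin 11)) (.lin 3)) (.wt 2))))))) (.lin 11)) (.lin 1)) (.wt 2))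
    (.wt 1)))) (.lin 11)) (.lin 3)) (.wt 2))))) (.lin 4)) (.lin 2))))) (.lin 11)) (.lin 3)) (.wt
    2)) (.wt 1))) (.lin 3)) (.splitN 22249 (.wt 0) (.split 7 83 (.split 4 (-66) (.lin 12)
    (.splitN 52299 (.split 1 (-201) .sq (.split 5 185 (.split 6 (-182) (.lin 7) (.split 7 57
    (.splitN 44879 .cand (.wt 1)) (.split 1 (-101) (.split 6 (-82) (.split 4 (-47) (.splitN 33506
    (.wt 3) (.split 3 (-21) (.split 5 94 (.lin 1) (.splitN 41883 (.split 6 (-123) (.wt 2) (.split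
    2 55 (.split 6 (-83) (.split 5 103 (.lin 7) (.split 1 (-119) .sq (.lin 11))) (.wt 6)) (.lin
    3))) (.wt 3))) (.wt 2))) (.lin 12)) (.lin 9)) (.lin 2)))) (.lin 4))) (.wt 1))) (.split 1
    (-128) (.split 5 112 (.lin 1) (.split 6 (-109) (.split 4 (-74) (.splitN 55448 .sq (.wt 1))
    (.lin 12)) (.lin 9))) (.lin 2))))))) (.lin 4)) (.lin 2))) (.lin 11))) (.wt 2)) (.wt 1))))
    (.lin 4)) (.lin 2))) (.wt 1)) (.lin 11))) (.wt 2))) (.lin 1)) (.div 5)) (.wt 1)) (.lin 2)))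
    (.wt 2)))) (.lin 1)) (.div 5)) (.wt 1))) (.lin 11)) (.lin 3)))

def cert5_39_9 : Cert :=
  (.split 0 22 (.split 3 (-30) (.split 5 49 (.lin 1) (.split 1 (-65) (.split 5 58 (.lin 10)
    (.splitN 135888 (.split 5 742 (.split 7 710 (.splitN 120766 (.split 1 (-338) .sq (.split 2
    271 (.split 7 296 (.splitN 104463 (.split 1 (-313) .sq (.split 3 (-282) (.lin 2) (.split 7
    269 (.split 5 302 (.split 6 (-281) (.lin 7) (.split 0 11 (.splitN 33730 (.split 5 184 (.split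
    7 143 (.wt 2) (.lin 1)) (.div 5)) (.wt 0)) (.split 6 (-37) (.split 1 (-74) (.split 7 34 (.lin
    12) (.splitN 87393 (.split 1 (-278) .sq (.split 3 (-237) (.lin 2) (.split 7 233 (.split 5 257
    (.split 6 (-236) (.lin 7) (.split 2 14 (.splitN 70791 (.split 1 (-247) .sq (.split 7 206
    (.split 2 3 (.splitN 29069 (.split 5 148 (.split 3 (-120) (.lin 1) (.split 7 116 (.split 1
    (-156) (.lin 4) (.split 4 (-102) (.lin 5) (.split 6 (-119) (.lin 3) (.splitN 26438 (.split 5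
    130 (.split 3 (-102) (.lin 1) (.split 7 98 (.split 1 (-138) (.lin 4) (.split 4 (-84) (.lin 5)
    (.split 6 (-101) (.lin 3) (.splitN 16977 (.wt 3) (.split 6 (-39) (.split 4 (-29) (.split 1
    (-83) (.split 5 67 (.lin 4) (.split 3 (-93) (.lin 5) (.split 7 43 (.lin 9) (.split 6 (-48)
    (.split 4 (-38) (.split 1 (-92) (.split 5 76 (.lin 4) (.split 7 52 (.lin 9) (.splitN 23372
    .sq (.split 3 (-57) (.split 5 103 (.lin 1) .sq) (.wt 1))))) (.lin 11)) (.lin 3)) (.wt 6)))))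
    (.lin 11)) (.lin 3)) (.wt 2)))))) (.lin 1))) (.div 5)) (.wt 1))))) (.lin 1))) (.div 5)) (.wt
    1)) .cand) (.lin 2))) (.wt 1)) (.split 1 (-92) (.split 5 76 (.lin 1) (.split 7 215 (.split 6
    (-55) (.splitN 21104 .sq (.splitN 78053 (.split 1 (-251) .sq (.split 7 188 (.split 7 81
    (.split 7 57 (.splitN 43538 .cand (.wt 3)) (.split 1 (-119) (.split 5 103 (.lin 1) (.split 6
    (-82) (.split 4 (-47) (.splitN 39815 .sq (.wt 0)) (.lin 12)) (.lin 9))) (.lin 2))) (.split 1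
    (-146) (.split 5 130 (.lin 1) (.split 6 (-109) (.split 4 (-74) (.splitN 65816 .sq (.wt 0))
    (.lin 12)) (.lin 9))) (.lin 2))) (.lin 2))) (.wt 1))) (.lin 3)) (.lin 1))) (.lin 2)))) (.lin
    4)) (.lin 2)))) (.wt 1))) (.lin 11)) (.lin 3)))) (.lin 4)) (.lin 2)))) (.wt 3)) (.lin 2))
    (.lin 2))) (.wt 3)) (.lin 1)) (.div 5)) (.wt 3))) (.lin 2))) (.splitN 1627965 (.split 2 9040
    (.split 5 9040 (.split 7 9035 (.split 6 (-9038) (.lin 7) (.splitN 1419451 (.split 1 (-1189)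
    .sq (.split 2 1144 (.split 7 1169 (.split 5 2336 (.split 5 1175 (.split 6 (-1181) (.lin 7)
    (.splitN 763584 (.split 1 (-872) .sq (.split 7 854 (.split 5 860 (.split 6 (-866) (.lin 7)
    (.splitN 639008 (.split 1 (-798) .sq (.split 2 757 (.split 7 782 (.split 5 788 (.split 6
    (-794) (.lin 7) cert5_39_8) (.lin 4)) (.lin 2)) (.lin 2))) (.wt 1))) (.lin 4)) (.lin 2)))
    (.wt 1))) (.lin 4)) (.lin 1)) (.lin 2)) (.lin 2))) (.wt 1))) (.lin 1)) (.div 5)) (.div 2))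
    (.wt 1))) (.split 6 (-46) (.split 1 (-56) (.split 7 43 (.lin 12) (.splitN 112396 (.split 1
    (-1233) (.div 1) (.split 2 1171 (.split 3 (-1182) (.lin 2) (.split 7 1214 (.split 6 (-1217)
    (.lin 11) (.splitN 102288 (.split 1 (-1125) (.div 1) (.split 7 1106 (.split 3 (-21) (.split 1
    (-74) (.split 5 49 (.lin 10) (.splitN 88983 (.split 1 (-283) .sq (.split 2 208 (.split 3
    (-237) (.lin 2) (.split 7 251 (.split 6 (-254) (.lin 11) (.splitN 71448 (.split 1 (-246) .sq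
    (.split 7 215 (.split 5 221 (.split 4 (-192) (.lin 5) (.split 6 (-218) (.lin 11) (.split 2 13
    (.splitN 59865 (.split 1 (-225) .sq (.split 3 (-174) (.lin 2) (.split 7 188 (.split 4 (-165)
    (.lin 5) (.split 6 (-200) (.lin 9) (.split 3 (-30) (.split 5 58 (.lin 10) (.split 6 (-182)
    (.lin 11) (.split 6 (-48) (.split 1 (-92) (.split 3 (-165) (.lin 11) (.splitN 55725 (.split 1
    (-205) .sq (.split 3 (-156) (.lin 2) (.split 7 161 (.split 4 (-138) (.lin 5) (.split 3 (-147)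
    (.lin 11) (.split 6 (-164) (.lin 11) (.split 0 59 (.split 2 3 (.split 7 52 (.lin 9) (.splitN
    20249 .sq (.splitN 25989 (.split 5 130 (.split 6 (-137) (.lin 7) (.split 3 (-102) (.lin 10)
    (.wt 6))) (.div 5)) (.wt 1)))) (.split 7 152 (.split 5 67 (.lin 10) (.split 7 81 (.split 6
    (-92) (.lin 9) (.split 4 (-57) (.lin 3) (.split 3 (-55) (.split 5 85 (.lin 10) (.splitN 42109
    (.split 0 33 (.split 3 (-58) (.split 5 94 (.lin 1) (.split 1 (-119) (.splitN 33497 .sq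
    (.split 7 47 (.wt 1) (.split 1 (-128) (.split 5 103 (.lin 1) (.split 6 (-64) (.split 4 (-29)
    .sq (.lin 3)) (.lin 9))) (.lin 2)))) (.lin 2))) (.wt 2)) (.wt 2)) (.wt 1))) (.wt 2))))
    (.split 1 (-137) (.split 5 85 (.lin 1) (.split 3 (-102) (.lin 2) (.split 6 (-100) (.split 4
    (-38) (.splitN 47699 .sq (.wt 1)) (.lin 3)) (.lin 9)))) (.lin 2)))) (.lin 2))) (.wt 2)))))
    (.lin 2)))) (.wt 1))) (.lin 11)) (.wt 2)))) (.wt 2)))) (.lin 2)))) (.wt 1)) (.split 1 (-92)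
    (.split 3 (-183) (.lin 2) (.split 7 197 (.split 6 (-64) (.split 5 67 (.lin 10) (.splitN 64227
    (.split 1 (-223) .sq (.split 3 (-156) (.lin 2) (.split 4 (-147) (.lin 5) (.split 6 (-191)
    (.lin 11) (.split 3 (-30) (.split 1 (-101) (.split 7 161 (.split 4 (-138) (.lin 5) (.split 5
    76 (.lin 10) (.split 0 69 (.split 7 84 (.split 4 (-57) (.lin 12) (.splitN 51413 (.split 1
    (-186) .sq (.split 2 100 (.split 3 (-120) (.lin 2) (.split 6 (-146) (.lin 11) (.splitN 49261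
    (.split 3 (-39) (.split 1 (-110) (.split 5 85 (.lin 10) (.split 6 (-137) (.lin 11) (.split 0
    41 (.split 1 (-171) .sq (.split 2 73 (.split 3 (-102) (.lin 2) (.split 5 140 (.split 6 (-119)
    (.lin 11) (.splitN 30023 (.wt 3) (.split 6 (-65) (.split 1 (-119) (.split 3 (-93) (.lin 11)
    (.split 7 62 (.split 4 (-39) (.lin 12) (.split 0 31 (.split 5 94 (.lin 4) (.split 3 (-51)
    (.split 2 64 (.split 1 (-128) (.split 5 103 (.lin 4) (.split 6 (-110) (.lin 7) (.splitN 38987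
    .sq (.splitN 42407 (.split 4 (-33) (.wt 1) (.split 7 53 (.split 2 26 (.wt 1) (.split 3 (-66)
    (.split 5 121 (.lin 1) .sq) (.wt 1))) (.lin 12))) (.wt 1))))) (.lin 11)) (.lin 1)) (.wt 2)))
    (.wt 2))) (.split 1 (-137) (.split 5 103 (.lin 1) (.split 6 (-91) (.split 4 (-38) .sq (.lin
    12)) (.lin 9))) (.lin 2)))) (.lin 11)) (.wt 6)))) (.lin 4))) (.lin 2))) (.wt 2)))) (.lin 2))
    (.wt 2)) (.wt 1)))) (.lin 2))) (.wt 1))) (.split 1 (-146) (.split 5 85 (.lin 1) (.split 3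
    (-111) (.lin 2) (.split 6 (-109) (.split 4 (-29) (.splitN 51785 .sq (.splitN 53174 (.split 0
    26 (.split 5 121 (.lin 1) .sq) (.wt 1)) (.wt 1))) (.lin 12)) (.lin 9)))) (.lin 2))) (.wt
    2)))) (.lin 2)) (.lin 2)) (.wt 2)))))) (.wt 1))) (.lin 3)) (.lin 2))) (.lin 2))))) (.lin 4))
    (.lin 2))) (.wt 1))) (.lin 2))) (.lin 2))) (.wt 1))) (.lin 2)) (.wt 2)) (.lin 2))) (.wt 1)))
    (.lin 2))) (.lin 2))) (.wt 1))) (.lin 11)) (.lin 3)))

def cert5_39_10 : Cert :=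
  (.split 0 22 (.split 7 26 (.splitN 119537 (.split 1 (-1305) (.div 1) (.split 2 1270 (.split 5
    2561 (.split 2 652 (.split 6 (-677) (.lin 3) (.split 5 652 (.split 3 (-642) (.lin 1) (.splitN
    109971 (.split 1 (-326) .sq (.split 2 289 (.split 3 (-300) (.lin 2) (.split 5 311 (.split 6
    (-78) (.split 2 54 (.lin 3) (.split 1 (-92) (.split 5 67 (.lin 1) (.split 5 76 (.lin 4)
    (.splitN 24722 .sq (.splitN 58771 (.split 3 (-46) (.wt 2) (.split 1 (-199) .sq (.split 2 163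
    (.split 6 (-191) (.lin 3) (.split 0 11 (.split 7 17 (.wt 0) (.lin 12)) (.split 7 25 (.lin 12)
    (.splitN 37181 (.split 3 (-24) (.split 1 (-110) (.split 5 94 (.lin 1) (.split 2 136 (.split 6
    (-164) (.lin 3) (.splitN 36238 (.split 6 (-86) (.split 2 63 (.lin 3) (.split 5 103 (.lin 1)
    .sq)) (.wt 0)) (.wt 1))) (.lin 2))) (.lin 2)) (.wt 0)) (.wt 1))))) (.lin 2)))) (.wt 3)))))
    (.lin 11))) (.split 2 55 (.split 3 (-51) (.split 5 58 (.lin 1) (.split 1 (-74) (.split 5 67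
    (.lin 10) (.splitN 41389 (.split 1 (-177) .sq (.split 3 (-156) (.lin 2) (.split 0 11 (.split
    7 17 (.wt 2) (.lin 12)) (.split 6 (-28) (.split 5 158 (.split 7 25 (.lin 12) (.splitN 35964
    (.split 6 (-42) (.split 2 18 (.lin 3) (.split 1 (-101) (.split 5 85 (.lin 1) (.split 6 (-67)
    (.wt 2) (.split 1 (-139) .sq (.split 3 (-93) (.lin 2) (.splitN 30603 (.wt 3) (.split 6 (-63)
    (.wt 0) (.split 2 28 (.wt 1) (.lin 3)))))))) (.lin 11))) (.wt 2)) (.wt 1))) (.lin 4)) (.lin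
    3))))) (.wt 3))) (.lin 2))) (.split 1 (-129) (.lin 2) (.split 1 (-120) (.lin 11) (.split 0 11
    (.split 7 17 (.splitN 40876 .cand (.wt 0)) (.lin 12)) (.split 6 (-28) (.split 1 (-38) (.split
    7 25 (.lin 12) (.splitN 39062 (.split 3 (-14) (.split 5 31 (.lin 1) (.split 1 (-47) (.splitN
    26675 (.wt 4) (.split 2 2 (.wt 1) (.split 5 40 (.lin 1) (.splitN 35677 (.split 1 (-63)
    (.split 5 49 (.lin 4) (.split 3 (-39) (.split 6 (-59) (.split 2 36 (.lin 3) (.split 1 (-110)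
    (.split 6 (-70) (.split 2 45 (.lin 3) (.split 1 (-119) (.split 5 103 (.lin 0) .sq) (.lin
    11))) (.wt 0)) (.lin 11))) (.wt 0)) (.wt 0))) (.wt 0)) (.wt 1))))) (.lin 2))) (.wt 0)) (.wt
    1))) (.lin 11)) (.lin 3)))))) (.lin 3))) (.lin 4))) (.lin 2))) (.wt 1))) (.div 5))) (.div 2))
    (.lin 0)) (.lin 2))) (.wt 1)) (.lin 12)) (.split 6 (-37) (.split 1 (-47) (.split 7 34 (.lin
    12) (.splitN 255776 (.split 1 (-2817) (.div 1) (.split 2 2764 (.split 3 (-2775) (.lin 2)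
    (.split 7 2798 (.split 6 (-2801) (.lin 11) (.split 2 1408 (.split 5 1408 (.split 3 (-1389)
    (.lin 10) (.splitN 233194 (.split 1 (-2565) (.div 1) (.split 6 (-2549) (.lin 11) (.split 2
    1282 (.split 5 1282 (.split 3 (-1263) (.lin 10) (.split 0 68 (.split 6 (-1352) (.lin 3)
    (.split 7 71 (.splitN 95370 (.split 2 526 (.split 6 (-596) (.lin 3) (.split 5 526 (.split 3
    (-543) (.lin 1) (.split 1 (-579) (.lin 8) (.split 3 (-507) (.lin 10) (.splitN 91117 (.split 5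
    490 (.split 1 (-543) (.lin 4) (.split 2 460 (.split 6 (-533) (.lin 3) (.split 0 52 (.split 7
    62 (.splitN 83565 (.split 5 454 (.split 2 424 (.split 6 (-488) (.lin 3) (.split 3 (-435)
    (.lin 10) (.split 0 51 (.split 7 53 (.split 3 (-44) (.split 1 (-83) (.split 5 58 (.lin 10)
    (.splitN 60275 (.split 5 328 (.split 2 280 (.split 1 (-363) (.lin 8) (.split 2 262 (.split 6
    (-317) (.lin 3) (.split 3 (-309) (.lin 10) (.splitN 59030 (.split 5 310 (.split 6 (-299)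
    (.lin 6) (.split 2 244 (.split 3 (-291) (.lin 10) (.split 0 33 (.split 6 (-281) (.lin 3)
    (.split 7 35 (.splitN 46749 (.split 5 256 (.split 2 190 (.split 3 (-237) (.lin 6) (.split 1
    (-273) (.lin 8) (.split 6 (-227) (.lin 3) (.splitN 45862 (.split 5 238 (.split 2 172 (.split
    3 (-219) (.lin 6) (.split 6 (-209) (.lin 3) (.split 2 1 (.wt 2) (.split 3 (-66) (.split 1
    (-119) (.split 5 94 (.lin 1) (.split 6 (-79) (.split 2 45 (.lin 3) (.split 5 130 (.lin 1)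
    .sq)) (.wt 0))) (.lin 2)) (.wt 0))))) (.lin 1)) (.div 5)) (.wt 1))))) (.lin 1)) (.div 5))
    (.wt 1)) (.lin 12))) (.wt 2))) (.lin 10))) (.div 5)) (.wt 1)))) (.lin 10))) (.lin 1)) (.div
    5)) (.wt 1))) (.lin 2)) (.wt 2)) (.lin 12)) (.wt 2)))) (.lin 10)) (.div 5)) (.wt 1)) (.lin
    12)) (.wt 2))) (.lin 10))) (.div 5)) (.wt 1))))) (.div 5))) (.div 2)) (.wt 1)) (.lin 12)))
    (.wt 2))) (.div 5)) (.div 2)))) (.wt 1))) (.div 5)) (.div 2))) (.lin 2))) (.lin 2))) (.wt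
    1))) (.lin 11)) (.lin 3)))

def cert5_39_11 : Cert :=
  (.split 5 (-1) (.split 0 15 (.lin 4) (.split 2 (-8) (.split 7 16 (.lin 6) (.split 3 (-4)
    (.split 7 25 (.lin 6) (.split 0 24 (.lin 7) (.split 1 (-20) (.split 4 (-4) (.split 7 34 (.lin
    6) (.split 2 (-26) (.splitN 229205 (.split 1 (-2529) (.div 1) (.split 3 (-2514) (.lin 11)
    (.split 6 (-2513) (.lin 11) (.split 2 (-1265) (.div 2) (.split 7 3770 (.split 5 (-1238) (.lin
    10) (.splitN 209199 (.split 1 (-2313) (.div 1) (.split 7 3554 (.split 3 (-22) (.split 7 52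
    (.lin 6) (.split 0 42 (.lin 7) (.split 2 (-44) (.split 1 (-38) (.splitN 109929 (.split 1
    (-1197) (.div 1) (.split 6 (-1163) (.lin 11) (.split 2 (-599) (.div 2) (.split 7 1754 (.split
    5 (-554) (.lin 10) (.split 6 (-17) (.split 7 61 (.lin 6) (.split 0 51 (.lin 7) (.split 1
    (-47) (.splitN 95811 (.split 1 (-1053) (.div 1) (.split 6 (-1019) (.lin 11) (.split 2 (-527)
    (.div 2) (.split 3 (-507) (.lin 10) (.split 4 (-489) (.lin 10) (.split 5 (-482) (.lin 10)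
    (.splitN 81057 (.split 1 (-873) (.div 1) (.split 6 (-839) (.lin 11) (.split 2 (-437) (.div 2)
    (.split 3 (-417) (.lin 10) (.split 4 (-399) (.lin 10) (.split 5 (-392) (.lin 10) (.splitN
    72337 (.split 1 (-801) (.div 1) (.split 6 (-767) (.lin 11) (.split 2 (-401) (.div 2) (.split
    3 (-381) (.lin 10) (.split 4 (-363) (.lin 10) (.split 5 (-356) (.lin 10) (.splitN 68408
    (.split 1 (-729) (.div 1) (.split 6 (-695) (.lin 11) (.split 2 (-365) (.div 2) (.split 3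
    (-345) (.lin 10) (.split 4 (-327) (.lin 10) (.split 5 (-320) (.lin 10) (.split 4 (-13)
    (.split 7 70 (.lin 6) (.split 2 (-53) (.splitN 60541 (.split 1 (-657) (.div 1) (.split 6
    (-623) (.lin 11) (.split 2 (-329) (.div 2) (.split 3 (-300) (.lin 10) (.split 5 (-275) (.lin
    10) (.splitN 55916 (.split 1 (-621) (.div 1) (.split 6 (-587) (.lin 11) (.split 2 (-311)
    (.div 2) (.split 3 (-282) (.lin 10) (.split 4 (-273) (.lin 10) (.split 5 (-257) (.lin 10)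
    (.splitN 53722 (.split 1 (-585) (.div 1) (.split 6 (-551) (.lin 11) (.split 2 (-293) (.div 2)
    (.split 3 (-264) (.lin 10) (.split 4 (-255) (.lin 10) (.split 5 (-239) (.lin 10) (.splitN
    51428 (.split 1 (-549) (.div 1) (.split 6 (-515) (.lin 11) (.split 2 (-275) (.div 2) (.split
    3 (-246) (.lin 10) (.split 4 (-237) (.lin 10) (.split 5 (-221) (.lin 10) (.splitN 49026
    (.split 1 (-513) (.div 1) (.split 6 (-479) (.lin 11) (.split 2 (-257) (.div 2) (.split 4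
    (-219) (.lin 10) (.split 5 (-203) (.lin 10) (.split 3 (-42) (.split 7 88 (.lin 6) (.split 0
    69 (.lin 7) (.split 5 (-185) (.lin 10) (.wt 2)))) (.wt 0))))))) (.wt 6)))))))) (.wt 6))))))))
    (.wt 6)))))))) (.wt 6))))))) (.wt 6)) (.lin 10))) (.wt 0)))))))) (.wt 6)))))))) (.wt
    6)))))))) (.wt 6)))))))) (.wt 1)) (.lin 11)))) (.wt 0))) (.lin 2))))) (.wt 1)) (.lin 11))
    (.lin 10)))) (.wt 2)) (.lin 2))) (.wt 1))) (.lin 2)))))) (.wt 1)) (.lin 10))) (.wt 0)) (.lin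
    11)))) (.wt 0))) (.lin 10))) (.split 3 (-3) (.split 1 (-20) (.split 2 (-1) (.split 7 16 (.lin
    9) (.splitN 10720 (.wt 1) (.split 4 (-12) (.split 7 25 (.lin 12) (.splitN 14591 (.wt 3)
    cert5_39_7)) (.split 4 (-5) (.split 6 (-28) (.split 0 24 (.lin 3) (.split 7 34 (.lin 9)
    (.split 6 (-64) (.split 0 60 (.lin 3) (.split 7 70 (.lin 9) (.split 3 (-30) (.split 1 (-101)
    (.split 5 16 (.split 0 87 (.lin 4) (.split 2 (-35) (.split 7 97 (.lin 6) (.split 3 (-41)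
    (.split 5 9 (.split 2 (-53) (.split 7 115 (.lin 6) (.split 6 (-81) (.split 0 123 (.lin 3)
    (.split 7 133 (.lin 6) (.split 3 (-48) (.split 7 142 (.lin 6) (.split 0 132 (.lin 7) (.split
    2 (-62) (.split 6 (-94) (.split 0 150 (.lin 3) (.split 7 160 (.lin 6) (.split 3 (-59) (.split
    0 159 (.lin 7) (.split 2 (-71) (.split 6 (-107) (.split 0 168 (.lin 3) (.split 7 178 (.lin 6)
    (.split 3 (-67) (.split 0 177 (.lin 7) (.split 6 (-113) (.split 7 196 (.lin 6) (.split 3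
    (-80) (.split 0 195 (.lin 7) (.split 6 (-120) (.split 7 214 (.lin 6) (.split 6 (-1543) (.wt
    1) (.split 3 (-87) (.split 0 213 (.lin 7) (.split 6 (-984) (.wt 1) (.split 3 (-95) (.split 7
    232 (.lin 6) (.split 3 (-102) (.split 0 231 (.lin 7) (.split 6 (-495) (.wt 1) (.split 3
    (-123) (.split 7 259 (.lin 6) (.split 0 249 (.lin 7) (.split 3 (-145) (.split 7 277 (.lin 6)
    (.split 3 (-163) (.split 7 295 (.lin 6) (.split 0 285 (.lin 7) (.split 3 (-183) (.split 7 322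
    (.lin 6) (.split 0 312 (.lin 7) (.split 3 (-218) (.split 7 349 (.lin 6) (.split 0 339 (.lin
    7) (.split 3 (-260) (.split 7 394 (.lin 6) (.wt 3)) (.wt 0)))) (.wt 0)))) (.wt 0)))) (.wt
    0))) (.wt 0)))) (.wt 0)))) (.wt 0))) (.wt 0)))) (.wt 0)))) (.wt 2))) (.wt 3))) (.wt 2))) (.wt
    0)))) (.wt 2)) (.lin 10))) (.wt 0)))) (.wt 2)) (.lin 10)))) (.wt 0)))) (.wt 2))) (.lin 10))
    (.wt 2)) (.wt 2))) (.lin 10))) (.wt 2)) (.lin 11)) (.wt 2)))) (.split 0 210 (.split 2 (-189)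
    (.lin 3) (.split 7 215 (.split 3 (-28) (.split 1 (-56) (.split 5 18 (.split 1 (-246) (.lin 0)
    (.split 0 42 (.lin 4) (.split 3 (-192) (.lin 6) (.split 1 (-219) (.lin 8) (.split 2 (-26)
    (.split 7 52 (.lin 6) (.splitN 371586 (.split 3 (-39) (.split 0 60 (.lin 7) (.wt 2)) (.wt 0))
    (.wt 6))) (.lin 10)))))) (.wt 2)) (.lin 11)) (.wt 2)) (.lin 12))) (.wt 2))))) (.split 0 23
    (.split 2 (-18) (.lin 3) (.split 7 26 (.split 3 (-60) (.split 5 49 (.lin 1) (.split 1 (-65)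
    (.splitN 34841 (.split 5 184 (.split 3 (-183) (.lin 6) (.split 0 10 (.split 6 (-11) (.lin 3)
    (.splitN 25882 (.wt 0) (.wt 1))) (.wt 2))) (.div 5)) (.wt 1)) (.lin 2))) (.split 1 (-75)
    (.lin 2) (.split 0 15 (.split 2 (-9) (.lin 3) (.split 5 13 (.lin 1) (.split 6 (-11) (.lin 3)
    (.split 7 17 (.splitN 29679 (.wt 0) (.wt 1)) (.lin 9))))) (.wt 2)))) (.lin 12))) (.wt 2)))
    (.wt 0))))) (.split 5 13 (.lin 10) (.split 4 (-12) (.split 6 (-28) (.split 1 (-38) (.split 5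
    31 (.lin 10) (.split 7 25 (.lin 12) cert5_39_9)) (.lin 11)) (.lin 3)) (.split 4 (-5) (.split
    6 (-19) (.split 1 (-29) (.split 5 22 (.lin 10) (.split 7 16 (.lin 12) cert5_39_10)) (.lin
    11)) (.lin 3)) (.split 0 13 (.split 7 8 (.splitN 151200 (.split 1 (-1665) (.div 1) (.split 2
    1639 (.split 5 3290 (.split 3 (-3288) (.lin 6) (.split 2 832 (.split 6 (-839) (.lin 3)
    (.split 5 832 (.split 3 (-822) (.lin 1) (.splitN 138975 (.split 2 760 (.split 6 (-767) (.lin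
    3) (.split 3 (-14) (.split 5 22 (.lin 1) (.split 1 (-29) (.splitN 90223 (.split 2 490 (.split
    6 (-497) (.lin 3) (.split 6 (-28) (.split 2 18 (.lin 3) (.splitN 23396 (.wt 0) .cand)) (.wt
    2))) (.div 2)) (.wt 1)) (.lin 2))) (.wt 2))) (.div 2)) (.wt 1))) (.div 5))) (.div 2))) (.lin
    0)) (.lin 2))) (.wt 1)) (.lin 12)) (.wt 2)))))) (.lin 11)) (.wt 2)))

def cert5_39 : Cert :=
  cert5_39_11

theorem check5_39 :
    check task5 cert5_39
      [(7, ⟨some (7), none⟩), (7, ⟨none, some (-11)⟩), (1, ⟨none, none⟩), (7, ⟨none, some (-2)⟩), (7, ⟨none, some (-2)⟩), (5, ⟨none, none⟩), (8, ⟨none, some (-10)⟩), (8, ⟨some (8), none⟩)] ⟨some (3960), none⟩ = true := by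
  decide +kernel

end Cfsg.Agent.EightLocal
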