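import Cfsg.Agent.Lib.EightLocal.Task5

/-!
# Search trees of family 5, part 2
-/

set_option autoImplicit false
set_option maxRecDepth 20000
set_option Elab.async false

namespace Cfsg.Agent.EightLocal

open Cfsg.Agent.SelfNine

def cert5_40_0 : Cert :=
  (.split 2 (-1) (.split 7 16 (.lin 9) (.splitN 95494 (.split 0 2630 (.split 4 2608 (.split 1
    (-1053) (.div 1) (.split 6 (-1037) (.lin 11) (.split 2 (-527) (.div 2) (.split 7 1556 (.split
    4 1052 (.split 5 (-527) (.div 5) (.splitN 87310 (.split 1 (-945) (.div 1) (.split 7 1448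
    (.split 6 (-929) (.lin 11) (.split 6 (-15) (.split 0 33 (.lin 3) (.split 1 (-29) (.split 7 25
    (.lin 9) (.splitN 70968 (.split 0 258 (.split 2 (-225) (.lin 3) (.split 7 458 (.split 4 223
    (.split 1 (-678) (.lin 8) (.split 6 (-236) (.lin 3) (.split 1 (-246) (.lin 4) (.split 5
    (-221) (.lin 4) (.split 3 (-228) (.lin 7) (.split 7 242 (.split 3 (-12) (.split 0 42 (.lin 7)
    (.split 1 (-38) (.split 6 (-22) (.split 0 51 (.lin 7) (.split 1 (-47) (.split 5 (-203) (.lin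
    4) (.split 7 34 (.lin 9) (.splitN 50164 (.split 0 211 (.split 6 (-191) (.lin 3) (.split 1
    (-201) (.lin 4) (.split 3 (-174) (.lin 7) (.split 7 197 (.split 5 (-26) (.split 0 78 (.lin 4)
    (.split 6 (-155) (.lin 7) (.split 6 (-30) (.split 0 87 (.lin 7) (.split 1 (-56) (.split 5
    (-149) (.lin 4) (.split 3 (-138) (.lin 7) (.split 7 43 (.lin 9) (.split 3 (-21) (.split 1
    (-65) (.split 5 (-140) (.lin 4) (.split 6 (-146) (.lin 7) (.split 4 36 (.split 7 61 (.lin 6)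
    (.split 2 (-26) (.split 4 22 (.split 7 79 (.lin 6) (.split 2 (-44) (.splitN 32602 (.split 6
    (-42) (.split 0 105 (.lin 7) (.split 1 (-74) (.split 7 88 (.lin 6) .sq) (.lin 11))) (.wt 2))
    (.wt 1)) (.lin 10))) (.wt 2)) (.lin 10))) (.wt 2)))) (.lin 11)) (.wt 2))))) (.lin 11))) (.wt
    2)))) (.split 6 (-31) (.split 2 (-162) (.lin 3) (.split 0 60 (.lin 7) (.split 3 (-165) (.lin
    7) (.split 7 43 (.lin 9) (.split 3 (-22) (.split 0 69 (.lin 7) (.split 1 (-65) (.split 6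
    (-173) (.lin 7) (.split 4 29 (.split 5 (-5) (.split 0 78 (.lin 4) (.split 2 (-17) (.split 7
    52 (.lin 6) (.split 3 (-156) (.lin 7) (.split 6 (-164) (.lin 7) (.split 4 19 (.split 7 61
    (.lin 6) (.split 2 (-26) (.split 3 (-30) (.split 7 70 (.lin 6) (.split 0 87 (.lin 7) (.split
    2 (-35) (.split 1 (-74) (.split 6 (-155) (.lin 7) (.splitN 29646 (.split 2 (-149) (.div 2)
    (.split 3 (-147) (.lin 10) (.split 4 15 (.split 7 79 (.lin 6) (.splitN 24587 .sq (.wt 1)))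
    (.wt 0)))) (.wt 1))) (.lin 11)) (.lin 10)))) (.wt 2)) (.lin 10))) (.wt 2))))) (.lin 10)))
    (.wt 2)) (.wt 2))) (.lin 11))) (.wt 2)))))) (.wt 2))) (.lin 12))))) .sq) (.wt 1)))) (.lin
    11))) (.wt 2)) (.lin 11))) (.wt 2)) (.lin 12))))))) (.lin 3)) (.lin 1))) .sq) (.wt 1))) (.lin
    11))) (.wt 2))) (.lin 2))) (.wt 1))) (.div 4)) (.lin 2))))) (.lin 3)) (.div 0)) (.wt 1)))
    (.split 4 15 (.lin 10) (.splitN 75600 (.split 0 2090 (.split 2 2062 (.split 3 (-2073) (.lin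
    1) (.split 5 (-2066) (.lin 1) (.split 7 2069 (.split 1 (-6204) (.lin 2) (.split 6 (-10316)
    (.lin 0) (.split 1 (-837) (.div 1) (.split 7 818 (.split 6 (-821) (.lin 11) (.split 4 836
    (.split 5 (-824) (.lin 10) (.split 5 (-419) (.div 5) (.splitN 68024 (.split 1 (-729) (.div 1)
    (.split 7 710 (.split 6 (-713) (.lin 11) (.splitN 7236 (.wt 3) (.split 6 (-13) (.split 0 33
    (.lin 7) (.split 1 (-29) (.splitN 57278 (.split 0 232 (.split 2 208 (.split 3 (-219) (.lin 1)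
    (.split 5 (-212) (.lin 1) (.split 7 215 (.split 4 421 (.split 6 (-425) (.lin 3) (.split 1
    (-228) (.lin 4) (.split 6 (-218) (.lin 7) (.split 4 223 (.splitN 47928 (.split 0 210 (.split
    5 (-185) (.lin 1) (.split 6 (-191) (.lin 7) (.split 7 38 (.splitN 31401 (.split 0 167 (.split
    1 (-156) (.lin 4) (.split 5 (-131) (.lin 4) (.split 3 (-138) (.lin 7) (.split 6 (-146) (.lin
    7) (.split 4 151 (.split 7 16 (.split 4 24 (.lin 6) (.split 2 9 (.lin 9) (.splitN 25807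
    (.split 2 130 (.split 6 (-137) (.lin 9) (.splitN 13207 (.split 1 (-117) (.div 1) (.split 3
    (-93) (.lin 2) (.split 2 58 (.split 6 (-65) (.lin 9) (.split 5 (-59) (.div 5) (.split 3 (-13)
    (.split 0 42 (.lin 1) (.split 5 (-5) (.split 0 51 (.lin 1) (.split 4 42 (.lin 6) (.split 6
    (-20) (.split 2 18 (.lin 9) (.split 4 51 (.lin 6) (.split 3 (-22) (.split 1 (-56) (.split 4
    60 (.lin 6) .sq) (.lin 2)) (.wt 0)))) (.wt 0)))) (.wt 1))) (.wt 0)))) (.div 2)))) (.wt 1)))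
    (.div 2)) (.wt 0)))) (.split 3 (-16) (.split 0 42 (.lin 1) (.split 1 (-38) (.split 5 (-122)
    (.lin 1) (.split 6 (-137) (.lin 7) (.split 4 24 (.lin 10) (.splitN 28823 (.split 3 (-22)
    (.split 0 51 (.lin 1) (.split 5 (-113) (.lin 1) (.split 4 33 (.lin 10) (.split 5 (-7) (.split
    0 60 (.lin 1) (.split 3 (-129) (.lin 1) (.split 6 (-119) (.lin 7) (.split 4 42 (.lin 10)
    (.split 3 (-32) (.split 4 51 (.lin 10) (.split 6 (-50) (.split 0 105 (.lin 7) (.split 1 (-92)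
    (.split 4 69 (.lin 6) .sq) (.lin 11))) (.wt 2))) (.wt 2)))))) (.wt 2))))) (.wt 2)) (.wt
    1))))) (.lin 2))) (.wt 2))) (.lin 12)))))) .sq) (.wt 1)) (.split 0 60 (.lin 1) (.split 3
    (-156) (.lin 1) (.split 5 (-149) (.lin 1) (.split 3 (-38) (.split 0 87 (.lin 1) (.split 6
    (-164) (.lin 7) (.split 4 42 (.lin 10) (.splitN 27606 (.wt 4) (.wt 6))))) (.wt 2)))))))) .sq)
    (.wt 1)) (.lin 12))))) (.lin 3)) (.lin 1)))) (.lin 1)) .sq) (.wt 1)) (.lin 11))) (.wt 2))))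
    (.lin 2))) (.wt 1)))) (.div 4))) (.lin 2))))) (.lin 1)))) (.lin 1)) (.div 0)) (.wt 1))))

def cert5_40_1 : Cert :=
  (.split 6 (-51) (.split 1 (-83) (.split 0 69 (.lin 3) (.split 7 61 (.lin 9) (.split 3 (-147)
    (.lin 11) (.splitN 43554 (.split 0 167 (.split 7 152 (.splitN 42649 (.split 0 157 (.split 1
    (-183) (.lin 4) (.split 1 (-164) .sq (.split 0 142 (.split 7 134 (.split 4 11 (.splitN 28202
    (.split 3 (-59) (.wt 2) (.split 7 125 (.split 0 133 (.split 3 (-55) (.wt 2) (.split 0 124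
    (.split 0 108 (.split 7 98 (.splitN 26571 (.split 3 (-46) (.wt 2) (.split 1 (-129) (.lin 2)
    (.split 2 (-18) (.lin 10) (.split 5 23 (.split 6 (-88) (.wt 1) (.split 1 (-120) (.lin 11)
    (.split 7 92 (.split 0 97 (.split 3 (-38) (.wt 2) (.split 2 (-9) (.lin 10) (.split 5 14 (.wt
    1) (.lin 10)))) (.lin 12)) (.wt 1)))) (.lin 10))))) (.wt 3)) (.lin 12)) .sq) (.lin 7))) (.lin
    7)) (.lin 6))) (.wt 3)) (.split 1 (-92) (.split 0 78 (.lin 3) (.split 7 125 (.split 3 (-70)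
    (.split 7 79 (.lin 6) (.split 0 96 (.lin 7) (.split 1 (-128) .sq (.lin 11)))) (.split 6 (-73)
    (.split 1 (-110) (.split 0 96 (.lin 3) (.split 7 79 (.lin 9) (.splitN 35198 .sq (.splitN
    38965 (.split 2 (-25) (.wt 1) (.split 7 107 (.split 2 (-15) (.wt 1) (.split 7 98 (.split 3
    (-43) (.split 1 (-119) (.split 5 22 (.lin 10) .sq) (.lin 2)) (.wt 1)) (.lin 9))) (.lin 9)))
    (.wt 1))))) (.lin 0)) (.split 7 98 (.splitN 35899 (.split 3 (-50) (.split 1 (-110) (.split 5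
    18 (.split 2 (-17) (.split 0 87 (.lin 3) (.split 7 79 (.lin 6) .sq)) (.lin 0)) (.wt 2)) (.lin
    11)) (.wt 2)) (.wt 1)) (.lin 6)))) (.lin 8))) (.lin 0))) (.lin 8)) (.lin 4)))) .sq) (.wt 1))
    (.lin 12)) .sq) (.wt 1))))) (.lin 0)) (.splitN 39788 (.split 1 (-186) .sq (.split 0 169
    (.split 7 161 (.split 3 (-156) (.lin 11) (.splitN 39242 (.split 4 11 (.splitN 30704 (.split 0
    153 (.split 1 (-158) .sq (.split 0 142 (.split 3 (-147) (.lin 7) (.split 7 134 (.split 7 68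
    (.split 3 (-75) (.lin 6) (.split 1 (-102) (.lin 8) (.split 2 (-36) (.lin 9) (.split 0 70
    (.splitN 17299 (.wt 1) (.split 6 (-37) (.split 1 (-65) (.split 0 51 (.lin 3) (.split 2 (-27)
    (.lin 9) (.split 7 43 (.lin 9) (.split 3 (-47) (.split 1 (-83) (.splitN 23165 (.split 2 (-12)
    (.split 7 52 (.lin 9) (.wt 1)) (.wt 1)) (.wt 0)) (.lin 11)) (.split 1 (-93) (.lin 2) (.split
    2 (-18) (.lin 10) (.split 1 (-84) (.lin 11) (.split 5 23 (.split 7 53 (.split 6 (-42) (.split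
    1 (-74) (.split 2 (-9) (.lin 9) (.split 7 52 (.lin 9) (.splitN 22922 (.wt 0) (.wt 0)))) (.lin
    0)) (.splitN 23328 (.wt 3) (.wt 1))) (.split 3 (-38) (.split 1 (-83) (.split 2 (-17) (.split
    0 69 (.lin 12) (.split 5 14 (.split 6 (-46) (.splitN 21693 (.wt 0) (.wt 0)) (.lin 0)) (.lin
    1))) (.lin 9)) (.lin 8)) (.lin 6))) (.lin 10))))))))) (.lin 0)) (.split 3 (-34) (.split 1
    (-65) (.splitN 23327 (.split 7 57 (.split 3 (-66) (.lin 6) (.split 1 (-93) (.lin 8) (.split 2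
    (-27) (.lin 9) (.split 7 52 (.split 3 (-57) (.lin 6) (.split 2 (-18) (.lin 9) (.split 5 29
    (.split 1 (-75) (.lin 0) (.split 3 (-48) (.lin 6) (.split 7 43 (.split 3 (-39) (.lin 6)
    (.split 1 (-66) (.lin 8) (.split 2 (-9) (.lin 9) (.split 5 22 (.lin 0) (.wt 0))))) (.wt 0))))
    (.wt 1)))) (.wt 0))))) (.wt 0)) (.wt 1)) (.lin 11)) (.wt 2)))) (.lin 12))))) (.split 3 (-47)
    (.split 1 (-92) (.split 2 (-26) (.split 0 78 (.lin 12) (.splitN 23660 .sq (.split 6 (-45)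
    (.wt 0) (.wt 1)))) (.lin 9)) (.lin 8)) (.lin 6))) (.lin 8))) (.lin 4))) .sq) (.wt 1)) (.split
    0 51 (.lin 3) (.split 3 (-40) (.split 1 (-74) (.split 6 (-30) (.split 0 60 (.lin 3) (.split 1
    (-83) (.split 7 43 (.lin 9) (.split 3 (-55) (.split 1 (-92) (.split 0 144 (.split 2 (-90)
    (.lin 3) (.split 3 (-138) (.lin 7) (.split 7 125 (.splitN 36052 (.split 7 122 (.split 3
    (-129) (.lin 6) (.split 1 (-165) (.lin 8) (.split 7 112 (.split 3 (-120) (.lin 6) (.split 1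
    (-156) (.lin 8) (.split 5 31 (.split 0 69 (.lin 4) (.split 3 (-111) (.lin 6) (.split 2 (-17)
    (.split 7 52 (.lin 6) (.splitN 33091 (.split 7 69 (.split 3 (-66) (.lin 6) (.split 1 (-102)
    (.lin 8) (.split 2 (-27) (.lin 9) (.wt 0)))) (.wt 0)) (.wt 1))) (.lin 10)))) (.wt 2)))) (.wt
    4)))) (.wt 4)) (.wt 1)) (.lin 12)))) .sq) (.lin 11)) (.wt 2))) (.lin 11))) (.wt 2)) (.lin
    11)) (.wt 2)))) (.wt 1))) (.lin 8)) (.lin 4))) (.wt 1)))

def cert5_40_2 : Cert :=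
  (.split 7 341 (.split 1 (-355) .sq (.split 3 (-327) (.lin 11) (.split 6 (-97) (.split 1 (-119)
    (.split 0 114 (.lin 3) (.split 7 106 (.lin 9) (.splitN 49373 .sq (.split 3 (-61) (.wt 0)
    (.split 5 41 (.split 3 (-55) (.wt 0) (.split 4 7 (.wt 0) (.split 1 (-128) (.split 0 123 (.lin
    3) (.split 3 (-29) (.split 5 23 (.splitN 54395 .sq (.splitN 57498 (.split 3 (-44) (.wt 0)
    (.split 2 (-18) (.lin 10) (.split 5 14 (.split 7 130 (.wt 0) (.split 1 (-155) (.split 0 150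
    (.lin 12) (.split 6 (-118) .sq (.lin 3))) (.lin 8))) (.lin 10)))) (.wt 5))) (.lin 10)) (.lin
    10))) (.lin 0)))) (.lin 10)))))) (.lin 0)) (.splitN 121470 (.split 1 (-341) .sq (.split 2
    (-297) (.lin 0) (.split 7 323 (.split 5 38 (.split 5 12 (.split 3 (-79) (.split 7 88 (.lin 6)
    (.split 0 105 (.lin 7) (.split 2 (-62) (.split 1 (-110) (.splitN 42848 .sq (.splitN 52440
    (.split 2 (-275) (.div 2) (.split 3 (-291) (.lin 10) (.split 4 10 (.wt 0) (.split 6 (-43)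
    (.wt 0) (.split 7 305 (.split 7 92 (.wt 0) (.split 1 (-119) (.splitN 48788 .sq (.split 6
    (-37) (.wt 0) (.split 3 (-92) (.split 2 (-71) .sq (.lin 9)) (.lin 6)))) (.lin 8))) (.lin
    6)))))) (.wt 3))) (.lin 11)) (.lin 10)))) (.split 7 152 (.split 0 160 (.split 2 (-63) (.lin
    10) (.split 6 (-51) (.split 1 (-74) (.split 7 61 (.lin 9) (.split 3 (-34) (.wt 2) (.split 7
    107 (.split 0 115 (.split 1 (-129) (.lin 8) (.split 2 (-54) (.lin 9) (.split 2 (-18) (.lin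
    10) (.splitN 30260 (.wt 1) (.split 3 (-29) (.wt 2) (.split 4 7 (.wt 0) (.lin 10))))))) (.lin
    7)) (.lin 6)))) (.lin 0)) (.split 0 124 (.split 7 107 (.splitN 62486 (.split 4 11 (.split 3
    (-37) (.wt 2) (.split 7 62 (.split 0 70 (.split 3 (-27) (.wt 2) (.split 7 53 (.split 0 61
    (.split 1 (-66) (.lin 8) (.split 2 (-9) (.lin 10) (.splitN 23926 (.wt 1) (.split 6 (-36) (.wt
    0) (.split 0 43 (.split 7 35 (.wt 0) (.lin 1)) (.lin 3)))))) (.lin 7)) (.lin 6))) (.lin 7))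
    (.lin 6))) .cand) (.wt 1)) (.lin 6)) (.lin 3)))) (.lin 7)) (.lin 6))) (.split 1 (-56) (.split
    3 (-29) (.splitN 50090 (.split 0 207 (.split 2 (-171) (.lin 3) (.split 3 (-210) (.lin 7)
    (.split 7 197 (.splitN 47604 (.split 1 (-203) .sq (.split 0 187 (.split 7 179 cert5_40_1
    (.lin 8)) (.lin 4))) (.wt 1)) (.lin 12)))) .sq) (.wt 1)) (.lin 10)) (.lin 0))) (.split 1
    (-83) (.split 3 (-56) (.splitN 40330 (.split 0 160 (.split 7 152 (.splitN 38226 (.split 1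
    (-167) .sq (.split 0 124 (.split 5 122 (.split 7 116 (.split 3 (-138) (.lin 11) (.splitN
    36354 (.split 1 (-156) .sq (.split 7 107 (.split 3 (-129) (.lin 11) (.split 6 (-51) (.split 1
    (-110) (.split 0 69 (.lin 3) (.split 7 61 (.lin 9) (.splitN 28799 .sq (.split 4 8 (.wt 0)
    (.split 1 (-119) (.split 0 78 (.lin 3) (.split 3 (-65) .sq (.lin 10))) (.lin 0)))))) (.lin
    0)) (.splitN 31570 (.split 1 (-146) .sq (.split 2 (-63) (.lin 0) (.split 5 95 (.split 7 89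
    (.split 3 (-111) (.lin 11) (.splitN 17023 (.wt 1) (.split 4 11 (.splitN 25166 (.split 7 36
    (.wt 3) (.split 1 (-92) (.split 0 51 (.lin 12) (.split 0 85 (.split 1 (-115) .sq (.split 2
    (-36) (.lin 0) (.split 5 68 (.split 5 59 (.split 7 62 (.split 3 (-84) (.lin 11) (.splitN
    23382 (.split 6 (-43) (.wt 2) (.split 7 59 (.split 0 61 (.split 6 (-29) (.split 7 44 (.wt 0)
    (.split 3 (-65) (.split 1 (-101) .sq (.lin 8)) (.lin 6))) (.wt 6)) (.lin 12)) (.wt 3))) (.wt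
    1))) (.lin 8)) (.lin 4)) (.lin 0)))) .sq)) (.lin 8))) (.wt 1)) (.split 0 51 (.lin 3) (.split
    7 80 (.splitN 29626 (.split 7 52 (.split 2 (-18) (.lin 9) (.split 0 61 (.split 6 (-38) (.lin
    3) (.splitN 24085 (.wt 0) (.wt 1))) (.lin 12))) (.wt 0)) (.wt 1)) (.lin 8)))))) (.lin 8))
    (.lin 0)))) (.wt 1)))) (.lin 8))) (.wt 1))) (.lin 8)) (.lin 0)) (.lin 4))) (.wt 1)) (.lin
    12)) .sq) (.wt 1)) (.lin 10)) (.lin 0))) (.lin 8)))) (.wt 1))))) (.lin 12))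

def cert5_40_3 : Cert :=
  (.split 5 12 (.splitN 28217 (.wt 1) (.split 7 110 (.split 2 (-81) (.lin 9) (.splitN 104217
    (.split 0 304 (.split 4 268 (.split 3 (-282) (.lin 7) (.split 6 (-42) (.split 1 (-83) (.split
    7 52 (.lin 9) (.split 3 (-212) (.wt 2) (.split 4 205 (.split 0 259 (.split 3 (-180) (.wt 2)
    (.split 0 223 (.split 4 160 (.split 3 (-151) (.wt 2) (.split 0 196 (.split 4 133 (.split 3
    (-131) (.wt 2) (.split 0 178 (.split 4 115 (.split 3 (-117) (.wt 2) (.split 4 106 (.split 0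
    160 (.split 3 (-104) (.wt 2) (.split 4 88 (.split 3 (-97) (.wt 2) (.split 0 142 (.split 4 79
    (.split 3 (-89) (.wt 2) (.split 0 133 (.split 2 (-54) (.lin 10) (.split 4 70 (.split 3 (-82)
    (.wt 2) (.split 7 98 (.split 0 124 (.split 4 61 (.split 3 (-71) (.wt 2) (.split 7 89 (.split
    2 (-36) (.lin 10) (.split 1 (-120) (.lin 11) (.split 4 52 (.split 3 (-61) (.wt 2) (.split 7
    80 (.split 0 106 (.split 4 43 (.split 3 (-52) (.wt 2) (.split 7 71 (.split 2 (-18) (.lin 10)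
    (.split 4 34 (.split 3 (-43) (.wt 2) (.split 7 62 (.split 2 (-9) (.lin 10) (.split 4 25
    (.splitN 44407 (.wt 1) (.wt 0)) (.lin 10))) (.lin 6))) (.lin 10))) (.lin 6))) (.lin 10))
    (.lin 7)) (.lin 6))) (.lin 10)))) (.lin 6))) (.lin 10)) (.lin 7)) (.lin 6))) (.lin 10)))
    (.lin 7))) (.lin 10)) (.lin 7))) (.lin 10))) (.lin 7)) (.lin 6))) (.lin 10)) (.lin 7))) (.lin
    10)) (.lin 7))) (.lin 10)) (.lin 7))) (.lin 7)) (.lin 6)))) (.lin 0)) (.splitN 77730 (.split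
    0 258 (.split 1 (-255) (.lin 4) (.split 3 (-228) (.lin 7) (.split 7 61 (.split 2 (-27) (.lin
    9) (.splitN 58005 (.split 0 217 (.split 4 178 (.split 3 (-86) (.split 0 96 (.lin 1) (.split 1
    (-101) (.split 0 114 (.lin 7) (.split 1 (-119) (.split 4 51 (.lin 0) (.split 4 60 (.lin 6)
    (.splitN 41669 .sq (.splitN 52969 (.split 0 155 (.split 3 (-147) (.lin 1) (.split 4 115
    (.split 3 (-129) (.lin 7) (.splitN 51455 (.split 7 35 (.wt 1) (.split 6 (-30) (.split 4 69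
    (.lin 6) (.split 0 123 (.lin 7) (.split 1 (-128) (.splitN 48518 .sq (.split 2 (-12) (.wt 0)
    (.split 4 78 (.lin 0) .sq))) (.lin 11)))) (.wt 2))) (.wt 1))) (.lin 3))) .sq) (.wt 1)))))
    (.lin 11))) (.lin 2))) (.split 1 (-129) (.lin 2) (.split 6 (-33) .cand (.split 1 (-111) (.lin
    11) (.split 3 (-48) (.split 0 78 (.lin 7) (.split 3 (-58) (.split 4 33 (.lin 6) (.split 0 87
    (.lin 7) (.splitN 33141 (.wt 0) (.wt 6)))) (.wt 2))) (.wt 2)))))) (.lin 3)) .sq) (.wt 1)))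
    (.split 3 (-56) (.split 1 (-92) (.split 2 (-26) (.split 0 87 (.lin 12) (.split 4 196 (.splitN
    62736 (.split 0 211 (.split 1 (-210) (.lin 4) (.split 3 (-183) (.lin 7) (.split 6 (-33) .cand
    (.split 2 (-35) (.splitN 42582 (.split 0 157 (.split 3 (-129) (.lin 7) (.wt 2)) (.wt 0)) (.wt
    6)) (.lin 9))))) .sq) (.wt 1)) (.lin 0))) (.lin 9)) (.lin 8)) (.lin 6))))) .sq) (.wt 1))))
    (.lin 3)) .sq) (.wt 1))) (.split 3 (-92) (.split 1 (-146) (.split 2 (-62) (.split 0 141 (.lin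
    12) (.split 4 286 (.splitN 68678 .sq (.splitN 90916 (.split 6 (-35) (.split 4 25 (.wt 0)
    (.split 3 (-101) (.split 1 (-155) (.split 0 150 (.lin 12) (.splitN 76877 .sq (.split 4 34
    (.wt 0) (.split 3 (-110) (.split 1 (-164) (.split 0 159 (.lin 12) (.splitN 85139 .sq (.split
    4 48 (.wt 0) (.split 3 (-119) (.split 1 (-173) .sq (.lin 8)) (.lin 6))))) (.lin 8)) (.lin
    6))))) (.lin 8)) (.lin 6))) (.wt 1)) (.wt 1))) (.lin 0))) (.lin 9)) (.lin 8)) (.lin 6))))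
    (.split 6 (-34) (.split 0 69 (.lin 3) (.split 7 43 (.lin 9) (.split 6 (-38) (.split 0 78
    (.lin 3) (.split 7 52 (.lin 9) (.split 3 (-336) (.lin 11) (.split 0 249 (.split 1 (-273)
    (.lin 4) (.split 3 (-228) (.lin 7) (.split 0 173 (.split 2 (-99) (.lin 3) (.split 1 (-201)
    (.lin 4) (.split 3 (-156) (.lin 7) (.split 0 121 (.split 1 (-147) (.lin 4) (.split 3 (-102)
    (.lin 7) (.splitN 33490 (.split 3 (-67) (.split 0 87 (.lin 7) (.split 1 (-119) .sq (.lin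
    11))) (.wt 0)) (.wt 6)))) (.wt 2))))) (.wt 2)))) (.wt 2))))) (.wt 2)))) (.wt 2)))

def cert5_40_4 : Cert :=
  (.split 4 22 (.splitN 366951 (.split 1 (-4077) (.div 1) (.split 2 (-4032) (.lin 0) (.split 6
    (-4052) (.lin 0) (.split 3 (-8067) (.lin 2) (.split 7 4058 (.splitN 339201 (.split 1 (-3753)
    (.div 1) (.split 0 3742 (.split 7 3734 (.splitN 175657 (.split 1 (-1917) (.div 1) (.split 0
    1906 (.split 2 (-959) (.div 2) (.split 0 409 (.split 7 395 (.splitN 132741 (.split 5 724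
    (.split 3 (-1101) (.lin 6) (.split 0 354 cert5_40_2 .sq)) (.div 5)) (.wt 3)) (.lin 12)) .sq))
    (.lin 4))) (.wt 3)) (.lin 8)) (.lin 4))) (.wt 1)) (.lin 8)))))) (.wt 1)) (.split 1 (-65)
    (.split 0 60 (.lin 3) (.split 3 (-38) (.split 6 (-64) (.split 1 (-101) (.split 0 96 (.lin 3)
    (.split 7 70 (.lin 9) (.splitN 293240 (.split 0 8120 (.split 2 (-8028) (.lin 3) (.split 1
    (-3249) (.div 1) (.split 0 3238 (.split 4 3166 (.split 7 3212 (.splitN 268715 (.split 0 494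
    (.split 4 421 (.split 7 467 (.splitN 179522 (.split 0 396 (.split 4 322 (.split 7 368
    (.splitN 162297 (.split 0 371 (.split 2 (-279) (.lin 3) (.split 4 295 (.split 6 (-335) (.lin
    3) (.split 7 341 (.split 1 (-373) .sq (.split 3 (-579) (.lin 2) (.split 3 (-309) (.lin 11)
    (.split 5 37 (.split 5 12 (.split 3 (-94) (.wt 2) (.split 2 (-63) (.lin 10) (.split 4 79
    (.split 3 (-73) (.wt 2) (.split 2 (-36) (.lin 10) (.split 4 52 (.split 3 (-63) (.wt 2)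
    (.split 2 (-27) (.lin 10) (.split 4 43 (.split 6 (-96) (.wt 2) (.split 0 160 (.split 0 142
    (.split 7 116 (.splitN 58500 (.wt 6) (.split 3 (-51) (.wt 0) (.split 7 107 (.split 4 34 (.wt
    2) (.lin 10)) (.lin 6)))) (.lin 6)) (.lin 7)) (.lin 3))) (.lin 10)))) (.lin 10)))) (.lin
    10)))) (.split 1 (-110) (.split 3 (-47) (.splitN 71128 (.split 0 210 (.split 4 133 (.split 6
    (-173) (.lin 3) (.split 1 (-237) (.lin 4) (.split 3 (-174) (.lin 7) (.split 7 179 (.splitN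
    59286 (.split 0 186 (.split 4 106 (.split 6 (-146) (.lin 3) (.split 1 (-210) (.lin 4) (.split
    3 (-147) (.lin 7) (.split 7 152 (.splitN 55637 (.split 0 168 (.split 4 88 (.split 6 (-128)
    (.lin 3) (.split 7 134 (.split 1 (-176) .sq (.split 3 (-111) (.lin 11) (.splitN 52287 (.split
    0 158 (.split 6 (-119) (.lin 3) (.split 7 125 (.split 1 (-167) .sq (.split 3 (-102) (.lin 11)
    (.split 6 (-65) (.split 1 (-119) (.split 0 105 (.lin 3) (.split 4 70 (.split 7 79 (.lin 9)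
    (.split 3 (-93) (.lin 11) (.split 3 (-50) (.split 1 (-128) (.split 6 (-110) (.lin 11)
    (.splitN 43370 .sq (.splitN 48819 (.split 2 (-15) (.wt 1) (.split 7 116 (.split 4 39 (.wt 1)
    (.split 1 (-137) (.split 3 (-65) .sq (.lin 10)) (.lin 0))) (.lin 2))) (.wt 1)))) (.lin 11))
    (.wt 2)))) (.lin 0))) (.lin 0)) (.wt 2)))) (.lin 12))) .sq) (.wt 1)))) (.lin 12))) (.lin 3))
    .sq) (.wt 1)) (.lin 12))))) (.lin 3)) .sq) (.wt 1)) (.lin 12))))) (.lin 3)) .sq) (.wt 1))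
    (.lin 10)) (.lin 0))) (.split 1 (-137) (.split 4 259 (.split 6 (-299) (.lin 0) (.split 7 305
    (.split 3 (-74) (.splitN 45161 .sq (.split 4 25 (.wt 1) (.split 1 (-146) (.split 3 (-83)
    (.splitN 51479 .sq (.split 0 131 (.split 4 52 (.split 6 (-83) (.lin 3) (.split 7 89 (.wt 1)
    (.lin 12))) (.lin 3)) (.wt 1))) (.lin 10)) (.lin 0)))) (.lin 10)) (.lin 8))) (.lin 0)) (.lin
    0)))))) (.lin 12))) (.lin 3))) .sq) (.wt 3)) (.lin 12)) (.lin 3)) .sq) (.wt 3)) (.lin 12))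
    (.lin 3)) .sq) (.wt 3)) (.lin 8)) (.lin 0)) (.lin 4)))) (.div 0)) (.wt 3)))) (.lin 0))
    (.splitN 203955 (.split 1 (-2241) (.div 1) (.split 4 2194 (.split 2 (-1121) (.div 2) (.split
    7 1169 (.splitN 186208 (.split 0 420 (.split 2 (-360) (.lin 3) (.split 4 376 (.split 7 413
    (.split 7 386 (.splitN 157276 (.split 5 868 (.split 1 (-1272) (.lin 4) (.split 0 384 (.split
    4 340 (.split 7 350 (.split 1 (-386) .sq (.split 3 (-354) (.lin 11) (.split 5 40 cert5_40_3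
    (.splitN 35243 (.split 5 184 (.split 7 89 (.split 2 (-63) (.lin 9) (.split 7 87 (.split 0 115
    (.split 4 79 (.split 1 (-336) (.lin 8) (.split 1 (-291) (.lin 4) (.split 3 (-264) (.lin 7)
    (.split 0 100 (.split 3 (-246) (.lin 7) (.splitN 32913 (.split 5 166 (.split 3 (-228) (.lin
    7) (.split 7 58 (.split 6 (-47) (.lin 9) (.wt 2)) (.wt 0))) (.div 5)) (.wt 6))) (.wt 2)))))
    (.lin 3)) (.wt 2)) (.wt 0))) (.wt 0)) (.div 5)) (.wt 6))))) (.lin 12)) (.lin 3)) .sq)) (.div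
    5)) (.wt 1)) (.lin 12)) (.lin 9)) (.lin 3))) .sq) (.wt 1)) (.lin 9))) (.lin 0))) (.wt 1)))
    (.lin 10))) (.lin 0)))

def cert5_40_5 : Cert :=
  (.split 4 19 (.split 5 22 (.lin 10) (.splitN 34740 (.split 5 184 (.split 3 (-192) (.lin 10)
    (.split 1 (-169) .sq (.split 3 (-138) (.lin 2) (.split 2 8 (.splitN 19682 (.split 1 (-111)
    .sq (.split 3 (-84) (.lin 2) (.split 6 (-51) (.split 1 (-92) (.split 7 52 (.lin 9) .sq) (.lin
    11)) (.split 7 44 (.splitN 16614 (.split 4 14 (.split 5 31 (.lin 10) (.split 7 29 (.wt 1)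
    (.split 0 42 (.lin 12) (.split 6 (-37) (.split 1 (-82) .sq (.split 5 32 (.split 0 43 (.split
    6 (-38) (.lin 0) (.split 3 (-39) (.lin 1) (.wt 0))) (.lin 4)) (.lin 0))) (.lin 3))))) (.wt
    0)) (.wt 1)) (.lin 9))))) (.wt 1)) (.split 6 (-37) (.split 7 80 (.split 5 31 (.lin 10)
    (.splitN 32298 (.splitN 15651 (.wt 1) (.split 1 (-156) .sq (.split 7 45 (.split 0 61 (.splitN
    28140 (.split 1 (-145) .sq (.split 3 (-102) (.lin 2) (.split 4 11 (.split 5 40 (.lin 10)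
    (.splitN 19720 (.split 5 94 (.split 7 27 (.wt 0) (.split 0 42 (.lin 12) (.split 6 (-46) (.wt
    1) (.lin 3)))) (.div 5)) (.wt 3))) (.split 5 95 (.split 0 42 (.lin 12) (.splitN 17929 (.wt 1)
    (.split 6 (-64) (.split 2 18 (.lin 3) (.split 1 (-101) (.split 5 40 (.lin 4) (.split 3 (-75)
    (.lin 11) (.splitN 20564 .sq (.splitN 26524 (.split 7 29 (.wt 0) (.split 0 51 (.lin 12)
    (.split 1 (-108) .sq (.split 3 (-39) (.lin 11) (.split 6 (-65) (.lin 11) (.wt 0)))))) (.wt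
    1))))) (.lin 11))) (.split 2 28 (.splitN 25406 (.split 1 (-130) .sq (.split 7 35 (.split 6
    (-46) (.split 1 (-83) (.split 1 (-127) .sq (.split 3 (-75) (.lin 11) (.split 7 30 (.splitN
    21458 .cand (.wt 0)) (.split 2 19 (.splitN 21473 (.wt 0) (.wt 1)) (.lin 9))))) (.lin 11))
    (.split 2 10 (.split 7 26 (.wt 1) (.lin 9)) (.lin 9))) (.split 0 60 (.lin 12) (.split 3 (-75)
    (.lin 2) (.wt 0))))) (.wt 1)) (.lin 3))))) (.lin 8))))) (.wt 1)) (.lin 12)) (.split 1 (-101)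
    (.split 2 37 (.split 0 60 (.lin 12) (.split 3 (-93) (.lin 2) (.split 6 (-64) (.splitN 23444
    .sq (.split 4 7 (.wt 0) (.split 0 69 (.lin 12) (.splitN 29819 (.split 3 (-43) (.split 1
    (-110) (.split 5 40 (.lin 10) .sq) (.lin 2)) (.wt 0)) (.wt 1))))) (.lin 9)))) (.lin 9)) (.lin
    2))))) (.wt 1))) (.lin 9)) (.lin 9)))))) (.div 5)) (.wt 1))) (.split 0 51 (.lin 12) (.split 5
    31 (.split 1 (-165) (.lin 0) (.split 2 37 (.split 3 (-75) (.lin 10) (.split 2 6 (.splitN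
    28576 (.split 6 (-51) (.split 1 (-83) (.split 0 78 (.lin 3) (.split 1 (-92) (.split 7 52
    (.lin 9) (.splitN 22634 .sq (.split 5 8 (.split 0 87 (.lin 1) (.splitN 24668 .sq (.split 3
    (-39) (.split 1 (-101) (.split 4 42 (.lin 10) .sq) (.lin 2)) (.wt 1)))) (.wt 1)))) (.lin
    11))) (.lin 0)) (.split 1 (-120) (.lin 0) (.split 7 44 (.splitN 22803 (.split 5 10 (.split 0
    60 (.lin 1) (.split 3 (-57) (.lin 10) (.split 4 33 (.lin 10) (.splitN 17470 (.wt 3) (.split 7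
    40 (.split 6 (-38) (.lin 9) (.split 0 85 (.split 1 (-84) (.lin 4) (.split 7 34 (.split 6
    (-29) (.lin 9) (.wt 1)) (.wt 0))) (.wt 1))) (.wt 0)))))) (.wt 2)) (.wt 1)) (.lin 9)))) (.wt
    1)) (.split 1 (-156) (.lin 0) (.split 1 (-74) (.split 0 133 (.split 6 (-37) (.split 7 80
    (.split 3 (-66) (.lin 10) (.split 5 10 (.split 4 42 (.lin 10) (.splitN 27333 (.wt 1) (.split
    6 (-70) (.wt 2) (.split 0 106 (.split 7 53 (.split 6 (-56) (.wt 2) (.split 7 44 (.split 6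
    (-50) (.wt 2) (.split 7 35 (.split 6 (-44) (.wt 2) (.split 2 10 (.split 7 26 (.wt 0) (.lin
    9)) (.lin 9))) (.lin 9))) (.lin 9))) (.lin 9)) (.lin 3))))) (.split 6 (-39) (.split 0 60
    (.lin 7) (.split 7 45 (.split 1 (-120) (.lin 8) (.split 6 (-83) (.lin 6) (.splitN 32064
    (.split 7 35 (.split 6 (-74) (.lin 6) (.split 1 (-111) (.lin 8) (.splitN 29159 (.split 7 30
    (.split 3 (-57) (.lin 6) (.split 2 18 (.lin 9) (.split 4 33 (.lin 6) (.split 6 (-65) (.lin 6)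
    (.splitN 25247 (.split 3 (-43) (.split 4 42 (.lin 6) (.split 6 (-56) (.lin 6) (.wt 0))) (.wt
    0)) (.wt 1)))))) (.split 4 50 (.split 3 (-57) (.lin 6) (.split 6 (-65) (.lin 6) (.split 3
    (-39) (.split 4 33 (.lin 6) (.split 6 (-56) (.lin 6) (.wt 0))) (.wt 0)))) (.wt 0))) (.wt
    1)))) (.split 0 69 (.lin 1) (.split 6 (-55) (.split 4 46 (.split 3 (-57) (.lin 6) (.split 1
    (-111) (.lin 8) (.split 6 (-74) (.lin 6) (.split 3 (-40) (.split 4 33 (.lin 6) (.split 6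
    (-65) (.lin 6) (.wt 0))) (.wt 0))))) (.wt 0)) (.lin 9)))) (.wt 1)))) (.split 0 78 (.lin 1)
    (.split 6 (-64) (.split 3 (-48) (.split 0 96 (.lin 1) (.split 1 (-119) (.split 2 19 (.split 4
    42 (.lin 10) (.splitN 35756 .sq (.wt 1))) (.lin 10)) (.lin 2))) (.wt 2)) (.lin 9))))) (.wt
    2)))) (.lin 9)) (.lin 9)) (.lin 3)) (.lin 2))))) (.lin 10))) (.split 1 (-83) (.splitN 36411
    (.split 6 (-37) (.split 1 (-169) .sq (.split 3 (-138) (.lin 2) (.split 3 (-129) (.lin 11)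
    (.splitN 35920 (.split 6 (-40) (.split 3 (-120) (.lin 11) (.split 1 (-157) .sq (.split 2 8
    (.split 1 (-101) (.split 0 69 (.lin 3) (.split 7 43 (.lin 9) (.split 3 (-56) (.splitN 23939
    .sq (.wt 1)) (.lin 10)))) (.lin 0)) (.split 7 45 (.splitN 30259 (.split 1 (-146) .sq (.split
    3 (-93) (.lin 11) (.split 7 35 (.splitN 27917 (.split 1 (-134) .sq (.split 5 77 (.split 3
    (-84) (.lin 11) (.split 6 (-69) (.split 2 36 (.lin 9) (.split 1 (-110) (.split 3 (-57) (.lin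
    11) (.splitN 25271 .sq (.split 0 76 (.split 5 40 (.lin 4) (.split 4 43 (.wt 1) (.lin 12)))
    (.wt 1)))) (.lin 11))) (.split 2 37 (.splitN 26429 (.splitN 20385 (.wt 3) (.split 7 34
    (.split 0 65 (.split 4 34 (.wt 1) (.lin 12)) (.wt 1)) (.wt 5))) (.wt 1)) (.lin 9)))) (.lin
    4))) (.wt 1)) (.split 2 46 (.split 0 69 (.lin 12) (.split 3 (-84) (.lin 2) (.split 6 (-55)
    (.splitN 29203 (.split 3 (-63) (.split 1 (-119) .sq (.lin 2)) (.wt 0)) (.wt 1)) (.lin 9))))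
    (.lin 9))))) (.wt 1)) (.split 1 (-110) (.split 2 37 (.split 0 78 (.lin 12) (.split 3 (-93)
    (.lin 2) (.split 6 (-64) (.splitN 28439 .sq (.wt 6)) (.lin 9)))) (.lin 9)) (.lin 8)))))) (.wt
    2)) (.wt 1))))) (.wt 2)) (.wt 1)) (.lin 4)))))

def cert5_40_6 : Cert :=
  (.split 7 350 (.split 1 (-422) .sq (.split 2 352 (.split 3 (-390) (.lin 2) (.split 6 (-380)
    (.lin 11) (.split 6 (-104) (.split 1 (-146) (.splitN 46808 .sq (.splitN 100503 (.split 7 38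
    (.wt 0) (.split 0 105 (.lin 12) (.splitN 51560 .sq (.split 5 20 (.split 0 132 (.lin 4)
    (.splitN 58013 .sq (.split 7 53 (.wt 0) (.split 4 349 (.splitN 59921 .sq (.split 2 1 (.wt 1)
    (.split 5 11 (.split 0 141 (.lin 4) (.split 7 83 (.wt 0) (.split 1 (-155) (.split 4 322
    (.splitN 71918 .sq (.split 7 112 (.wt 0) (.split 1 (-182) (.split 0 177 (.lin 12) (.split 6
    (-127) .sq (.lin 9))) (.lin 8)))) (.lin 8)) (.lin 8)))) (.wt 1)))) (.lin 8))))) (.wt 1)))))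
    (.wt 3))) (.lin 11)) (.split 2 73 (.split 7 98 (.splitN 90589 (.split 0 270 (.split 4 313
    (.split 4 241 (.split 1 (-272) .sq (.split 3 (-237) (.lin 2) (.split 5 29 (.split 2 8 (.split
    3 (-65) (.splitN 25640 .sq (.splitN 30208 (.split 5 6 (.split 7 30 (.wt 0) (.split 0 96 (.lin
    1) (.split 1 (-101) (.split 6 (-37) .sq (.lin 9)) (.lin 2)))) (.wt 1)) (.wt 1))) (.lin 10))
    (.split 6 (-37) (.split 7 89 (.splitN 84642 (.split 0 256 (.split 4 223 (.splitN 78268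
    (.split 1 (-246) .sq (.split 3 (-210) (.lin 2) (.split 5 10 (.splitN 27284 (.wt 1) (.split 7
    48 (.split 6 (-71) (.wt 2) (.split 2 37 (.splitN 49211 (.split 0 174 (.split 1 (-174) (.lin
    4) (.split 4 142 (.split 6 (-64) (.wt 2) (.split 2 28 (.split 7 35 (.split 3 (-92) (.wt 2)
    (.split 0 142 (.split 0 133 (.split 1 (-138) (.lin 11) (.split 4 124 (.split 3 (-76) (.wt 2)
    (.split 4 97 (.split 3 (-71) (.wt 2) (.split 6 (-49) (.wt 2) (.split 3 (-47) (.split 2 19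
    (.split 4 79 (.split 7 26 (.wt 0) (.split 3 (-56) (.split 1 (-101) (.split 2 10 (.split 0 96
    (.lin 12) (.split 4 70 (.split 6 (-46) (.splitN 29933 .sq (.wt 0)) (.lin 9)) (.lin 6))) (.lin
    9)) (.lin 8)) (.lin 6))) (.lin 6)) (.lin 9)) (.lin 6)))) (.lin 6))) (.lin 0))) (.lin 7))
    (.lin 1))) (.split 3 (-120) (.lin 1) (.split 3 (-56) (.split 1 (-110) (.split 2 10 (.split 4
    124 (.split 6 (-55) (.splitN 37249 (.wt 1) (.wt 0)) (.lin 9)) (.lin 6)) (.lin 9)) (.lin 8))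
    (.lin 6)))) (.lin 9))) (.lin 8))) .sq) (.wt 3)) (.lin 9))) (.split 1 (-119) (.split 4 187
    (.split 6 (-64) (.split 3 (-59) (.wt 2) (.split 0 151 (.split 1 (-156) (.lin 11) (.split 4 97
    (.split 3 (-47) (.wt 2) (.split 4 79 (.split 0 133 (.split 2 27 (.lin 10) (.split 7 71
    (.split 6 (-82) (.splitN 48580 (.wt 1) (.wt 0)) (.lin 6)) (.lin 1))) (.lin 7)) (.lin 6)))
    (.lin 6))) (.lin 7))) (.lin 9)) (.lin 8)) (.lin 8)))) (.split 1 (-101) (.split 4 205 (.splitN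
    42804 (.split 6 (-42) (.split 0 145 (.split 3 (-129) (.lin 1) (.split 1 (-165) (.lin 4)
    (.split 3 (-120) (.lin 7) (.split 4 124 (.split 7 80 (.split 6 (-48) (.split 3 (-111) (.lin
    7) (.splitN 27107 .sq (.split 7 29 (.wt 1) (.split 1 (-110) (.split 0 96 (.lin 12) (.split 4
    106 (.splitN 31220 .sq (.split 7 40 (.wt 1) (.split 1 (-119) (.split 2 55 (.split 0 105 (.lin
    12) (.split 4 97 (.splitN 35819 .sq (.splitN 39499 (.split 7 72 (.split 2 10 (.wt 1) (.split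
    6 (-64) .sq (.lin 9))) (.wt 0)) (.wt 1))) (.lin 12))) (.lin 9)) (.lin 8)))) (.lin 12))) (.lin
    8))))) (.wt 2)) (.lin 12)) (.lin 8))))) .sq) (.wt 2)) (.wt 1)) (.lin 8)) (.lin 8))))) (.wt
    3)) (.lin 12)) .sq) (.wt 1)) (.lin 9)) (.lin 9))) (.split 1 (-119) (.split 4 205 (.splitN
    29555 .sq (.splitN 37704 (.split 2 2 (.wt 1) (.split 6 (-37) (.split 7 89 (.splitN 30239 .sq
    (.split 6 (-52) (.split 3 (-210) (.lin 11) (.split 7 87 (.splitN 36238 (.split 7 66 (.split 3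
    (-72) .sq (.wt 1)) (.wt 0)) (.wt 1)) (.wt 0))) (.wt 1))) (.lin 9)) (.lin 9))) (.wt 1))) (.lin
    8)) (.lin 8))))) (.lin 12)) (.lin 3)) .sq) (.wt 1)) (.lin 9)) (.lin 9))))) (.lin 2))) (.lin
    12))

def cert5_40_7 : Cert :=
  (.split 4 19 (.split 3 (-20) (.split 1 (-47) (.split 5 21 (.split 2 10 (.split 6 (-53) (.split
    0 51 (.lin 3) (.split 0 60 (.lin 7) (.split 1 (-74) (.split 7 43 (.lin 6) (.splitN 14633 .sq
    (.split 2 3 (.split 7 52 (.lin 9) (.splitN 24512 (.split 1 (-116) .sq (.split 7 89 (.split 6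
    (-92) (.lin 9) (.split 4 11 (.split 3 (-21) (.lin 10) (.split 5 13 (.lin 10) (.wt 1)))
    (.splitN 19393 (.wt 0) (.split 5 8 (.split 3 (-21) (.lin 10) (.splitN 21940 (.wt 0) (.wt 1)))
    (.wt 1))))) (.lin 2))) (.wt 1))) (.split 3 (-21) (.lin 10) (.split 4 15 (.lin 10) (.split 5
    13 (.lin 10) (.splitN 31085 (.wt 0) (.wt 1)))))))) (.lin 11)))) (.split 1 (-75) (.lin 0)
    (.split 7 44 (.split 2 3 (.split 4 11 (.split 3 (-21) (.lin 10) (.split 5 13 (.lin 10) (.wt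
    2))) (.split 0 42 (.lin 3) (.splitN 15688 (.wt 0) (.split 5 11 (.split 3 (-21) (.lin 10)
    (.splitN 17453 (.wt 0) (.wt 1))) (.wt 1))))) (.split 0 52 (.split 7 35 (.split 3 (-21) (.lin
    10) (.split 4 15 (.lin 10) (.split 5 13 (.lin 10) (.splitN 25356 (.wt 0) (.wt 1))))) (.lin
    1)) (.lin 3))) (.lin 9)))) (.lin 10)) (.split 1 (-56) (.split 2 8 (.split 4 7 (.splitN 16703
    (.split 7 53 (.split 1 (-84) (.lin 2) (.split 6 (-56) (.lin 0) (.split 7 39 (.split 1 (-66)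
    (.lin 2) (.split 6 (-38) (.lin 0) (.wt 1))) (.wt 0)))) (.wt 0)) (.wt 1)) (.lin 10)) (.split 6
    (-37) (.split 7 89 (.splitN 15107 (.wt 1) (.split 7 48 (.split 0 61 (.split 4 11 (.split 0 52
    (.splitN 22912 (.split 1 (-127) .sq (.split 6 (-69) (.split 2 27 (.lin 3) (.split 1 (-92)
    (.split 5 40 (.lin 4) (.splitN 18539 .sq (.split 0 39 (.wt 0) (.split 7 38 (.wt 0) .sq))))
    (.lin 11))) (.split 2 37 (.split 1 (-93) (.lin 11) (.split 5 77 (.split 5 59 (.split 7 35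
    (.split 0 43 (.splitN 20029 (.split 7 34 (.split 0 34 (.split 3 (-25) (.wt 0) (.split 1 (-84)
    (.lin 2) (.split 6 (-50) (.wt 0) (.split 2 19 (.split 5 32 (.split 6 (-39) (.split 1 (-65)
    (.wt 0) (.lin 11)) (.wt 0)) (.lin 1)) (.lin 3))))) (.lin 12)) (.wt 3)) (.wt 3)) (.lin 12))
    (.split 1 (-74) (.split 2 19 (.split 0 51 (.lin 12) (.split 5 41 (.split 6 (-55) (.splitN
    18233 (.wt 0) (.split 3 (-26) (.wt 0) (.wt 0))) (.lin 3)) (.lin 1))) (.lin 9)) (.lin 2)))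
    (.lin 4)) (.lin 1))) (.lin 3)))) (.wt 1)) (.lin 12)) (.split 0 42 (.lin 12) (.split 3 (-21)
    (.split 6 (-59) (.split 2 18 (.lin 3) (.split 1 (-92) (.split 5 31 (.lin 4) (.splitN 25686
    (.split 7 36 (.split 2 27 (.lin 2) (.splitN 20213 (.wt 3) (.split 7 26 (.wt 0) (.split 0 51
    (.lin 12) (.wt 0))))) (.wt 0)) (.wt 1))) (.lin 11))) (.wt 2)) (.wt 2)))) (.lin 12)) (.split 1
    (-83) (.split 2 46 (.split 0 60 (.lin 12) (.split 6 (-64) (.splitN 29748 (.split 4 13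
    (.splitN 24569 (.split 1 (-109) .sq (.split 2 28 (.split 7 71 (.split 6 (-83) (.lin 11)
    (.splitN 23234 (.split 3 (-23) (.split 1 (-92) (.split 5 31 (.lin 10) .sq) (.lin 2)) (.wt 0))
    (.wt 1))) (.lin 2)) (.lin 2))) (.wt 1)) (.wt 0)) (.wt 1)) (.lin 9))) (.lin 9)) (.lin 2))))
    (.lin 9)) (.lin 9))) (.lin 8))) (.lin 2)) (.split 4 14 (.split 5 10 (.split 2 1 (.splitN
    19403 (.split 6 (-29) (.split 0 42 (.lin 3) (.split 7 34 (.lin 1) (.wt 2))) (.wt 0)) (.wt 1))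
    (.lin 10)) (.wt 2)) (.wt 2))) (.split 1 (-56) (.split 0 51 (.lin 12) (.split 3 (-13) (.split
    5 24 (.split 2 55 (.split 6 (-30) (.split 2 7 (.split 1 (-65) (.split 0 60 (.lin 3) (.split 7
    34 (.lin 1) (.split 3 (-29) (.split 4 25 (.splitN 25875 (.split 7 79 (.split 1 (-102) (.lin
    2) (.split 6 (-74) (.lin 0) (.split 7 64 (.split 1 (-93) (.lin 2) (.split 6 (-65) (.lin 0)
    (.splitN 23125 (.split 6 (-50) (.split 1 (-83) (.split 0 78 (.lin 3) (.split 7 52 (.lin 1)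
    .sq)) (.lin 0)) (.wt 0)) (.wt 1)))) (.wt 0)))) (.wt 0)) (.wt 1)) (.lin 10)) (.lin 10))))
    (.lin 0)) (.split 7 89 (.splitN 22102 (.wt 3) (.split 5 22 (.split 2 46 (.split 7 48 (.split
    1 (-111) (.lin 8) (.split 0 97 (.split 6 (-92) (.lin 6) (.split 5 9 (.split 1 (-102) (.lin 4)
    (.split 2 37 (.split 6 (-83) (.lin 6) (.splitN 24916 (.wt 1) (.split 6 (-60) (.split 4 33
    (.lin 6) (.split 0 78 (.lin 7) (.split 2 18 (.lin 9) (.split 1 (-83) (.split 3 (-29) (.wt 2)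
    (.splitN 41533 (.split 7 41 (.split 2 27 (.lin 9) (.split 4 42 (.lin 6) (.split 6 (-74) (.lin
    6) (.splitN 30286 (.wt 1) (.splitN 35653 (.split 7 29 (.wt 0) (.wt 0)) (.wt 6)))))) (.wt 0))
    (.wt 1))) (.lin 11))))) (.split 0 79 (.split 2 28 (.split 1 (-84) (.lin 11) (.split 7 35
    (.splitN 38447 .cand (.wt 1)) (.split 2 10 (.split 4 34 (.split 6 (-55) (.splitN 37486
    (.splitN 33750 (.wt 1) (.split 3 (-23) (.split 1 (-83) (.wt 0) (.lin 2)) (.wt 0))) (.wt 1))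
    (.lin 9)) (.lin 6)) (.lin 9)))) (.lin 9)) (.lin 7))))) (.lin 10))) (.splitN 28399 (.split 7
    35 (.split 6 (-83) (.lin 6) (.splitN 26014 (.split 0 66 (.split 6 (-56) (.lin 7) (.wt 0))
    (.wt 0)) (.wt 6))) (.wt 0)) (.wt 6)))) (.lin 12))) (.split 0 69 (.lin 1) (.split 1 (-83)
    (.split 0 78 (.lin 12) (.splitN 33257 (.wt 5) (.split 5 13 (.split 2 37 (.split 3 (-25) .cand
    (.split 0 98 (.split 1 (-102) (.lin 4) (.split 6 (-83) (.lin 7) (.wt 2))) (.wt 2))) (.lin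
    10)) (.wt 1)))) (.lin 2)))) (.lin 10)) (.wt 6))) (.lin 9))) (.wt 2)) (.lin 10)) (.wt 2)) (.wt
    2))) (.lin 8)))

def cert5_40_8 : Cert :=
  (.split 4 55 (.splitN 162863 (.split 0 399 (.split 7 386 (.split 1 (-400) .sq (.split 2 361
    (.split 6 (-389) (.lin 11) (.split 6 (-105) (.split 1 (-119) (.splitN 28070 .sq (.splitN
    124450 (.split 0 311 (.split 7 296 (.splitN 119294 (.split 1 (-322) .sq (.split 6 (-308)
    (.lin 11) (.split 4 19 (.splitN 80283 (.split 0 227 (.split 7 215 (.split 1 (-255) .sq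
    (.split 6 (-245) (.lin 11) (.splitN 74982 (.split 0 212 (.split 7 197 (.split 1 (-242) .sq
    (.split 2 199 (.split 6 (-227) (.lin 11) (.split 3 (-20) (.split 1 (-128) (.splitN 30572 .sq
    (.split 7 32 (.wt 0) (.split 0 42 (.lin 12) (.split 5 48 (.split 0 87 (.lin 4) (.split 2 37
    (.split 7 61 (.lin 2) (.splitN 41525 .sq (.split 2 1 (.wt 1) (.split 5 13 (.lin 10) (.wt
    1))))) (.lin 10))) (.wt 1))))) (.lin 11)) (.split 5 21 (.split 0 105 (.lin 4) (.split 2 19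
    (.split 7 79 (.lin 1) (.splitN 45395 .sq (.wt 1))) (.lin 10))) (.wt 1)))) (.lin 2))) (.lin
    12)) .sq) (.wt 1)))) (.lin 12)) .sq) (.wt 1)) (.split 0 51 (.lin 12) (.split 7 278 (.splitN
    30194 .sq (.split 5 35 (.split 0 87 (.lin 4) (.split 2 73 (.split 7 34 (.lin 6) (.splitN
    91330 (.split 3 (-14) (.split 7 43 (.lin 6) (.split 0 96 (.lin 7) (.split 1 (-128) (.splitN
    40661 .sq (.split 5 16 (.split 0 114 (.lin 4) (.split 7 61 (.lin 6) (.splitN 46385 .sq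
    (.split 2 1 (.wt 1) (.split 5 9 (.split 0 123 (.lin 4) (.split 2 37 (.split 7 70 (.lin 6)
    (.split 0 231 (.split 7 197 (.split 6 (-209) (.lin 7) (.splitN 77773 (.split 0 201 (.split 6
    (-182) (.lin 7) (.split 3 (-25) (.split 7 161 (.split 0 132 (.lin 7) (.split 2 28 (.split 1
    (-137) (.split 7 79 (.lin 1) (.split 4 33 (.lin 10) (.splitN 56861 .sq (.splitN 71280 (.split
    7 99 (.wt 0) (.split 0 141 (.lin 1) (.split 1 (-146) (.split 6 (-118) .sq (.lin 6)) (.lin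
    2)))) (.wt 0))))) (.lin 11)) (.lin 10))) (.lin 1)) (.split 4 34 (.split 7 88 (.lin 6) (.split
    2 19 (.splitN 52712 .sq (.wt 6)) (.lin 10))) (.wt 2)))) .sq) (.wt 1))) (.lin 1)) .sq)) (.lin
    10))) (.wt 1)))))) (.wt 1))) (.lin 11)))) (.wt 2)) (.wt 1))) (.lin 10))) (.wt 6))) (.lin
    12)))))) (.wt 1)) (.lin 12)) .sq) (.wt 1))) (.lin 11)) (.split 0 124 (.split 2 73 (.split 1
    (-129) (.lin 11) (.split 5 167 (.split 7 116 (.split 5 95 (.split 7 98 (.splitN 78915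
    cert5_40_7 (.wt 1)) (.lin 9)) (.lin 4)) (.lin 2)) (.lin 0))) (.lin 9)) (.lin 7)))) (.lin 2)))
    (.lin 12)) .sq) (.wt 1)) (.split 1 (-92) (.split 2 36 (.lin 10) (.split 0 87 (.lin 12)
    (.split 7 413 (.split 6 (-64) (.splitN 26216 .sq (.splitN 123433 (.split 3 (-13) (.split 5 20
    (.split 0 319 (.split 2 280 (.split 6 (-308) (.lin 7) (.split 4 304 (.split 4 286 (.split 7
    251 (.splitN 107623 (.split 0 292 (.split 1 (-300) (.lin 4) (.split 6 (-281) (.lin 7) (.split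
    7 233 (.split 7 77 (.splitN 72020 (.split 0 230 (.split 1 (-237) (.lin 4) (.split 6 (-218)
    (.lin 7) (.split 4 196 (.split 7 48 (.splitN 54911 (.split 0 183 (.split 2 145 (.split 1
    (-192) (.lin 4) (.split 6 (-173) (.lin 7) (.split 4 151 (.split 5 13 (.split 6 (-164) (.lin
    7) (.splitN 29984 (.wt 1) (.split 7 35 (.splitN 46051 (.split 0 155 (.split 1 (-156) (.lin 4)
    (.split 6 (-137) (.lin 7) (.split 4 133 (.split 3 (-25) (.splitN 35080 (.wt 6) (.split 6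
    (-102) (.wt 0) (.split 4 97 (.split 0 124 (.wt 2) (.lin 7)) (.lin 6)))) (.split 6 (-73)
    (.split 2 45 (.lin 10) (.splitN 41991 (.split 0 137 (.split 2 91 (.split 1 (-138) (.lin 4)
    (.split 6 (-119) (.lin 7) (.split 4 106 (.split 7 30 (.split 6 (-110) (.wt 0) (.split 4 97
    (.split 0 124 (.split 6 (-100) (.wt 0) (.split 4 79 (.split 0 106 (.split 2 64 (.wt 3) (.lin
    9)) (.lin 7)) (.lin 6))) (.lin 7)) (.lin 6))) (.split 0 96 (.lin 1) (.splitN 37405 (.wt 0)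
    (.split 4 96 (.split 6 (-110) (.lin 6) (.split 2 73 (.split 4 81 (.split 6 (-101) (.lin 6)
    (.wt 1)) (.wt 0)) (.lin 9))) (.wt 0))))) (.lin 6)))) (.lin 1)) .sq) (.wt 1))) (.lin 6)))
    (.lin 6)))) .sq) (.wt 3)) (.split 0 96 (.lin 1) (.split 1 (-101) (.split 1 (-110) (.split 2
    118 (.split 0 105 (.lin 12) (.split 6 (-82) (.split 4 133 (.splitN 51537 (.split 0 151
    (.split 1 (-156) (.lin 4) (.split 6 (-137) (.lin 7) (.split 4 115 (.split 4 106 (.split 3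
    (-29) (.wt 2) (.split 2 45 (.lin 1) (.splitN 44149 (.wt 0) (.wt 1)))) (.lin 8)) (.lin 6))))
    .sq) (.wt 1)) (.lin 12)) (.lin 6))) (.lin 9)) (.lin 8)) (.lin 2)))))) (.wt 2)) (.lin 12))))
    (.lin 1)) .sq) (.wt 1)) (.split 1 (-110) (.split 1 (-119) (.split 0 114 (.lin 12) (.split 6
    (-91) (.split 4 169 (.splitN 43991 .sq (.splitN 66652 (.split 5 8 (.split 2 154 (.split 0 186
    (.split 1 (-183) (.lin 4) (.split 6 (-164) (.lin 7) (.split 4 124 (.split 3 (-25) (.split 6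
    (-116) (.wt 2) (.split 4 79 (.split 0 133 (.split 2 55 (.splitN 55635 (.splitN 51924 (.wt 6)
    (.split 7 63 (.wt 0) (.split 1 (-137) (.split 2 37 (.split 4 61 (.split 6 (-109) .sq (.lin
    0)) (.lin 5)) (.lin 9)) (.lin 2)))) (.wt 0)) (.lin 9)) (.lin 7)) (.lin 6))) (.wt 2)) (.lin
    8)))) .sq) (.lin 1)) (.wt 1)) (.wt 1))) (.lin 12)) (.lin 6))) (.lin 8)) (.lin 2))) (.lin
    12)))) .sq) (.wt 1)) (.split 0 123 (.lin 1) (.split 1 (-137) (.split 1 (-146) (.split 0 141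
    (.lin 12) (.split 4 223 (.split 6 (-118) (.split 4 205 (.splitN 67319 .sq (.splitN 95030
    (.split 5 6 (.split 3 (-21) (.split 7 80 (.wt 0) (.split 0 150 (.lin 1) (.split 1 (-155)
    (.split 6 (-127) (.splitN 76832 .sq (.split 7 104 (.wt 0) (.split 0 168 (.lin 1) (.split 1
    (-173) (.split 6 (-145) .sq (.lin 6)) (.lin 2))))) (.lin 6)) (.lin 2)))) (.wt 6)) (.wt 1))
    (.wt 1))) (.lin 12)) (.lin 6)) (.lin 6))) (.lin 8)) (.lin 2)))) (.lin 8)))) .sq) (.wt 1))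
    (.lin 12)) (.lin 12)) (.lin 6))) (.lin 1)) .sq) (.wt 6)) (.wt 2)) (.wt 1))) (.lin 6)) (.lin
    2)))) (.lin 8)))

def cert5_40_9 : Cert :=
  (.split 7 24 (.splitN 52501 (.split 0 1370 (.split 4 1357 (.split 1 (-549) (.div 1) (.split 0
    538 (.split 2 274 (.split 6 (-290) (.lin 9) (.splitN 48257 (.split 1 (-513) (.div 1) (.split
    0 212 (.split 4 196 (.split 1 (-214) .sq (.split 2 190 (.split 3 (-201) (.lin 2) (.split 6
    (-209) (.lin 9) (.split 6 (-46) (.split 2 27 (.lin 9) (.split 1 (-56) (.splitN 40297 (.splitN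
    9361 (.wt 1) (.splitN 32356 (.split 0 153 (.split 4 142 (.split 1 (-163) .sq (.split 7 12
    (.split 2 36 (.lin 9) (.splitN 13524 (.split 5 58 (.split 4 7 (.wt 0) (.split 0 41 (.wt 1)
    (.split 4 33 (.lin 12) (.wt 1)))) (.div 5)) (.wt 3))) .cand)) (.lin 12)) .sq) (.wt 3))) (.wt
    1)) (.lin 11))) (.split 2 28 (.splitN 32928 (.split 1 (-172) .sq (.split 6 (-20) (.split 1
    (-38) (.splitN 8868 (.wt 1) (.split 7 12 (.splitN 17397 .cand (.wt 0)) .cand)) (.lin 11))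
    (.split 2 10 (.splitN 24324 (.split 5 130 (.split 0 150 (.split 4 142 (.split 1 (-151) .sq
    (.split 7 12 (.splitN 14191 (.split 1 (-115) .sq (.split 3 (-102) (.lin 2) (.split 6 (-15)
    (.split 2 9 (.lin 9) (.splitN 8517 (.wt 1) .cand)) (.split 2 1 (.splitN 7276 (.wt 0) (.wt 1))
    (.lin 9))))) (.wt 1)) (.split 2 1 (.split 0 24 (.lin 12) (.split 3 (-129) (.lin 2) (.split 6
    (-19) (.splitN 15366 (.split 5 76 (.split 4 41 (.split 1 (-120) (.lin 0) (.split 0 52 (.split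
    3 (-102) (.lin 6) (.splitN 10454 (.wt 3) (.split 4 10 (.wt 1) (.split 0 33 (.lin 3) (.split 3
    (-47) (.split 5 13 (.lin 1) (.wt 1)) (.wt 0)))))) (.lin 3))) (.wt 0)) (.div 5)) (.wt 1))
    (.lin 9)))) (.lin 9)))) (.lin 3)) .sq) (.div 5)) (.wt 1)) (.lin 9)))) (.wt 1)) (.lin 9)))))
    (.lin 2))) (.lin 12)) .sq)) (.wt 1))) (.div 2)) (.lin 4))) (.lin 12)) (.div 0)) (.wt 1))
    (.split 1 (-38) (.split 0 33 (.lin 12) (.split 6 (-28) (.splitN 10866 (.wt 3) (.split 3 (-30)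
    (.split 1 (-65) (.splitN 566194 (.split 1 (-6273) (.div 1) (.split 2 6202 (.split 0 6262
    (.split 7 6227 (.split 4 6235 (.splitN 517569 (.split 0 713 (.split 4 682 (.split 7 701
    (.splitN 312377 (.split 5 1732 (.split 3 (-2406) (.lin 1) (.split 0 551 (.split 4 520 (.split
    7 539 (.splitN 274979 (.split 5 1516 (.split 0 515 (.split 4 484 (.split 1 (-519) .sq (.split
    2 451 (.split 5 932 (.split 3 (-1416) (.lin 1) (.split 3 (-489) (.lin 2) (.split 7 476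
    (.split 4 58 (.splitN 143100 (.split 0 364 (.split 7 350 (.splitN 131224 (.split 1 (-356) .sq
    (.split 3 (-327) (.lin 2) (.split 7 314 (.split 5 320 (.split 6 (-95) (.split 1 (-137)
    (.splitN 32120 .sq (.splitN 76604 (.split 4 7 (.wt 0) (.split 0 42 (.lin 12) (.split 7 29
    (.wt 0) (.split 0 51 (.lin 12) (.splitN 34424 .sq (.split 7 37 (.wt 3) (.split 0 60 (.lin 12)
    (.split 0 206 (.split 7 188 (.splitN 67599 (.split 0 181 (.split 7 161 (.split 1 (-220) .sq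
    (.split 2 136 (.split 3 (-120) (.lin 11) (.split 6 (-182) (.lin 11) (.split 5 28 (.split 0
    114 (.lin 4) (.split 2 37 (.split 7 61 (.lin 6) (.split 6 (-164) (.lin 7) (.splitN 47564 .sq
    (.split 4 17 (.wt 0) (.split 7 152 (.split 2 1 (.wt 1) (.split 3 (-66) (.lin 10) (.split 5 9
    (.split 7 134 (.split 0 132 (.lin 4) (.split 2 19 (.split 7 79 (.lin 6) (.split 4 42 (.lin
    10) (.splitN 56276 .sq (.wt 0)))) (.lin 10))) (.lin 1)) (.wt 1)))) (.lin 12)))))) (.lin 10)))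
    (.splitN 37151 .sq (.split 0 127 (.split 7 107 (.wt 1) (.lin 12)) (.wt 1)))))) (.lin 2)))
    (.lin 12)) .sq) (.wt 3)) (.lin 12)) .sq)))))))) (.wt 3))) (.lin 11)) (.split 0 142 (.split 2
    64 (.split 7 89 (.splitN 71635 (.split 1 (-255) .sq (.split 3 (-228) (.lin 2) cert5_40_5))
    (.wt 3)) (.lin 9)) (.lin 9)) (.lin 3))) (.lin 4)) (.lin 2)))) (.wt 3)) (.lin 12)) .sq) (.wt
    3)) (.split 1 (-92) (.split 0 87 (.lin 12) (.split 7 449 (.splitN 209565 (.split 0 439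
    (.split 4 412 (.split 7 377 (.splitN 193577 (.split 0 420 (.split 4 385 cert5_40_6 (.lin 12))
    .sq) (.wt 3)) (.lin 12)) (.lin 12)) .sq) (.wt 3)) (.lin 8))) (.lin 8))) (.lin 2)))) (.lin 0))
    (.lin 2))) (.lin 12)) .sq) (.div 5)) (.wt 3)) (.lin 12)) (.lin 12)) .sq)) (.div 5)) (.wt 3))
    (.lin 12)) (.lin 12)) .sq) (.wt 3)) (.lin 8)) (.lin 2)) (.lin 4)) (.lin 2))) (.wt 3)) (.lin
    2)) (.splitN 377716 (.split 1 (-4185) (.div 1) (.split 7 4166 (.split 6 (-4169) (.lin 11)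
    (.split 2 2092 (.split 4 2113 (.splitN 345998 (.split 2 1912 (.split 0 584 (.split 6 (-2486)
    (.lin 3) (.split 1 (-2514) (.lin 11) (.split 4 556 (.split 7 575 (.splitN 268359 (.split 0
    513 (.split 4 484 (.split 7 503 (.split 1 (-514) .sq (.split 2 469 (.split 6 (-965) (.lin 0)
    (.split 6 (-497) (.lin 11) (.splitN 223994 (.split 0 466 (.split 7 458 (.split 1 (-468) .sq
    (.split 2 424 (.split 6 (-452) (.lin 11) cert5_40_8) (.lin 2))) (.lin 12)) .sq) (.wt 1))))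
    (.lin 2))) (.lin 12)) (.lin 12)) .sq) (.wt 1)) (.lin 12)) (.lin 12)))) .sq) (.div 2)) (.wt
    1)) (.lin 10)) (.div 2))) (.lin 2))) (.wt 1)))) (.lin 9))) (.lin 2)))

def cert5_40 : Cert :=
  (.split 0 15 (.lin 12) (.split 5 (-1) (.split 3 (-5) (.split 0 24 (.lin 7) (.split 1 (-20)
    cert5_40_0 (.lin 11))) (.wt 2)) (.split 1 (-20) (.split 3 (-4) (.split 2 (-1) (.split 1 (-29)
    (.split 0 24 (.lin 3) (.split 7 16 (.lin 9) (.split 3 (-20) (.splitN 8496 (.wt 0) (.split 6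
    (-28) (.split 1 (-47) (.split 0 42 (.lin 3) (.split 7 34 (.lin 9) cert5_40_4)) (.lin 0))
    (.splitN 78318 (.split 1 (-837) (.div 1) (.split 4 808 (.split 2 (-419) (.div 2) (.split 7
    431 (.splitN 71251 (.split 1 (-260) .sq (.split 3 (-246) (.lin 11) (.split 6 (-15) (.split 0
    33 (.lin 3) (.split 7 25 (.lin 9) (.splitN 14430 (.wt 0) .cand))) (.wt 2)))) (.wt 1)) (.lin
    9))) (.lin 0))) (.wt 1)))) (.lin 10)))) (.lin 0)) cert5_40_9) (.wt 2)) (.lin 4))))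

theorem check5_40 :
    check task5 cert5_40
      [(7, ⟨some (7), none⟩), (7, ⟨none, some (-11)⟩), (1, ⟨none, none⟩), (7, ⟨none, some (-2)⟩), (7, ⟨some (7), none⟩), (5, ⟨none, none⟩), (8, ⟨none, some (-10)⟩), (8, ⟨some (8), none⟩)] ⟨some (3960), none⟩ = true := by
  decide +kernel

def cert5_41 : Cert :=
  (.lin 11)

theorem check5_41 :
    check task5 cert5_41
      [(7, ⟨some (7), none⟩), (7, ⟨some (-2), some (-2)⟩), (1, ⟨none, none⟩), (7, ⟨none, some (-2)⟩), (7, ⟨none, none⟩), (5, ⟨none, none⟩), (8, ⟨none, some (-10)⟩), (8, ⟨some (8), none⟩)] ⟨some (3960), none⟩ = true := by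
  decide +kernel

def cert5_42 : Cert :=
  (.wt 2)

theorem check5_42 :
    check task5 cert5_42
      [(7, ⟨some (7), none⟩), (7, ⟨none, some (-2)⟩), (1, ⟨none, none⟩), (7, ⟨none, some (-2)⟩), (7, ⟨none, none⟩), (5, ⟨none, none⟩), (8, ⟨some (-1), some (-1)⟩), (8, ⟨some (8), none⟩)] ⟨some (3960), none⟩ = true := by
  decide +kernel

def cert5_43 : Cert :=
  (.lin 11)

theorem check5_43 :
    check task5 cert5_43
      [(7, ⟨some (7), none⟩), (7, ⟨some (7), none⟩), (1, ⟨none, none⟩), (7, ⟨none, some (-2)⟩), (7, ⟨none, none⟩), (5, ⟨none, none⟩), (8, ⟨none, some (-1)⟩), (8, ⟨some (8), none⟩)] ⟨some (3960), none⟩ = true := by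
  decide +kernel

def cert5_44_0 : Cert :=
  (.split 2 (-17) (.splitN 25758 (.wt 1) (.splitN 106762 (.split 7 316 (.split 6 (-107) (.split 0
    105 (.lin 7) (.split 1 (-92) (.split 7 124 (.lin 2) (.splitN 48320 .sq (.wt 0))) (.lin 11)))
    (.split 0 115 (.split 6 (-69) (.split 1 (-56) (.splitN 39349 (.wt 6) (.split 4 (-43) (.wt 0)
    (.split 2 (-54) (.lin 10) (.split 7 170 (.splitN 42332 (.wt 6) (.split 4 (-25) (.wt 0)
    (.split 7 134 (.splitN 45753 (.wt 6) (.wt 0)) (.lin 6)))) (.lin 1))))) (.lin 11)) (.split 0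
    79 (.split 1 (-48) (.lin 11) (.split 7 121 (.split 2 (-99) (.lin 1) (.split 4 (-84) (.lin 6)
    (.split 6 (-51) (.split 1 (-38) (.split 0 52 (.wt 2) (.split 7 79 (.lin 12) (.split 4 (-33)
    (.wt 2) (.split 2 (-45) (.lin 10) (.splitN 36966 (.wt 1) (.split 5 (-19) (.wt 2) (.split 0 61
    (.split 2 (-27) (.lin 10) (.split 7 89 (.split 1 (-47) (.split 6 (-64) (.wt 0) (.lin 7))
    (.lin 4)) (.lin 1))) (.lin 4)))))))) (.lin 11)) (.split 0 61 (.split 1 (-30) (.lin 11)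
    (.splitN 62061 (.split 4 (-41) (.split 2 (-35) (.split 0 47 (.splitN 43957 .cand (.wt 3))
    (.split 5 (-22) (.split 4 (-66) (.lin 12) (.split 7 97 (.lin 12) (.split 6 (-46) (.wt 2)
    (.split 2 (-62) (.split 1 (-21) (.lin 11) (.split 5 (-31) (.splitN 41394 (.wt 0) (.splitN
    44297 (.split 4 (-53) (.split 2 (-71) (.split 7 106 (.lin 1) (.wt 6)) (.lin 0)) (.wt 0)) (.wt
    1))) (.lin 4))) (.lin 3))))) (.lin 4))) (.lin 0)) (.split 2 (-63) (.lin 0) (.split 2 (-54)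
    (.lin 10) (.split 7 98 (.split 7 75 (.split 0 52 (.split 5 (-22) (.split 0 42 (.lin 4)
    (.split 2 (-26) (.split 7 61 (.lin 2) (.split 4 (-30) (.lin 6) (.split 6 (-42) (.split 4
    (-21) (.lin 6) (.split 0 51 (.lin 7) (.split 2 (-27) (.lin 9) (.split 1 (-29) (.split 5 (-23)
    (.lin 0) (.split 7 70 (.lin 1) (.splitN 41254 (.wt 0) (.wt 0)))) (.lin 11))))) (.split 1
    (-21) (.lin 11) (.split 0 48 (.split 5 (-23) (.lin 4) (.wt 2)) (.wt 2)))))) (.lin 10)))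
    .cand) (.lin 12)) (.split 2 (-35) (.split 0 42 (.lin 12) (.splitN 34013 (.wt 1) (.split 5
    (-22) (.split 4 (-29) (.split 6 (-42) (.split 1 (-29) (.splitN 41433 (.wt 1) (.wt 0)) (.lin
    11)) (.split 7 89 (.split 2 (-44) (.split 1 (-21) (.lin 11) (.splitN 40510 (.wt 0) (.splitN
    45508 (.split 0 50 (.split 2 (-45) (.lin 3) (.split 5 (-23) (.lin 1) (.split 4 (-38) (.split
    7 80 (.wt 0) (.lin 1)) (.lin 0)))) (.wt 0)) (.wt 1)))) (.lin 9)) (.lin 6))) (.split 1 (-29)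
    (.split 2 (-36) (.lin 10) (.split 0 60 (.lin 12) (.split 7 80 (.split 5 (-31) (.split 6 (-46)
    (.splitN 44478 (.wt 0) (.wt 0)) (.lin 0)) (.lin 1)) (.lin 2)))) (.lin 8))) (.split 0 43
    (.split 1 (-29) (.split 2 (-36) (.lin 10) (.split 7 80 (.split 4 (-38) (.split 6 (-46) (.wt
    0) (.lin 0)) (.lin 5)) (.lin 1))) (.lin 8)) (.lin 4))))) (.lin 2))) (.lin 2))))) (.wt 1)))
    (.lin 7))))) (.split 2 (-44) (.split 2 (-62) (.split 4 (-47) (.splitN 57099 (.split 7 215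
    (.splitN 54996 (.split 4 (-173) .sq (.split 6 (-51) (.split 1 (-38) (.wt 2) (.lin 11))
    (.split 4 (-65) (.split 0 61 (.split 2 (-80) (.split 1 (-30) (.lin 11) (.splitN 50008 (.split
    2 (-162) .sq (.split 7 188 (.split 0 47 (.split 4 (-74) (.split 5 (-23) (.lin 4) (.split 4
    (-83) (.splitN 44419 (.split 6 (-46) (.wt 2) (.split 2 (-89) (.split 1 (-21) (.lin 11)
    (.splitN 36724 (.wt 1) (.split 7 157 (.split 5 (-22) (.wt 2) (.split 4 (-92) (.wt 1) (.lin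
    0))) .sq))) (.lin 9))) (.wt 3)) (.lin 12))) (.lin 3)) (.split 5 (-22) (.split 6 (-46) (.wt 2)
    (.split 2 (-89) (.split 1 (-21) (.lin 11) (.split 4 (-74) (.split 5 (-31) (.splitN 45638
    (.split 4 (-82) (.split 2 (-98) (.split 7 133 (.lin 1) (.split 4 (-95) (.split 2 (-116)
    (.split 7 151 (.lin 1) .sq) (.lin 0)) (.wt 0))) (.lin 0)) (.wt 0)) (.wt 1)) (.lin 4)) (.lin
    0))) (.lin 9))) (.lin 4))) .sq)) (.wt 3))) (.lin 9)) (.lin 7)) (.lin 6)))) (.wt 3)) .sq) (.wt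
    3)) (.lin 6)) (.lin 9)) (.lin 1)))) (.lin 7))) (.lin 7))) .sq) (.wt 3))) (.lin 10))

def cert5_44_1 : Cert :=
  (.split 3 11 (.split 2 (-17) (.split 0 45 (.wt 2) (.split 7 70 (.lin 12) (.split 5 (-6) (.wt 2)
    (.split 1 (-47) (.split 6 (-55) (.splitN 26138 (.wt 1) (.wt 0)) (.lin 7)) (.lin 4))))) (.lin
    10)) (.split 6 (-37) (.splitN 137997 (.split 0 363 (.split 1 (-354) (.lin 4) (.split 5 (-338)
    (.lin 4) (.split 4 (-364) .sq (.split 7 365 (.split 0 340 (.split 5 (-320) (.lin 4) (.split 5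
    (-36) (.split 0 60 (.lin 4) (.split 2 (-44) (.split 7 79 (.lin 2) (.splitN 106724 (.split 0
    303 (.split 7 307 (.split 4 (-246) (.lin 6) (.split 6 (-69) (.split 1 (-56) (.wt 2) (.lin
    11)) (.split 1 (-48) (.lin 11) (.splitN 88425 (.splitN 33653 (.wt 1) (.split 7 280 (.split 2
    (-243) (.lin 2) (.split 4 (-67) (.split 2 (-71) (.split 0 232 (.split 2 (-98) (.split 5
    (-212) (.lin 0) (.split 7 133 (.lin 2) (.splitN 58374 (.split 0 138 (.split 5 (-113) (.lin 4)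
    (.split 6 (-53) (.wt 2) (.split 1 (-30) (.lin 11) (.split 2 (-159) .sq (.split 7 197 (.split
    4 (-129) (.lin 10) (.split 5 (-95) (.lin 10) (.splitN 54442 (.split 2 (-148) .sq (.split 5
    (-86) (.lin 10) (.split 7 173 (.split 0 97 (.split 5 (-77) (.lin 4) (.split 4 (-111) (.lin 6)
    (.split 6 (-46) (.wt 2) (.split 1 (-21) (.lin 11) (.splitN 43160 (.wt 0) (.splitN 48051
    (.split 0 79 (.split 5 (-59) (.lin 4) (.split 0 77 (.split 5 (-50) (.lin 4) (.split 4 (-94)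
    (.wt 1) (.wt 6))) (.wt 0))) (.wt 0)) (.wt 1))))))) (.lin 12)) .sq))) (.wt 1)))) (.lin 2))))))
    .sq) (.wt 3)))) (.lin 10)) (.lin 3)) (.lin 0)) (.split 6 (-51) (.split 1 (-38) (.splitN 67497
    (.split 0 100 (.wt 2) (.split 2 (-62) (.split 5 (-58) (.split 0 124 (.wt 2) (.split 2 (-89)
    (.split 5 (-85) (.split 7 151 (.lin 12) (.splitN 61064 .sq (.split 0 183 (.wt 0) (.split 2
    (-143) (.split 7 196 (.lin 2) (.split 5 (-139) .sq (.lin 4))) (.lin 3))))) (.lin 4)) (.lin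
    3))) (.lin 4)) (.lin 3))) (.wt 0)) (.lin 11)) (.split 1 (-30) (.lin 11) (.splitN 73307
    (.split 0 244 (.split 5 (-221) (.lin 4) (.split 7 249 (.split 4 (-37) (.split 2 (-62) (.split
    0 205 (.split 7 97 (.lin 2) (.split 5 (-185) (.lin 4) (.splitN 61601 (.split 7 215 (.split 0
    106 (.split 2 (-135) (.lin 3) (.split 5 (-122) (.lin 0) (.split 7 170 (.split 6 (-42) (.split
    1 (-29) (.wt 2) (.lin 11)) (.split 1 (-21) (.lin 11) (.split 0 73 (.split 2 (-99) (.lin 3)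
    (.split 5 (-50) (.lin 4) (.splitN 44887 (.split 0 62 (.split 5 (-41) (.lin 4) (.wt 0)) (.wt
    0)) (.wt 6)))) (.wt 2)))) (.lin 12)))) (.split 2 (-107) (.split 5 (-85) (.split 7 151 (.lin
    12) (.splitN 58472 .sq (.wt 1))) (.lin 4)) (.lin 3))) .sq) (.wt 1)))) (.lin 12)) (.lin 10))
    (.split 7 139 (.split 0 115 (.split 5 (-95) (.lin 4) (.split 6 (-42) .cand (.split 1 (-21)
    (.lin 11) (.wt 2)))) (.lin 12)) (.split 2 (-98) (.split 0 105 (.lin 3) (.split 0 114 (.lin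
    12) (.split 5 (-85) (.splitN 52928 .sq (.split 0 156 (.split 2 (-144) (.lin 3) (.split 7 188
    (.split 5 (-131) (.lin 4) (.splitN 57861 (.split 1 (-22) (.split 4 (-22) (.wt 1) (.wt 0))
    (.wt 0)) (.wt 6))) (.lin 2))) (.wt 2))) (.lin 4)))) (.lin 2)))) .sq)) .sq) (.wt 1)))))) .sq))
    (.wt 1))))) .sq) .sq) (.wt 3))) (.lin 10))) (.splitN 124349 (.split 6 (-347) .sq (.split 7
    347 (.split 5 (-12) (.split 0 33 (.lin 4) cert5_44_0) (.splitN 42479 (.split 2 (-221) (.div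
    2) (.split 4 (-228) (.lin 10) (.split 6 (-39) (.split 7 52 (.lin 6) (.split 0 33 (.lin 7)
    (.split 1 (-29) (.splitN 38349 (.split 2 (-203) (.div 2) (.split 4 (-210) (.lin 10) (.split 0
    243 (.split 1 (-237) (.lin 4) (.split 6 (-254) (.lin 7) (.split 0 160 (.split 1 (-156) (.lin
    4) (.split 6 (-173) (.lin 7) (.split 0 98 (.split 1 (-93) (.lin 4) (.split 6 (-110) (.lin 7)
    (.split 0 57 (.split 1 (-48) (.lin 4) (.split 6 (-65) (.lin 7) (.wt 2))) (.wt 2)))) (.wt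
    2)))) (.wt 2)))) (.wt 2)))) (.wt 1)) (.lin 11)))) (.wt 2)))) (.wt 1))) .sq)) (.wt 3)))) (.lin
    12)) .sq)))) .sq) (.wt 3)) (.lin 11)))

def cert5_44_2 : Cert :=
  (.split 6 (-87) (.split 0 96 (.lin 7) (.split 1 (-47) (.split 7 115 (.lin 6) (.splitN 70679
    (.split 0 201 (.split 5 (-149) (.lin 4) (.split 7 211 (.split 4 (-47) (.split 5 (-113) (.lin
    6) (.split 2 (-53) (.split 7 142 (.lin 6) (.splitN 48392 .sq (.splitN 55441 (.split 0 116
    (.split 5 (-68) (.lin 4) (.split 6 (-110) (.lin 7) (.split 3 25 (.wt 0) (.splitN 49525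
    (.split 0 104 (.split 3 42 (.lin 7) .sq) (.wt 1)) (.wt 1))))) .sq) (.wt 1)))) (.lin 10)))
    (.split 3 42 (.split 5 (-131) (.lin 6) (.split 0 105 (.lin 7) (.split 2 (-35) (.split 1 (-56)
    (.split 7 124 (.lin 6) (.splitN 64188 (.split 7 187 (.split 0 160 (.split 5 (-104) (.lin 4)
    (.splitN 62189 (.split 7 178 (.split 5 (-95) (.lin 6) (.split 4 (-29) (.split 2 (-44) (.split
    7 133 (.lin 6) (.splitN 55901 (.split 7 165 (.split 5 (-77) (.lin 6) (.split 6 (-119) (.lin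
    6) (.splitN 54441 (.split 0 131 (.split 1 (-75) (.lin 4) (.split 5 (-68) (.lin 4) (.split 6
    (-110) (.lin 7) (.split 3 32 (.split 7 142 (.lin 6) (.split 0 114 (.lin 7) (.split 2 (-53)
    (.split 1 (-65) .sq (.lin 11)) (.lin 10)))) (.wt 2))))) .sq) (.wt 1)))) .sq) (.wt 1))) (.lin
    10)) (.split 3 29 (.split 0 114 (.lin 7) (.split 2 (-44) (.split 1 (-65) (.split 7 133 (.lin
    2) (.split 7 167 (.split 1 (-93) (.lin 2) (.split 0 142 (.split 6 (-119) (.lin 3) (.split 5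
    (-77) (.lin 4) (.splitN 57805 (.split 6 (-94) (.split 0 123 (.lin 3) (.split 1 (-74) (.split
    7 142 (.lin 2) .sq) (.lin 11))) (.wt 2)) (.wt 1)))) (.lin 12))) .sq)) (.lin 11)) (.lin 10)))
    (.wt 2)))) .sq) (.wt 1))) (.lin 12)) .sq) (.wt 1))) (.lin 11)) (.lin 10)))) (.wt 2))) .sq))
    .sq) (.wt 1))) (.lin 11))) (.split 1 (-57) (.lin 11) (.splitN 79027 (.split 7 258 (.split 0
    232 (.split 5 (-212) (.lin 4) (.split 4 (-183) (.lin 8) (.split 4 (-61) (.split 2 (-53)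
    (.split 0 187 (.split 5 (-167) (.lin 4) (.split 7 133 (.lin 8) (.splitN 60331 (.split 3 42
    (.split 2 (-80) (.split 7 194 (.split 0 124 (.split 5 (-104) (.lin 4) (.split 4 (-129) (.lin
    6) (.split 4 (-120) (.lin 8) (.split 1 (-38) (.split 0 87 (.lin 4) (.split 7 151 (.lin 8)
    (.split 6 (-64) (.splitN 50039 .sq (.wt 1)) (.lin 11)))) (.split 6 (-65) (.lin 11) (.split 0
    91 (.split 5 (-68) (.lin 4) (.splitN 52101 (.split 1 (-21) (.split 0 78 (.lin 4) (.split 5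
    (-59) (.lin 4) (.split 7 142 (.lin 8) (.wt 2)))) (.wt 0)) (.wt 1))) (.wt 2))))))) (.lin 12))
    .sq) (.lin 10)) (.wt 2)) (.wt 1)))) (.lin 12)) (.lin 0)) (.split 3 40 (.split 2 (-35) (.split
    6 (-47) (.split 1 (-38) (.split 0 87 (.lin 4) (.split 7 106 (.lin 8) (.split 6 (-64) (.splitN
    64352 (.split 0 201 (.split 5 (-158) (.lin 4) (.split 7 210 (.split 4 (-38) (.split 2 (-44)
    (.split 7 124 (.lin 8) (.splitN 54208 (.splitN 40729 (.wt 3) (.split 3 32 .cand (.wt 2)))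
    (.wt 1))) (.lin 0)) (.split 0 169 (.split 5 (-131) (.lin 4) (.split 0 163 (.split 5 (-122)
    (.lin 4) (.split 0 159 (.split 5 (-113) (.lin 4) (.split 3 28 (.split 2 (-44) (.split 6 (-66)
    (.split 2 (-108) (.lin 3) (.split 0 96 (.lin 7) (.split 1 (-47) (.split 7 115 (.lin 2)
    (.split 5 (-104) (.lin 4) (.splitN 46095 (.wt 3) (.split 0 139 (.split 5 (-86) (.lin 4)
    (.split 0 130 (.split 5 (-77) (.lin 4) (.split 7 152 (.splitN 55320 (.split 4 (-21) (.split 7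
    124 (.lin 6) (.split 2 (-53) (.split 0 118 (.split 5 (-68) (.lin 4) (.split 7 143 (.split 5
    (-51) (.split 0 105 (.lin 4) (.split 2 (-62) (.split 7 133 (.lin 2) (.wt 6)) (.lin 10))) (.wt
    1)) (.lin 12))) (.wt 2)) (.lin 10))) (.wt 0)) (.wt 1)) (.lin 12))) (.wt 2))) (.wt 2)))))
    (.lin 11)))) (.wt 2)) (.lin 10)) (.wt 2))) (.wt 2))) (.wt 2))) (.wt 2))) .sq)) .sq) (.wt 1))
    (.lin 11)))) (.split 6 (-65) (.lin 11) (.splitN 60962 (.split 4 (-21) (.split 7 97 (.lin 6)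
    (.split 0 92 (.split 2 (-90) (.lin 3) (.split 5 (-68) (.lin 4) (.splitN 47716 (.split 1 (-25)
    (.split 0 78 (.lin 4) (.split 7 106 (.lin 8) (.wt 0))) (.wt 0)) (.wt 6)))) (.wt 2))) (.wt 0))
    (.wt 6)))) (.wt 2)) (.lin 10)) (.wt 2))))) (.lin 12)) .sq) (.wt 1))))

def cert5_44_3 : Cert :=
  (.split 4 (-61) (.split 7 124 (.lin 6) (.split 2 (-35) (.splitN 53274 (.split 7 179 (.splitN
    51514 (.split 7 169 (.split 4 (-102) (.lin 6) (.split 1 (-84) (.lin 8) (.split 2 (-72) (.lin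
    9) (.split 0 97 (.split 3 34 (.split 2 (-44) (.split 1 (-56) (.split 6 (-119) (.lin 6)
    (.split 7 133 (.lin 6) (.splitN 41228 .sq (.splitN 46032 (.split 5 (-17) (.split 7 142 (.lin
    6) .sq) (.wt 1)) (.wt 3))))) (.lin 11)) (.lin 10)) (.splitN 37304 .sq (.split 5 (-14) (.split
    0 69 (.lin 4) (.split 2 (-44) (.split 7 133 (.lin 2) (.split 4 (-93) (.lin 6) (.split 6
    (-119) (.lin 6) (.splitN 45236 (.split 0 88 (.split 1 (-66) (.lin 4) (.split 6 (-110) (.lin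
    7) (.wt 2))) (.wt 0)) (.wt 1))))) (.lin 10))) (.wt 1)))) (.lin 12))))) .sq) (.wt 1)) .sq)
    (.wt 1)) (.lin 10))) (.split 7 197 (.splitN 71384 (.split 3 34 (.split 0 69 (.lin 7) (.split
    1 (-56) (.split 4 (-38) (.split 7 106 (.lin 6) (.split 2 (-17) (.splitN 55279 (.split 7 183
    (.split 5 (-23) (.split 0 87 (.lin 4) (.split 2 (-35) (.split 7 124 (.lin 6) (.splitN 51802
    (.split 0 134 (.split 7 160 (.split 3 29 (.split 2 (-44) (.split 1 (-65) (.split 7 133 (.lin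
    2) (.splitN 44837 .sq (.wt 0))) (.lin 11)) (.lin 10)) (.splitN 47347 (.split 6 (-97) (.split
    7 133 (.lin 6) (.split 0 96 (.lin 7) (.split 1 (-65) .sq (.lin 11)))) (.wt 2)) (.wt 1))) .sq)
    .sq) (.wt 1))) (.lin 10))) (.split 3 29 (.split 7 115 (.lin 6) (.split 0 78 (.lin 7) (.split
    2 (-26) (.split 1 (-65) (.splitN 47403 (.split 7 156 (.split 0 115 (.splitN 45173 (.split 7
    145 (.split 0 106 (.split 5 (-18) (.split 0 87 (.lin 4) (.split 2 (-35) (.split 7 124 (.lin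
    1) (.splitN 39653 .sq (.split 4 (-45) (.wt 0) (.split 2 (-36) (.lin 10) (.split 6 (-102) (.wt
    2) (.split 0 97 (.split 7 134 (.split 0 88 (.wt 0) (.split 7 133 (.lin 1) (.split 1 (-74)
    (.split 6 (-100) .sq (.lin 0)) (.lin 2)))) (.lin 1)) (.lin 3))))))) (.lin 10))) (.splitN
    40696 (.split 6 (-95) (.split 7 124 (.lin 6) (.split 1 (-74) .sq (.lin 11))) (.wt 2)) (.wt
    1))) (.lin 12)) .sq) (.wt 3)) (.lin 12)) .sq) (.wt 1)) (.lin 11)) (.lin 10)))) (.split 1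
    (-93) (.lin 11) (.split 0 95 (.split 1 (-75) (.lin 4) (.split 6 (-110) (.lin 7) (.splitN
    42424 (.split 0 72 (.split 2 (-36) (.lin 3) (.split 5 (-14) (.lin 4) (.split 6 (-92) (.lin 7)
    (.wt 0)))) (.wt 0)) (.wt 6)))) (.wt 2))))) .sq) (.wt 1)) (.lin 10))) (.split 7 170 (.split 2
    (-45) (.lin 10) (.split 5 (-23) (.split 0 87 (.lin 4) (.split 2 (-17) (.split 7 106 (.lin 6)
    (.split 3 29 (.split 7 115 (.lin 6) (.split 0 96 (.lin 7) (.split 2 (-26) (.split 1 (-65)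
    (.splitN 43540 (.wt 1) (.split 4 (-25) (.split 7 124 (.lin 6) (.split 2 (-35) (.split 6
    (-120) (.wt 2) (.split 0 133 (.split 1 (-93) (.lin 11) (.split 7 161 (.split 6 (-115) (.wt 2)
    (.split 0 124 (.split 1 (-84) (.lin 11) (.split 7 152 (.splitN 49145 (.split 6 (-109) (.wt 2)
    (.split 1 (-75) (.lin 11) (.split 5 (-38) (.wt 1) (.split 0 106 (.split 2 (-36) (.lin 10)
    (.split 6 (-99) (.wt 1) (.split 0 97 (.split 7 125 (.wt 0) (.lin 1)) (.lin 3)))) (.lin 4)))))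
    (.wt 3)) (.lin 2))) (.lin 3))) (.lin 2))) (.lin 3))) (.lin 10))) (.split 7 161 (.split 6
    (-94) (.split 0 105 (.lin 3) (.split 1 (-74) (.split 7 124 (.lin 2) (.split 6 (-101) (.split
    0 114 (.lin 3) (.split 1 (-83) (.split 7 133 (.lin 2) (.splitN 52613 .sq (.wt 1))) (.lin
    11))) (.wt 2))) (.lin 11))) (.wt 2)) (.lin 6)))) (.lin 11)) (.lin 10)))) (.split 2 (-36)
    (.lin 10) (.split 1 (-93) (.lin 11) (.splitN 48238 (.split 0 96 (.split 7 125 (.split 1 (-75)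
    (.lin 2) (.split 5 (-32) (.lin 4) (.split 6 (-92) (.lin 7) (.wt 0)))) (.lin 1)) (.wt 0)) (.wt
    6)))))) (.lin 10))) (.split 3 29 (.split 1 (-65) (.split 5 (-18) (.split 0 87 (.lin 4)
    (.split 2 (-17) (.split 7 106 (.lin 1) (.splitN 41681 (.wt 1) .cand)) (.lin 10))) (.split 0
    91 (.split 6 (-101) (.lin 7) (.wt 2)) (.wt 2))) (.lin 11)) (.split 1 (-93) (.lin 11) (.wt
    2))))) (.lin 6))) (.lin 11))) (.split 2 (-54) (.lin 10) (.split 1 (-84) (.lin 11) (.split 0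
    94 (.split 1 (-75) (.lin 4) (.split 6 (-119) (.lin 7) (.split 7 143 (.splitN 39619 (.wt 5)
    (.split 0 82 (.split 5 (-32) (.lin 4) (.split 6 (-110) (.lin 7) (.split 7 134 (.splitN 46211
    (.split 4 (-34) (.split 5 (-14) (.split 2 (-17) (.split 7 106 (.lin 2) (.split 1 (-57) (.lin
    4) (.split 6 (-101) (.lin 7) (.splitN 45404 (.wt 0) (.wt 1))))) (.lin 10)) (.wt 1)) (.wt 0))
    (.wt 6)) (.lin 12)))) (.wt 2))) (.lin 12)))) (.wt 2))))) (.wt 1)) (.lin 6)))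

def cert5_44_4 : Cert :=
  (.split 7 123 (.split 2 (-99) (.lin 1) (.split 2 (-72) (.lin 9) (.split 4 (-120) (.lin 0)
    (.split 4 (-102) (.lin 6) (.split 4 (-84) (.lin 8) (.split 0 65 (.split 1 (-48) (.lin 4)
    (.split 4 (-41) (.split 2 (-17) (.split 7 79 (.lin 8) (.split 6 (-64) (.split 3 34 (.split 0
    42 (.lin 7) (.split 2 (-26) (.split 1 (-29) (.split 5 (-32) (.lin 4) (.split 7 88 (.lin 6)
    (.split 5 (-22) (.split 0 51 (.lin 4) (.split 1 (-39) (.lin 4) (.split 4 (-66) (.lin 6)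
    (.split 7 97 (.lin 6) (.split 6 (-74) (.lin 7) (.split 3 31 (.split 4 (-57) (.lin 6) (.split
    2 (-44) (.split 1 (-38) (.split 7 106 (.lin 2) (.split 5 (-23) (.lin 4) (.split 6 (-65) (.lin
    7) (.splitN 41522 (.wt 0) (.wt 1))))) (.lin 11)) (.lin 10))) (.wt 2))))))) (.split 3 30
    (.split 4 (-66) (.lin 6) (.split 0 51 (.lin 7) (.split 2 (-35) (.split 7 97 (.lin 1) (.split
    6 (-74) (.lin 7) (.wt 2))) (.lin 10)))) (.wt 2))))) (.lin 11)) (.lin 10))) (.split 1 (-39)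
    (.lin 11) (.split 0 49 (.split 1 (-30) (.lin 4) (.split 5 (-23) (.lin 4) (.split 6 (-74)
    (.lin 7) (.wt 2)))) (.wt 2)))) (.split 2 (-26) (.split 1 (-30) (.lin 11) (.split 0 60 (.split
    5 (-32) (.lin 4) (.split 5 (-22) (.split 2 (-35) (.split 0 42 (.lin 4) (.split 4 (-75) (.lin
    8) (.split 7 88 (.lin 8) (.split 0 51 (.split 1 (-21) (.lin 4) (.split 5 (-23) (.lin 4)
    (.splitN 44994 (.wt 0) (.wt 1)))) (.wt 2))))) (.lin 0)) (.splitN 36392 (.split 0 38 (.split 1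
    (-21) (.lin 4) (.wt 0)) (.wt 0)) (.wt 6)))) (.wt 2))) (.lin 0)))) (.lin 10)) (.split 6 (-64)
    (.split 7 70 (.lin 9) (.split 3 34 (.split 0 42 (.lin 7) (.split 1 (-29) (.split 5 (-32)
    (.lin 4) (.split 5 (-22) (.split 0 51 (.lin 4) (.split 1 (-39) (.lin 4) (.split 6 (-74) (.lin
    7) (.split 3 32 (.split 7 79 (.lin 6) (.split 0 60 (.lin 7) (.split 2 (-17) (.split 1 (-38)
    (.split 5 (-23) (.lin 4) (.split 6 (-65) (.lin 7) (.wt 2))) (.lin 11)) (.lin 10)))) (.wt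
    2))))) (.split 2 (-27) (.lin 10) (.split 0 59 (.split 1 (-39) (.lin 4) (.split 6 (-74) (.lin
    7) (.splitN 44142 (.split 0 47 (.split 1 (-30) (.lin 4) (.split 3 33 (.lin 7) (.split 6 (-65)
    (.lin 7) (.wt 0)))) (.wt 2)) (.wt 6)))) (.wt 2))))) (.lin 11))) (.split 1 (-39) (.lin 11)
    (.split 0 44 (.split 6 (-74) (.lin 3) (.split 5 (-23) (.lin 4) (.wt 2))) (.wt 2))))) (.split
    1 (-30) (.lin 11) (.split 5 (-23) (.split 2 (-17) (.split 0 51 (.lin 4) (.split 7 70 (.lin 8)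
    (.wt 2))) (.lin 0)) (.split 2 (-36) (.lin 10) (.split 0 48 (.split 7 80 (.split 3 32 (.split
    4 (-29) (.split 7 61 (.lin 6) (.split 2 (-17) (.splitN 46337 (.split 5 (-14) (.split 0 42
    (.lin 4) (.split 2 (-26) (.split 7 70 (.lin 1) (.split 1 (-21) (.lin 4) (.split 6 (-47) (.lin
    7) (.wt 0)))) (.lin 10))) (.wt 2)) (.wt 1)) (.lin 10))) (.split 2 (-18) (.lin 10) (.split 7
    62 (.splitN 49130 (.split 1 (-21) (.split 2 (-9) (.lin 2) (.split 0 42 (.lin 4) (.split 5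
    (-14) (.lin 0) (.split 7 61 (.lin 1) (.wt 0))))) (.wt 0)) (.wt 1)) (.lin 12)))) (.wt 2))
    (.lin 12)) (.wt 2)))))))) (.split 1 (-29) (.split 4 (-48) (.lin 12) (.split 7 88 (.lin 12)
    (.splitN 61868 (.split 5 (-14) (.split 4 (-34) (.split 2 (-26) (.split 0 79 (.split 7 106
    (.lin 12) (.split 3 31 (.split 6 (-73) (.split 5 (-32) (.lin 6) (.split 2 (-45) (.lin 9)
    (.split 1 (-47) (.splitN 39603 (.wt 1) (.split 4 (-45) (.wt 3) .cand)) (.lin 11)))) (.split 2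
    (-44) (.split 1 (-39) (.lin 11) (.splitN 43370 (.wt 0) (.wt 1))) (.lin 3))) (.wt 2))) (.lin
    12)) (.lin 3)) (.splitN 40036 (.wt 0) (.split 3 29 (.split 2 (-17) (.split 6 (-64) (.split 1
    (-38) (.splitN 54518 .cand (.wt 1)) (.lin 11)) (.wt 2)) (.lin 10)) (.wt 2)))) (.wt 2)) (.wt
    1)))) (.lin 4)))))))) (.split 2 (-26) (.split 2 (-44) (.split 4 (-29) (.splitN 69031 (.split
    4 (-217) .sq (.split 7 248 (.split 0 65 (.split 1 (-48) (.lin 4) (.split 4 (-65) (.splitN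
    60768 (.split 4 (-193) .sq (.split 7 220 (.split 6 (-64) (.split 3 34 (.split 0 42 (.lin 7)
    (.split 1 (-29) (.split 5 (-32) (.lin 4) (.splitN 51621 (.split 2 (-148) .sq (.split 4 (-165)
    (.lin 10) (.split 7 188 (.split 2 (-126) (.lin 9) (.split 5 (-22) (.split 2 (-53) (.split 0
    51 (.lin 4) (.split 1 (-39) (.lin 4) (.split 4 (-138) (.lin 6) (.split 6 (-74) (.lin 7)
    (.splitN 37170 (.wt 1) (.split 3 32 (.split 0 60 (.lin 7) (.split 1 (-38) (.split 5 (-23)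
    (.lin 4) (.split 4 (-129) (.lin 5) (.split 6 (-65) (.lin 7) (.wt 6)))) (.lin 11))) (.wt
    2))))))) (.lin 1)) (.split 3 30 (.split 0 51 (.lin 7) (.split 1 (-38) (.split 4 (-138) (.lin
    6) (.split 6 (-74) (.lin 7) (.splitN 39394 (.split 0 56 (.split 1 (-39) (.lin 4) (.split 6
    (-65) (.lin 7) (.wt 0))) (.wt 0)) (.wt 1)))) (.lin 11))) (.wt 2)))) .sq))) (.wt 1))) (.lin
    11))) (.split 0 46 (.split 1 (-30) (.lin 4) (.split 5 (-23) (.lin 4) (.split 6 (-74) (.lin 7)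
    (.wt 2)))) (.wt 2))) (.split 2 (-71) (.split 1 (-30) (.lin 11) (.splitN 36658 (.wt 3) (.split
    0 56 (.split 5 (-32) (.lin 4) (.split 4 (-74) (.split 0 51 (.split 5 (-23) (.lin 4) (.splitN
    47427 (.split 3 30 (.split 5 (-14) (.split 0 42 (.lin 4) (.split 1 (-21) (.lin 4) (.split 6
    (-47) (.lin 7) (.wt 0)))) (.wt 6)) (.wt 2)) (.wt 1))) (.wt 2)) (.lin 12))) (.wt 2)))) (.lin
    9))) .sq)) (.wt 1)) (.lin 12))) (.split 1 (-29) (.split 6 (-55) (.splitN 56156 (.split 3 35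
    (.split 7 208 (.split 4 (-138) (.lin 12) (.splitN 55169 (.split 5 (-23) (.split 4 (-64)
    (.split 2 (-53) (.split 2 (-62) (.split 7 133 (.lin 12) (.splitN 50111 (.split 7 175 (.split
    4 (-102) (.lin 12) (.splitN 48998 (.split 3 33 (.split 2 (-71) (.split 7 162 (.split 6 (-69)
    (.split 1 (-47) (.split 7 142 (.lin 2) (.splitN 45080 .sq (.wt 0))) (.lin 11)) (.split 1
    (-39) (.lin 11) (.splitN 45853 (.split 1 (-33) (.split 6 (-64) (.split 4 (-67) (.split 2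
    (-80) (.split 7 142 (.lin 2) .sq) (.lin 0)) (.wt 0)) (.lin 11)) (.wt 0)) (.wt 1)))) .sq)
    (.lin 10)) (.wt 2)) (.wt 1))) .sq) (.wt 1))) (.lin 10)) (.lin 3)) (.split 2 (-99) (.lin 0)
    (.splitN 39730 (.wt 3) (.split 3 31 .cand (.wt 2))))) (.split 0 79 (.split 1 (-47) (.split 4
    (-47) (.split 6 (-73) (.splitN 44926 (.split 3 30 (.split 2 (-109) .sq (.split 4 (-110) .sq
    (.split 2 (-99) (.lin 10) (.split 5 (-14) (.split 7 158 (.split 4 (-84) (.lin 6) (.split 4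
    (-65) (.split 2 (-62) (.split 7 133 (.lin 1) (.splitN 42816 (.split 1 (-49) (.split 0 78
    (.lin 4) (.split 7 142 (.lin 1) (.split 6 (-82) .sq (.lin 7)))) (.wt 1)) (.wt 0))) (.lin 10))
    (.split 2 (-54) (.lin 10) (.split 7 134 (.splitN 42719 (.wt 1) (.wt 1)) (.lin 1))))) .sq)
    (.wt 2))))) (.wt 2)) (.wt 1)) (.lin 7)) (.lin 6)) (.lin 4)) (.lin 4))) (.wt 1))) .sq) (.wt
    2)) (.wt 1)) (.lin 7)) (.lin 4))) .sq)) (.wt 1)) (.lin 6)) (.lin 9)) (.lin 2)))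

def cert5_44_5 : Cert :=
  (.split 7 371 (.split 4 (-336) (.lin 8) (.split 3 92 (.split 6 (-131) (.split 0 60 (.lin 7)
    (.split 1 (-47) (.split 7 142 (.lin 9) (.splitN 46133 .sq (.splitN 89730 (.split 0 213
    (.split 1 (-192) (.lin 4) (.split 6 (-281) (.lin 7) (.split 6 (-247) .sq (.split 7 250
    (.splitN 81561 (.split 6 (-226) .sq (.split 7 229 (.split 3 46 (.split 0 105 (.lin 7) (.split
    1 (-92) (.splitN 59903 .sq (.split 2 (-23) (.wt 1) (.split 3 42 (.split 5 (-32) (.lin 10)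
    (.split 2 (-13) (.wt 1) (.split 5 (-23) (.lin 10) (.wt 1)))) (.wt 1)))) (.lin 11))) (.split 1
    (-165) (.lin 2) (.split 4 (-24) (.split 5 (-14) (.split 0 69 (.lin 4) (.split 4 (-156) (.lin
    6) (.splitN 50147 .sq (.split 0 176 (.split 1 (-147) (.lin 4) (.split 4 (-30) (.split 2 (-24)
    (.wt 1) (.split 4 (-84) (.lin 10) (.split 0 130 (.split 7 206 (.split 6 (-200) (.lin 3)
    (.split 1 (-102) (.lin 4) (.split 5 (-23) (.split 0 78 (.lin 4) (.split 6 (-182) (.lin 7)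
    (.splitN 52568 .sq (.wt 6)))) (.wt 1)))) (.lin 1)) (.wt 2)))) (.wt 2))) (.wt 2))))) (.wt 1))
    (.wt 2)))) .sq)) (.wt 1)) .sq)))) .sq) (.wt 1)))) (.lin 11))) (.split 0 142 (.split 1 (-102)
    (.lin 11) (.splitN 111102 (.split 7 325 (.split 4 (-291) (.lin 8) (.split 3 46 (.split 6
    (-87) (.split 0 60 (.lin 7) (.split 1 (-47) (.split 7 97 (.lin 9) (.splitN 76129 (.split 7
    244 (.split 2 (-153) (.lin 9) cert5_44_3) .sq) (.wt 1))) (.lin 11))) (.split 0 97 (.split 1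
    (-57) (.lin 11) (.splitN 93529 (.split 7 294 (.split 4 (-255) (.lin 8) cert5_44_4) .sq) (.wt
    1))) (.lin 7))) (.split 1 (-75) (.lin 11) (.split 7 79 (.lin 2) (.split 6 (-73) (.split 4
    (-69) (.split 7 106 (.lin 8) (.splitN 66896 (.split 4 (-211) .sq (.split 0 86 (.split 1 (-66)
    (.lin 4) (.split 7 224 (.split 2 (-153) (.lin 9) (.split 4 (-192) (.lin 8) (.split 0 56
    (.split 1 (-39) (.lin 4) (.split 5 (-32) (.lin 4) (.split 5 (-22) (.split 0 42 (.lin 4)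
    (.split 1 (-30) (.lin 4) (.split 6 (-119) (.lin 7) (.split 7 115 (.lin 8) (.splitN 53502
    (.split 0 46 (.split 1 (-21) (.lin 4) (.split 5 (-23) (.lin 4) (.split 6 (-110) (.lin 7) (.wt
    0)))) (.wt 2)) (.wt 6)))))) (.splitN 42869 (.split 0 51 (.split 1 (-30) (.lin 4) (.split 6
    (-119) (.lin 7) (.wt 2))) (.wt 0)) (.wt 6))))) (.split 7 133 (.lin 12) (.splitN 54076 (.split
    1 (-25) (.split 0 72 (.split 1 (-57) (.lin 4) (.split 0 68 (.split 1 (-48) (.lin 4) (.split 5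
    (-32) (.lin 4) (.wt 2))) (.wt 2))) (.wt 2)) (.wt 0)) (.wt 6)))))) .sq)) (.wt 2))) (.wt 1)))
    (.split 0 78 (.split 1 (-57) (.lin 4) (.split 1 (-38) (.split 0 51 (.lin 4) (.split 7 97
    (.lin 2) (.split 5 (-32) (.lin 4) (.split 6 (-91) (.split 0 57 (.split 4 (-47) (.split 6
    (-110) (.lin 3) (.split 1 (-39) (.lin 4) (.split 5 (-14) (.lin 4) (.split 7 116 (.splitN
    49140 (.wt 0) (.wt 1)) (.lin 8))))) (.lin 3)) (.wt 2)) (.lin 11))))) (.split 6 (-119) (.lin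
    11) (.split 0 48 (.split 6 (-101) (.lin 3) (.split 5 (-23) (.lin 4) (.splitN 47911 (.split 1
    (-21) (.split 0 42 (.lin 4) (.split 7 88 (.lin 2) (.split 5 (-14) (.lin 4) (.wt 0)))) (.wt
    0)) (.wt 6)))) (.wt 2))))) (.wt 2))) (.lin 11)))))) .sq) (.wt 1))) (.lin 7))) (.split 1
    (-264) (.lin 2) (.split 7 124 (.lin 2) (.split 4 (-65) (.split 6 (-118) (.splitN 74063
    (.split 0 113 (.split 1 (-93) (.lin 4) (.split 0 90 (.split 1 (-75) (.lin 4) (.split 0 83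
    (.split 1 (-66) (.lin 4) (.split 3 190 (.split 6 (-254) (.lin 7) (.split 0 68 (.split 1 (-48)
    (.lin 4) (.split 6 (-236) (.lin 7) (.split 0 58 (.split 1 (-39) (.lin 4) (.split 5 (-32)
    (.lin 4) (.split 0 49 (.split 4 (-83) (.split 5 (-23) (.lin 4) (.split 6 (-218) (.lin 7)
    (.split 0 37 (.split 1 (-21) (.lin 4) (.split 5 (-14) (.lin 4) (.splitN 52353 (.wt 0) (.wt
    1)))) (.wt 2)))) (.lin 3)) (.wt 2)))) (.wt 2)))) (.wt 2))) .sq)) (.wt 2))) (.wt 2))) (.wt 2))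
    (.wt 1)) (.lin 11)) (.lin 10)))))) .sq)

def cert5_44_6 : Cert :=
  (.split 5 (-536) (.lin 4) (.split 4 (-559) .sq (.split 6 (-560) .sq (.split 7 560 (.split 5
    (-47) (.split 0 69 (.lin 4) (.split 1 (-489) (.lin 8) (.split 7 88 (.lin 8) (.splitN 164601
    (.split 0 385 (.split 5 (-365) (.lin 4) (.split 4 (-380) .sq (.split 6 (-383) .sq (.splitN
    154980 (.split 7 376 (.split 0 349 (.split 5 (-329) (.lin 4) (.split 4 (-300) (.lin 8)
    (.splitN 145231 (.split 6 (-356) .sq (.split 3 92 (.split 6 (-128) (.split 0 96 (.lin 7)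
    (.split 1 (-47) (.split 7 142 (.lin 9) (.splitN 54053 .sq (.splitN 100479 (.split 0 230
    (.split 1 (-174) (.lin 4) (.split 5 (-176) (.lin 4) (.split 6 (-250) .sq (.splitN 94279
    (.split 7 240 (.split 4 (-138) (.lin 6) (.split 5 (-167) (.lin 6) (.split 6 (-227) (.lin 9)
    (.split 3 81 (.split 0 105 (.lin 7) (.splitN 56807 .sq (.split 3 70 (.split 0 114 (.lin 7)
    (.split 1 (-65) (.splitN 59885 .sq (.split 4 (-82) (.wt 3) (.split 3 59 (.split 5 (-131)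
    (.lin 6) (.split 0 132 (.lin 7) (.split 2 (-17) (.split 1 (-83) (.split 7 151 (.lin 6)
    (.splitN 69893 .sq (.wt 1))) (.lin 11)) (.lin 10)))) (.wt 6)))) (.lin 11))) (.wt 6)))) (.wt
    6))))) .sq) (.wt 1))))) .sq) (.wt 1)))) (.lin 11))) (.split 1 (-102) (.lin 11) (.splitN
    114517 (.split 0 316 (.split 5 (-293) (.lin 4) (.split 7 321 (.split 0 295 (.split 5 (-275)
    (.lin 4) (.split 4 (-246) (.lin 8) (.split 3 46 (.split 2 (-26) (.splitN 91750 (.split 0 277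
    (.split 5 (-257) (.lin 4) (.split 7 282 cert5_44_2 .sq)) .sq) (.wt 1)) (.lin 10)) (.split 1
    (-75) (.lin 11) (.split 0 204 (.split 5 (-176) (.lin 4) (.split 0 185 (.split 1 (-24) (.split
    0 78 (.lin 4) (.split 5 (-149) (.lin 4) (.split 7 97 (.lin 8) (.split 0 158 (.split 5 (-122)
    (.lin 4) (.split 0 149 (.split 5 (-113) (.lin 4) (.split 1 (-31) (.split 0 87 (.lin 4)
    (.split 5 (-104) (.lin 4) (.split 7 106 (.lin 8) (.splitN 56953 (.split 4 (-27) (.split 7 115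
    (.lin 8) (.split 0 122 (.split 1 (-66) (.lin 4) (.split 5 (-77) (.lin 4) (.splitN 50642
    (.split 4 (-45) (.split 7 133 (.lin 8) (.split 4 (-54) (.split 2 (-17) (.split 7 142 (.lin 8)
    (.wt 2)) (.lin 0)) (.wt 0))) (.wt 0)) (.wt 6)))) (.wt 2))) (.wt 0)) (.wt 6))))) (.wt 2)))
    (.wt 2))) (.wt 2))))) (.wt 2)) (.wt 2))) (.wt 2)))))) (.lin 12)) .sq)) .sq) (.wt 1))))
    (.split 1 (-264) (.lin 2) (.split 7 124 (.lin 2) (.split 0 256 (.split 1 (-201) (.lin 4)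
    (.split 5 (-230) (.lin 4) (.split 0 217 (.split 1 (-165) (.lin 4) (.split 5 (-194) (.lin 4)
    (.split 0 194 (.split 1 (-138) (.lin 4) (.split 5 (-167) (.lin 4) (.split 0 174 (.split 1
    (-120) (.lin 4) (.split 5 (-149) (.lin 4) (.split 0 159 (.split 1 (-102) (.lin 4) (.split 5
    (-131) (.lin 4) (.split 0 143 (.split 1 (-93) (.lin 4) (.split 5 (-122) (.lin 4) (.split 0
    135 (.split 1 (-84) (.lin 4) (.split 5 (-113) (.lin 4) (.split 0 125 (.split 1 (-75) (.lin 4)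
    (.split 5 (-104) (.lin 4) (.split 0 116 (.split 5 (-95) (.lin 4) (.split 0 106 (.split 1
    (-57) (.lin 4) (.split 5 (-86) (.lin 4) (.split 0 95 (.split 1 (-39) (.lin 4) (.split 5 (-68)
    (.lin 4) (.splitN 51579 (.split 1 (-30) (.split 0 87 (.lin 4) (.split 7 142 (.lin 2) (.split
    5 (-50) (.lin 4) (.split 6 (-136) .sq (.lin 7))))) (.wt 0)) (.wt 6)))) (.wt 2)))) (.wt 2)))
    (.wt 2)))) (.wt 2)))) (.wt 2)))) (.wt 2)))) (.wt 2)))) (.wt 2)))) (.wt 2)))) (.wt 2)))) (.wt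
    2)))))) (.wt 1)))) (.lin 12)) .sq) (.wt 1))))) .sq) (.wt 1))))) (.splitN 189372 (.split 4
    (-427) .sq (.split 6 (-429) .sq (.split 7 429 (.split 5 (-13) (.split 0 33 (.lin 4) (.splitN
    144888 (.split 4 (-369) .sq (.split 6 (-372) .sq cert5_44_5)) (.wt 1))) (.split 0 40 (.split
    1 (-30) (.lin 4) (.splitN 31108 (.split 4 (-333) (.div 4) (.split 6 (-353) (.lin 0) (.splitN
    29843 (.split 3 35 (.split 6 (-65) (.lin 7) (.wt 0)) (.wt 0)) (.wt 6)))) (.wt 6))) (.wt 2)))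
    .sq))) (.wt 1))) .sq))))

def cert5_44_7 : Cert :=
  (.split 3 22 (.split 3 11 (.splitN 118027 (.split 1 (-1305) (.div 1) (.split 2 (-653) (.div 2)
    (.split 7 1952 (.splitN 73400 (.split 1 (-801) (.div 1) (.split 0 26 (.wt 2) (.split 7 43
    (.lin 12) (.split 5 (-10) (.wt 2) (.split 0 799 (.split 1 (-29) (.split 2 (-9) (.lin 10)
    (.split 6 (-37) (.split 7 809 (.splitN 55461 (.split 1 (-585) (.div 1) (.split 6 (-587) (.lin
    0) (.split 0 583 (.splitN 27185 (.wt 1) (.splitN 47498 (.split 1 (-513) (.div 1) (.split 6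
    (-515) (.lin 0) (.split 0 511 (.split 7 521 (.split 7 46 (.wt 0) (.split 1 (-38) (.split 6
    (-46) (.splitN 42629 (.split 1 (-441) (.div 1) (.split 6 (-443) (.lin 0) (.split 0 439
    (.split 7 449 (.wt 2) (.lin 1)) (.lin 3)))) (.wt 0)) (.lin 0)) (.lin 2))) (.lin 1)) (.lin
    3)))) (.wt 3))) (.lin 3)))) (.wt 0)) (.lin 1)) (.lin 0))) (.lin 8)) (.lin 4)))))) (.wt 5))
    (.lin 2)))) (.wt 0)) (.split 7 43 (.lin 2) (.split 0 33 (.lin 5) (.split 5 (-13) (.split 6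
    (-37) (.split 6 (-82) (.split 1 (-65) (.splitN 336258 (.split 1 (-3717) (.div 1) (.split 2
    (-1859) (.div 2) (.split 7 5579 (.splitN 157942 .cand (.wt 3)) (.lin 2)))) (.wt 0)) (.lin
    11)) (.split 1 (-57) (.lin 11) (.splitN 639035 (.split 2 (-3551) (.div 2) (.split 5 (-3587)
    (.lin 0) (.split 7 3617 (.splitN 584340 (.split 0 761 (.split 2 (-729) (.lin 3) (.split 5
    (-770) (.lin 0) (.split 7 167 (.split 0 151 (.split 5 (-131) (.lin 4) (.splitN 200731 .cand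
    (.wt 1))) (.lin 12)) (.split 2 (-98) (.split 0 159 (.lin 12) (.split 5 (-103) (.splitN 89988
    (.split 2 (-491) (.div 2) (.split 5 (-491) (.lin 10) (.split 0 397 (.split 2 (-369) (.lin 3)
    (.split 5 (-410) (.lin 0) (.split 1 (-42) (.split 6 (-64) (.split 7 245 (.split 2 (-180)
    (.lin 2) (.split 5 (-194) (.lin 0) (.splitN 80154 .sq (.wt 6)))) (.wt 0)) (.lin 11)) (.wt
    0)))) (.wt 0)))) (.wt 6)) (.lin 4))) (.lin 2))))) .sq) (.wt 1)) (.lin 2)))) (.wt 1)))) (.lin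
    11)) (.lin 10))))) (.split 7 52 (.lin 2) (.split 0 42 (.lin 5) (.split 3 203 (.split 6 (-48)
    (.split 0 51 (.lin 3) (.split 7 61 (.lin 9) (.splitN 2982444 (.split 1 (-33129) (.div 1)
    (.split 6 (-33320) (.lin 11) (.split 2 (-16565) (.div 2) (.split 7 49877 (.split 5 (-16745)
    (.lin 10) (.splitN 2778220 (.split 1 (-30861) (.div 1) (.split 6 (-31052) (.lin 11) (.split 2
    (-15431) (.div 2) (.split 7 46475 (.split 3 92 (.split 6 (-58) (.split 0 60 (.lin 3) (.split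
    7 70 (.lin 9) (.splitN 1482546 (.split 1 (-16461) (.div 1) (.split 6 (-16544) (.lin 11)
    (.split 2 (-8231) (.div 2) (.split 7 24767 (.split 5 (-8303) (.lin 10) (.split 3 66 (.split 6
    (-68) (.split 0 69 (.lin 3) (.splitN 1075161 (.split 1 (-11925) (.div 1) (.split 6 (-11981)
    (.lin 11) (.split 2 (-5963) (.div 2) (.split 7 17936 (.split 5 (-6008) (.lin 10) (.split 3 54
    (.split 6 (-78) (.split 0 78 (.lin 3) (.split 1 (-29) (.split 7 88 (.lin 9) (.splitN 400515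
    (.split 1 (-4437) (.div 1) (.split 6 (-4484) (.lin 11) (.split 2 (-2219) (.div 2) (.split 7
    6695 (.split 5 (-2255) (.lin 10) (.split 3 47 (.split 1 (-38) (.splitN 300125 (.split 1
    (-3321) (.div 1) (.split 7 5570 (.split 6 (-3359) (.lin 11) (.split 2 (-1661) (.div 2)
    (.split 5 (-1688) (.lin 10) (.split 6 (-89) (.split 0 87 (.lin 3) (.split 1 (-47) (.split 7
    97 (.lin 9) (.splitN 251215 (.split 1 (-2781) (.div 1) (.split 6 (-2819) (.lin 11) (.split 2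
    (-1391) (.div 2) (.split 7 4202 (.split 3 42 (.split 1 (-56) (.splitN 230988 (.split 1
    (-2565) (.div 1) (.split 6 (-2594) (.lin 11) (.split 2 (-1283) (.div 2) (.split 6 (-99)
    (.split 0 96 (.lin 3) (.split 1 (-65) (.split 7 106 (.lin 9) (.splitN 213407 (.split 1
    (-2349) (.div 1) (.split 7 3653 (.split 6 (-2378) (.lin 11) (.split 2 (-1175) (.div 2)
    (.split 6 (-110) (.split 0 114 (.lin 3) (.split 1 (-83) (.split 7 124 (.lin 9) (.splitN
    192815 (.split 1 (-2133) (.div 1) (.split 7 3329 (.split 6 (-2162) (.lin 11) (.split 2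
    (-1067) (.div 2) (.split 5 (-1085) (.lin 10) (.split 6 (-132) (.split 0 132 (.lin 3) (.split
    1 (-101) (.split 7 142 (.lin 9) (.splitN 180526 (.split 1 (-1989) (.div 1) (.split 7 3077
    (.split 6 (-2018) (.lin 11) (.split 3 33 (.split 1 (-110) (.split 5 (-23) (.split 0 141 (.lin
    4) (.split 2 (-17) (.split 7 151 (.lin 2) (.splitN 139850 (.split 2 (-761) (.div 2) (.split 5
    (-770) (.lin 10) (.split 6 (-184) (.split 0 195 (.lin 3) (.split 1 (-164) (.split 7 205 (.lin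
    2) .sq) (.lin 11))) (.wt 2)))) (.wt 1))) (.lin 10))) (.wt 2)) (.lin 11)) (.wt 2))) (.lin 2)))
    (.wt 1))) (.lin 11))) (.wt 2))))) (.lin 2))) (.wt 1))) (.lin 11))) (.wt 2)))) (.lin 2))) (.wt
    1))) (.lin 11))) (.wt 2))))) (.wt 1)) (.lin 11)) (.wt 2)) (.lin 2))))) (.wt 1))) (.lin 11)))
    (.wt 2))))) (.lin 2))) (.wt 1)) (.lin 11)) (.wt 2))) (.lin 2))))) (.wt 1))) (.lin 11))) (.wt
    2)) (.wt 2))) (.lin 2))))) (.wt 1))) (.wt 2)) (.wt 2))) (.lin 2))))) (.wt 1)))) (.wt 2)) (.wt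
    2)) (.lin 2))))) (.wt 1))) (.lin 2))))) (.wt 1)))) (.wt 2)) (.wt 2)))))

def cert5_44_8 : Cert :=
  (.split 4 (-12) (.split 7 25 (.lin 8) (.split 1 (-5) (.split 0 15 (.lin 4) (.split 7 34 (.lin
    8) (.split 6 (-19) (.split 3 22 (.split 6 (-29) (.lin 11) (.split 3 11 (.split 2 (-17)
    (.split 6 (-20) (.lin 11) (.splitN 877489 (.split 2 (-4865) (.div 2) (.split 7 4877 (.splitN
    228147 (.split 2 (-1265) (.div 2) (.split 5 (-1247) (.lin 0) (.split 7 1277 (.splitN 95209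
    (.split 2 (-527) (.div 2) (.split 0 520 (.split 7 539 (.splitN 88024 (.split 2 (-288) .sq
    (.split 7 305 (.splitN 79483 (.split 7 277 (.split 2 (-252) (.lin 2) (.split 0 250 (.split 5
    (-211) (.wt 2) (.split 0 214 (.split 5 (-133) (.wt 2) (.split 0 142 (.split 5 (-58) (.wt 2)
    (.split 0 61 (.split 5 (-18) (.wt 2) (.split 0 25 (.split 5 (-7) (.wt 2) (.split 0 16
    (.splitN 35302 (.split 2 (-185) (.div 2) (.split 7 197 (.wt 2) (.lin 1))) (.wt 0)) (.lin 4)))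
    (.lin 4))) (.lin 4))) (.lin 4))) (.lin 4))) (.lin 3))) .sq) (.wt 3)) (.lin 2))) (.wt 3))
    (.lin 2)) (.lin 3))) (.wt 3)) (.lin 2)))) (.wt 1)) (.lin 2))) (.wt 0))) (.lin 2)) (.split 0
    48 (.split 5 (-32) (.lin 4) (.split 0 35 (.split 5 (-23) (.lin 4) (.split 0 31 (.split 5
    (-14) (.lin 4) (.split 5 (-5) (.split 2 (-17) (.split 0 24 (.lin 4) (.split 7 43 (.lin 1)
    (.wt 2))) (.lin 0)) (.wt 2))) (.wt 2))) (.wt 2))) (.wt 2)))) (.split 7 43 (.lin 2) (.split 5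
    (-16) (.split 0 33 (.lin 4) (.split 6 (-41) (.split 3 33 (.lin 11) (.splitN 2630327 (.split 4
    (-29205) (.div 4) (.split 5 (-14603) (.div 5) (.split 6 (-43805) (.lin 0) (.split 7 43811
    (.split 6 (-55) (.split 7 61 (.lin 9) (.split 3 42 (.lin 11) (.splitN 922176 (.split 4
    (-10233) (.div 4) (.split 5 (-5117) (.div 5) (.split 6 (-15347) (.lin 0) (.split 0 144
    (.split 6 (-10361) (.lin 3) (.split 5 (-131) (.lin 4) (.split 7 10367 (.splitN 551382 (.split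
    4 (-6093) (.div 4) (.split 6 (-6221) (.lin 0) (.split 7 6227 (.split 0 112 (.split 5 (-95)
    (.lin 4) (.splitN 470734 (.split 4 (-5229) (.div 4) (.split 6 (-5321) (.lin 0) (.split 7 5327
    (.split 0 103 (.split 5 (-86) (.lin 4) (.splitN 445391 (.split 2 (-2471) (.div 2) (.split 3
    261 (.split 7 2798 (.split 6 (-335) (.lin 7) (.split 6 (-272) (.lin 11) (.splitN 281269
    (.split 2 (-1553) (.div 2) (.split 7 1880 (.split 0 62 (.split 5 (-50) (.lin 4) (.splitN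
    227557 (.split 2 (-1265) (.div 2) (.split 4 (-1497) (.lin 0) (.split 0 55 (.split 5 (-41)
    (.lin 4) (.split 0 51 (.split 5 (-32) (.lin 4) (.split 3 67 (.split 6 (-74) (.lin 11) (.wt
    2)) (.wt 2))) (.wt 2))) (.wt 2)))) (.wt 1))) (.wt 2)) (.lin 1))) (.wt 1)))) (.lin 1)) (.wt
    2))) (.wt 1))) (.wt 2)) (.lin 8)))) (.wt 1))) (.wt 2)) (.lin 8)))) (.wt 1)) (.lin 8)))) (.wt
    2))))) (.wt 1)))) (.wt 2)) (.lin 8))))) (.wt 1))) (.wt 2))) (.split 0 25 (.splitN 425695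
    (.split 4 (-4725) (.div 4) (.split 6 (-4736) (.lin 0) (.split 7 4742 (.splitN 397368 (.split
    2 (-626) .sq (.split 3 625 (.split 7 1259 (.split 6 (-641) (.lin 7) (.splitN 307650 (.split 3
    548 (.split 6 (-569) (.lin 7) (.split 4 (-549) .sq (.split 7 566 (.splitN 266730 (.split 4
    (-512) .sq (.split 6 (-513) .sq (.split 5 (-8) (.split 0 24 (.lin 4) (.split 3 123 (.split 6
    (-128) (.lin 7) (.split 3 55 (.split 6 (-65) (.lin 7) (.split 3 31 (.split 6 (-38) (.lin 7)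
    (.wt 2)) (.wt 2))) (.wt 2))) (.wt 2))) (.split 0 16 (.split 3 36 (.split 6 (-47) (.lin 7)
    (.wt 2)) (.wt 2)) (.lin 4))))) (.wt 1)) (.lin 8)))) .sq) (.wt 1))) (.lin 1)) .sq)) (.wt 1))
    (.lin 8)))) (.wt 1)) (.lin 4))))) (.lin 11)))) (.split 0 16 (.split 5 (-14) (.lin 4) (.split
    0 15 (.split 3 12 (.split 6 (-11) (.lin 7) (.wt 0)) (.wt 0)) (.wt 0))) (.wt 0)))) (.split 1
    (-5) (.split 7 25 (.lin 2) (.split 0 15 (.lin 4) (.split 6 (-19) (.split 4 (-5) (.split 3 22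
    (.split 6 (-29) (.lin 11) (.splitN 21635 (.wt 3) (.split 3 11 (.split 6 (-20) (.lin 11)
    (.splitN 856130 (.split 2 (-4757) (.div 2) (.split 5 (-4748) (.lin 0) (.split 0 4759 (.split
    7 4769 (.splitN 744460 (.split 0 860 (.split 2 (-846) (.lin 3) (.split 5 (-842) (.lin 0)
    (.split 7 863 (.splitN 467556 (.split 0 682 (.split 2 (-675) (.lin 3) (.split 7 692 (.splitN
    420236 (.split 0 645 (.split 2 (-630) (.lin 3) (.split 7 647 (.split 5 (-51) (.split 2 (-62)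
    (.split 0 69 (.lin 3) (.split 7 79 (.lin 2) (.splitN 129490 (.split 7 278 (.split 2 (-261)
    (.lin 2) (.split 5 (-257) (.lin 0) (.splitN 113243 (.split 7 191 (.split 2 (-171) (.lin 2)
    (.split 5 (-167) (.lin 0) (.splitN 102285 (.split 7 154 (.splitN 95427 (.split 7 134 (.split
    2 (-117) (.lin 2) (.split 5 (-113) (.lin 0) (.splitN 91092 (.split 7 117 (.split 2 (-99)
    (.lin 2) (.split 5 (-95) (.lin 0) (.split 0 80 (.split 2 (-72) (.lin 3) (.split 5 (-68) (.lin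
    0) (.split 0 73 (.split 2 (-63) (.lin 3) (.split 7 80 (.splitN 71235 (.wt 0) (.wt 0)) (.lin
    1))) (.wt 2)))) (.wt 2)))) (.wt 0)) (.wt 1)))) (.wt 0)) (.wt 1)) (.wt 0)) (.wt 1)))) (.wt 0))
    (.wt 1)))) (.wt 0)) (.wt 1)))) (.lin 0)) (.split 2 (-54) (.lin 0) (.split 0 61 (.split 7 71
    (.split 5 (-32) (.wt 2) (.split 2 (-36) (.lin 0) (.split 0 43 (.split 5 (-14) (.wt 2) (.split
    2 (-18) (.lin 0) (.split 0 25 (.split 7 35 (.splitN 35737 (.split 5 (-9) (.wt 1) (.split 2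
    (-9) (.lin 0) (.split 0 16 (.split 7 26 (.wt 0) (.lin 1)) (.lin 3)))) (.wt 3)) (.lin 2))
    (.lin 3)))) (.lin 3)))) (.lin 2)) (.lin 3)))) (.lin 2))) .sq) (.wt 3)) (.lin 2))) .sq) (.wt
    3)) (.lin 2)))) .sq) (.wt 3)) (.lin 2)) (.lin 3)))) (.wt 3))) (.split 0 24 (.lin 5) (.wt
    2))))) (.split 7 43 (.lin 2) (.split 0 33 (.lin 5) (.split 6 (-37) (.split 3 667 (.split 6
    (-677) (.lin 11) (.split 3 294 (.split 6 (-299) (.lin 11) (.split 3 172 (.split 6 (-182)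
    (.lin 11) (.splitN 979962 (.split 2 (-5441) (.div 2) (.split 5 (-5594) (.lin 0) (.splitN
    917944 (.split 0 1207 (.split 2 (-1179) (.lin 3) (.split 5 (-1193) (.lin 4) (.splitN 743993
    (.split 0 636 (.split 2 (-603) (.lin 3) (.split 5 (-761) (.lin 0) (.split 5 (-617) (.lin 4)
    (.splitN 607267 (.split 0 408 (.split 2 (-378) (.lin 3) (.split 5 (-392) (.lin 4) (.splitN
    498222 (.split 0 284 (.split 2 (-252) (.lin 3) (.split 5 (-266) (.lin 4) (.splitN 403832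
    (.split 0 204 (.split 5 (-185) (.lin 4) (.splitN 320803 (.split 0 147 (.split 6 (-146) (.lin
    3) (.split 5 (-131) (.lin 4) (.splitN 135592 (.split 0 49 (.split 6 (-47) (.lin 3) (.wt 0))
    (.wt 0)) (.wt 6)))) (.wt 0)) (.wt 6))) (.wt 0)) (.wt 6)))) (.wt 0)) (.wt 6)))) (.wt 0)) (.wt
    6))))) (.wt 0)) (.wt 6)))) (.wt 0)) (.wt 6)))) (.wt 6))) (.wt 0))) (.wt 0))) (.wt 0)) (.lin
    11))))) (.wt 0)) (.lin 11)))) (.split 0 12 (.split 6 (-11) (.lin 3) (.wt 0)) (.wt 0))))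

def cert5_44_9 : Cert :=
  (.split 6 (-276) .sq (.split 4 (-237) (.lin 0) (.split 7 269 (.split 2 14 (.splitN 67873
    (.split 0 239 (.split 1 (-219) (.lin 4) (.split 6 (-244) .sq (.split 1 (-201) (.lin 0)
    (.split 4 (-201) (.lin 0) (.split 7 233 (.split 2 3 (.splitN 28549 (.split 3 199 (.split 4
    (-183) (.lin 10) (.split 6 (-57) (.split 7 61 (.lin 9) (.split 0 169 (.split 1 (-156) (.lin
    4) (.split 0 163 (.split 1 (-147) (.lin 4) (.split 3 183 (.split 4 (-165) (.lin 10) (.split 0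
    128 (.split 1 (-111) (.lin 4) (.split 3 128 (.split 4 (-111) (.lin 10) (.split 6 (-140) .sq
    (.split 4 (-102) (.lin 0) (.split 0 76 (.split 1 (-57) (.lin 4) (.split 0 63 (.split 1 (-48)
    (.lin 4) (.split 0 59 (.split 1 (-39) (.lin 4) (.split 3 54 (.split 6 (-92) (.lin 7) (.split
    4 (-39) (.lin 10) (.wt 2))) (.wt 2))) (.wt 2))) (.wt 2))) (.wt 2))))) .sq)) .sq)) (.wt 2)))
    (.wt 6))) (.wt 6))) (.wt 6))) (.wt 6)) (.wt 1)) (.split 3 42 (.lin 10) (.split 0 85 (.split 1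
    (-66) (.lin 4) (.split 7 111 (.split 4 (-75) (.lin 8) (.split 6 (-119) (.lin 9) (.split 4
    (-39) (.split 7 79 (.lin 8) (.split 3 69 (.lin 10) (.splitN 43284 (.split 1 (-21) (.split 4
    (-66) (.lin 0) (.split 0 42 (.lin 4) (.split 7 88 (.lin 2) (.wt 2)))) (.wt 0)) (.wt 1))))
    (.split 0 69 (.split 6 (-110) (.lin 3) (.split 1 (-48) (.lin 4) (.split 0 57 (.split 6 (-101)
    (.lin 3) (.split 1 (-39) (.lin 4) (.split 0 48 (.split 6 (-92) (.lin 3) (.split 1 (-30) (.lin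
    4) (.split 5 (-23) (.lin 4) (.splitN 36395 (.split 1 (-22) (.split 7 61 (.lin 2) (.split 5
    (-14) (.lin 4) (.wt 0))) (.wt 0)) (.wt 6))))) (.wt 2)))) (.wt 2)))) (.wt 2))))) (.split 3 60
    (.lin 1) (.split 6 (-127) (.split 0 71 (.split 3 69 (.lin 1) (.split 1 (-57) (.lin 4) (.split
    0 58 (.split 3 87 (.lin 1) (.split 4 (-65) (.splitN 43379 .sq (.split 1 (-31) (.wt 1) (.split
    3 96 (.lin 2) (.splitN 49154 (.split 1 (-29) (.wt 1) (.split 3 105 (.lin 2) .sq)) (.wt 1)))))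
    (.lin 3))) (.wt 2)))) (.wt 2)) (.lin 9))))) (.split 6 (-118) (.split 1 (-56) (.split 7 106
    (.lin 9) (.splitN 48336 (.split 4 (-21) (.split 6 (-127) (.split 7 115 (.lin 9) (.splitN
    44279 .sq (.wt 1))) (.lin 3)) (.wt 0)) (.wt 1))) (.lin 4)) (.lin 3))))) (.lin 9)))))) .sq)
    (.wt 1)) (.split 4 (-219) (.lin 0) (.split 7 251 (.split 3 51 (.lin 10) (.splitN 72097
    (.split 6 (-253) .sq (.split 1 (-192) (.lin 0) (.split 2 190 (.split 7 224 (.split 0 83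
    (.split 1 (-66) (.lin 4) (.split 7 108 (.split 4 (-75) (.lin 8) (.splitN 61002 (.split 6
    (-226) .sq (.split 4 (-39) (.split 7 79 (.lin 8) (.split 3 78 (.lin 10) (.split 0 52 (.split
    1 (-39) (.lin 4) (.split 0 48 (.split 5 (-23) (.lin 4) (.split 0 37 (.split 1 (-21) (.lin 4)
    (.split 5 (-14) (.lin 4) (.splitN 45897 (.wt 0) (.wt 1)))) (.wt 2))) (.wt 2))) (.wt 2))))
    (.split 0 56 (.split 1 (-39) (.lin 4) (.split 6 (-145) (.split 3 105 (.lin 7) (.split 0 41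
    (.split 2 72 (.lin 3) (.split 1 (-21) (.lin 4) (.split 5 (-14) (.lin 4) (.split 3 123 (.lin
    7) (.split 7 71 (.splitN 46664 .sq (.wt 1)) (.lin 8)))))) (.wt 2))) (.split 5 (-22) (.split 0
    42 (.lin 4) (.split 7 61 (.lin 8) (.split 3 60 (.lin 10) (.wt 2)))) (.wt 2)))) (.split 7 79
    (.lin 12) (.splitN 44185 (.split 3 82 (.split 2 46 (.split 6 (-164) (.lin 3) (.wt 2)) (.lin
    10)) (.wt 0)) (.wt 6)))))) (.wt 1))) (.split 3 69 (.lin 1) (.split 6 (-136) (.split 0 67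
    (.split 3 87 (.lin 1) (.split 1 (-48) (.lin 4) (.split 0 51 (.split 3 105 (.lin 1) (.split 5
    (-23) (.lin 4) (.split 4 (-74) (.splitN 50750 .sq (.wt 1)) (.lin 12)))) (.wt 2)))) (.wt 2))
    (.lin 9))))) (.split 4 (-138) (.lin 3) (.split 1 (-56) (.split 7 106 (.lin 12) (.splitN 49068
    (.split 4 (-26) (.split 6 (-136) (.split 7 115 (.lin 12) .sq) (.lin 3)) (.wt 0)) (.wt 6)))
    (.lin 4)))) (.lin 9)) (.lin 9)))) (.wt 1))) (.lin 9)))) (.lin 9))))

def cert5_44_10 : Cert :=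
  (.split 5 (-16) (.split 0 42 (.lin 4) (.split 7 52 (.lin 8) (.split 3 33 (.lin 10) (.splitN
    262160 (.split 1 (-2889) (.div 1) (.split 2 1444 (.split 5 (-1445) (.div 5) (.split 6 (-5780)
    (.lin 0) (.split 7 4337 (.splitN 246701 (.split 1 (-2709) (.div 1) (.split 2 1354 (.split 5
    (-1355) (.div 5) (.split 6 (-5420) (.lin 0) (.split 0 948 (.split 6 (-2306) (.lin 3) (.split
    1 (-921) (.lin 4) (.split 5 (-923) (.lin 4) (.split 7 953 (.splitN 220163 (.split 2 1210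
    (.split 6 (-2162) (.lin 3) (.split 0 542 (.split 6 (-1757) (.lin 3) (.split 1 (-516) (.lin 4)
    (.split 5 (-518) (.lin 4) (.split 7 548 (.splitN 199652 (.split 2 1102 (.split 6 (-1649)
    (.lin 3) (.split 0 389 (.split 6 (-1496) (.lin 3) (.split 1 (-363) (.lin 4) (.split 5 (-365)
    (.lin 4) (.split 7 395 (.splitN 184198 (.split 2 1012 (.split 6 (-1406) (.lin 3) (.split 0
    312 (.split 6 (-1325) (.lin 3) (.split 1 (-282) (.lin 4) (.split 5 (-284) (.lin 4) (.split 7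
    314 (.splitN 171865 (.split 2 940 (.split 6 (-1253) (.lin 3) (.split 0 263 (.split 1 (-237)
    (.lin 4) (.split 5 (-239) (.lin 4) (.split 0 239 (.split 1 (-210) (.lin 4) (.split 5 (-212)
    (.lin 4) (.split 7 242 (.splitN 156818 (.split 2 868 (.split 6 (-1109) (.lin 3) (.split 0 214
    (.split 1 (-192) (.lin 4) (.split 5 (-194) (.lin 4) (.split 0 203 (.split 1 (-174) (.lin 4)
    (.split 5 (-176) (.lin 4) (.split 7 206 (.splitN 147003 (.split 2 814 (.split 6 (-1019) (.lin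
    3) (.split 0 186 (.split 1 (-156) (.lin 4) (.split 5 (-158) (.lin 4) (.split 0 174 (.split 1
    (-147) (.lin 4) (.split 5 (-149) (.lin 4) (.split 0 168 (.split 1 (-138) (.lin 4) (.split 7
    170 (.splitN 134840 (.split 2 742 (.split 6 (-911) (.lin 3) (.split 0 156 (.split 1 (-129)
    (.lin 4) (.split 5 (-131) (.lin 4) (.split 0 149 (.split 5 (-122) (.lin 4) (.split 3 76
    (.split 2 37 (.split 6 (-191) (.lin 3) (.split 5 (-59) (.lin 10) (.split 0 60 (.split 6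
    (-101) (.lin 3) (.split 5 (-32) (.lin 4) (.wt 2))) (.wt 2)))) (.lin 10)) (.wt 2))) (.wt 2))))
    (.wt 2))) (.div 2)) (.wt 1)) (.lin 12))) (.wt 2)))) (.wt 2)))) (.wt 2))) (.div 2)) (.wt 1))
    (.lin 12)))) (.wt 2)))) (.wt 2))) (.div 2)) (.wt 1)) (.lin 12)))) (.wt 2)))) (.wt 2))) (.div
    2)) (.wt 1)) (.lin 12))))) (.wt 2))) (.div 2)) (.wt 1)) (.lin 12))))) (.wt 2))) (.div 2))
    (.wt 1)) (.lin 12))))) (.wt 2))) (.div 2)) (.wt 1)) (.lin 12))))) (.wt 2)))) (.div 2))) (.wt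
    1)) (.lin 8)))) (.div 2))) (.wt 1))))) (.splitN 195892 (.split 1 (-2169) (.div 1) (.split 7
    2186 (.split 2 1084 (.split 6 (-3269) (.lin 0) (.splitN 183998 (.split 1 (-2025) (.div 1)
    (.split 7 2042 (.split 2 1012 (.split 6 (-3053) (.lin 0) (.split 3 389 (.split 6 (-2414)
    (.lin 6) (.split 2 370 (.split 3 364 (.split 2 343 (.split 0 422 (.split 6 (-776) (.lin 3)
    (.split 1 (-417) (.lin 4) (.split 7 440 (.splitN 150913 (.split 3 206 (.split 6 (-632) (.lin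
    6) (.split 3 185 (.split 2 163 (.split 0 382 (.split 6 (-551) (.lin 3) (.split 1 (-372) (.lin
    4) (.split 7 395 (.splitN 142906 (.split 6 (-371) .sq (.split 3 135 (.split 2 118 (.split 3
    46 (.split 2 28 (.splitN 124321 (.split 6 (-349) .sq (.split 5 (-8) (.split 0 33 (.lin 4)
    (.split 2 19 (.split 7 43 (.lin 8) (.split 3 24 (.lin 10) (.split 0 80 (.split 7 107 (.split
    1 (-84) (.lin 8) (.split 6 (-128) (.lin 0) (.split 6 (-110) (.lin 3) (.split 1 (-66) (.lin 4)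
    (.split 7 89 (.splitN 33131 (.wt 4) (.split 2 1 (.wt 1) (.split 3 33 (.lin 10) (.wt 2))))
    (.lin 8)))))) (.lin 1)) (.wt 2)))) (.lin 10))) (.split 0 36 (.split 6 (-74) (.lin 3) (.wt 2))
    (.wt 2)))) (.wt 1)) (.lin 10)) (.split 2 27 (.lin 10) (.split 0 35 (.split 7 134 (.split 1
    (-120) (.lin 8) (.split 6 (-263) (.lin 0) (.split 1 (-30) (.lin 4) (.wt 2)))) (.lin 1)) (.wt
    2)))) (.lin 10)) (.wt 2))) (.wt 1)) (.lin 8)))) .sq) (.lin 10)) (.wt 2))) (.wt 2)) (.wt 1))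
    (.lin 8)))) .sq) (.lin 10)) (.wt 2)) (.lin 10))) (.wt 2))) (.div 2)) (.lin 8))) (.wt 1)))
    (.div 2)) (.lin 8))) (.wt 1)))

def cert5_44_11 : Cert :=
  (.split 4 (-12) (.split 6 (-28) (.split 3 15 (.lin 5) (.split 7 25 (.lin 8) (.split 3 24 (.lin
    10) (.split 1 (-5) (.split 6 (-37) (.split 0 15 (.lin 4) (.split 7 34 (.lin 8) (.split 5
    (-16) (.split 0 33 (.lin 4) (.split 3 42 (.lin 5) (.split 7 52 (.lin 8) (.splitN 262160
    (.split 2 1444 (.split 3 7220 (.split 7 7226 (.split 6 (-8669) (.lin 9) (.split 4 (-2889)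
    (.div 4) (.split 5 (-1445) (.div 5) (.split 6 (-5780) (.lin 0) (.split 7 4337 (.splitN 246701
    (.split 4 (-2709) (.div 4) (.split 0 138 (.split 5 (-122) (.lin 4) (.split 7 2834 (.splitN
    208360 (.split 2 1156 (.split 4 (-2313) (.div 4) (.split 6 (-3593) (.lin 0) (.split 7 2438
    (.split 0 108 (.split 5 (-95) (.lin 4) (.splitN 197991 (.split 2 1084 (.split 4 (-2169) (.div
    4) (.split 6 (-3350) (.lin 0) (.split 0 101 (.split 5 (-86) (.lin 4) (.split 3 254 (.split 4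
    (-228) (.lin 5) (.split 6 (-263) (.lin 11) (.split 0 57 (.split 5 (-41) (.lin 4) (.split 0 48
    (.split 5 (-32) (.lin 4) (.split 3 61 (.split 4 (-39) (.lin 5) (.split 6 (-74) (.lin 11) (.wt
    2))) (.wt 2))) (.wt 2))) (.wt 2)))) (.wt 2))) (.wt 2)))) (.div 2)) (.wt 1))) (.wt 2)) (.lin
    8)))) (.div 2)) (.wt 1)) (.lin 8))) (.wt 2))) (.wt 1)) (.lin 8)))))) (.lin 2)) (.div 3))
    (.div 2)) (.wt 1))))) (.split 0 25 (.splitN 195892 (.split 2 1084 (.split 4 (-2169) (.div 4)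
    (.split 6 (-3269) (.lin 0) (.split 7 2186 (.splitN 183998 (.split 2 422 (.split 3 422 (.split
    7 440 (.split 4 (-417) (.lin 5) (.split 6 (-857) (.lin 0) (.split 6 (-443) (.lin 7) (.splitN
    143718 (.split 3 374 (.split 7 386 (.split 6 (-389) (.lin 7) (.split 2 18 (.splitN 106828
    (.split 3 317 (.split 4 (-309) (.lin 5) (.split 6 (-344) (.lin 0) (.split 5 (-8) (.split 0 24
    (.lin 4) (.split 3 33 (.lin 5) (.split 7 43 (.lin 8) (.split 3 74 (.split 4 (-57) (.lin 5)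
    (.split 6 (-92) (.lin 0) (.wt 2))) (.wt 2))))) (.split 0 16 (.split 3 35 (.split 4 (-30)
    (.lin 5) (.split 6 (-47) (.lin 7) (.wt 2))) (.wt 2)) (.lin 4))))) .sq) (.wt 1)) (.split 6
    (-55) (.split 3 42 (.lin 2) (.split 7 359 (.splitN 109265 (.split 3 319 (.split 4 (-291)
    (.lin 5) (.split 6 (-322) .sq (.split 5 (-8) (.split 0 24 (.lin 4) (.split 3 51 (.lin 5)
    (.split 7 43 (.lin 8) (.splitN 60046 (.split 7 150 (.split 4 (-120) (.lin 8) (.splitN 55210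
    (.split 4 (-22) (.split 3 60 (.lin 5) (.split 7 52 (.lin 8) (.wt 2))) (.wt 0)) (.wt 6))) (.wt
    0)) (.wt 6))))) (.wt 2)))) .sq) (.wt 1)) (.lin 2))) (.lin 0)))) (.lin 1)) .sq) (.wt 1)))))
    (.lin 1)) .sq) .sq) (.wt 1)) (.lin 8)))) (.div 2)) (.wt 1)) (.lin 4))))) (.lin 0)) (.split 0
    8 (.split 5 (-5) (.lin 4) (.wt 0)) (.wt 0)))))) (.lin 0)) (.split 1 (-5) (.split 0 15 (.lin
    4) (.split 7 16 (.lin 8) (.split 4 (-5) (.split 3 15 (.lin 5) (.split 7 25 (.lin 8) (.split 5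
    (-16) (.split 0 33 (.lin 4) (.split 3 33 (.lin 5) (.split 7 43 (.lin 8) (.splitN 73439 (.wt
    4) (.split 2 1 (.wt 1) (.split 3 42 (.lin 2) (.wt 2))))))) (.split 7 35 (.splitN 86097
    (.split 2 472 (.split 6 (-506) (.lin 0) (.splitN 80904 (.split 2 436 (.split 6 (-470) (.lin
    0) (.split 3 181 (.split 2 163 (.split 6 (-200) (.lin 0) (.split 3 95 (.split 2 73 (.split 6
    (-110) (.lin 0) (.split 3 52 (.split 2 37 (.split 6 (-74) (.lin 0) (.split 3 34 (.split 2 19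
    (.split 6 (-56) (.lin 0) (.split 6 (-47) (.lin 11) (.splitN 20223 (.wt 5) (.split 3 25
    (.split 2 10 (.split 6 (-38) (.lin 11) (.split 0 20 (.split 5 (-5) (.lin 4) (.split 7 26 (.wt
    1) (.lin 8))) (.wt 2))) (.lin 2)) (.wt 2))))) (.lin 10)) (.wt 2))) (.lin 10)) (.wt 2))) (.lin
    10)) (.wt 2))) (.lin 10)) (.wt 2))) (.div 2)) (.wt 1))) (.div 2)) (.wt 1)) (.lin 8)))))
    (.split 0 26 (.split 5 (-14) (.lin 4) (.split 0 22 (.split 5 (-5) (.lin 4) (.wt 2)) (.wt 0)))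
    (.wt 0))))) (.split 7 43 (.split 4 (-5) (.split 0 25 (.split 5 (-23) (.lin 4) (.split 3 15
    (.lin 5) (.split 7 16 (.lin 8) (.split 0 8 (.split 5 (-5) (.lin 4) (.wt 2)) (.wt 0))))) (.lin
    12)) (.wt 0)) (.wt 3))))

def cert5_44_12 : Cert :=
  (.split 2 (-1) (.split 7 16 (.lin 2) (.split 1 (-12) (.split 7 34 (.lin 2) (.split 0 24 (.lin
    4) (.split 6 (-28) (.splitN 14432 (.wt 1) (.split 4 (-12) (.split 7 43 (.lin 8) (.split 3 22
    (.splitN 257040 (.split 0 7130 (.split 5 (-7106) (.lin 4) (.split 1 (-2853) (.div 1) (.split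
    2 (-1427) (.div 2) (.split 7 4283 (.split 5 (-1418) (.lin 10) (.splitN 244249 (.split 2
    (-1355) (.div 2) (.split 0 489 (.split 7 1844 (.split 5 (-464) (.lin 4) (.split 6 (-497)
    (.lin 7) (.splitN 215083 (.split 0 459 (.split 5 (-437) (.lin 4) (.split 2 (-459) .sq (.split
    7 926 (.split 4 (-471) (.lin 10) (.splitN 199379 (.split 7 442 (.split 0 421 (.splitN 172080
    (.split 6 (-408) .sq (.split 7 408 (.split 2 (-378) (.lin 2) (.split 0 385 cert5_44_1 (.lin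
    12))) .sq)) (.wt 3)) (.lin 12)) .sq) (.wt 3))) (.lin 1)))) .sq) (.wt 3)))) (.lin 1)) .sq))
    (.wt 3))) (.lin 2))))) (.div 0)) (.wt 3)) (.split 7 52 (.lin 2) (.split 6 (-46) (.splitN
    604800 (.split 4 (-6705) (.div 4) (.split 0 772 (.split 6 (-7463) (.lin 3) (.split 1 (-768)
    (.lin 4) (.split 5 (-752) (.lin 4) (.split 7 8216 (.splitN 532725 (.split 0 725 (.split 1
    (-714) (.lin 4) (.split 5 (-698) (.lin 4) (.split 2 (-725) .sq (.split 3 725 (.split 7 2150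
    (.split 4 (-2127) (.lin 5) (.split 6 (-1433) (.lin 7) (.split 4 (-1434) (.lin 10) (.splitN
    448163 (.split 0 664 (.split 5 (-644) (.lin 4) (.split 3 664 (.split 6 (-1325) (.lin 7)
    (.split 4 (-665) .sq (.split 7 1322 (.splitN 418326 (.split 6 (-641) .sq (.splitN 373800
    (.split 0 605 (.split 5 (-581) (.lin 4) (.split 6 (-607) .sq (.split 7 607 (.splitN 320320
    (.split 0 558 cert5_44_6 .sq) (.wt 1)) .sq))) .sq) (.wt 1))) (.wt 1)) (.lin 12)))) .sq)) .sq)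
    (.wt 1))))) (.lin 1)) .sq)))) .sq) (.wt 1)) (.lin 8))))) .sq)) (.wt 1)) (.lin 11))))) (.split
    4 (-5) cert5_44_7 (.wt 0)))) (.lin 11)))) cert5_44_8)) (.split 1 (-12) (.split 6 (-28)
    (.split 0 24 (.lin 4) (.split 7 25 (.lin 8) (.split 4 (-12) (.split 6 (-46) (.split 7 43
    (.lin 8) (.split 3 24 (.lin 10) (.splitN 226800 (.split 1 (-2493) (.div 1) (.split 3 6230
    (.split 6 (-8714) (.lin 11) (.split 4 (-2493) (.div 4) (.split 5 (-1247) (.div 5) (.split 6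
    (-4985) (.div 6) (.split 0 467 (.split 1 (-462) (.lin 4) (.split 5 (-446) (.lin 4) (.split 7
    3392 (.splitN 205823 (.split 0 446 (.split 5 (-419) (.lin 4) (.split 3 446 (.split 7 872
    (.split 6 (-875) (.lin 7) (.split 4 (-435) (.lin 10) (.splitN 179133 (.split 3 416 (.split 4
    (-408) (.lin 10) (.split 6 (-419) .sq (.split 7 413 (.splitN 151307 (.split 0 379 (.split 5
    (-356) (.lin 4) (.split 3 379 (.split 2 352 (.split 6 (-382) .sq (.split 7 377 (.split 5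
    (-37) (.split 0 60 (.lin 4) (.split 6 (-82) (.split 7 79 (.lin 8) (.split 3 60 (.lin 10)
    (.splitN 82992 (.split 0 249 (.split 1 (-201) (.lin 4) (.split 5 (-221) (.lin 4) (.split 6
    (-256) .sq (.split 7 251 (.splitN 75262 (.split 6 (-243) .sq (.split 1 (-174) (.lin 0)
    (.split 4 (-174) (.lin 0) (.split 7 233 (.split 2 12 (.splitN 63823 (.split 6 (-215) .sq
    (.split 1 (-147) (.lin 0) (.split 4 (-147) (.lin 0) (.split 5 (-167) (.lin 0) (.split 1 (-21)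
    (.split 4 (-138) (.lin 0) (.split 0 69 (.lin 4) (.split 7 88 (.lin 8) (.split 3 139 (.split 4
    (-93) (.lin 10) (.split 5 (-113) (.lin 10) (.split 0 147 (.split 1 (-102) (.lin 4) (.split 0
    128 (.split 1 (-84) (.lin 4) (.split 5 (-95) (.lin 4) (.split 0 112 (.split 1 (-66) (.lin 4)
    (.split 5 (-77) (.lin 4) (.split 0 94 (.split 6 (-191) (.lin 3) (.split 1 (-48) (.lin 4)
    (.split 5 (-59) (.lin 4) (.splitN 37701 (.wt 4) (.wt 6))))) (.wt 2)))) (.wt 2)))) (.wt 2)))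
    (.wt 2)))) (.wt 2))))) (.wt 2)))))) (.wt 1)) (.split 4 (-156) (.lin 0) (.split 5 (-176) (.lin
    0) (.split 3 78 (.lin 10) (.split 1 (-24) (.split 0 69 (.lin 4) (.split 4 (-147) (.lin 0)
    (.split 5 (-167) (.lin 0) (.split 7 88 (.lin 8) (.split 0 160 (.split 1 (-120) (.lin 4)
    (.split 5 (-131) (.lin 4) (.split 0 137 (.split 1 (-93) (.lin 4) (.split 5 (-104) (.lin 4)
    (.split 0 117 (.split 1 (-75) (.lin 4) (.split 5 (-86) (.lin 4) (.splitN 51389 (.split 4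
    (-26) (.split 7 97 (.lin 8) (.split 3 87 (.lin 10) (.splitN 46246 (.split 1 (-30) (.split 0
    78 (.lin 4) (.split 5 (-77) (.lin 4) (.split 7 106 (.lin 8) (.wt 2)))) (.wt 0)) (.wt 6))))
    (.wt 0)) (.wt 6)))) (.wt 2)))) (.wt 2)))) (.wt 2)))))) (.wt 2)))))) (.lin 9))))) (.wt 1))
    (.lin 9))))) .sq) (.wt 1)))) (.lin 0))) (.splitN 106156 (.split 6 (-317) .sq (.split 4 (-291)
    (.lin 0) (.split 7 314 (.split 5 (-12) (.split 6 (-55) (.split 0 33 (.lin 4) (.split 7 52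
    (.lin 8) (.split 3 33 (.lin 10) (.splitN 82035 (.splitN 17046 (.wt 3) cert5_44_9) (.wt 1)))))
    (.lin 0)) (.split 0 38 (.split 1 (-30) (.lin 4) (.split 0 27 (.split 1 (-21) (.lin 4) (.wt
    2)) (.wt 2))) (.wt 2))) (.lin 9)))) (.wt 1))) (.lin 9))) (.lin 10)) .sq)) .sq) (.wt 1)) (.lin
    9)))) .sq) (.wt 1)))) (.lin 1)) .sq)) .sq) (.wt 1)) (.lin 8)))) .sq))))) (.div 3))) (.wt
    1)))) (.lin 0)) (.split 4 (-5) (.split 7 34 (.lin 8) (.split 3 15 (.lin 10) cert5_44_10))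
    (.split 0 49 (.split 1 (-39) (.lin 4) (.split 5 (-23) (.lin 4) (.wt 0))) (.wt 0)))))) (.lin
    0)) cert5_44_11))

def cert5_44 : Cert :=
  cert5_44_12

theorem check5_44 :
    check task5 cert5_44
      [(7, ⟨some (7), none⟩), (7, ⟨none, some (-2)⟩), (1, ⟨none, none⟩), (7, ⟨some (7), none⟩), (7, ⟨none, some (-2)⟩), (5, ⟨none, some (-4)⟩), (8, ⟨none, some (-10)⟩), (8, ⟨some (8), none⟩)] ⟨some (3960), none⟩ = true := by
  decide +kernel

def cert5_45_0 : Cert :=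
  (.split 3 40 (.splitN 521847 (.split 1 (-5769) (.div 1) (.split 0 5758 (.split 2 (-2885) (.div
    2) (.split 7 8675 (.splitN 394109 (.split 2 (-2183) (.div 2) (.split 5 2182 (.split 0 621
    (.split 7 5003 (.splitN 337128 (.split 2 (-1859) (.div 2) (.split 0 572 (.split 1 (-573) .sq
    (.split 7 2456 (.split 5 545 (.splitN 317649 (.split 2 (-555) .sq (.split 7 1151 (.splitN
    288620 (.split 1 (-529) .sq (.split 5 500 (.split 7 530 (.split 5 5 (.wt 2) (.split 1 (-38)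
    (.split 6 (-55) (.split 4 (-38) (.split 0 32 (.wt 2) (.split 1 (-47) (.split 6 (-64) (.split
    0 40 (.wt 2) (.split 1 (-56) (.split 6 (-73) (.split 0 49 (.wt 2) (.split 1 (-65) (.split 6
    (-82) (.split 0 60 (.wt 2) (.split 6 (-91) (.split 0 72 (.wt 2) (.split 7 115 (.lin 1)
    (.split 1 (-92) (.split 6 (-109) (.splitN 42002 .sq (.splitN 74357 (.split 3 17 (.wt 0)
    (.split 6 (-118) (.split 4 (-47) (.split 0 148 (.wt 2) (.split 7 196 (.lin 1) (.split 6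
    (-190) .sq (.lin 7)))) (.lin 10)) (.lin 7))) (.wt 0))) (.lin 7)) (.lin 4)))) (.lin 7))) (.lin
    7)) (.lin 4))) (.lin 7)) (.lin 4))) (.lin 7)) (.lin 4))) (.lin 10)) (.lin 7)) (.lin 4))) .sq)
    (.lin 4))) (.wt 5)) (.lin 2))) (.wt 5)) (.lin 4)) (.lin 2))) .sq)) (.wt 5)) (.lin 1)) .sq)
    (.div 5))) (.wt 5)) (.lin 2))) (.lin 4))) (.wt 3)) (.split 7 79 (.lin 1) (.split 6 (-73)
    (.split 4 (-56) (.splitN 1311085 (.split 1 (-14553) (.div 1) (.split 0 14542 (.split 4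
    (-14553) (.div 4) (.split 7 29087 (.split 3 14533 (.splitN 1235268 (.split 4 (-13725) (.div
    4) (.split 0 1103 (.split 7 14813 (.splitN 1015730 (.split 0 998 (.split 1 (-999) .sq (.split
    2 (-999) .sq (.split 3 999 (.split 7 2987 (.splitN 746462 (.split 0 853 (.split 1 (-854) .sq
    (.split 2 (-854) .sq (.split 3 854 (.split 7 2546 (.splitN 695419 (.split 4 (-824) .sq
    (.split 7 1664 (.split 3 808 (.splitN 632060 (.split 4 (-784) .sq (.split 3 763 (.split 6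
    (-786) .sq (.split 0 736 (.split 7 785 (.splitN 485455 (.split 0 682 (.split 3 683 (.split 6
    (-686) .sq (.split 0 637 (.split 7 686 (.split 3 646 (.splitN 442646 (.split 7 655 (.split 3
    610 (.split 5 53 (.split 5 15 (.split 0 28 (.wt 2) (.split 1 (-38) (.split 6 (-82) (.split 0
    34 (.wt 2) (.split 7 97 (.lin 1) (.split 1 (-47) (.split 6 (-91) (.splitN 171055 (.split 0
    379 (.split 5 5 (.wt 2) (.split 6 (-100) (.split 4 (-65) (.split 0 46 (.wt 2) (.split 1 (-65)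
    (.split 6 (-109) (.split 3 54 (.wt 2) (.split 6 (-127) (.split 4 (-83) (.split 0 63 (.wt 2)
    (.split 7 151 (.lin 1) (.split 1 (-83) (.split 6 (-145) (.splitN 66788 .sq (.splitN 90959
    (.split 3 63 (.wt 0) (.split 7 160 (.lin 1) (.split 6 (-154) (.split 4 (-92) (.splitN 75050
    .sq (.split 0 83 (.wt 0) (.split 7 178 (.lin 1) (.split 1 (-101) (.split 6 (-172) .sq (.lin
    7)) (.lin 4))))) (.lin 10)) (.lin 7)))) (.wt 3))) (.lin 7)) (.lin 4)))) (.lin 10)) (.lin 7)))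
    (.lin 7)) (.lin 4))) (.lin 10)) (.lin 7))) .sq) (.wt 5)) (.lin 7)) (.lin 4)))) (.lin 7))
    (.lin 4))) (.split 1 (-47) (.split 6 (-91) (.split 4 (-74) (.split 0 26 (.wt 2) (.split 7 106
    (.lin 1) (.split 1 (-56) (.split 6 (-100) (.splitN 104925 (.split 0 268 (.splitN 100950
    (.split 1 (-260) .sq (.split 3 257 (.split 4 (-265) .sq (.split 7 494 (.splitN 92591 (.split
    6 (-261) .sq (.split 0 187 (.split 3 196 (.split 7 263 (.splitN 81367 (.split 0 34 (.wt 2)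
    (.split 7 115 (.lin 1) (.split 1 (-65) (.split 6 (-109) (.split 6 (-226) .sq (.split 0 151
    (.split 3 151 (.splitN 74815 (.split 7 214 (.split 3 133 (.split 0 43 (.wt 2) (.split 3 124
    (.split 1 (-74) (.split 6 (-118) (.splitN 67237 (.split 3 47 (.wt 2) (.split 6 (-127) (.split
    4 (-83) (.split 0 52 (.wt 2) (.split 3 115 (.split 7 142 (.lin 1) (.split 1 (-83) (.split 6
    (-136) (.splitN 59741 .sq (.split 0 86 (.wt 0) (.split 7 169 (.lin 1) (.split 6 (-163) .sq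
    (.lin 7))))) (.lin 7)) (.lin 4))) (.lin 1))) (.lin 10)) (.lin 7))) (.wt 3)) (.lin 7)) (.lin
    4)) (.lin 1))) (.lin 1)) .sq) (.wt 3)) (.lin 7)) (.lin 7))) (.lin 7)) (.lin 4)))) (.wt 3))
    .sq) (.lin 7)) (.lin 7))) (.wt 3)) (.lin 8))) .sq)) (.wt 3)) .sq) (.wt 3)) (.lin 7)) (.lin
    4)))) (.lin 10)) (.lin 7)) (.lin 4))) (.split 0 538 (.split 3 556 (.split 7 133 (.lin 1)
    (.split 1 (-83) (.split 6 (-127) (.split 4 (-110) (.splitN 59093 .sq (.splitN 81680 (.split 0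
    38 (.wt 0) (.split 7 151 (.lin 1) (.split 1 (-101) (.split 6 (-145) (.splitN 73673 .sq
    (.split 0 64 (.wt 0) (.split 7 178 (.lin 1) (.split 6 (-172) .sq (.lin 7))))) (.lin 7)) (.lin
    4)))) (.wt 3))) (.lin 10)) (.lin 7)) (.lin 4))) (.lin 1)) (.lin 1))) (.lin 1)) .sq) (.wt 3))
    (.lin 1)) .sq) (.lin 7))) .sq) .sq) (.wt 3)) .sq) (.lin 7))) (.lin 10))) (.wt 3)) (.lin 10))
    (.lin 8))) (.wt 3)) (.lin 2)) .sq))) .sq) (.wt 3)) (.lin 2)) .sq))) .sq) (.wt 3)) (.lin 12))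
    .sq)) (.wt 3)) (.lin 10)) (.lin 8))) (.lin 4))) (.wt 3)) (.lin 10)) (.lin 7))))

def cert5_45_1 : Cert :=
  (.split 5 51 (.split 2 64 (.splitN 307573 (.split 6 (-549) .sq (.split 0 520 (.split 1 (-525)
    (.lin 11) (.split 7 557 (.split 5 15 (.split 2 28 (.split 4 (-48) (.lin 10) (.splitN 285156
    (.split 7 527 (.splitN 264020 (.split 6 (-509) .sq (.split 0 484 (.split 2 5 (.splitN 47351
    (.split 0 201 (.split 7 242 (.split 1 (-210) (.lin 4) (.splitN 43335 (.split 1 (-194) .sq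
    (.split 7 224 (.split 6 (-197) .sq (.split 0 169 (.split 1 (-174) (.lin 11) (.split 7 206
    (.split 7 188 (.split 5 9 (.splitN 33339 (.wt 6) (.split 0 57 (.wt 0) (.split 7 79 (.lin 1)
    (.split 1 (-47) (.split 6 (-82) (.wt 0) (.lin 3)) (.lin 2))))) (.split 1 (-38) (.split 6
    (-55) (.split 4 (-29) (.split 0 35 (.wt 2) (.split 7 70 (.lin 1) (.split 6 (-73) (.split 1
    (-56) (.splitN 23519 (.wt 1) (.split 0 43 (.wt 0) (.split 6 (-82) (.split 1 (-65) (.splitN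
    29374 (.split 3 22 (.wt 0) (.split 6 (-91) (.split 4 (-38) (.split 0 80 (.wt 0) (.split 7 124
    (.lin 1) (.split 1 (-92) (.split 6 (-118) .sq (.lin 0)) (.lin 2)))) (.lin 10)) (.lin 7)))
    (.wt 3)) (.lin 4)) (.lin 3)))) (.lin 4)) (.lin 3)))) (.lin 10)) (.lin 7)) (.lin 4))) (.lin
    9)) (.lin 2))) (.lin 3))) (.lin 2))) (.wt 3))) (.lin 1)) .sq) (.wt 3)) (.split 6 (-55)
    (.split 7 494 (.split 0 39 (.wt 2) (.split 6 (-73) (.split 1 (-47) (.split 0 76 (.wt 2)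
    (.split 6 (-109) (.split 1 (-83) (.splitN 78170 (.splitN 74635 (.wt 6) (.split 0 187 (.wt 0)
    (.split 7 187 (.lin 1) (.split 1 (-164) (.split 6 (-181) (.split 7 214 (.lin 12) .sq) (.lin
    0)) (.lin 2))))) (.wt 4)) (.lin 4)) (.lin 3))) (.lin 4)) (.lin 3))) (.lin 9)) (.lin 3)))
    (.lin 3))) (.wt 5)) .sq) (.wt 3))) (.lin 10)) (.split 1 (-47) (.split 6 (-64) (.splitN 107880
    (.split 0 313 (.split 7 395 (.splitN 100318 (.split 1 (-301) .sq (.split 7 332 (.split 0 277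
    (.split 6 (-304) .sq (.split 1 (-282) (.lin 11) (.split 7 314 (.split 7 296 (.split 2 8
    (.split 4 (-38) (.split 0 30 (.wt 2) (.split 6 (-73) (.split 1 (-56) (.splitN 29673 (.split 0
    35 (.wt 2) (.split 1 (-65) (.split 3 19 (.wt 2) (.split 7 88 (.lin 1) (.split 6 (-91) (.split
    4 (-47) (.splitN 25640 .sq (.split 0 57 (.wt 0) (.split 7 106 (.lin 1) (.split 6 (-109) .sq
    (.lin 3))))) (.lin 10)) (.lin 7)))) (.lin 4))) (.wt 3)) (.lin 4)) (.lin 3))) (.lin 10))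
    (.split 0 35 (.wt 2) (.split 1 (-65) (.split 6 (-82) (.split 0 49 (.wt 2) (.split 1 (-74)
    (.split 6 (-91) (.split 0 56 (.wt 2) (.split 1 (-83) (.split 6 (-100) (.split 0 65 (.wt 2)
    (.split 1 (-92) (.split 6 (-109) (.split 0 73 (.wt 2) (.split 1 (-101) (.split 6 (-118)
    (.split 7 97 (.lin 12) (.splitN 41255 .sq (.split 3 16 (.wt 0) (.split 6 (-127) (.split 0 91
    (.wt 2) (.split 1 (-119) (.split 6 (-145) (.split 7 115 (.lin 12) (.splitN 59705 .sq (.split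
    0 105 (.wt 0) (.split 1 (-128) (.split 6 (-154) (.split 7 124 (.lin 12) (.splitN 68615 .sq
    (.wt 5))) (.lin 7)) (.lin 4))))) (.lin 7)) (.lin 4))) (.lin 7))))) (.lin 7)) (.lin 4))) (.lin
    7)) (.lin 4))) (.lin 7)) (.lin 4))) (.lin 7)) (.lin 4))) (.lin 7)) (.lin 4)))) (.lin 9))
    (.lin 2)))) (.lin 4)) (.lin 2))) (.wt 3)) (.lin 1)) .sq) (.wt 3)) (.lin 7)) (.lin 4))) (.lin
    2))) (.lin 3))) (.wt 5)) (.lin 10)) (.split 1 (-83) (.split 6 (-100) (.splitN 83770 (.split 5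
    454 (.split 0 29 (.wt 2) (.split 1 (-92) (.split 7 52 (.lin 12) (.split 3 16 (.wt 2) (.split
    6 (-118) (.splitN 30860 .sq (.split 0 37 (.wt 4) (.split 1 (-101) (.split 6 (-127) (.split 7
    61 (.lin 12) (.splitN 36530 .sq (.split 0 45 (.wt 4) (.split 1 (-110) (.split 6 (-136)
    (.split 7 70 (.lin 12) (.splitN 42848 .sq (.splitN 77731 (.split 2 1 (.wt 3) (.split 0 65
    (.wt 2) (.split 1 (-128) (.split 6 (-154) (.split 7 88 (.lin 12) (.splitN 57527 .sq (.split 4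
    (-36) (.wt 0) (.split 7 521 (.split 2 54 (.lin 10) (.splitN 60452 .sq (.split 0 73 (.wt 0)
    (.split 1 (-137) (.split 6 (-163) (.split 7 97 (.lin 12) (.splitN 68714 .sq (.split 0 114
    (.wt 0) (.split 6 (-190) (.split 7 133 (.lin 12) .sq) (.lin 3))))) (.lin 7)) (.lin 4)))))
    (.lin 6))))) (.lin 7)) (.lin 4)))) (.wt 3)))) (.lin 7)) (.lin 4))))) (.lin 7)) (.lin 4))))
    (.lin 7)))) (.lin 4))) (.div 5)) (.wt 3)) (.lin 7)) (.lin 4)))

def cert5_45_2 : Cert :=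
  (.split 1 (-65) (.split 6 (-109) (.split 7 70 (.lin 8) (.split 7 79 (.lin 12) (.splitN 757019
    (.split 1 (-8397) (.div 1) (.split 0 8386 (.split 2 4198 (.split 4 (-8397) (.div 4) (.split 7
    16775 (.split 3 12580 (.splitN 714679 (.split 4 (-7929) (.div 4) (.split 0 829 (.split 1
    (-840) (.lin 4) (.split 7 8756 (.splitN 612299 (.split 0 764 (.split 2 762 (.split 3 763
    (.split 7 1520 (.splitN 446650 (.split 0 647 (.split 7 1403 (.splitN 412723 (.split 1 (-623)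
    .sq (.split 0 610 (.split 2 619 (.split 3 620 (.split 7 1223 (.splitN 384303 (.split 6 (-606)
    .sq (.split 0 565 (.split 3 538 (.split 7 584 (.splitN 301504 (.split 6 (-531) .sq (.split 2
    442 (.split 7 503 (.split 5 9 (.wt 2) (.split 1 (-74) (.split 6 (-118) (.splitN 133937
    (.split 0 323 (.split 2 318 (.split 6 (-340) .sq (.split 0 277 (.split 2 253 (.split 7 314
    (.splitN 120148 (.split 6 (-315) .sq (.split 2 226 (.split 0 250 (.split 3 232 (.split 7 287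
    (.split 4 (-68) (.split 0 214 (.split 6 (-154) (.split 7 133 (.lin 8) (.split 3 78 (.lin 10)
    (.splitN 63143 .sq (.splitN 71425 (.split 0 124 (.wt 0) (.split 6 (-226) .sq (.lin 3))) (.wt
    0))))) (.lin 0)) (.lin 3)) (.split 3 99 (.split 2 91 (.split 4 (-37) (.split 2 73 (.splitN
    74309 (.split 0 86 (.wt 2) (.split 6 (-145) (.split 1 (-101) (.split 7 124 (.lin 8) (.splitN
    58445 .sq (.split 3 52 (.wt 0) (.split 6 (-163) (.splitN 65861 .sq (.split 0 191 (.wt 0)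
    (.split 1 (-209) (.split 7 232 (.lin 8) .sq) (.lin 4)))) (.lin 7))))) (.lin 4)) (.lin 3)))
    (.wt 3)) (.lin 10)) (.split 2 27 (.lin 10) (.split 7 151 (.split 0 178 (.split 0 124 (.split
    3 52 (.wt 2) (.split 6 (-127) (.split 2 45 (.lin 10) (.split 0 68 (.wt 2) (.split 1 (-83)
    (.split 6 (-145) (.split 0 75 (.wt 2) (.split 1 (-92) (.split 6 (-154) (.splitN 77861 (.split
    0 81 (.wt 2) (.split 1 (-101) (.split 6 (-163) (.split 7 106 (.lin 8) (.splitN 62396 .sq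
    (.split 4 (-26) (.wt 0) (.split 2 54 (.lin 10) (.split 0 89 (.wt 2) (.split 6 (-172) (.split
    1 (-110) (.split 7 115 (.lin 8) (.splitN 71891 .sq (.split 3 75 (.wt 0) (.split 6 (-190)
    (.split 2 72 (.lin 10) .sq) (.lin 6))))) (.lin 4)) (.lin 3))))))) (.lin 7)) (.lin 4))) (.wt
    3)) (.lin 7)) (.lin 4))) (.lin 7)) (.lin 4)))) (.lin 6))) (.lin 12)) (.lin 1)) (.split 1
    (-137) (.split 0 123 (.lin 12) (.split 6 (-172) (.splitN 90062 .sq (.splitN 94137 (.split 3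
    64 (.wt 0) (.split 6 (-208) (.split 2 54 (.lin 10) .sq) (.lin 6))) (.wt 3))) (.lin 0))) (.lin
    8))))) (.lin 10)) (.split 0 187 (.split 2 54 (.lin 10) (.split 7 251 (.split 6 (-181)
    (.splitN 63215 .sq (.splitN 97065 (.split 3 206 (.split 4 (-65) (.wt 3) (.split 2 63 (.lin
    10) (.split 1 (-190) .sq (.split 0 169 (.split 6 (-252) .sq (.split 0 160 (.split 0 124
    (.split 7 179 (.split 3 169 (.split 4 (-41) (.wt 0) (.split 7 161 (.split 4 (-38) (.wt 0)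
    (.split 7 152 (.split 2 90 (.lin 10) (.split 0 62 (.wt 2) (.split 1 (-83) (.split 3 160
    (.split 7 88 (.lin 8) (.splitN 72584 .sq (.split 4 (-27) (.wt 0) (.split 7 143 (.split 2 99
    (.lin 10) (.splitN 81084 (.split 7 94 (.wt 0) (.split 1 (-92) (.split 6 (-199) .sq (.lin 0))
    (.lin 8))) (.wt 1))) (.lin 6))))) (.lin 7)) (.lin 4)))) (.lin 6))) (.lin 6))) (.lin 7)) (.lin
    6)) (.lin 7)) (.lin 3))) (.lin 4))))) .sq) (.wt 1))) (.lin 7)) (.lin 6))) (.lin 7)))) (.lin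
    9)) (.lin 7)) (.lin 7)) (.lin 0))) (.wt 1)) (.lin 9)) (.lin 9)) (.lin 7))) .sq) .sq) (.wt 1))
    (.lin 7)) (.lin 4))) (.lin 9)) (.lin 9))) (.wt 5)) (.lin 9)) (.lin 7)) (.lin 3))) (.wt 5))
    (.lin 1)) .sq) .sq) (.lin 4))) (.wt 5)) (.lin 1)) .sq) (.wt 3)) (.lin 1)) .sq) .sq) .sq) (.wt
    3)) (.lin 8))) .sq)) (.wt 3)) (.lin 10)) (.lin 8))) (.div 2)) (.lin 4))) (.wt 3)))) (.lin 7))
    (.lin 4))

def cert5_45_3 : Cert :=
  (.split 2 10 (.split 7 61 (.lin 1) (.split 4 (-38) (.splitN 301933 (.split 1 (-3321) (.div 1)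
    (.split 0 3310 (.split 4 (-3321) (.div 4) (.split 7 6623 (.split 3 3319 (.splitN 284294
    (.split 4 (-3141) (.div 4) (.split 3 3139 (.split 0 518 (.split 7 3662 (.splitN 256500
    (.split 0 490 (.split 3 491 (.split 7 980 (.splitN 212286 (.split 0 444 (.split 3 446 (.split
    6 (-451) .sq (.split 0 403 (.split 3 412 (.split 7 440 (.splitN 177075 (.split 6 (-409) .sq
    (.split 0 367 (.split 3 376 (.split 7 404 (.split 2 3 (.split 7 70 (.lin 1) (.split 4 (-47)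
    (.splitN 43257 (.split 0 165 (.splitN 42092 (.split 3 159 (.split 6 (-171) .sq (.split 7 161
    (.splitN 36420 (.split 6 (-161) .sq (.split 0 106 (.split 7 152 (.split 0 25 (.wt 2) (.split
    3 115 (.split 6 (-82) (.split 1 (-38) (.splitN 32970 (.split 5 5 (.wt 6) (.split 7 88 (.lin
    1) (.split 1 (-47) (.split 6 (-91) (.split 4 (-56) (.splitN 24749 .sq (.splitN 29649 (.split
    0 34 (.wt 0) (.split 7 97 (.lin 1) (.split 6 (-100) .sq (.lin 3)))) (.wt 1))) (.lin 10))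
    (.lin 7)) (.lin 4)))) (.wt 5)) (.lin 4)) (.lin 3)) (.lin 1))) (.lin 9)) (.lin 3))) (.wt 3))
    (.lin 9))) .sq) (.wt 3)) .sq) (.wt 3)) (.lin 10))) (.split 0 26 (.wt 2) (.split 7 70 (.lin 1)
    (.split 6 (-82) (.split 1 (-38) (.splitN 132213 (.split 3 338 (.split 6 (-346) .sq (.split 0
    295 (.split 3 304 (.split 7 332 (.splitN 122854 (.split 6 (-331) .sq (.split 7 314 (.split 5
    9 (.wt 2) (.split 1 (-47) (.split 6 (-91) (.split 4 (-47) (.split 0 40 (.wt 2) (.split 6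
    (-100) (.split 1 (-56) (.split 0 46 (.wt 2) (.split 6 (-109) (.split 1 (-65) (.split 3 51
    (.wt 2) (.split 6 (-118) (.split 4 (-56) (.split 0 58 (.wt 2) (.split 3 250 (.split 6 (-127)
    (.split 0 66 (.wt 2) (.split 7 124 (.lin 1) (.split 6 (-136) (.split 1 (-83) (.splitN 52046
    .sq (.split 3 54 (.wt 0) (.split 7 133 (.lin 1) (.split 6 (-145) (.split 4 (-65) (.splitN
    59012 .sq (.splitN 61947 (.split 0 97 (.wt 0) (.split 7 169 (.lin 1) (.split 6 (-181) .sq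
    (.lin 3)))) (.wt 3))) (.lin 10)) (.lin 7))))) (.lin 4)) (.lin 3)))) (.lin 3)) (.lin 1)))
    (.lin 10)) (.lin 7))) (.lin 4)) (.lin 3))) (.lin 4)) (.lin 3))) (.lin 10)) (.lin 7)) (.lin
    4))) (.lin 9))) (.wt 3)) (.lin 9)) (.lin 7)) (.lin 3))) .sq) (.wt 3)) (.lin 4)) (.lin 3)))))
    (.lin 9)) (.lin 7)) (.lin 3))) (.wt 3)) (.lin 9)) (.lin 7)) (.lin 3))) .sq) .sq) (.wt 3))
    (.lin 1)) .sq) .sq) (.wt 3)) (.lin 1)) .sq) (.lin 10))) (.wt 3)) (.lin 10)) (.lin 8))) (.lin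
    4))) (.wt 3)) (.lin 10))) (.split 0 58 (.split 1 (-66) (.lin 4) (.splitN 1453681 (.split 2
    8068 (.split 4 (-16137) (.div 4) (.split 3 24217 (.split 7 16190 (.splitN 1357068 (.split 2
    7528 (.split 4 (-15057) (.div 4) (.split 3 22597 (.split 7 15110 (.splitN 989598 (.split 2
    988 (.split 3 989 (.split 7 1034 (.splitN 528383 (.split 3 718 (.split 7 764 (.splitN 448128
    (.split 3 662 (.split 7 701 (.splitN 425782 (.split 6 (-648) .sq (.split 3 610 (.split 7 620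
    (.split 5 9 (.wt 2) (.split 1 (-38) (.split 6 (-82) (.split 3 44 (.wt 2) (.split 6 (-91)
    (.split 0 25 (.wt 2) (.split 1 (-47) (.split 6 (-100) (.split 3 59 (.wt 2) (.split 6 (-109)
    (.split 3 65 (.wt 2) (.split 6 (-118) (.split 3 71 (.wt 2) (.split 6 (-127) (.split 4 (-67)
    (.wt 2) (.split 7 116 (.split 2 27 (.lin 10) (.splitN 82672 (.split 2 454 (.split 3 520
    (.split 0 38 (.wt 2) (.split 1 (-56) (.split 6 (-136) (.splitN 51642 (.wt 6) (.split 4 (-45)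
    (.wt 0) (.split 7 89 (.splitN 70234 (.split 2 382 (.split 3 412 (.splitN 57992 (.wt 6)
    (.split 3 107 (.wt 0) (.split 2 81 (.lin 1) (.split 6 (-172) (.wt 2) (.lin 7))))) (.lin 1))
    (.div 2)) (.wt 0)) (.lin 8)))) (.lin 7)) (.lin 4))) (.lin 1)) (.div 2)) (.wt 3))) (.lin 8)))
    (.lin 7))) (.lin 7))) (.lin 7))) (.lin 7)) (.lin 4))) (.lin 7))) (.lin 7)) (.lin 4))) (.lin
    9)) (.lin 7))) (.wt 5)) (.lin 1)) .sq) (.wt 5)) (.lin 1)) .sq) (.wt 5)) (.lin 1)) .sq) .sq)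
    (.wt 5)) (.lin 8)) (.lin 5))) (.div 2)) (.wt 3)) (.lin 8)) (.lin 5))) (.div 2)) (.wt 3)))
    (.split 6 (-100) cert5_45_2 (.lin 3))))

def cert5_45_4 : Cert :=
  (.splitN 76368 (.split 6 (-243) .sq (.split 1 (-192) (.lin 11) (.split 5 140 (.split 3 160
    (.split 3 82 (.splitN 67615 (.split 6 (-222) .sq (.split 2 145 (.split 1 (-174) (.lin 11)
    (.split 5 122 (.split 4 (-37) (.splitN 52298 (.split 3 46 (.wt 2) (.split 5 25 (.wt 2)
    (.split 1 (-83) (.split 6 (-136) (.split 0 53 (.wt 2) (.split 2 27 (.lin 1) (.split 1 (-92)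
    (.split 6 (-145) (.split 7 97 (.lin 12) (.splitN 48770 .sq (.split 0 69 (.wt 0) (.split 6
    (-154) (.split 7 106 (.lin 12) .sq) (.lin 7))))) (.lin 7)) (.lin 4)))) (.lin 7)) (.lin 4))))
    (.wt 3)) (.split 2 36 (.lin 10) (.split 7 107 (.split 3 61 (.split 5 52 (.split 4 (-25)
    (.split 2 82 (.splitN 52528 (.split 0 61 (.wt 2) (.split 6 (-136) (.split 1 (-92) (.split 7
    97 (.lin 12) (.splitN 47531 (.wt 1) (.split 0 71 (.wt 0) (.split 6 (-145) (.split 1 (-101)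
    (.split 7 106 (.lin 12) .sq) (.lin 4)) (.lin 3))))) (.lin 4)) (.lin 3))) (.wt 5)) (.lin 10))
    (.split 2 45 (.lin 10) (.split 7 98 (.split 3 52 (.split 0 55 (.wt 2) (.split 6 (-127)
    (.split 1 (-83) (.split 0 61 (.wt 2) (.split 6 (-136) (.split 1 (-92) (.split 7 88 (.lin 12)
    (.splitN 50771 (.wt 1) (.splitN 55510 (.split 3 43 (.wt 0) (.split 6 (-145) (.split 5 39 (.wt
    1) (.split 2 72 (.lin 10) (.split 6 (-163) .sq (.lin 3)))) (.lin 6))) (.wt 5)))) (.lin 4))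
    (.lin 3))) (.lin 4)) (.lin 3))) (.split 6 (-136) (.split 2 63 (.lin 10) (.split 0 53 (.wt 2)
    (.split 6 (-145) (.split 1 (-83) (.split 7 79 (.lin 12) (.splitN 58626 (.split 5 24 (.wt 2)
    (.split 1 (-92) (.split 2 72 (.lin 10) (.split 6 (-154) (.splitN 52775 .sq (.split 0 66 (.wt
    0) (.split 6 (-163) (.split 7 88 (.lin 12) .sq) (.lin 3)))) (.lin 3))) (.lin 4))) (.wt 3)))
    (.lin 11)) (.lin 3)))) (.lin 6))) (.lin 12)))) (.split 1 (-101) (.split 2 72 (.lin 10)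
    (.split 6 (-145) (.split 1 (-110) (.split 6 (-154) (.splitN 54620 .sq (.splitN 57095 (.split
    0 59 (.wt 0) (.split 6 (-163) (.split 7 79 (.lin 12) .sq) (.lin 7))) (.wt 3))) (.lin 7))
    (.lin 4)) (.lin 3))) (.lin 8))) (.split 2 63 (.lin 10) (.split 1 (-147) (.lin 11) (.split 6
    (-145) (.split 6 (-206) .sq (.split 2 127 (.split 1 (-129) (.lin 11) (.split 5 77 (.split 5
    42 (.split 4 (-25) (.split 7 79 (.lin 12) (.splitN 55321 (.splitN 46272 (.wt 1) (.split 0 53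
    (.wt 0) (.split 6 (-154) (.split 1 (-83) (.split 7 88 (.lin 12) .sq) (.lin 4)) (.lin 3))))
    (.wt 0))) (.split 2 72 (.lin 10) (.split 7 98 (.splitN 62130 (.split 6 (-187) .sq (.split 0
    65 (.split 7 80 (.splitN 55235 (.split 5 24 (.wt 1) (.split 1 (-83) (.split 2 81 (.lin 10)
    (.split 6 (-154) (.splitN 51398 .sq (.split 0 56 (.wt 0) (.split 6 (-163) (.split 7 79 (.lin
    12) .sq) (.lin 3)))) (.lin 3))) (.lin 4))) (.wt 0)) (.lin 12)) (.split 6 (-163) (.split 1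
    (-92) (.split 7 88 (.lin 12) (.splitN 59012 .sq (.split 5 26 (.split 0 72 (.wt 0) (.split 6
    (-172) (.split 1 (-101) (.split 7 97 (.lin 8) .sq) (.lin 4)) (.lin 3))) (.wt 1)))) (.lin 4))
    (.lin 3)))) (.wt 3)) (.lin 12)))) (.split 1 (-101) (.split 2 90 (.lin 10) (.split 6 (-172)
    (.splitN 63611 .sq (.wt 0)) (.lin 7))) (.lin 4))) (.lin 4))) (.lin 3))) (.lin 7))))) (.lin
    12)))) (.lin 4))) (.lin 3))) (.wt 3)) (.split 2 45 (.lin 1) (.split 6 (-163) (.splitN 50579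
    .sq (.splitN 68139 (.split 4 (-46) (.wt 3) (.split 2 72 (.lin 10) (.splitN 53792 .sq (.split
    4 (-36) (.wt 3) (.split 2 81 (.lin 10) (.split 7 107 (.split 6 (-193) .sq (.split 4 (-25)
    (.split 7 79 (.lin 12) (.splitN 56987 .sq (.wt 3))) (.split 7 98 (.split 2 90 (.lin 10)
    (.splitN 56744 .sq (.split 7 76 (.wt 1) (.split 1 (-83) (.split 0 60 (.lin 12) (.split 6
    (-172) (.splitN 63548 .sq (.wt 1)) (.lin 3))) (.lin 8))))) (.lin 6)))) (.lin 12))))))) (.wt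
    1))) (.lin 7)))) (.lin 7)) (.lin 4)))) (.wt 1))

def cert5_45_5 : Cert :=
  (.split 0 85 (.split 7 122 (.splitN 88944 (.split 6 (-284) .sq (.split 2 235 (.split 3 232
    (.split 0 44 (.splitN 74686 (.split 6 (-254) .sq (.split 1 (-210) (.lin 11) (.split 5 185
    (.split 3 205 (.split 7 80 (.split 3 43 (.wt 2) (.split 6 (-100) (.splitN 62068 (.split 6
    (-225) .sq (.split 1 (-165) (.lin 11) (.split 5 140 (.split 3 169 (.split 0 25 (.wt 2)
    (.split 1 (-56) (.split 3 160 (.split 6 (-109) (.split 7 52 (.lin 12) (.splitN 58393 (.split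
    3 55 (.wt 2) (.split 2 36 (.lin 1) (.split 6 (-118) (.split 6 (-207) .sq (.split 1 (-138)
    (.lin 11) (.split 5 104 (.split 3 142 (.split 3 61 (.wt 2) (.split 1 (-129) (.lin 11) (.split
    5 95 (.split 6 (-127) (.split 4 (-39) (.wt 2) (.split 2 54 (.lin 10) (.split 4 (-38) (.wt 2)
    (.split 7 71 (.split 3 72 (.wt 2) (.split 5 86 (.split 2 72 (.lin 10) (.split 1 (-120) (.lin
    11) (.split 6 (-136) (.split 0 34 (.wt 2) (.split 1 (-65) (.split 5 77 (.split 3 133 (.split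
    6 (-145) (.split 7 61 (.lin 12) (.splitN 43442 .sq (.split 4 (-26) (.wt 0) (.split 2 81 (.lin
    3) (.split 7 62 (.splitN 48275 (.split 1 (-88) (.wt 0) (.split 5 41 (.wt 1) (.lin 4))) (.wt
    0)) (.lin 12)))))) (.lin 7)) (.lin 7)) (.lin 4)) (.lin 4))) (.lin 7)))) (.lin 7))) (.lin
    12))))) (.lin 7)) (.lin 4)))) (.lin 7)) (.lin 4)))) (.lin 7)))) (.wt 3))) (.lin 7)) (.lin 7))
    (.lin 4))) (.lin 7)) (.lin 4)))) (.wt 3)) (.lin 7))) (.split 6 (-109) (.split 4 (-47) (.split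
    0 30 (.wt 2) (.split 1 (-56) (.split 3 83 (.wt 2) (.split 1 (-165) (.lin 11) (.split 5 131
    (.split 6 (-145) (.splitN 44504 .sq (.splitN 48884 (.split 0 35 (.wt 0) (.split 2 36 (.lin 1)
    (.split 6 (-154) .sq (.lin 7)))) (.wt 5))) (.lin 7)) (.lin 4)))) (.lin 4))) (.lin 12)) (.lin
    9))) (.lin 7)) (.lin 4)))) (.wt 3)) (.split 2 208 (.split 1 (-74) (.split 6 (-118) (.split 7
    70 (.lin 12) cert5_45_4) (.lin 7)) (.lin 4)) (.lin 3))) (.lin 7)) (.lin 3))) (.wt 3)) (.split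
    6 (-145) (.split 4 (-47) (.splitN 74307 (.split 0 28 (.wt 2) (.split 1 (-56) (.split 1 (-172)
    .sq (.split 5 131 (.split 3 44 (.wt 2) (.split 3 167 (.splitN 67142 (.split 0 34 (.wt 2)
    (.split 1 (-65) (.split 5 122 (.split 1 (-146) .sq (.split 5 95 (.split 3 140 (.split 7 251
    (.split 4 (-139) .sq (.split 7 215 (.splitN 60716 (.split 1 (-122) .sq (.split 5 77 (.split 3
    52 (.wt 2) (.splitN 49544 .sq (.split 1 (-118) .sq (.split 2 99 (.split 4 (-127) (.wt 5)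
    (.split 7 197 (.split 0 43 (.wt 0) (.split 1 (-74) (.split 5 59 (.splitN 58355 (.split 3 62
    (.wt 0) (.splitN 52829 .sq (.split 0 54 (.wt 0) (.split 1 (-83) (.split 6 (-154) .sq (.lin
    7)) (.lin 4))))) (.wt 3)) (.lin 4)) (.lin 4))) (.lin 12))) .sq)))) (.lin 4))) (.wt 3)) (.lin
    12))) (.lin 2)) .sq) (.lin 4))) (.lin 4)) (.lin 4))) (.wt 3)) .sq)) (.lin 4))) (.lin 4)))
    (.wt 3)) (.lin 12)) (.lin 9))) (.split 2 253 (.split 1 (-110) (.split 3 250 (.split 6 (-154)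
    (.split 7 106 (.lin 12) (.splitN 58148 .sq (.splitN 86639 (.split 0 185 (.split 4 (-120) (.wt
    3) (.split 7 296 (.split 4 (-101) (.wt 3) (.split 7 269 (.split 4 (-91) (.wt 3) (.split 1
    (-198) .sq (.split 0 169 (.split 7 251 (.split 2 164 (.split 3 169 (.split 4 (-70) (.wt 3)
    (.split 7 233 (.split 4 (-65) (.wt 3) (.split 6 (-225) .sq (.split 2 109 (.split 7 206
    (.split 3 106 (.splitN 76028 (.split 4 (-46) (.wt 3) (.split 6 (-201) .sq (.split 2 91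
    (.split 0 133 (.split 7 170 (.split 3 88 (.split 4 (-35) (.wt 3) (.split 7 161 (.split 2 36
    (.lin 10) (.splitN 59156 .sq (.splitN 71745 (.split 4 (-29) (.wt 3) (.split 2 45 (.lin 10)
    (.split 0 128 (.split 7 143 (.split 3 43 (.wt 5) (.split 6 (-163) (.split 1 (-147) (.lin 11)
    (.split 3 78 (.split 0 109 (.split 7 125 (.splitN 65112 .sq (.wt 3)) (.lin 12)) .sq) (.wt
    6))) (.lin 6))) (.lin 12)) .sq))) (.wt 1)))) (.lin 6))) (.lin 7)) (.lin 6)) (.lin 7)) (.lin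
    3)))) (.wt 1)) (.lin 7)) (.lin 6)) (.lin 3)))) (.lin 8))) .sq) .sq) (.lin 8)) (.lin 4))))
    (.lin 12))) (.lin 12))) .sq) (.wt 1)))) (.lin 7)) (.lin 7)) (.lin 4)) (.lin 3)))

def cert5_45_6 : Cert :=
  (.split 0 22 (.split 0 11 (.wt 2) (.split 6 (-37) (.split 1 (-20) (.splitN 663696 (.split 2
    3676 (.split 4 (-7353) (.div 4) (.split 3 11014 (.split 7 7361 (.split 5 3676 (.splitN 602717
    (.split 4 (-6669) (.div 4) (.split 7 6677 (.splitN 255798 (.split 2 1408 (.split 4 (-2817)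
    (.div 4) (.split 3 4210 (.split 7 2825 (.splitN 180277 (.split 2 994 (.split 4 (-1989) (.div
    4) (.split 3 2968 (.split 7 1997 (.split 3 22 (.wt 2) (.split 6 (-46) (.splitN 140271 (.split
    2 778 (.split 4 (-1557) (.div 4) (.split 3 2320 (.split 7 1565 (.split 3 29 (.wt 2) (.split 6
    (-55) (.splitN 121524 (.split 2 670 (.split 4 (-1341) (.div 4) (.split 3 1996 (.split 7 1349
    (.split 3 36 (.wt 2) (.split 6 (-64) (.splitN 110839 (.split 2 598 (.split 4 (-1197) (.div 4)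
    (.split 3 1780 (.split 7 1205 (.split 3 44 (.wt 2) (.split 6 (-73) (.splitN 103841 (.split 2
    562 (.split 4 (-1125) (.div 4) (.split 3 1672 (.split 7 1133 (.split 5 562 (.split 3 52 (.wt
    2) (.split 6 (-82) (.split 1 (-500) (.wt 2) (.split 5 482 (.split 1 (-455) (.wt 2) (.split 5
    437 (.split 1 (-424) (.wt 2) (.split 5 401 (.split 1 (-398) (.wt 2) (.split 5 374 (.split 3
    62 (.wt 2) (.split 6 (-91) (.splitN 95706 (.split 4 (-1053) (.div 4) (.split 7 1061 (.split 1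
    (-108) (.wt 2) (.split 5 86 (.splitN 73427 (.split 4 (-801) (.div 4) (.split 7 809 (.split 1
    (-58) (.wt 2) (.split 5 41 (.splitN 54569 (.split 2 292 (.split 3 1078 (.split 4 (-585) (.div
    4) (.split 7 593 (.splitN 51257 (.split 4 (-549) (.div 4) (.split 7 557 (.split 1 (-35) (.wt
    2) (.split 5 14 (.wt 2) (.lin 4))) (.lin 12))) (.wt 4)) (.lin 12))) (.lin 1)) (.div 2)) (.wt
    4)) (.lin 4))) (.lin 12))) (.wt 4)) (.lin 4))) (.lin 12))) (.wt 0)) (.lin 7))) (.lin 4)))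
    (.lin 4))) (.lin 4))) (.lin 4))) (.lin 7))) (.div 5)) (.lin 12)) (.lin 5))) (.div 2)) (.wt
    5)) (.lin 7))) (.lin 12)) (.lin 5))) (.div 2)) (.wt 5)) (.lin 7))) (.lin 12)) (.lin 5)))
    (.div 2)) (.wt 5)) (.lin 7))) (.lin 12)) (.lin 5))) (.div 2)) (.wt 5)) (.lin 7))) (.lin 12))
    (.lin 5))) (.div 2)) (.wt 5)) (.lin 12)) (.lin 5))) (.div 2)) (.wt 3)) (.lin 12))) (.wt 0))
    (.div 5)) (.lin 12)) (.lin 5))) (.div 2)) (.wt 0)) (.lin 4)) (.lin 3))) (.split 6 (-46)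
    (.split 1 (-29) (.split 7 43 (.lin 12) (.split 3 10 (.wt 2) (.split 3 40 (.splitN 730736
    (.split 1 (-8109) (.div 1) (.split 0 8098 (.split 7 8135 (.split 2 4054 (.splitN 678667
    (.split 5 3766 (.split 0 819 (.split 7 4607 (.splitN 576886 (.split 5 3190 (.split 7 4031
    (.splitN 539236 (.split 0 730 (.split 1 (-731) .sq (.split 2 712 (.split 7 755 (.split 5 1427
    (.split 5 698 (.splitN 377295 (.split 0 609 (.split 1 (-610) .sq (.split 2 595 (.split 7 638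
    (.splitN 345310 (.split 6 (-584) .sq (.split 0 556 (.split 1 (-561) (.lin 11) (.split 7 593
    cert5_45_1 (.lin 2))) (.lin 3))) (.wt 5)) (.lin 2)) (.lin 2))) .sq) (.wt 5)) (.lin 4)) (.lin
    1)) (.lin 2)) (.lin 2))) .sq) (.wt 5)) (.lin 1)) (.div 5)) (.wt 3)) (.lin 1)) .sq) (.div 5))
    (.wt 3)) (.div 2)) (.lin 2)) (.lin 4))) (.wt 3)) (.split 6 (-73) (.split 5 18 cert5_45_3
    (.split 1 (-47) (.split 6 (-91) (.splitN 201870 (.split 1 (-2241) (.div 1) (.split 2 1120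
    (.split 4 (-2241) (.div 4) (.split 3 3328 (.split 0 431 (.split 6 (-3782) (.lin 3) (.split 7
    2663 (.splitN 191122 (.split 2 1048 (.split 1 (-419) .sq (.split 0 394 (.split 5 392 (.split
    2 415 (.split 3 417 (.split 7 827 (.split 6 (-830) (.lin 11) (.splitN 167633 (.split 2 387
    (.split 6 (-399) .sq (.split 3 349 (.split 7 395 (.splitN 142429 (.split 6 (-364) .sq (.split
    1 (-318) (.lin 11) (.split 5 293 (.split 3 313 (.split 7 359 (.split 2 17 (.split 7 79 (.lin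
    1) (.split 4 (-56) (.splitN 74371 (.split 0 222 (.split 1 (-227) .sq (.split 5 194 (.split 6
    (-240) .sq (.split 3 187 (.split 7 233 (.splitN 65561 (.split 6 (-226) .sq (.split 1 (-174)
    (.lin 11) (.split 3 169 (.split 7 215 (.split 2 3 (.split 7 88 (.lin 1) (.split 4 (-65)
    (.splitN 25640 .sq (.splitN 29648 (.split 0 28 (.wt 3) (.split 7 97 (.lin 1) (.split 6 (-100)
    .sq (.lin 3)))) (.wt 1))) (.lin 10))) (.split 0 27 (.wt 2) (.split 7 88 (.lin 1) (.split 6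
    (-100) (.split 1 (-56) (.split 5 140 (.split 3 160 (.splitN 60468 (.split 6 (-204) .sq
    (.split 3 142 (.split 7 188 (.split 0 67 (.split 3 46 (.wt 2) (.split 5 113 (.split 6 (-109)
    (.split 4 (-65) (.split 0 34 (.wt 2) (.split 6 (-118) (.split 1 (-65) (.split 3 58 (.wt 2)
    (.split 7 115 (.lin 1) (.split 6 (-127) (.split 4 (-74) (.splitN 45485 .sq (.splitN 48750
    (.split 0 44 (.wt 0) (.split 7 124 (.lin 1) (.split 6 (-136) .sq (.lin 3)))) (.wt 3))) (.lin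
    10)) (.lin 7)))) (.lin 4)) (.lin 3))) (.lin 10)) (.lin 7)) (.lin 1))) (.split 3 106 (.split 7
    124 (.lin 1) (.split 6 (-136) (.split 1 (-92) (.splitN 53099 .sq (.wt 3)) (.lin 4)) (.lin
    3))) (.lin 1))) (.lin 9)) (.lin 7))) (.wt 3)) (.lin 7)) (.lin 4)) (.lin 4)) (.lin 3)))))
    (.lin 9)) (.lin 7)))) (.wt 3)) (.lin 9)) (.lin 7))) (.lin 4))) .sq) (.wt 3)) (.lin 10)))
    (.split 7 341 cert5_45_5 (.lin 9))) (.lin 9)) (.lin 7)) (.lin 4)))) (.wt 1)) (.lin 9)) (.lin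
    7))) .sq) (.wt 1))) (.lin 2)) .sq) .sq) (.lin 4)) (.lin 4))) (.div 2)) (.wt 1)) (.lin 12)))
    .sq) (.lin 10))) (.div 2))) (.wt 1)) (.lin 7)) (.lin 4))) (.lin 7))))) (.lin 4)) (.lin 3)))

def cert5_45_7 : Cert :=
  (.split 5 18 (.split 2 37 (.split 7 78 (.split 0 88 (.split 1 (-75) (.lin 8) (.split 0 61
    (.split 0 26 (.wt 2) (.split 6 (-55) (.split 1 (-38) (.split 7 43 (.lin 12) (.splitN 49680
    (.wt 1) (.split 3 16 (.wt 0) (.split 6 (-64) (.splitN 93945 (.split 5 5 (.wt 1) (.split 1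
    (-47) (.split 2 27 (.lin 10) (.split 6 (-73) (.splitN 73719 (.wt 6) (.split 0 50 (.wt 0)
    (.split 6 (-91) (.wt 0) (.lin 3)))) (.lin 0))) (.lin 4))) (.wt 5)) (.lin 6))))) (.lin 4))
    (.lin 3))) (.lin 12))) (.lin 1)) (.split 1 (-74) (.split 0 69 (.lin 12) (.split 6 (-82)
    (.split 6 (-91) (.splitN 1483692 (.split 1 (-16461) (.div 1) (.split 6 (-16499) (.lin 0)
    (.split 0 16477 (.split 7 16514 (.splitN 1367740 (.split 1 (-15165) (.div 1) (.split 6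
    (-15203) (.lin 0) (.split 0 15181 (.split 7 15218 (.split 3 19 (.wt 2) (.split 6 (-100)
    (.split 2 18 (.lin 10) (.splitN 992714 (.split 1 (-11025) (.div 1) (.split 6 (-11063) (.lin
    0) (.split 0 11032 (.split 7 11060 (.split 5 5 (.wt 2) (.split 1 (-83) (.split 2 27 (.lin 10)
    (.split 6 (-109) (.splitN 739882 (.split 1 (-8217) (.div 1) (.split 6 (-8246) (.lin 0)
    (.split 0 8206 (.split 7 8225 (.splitN 361841 (.split 0 577 (.split 7 593 (.splitN 246784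
    (.split 0 465 (.split 7 476 (.splitN 227454 (.split 1 (-447) .sq (.split 7 449 (.split 0 430
    (.split 7 189 (.split 0 187 (.split 1 (-201) (.lin 2) (.split 0 80 (.wt 2) (.split 6 (-127)
    (.split 0 105 (.wt 2) (.split 7 106 (.lin 1) (.split 1 (-110) (.split 6 (-145) (.split 1
    (-119) (.split 7 115 (.lin 8) (.splitN 95428 (.wt 1) (.split 3 26 (.wt 0) (.split 6 (-154)
    (.split 2 36 (.lin 10) (.splitN 102425 (.wt 6) (.split 7 131 (.wt 0) (.split 1 (-137) (.split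
    6 (-172) (.wt 2) (.lin 0)) (.lin 2))))) (.lin 6))))) (.lin 4)) (.lin 3)) (.lin 8)))) (.lin
    3)))) (.lin 1)) (.split 0 177 (.lin 1) (.split 1 (-191) (.split 6 (-217) (.splitN 155789 .sq
    (.wt 3)) (.lin 0)) (.lin 2)))) (.lin 4)) (.lin 2))) (.wt 3)) (.lin 1)) .sq) (.wt 3)) (.lin
    1)) .sq) (.wt 3)) (.lin 1)) (.lin 3)))) (.wt 1)) (.lin 0))) (.lin 4))) (.lin 1)) (.lin 3))))
    (.wt 5))) (.lin 6))) (.lin 1)) (.lin 3)))) (.wt 5)) (.lin 1)) (.lin 3)))) (.wt 5)) (.lin 3))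
    (.lin 0))) (.lin 8))) (.lin 10)) (.split 1 (-47) (.split 2 27 (.lin 10) (.split 6 (-64)
    (.splitN 14563722 (.split 1 (-161793) (.div 1) (.split 2 161785 (.split 0 161764 (.split 7
    161792 (.split 2 80896 (.splitN 13528183 (.split 0 3676 (.split 7 3680 (.splitN 3436057
    (.split 1 (-38169) (.div 1) (.split 2 38161 (.split 2 19084 (.split 0 1850 (.split 7 1853
    (.splitN 1956834 (.split 2 10858 (.split 0 1394 (.split 7 1403 (.splitN 1530042 (.split 0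
    1233 (.split 7 1241 (.splitN 1369280 (.split 2 7600 (.split 0 1165 (.split 7 1169 (.splitN
    1296564 (.split 1 (-1134) .sq (.split 2 1126 (.split 7 202 (.split 0 187 (.splitN 233577
    (.split 1 (-473) .sq (.split 2 469 (.split 5 446 (.split 6 (-475) .sq (.split 7 83 (.split 0
    70 (.split 0 25 (.wt 2) (.split 6 (-73) (.split 1 (-56) (.split 7 43 (.lin 12) (.splitN 40892
    (.wt 1) (.splitN 86596 (.split 3 19 (.wt 2) (.split 6 (-82) (.split 2 36 (.lin 10) (.split 1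
    (-270) .sq (.split 2 253 (.split 5 275 (.split 5 230 (.split 6 (-276) .sq (.split 2 226
    (.split 7 62 (.split 0 52 (.split 0 34 (.wt 2) (.split 6 (-91) (.split 1 (-65) (.split 7 52
    (.lin 12) (.split 3 27 (.wt 2) (.split 2 45 (.lin 10) (.split 6 (-100) (.split 5 44 (.wt 2)
    (.split 2 63 (.lin 1) (.split 1 (-83) (.split 2 72 (.lin 10) (.split 6 (-127) (.wt 2) (.lin
    3))) (.lin 2)))) (.lin 3))))) (.lin 4)) (.lin 3))) (.lin 12)) (.split 1 (-83) (.split 0 60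
    (.lin 12) (.split 6 (-109) (.splitN 75137 .cand (.wt 3)) (.lin 3))) (.lin 8))) (.lin 3)))
    (.lin 4)) (.lin 1)) (.lin 2)))) (.lin 6))) (.wt 3)))) (.lin 4)) (.lin 3))) (.lin 12)) (.split
    1 (-83) (.split 1 (-101) (.split 2 379 (.split 0 78 (.lin 12) (.split 6 (-118) (.splitN
    134828 (.split 3 18 (.wt 2) (.split 2 36 (.lin 10) (.split 6 (-127) (.split 6 (-327) .sq
    (.split 5 71 (.split 3 29 (.split 0 79 (.wt 2) (.split 6 (-136) (.split 5 24 (.wt 2) (.split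
    2 45 (.lin 10) (.split 6 (-145) (.split 0 96 (.wt 2) (.split 6 (-154) (.split 0 105 (.wt 2)
    (.split 6 (-163) (.split 1 (-137) (.split 0 115 (.wt 2) (.split 6 (-181) (.split 1 (-155)
    (.split 7 133 (.lin 12) (.splitN 94004 .sq (.wt 0))) (.lin 11)) (.lin 3))) (.lin 11)) (.lin
    3))) (.lin 3))) (.lin 3)))) (.lin 3))) .cand) (.split 1 (-155) (.split 2 90 (.lin 10) (.split
    6 (-181) (.splitN 85904 .sq (.splitN 100727 (.split 7 119 (.wt 1) (.split 0 114 (.lin 12)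
    (.split 6 (-217) .sq (.lin 3)))) (.wt 1))) (.lin 3))) (.lin 4)))) (.lin 3)))) (.wt 3)) (.lin
    3))) (.lin 9)) (.lin 8)) (.lin 2)))) (.lin 4)) (.lin 2))) (.wt 3)) (.lin 12)) (.split 1
    (-218) (.split 0 195 (.lin 12) (.split 6 (-235) (.splitN 185291 .sq (.wt 3)) (.lin 3))) (.lin
    8))) (.lin 2))) (.wt 3)) (.lin 12)) .sq) (.div 2)) (.wt 3)) (.lin 12)) .sq) (.wt 3)) (.lin
    12)) .sq) (.div 2)) (.wt 3)) (.lin 12)) .sq) (.div 2)) (.lin 2))) (.wt 3)) (.lin 12)) .sq)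
    (.wt 3)) (.div 2)) (.lin 2)) (.lin 4)) (.lin 2))) (.wt 3)) (.lin 3))) (.lin 4)))

def cert5_45_8 : Cert :=
  (.split 5 9 (.split 7 19743 (.split 1 (-19731) (.lin 8) (.split 0 19726 (.split 7 13623 (.split
    1 (-13611) (.lin 8) (.split 0 13606 (.split 7 11954 (.split 1 (-11946) (.lin 8) (.split 0
    11941 (.split 7 11331 (.split 1 (-11325) (.lin 8) (.split 0 11320 (.split 0 73 (.wt 2)
    (.split 6 (-127) (.split 1 (-83) (.split 7 1751 (.split 1 (-1740) (.lin 8) (.split 0 1735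
    (.split 7 1265 (.split 1 (-1254) (.lin 8) (.split 0 1249 (.split 7 1122 (.split 1 (-1110)
    (.lin 8) (.split 0 1105 (.split 0 86 (.wt 2) (.split 6 (-136) (.split 7 738 (.split 1 (-732)
    (.lin 8) (.split 0 727 (.split 7 638 (.split 1 (-633) (.lin 8) (.split 0 628 (.split 7 601
    (.split 1 (-588) (.lin 8) (.split 0 583 (.split 0 102 (.wt 2) (.split 6 (-154) (.split 1
    (-110) (.split 7 115 (.lin 8) (.splitN 364885 (.wt 1) (.split 3 53 (.wt 0) (.split 6 (-172)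
    (.split 2 54 (.lin 10) (.split 7 294 (.split 0 277 (.splitN 891303 (.wt 6) (.split 3 127 (.wt
    0) (.split 6 (-244) (.split 2 126 (.lin 10) (.wt 2)) (.lin 6)))) (.lin 12)) (.wt 1))) (.lin
    6))))) (.lin 4)) (.lin 3))) (.lin 12))) (.wt 1)) (.lin 12))) (.wt 1)) (.lin 12))) (.wt 1))
    (.lin 3))) (.lin 12))) (.wt 1)) (.lin 12))) (.wt 1)) (.lin 12))) (.wt 1)) (.lin 4)) (.lin
    3))) (.lin 12))) (.wt 1)) (.lin 12))) (.wt 1)) (.lin 12))) (.wt 1)) (.lin 12))) (.wt 1))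
    (.split 1 (-83) (.split 2 45 (.lin 10) (.split 6 (-127) (.splitN 395307 (.split 1 (-4365)
    (.div 1) (.split 7 4355 (.split 2 2182 (.split 6 (-6536) (.lin 0) (.splitN 371061 (.split 1
    (-4113) (.div 1) (.split 2 2056 (.split 6 (-6158) (.lin 0) (.split 3 330 (.split 2 325
    (.split 0 579 (.split 7 863 (.split 1 (-867) (.lin 8) (.split 6 (-911) (.lin 3) (.split 1
    (-588) (.lin 4) (.split 7 584 (.splitN 267374 (.split 3 195 (.split 2 190 (.split 0 482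
    (.split 6 (-677) (.lin 3) (.split 1 (-489) (.lin 4) (.split 7 485 (.splitN 245303 (.split 3
    169 (.split 2 172 (.split 3 168 (.split 2 163 (.split 1 (-461) .sq (.split 6 (-471) .sq
    (.split 7 422 (.splitN 224123 (.split 3 140 (.split 2 136 (.split 6 (-446) .sq (.split 7 395
    (.split 3 75 (.split 2 73 (.split 7 177 (.split 1 (-201) (.lin 2) (.split 1 (-174) (.lin 8)
    (.split 6 (-245) (.lin 0) (.split 7 125 (.split 1 (-156) (.lin 2) (.split 1 (-129) (.lin 8)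
    (.split 0 115 (.split 6 (-200) (.lin 0) (.split 3 56 (.split 6 (-182) (.lin 6) (.split 2 55
    (.splitN 78546 (.wt 1) (.split 7 102 (.split 1 (-102) (.lin 8) (.split 6 (-155) (.lin 0)
    (.splitN 102879 .cand (.wt 1)))) (.split 1 (-101) (.split 0 96 (.lin 12) (.splitN 90670 (.wt
    0) (.splitN 109821 .cand (.wt 1)))) (.lin 2)))) (.lin 10))) (.split 2 63 (.lin 10) (.split 0
    84 (.split 7 98 (.split 1 (-102) (.lin 8) (.split 6 (-164) (.lin 3) (.wt 2))) (.lin 1)) (.wt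
    2))))) (.lin 12)))) (.split 0 96 (.lin 1) (.split 1 (-137) (.split 0 123 (.lin 12) (.splitN
    125385 (.split 3 54 (.split 6 (-227) (.lin 6) (.split 2 55 (.split 0 149 (.split 7 161
    (.split 1 (-165) (.lin 8) (.split 6 (-209) (.lin 3) (.split 1 (-156) (.lin 4) (.split 7 152
    (.splitN 115853 (.split 3 46 (.split 2 46 (.split 7 150 (.split 1 (-147) (.lin 2) (.split 6
    (-191) (.lin 0) (.splitN 110457 (.wt 0) (.wt 1)))) (.wt 0)) (.lin 10)) (.wt 0)) (.wt 1))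
    (.lin 8))))) (.lin 1)) (.wt 2)) (.lin 10))) (.wt 0)) (.wt 1))) (.lin 8))))))) (.split 0 141
    (.lin 1) (.split 1 (-155) (.split 1 (-182) (.split 0 168 (.lin 12) (.split 6 (-226) (.splitN
    149084 .sq (.split 3 50 (.split 2 46 (.split 0 276 (.split 7 278 (.split 1 (-282) (.lin 2)
    (.split 6 (-326) (.lin 0) (.wt 1))) (.lin 1)) (.wt 1)) (.lin 10)) (.wt 1))) (.lin 0))) (.lin
    8)) (.lin 2)))) (.lin 10)) (.split 2 81 (.lin 10) (.split 0 109 (.split 6 (-254) (.lin 3)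
    (.split 1 (-120) (.lin 4) (.splitN 95122 (.split 0 82 (.split 6 (-227) (.lin 3) (.split 1
    (-93) (.lin 4) (.wt 0))) (.wt 0)) (.wt 6)))) (.wt 2)))) (.lin 6))) (.lin 10)) (.wt 2)) (.wt
    1)) (.lin 6)))) (.lin 10)) (.wt 2)) (.lin 10)) (.wt 2)) (.wt 1)) (.lin 8)))) .sq) (.lin 10))
    (.wt 2)) (.wt 1)) (.lin 8))))) (.lin 1)) .sq) (.lin 10)) (.wt 2))) (.div 2))) (.wt 1))) (.div
    2)) (.lin 8))) (.wt 1)) (.lin 0))) (.lin 4)))

def cert5_45_9 : Cert :=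
  (.splitN 482753 (.split 1 (-682) .sq (.split 7 665 (.split 2 682 (.split 6 (-1343) (.lin 0)
    (.splitN 433909 (.split 6 (-650) .sq (.split 7 593 (.splitN 374866 (.split 6 (-604) .sq
    (.split 1 (-552) (.lin 11) (.split 7 137 (.split 0 124 (.splitN 189796 (.split 1 (-416) .sq
    (.split 5 383 (.split 2 416 (.split 6 (-424) .sq (.split 2 379 (.split 7 68 (.split 0 52
    (.splitN 106771 (.split 1 (-298) .sq (.split 2 299 (.split 6 (-362) (.lin 3) (.split 6 (-308)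
    .sq (.split 3 259 (.splitN 100902 (.split 6 (-298) .sq (.split 2 253 (.split 3 241 (.split 0
    38 (.split 7 44 (.split 3 43 (.wt 2) (.split 6 (-100) (.split 2 63 (.lin 10) (.splitN 61909
    (.split 1 (-200) .sq (.split 5 167 (.split 2 204 (.split 3 196 (.split 6 (-219) .sq (.split 2
    181 (.split 3 169 (.split 1 (-165) (.lin 11) (.split 3 93 (.split 0 25 (.wt 2) (.split 6
    (-109) (.split 1 (-56) (.split 5 131 (.split 7 43 (.lin 12) (.splitN 54849 (.split 5 23 (.wt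
    1) (.split 2 72 (.lin 1) (.split 1 (-65) (.split 6 (-118) (.splitN 46219 (.wt 1) (.splitN
    52298 (.split 1 (-117) (.wt 0) (.split 5 77 (.split 1 (-108) (.wt 0) (.split 5 68 (.split 3
    65 (.wt 0) (.split 2 90 (.lin 1) (.split 6 (-136) (.wt 1) (.lin 3)))) (.lin 4))) (.lin 4)))
    (.wt 5))) (.lin 3)) (.lin 8)))) (.wt 3))) (.lin 4)) (.lin 4)) (.lin 3))) (.split 2 108 (.lin
    10) (.split 5 104 (.split 6 (-145) (.splitN 58987 (.split 0 25 (.wt 2) (.split 6 (-154)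
    (.split 1 (-56) (.split 7 43 (.lin 12) (.split 5 27 (.wt 2) (.split 2 117 (.lin 1) (.split 6
    (-163) .sq (.lin 3))))) (.lin 4)) (.lin 3))) (.wt 3)) (.lin 3)) (.lin 1))))) (.lin 6)) (.lin
    3))) (.lin 1)) .sq) (.lin 4))) (.wt 3))) (.lin 6))) (.lin 12)) (.split 6 (-109) (.split 1
    (-65) (.split 7 52 (.lin 12) (.splitN 40993 (.wt 0) (.splitN 82390 (.split 6 (-260) .sq
    (.split 3 65 (.splitN 73836 .cand (.wt 3)) (.splitN 75093 .cand (.wt 1)))) (.wt 1)))) (.lin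
    4)) (.lin 3))) (.lin 6)) (.lin 3))) (.wt 3)) (.lin 6)))) .sq)) (.wt 1)) (.lin 12)) (.split 1
    (-83) (.split 0 60 (.lin 12) (.split 6 (-127) (.splitN 111523 (.split 1 (-284) .sq (.split 6
    (-300) .sq (.split 1 (-255) (.lin 11) (.splitN 107138 (.split 3 75 (.split 6 (-289) .sq
    (.split 5 63 (.split 1 (-183) (.lin 8) (.split 2 118 (.split 6 (-254) (.lin 3) (.split 3 67
    (.split 2 109 (.split 7 102 (.split 1 (-165) (.lin 2) (.split 1 (-147) (.lin 8) (.split 0 88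
    (.split 6 (-209) (.lin 3) (.split 3 59 (.split 2 100 (.split 5 41 (.split 1 (-129) (.lin 4)
    (.split 2 82 (.split 6 (-182) (.lin 3) (.split 0 87 (.split 1 (-120) (.lin 4) (.split 5 32
    (.split 2 73 (.split 6 (-164) (.lin 3) (.split 0 77 (.split 6 (-155) (.lin 3) (.split 1
    (-102) (.lin 4) (.split 7 80 (.split 3 48 (.split 6 (-146) (.lin 6) (.split 2 64 (.split 0 69
    (.split 6 (-137) (.lin 3) (.split 1 (-93) (.lin 11) (.split 7 71 (.splitN 71889 (.wt 0) (.wt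
    1)) (.lin 12)))) (.wt 2)) (.lin 10))) (.wt 2)) (.lin 12)))) (.wt 2))) (.lin 10)) (.split 2 72
    (.lin 10) (.splitN 66836 (.split 0 61 (.split 6 (-155) (.lin 3) (.wt 0)) (.wt 0)) (.wt 6)))))
    (.wt 2))) (.lin 10))) (.split 1 (-110) (.split 2 81 (.lin 10) (.splitN 74026 (.split 7 87
    (.split 1 (-138) (.lin 2) (.split 1 (-129) (.lin 8) (.split 6 (-191) (.lin 0) (.wt 2)))) (.wt
    0)) (.wt 1))) (.lin 4))) (.lin 10)) (.wt 2))) (.lin 12)))) (.split 0 96 (.lin 12) (.wt 2)))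
    (.lin 10)) (.wt 2))) (.lin 10))) (.split 1 (-128) (.split 2 99 (.lin 10) (.split 6 (-172)
    (.splitN 71324 .sq (.splitN 81109 (.split 7 90 (.wt 1) (.split 0 87 (.lin 12) (.split 6
    (-199) .sq (.lin 3)))) (.wt 1))) (.lin 3))) (.lin 4)))) (.wt 2)) (.wt 1))))) (.wt 1)) (.lin
    3))) (.lin 8))) (.lin 3))) .sq) (.lin 4))) (.wt 1)) (.lin 12)) (.split 0 132 (.lin 12) (.wt
    2))))) (.wt 1)) (.lin 6))) (.wt 1))) .sq) (.lin 8))) (.wt 1))

def cert5_45_10 : Cert :=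
  (.split 4 (-5) (.split 7 16 (.lin 12) (.split 0 22 (.split 7 26 (.splitN 103549 (.split 1
    (-1125) (.div 1) (.split 2 562 (.split 6 (-1685) (.lin 0) (.split 3 1672 (.split 3 574
    (.split 3 10 (.wt 2) (.split 6 (-28) (.split 2 9 (.lin 10) (.split 0 8 (.wt 2) (.split 6
    (-37) (.split 1 (-20) (.split 7 25 (.lin 12) (.splitN 45351 (.split 2 238 (.split 3 241
    (.split 5 230 (.splitN 28872 (.wt 1) (.splitN 41096 (.split 2 220 (.split 3 223 (.split 1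
    (-130) (.wt 0) (.split 5 113 (.split 1 (-122) (.wt 0) (.split 5 104 (.split 3 31 (.wt 0)
    (.split 2 27 (.lin 1) (.split 6 (-55) (.splitN 36299 (.wt 1) (.wt 0)) (.lin 3)))) (.lin 4)))
    (.lin 4))) (.lin 1)) (.div 2)) (.wt 5))) (.lin 1)) (.lin 1)) (.div 2)) (.wt 0))) (.lin 4))
    (.lin 3)))) (.lin 6))) (.lin 1)) (.lin 6))) (.div 2))) (.wt 3)) (.lin 12)) (.split 6 (-37)
    (.split 1 (-29) (.split 7 34 (.lin 12) (.split 3 7 (.wt 2) (.split 6 (-46) (.split 2 9 (.lin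
    10) (.split 3 40 cert5_45_7 (.split 6 (-73) (.split 2 36 (.lin 10) (.split 5 18 (.split 7 78
    (.split 1 (-75) (.lin 8) (.split 0 61 (.splitN 589828 (.split 2 759 (.split 3 763 (.splitN
    510898 (.split 2 706 (.split 6 (-710) .sq (.split 3 673 (.split 5 9 (.splitN 184803 (.wt 6)
    (.split 0 37 (.wt 0) (.split 6 (-91) (.split 1 (-47) (.wt 0) (.lin 4)) (.lin 3)))) (.split 1
    (-38) (.split 2 45 (.lin 10) (.split 6 (-82) (.splitN 165898 (.split 2 387 (.split 6 (-452)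
    (.lin 0) (.split 3 412 (.split 3 376 (.split 6 (-394) .sq (.split 3 349 (.split 0 43 (.split
    1 (-57) (.lin 4) (.split 7 53 (.split 3 51 (.wt 2) (.split 6 (-91) (.split 2 54 (.lin 10)
    (.split 0 25 (.wt 2) (.split 6 (-100) (.split 1 (-47) (.split 3 72 (.wt 2) (.split 2 81 (.lin
    10) (.split 6 (-127) (.split 3 100 (.wt 2) (.split 2 108 (.lin 10) (.split 6 (-154) (.split 0
    34 (.wt 2) (.split 2 334 (.split 3 331 (.split 6 (-163) (.split 1 (-56) (.split 7 52 (.lin 8)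
    (.splitN 71711 (.wt 1) (.splitN 76716 (.split 3 149 (.wt 0) (.split 2 153 (.lin 1) (.split 6
    (-208) .sq (.lin 0)))) (.wt 3)))) (.lin 4)) (.lin 3)) (.lin 1)) (.lin 3))) (.lin 0)))) (.lin
    0)))) (.lin 4)) (.lin 3)))) (.lin 6))) (.lin 8))) (.split 6 (-109) (.split 1 (-65) (.split 3
    48 (.wt 2) (.splitN 107283 .cand (.wt 1))) (.lin 4)) (.lin 3))) (.lin 6))) (.lin 10)) (.lin
    6))) .sq) (.wt 3)) (.lin 0))) (.lin 4))) (.lin 6))) .sq) (.wt 3)) (.lin 10)) .sq) (.wt 3))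
    (.lin 12))) (.split 6 (-118) (.split 1 (-74) (.split 0 69 (.lin 12) cert5_45_8) (.lin 8))
    (.lin 6))) (.split 1 (-47) (.split 2 54 (.lin 10) (.split 6 (-91) (.splitN 742851 (.split 1
    (-8253) (.div 1) (.split 7 8234 (.split 2 4126 (.split 6 (-12359) (.lin 0) (.splitN 697567
    (.split 2 3874 (.split 0 824 (.split 6 (-4700) (.lin 3) (.split 7 827 (.splitN 510196 (.split
    2 2830 (.split 6 (-3656) (.lin 3) (.split 0 701 (.split 7 710 cert5_45_9 (.lin 12)) .sq))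
    (.div 2)) (.wt 1)) (.lin 12))) .sq) (.div 2)) (.wt 1))) (.div 2)) (.lin 8))) (.wt 1)) (.lin
    3))) (.lin 4)))) (.lin 6)))) (.lin 6)))) (.lin 4)) (.lin 3)))) (.split 2 9 (.lin 10) (.split
    7 33 (.split 0 25 (.split 3 22 (.split 7 14 (.split 0 7 (.splitN 35969 (.wt 6) (.split 1
    (-18) (.wt 0) (.split 5 5 (.splitN 38166 (.wt 1) (.wt 0)) (.lin 4)))) (.lin 12)) (.split 6
    (-28) (.split 0 15 (.lin 12) (.split 3 12 (.wt 1) (.wt 0))) (.lin 6))) (.split 6 (-37)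
    (.split 2 27 (.lin 10) (.split 7 16 (.split 0 7 (.splitN 129079 (.split 1 (-1413) (.div 1)
    (.split 5 1400 (.split 2 706 (.split 6 (-2108) (.lin 0) (.split 1 (-687) (.lin 2) (.split 3
    2095 (.split 6 (-1388) (.lin 0) (.split 3 1375 (.split 3 700 (.split 5 680 (.splitN 119536
    (.split 2 652 (.split 5 626 (.splitN 36776 (.wt 1) (.splitN 111209 (.split 2 616 (.split 3
    610 (.split 1 (-43) (.wt 0) (.split 5 32 (.splitN 44765 (.wt 1) (.split 1 (-25) (.wt 0)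
    (.split 5 14 (.splitN 59855 (.wt 1) (.split 1 (-15) (.wt 0) (.split 5 5 (.splitN 67802 (.wt
    1) (.wt 0)) (.lin 4)))) (.lin 4)))) (.lin 4))) (.lin 1)) (.div 2)) (.wt 3))) (.lin 1)) (.div
    2)) (.wt 0)) (.lin 1)) (.lin 1)) (.lin 6))) (.lin 6)))) (.div 2)) (.lin 4))) (.wt 0)) (.lin
    12)) (.wt 3))) (.lin 6))) (.lin 12)) (.wt 3))))

def cert5_45 : Cert :=
  (.split 1 (-11) (.split 6 (-19) (.split 2 (-1) (.split 7 25 (.lin 1) (.split 4 (-20) (.split 0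
    22 (.split 3 10 (.wt 2) (.split 6 (-28) (.split 0 7 (.wt 2) (.split 1 (-20) (.split 6 (-37)
    (.split 3 41 (.wt 2) (.split 4 (-56) (.split 6 (-64) (.wt 2) (.lin 7)) (.lin 5))) (.lin 7))
    (.lin 4))) (.lin 7))) (.split 7 43 (.lin 1) (.split 1 (-29) (.split 6 (-37) (.split 3 10 (.wt
    2) (.split 7 52 (.lin 1) (.split 6 (-46) (.split 4 (-29) cert5_45_0 (.lin 10)) (.lin 7))))
    (.lin 7)) (.lin 4)))) (.lin 10))) (.split 4 (-12) (.split 6 (-28) (.split 7 25 (.lin 12)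
    cert5_45_6) (.lin 3)) cert5_45_10)) (.lin 7)) (.lin 4))

theorem check5_45 :
    check task5 cert5_45
      [(7, ⟨some (7), none⟩), (7, ⟨none, some (-2)⟩), (1, ⟨none, none⟩), (7, ⟨some (7), none⟩), (7, ⟨none, some (-2)⟩), (5, ⟨some (5), none⟩), (8, ⟨none, some (-10)⟩), (8, ⟨some (8), none⟩)] ⟨some (3960), none⟩ = true := by
  decide +kernel

def cert5_46_0 : Cert :=
  (.split 4 17 (.splitN 48744 (.split 3 16 (.wt 2) (.split 7 52 (.lin 2) (.split 5 (-40) (.split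
    6 (-46) (.split 0 196 (.split 5 (-176) (.lin 4) (.split 7 188 (.splitN 44674 (.split 4 11
    (.splitN 26794 (.splitN 23904 (.wt 6) (.split 0 175 (.wt 0) (.split 7 169 (.lin 12) .sq)))
    (.wt 0)) (.split 2 (-135) (.lin 10) (.split 1 (-147) (.lin 5) (.split 5 (-49) (.splitN 23693
    (.wt 1) (.split 0 184 (.split 5 (-158) (.lin 4) (.split 7 161 (.split 6 (-91) (.split 0 114
    (.lin 3) (.split 1 (-29) (.split 7 97 (.lin 9) (.splitN 35297 .sq (.wt 0))) (.lin 11)))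
    (.split 3 43 (.splitN 41147 (.split 0 175 (.split 7 152 (.split 7 102 (.split 2 (-54) (.lin
    2) (.split 0 151 (.split 3 27 (.wt 2) (.split 2 (-45) (.lin 2) (.split 1 (-48) (.lin 11)
    (.split 7 61 (.lin 2) (.split 5 (-58) (.split 6 (-55) (.splitN 27245 (.wt 1) (.splitN 35723
    (.split 1 (-31) (.wt 2) (.split 6 (-67) (.wt 2) (.split 7 80 (.split 2 (-27) (.lin 2) (.split
    0 106 (.split 0 97 (.split 1 (-29) (.wt 0) (.split 0 79 (.wt 2) (.split 5 (-67) (.split 7 70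
    (.lin 8) (.splitN 30731 (.wt 1) (.split 2 (-11) (.wt 0) (.split 0 88 (.split 6 (-64) (.split
    7 71 (.wt 0) (.lin 1)) (.lin 0)) (.lin 3))))) (.lin 4)))) (.lin 12)) (.lin 3))) (.split 2
    (-26) (.split 0 105 (.lin 12) (.split 5 (-67) (.split 5 (-76) (.splitN 30446 .sq (.split 1
    (-23) (.wt 0) (.split 5 (-85) (.split 3 36 (.wt 0) (.split 6 (-64) .sq (.lin 11))) (.lin
    4)))) (.lin 4)) (.lin 0))) (.lin 9))))) (.wt 3))) (.lin 11)) (.lin 10)))))) (.lin 3)))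
    (.split 5 (-67) (.split 2 (-26) (.split 0 123 (.lin 12) (.splitN 35387 .sq (.splitN 38213
    (.split 1 (-32) (.wt 0) (.split 5 (-94) .sq (.lin 4))) (.wt 3)))) (.lin 9)) (.lin 6))) (.lin
    12)) .sq) (.wt 3)) (.split 0 96 (.lin 5) (.split 1 (-30) (.lin 11) (.split 7 79 (.lin 2)
    (.split 5 (-67) (.split 5 (-76) (.split 6 (-73) (.splitN 40423 (.split 0 136 (.split 2 (-45)
    (.lin 3) (.split 7 116 (.splitN 39532 (.split 0 124 (.split 7 107 (.split 1 (-29) (.wt 2)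
    .cand) (.lin 12)) .sq) (.wt 0)) (.lin 12))) .sq) (.wt 1)) (.lin 11)) (.lin 10)) (.lin
    4))))))) (.lin 12))) .sq)) (.lin 10))))) (.wt 3)) (.lin 12))) .sq) (.lin 11)) (.lin 10))))
    (.wt 3)) (.split 0 69 (.lin 3) (.split 6 (-227) (.lin 3) (.split 5 (-49) (.split 7 233
    (.split 3 31 (.splitN 24062 (.wt 1) (.splitN 55954 (.split 0 220 (.split 5 (-194) (.lin 4)
    (.split 7 188 (.split 6 (-80) (.wt 2) (.split 1 (-57) (.lin 11) (.split 7 90 (.split 2 (-54)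
    (.lin 2) (.split 0 169 (.split 0 133 (.split 5 (-149) (.lin 0) (.split 5 (-113) (.lin 4)
    (.split 3 16 (.wt 2) (.split 2 (-45) (.lin 2) (.split 5 (-58) (.split 6 (-46) (.split 6 (-59)
    (.wt 2) (.split 1 (-30) (.lin 11) (.split 7 71 (.split 0 115 (.splitN 39546 .cand (.wt 0))
    (.lin 12)) (.split 2 (-26) (.split 0 96 (.lin 3) (.split 0 105 (.lin 12) (.split 5 (-67)
    (.split 5 (-76) (.splitN 39146 (.split 6 (-55) (.wt 6) (.split 5 (-85) (.split 2 (-35)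
    (.split 1 (-21) (.lin 11) (.splitN 33735 (.wt 1) (.split 4 26 (.wt 0) (.split 0 114 (.lin 3)
    (.wt 0))))) (.lin 9)) (.lin 6))) (.wt 1)) (.lin 4)) (.lin 0)))) (.lin 2))))) (.lin 11)) (.lin
    10)))))) (.lin 12)) (.lin 3))) (.split 2 (-17) (.split 2 (-26) (.split 0 123 (.lin 12)
    (.split 5 (-67) (.splitN 49356 (.split 0 178 (.split 5 (-158) (.lin 4) (.split 7 152 (.splitN
    47049 (.split 6 (-70) (.wt 2) (.split 5 (-76) (.split 2 (-35) (.split 0 163 (.split 2 (-99)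
    (.lin 3) (.split 7 134 (.splitN 45197 (.split 0 153 (.split 7 125 (.split 6 (-64) (.wt 2)
    (.split 5 (-85) (.split 2 (-44) (.splitN 36791 .sq (.split 3 16 (.wt 0) (.split 1 (-30) (.lin
    11) (.split 5 (-94) (.split 6 (-46) (.splitN 40804 (.split 1 (-29) (.wt 0) (.split 2 (-53)
    (.split 5 (-103) .sq (.lin 0)) (.lin 2))) (.wt 1)) (.lin 11)) (.lin 4))))) (.lin 9)) (.lin
    6))) (.lin 12)) .sq) (.wt 3)) (.lin 12))) .sq) (.lin 9)) (.lin 6))) (.wt 3)) (.lin 12))) .sq)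
    (.wt 3)) (.lin 4))) (.lin 9)) (.lin 2))))) (.lin 12))) .sq) (.wt 3))) (.split 0 87 (.lin 5)
    (.split 7 61 (.lin 2) (.split 5 (-67) (.split 6 (-55) (.splitN 61498 (.split 0 213 (.split 7
    179 (.split 6 (-98) (.split 0 132 (.lin 3) (.split 1 (-38) (.split 7 106 (.lin 9) (.splitN
    46916 .sq (.wt 3))) (.lin 11))) (.splitN 51932 (.split 0 188 (.split 5 (-167) (.lin 4)
    (.split 7 161 (.split 1 (-38) (.split 7 79 (.lin 2) (.split 5 (-149) (.lin 4) (.split 6 (-73)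
    (.splitN 45560 (.split 0 152 (.split 5 (-113) (.lin 4) (.split 7 125 (.split 3 43 (.splitN
    41647 (.split 0 141 (.split 2 (-36) (.lin 3) (.split 7 107 (.split 3 35 (.wt 2) (.split 0 114
    (.lin 5) (.split 7 88 (.lin 2) (.split 5 (-76) (.split 6 (-82) (.splitN 37628 .sq (.wt 0))
    (.lin 11)) (.lin 10))))) (.lin 12))) .sq) (.wt 3)) (.split 0 123 (.lin 5) (.split 1 (-39)
    (.lin 11) (.split 7 97 (.lin 2) (.split 5 (-85) (.split 6 (-91) .sq (.lin 11)) (.lin 4))))))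
    (.lin 12))) .sq) (.wt 1)) (.lin 11)))) (.split 7 111 (.split 0 151 (.split 5 (-131) (.lin 4)
    (.split 6 (-73) (.split 0 105 (.lin 3) (.split 7 79 (.lin 9) (.split 1 (-25) .cand (.split 3
    51 (.lin 11) (.split 6 (-83) (.lin 11) (.wt 2)))))) (.split 7 84 (.split 0 124 (.split 4 34
    (.split 5 (-95) (.lin 8) (.split 1 (-25) (.split 2 (-18) (.lin 2) (.split 7 70 (.lin 2)
    (.split 3 34 (.split 6 (-64) (.splitN 35184 (.wt 1) (.wt 0)) (.lin 11)) (.lin 11)))) (.split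
    3 38 (.split 6 (-56) (.lin 11) (.splitN 38695 .cand (.wt 1))) (.split 7 70 (.lin 2) (.wt
    2))))) .cand) (.lin 12)) (.split 2 (-26) (.split 0 114 (.lin 12) (.splitN 40081 (.split 3 42
    .cand (.wt 2)) (.wt 1))) (.lin 9))))) (.lin 12)) (.split 0 141 (.lin 12) (.split 5 (-112) .sq
    (.lin 4))))) (.lin 12))) .sq) (.wt 1))) (.lin 12)) .sq) (.wt 1)) (.lin 11)) (.lin 10)))))
    (.lin 12)) (.lin 10)))))

def cert5_46_1 : Cert :=
  (.split 4 44 (.splitN 93559 (.split 0 293 (.split 5 (-266) (.lin 4) (.split 7 278 (.split 3 63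
    (.splitN 76509 (.split 0 264 (.split 7 251 cert5_46_0 (.lin 12)) .sq) (.wt 3)) (.split 0 105
    (.lin 5) (.split 7 97 (.lin 2) (.split 5 (-85) (.split 6 (-91) (.splitN 41759 .sq (.splitN
    57020 (.split 4 10 (.wt 0) (.split 0 114 (.lin 3) (.split 5 (-94) (.splitN 45566 .sq (.split
    0 153 (.split 6 (-128) (.lin 3) (.split 5 (-131) (.lin 4) (.split 3 142 (.split 7 134
    (.splitN 47293 (.split 4 16 (.wt 0) (.split 5 (-103) .sq (.lin 10))) (.wt 1)) (.lin 12))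
    (.lin 6)))) .sq)) (.lin 10)))) (.wt 1))) (.lin 11)) (.lin 10))))) (.lin 12))) .sq) (.wt 1))
    (.split 0 96 (.lin 3) (.split 6 (-272) (.lin 3) (.split 5 (-76) (.split 7 278 (.splitN 96752
    (.split 0 286 (.split 2 (-198) (.lin 3) (.split 4 241 (.split 6 (-227) (.lin 3) (.split 5
    (-266) (.lin 4) (.split 7 233 (.splitN 90851 (.split 0 275 (.split 6 (-209) (.lin 3) (.split
    5 (-248) (.lin 4) (.split 7 215 (.split 3 28 (.splitN 68187 (.split 6 (-108) (.wt 2) (.split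
    1 (-84) (.lin 11) (.split 0 230 (.split 4 178 (.split 5 (-203) (.lin 4) (.split 7 170 (.split
    6 (-64) (.split 1 (-38) (.split 4 151 (.splitN 39035 (.wt 6) (.split 3 19 (.wt 0) (.split 5
    (-85) (.splitN 42810 (.wt 6) (.wt 4)) (.lin 10)))) (.lin 3)) (.lin 11)) (.split 1 (-39) (.lin
    11) (.split 7 86 (.split 2 (-45) (.lin 2) (.splitN 50730 (.split 0 191 (.split 4 142 (.split
    5 (-167) (.lin 4) (.split 3 20 (.wt 2) (.split 0 105 (.lin 5) (.split 1 (-30) (.lin 11)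
    (.split 7 52 (.lin 2) (.split 5 (-85) (.split 6 (-46) (.splitN 44344 (.split 0 164 (.split 4
    106 (.split 5 (-140) (.lin 4) (.split 7 66 (.split 2 (-18) (.lin 2) (.splitN 40944 (.split 0
    153 (.split 5 (-131) (.lin 4) (.split 1 (-25) (.split 2 (-9) (.lin 2) (.split 7 61 (.lin 2)
    (.split 4 88 (.split 6 (-55) (.splitN 34619 (.wt 1) (.wt 0)) (.lin 9)) (.lin 5)))) (.split 6
    (-47) (.lin 11) (.splitN 33801 (.wt 0) (.splitN 38761 (.split 7 61 (.split 2 (-9) (.lin 2)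
    (.split 4 66 (.split 5 (-95) (.lin 0) (.wt 1)) (.wt 0))) (.wt 0)) (.wt 1)))))) .sq) (.wt 1)))
    (.split 2 (-17) (.split 0 123 (.lin 12) (.split 5 (-94) (.split 4 88 (.splitN 40645 (.split 0
    139 (.split 4 70 (.split 1 (-25) (.split 6 (-55) (.splitN 36737 .sq (.wt 0)) (.lin 11))
    (.split 2 (-26) (.split 5 (-103) (.split 6 (-47) (.lin 11) (.splitN 37547 .sq (.wt 1))) (.lin
    0)) (.lin 2))) (.lin 3)) .sq) (.wt 1)) (.lin 12)) (.lin 4))) (.lin 2)))) (.lin 3)) .sq) (.wt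
    1)) (.lin 11)) (.lin 10))))))) (.lin 3)) .sq) (.wt 1))) (.split 2 (-26) (.split 0 114 (.lin
    3) (.split 2 (-35) (.split 0 141 (.lin 12) (.split 5 (-103) (.split 4 133 (.splitN 44648 .sq
    (.split 3 23 (.wt 3) (.wt 1))) (.lin 12)) (.lin 4))) (.lin 9))) (.lin 2))))) (.lin 12)))
    (.lin 3)) .sq))) (.wt 3)) (.split 0 114 (.lin 5) (.split 7 61 (.lin 2) (.split 4 205 (.split
    5 (-94) (.split 6 (-55) (.splitN 33254 .sq (.splitN 65728 (.split 0 213 (.split 2 (-99) (.lin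
    3) (.split 4 142 (.split 6 (-146) (.lin 3) (.split 5 (-185) (.lin 4) (.split 7 152 (.splitN
    58431 (.split 0 189 (.split 4 124 (.split 6 (-128) (.lin 3) (.split 5 (-167) (.lin 4) (.split
    7 134 (.splitN 55584 (.split 6 (-91) (.split 0 150 (.lin 3) (.split 7 97 (.lin 9) .sq))
    (.splitN 51243 (.split 0 171 (.split 7 116 (.split 1 (-34) (.split 0 132 (.lin 4) (.split 7
    79 (.lin 2) (.split 5 (-131) (.lin 4) (.split 6 (-73) (.splitN 43622 .sq (.wt 1)) (.lin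
    11))))) (.split 3 51 (.split 6 (-74) (.lin 11) (.splitN 48213 (.split 0 161 (.split 5 (-140)
    (.lin 4) (.split 7 107 (.split 6 (-56) (.split 0 123 (.lin 3) (.split 4 88 (.split 7 70 (.lin
    9) (.splitN 37673 .sq (.split 3 41 (.split 5 (-131) (.lin 7) (.split 1 (-29) (.split 6 (-65)
    (.lin 11) (.splitN 42678 (.split 7 103 (.split 2 (-17) (.wt 1) (.split 7 71 (.wt 1) (.lin
    2))) (.wt 0)) (.wt 1))) (.lin 11))) (.wt 2)))) (.lin 3))) (.wt 6)) (.lin 12))) .sq) (.wt 1)))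
    (.wt 2))) (.lin 12)) .sq) (.wt 1))) (.wt 1)) (.lin 12)))) (.lin 3)) .sq) (.wt 1)) (.lin
    12)))) (.lin 3))) .sq) (.wt 1))) (.lin 11)) (.lin 10)) (.lin 5))))) (.lin 12)))) .sq) (.wt
    1)) (.lin 12)))) (.lin 3))) .sq) (.wt 1)) (.lin 12)) (.lin 10)))))

def cert5_46_2 : Cert :=
  (.split 4 34 (.split 1 (-57) (.lin 8) (.split 2 37 (.split 0 88 (.split 4 15 (.split 6 (-46)
    (.split 0 61 (.split 7 43 (.lin 8) (.splitN 16555 (.wt 1) (.wt 0))) (.lin 12)) (.lin 0))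
    (.split 2 6 (.split 6 (-56) (.lin 9) (.split 3 25 (.splitN 19890 (.split 3 20 (.wt 6) (.split
    1 (-30) (.lin 2) (.split 7 43 (.lin 2) (.split 6 (-46) (.split 5 (-40) (.split 4 23 (.split 0
    70 (.wt 2) (.lin 3)) (.wt 1)) (.lin 10)) (.lin 9))))) (.wt 3)) (.split 1 (-21) (.lin 2)
    (.split 7 52 (.lin 2) (.splitN 17879 (.wt 0) (.wt 1)))))) (.split 3 18 (.wt 2) (.split 6
    (-46) (.split 6 (-71) (.wt 2) (.split 1 (-39) (.lin 11) (.split 7 39 (.split 0 70 (.splitN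
    26358 (.splitN 22278 (.wt 6) (.split 4 19 (.wt 0) (.split 7 27 (.wt 0) (.split 1 (-26)
    (.split 2 18 (.lin 2) (.split 6 (-55) (.wt 0) (.lin 9))) (.wt 1))))) (.wt 0)) (.lin 12))
    (.split 6 (-55) (.splitN 23682 (.wt 1) (.split 4 17 (.wt 0) (.split 0 69 (.lin 12) (.split 1
    (-35) (.wt 2) (.split 5 (-40) (.split 1 (-29) (.wt 2) (.split 7 44 (.splitN 27738 (.wt 1)
    (.wt 0)) (.lin 2))) (.lin 4)))))) (.lin 9))))) (.lin 11))))) (.lin 12)) (.lin 10))) (.split 0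
    69 (.lin 12) (.split 0 184 (.split 4 151 (.split 2 12 (.split 5 (-49) (.split 2 3 (.split 1
    (-39) (.lin 2) (.split 0 78 (.lin 3) (.split 7 34 (.lin 2) (.split 6 (-56) (.lin 9) (.split 5
    (-58) (.splitN 21101 (.split 5 (-113) (.div 5) (.split 4 115 (.split 0 108 (.split 4 70
    (.split 5 (-86) (.lin 4) (.split 3 20 (.splitN 19810 (.wt 6) (.wt 0)) (.split 7 43 (.lin 2)
    (.split 6 (-46) (.split 5 (-67) (.splitN 19160 .sq (.wt 1)) (.lin 10)) (.lin 9))))) (.lin 3))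
    .sq) (.lin 0))) (.wt 1)) (.lin 10)))))) (.split 3 25 (.splitN 34849 (.split 0 161 (.split 7
    39 (.split 6 (-47) (.lin 9) (.splitN 28558 (.split 3 17 (.wt 2) (.split 1 (-21) (.lin 2)
    (.split 0 78 (.lin 5) (.split 5 (-58) (.split 7 34 (.lin 2) (.split 6 (-46) (.splitN 23937
    (.wt 0) (.split 4 57 (.wt 0) (.split 5 (-76) (.split 0 96 (.lin 1) (.split 4 102 (.split 5
    (-113) (.lin 0) (.split 0 133 (.wt 1) (.lin 1))) (.wt 0))) (.lin 0)))) (.lin 9))) (.lin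
    1))))) (.wt 3))) (.split 1 (-29) (.split 6 (-55) (.split 4 115 (.splitN 29938 (.wt 6) (.wt
    0)) (.lin 3)) (.lin 9)) (.lin 2))) .sq) (.wt 3)) .cand)) (.lin 10)) (.split 6 (-46) (.splitN
    38891 (.split 3 17 (.wt 2) (.split 0 171 (.split 4 142 (.split 7 39 (.splitN 31193 (.split 6
    (-91) (.wt 2) (.split 1 (-57) (.lin 11) (.split 0 151 (.split 4 124 (.split 6 (-64) (.split 2
    27 (.lin 9) (.split 1 (-29) (.splitN 25343 (.wt 6) (.split 0 104 (.wt 0) (.split 5 (-49) (.wt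
    2) (.lin 4)))) (.lin 11))) (.split 5 (-40) (.split 2 28 (.split 0 149 (.split 5 (-122) (.lin
    4) (.split 4 115 (.split 7 30 (.splitN 26302 (.split 3 25 (.wt 2) (.split 5 (-49) (.split 1
    (-21) (.lin 2) (.split 2 27 (.lin 2) (.split 6 (-55) (.wt 1) (.lin 9)))) (.lin 1))) (.wt 0))
    (.split 5 (-49) (.split 2 19 (.split 0 78 (.lin 12) (.split 6 (-55) (.splitN 29793 (.split 3
    26 (.wt 2) (.split 5 (-58) (.split 1 (-21) (.lin 2) (.wt 1)) (.lin 1))) (.wt 1)) (.lin 9)))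
    (.lin 9)) (.lin 6))) (.lin 12))) .sq) (.lin 9)) (.lin 6))) (.lin 12)) .sq))) (.wt 3)) (.split
    1 (-29) (.split 6 (-64) (.split 4 124 (.splitN 35019 (.split 3 25 (.wt 2) (.split 6 (-97)
    (.wt 2) (.split 2 46 (.split 0 148 (.split 4 97 (.splitN 32613 (.split 6 (-88) (.wt 2)
    (.split 5 (-40) (.split 1 (-48) (.lin 11) (.splitN 26954 (.wt 1) (.split 6 (-81) (.wt 2)
    (.split 5 (-49) (.split 2 28 (.split 1 (-39) (.lin 11) (.split 0 95 (.wt 6) (.split 5 (-58)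
    (.split 0 104 (.wt 6) (.split 5 (-67) (.split 6 (-73) (.wt 2) (.split 4 60 (.lin 3) (.split 2
    19 (.split 1 (-30) (.lin 11) (.split 5 (-76) (.split 7 44 (.wt 0) (.lin 2)) (.lin 0))) (.lin
    9)))) (.lin 4))) (.lin 4)))) (.lin 9)) (.lin 6))))) (.lin 6))) (.wt 3)) (.lin 12)) .sq) (.lin
    9)))) (.wt 0)) (.lin 12)) (.lin 9)) (.lin 2))) (.lin 12)) .sq)) (.wt 3)) (.lin 9))) (.lin
    12)) .sq)))

def cert5_46_3 : Cert :=
  (.split 7 39 (.split 2 27 (.lin 2) (.splitN 34149 (.splitN 20546 (.wt 1) (.split 0 152 (.split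
    5 (-131) (.lin 4) (.split 4 124 (.split 3 146 (.split 6 (-154) .sq (.split 1 (-45) (.split 2
    54 (.lin 2) (.split 0 78 (.lin 4) (.split 4 42 (.lin 8) (.split 3 97 (.split 6 (-91) (.splitN
    25091 .sq (.splitN 29022 (.split 3 53 (.wt 0) (.split 2 72 (.lin 2) (.split 6 (-109) .sq
    (.lin 11)))) (.wt 0))) (.lin 11)) (.lin 11))))) (.split 6 (-105) (.split 2 72 (.lin 9)
    (.split 3 69 (.lin 11) (.splitN 29024 .sq (.splitN 32402 (.split 7 26 (.wt 0) (.split 0 69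
    (.lin 12) .sq)) (.wt 1))))) (.split 2 73 (.split 3 79 (.splitN 32172 (.split 0 141 (.split 5
    (-113) (.lin 4) (.split 4 106 (.split 7 30 (.split 2 36 (.lin 2) (.splitN 29089 (.split 0 127
    (.split 4 97 (.split 1 (-29) (.split 2 45 (.lin 2) (.split 3 70 (.split 6 (-73) (.splitN
    24866 (.split 3 47 (.wt 0) (.split 2 54 (.lin 2) (.split 6 (-82) (.split 0 77 (.wt 0) (.split
    5 (-40) (.split 4 51 (.lin 12) .sq) (.lin 4))) (.lin 9)))) (.wt 0)) (.lin 9)) (.lin 2)))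
    (.split 5 (-40) (.split 3 61 (.split 2 55 (.splitN 26269 (.split 0 113 (.wt 1) (.split 5
    (-94) (.split 4 87 (.lin 8) .sq) (.lin 4))) (.wt 3)) (.lin 2)) (.split 2 63 (.lin 2) (.split
    6 (-91) (.splitN 24830 .sq (.wt 3)) (.lin 9)))) (.lin 4))) (.lin 12)) .sq) (.wt 0))) .cand)
    (.lin 12))) .sq) (.wt 1)) (.lin 11)) (.lin 9))))) .sq) (.lin 12))) .sq)) (.wt 1))) (.split 0
    78 (.lin 12) (.splitN 39172 (.split 0 160 (.split 6 (-155) .sq (.split 2 109 (.split 1 (-47)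
    (.split 2 36 (.lin 2) (.split 3 115 (.split 5 (-113) (.lin 4) (.split 3 106 (.split 6 (-91)
    (.splitN 34993 (.split 0 123 (.split 5 (-68) (.lin 4) (.split 4 70 (.splitN 32249 (.split 3
    46 (.wt 2) (.split 2 45 (.lin 2) (.split 6 (-100) (.splitN 27323 .sq (.split 4 35 (.wt 3)
    (.split 0 87 (.lin 12) (.split 0 90 (.split 2 54 (.lin 3) .sq) .sq)))) (.lin 11)))) (.wt 3))
    (.lin 12))) .sq) (.wt 1)) (.lin 11)) (.lin 11))) (.lin 2))) (.split 5 (-40) (.splitN 24544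
    (.wt 1) (.split 0 158 (.split 6 (-152) .sq (.split 2 100 (.split 6 (-105) (.split 2 54 (.lin
    9) (.split 3 60 (.lin 2) (.split 3 69 (.lin 11) (.splitN 31139 .sq (.split 0 107 (.split 5
    (-86) (.lin 4) (.split 4 61 (.splitN 35559 (.split 1 (-38) (.wt 1) (.split 5 (-49) (.split 3
    78 (.lin 11) .sq) (.lin 4))) (.wt 1)) (.lin 12))) .sq))))) (.split 2 55 (.split 1 (-29)
    (.split 2 18 (.lin 2) (.split 5 (-122) (.lin 4) (.split 3 70 (.split 6 (-73) (.splitN 34656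
    (.split 0 141 (.split 3 56 (.split 2 46 (.split 6 (-92) (.lin 11) (.split 4 61 (.split 0 115
    (.split 5 (-86) (.lin 4) (.splitN 33108 (.splitN 26696 (.wt 1) (.split 4 47 (.split 0 97
    (.split 7 45 (.wt 0) (.split 0 87 (.lin 12) (.split 5 (-49) (.split 1 (-37) (.wt 0) (.split 5
    (-58) (.split 3 43 (.wt 2) (.split 2 27 (.lin 2) (.split 6 (-82) (.wt 1) (.lin 9)))) (.lin
    4))) (.lin 4)))) (.lin 12)) (.split 0 96 (.lin 12) (.split 5 (-58) (.split 7 48 (.split 1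
    (-33) (.wt 0) (.split 5 (-67) (.split 3 46 (.wt 0) (.split 2 36 (.lin 2) (.split 6 (-82) .sq
    (.lin 9)))) (.lin 4))) (.split 0 105 (.lin 12) (.split 5 (-67) (.split 1 (-31) (.split 2 27
    (.lin 2) (.split 6 (-82) .sq (.lin 9))) (.wt 1)) (.lin 4)))) (.lin 4))))) (.wt 1))) (.lin
    12)) (.split 0 114 (.lin 12) (.split 5 (-76) .sq (.lin 4))))) (.lin 2)) (.split 2 36 (.lin 2)
    (.split 6 (-91) (.splitN 27312 (.wt 1) (.split 0 119 (.split 4 79 (.split 5 (-86) (.lin 4)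
    (.splitN 32952 (.split 0 104 (.split 4 52 (.split 7 48 (.split 2 45 (.lin 2) (.split 0 81
    (.wt 0) (.split 5 (-49) (.split 4 42 (.lin 12) (.split 1 (-32) (.wt 0) (.split 5 (-58)
    (.split 3 63 (.wt 0) (.split 2 54 (.lin 2) (.split 6 (-100) .sq (.lin 9)))) (.lin 4)))) (.lin
    1)))) (.split 5 (-49) (.split 0 87 (.lin 12) (.split 0 96 (.split 4 34 (.split 1 (-32) (.wt
    0) (.split 5 (-58) (.wt 1) (.lin 4))) (.lin 12)) .sq)) (.lin 6))) (.lin 12)) .sq) (.wt 1)))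
    (.lin 3)) .sq)) (.lin 11)))) .sq) (.wt 1)) (.lin 11)) (.lin 11)))) .cand) (.lin 9))) (.lin
    9))) .sq)) (.lin 4))) (.lin 9))) .sq) (.wt 1))))

def cert5_46_4 : Cert :=
  (.split 5 (-26) (.split 0 51 (.lin 4) (.splitN 41073 (.split 0 177 (.split 5 (-149) (.lin 4)
    (.split 4 142 (.split 4 31 (.split 1 (-48) (.lin 8) (.split 0 79 (.split 5 (-59) (.lin 4)
    (.splitN 35320 (.split 4 8 (.wt 2) (.split 6 (-162) .sq (.split 3 133 (.split 7 39 (.split 2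
    27 (.lin 2) (.split 0 61 (.split 3 61 (.wt 2) (.split 6 (-91) (.splitN 26361 (.wt 6) (.wt 0))
    (.lin 11))) (.lin 12))) (.split 2 109 (.split 0 60 (.lin 12) (.splitN 33109 (.split 6 (-144)
    .sq (.split 2 91 (.split 3 124 (.split 3 115 (.split 6 (-100) (.split 2 36 (.lin 3) (.split 2
    45 (.lin 9) (.split 3 102 (.split 1 (-33) (.wt 2) (.split 4 20 (.wt 2) (.split 5 (-40)
    (.split 0 69 (.lin 12) (.splitN 27599 (.wt 1) (.split 1 (-26) (.wt 0) (.split 3 78 (.lin 11)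
    (.split 7 44 (.wt 0) (.split 0 78 (.lin 12) (.split 5 (-58) .sq (.lin 4)))))))) (.lin 8))))
    .sq))) (.split 2 64 (.split 3 88 (.split 2 46 (.split 3 79 (.split 3 70 (.split 1 (-34)
    (.split 2 27 (.lin 2) (.split 3 61 (.split 6 (-82) (.splitN 25647 (.wt 1) (.wt 0)) (.lin 11))
    (.lin 2))) (.splitN 23737 (.wt 1) (.split 4 20 (.split 0 70 (.split 1 (-24) (.wt 0) (.split 5
    (-40) (.split 3 53 (.wt 0) (.split 6 (-82) (.wt 0) (.lin 11))) (.lin 4))) (.lin 12)) .cand)))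
    (.lin 11)) (.lin 2)) (.lin 9)) (.lin 6)) (.lin 0))) (.lin 11)) (.lin 2)) (.lin 9))) (.wt 3)))
    (.lin 9))) (.lin 11)))) (.wt 1))) (.lin 12))) (.split 0 60 (.lin 12) (.split 6 (-176) .sq
    (.split 2 145 (.split 3 151 cert5_46_3 (.lin 11)) (.lin 9))))) (.lin 12))) .sq) (.wt 1)))
    (.split 2 27 (.lin 10) (.splitN 37353 (.split 6 (-178) .sq (.split 3 151 (.split 4 29 (.split
    1 (-75) (.lin 8) (.split 0 79 (.splitN 32775 (.split 6 (-158) .sq (.split 3 133 (.split 5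
    (-10) (.split 4 13 (.wt 2) (.split 2 36 (.lin 10) (.split 0 42 (.lin 12) (.splitN 18578 (.wt
    1) (.split 6 (-153) .sq (.split 3 124 (.split 7 39 (.split 1 (-48) (.lin 8) (.split 0 61
    (.splitN 26563 (.split 3 120 (.split 6 (-130) .sq (.split 3 106 (.split 2 100 (.split 7 30
    (.split 0 52 (.splitN 22850 (.split 1 (-38) (.wt 0) (.split 4 22 (.split 0 43 (.wt 0) (.lin
    12)) (.wt 1))) (.wt 0)) (.lin 12)) (.split 3 97 (.split 1 (-29) (.split 0 51 (.lin 12)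
    (.split 6 (-73) (.splitN 21032 (.wt 1) (.split 3 57 (.wt 0) (.split 6 (-91) (.split 1 (-34)
    (.wt 0) (.split 5 (-22) (.split 4 16 (.wt 0) (.lin 8)) (.lin 4))) (.lin 6)))) (.lin 6)))
    (.lin 8)) (.lin 6))) (.lin 9)) (.lin 6))) .sq) (.wt 3)) (.lin 12))) (.split 3 106 (.split 1
    (-38) (.split 0 60 (.lin 12) (.split 6 (-82) (.splitN 29717 (.splitN 21993 (.wt 1) (.split 6
    (-127) .sq (.split 3 79 (.split 4 20 (.splitN 24310 (.split 3 58 (.wt 0) (.split 2 54 (.lin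
    10) (.split 6 (-100) .sq (.lin 3)))) (.wt 0)) (.split 3 70 (.split 1 (-47) (.split 2 45 (.lin
    10) (.split 0 69 (.lin 12) (.split 6 (-91) (.splitN 23581 (.wt 1) (.wt 3)) (.lin 3)))) (.lin
    8)) (.lin 6))) (.lin 6)))) (.wt 0)) (.lin 6))) (.lin 8)) (.lin 6))) (.lin 6))))))) (.split 1
    (-29) (.split 2 45 (.lin 10) (.split 6 (-73) (.splitN 20179 (.split 6 (-117) .sq (.split 3 79
    (.splitN 19764 (.split 6 (-102) .sq (.split 4 11 (.splitN 16669 (.split 7 41 (.split 1 (-39)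
    (.lin 8) (.split 0 43 (.wt 1) (.lin 12))) (.wt 0)) (.wt 1)) (.split 0 42 (.lin 12) (.wt 2))))
    (.wt 1)) (.lin 6))) (.wt 1)) (.lin 6))) (.lin 4))) (.lin 11))) (.wt 3)) (.lin 12))) (.split 1
    (-38) (.split 2 54 (.lin 10) (.split 0 60 (.lin 12) (.split 6 (-82) (.splitN 18611 .sq
    (.splitN 32683 (.split 5 (-5) (.split 0 121 (.split 6 (-134) .sq (.split 3 88 (.split 4 79
    (.split 7 39 (.splitN 29509 (.split 6 (-121) .sq (.split 3 79 (.split 0 97 (.split 2 91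
    (.split 1 (-75) (.lin 11) (.split 4 70 (.splitN 20259 (.wt 1) (.splitN 26631 (.split 7 26
    (.wt 3) (.split 3 70 (.split 6 (-91) (.split 5 (-18) (.wt 1) (.split 2 63 (.lin 10) (.split 6
    (-100) .sq (.lin 6)))) (.lin 6)) (.lin 6))) (.wt 3))) (.lin 6))) (.lin 9)) (.lin 7)) (.lin
    6))) (.wt 0)) (.split 3 70 (.split 1 (-56) (.split 0 78 (.lin 12) (.split 4 61 (.split 6
    (-100) (.splitN 27512 .sq (.wt 3)) (.lin 6)) (.lin 6))) (.lin 8)) (.lin 6))) (.lin 6)) (.lin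
    6))) .sq) (.wt 6)) (.wt 1))) (.lin 6)))) (.lin 8))) (.lin 11))) (.wt 1))))

def cert5_46_5 : Cert :=
  (.split 7 20 (.split 2 9 (.lin 2) (.splitN 35912 (.splitN 7996 (.wt 1) (.split 3 8 (.wt 2)
    (.split 6 (-37) (.split 7 12 (.splitN 11382 (.split 2 58 (.split 3 43 (.split 6 (-65) (.lin
    9) (.split 5 (-59) (.div 5) (.split 0 106 (.split 4 97 (.wt 5) (.lin 6)) (.lin 1)))) (.lin
    2)) (.div 2)) (.wt 0)) .cand) (.lin 11)))) (.wt 0))) (.split 2 199 (.split 0 33 (.lin 12)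
    (.split 4 205 (.split 3 37 (.splitN 43355 (.split 0 202 (.split 5 (-176) (.lin 4) (.split 4
    169 (.splitN 42707 (.split 6 (-194) .sq (.split 2 163 (.split 3 15 (.splitN 15409 (.wt 6)
    (.wt 4)) (.split 6 (-37) (.split 5 (-27) (.split 0 51 (.lin 4) cert5_46_2) (.splitN 39341
    (.split 0 183 (.split 4 151 (.split 4 32 (.split 6 (-110) (.lin 6) (.split 0 115 (.split 1
    (-75) (.lin 8) (.split 2 82 (.split 2 55 (.split 0 79 (.split 5 (-10) (.splitN 11908 (.wt 1)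
    (.split 4 13 (.splitN 15004 (.split 2 1 (.split 3 16 (.wt 0) (.lin 10)) (.wt 1)) (.wt 4))
    (.split 2 9 (.lin 10) (.split 3 16 (.wt 2) (.split 6 (-46) (.split 7 39 (.split 0 61 (.split
    3 25 (.wt 2) (.split 6 (-55) (.splitN 22350 (.wt 6) (.split 0 51 (.wt 0) (.split 1 (-29)
    (.split 6 (-64) (.wt 0) (.lin 7)) (.lin 4)))) (.lin 6))) (.lin 12)) (.split 1 (-38) (.split 6
    (-64) (.splitN 25045 (.wt 6) (.wt 0)) (.lin 6)) (.lin 8))) (.lin 6)))))) (.split 1 (-29)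
    (.split 2 18 (.lin 10) (.split 6 (-46) (.split 4 13 (.split 1 (-57) (.lin 8) (.splitN 16664
    (.split 3 17 (.wt 1) (.split 6 (-55) (.split 2 27 (.lin 10) (.split 0 36 (.wt 1) (.split 6
    (-64) (.split 1 (-38) (.split 7 34 (.lin 8) (.wt 1)) (.lin 4)) (.lin 3)))) (.lin 6))) (.wt
    3))) (.split 1 (-38) (.split 2 27 (.lin 10) (.split 0 42 (.lin 12) (.splitN 14720 (.wt 1)
    (.split 3 25 (.split 6 (-101) (.lin 6) (.split 2 46 (.split 7 39 (.split 1 (-57) (.lin 8)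
    (.split 6 (-92) (.lin 0) (.splitN 18788 .cand (.wt 1)))) (.split 1 (-56) (.split 0 60 (.lin
    12) (.split 6 (-73) (.splitN 20131 (.wt 1) (.wt 1)) (.lin 6))) (.lin 8))) (.lin 10)))
    (.splitN 19436 (.split 7 33 (.split 6 (-83) (.lin 6) (.wt 1)) (.wt 0)) (.wt 1)))))) (.lin
    8))) (.lin 6))) (.lin 4))) (.lin 12)) (.lin 10)) (.lin 9))) (.lin 7))) (.split 6 (-55)
    (.split 1 (-38) (.split 2 27 (.lin 10) (.split 0 60 (.lin 12) (.splitN 32025 (.split 0 150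
    (.split 4 115 (.split 6 (-148) .sq (.split 5 (-10) (.split 3 19 (.wt 2) (.split 6 (-64)
    (.split 2 36 (.lin 10) (.split 1 (-120) (.lin 11) (.split 6 (-144) .sq (.split 4 106 (.split
    0 133 (.split 7 39 (.splitN 26589 (.split 0 62 (.wt 2) (.split 1 (-47) (.split 6 (-73)
    (.splitN 20434 (.wt 1) (.split 1 (-107) (.wt 0) (.split 0 124 (.split 4 97 (.split 1 (-90)
    (.wt 0) (.split 0 106 (.split 4 79 (.wt 6) (.lin 8)) (.lin 4))) (.lin 8)) (.lin 4)))) (.lin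
    7)) (.lin 4))) (.wt 0)) (.split 1 (-56) (.split 2 91 (.split 4 88 (.split 6 (-82) (.splitN
    29062 (.splitN 24114 (.wt 1) (.split 3 25 (.wt 0) (.split 6 (-91) (.split 4 47 (.wt 0)
    (.split 6 (-109) (.split 1 (-74) (.split 2 63 (.lin 10) .sq) (.lin 8)) (.lin 6))) (.lin 6))))
    (.wt 0)) (.lin 6)) (.lin 6)) (.lin 9)) (.lin 8))) (.lin 7)) (.lin 6))))) (.lin 6))) (.split 1
    (-56) (.split 2 45 (.lin 10) (.split 6 (-73) (.splitN 21934 (.split 2 112 (.split 3 27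
    (.split 0 86 (.split 2 73 (.split 1 (-75) (.lin 4) (.split 6 (-101) (.lin 7) (.split 4 52
    (.split 7 44 (.split 3 23 (.split 6 (-92) (.lin 7) (.splitN 20097 (.wt 6) (.wt 1))) (.wt 2))
    (.lin 8)) (.lin 8)))) (.lin 1)) .sq) (.wt 2)) (.div 2)) (.wt 1)) (.lin 6))) (.lin 8)))) (.lin
    12)) .sq) (.wt 3)))) (.lin 8)) (.lin 6))) (.lin 12)) .sq) (.wt 3))) (.lin 11))) (.lin 9)))
    (.wt 3)) (.lin 12))) .sq) (.wt 3)) (.split 1 (-210) (.lin 2) (.split 1 (-183) (.lin 11)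
    (.split 2 9 (.lin 2) (.split 6 (-64) (.splitN 44111 (.split 0 188 (.split 4 160 (.split 6
    (-197) .sq (.split 3 169 cert5_46_4 (.lin 11))) (.lin 12)) .sq) (.wt 1)) (.lin 11)))))) (.lin
    12))) (.lin 9)))

def cert5_46_6 : Cert :=
  (.split 3 56 (.split 2 55 (.split 5 (-86) (.lin 10) (.splitN 49711 (.split 0 199 (.split 7 188
    (.splitN 48805 (.split 6 (-189) .sq (.split 4 15 (.splitN 22887 (.splitN 18334 (.split 2 1
    (.split 0 153 (.wt 0) (.split 6 (-154) (.split 7 151 (.lin 9) .sq) (.lin 3))) (.wt 1)) (.wt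
    4)) (.wt 0)) (.split 0 78 (.lin 12) (.split 2 7 (.splitN 25430 (.split 0 116 (.split 6 (-101)
    (.lin 3) (.split 7 98 (.splitN 23225 (.split 3 18 (.wt 2) (.split 5 (-40) (.splitN 17063 .sq
    (.split 0 96 (.split 5 (-77) (.lin 1) (.split 4 25 (.split 6 (-74) (.lin 3) (.split 7 71 (.wt
    1) (.lin 9))) (.lin 3))) .sq)) (.lin 10))) (.wt 1)) (.lin 9))) .sq) (.wt 1)) (.split 6 (-73)
    (.split 5 (-77) (.lin 10) (.split 3 22 (.wt 2) (.split 0 185 (.split 7 161 (.split 3 38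
    (.split 1 (-38) (.split 2 37 (.split 5 (-59) (.lin 10) (.split 1 (-115) (.wt 2) (.split 7 134
    (.split 0 169 (.splitN 26904 (.wt 6) (.split 7 69 (.wt 0) (.split 1 (-47) (.split 6 (-82)
    (.splitN 33081 (.wt 6) (.wt 0)) (.lin 9)) (.lin 2)))) (.lin 4)) (.lin 2)))) (.lin 10)) (.lin
    2)) (.splitN 44404 (.split 0 173 (.split 7 152 (.split 1 (-49) (.split 0 87 (.lin 4) (.split
    6 (-100) (.splitN 27890 .sq (.splitN 35566 (.split 4 17 (.wt 0) (.split 7 68 (.wt 0) (.split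
    0 96 (.lin 12) (.splitN 31121 .sq (.split 7 97 (.wt 0) (.split 6 (-109) .sq (.lin 9)))))))
    (.wt 3))) (.lin 11))) (.split 2 37 (.split 0 124 (.split 7 89 (.split 6 (-101) (.lin 11)
    (.splitN 37722 (.split 4 25 (.split 0 115 (.split 1 (-34) (.split 6 (-82) (.splitN 31591
    (.split 0 81 (.wt 2) (.split 5 (-40) (.splitN 27834 (.wt 6) (.split 4 20 (.wt 0) (.split 7 74
    (.wt 0) (.split 0 105 (.lin 12) (.split 6 (-91) (.split 5 (-58) .sq (.lin 4)) (.lin 3))))))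
    (.lin 4))) (.wt 0)) (.lin 11)) (.split 2 19 (.split 7 71 (.split 5 (-49) (.splitN 26875 (.wt
    1) (.split 4 20 (.wt 0) .cand)) (.lin 4)) (.lin 2)) (.lin 2))) (.lin 3)) .cand) (.wt 1)))
    (.lin 2)) (.lin 4)) (.lin 2))) (.lin 12)) .sq) (.wt 1))) (.lin 12)) .sq))) (.lin 9)))))) (.wt
    3)) (.lin 12)) .sq) (.wt 3))) (.lin 10)) (.split 6 (-82) (.splitN 20600 .sq (.splitN 46962
    (.split 0 174 (.split 5 (-149) (.lin 4) (.split 7 161 (.splitN 45390 (.split 0 164 (.split 5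
    (-140) (.lin 4) (.split 7 152 (.split 3 161 (.split 6 (-171) .sq (.split 2 100 (.split 4 15
    (.wt 4) (.split 0 78 (.lin 12) (.split 7 143 (.split 2 10 (.split 0 87 (.lin 3) (.split 7 70
    (.lin 2) (.split 6 (-155) (.lin 3) (.split 5 (-67) (.splitN 28376 .sq (.splitN 39395 (.split
    2 1 (.wt 1) .cand) (.wt 1))) (.lin 10))))) (.splitN 24607 (.wt 1) (.split 1 (-45) (.split 3
    115 (.split 6 (-109) (.splitN 29474 .sq (.splitN 38735 (.split 0 114 (.split 7 89 (.splitN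
    36058 (.split 4 17 (.wt 0) (.split 2 27 (.lin 3) (.split 7 80 (.splitN 31769 .sq (.split 3 78
    (.wt 0) (.split 6 (-127) .sq (.lin 11)))) (.lin 12)))) (.wt 0)) (.lin 12)) .sq) (.wt 1)))
    (.lin 11)) (.lin 11)) (.split 5 (-40) (.split 6 (-163) .sq (.split 7 134 (.splitN 42579
    (.split 6 (-153) .sq (.split 4 25 (.split 7 93 (.split 5 (-95) (.lin 8) (.split 0 115
    (.splitN 37657 (.split 6 (-142) .sq (.split 1 (-29) (.split 6 (-91) (.splitN 35439 (.split 6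
    (-128) .sq (.split 3 97 (.splitN 26670 (.wt 1) (.split 4 20 (.splitN 30600 (.split 0 86 (.wt
    0) (.split 5 (-49) (.split 0 89 (.wt 0) (.split 6 (-100) (.split 5 (-58) (.split 7 79 (.lin
    12) .sq) (.lin 4)) (.lin 3))) (.lin 4))) (.wt 0)) .cand)) (.lin 11))) (.wt 1)) (.lin 11))
    .cand)) (.wt 1)) (.lin 12))) (.split 0 114 (.lin 12) (.split 3 78 (.lin 2) (.split 5 (-76)
    (.split 6 (-118) .sq (.lin 9)) (.lin 4))))) .cand)) (.wt 1)) (.lin 9))) (.lin 4))))) (.lin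
    12)))) (.lin 9))) .sq) (.lin 12))) .sq) (.wt 1)) (.lin 12))) .sq) (.wt 1))) (.lin 11)))

def cert5_46_7 : Cert :=
  (.split 3 56 (.splitN 63530 (.split 5 (-202) .sq (.split 2 12 (.split 6 (-200) (.lin 3) (.split
    5 (-49) (.splitN 24083 .sq (.splitN 58794 (.split 0 207 (.split 4 151 (.split 6 (-173) (.lin
    3) (.split 4 142 (.split 7 161 (.splitN 54584 (.split 5 (-176) .sq (.split 2 3 (.split 6
    (-164) (.lin 3) (.wt 1)) (.split 6 (-73) (.split 3 19 (.wt 2) (.split 5 (-58) (.splitN 49245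
    (.split 0 174 (.split 5 (-149) (.lin 1) (.split 4 106 (.split 6 (-137) (.lin 3) (.split 7 125
    (.splitN 45576 (.split 0 165 (.split 5 (-140) (.lin 1) (.split 4 97 (.split 6 (-128) (.lin 3)
    (.split 7 116 (.split 3 38 (.split 1 (-38) (.split 3 27 (.wt 2) (.split 5 (-67) (.split 6
    (-95) (.wt 2) (.split 7 80 (.splitN 34245 (.split 0 110 (.wt 2) (.splitN 31436 .sq (.split 1
    (-45) (.wt 0) (.split 7 62 (.split 5 (-76) (.split 4 51 (.lin 5) .sq) (.lin 1)) (.lin 2)))))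
    (.wt 0)) (.lin 9))) (.lin 10))) (.lin 2)) (.split 5 (-76) (.splitN 30383 .sq (.splitN 41051
    (.split 0 143 (.split 5 (-122) (.lin 1) (.split 4 79 (.split 6 (-110) (.lin 3) (.split 7 98
    (.splitN 38732 (.split 0 131 (.split 5 (-104) (.lin 1) (.split 4 61 (.split 6 (-92) (.lin 3)
    (.split 7 80 (.splitN 35807 (.split 1 (-21) (.split 6 (-75) (.split 7 70 (.lin 9) .sq) (.wt
    1)) (.wt 2)) (.wt 1)) (.lin 9))) (.lin 3))) .sq) (.wt 1)) (.lin 9))) (.lin 3))) .sq) (.wt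
    1))) (.lin 10))) (.lin 9))) (.lin 3))) .sq) (.wt 1)) (.lin 9))) (.lin 3))) .sq) (.wt 1))
    (.lin 10))) (.lin 9)))) (.wt 3)) (.lin 12)) (.lin 12))) (.lin 3)) .sq) (.wt 1))) (.lin 10)))
    (.split 1 (-29) (.split 6 (-82) (.splitN 52455 (.split 3 21 (.wt 2) (.split 0 184 (.split 5
    (-149) (.lin 1) (.split 4 115 (.split 7 134 (.splitN 47143 (.split 0 175 (.split 2 127
    (.split 5 (-140) (.lin 1) (.split 4 106 (.split 7 125 (.splitN 45957 (.split 0 166 (.split 4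
    97 (.split 7 116 (.split 3 25 (.wt 2) (.split 5 (-130) .sq (.split 6 (-151) .sq (.split 2 82
    (.split 1 (-57) (.split 6 (-100) (.splitN 33632 .sq (.splitN 38022 (.split 3 37 (.wt 0)
    (.split 6 (-109) (.split 4 51 (.wt 0) .sq) (.lin 11))) (.wt 3))) (.lin 11)) (.split 2 46
    (.split 7 89 (.split 5 (-49) (.split 6 (-110) (.lin 11) (.splitN 39951 (.split 0 149 (.split
    5 (-113) (.lin 1) (.split 4 79 (.splitN 39531 (.split 0 138 (.split 4 70 (.split 5 (-102) .sq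
    (.split 3 43 (.split 1 (-38) (.split 2 37 (.split 7 80 (.splitN 36043 (.split 3 35 (.wt 2)
    (.split 0 121 (.split 4 52 (.split 7 71 (.splitN 32634 (.wt 1) (.wt 0)) (.lin 12)) (.lin 12))
    .sq)) (.wt 0)) (.lin 2)) (.lin 2)) (.lin 2)) (.splitN 29960 .sq (.split 0 132 (.split 4 61
    (.split 7 80 (.split 5 (-94) .sq (.splitN 36290 (.split 0 119 (.split 4 52 (.split 7 71
    (.split 1 (-47) (.wt 0) (.split 2 28 (.split 6 (-92) (.lin 11) (.split 7 62 (.wt 1) (.split 1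
    (-38) (.split 2 19 (.split 0 114 (.lin 12) (.split 5 (-76) (.split 4 43 (.split 6 (-91) .sq
    (.lin 0)) (.lin 5)) (.lin 1))) (.lin 9)) (.lin 2)))) (.lin 2))) (.lin 12)) (.lin 12)) .sq)
    (.wt 1))) (.lin 12)) (.lin 12)) .sq)))) (.lin 12)) .sq) (.wt 1)) (.lin 12))) .sq) (.wt 1)))
    (.lin 4)) (.lin 2)) (.lin 2))) (.lin 9))))) (.lin 12)) (.lin 12)) .sq) (.wt 3)) (.lin 12))
    (.lin 12))) (.lin 1)) .sq) (.wt 3)) (.lin 12)) (.lin 12))) .sq)) (.wt 3)) (.lin 9)) (.lin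
    2)))) (.wt 3)) (.split 6 (-82) (.splitN 50394 (.split 0 178 (.split 5 (-158) (.lin 4) (.split
    4 115 (.split 7 134 (.splitN 47220 (.split 0 169 (.split 4 106 (.split 7 125 (.split 5 (-136)
    .sq (.split 6 (-156) .sq (.splitN 44722 (.split 0 159 (.split 4 88 (.split 7 107 (.split 5
    (-123) .sq (.split 6 (-144) .sq (.splitN 42486 (.split 0 148 (.split 7 98 (.split 5 (-109)
    .sq (.split 6 (-133) .sq (.split 5 (-40) (.split 1 (-21) (.split 6 (-91) (.splitN 38832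
    (.split 0 126 (.split 4 61 (.split 7 80 (.split 5 (-81) .sq (.split 2 27 (.lin 10) (.split 6
    (-112) .sq (.split 1 (-48) (.lin 11) (.split 5 (-58) (.splitN 33920 .sq (.wt 1)) (.lin
    4)))))) (.lin 12)) (.lin 12)) .sq) (.wt 1)) (.lin 11)) (.wt 2)) (.lin 6)))) (.lin 12)) .sq)
    (.wt 1)))) (.lin 12)) (.lin 12)) .sq) (.wt 1)))) (.lin 12)) (.lin 12)) .sq) (.wt 1)) (.lin
    12)) (.lin 12))) .sq) (.wt 1)) (.lin 11)))

def cert5_46_8 : Cert :=
  (.splitN 257040 (.split 0 7130 (.split 1 (-2853) (.div 1) (.split 2 1426 (.split 4 2852 (.split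
    5 (-1427) (.div 5) (.split 0 4273 (.split 7 4265 (.split 3 2842 (.splitN 236130 (.split 2
    1300 (.split 0 482 (.split 4 1744 (.split 1 (-471) (.lin 4) (.split 5 (-455) (.lin 4) (.split
    3 1744 (.split 4 916 (.split 4 466 (.split 7 467 (.splitN 161785 (.split 2 886 (.split 0 397
    (.split 5 (-374) (.lin 4) (.split 3 1249 (.split 4 385 (.split 7 386 (.splitN 149620 (.split
    2 380 (.split 3 380 (.split 6 (-382) .sq (.split 7 55 (.splitN 57498 (.split 2 310 (.split 1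
    (-354) (.lin 2) (.split 5 (-311) (.div 5) (.split 0 233 (.split 1 (-228) (.lin 4) (.split 5
    (-212) (.lin 4) (.split 4 223 (.splitN 55079 (.split 2 224 (.split 6 (-272) (.lin 9) (.split
    3 224 (.split 6 (-227) .sq (.split 3 205 cert5_46_5 (.lin 11))) .sq)) .sq) (.wt 3)) (.lin
    12)))) .sq))) (.div 2)) (.wt 3)) (.split 0 69 (.lin 12) (.split 6 (-64) (.split 4 331 (.split
    3 7 (.wt 2) (.splitN 84615 (.split 0 270 (.split 5 (-248) (.lin 4) (.split 4 205 (.split 7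
    260 (.split 2 261 (.split 6 (-269) .sq (.split 2 199 (.split 3 241 (.splitN 76261 (.split 0
    258 (.split 5 (-230) (.lin 4) (.split 4 187 (.split 7 242 (.split 5 (-31) (.splitN 14507 .sq
    (.split 4 36 (.splitN 64807 (.splitN 60886 (.split 0 222 (.split 5 (-194) (.lin 4) (.split 7
    206 (.splitN 58755 (.split 6 (-214) .sq (.split 2 145 cert5_46_6 (.lin 9))) (.wt 3)) (.lin
    12))) .sq) (.wt 3)) (.wt 1)) (.split 0 105 (.lin 12) (.split 7 206 (.splitN 70613 (.split 0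
    239 (.split 5 (-212) (.lin 4) (.split 4 169 (.split 7 188 (.split 6 (-225) .sq (.split 2 154
    cert5_46_7 (.lin 9))) (.lin 12)) (.lin 12))) .sq) (.wt 1)) (.lin 12))))) (.split 1 (-47)
    (.splitN 51375 (.split 0 197 (.split 7 188 (.split 6 (-196) .sq (.split 3 142 (.split 2 127
    (.split 4 30 (.splitN 38702 (.split 0 160 (.split 6 (-159) .sq (.split 3 106 (.split 5 (-10)
    (.split 3 17 (.wt 2) (.split 6 (-73) (.split 2 9 (.lin 10) (.split 7 143 (.splitN 35779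
    (.split 0 144 (.split 7 134 (.split 6 (-146) .sq (.split 3 97 (.split 4 13 (.wt 2) (.split 3
    88 (.split 1 (-56) (.split 2 18 (.lin 10) (.split 0 78 (.lin 12) (.split 6 (-82) (.split 7
    125 (.split 3 28 (.wt 2) (.split 6 (-91) (.split 2 27 (.lin 10) (.split 7 116 (.splitN 32752
    (.split 0 110 (.split 7 89 (.split 3 36 (.wt 2) (.split 6 (-100) (.split 2 36 (.lin 10)
    (.splitN 26864 .sq (.split 3 51 (.wt 0) (.split 6 (-109) (.split 2 45 (.lin 10) .sq) (.lin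
    6))))) (.lin 6))) (.lin 12)) .sq) (.wt 3)) (.lin 6))) (.lin 6))) (.lin 6)) (.lin 6)))) (.lin
    8)) (.lin 6))) (.lin 6))) (.lin 12)) .sq) (.wt 3)) (.lin 6))) (.lin 6))) (.split 1 (-65)
    (.split 2 18 (.lin 10) (.split 6 (-82) (.split 7 134 (.splitN 20375 .sq (.wt 1)) (.lin 6))
    (.lin 6))) (.lin 8))) (.lin 6))) .sq) (.wt 3)) (.split 1 (-74) (.split 2 27 (.lin 10) (.split
    0 96 (.lin 12) (.split 6 (-91) (.split 7 161 (.splitN 29222 .sq (.split 5 (-5) (.split 3 17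
    (.wt 0) (.split 6 (-100) (.split 7 152 (.splitN 32048 .sq (.splitN 40065 (.split 0 130
    (.split 4 61 (.split 7 89 (.splitN 36040 (.split 3 39 (.wt 0) (.split 6 (-118) (.split 2 54
    (.lin 10) .sq) (.lin 6))) (.wt 1)) (.lin 12)) (.lin 12)) .sq) (.wt 1))) (.lin 6)) (.lin 6)))
    (.wt 1))) (.lin 6)) (.lin 6)))) (.lin 8))) (.lin 9)) (.lin 6))) (.lin 12)) .sq) (.wt 1))
    (.lin 4))) (.lin 12)) (.lin 12))) .sq) (.wt 1)) (.lin 11)) (.lin 9))) .sq) (.lin 12)) (.lin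
    12))) .sq) (.wt 1))) (.lin 12)) (.lin 9))))) .sq) .sq) (.wt 3)) (.lin 12)) (.lin 12)) (.lin
    5))) .sq) (.div 2)) (.wt 3)) (.lin 12)) (.lin 12)) (.lin 8)) (.lin 5)))) (.lin 3)) .sq) (.div
    2)) (.wt 3)) (.lin 10)) (.lin 8)) (.lin 4))) (.div 4)) (.div 2))) (.div 0)) (.wt 3))

def cert5_46_9 : Cert :=
  (.split 5 (-1409) (.div 5) (.split 6 (-2819) (.lin 0) (.split 4 1393 (.split 7 1412 (.splitN
    223374 (.split 2 1228 (.split 5 (-1229) (.div 5) (.split 6 (-2459) (.lin 0) (.split 0 467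
    (.split 5 (-455) (.lin 4) (.split 4 439 (.split 7 458 (.splitN 182381 (.split 0 424 (.split 5
    (-410) (.lin 4) (.split 4 394 (.split 7 413 (.split 2 422 (.split 6 (-830) (.lin 0) (.splitN
    169970 (.split 3 407 (.split 6 (-416) (.lin 11) (.splitN 158439 (.split 0 392 (.split 5
    (-374) (.lin 4) (.split 7 377 (.split 6 (-392) .sq (.split 4 50 (.splitN 120124 (.split 0 339
    (.split 5 (-320) (.lin 4) (.split 7 323 (.split 3 337 (.split 6 (-344) (.lin 11) (.split 6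
    (-99) (.split 3 87 (.lin 11) (.splitN 69808 (.split 0 222 (.split 5 (-203) (.lin 4) (.split 7
    206 (.split 2 220 (.splitN 65393 (.split 3 223 (.split 6 (-236) (.lin 11) (.split 4 17
    (.splitN 51989 (.split 0 173 (.split 5 (-158) (.lin 4) (.split 7 161 (.split 3 191 (.split 6
    (-200) (.lin 11) (.split 7 64 (.split 0 79 (.split 5 (-68) (.lin 4) (.splitN 39398 .cand (.wt
    1))) (.lin 12)) (.split 0 78 (.lin 12) (.split 5 (-67) (.splitN 34046 .sq (.split 4 7 (.wt 0)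
    (.split 0 87 (.lin 12) (.wt 2)))) (.lin 4))))) .sq) (.lin 8))) .sq) (.wt 1)) (.split 5 (-40)
    (.split 0 51 (.lin 12) (.split 7 88 (.split 2 18 (.lin 2) (.split 0 124 (.split 5 (-113)
    (.lin 4) (.splitN 48501 (.split 7 78 (.split 0 115 (.split 5 (-104) (.lin 4) (.split 3 171
    (.split 6 (-182) (.lin 11) (.splitN 45715 (.split 7 69 (.split 2 36 (.lin 2) (.split 0 106
    (.split 5 (-95) (.lin 4) (.split 7 60 (.splitN 41382 (.split 3 147 (.split 6 (-155) (.lin 11)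
    (.split 7 51 (.splitN 37946 .cand (.wt 1)) (.wt 2))) .sq) (.wt 1)) (.wt 2))) (.lin 12))) (.wt
    0)) (.wt 1))) .sq)) (.lin 12)) (.wt 2)) (.wt 1))) (.lin 12))) (.wt 2))) (.lin 8)))) .sq) (.wt
    1)) .sq) (.lin 8))) .sq) (.wt 1))) (.split 0 133 (.split 5 (-122) (.lin 0) (.split 7 125
    (.split 7 89 (.split 3 79 (.split 4 17 (.split 0 106 (.split 3 35 (.split 2 19 (.split 0 61
    (.split 7 44 (.splitN 39372 .cand (.wt 0)) (.lin 2)) (.lin 5)) (.lin 2)) (.split 6 (-55)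
    (.split 2 8 (.split 5 (-49) (.split 0 60 (.lin 3) (.split 7 52 (.lin 2) (.splitN 13976 .sq
    (.splitN 21283 (.split 4 14 (.splitN 19375 (.split 7 53 (.wt 3) (.split 3 51 (.lin 2) (.split
    0 69 (.lin 5) (.split 6 (-64) (.split 5 (-58) .sq (.lin 0)) (.lin 3))))) (.wt 0)) (.wt 0))
    (.wt 1))))) (.lin 0)) (.split 7 80 (.split 7 45 (.split 0 61 (.splitN 37007 .cand (.wt 0))
    (.lin 12)) (.split 0 60 (.lin 12) (.splitN 37545 .cand (.wt 1)))) (.lin 2))) (.lin 11)))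
    (.lin 3)) (.split 3 35 (.split 2 19 (.split 7 44 (.split 6 (-47) (.lin 11) (.splitN 36927
    .cand (.wt 1))) (.lin 2)) (.lin 2)) (.split 7 45 (.split 5 (-77) (.lin 8) (.splitN 37315
    .cand (.wt 1))) (.split 0 78 (.lin 12) (.wt 2))))) (.lin 11)) (.lin 9)) (.lin 8))) (.lin
    3)))) .sq) (.lin 8))) .sq) (.wt 1)) (.split 5 (-67) (.split 0 78 (.lin 12) (.split 3 327
    (.split 6 (-335) (.lin 11) (.split 3 265 (.split 6 (-272) (.lin 11) (.split 3 201 (.split 6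
    (-209) (.lin 11) (.split 3 145 (.split 6 (-155) (.lin 11) (.split 3 102 (.split 6 (-110)
    (.lin 11) (.split 3 69 (.split 6 (-74) (.lin 11) (.split 3 44 (.split 6 (-56) (.lin 11)
    (.splitN 16945 (.wt 3) (.split 3 32 (.split 6 (-38) (.lin 11) (.split 3 21 (.split 2 1
    (.split 7 26 (.splitN 20871 (.split 5 (-113) (.div 5) (.split 4 97 (.split 0 124 (.wt 0)
    (.lin 1)) (.lin 0))) (.wt 0)) (.lin 2)) (.lin 2)) (.wt 2))) (.wt 2)))) (.wt 2))) (.wt 2)))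
    (.wt 2))) (.wt 2))) (.wt 2))) (.wt 2))) (.wt 2))) (.lin 8)))) (.lin 8))) .sq) (.wt 1))) .sq)
    (.wt 1))) .sq) (.lin 8)) (.lin 8))) .sq) (.wt 1)) (.lin 8)) (.lin 8))) .sq))) (.div 2)) (.wt
    1)) (.lin 8)) (.lin 8))))

def cert5_46_10 : Cert :=
  (.split 2 (-1) (.split 7 16 (.lin 2) (.split 0 24 (.lin 3) (.split 5 (-22) (.split 1 (-12)
    (.split 7 34 (.lin 2) (.split 0 42 (.lin 4) (.split 6 (-28) (.splitN 15662 (.wt 1) (.splitN
    616897 (.split 1 (-6849) (.div 1) (.split 5 (-3425) (.div 5) (.split 6 (-10253) (.lin 0)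
    (.split 7 13661 (.split 7 10259 (.split 4 3409 (.split 3 8 (.wt 2) (.split 7 43 (.lin 2)
    (.split 0 51 (.lin 5) (.split 5 (-31) (.split 6 (-37) (.splitN 166314 (.split 1 (-1845) (.div
    1) (.split 5 (-923) (.div 5) (.split 6 (-2747) (.lin 0) (.split 0 2761 (.split 7 2753 (.split
    4 898 (.splitN 157375 (.split 0 388 (.split 4 340 (.split 6 (-371) (.lin 3) (.split 5 (-365)
    (.lin 4) (.split 7 710 (.split 7 377 (.splitN 117698 (.split 0 335 (.split 4 286 (.split 6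
    (-317) (.lin 3) (.split 5 (-311) (.lin 4) (.split 7 323 cert5_46_1 (.lin 12)))) (.lin 3))
    .sq) (.wt 1)) (.lin 12)) (.lin 6)))) (.lin 3)) .sq) (.wt 1)) (.lin 10)) (.lin 8)) (.lin
    4))))) (.wt 1)) (.lin 11)) (.lin 10))))) (.lin 10)) (.lin 8)) (.lin 6))))) (.wt 3))) (.lin
    11)))) (.split 1 (-5) (.split 0 33 (.lin 4) (.split 6 (-19) (.split 3 22 (.split 6 (-29)
    (.lin 11) (.splitN 204835 (.split 2 (-1121) (.div 2) (.split 7 1142 (.split 5 (-1121) (.div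
    5) (.split 4 1105 (.splitN 184278 (.split 3 11 (.wt 2) (.split 7 34 (.lin 2) (.split 6 (-28)
    (.splitN 21105 (.wt 1) .cand) (.lin 11)))) (.wt 1)) (.lin 0))) (.lin 2))) (.wt 1))) (.split 7
    43 (.lin 2) (.split 0 51 (.lin 5) (.split 5 (-40) (.split 6 (-37) (.splitN 210771 (.split 5
    (-1157) (.div 5) (.split 6 (-1154) (.lin 0) (.split 7 1160 (.splitN 179042 (.split 0 416
    (.split 4 367 (.split 6 (-398) (.lin 3) (.split 5 (-401) (.lin 4) (.split 7 404 (.splitN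
    139177 (.split 0 361 (.split 6 (-344) (.lin 3) (.split 5 (-347) (.lin 4) (.split 7 350
    (.split 4 46 (.splitN 107086 (.split 0 314 (.split 6 (-299) (.lin 3) (.split 5 (-302) (.lin
    4) (.split 7 305 (.split 4 17 (.splitN 75883 (.split 0 263 (.split 6 (-245) (.lin 3) (.split
    5 (-248) (.lin 4) (.split 7 251 (.split 6 (-96) (.split 0 114 (.lin 3) (.split 5 (-103)
    (.split 7 106 (.lin 9) (.split 3 87 (.lin 11) (.splitN 53261 .sq (.wt 1)))) (.lin 0)))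
    (.split 3 79 (.splitN 61554 (.split 0 230 (.split 5 (-212) (.lin 4) (.split 7 215 (.split 4
    11 (.splitN 36303 (.split 5 (-185) (.div 5) (.split 0 196 (.split 0 165 (.split 5 (-149)
    (.lin 4) (.split 7 152 (.split 3 25 (.wt 2) (.split 0 60 (.lin 5) (.split 5 (-49) (.split 6
    (-46) (.split 3 34 (.wt 2) (.split 0 69 (.lin 5) (.split 5 (-58) (.split 6 (-55) (.splitN
    32881 (.split 3 46 (.wt 2) (.split 2 (-90) (.lin 2) (.split 0 78 (.lin 5) (.split 7 70 (.lin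
    2) (.split 5 (-67) (.split 6 (-64) (.splitN 26786 (.wt 1) (.split 7 95 (.wt 0) (.split 5
    (-94) .sq (.lin 8)))) (.lin 11)) (.lin 4)))))) (.wt 3)) (.lin 11)) (.lin 4)))) (.lin 11))
    (.lin 4)))) (.lin 8))) .sq) (.lin 4))) (.wt 3)) .cand) (.lin 8))) .sq) (.wt 1)) (.lin 11)))
    (.lin 8)))) .sq) (.wt 1)) (.split 0 69 (.lin 3) (.split 6 (-281) (.lin 0) (.split 3 184
    (.split 6 (-191) (.lin 11) (.split 3 120 (.split 6 (-128) (.lin 11) (.split 3 78 (.split 6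
    (-83) (.lin 11) (.split 3 49 (.split 6 (-56) (.lin 11) (.split 3 32 (.split 6 (-38) (.lin 11)
    (.wt 2)) (.wt 2))) (.wt 2))) (.wt 2))) (.wt 2))) (.wt 2))))) (.lin 8)))) .sq) (.wt 1))
    (.split 0 96 (.lin 3) (.split 6 (-299) (.lin 0) (.split 3 64 (.split 6 (-74) (.lin 11)
    (.split 3 29 (.split 6 (-38) (.lin 11) (.wt 2)) (.wt 2))) (.wt 2))))) (.lin 8)))) .sq) (.wt
    1)) (.lin 8)))) (.lin 3)) .sq) (.wt 1)) (.lin 8)))) (.wt 1)) (.lin 11)) (.lin 4))))) (.lin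
    11))) (.split 3 32 (.split 6 (-29) (.lin 11) (.split 3 13 (.split 6 (-11) (.lin 11) (.wt 0))
    (.wt 0))) (.wt 0)))) (.lin 10)))) (.split 1 (-12) (.split 0 24 (.lin 4) (.split 6 (-28)
    cert5_46_8 (.lin 11))) (.split 1 (-5) (.split 6 (-19) (.split 7 24 (.splitN 29883 .cand (.wt
    3)) (.split 3 15 (.lin 2) (.split 0 33 (.lin 12) (.split 5 (-22) (.split 6 (-28) (.splitN
    256555 (.split 2 1408 cert5_46_9 (.div 2)) (.wt 1)) (.lin 9)) (.lin 4))))) (.lin 11)) (.split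
    5 (-13) (.split 7 24 (.split 6 (-28) (.split 2 9 (.lin 9) (.split 3 24 (.lin 11) (.split 6
    (-29) (.split 3 33 (.lin 11) (.split 0 61 (.split 5 (-59) (.lin 4) (.split 0 52 (.split 5
    (-50) (.lin 4) (.split 6 (-40) (.split 2 27 (.lin 9) (.split 3 42 (.lin 11) (.split 0 36
    (.split 5 (-32) (.lin 4) (.split 4 25 (.splitN 1235226 (.split 2 6862 (.split 6 (-6887) (.lin
    0) (.splitN 1157438 (.split 2 6430 (.split 6 (-6455) (.lin 0) (.split 6 (-50) (.split 3 51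
    (.lin 11) (.splitN 762583 (.split 2 4234 (.split 6 (-4259) (.lin 0) (.splitN 20228 (.wt 3)
    (.splitN 307068 (.split 2 1696 (.split 6 (-1721) (.lin 0) (.splitN 242369 (.split 2 1336
    (.split 6 (-1361) (.lin 0) (.splitN 221627 (.split 7 16 (.splitN 32540 (.split 2 166 (.split
    6 (-191) (.lin 0) (.split 6 (-173) (.lin 9) (.split 4 14 (.split 5 (-14) (.lin 8) (.wt 1))
    (.wt 0)))) (.div 2)) (.wt 1)) (.wt 0)) (.wt 6))) (.div 2)) (.wt 6))) (.div 2)) (.wt 6))))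
    (.div 2)) (.wt 1))) (.wt 2))) (.div 2)) (.wt 1))) (.div 2)) (.wt 1)) (.lin 8))) (.wt 2))))
    (.wt 2))) (.wt 2))) (.wt 2))) (.wt 2)))) (.split 2 10 (.splitN 494176 (.split 0 13700 (.split
    5 (-2741) (.div 5) (.split 4 2743 (.split 3 13 (.split 2 1 (.split 7 8 (.split 6 (-11) (.lin
    9) (.splitN 134309 (.split 5 (-743) (.div 5) (.split 4 736 (.splitN 14507 (.wt 0) (.wt 1))
    (.lin 0))) (.wt 0))) (.lin 2)) (.lin 2)) (.wt 2)) (.lin 0))) (.div 0)) (.wt 1)) (.lin 9)))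
    (.split 3 24 (.lin 2) (.split 0 33 (.lin 12) (.wt 0)))) (.lin 4)))))

def cert5_46 : Cert :=
  (.split 0 15 (.lin 12) (.splitN 4250 (.wt 1) (.split 5 (-1) cert5_46_10 (.split 1 (-20) (.split
    2 18 (.lin 10) (.split 6 (-28) (.splitN 3855657 (.split 1 (-42813) (.div 1) (.split 0 42802
    (.split 7 42794 (.split 2 21406 (.split 3 21391 (.split 4 21391 (.splitN 3375620 (.split 1
    (-37485) (.div 1) (.split 7 37466 (.split 2 18742 (.split 3 18727 (.split 4 18727 (.split 3 9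
    (.wt 2) (.split 6 (-37) (.split 2 27 (.lin 10) (.splitN 639691 (.split 1 (-7101) (.div 1)
    (.split 0 7090 (.split 7 7082 (.split 2 3550 (.split 3 3535 (.split 4 3526 (.splitN 573263
    (.split 2 3172 (.split 3 3157 (.split 0 753 (.split 4 736 (.split 7 737 (.splitN 340493
    (.split 2 1876 (.split 3 1861 (.split 7 8 (.wt 2) (.split 6 (-46) (.split 1 (-29) (.split 0
    24 (.lin 12) (.splitN 152296 (.split 2 832 (.split 3 817 (.split 0 381 (.split 4 358 (.split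
    7 368 (.split 3 16 (.wt 2) (.split 6 (-55) (.splitN 115794 (.split 2 634 (.split 3 619
    (.split 0 328 (.split 4 304 (.split 7 314 (.splitN 109531 (.split 1 (-319) .sq (.split 5 293
    (.split 2 319 (.split 3 304 (.split 4 286 (.splitN 103453 (.split 0 308 (.split 7 296 (.split
    6 (-312) .sq (.split 3 277 (.split 1 (-282) (.lin 11) (.split 5 257 (.split 4 259 (.split 7
    269 (.split 7 67 (.split 4 7 (.wt 2) (.split 6 (-64) (.split 1 (-38) (.splitN 17231 (.wt 1)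
    (.splitN 50502 (.split 2 274 (.split 4 241 (.split 5 230 (.splitN 46768 (.split 2 256 (.split
    3 232 (.split 4 223 (.split 3 30 (.wt 2) (.split 6 (-73) (.splitN 45323 (.split 2 238 (.split
    3 214 (.split 4 196 (.split 5 185 (.split 7 17 (.wt 0) (.split 6 (-82) (.split 1 (-47)
    (.splitN 42011 (.split 2 220 (.split 3 196 (.split 4 178 (.split 5 167 (.split 0 44 (.wt 2)
    (.split 1 (-56) (.split 6 (-91) (.split 3 49 (.wt 2) (.split 2 72 (.lin 10) (.split 6 (-109)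
    (.split 4 160 (.split 5 149 (.splitN 26711 .sq (.splitN 38686 (.split 2 202 (.split 4 142
    (.split 4 23 (.wt 0) (.split 7 36 (.wt 0) (.split 6 (-127) (.split 1 (-74) (.split 0 69 (.lin
    12) .sq) (.lin 8)) (.lin 6)))) (.lin 10)) (.div 2)) (.wt 5))) (.lin 10)) (.lin 10)) (.lin
    7)))) (.lin 7)) (.lin 4))) (.lin 10)) (.lin 10)) (.lin 10)) (.div 2)) (.wt 5)) (.lin 8))
    (.lin 6))) (.lin 10)) (.lin 10)) (.lin 10)) (.div 2)) (.wt 5)) (.lin 6))) (.lin 10)) (.lin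
    10)) (.div 2)) (.wt 5)) (.lin 10)) (.lin 10)) (.div 2)) (.wt 3))) (.lin 8)) (.lin 6)))
    (.split 3 223 (.split 1 (-83) (.split 0 78 (.lin 12) (.split 5 203 (.split 4 205 (.split 6
    (-109) (.splitN 32120 .sq (.split 4 14 (.wt 0) (.split 6 (-118) (.split 1 (-92) (.split 2 45
    (.lin 10) (.splitN 38195 .sq (.split 3 34 (.wt 0) (.split 4 187 (.split 0 259 (.split 2 63
    (.lin 10) (.split 6 (-136) (.split 7 242 (.splitN 45971 .sq (.splitN 52502 (.split 3 59 (.wt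
    0) (.split 6 (-154) .sq (.lin 6))) (.wt 5))) (.lin 6)) (.lin 6))) (.lin 7)) (.lin 6)))))
    (.lin 8)) (.lin 6)))) (.lin 6)) (.lin 6)) (.lin 4))) (.lin 8)) (.lin 6))) (.lin 6)) (.lin 6))
    (.lin 4))) (.lin 6))) (.lin 12)) .sq) (.wt 5)) (.lin 10)) (.lin 10)) .sq) (.lin 4))) (.wt 3))
    (.lin 12)) (.lin 12)) .sq) (.lin 10)) (.div 2)) (.wt 3)) (.lin 6))) (.lin 12)) (.lin 12))
    .sq) (.lin 10)) (.div 2)) (.wt 3))) (.lin 8)) (.lin 6))) (.lin 10)) (.div 2)) (.wt 3)) (.lin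
    12)) (.lin 12)) .sq) (.lin 10)) (.div 2)) (.wt 3)) (.lin 10)) (.lin 10)) (.div 2)) (.lin 8))
    (.lin 4))) (.wt 3))) (.lin 6))) (.lin 10)) (.lin 10)) (.div 2)) (.lin 8))) (.wt 3)) (.lin
    10)) (.lin 10)) (.div 2)) (.lin 8)) (.lin 4))) (.wt 3)) (.lin 6))) (.lin 4)))))

theorem check5_46 :
    check task5 cert5_46
      [(7, ⟨some (7), none⟩), (7, ⟨none, some (-2)⟩), (1, ⟨none, none⟩), (7, ⟨some (7), none⟩), (7, ⟨some (7), none⟩), (5, ⟨none, none⟩), (8, ⟨none, some (-10)⟩), (8, ⟨some (8), none⟩)] ⟨some (3960), none⟩ = true := by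
  decide +kernel

def cert5_47 : Cert :=
  (.lin 11)

theorem check5_47 :
    check task5 cert5_47
      [(7, ⟨some (7), none⟩), (7, ⟨none, some (-2)⟩), (1, ⟨none, none⟩), (7, ⟨some (7), none⟩), (7, ⟨none, none⟩), (5, ⟨none, none⟩), (8, ⟨some (-1), some (-1)⟩), (8, ⟨some (8), none⟩)] ⟨some (3960), none⟩ = true := by
  decide +kernel

def cert5_48_0 : Cert :=
  (.split 6 (-51) (.split 7 61 (.lin 9) (.splitN 42503 (.split 1 7 (.wt 2) (.split 5 (-49)
    (.split 3 69 (.lin 11) (.split 4 (-155) .sq (.split 7 165 (.split 2 (-135) (.lin 1) (.split 4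
    (-51) (.split 7 88 (.lin 8) (.splitN 27039 (.wt 1) (.splitN 33085 (.split 0 37 (.wt 0)
    (.split 5 (-58) (.split 0 47 (.wt 2) (.split 2 (-17) (.split 5 (-67) (.split 7 106 (.lin 8)
    .sq) (.lin 4)) (.lin 3))) (.lin 4))) (.wt 3)))) (.split 2 (-54) (.lin 0) (.split 7 107
    (.split 4 (-34) (.split 7 70 (.lin 8) (.splitN 27143 (.wt 1) (.splitN 32593 (.split 0 38 (.wt
    0) (.split 5 (-58) (.split 6 (-88) (.wt 0) (.split 3 97 (.split 0 48 (.wt 2) (.split 5 (-67)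
    (.split 6 (-82) (.wt 0) (.split 2 (-17) (.split 6 (-67) (.wt 0) (.split 3 79 (.split 0 53
    (.wt 0) (.split 2 (-35) (.split 5 (-76) (.split 7 97 (.lin 8) .sq) (.lin 4)) (.lin 3))) (.lin
    11))) (.lin 0))) (.lin 4))) (.lin 11))) (.lin 4))) (.wt 3)))) (.split 3 97 (.split 7 89
    (.splitN 27572 (.wt 1) (.split 0 35 (.wt 2) (.split 5 (-58) (.split 6 (-81) (.wt 2) (.split 3
    88 (.split 6 (-64) (.split 7 70 (.lin 9) (.split 0 47 (.wt 2) (.split 5 (-67) (.split 4 (-27)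
    (.wt 2) (.split 2 (-18) (.lin 0) (.split 7 80 (.splitN 31417 (.wt 1) (.split 6 (-72) (.wt 2)
    (.split 3 79 (.split 0 52 (.wt 0) (.split 2 (-17) (.wt 0) (.lin 3))) (.lin 11)))) (.lin 8))))
    (.lin 4)))) (.split 3 70 (.split 0 43 (.wt 2) (.split 2 (-17) (.split 7 70 (.lin 2) (.splitN
    32589 (.split 4 (-21) (.split 0 54 (.wt 0) (.split 2 (-35) (.split 7 88 (.lin 1) (.wt 0))
    (.lin 3))) (.wt 0)) (.wt 1))) (.lin 3))) (.lin 11))) (.lin 11))) (.lin 4)))) (.lin 8)) (.lin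
    5))) (.lin 8))))) .sq))) (.lin 4))) (.wt 3))) (.split 3 61 (.splitN 40197 (.split 7 185
    (.split 2 (-162) (.lin 2) (.split 2 (-153) (.lin 9) (.split 4 (-165) (.lin 3) (.split 4
    (-156) (.lin 8) (.split 1 11 (.split 5 (-68) (.lin 4) (.split 3 52 (.split 0 35 (.wt 2)
    (.split 5 (-49) (.split 7 61 (.lin 8) (.split 4 (-52) (.wt 2) (.split 2 (-81) (.lin 0)
    (.split 7 125 (.split 7 107 (.split 3 36 (.wt 2) (.split 6 (-37) (.splitN 22507 (.wt 1) (.wt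
    0)) (.lin 11))) (.lin 8)) (.lin 2))))) (.lin 4))) (.lin 11))) (.split 5 (-49) (.split 3 42
    (.lin 11) (.splitN 38642 (.splitN 21781 (.wt 1) (.split 6 (-37) (.split 3 51 (.lin 11)
    (.split 7 167 (.split 2 (-126) (.lin 2) (.split 4 (-129) (.lin 8) (.splitN 23402 (.wt 1)
    (.split 4 (-51) (.split 2 (-44) (.split 7 88 (.lin 8) (.splitN 31558 (.split 2 (-105) .sq
    (.split 7 143 (.split 0 34 (.wt 2) (.split 2 (-53) (.split 5 (-58) (.split 7 97 (.lin 8)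
    (.split 7 119 (.split 4 (-75) (.lin 8) (.splitN 29839 (.split 0 46 (.wt 1) (.split 2 (-62)
    (.split 5 (-67) (.split 7 106 (.lin 8) .sq) (.lin 4)) (.lin 3))) (.wt 1))) .sq)) (.lin 4))
    (.lin 3))) (.lin 2))) (.wt 1))) (.lin 0)) (.split 2 (-72) (.lin 0) (.split 7 107 (.split 7 80
    (.split 2 (-45) (.lin 2) (.split 4 (-34) (.split 2 (-26) (.split 0 43 (.split 5 (-59) (.lin
    4) (.split 7 70 (.lin 8) (.splitN 28786 (.split 6 (-41) (.wt 1) (.split 3 52 (.split 0 35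
    (.wt 0) (.split 2 (-44) (.split 5 (-58) (.split 4 (-39) (.lin 0) (.split 7 79 (.lin 1) (.wt
    0))) (.lin 1)) (.lin 3))) (.lin 11))) (.wt 0)))) (.lin 12)) (.lin 0)) (.split 0 47 (.split 5
    (-59) (.lin 4) (.split 7 71 (.splitN 32863 .cand (.wt 1)) (.lin 8))) (.split 2 (-26) (.split
    5 (-67) (.split 7 70 (.lin 8) (.splitN 27349 (.wt 0) (.splitN 30863 (.split 4 (-21) (.split 0
    52 (.split 5 (-68) (.lin 4) (.wt 1)) (.lin 12)) (.wt 0)) (.wt 1)))) (.lin 4)) (.lin 3)))))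
    (.split 2 (-17) (.split 2 (-44) (.split 0 42 (.lin 12) (.split 5 (-58) (.split 4 (-29)
    (.splitN 26743 (.wt 3) (.split 6 (-39) (.split 3 60 (.lin 11) (.split 4 (-44) (.wt 0) (.split
    2 (-54) (.lin 0) (.split 5 (-67) (.split 7 98 (.split 0 53 (.split 2 (-45) (.lin 3) (.split 5
    (-68) (.lin 1) (.split 4 (-38) (.split 7 89 (.wt 0) (.lin 1)) (.lin 0)))) (.wt 1)) (.lin 2))
    (.lin 0))))) (.wt 1))) (.lin 8)) (.lin 4))) (.lin 9)) (.lin 1))) (.lin 8))))))) .sq)) (.split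
    2 (-26) (.splitN 28635 (.split 4 (-24) (.split 2 (-35) (.split 7 61 (.lin 2) (.split 4 (-31)
    (.split 2 (-44) (.split 7 70 (.lin 2) (.splitN 23753 (.wt 0) (.split 0 56 (.split 5 (-68)
    (.lin 4) (.wt 6)) (.wt 0)))) (.lin 0)) (.wt 0))) (.lin 0)) (.wt 0)) (.wt 6)) (.lin 0)))) (.wt
    1))) (.lin 4))))))) .sq) (.wt 1)) (.lin 11)))

def cert5_48_1 : Cert :=
  (.split 7 52 (.lin 12) (.splitN 55174 (.split 6 (-29) (.split 3 60 (.lin 11) (.splitN 23931
    (.wt 1) (.split 7 204 (.split 6 (-64) (.split 7 70 (.lin 9) (.split 3 87 (.lin 11) (.splitN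
    51526 (.split 7 178 (.split 4 (-53) (.splitN 44252 (.split 7 150 (.splitN 42448 (.split 7 139
    (.split 0 47 (.split 6 (-85) (.wt 2) (.split 3 124 (.split 1 34 (.split 3 115 (.split 0 36
    (.wt 2) (.split 2 (-17) (.split 5 (-67) (.split 7 97 (.lin 12) (.splitN 36104 (.split 1 25
    (.wt 2) (.split 5 (-76) (.split 3 96 (.lin 7) .sq) (.lin 4))) (.wt 3))) (.lin 4)) (.lin 3)))
    (.lin 11)) (.split 5 (-76) (.split 3 105 (.lin 11) (.split 0 34 (.wt 2) (.split 2 (-17)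
    (.split 5 (-85) (.split 7 97 (.lin 8) (.splitN 39284 .sq (.wt 0))) (.lin 4)) (.lin 3))))
    (.lin 4))) (.lin 11))) (.split 2 (-17) (.split 5 (-76) (.split 7 106 (.lin 12) (.splitN 35819
    .sq (.splitN 38646 (.split 1 26 (.wt 3) (.split 5 (-85) (.split 3 96 (.lin 11) .sq) (.lin
    4))) (.wt 1)))) (.lin 4)) (.lin 3))) .sq) (.wt 3)) .sq) (.wt 1)) (.split 2 (-45) (.lin 3)
    (.split 7 107 (.split 4 (-34) (.splitN 42774 (.split 0 47 (.split 2 (-27) (.lin 3) (.split 3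
    124 (.split 7 89 (.split 6 (-82) (.wt 2) (.split 3 115 (.split 0 34 (.wt 2) .cand) (.lin
    11))) (.lin 12)) (.lin 5))) (.split 5 (-76) (.split 7 88 (.lin 12) (.split 6 (-78) (.split 3
    105 (.lin 11) (.splitN 36494 .sq (.split 1 29 (.wt 0) (.split 5 (-85) (.split 3 114 (.lin 11)
    .sq) (.lin 4))))) (.split 2 (-17) (.splitN 37153 (.split 1 34 (.split 5 (-95) (.lin 4)
    (.splitN 36310 (.split 1 33 .cand (.wt 3)) (.wt 1))) (.split 5 (-94) (.split 3 105 (.lin 11)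
    .sq) (.lin 4))) (.wt 1)) (.lin 3)))) (.lin 4))) (.wt 1)) (.split 4 (-25) .cand (.split 0 51
    (.lin 3) (.split 6 (-74) (.lin 3) (.wt 2))))) (.lin 12)))) .sq) (.wt 1)))) (.split 3 97
    (.split 7 102 (.split 2 (-63) (.lin 9) (.split 4 (-84) (.lin 3) (.split 4 (-66) (.lin 12)
    (.splitN 42281 (.split 4 (-37) (.split 2 (-17) (.split 7 70 (.lin 12) (.splitN 36766 (.splitN
    26831 (.wt 3) (.split 6 (-46) (.split 2 (-54) (.lin 9) (.split 3 69 (.lin 11) (.split 0 47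
    (.split 1 34 (.split 5 (-77) (.lin 4) (.split 6 (-51) .cand (.split 2 (-26) (.split 0 38
    .cand (.split 2 (-35) (.split 4 (-57) (.lin 3) (.split 7 79 (.lin 9) (.wt 2))) (.lin 3)))
    (.lin 3)))) (.split 5 (-76) (.split 3 78 (.lin 7) (.split 3 87 (.lin 11) (.splitN 30126 (.wt
    3) (.split 0 41 (.split 5 (-77) (.lin 4) (.split 6 (-47) (.split 4 (-64) (.wt 0) (.split 2
    (-36) (.lin 0) (.split 7 89 (.split 4 (-53) (.wt 0) (.split 2 (-27) (.lin 0) (.split 7 80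
    (.wt 2) (.lin 1)))) (.lin 1)))) (.wt 6))) (.wt 6))))) (.lin 4))) (.split 2 (-35) (.split 7 79
    (.lin 9) (.split 4 (-48) (.lin 12) (.split 7 88 (.lin 12) (.splitN 31166 (.wt 0) (.wt 6)))))
    (.lin 3))))) (.split 2 (-35) (.splitN 32273 (.split 0 44 (.split 5 (-86) (.lin 4) (.wt 6))
    (.wt 0)) (.wt 1)) (.lin 3)))) (.wt 1))) (.lin 3)) (.split 6 (-46) (.split 3 69 (.lin 11)
    (.split 0 43 (.split 7 71 (.splitN 38796 (.split 4 (-25) .cand .cand) (.wt 1)) (.lin 12))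
    (.split 7 70 (.lin 12) (.wt 2)))) (.split 2 (-17) (.wt 2) (.lin 3)))) (.wt 1))))) (.split 2
    (-35) (.split 2 (-53) (.split 4 (-47) (.splitN 26702 .sq (.splitN 38076 (.split 4 (-109) .sq
    (.split 7 145 (.split 6 (-46) (.split 3 69 (.lin 11) (.split 4 (-100) .sq (.split 0 60
    (.split 5 (-95) (.lin 4) (.split 4 (-56) (.splitN 36069 (.split 5 (-84) .sq (.split 7 122
    (.split 0 43 (.split 4 (-65) (.splitN 30644 .sq (.split 1 25 (.wt 1) (.split 5 (-67) (.split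
    3 78 (.lin 11) .sq) (.lin 4)))) (.lin 12)) (.split 5 (-76) .sq (.lin 4))) .sq)) (.wt 1))
    (.lin 12))) (.wt 2)))) (.wt 6)) .sq)) (.wt 1))) (.lin 12)) (.lin 9)) (.lin 2))) (.lin 11)))
    .sq))) (.wt 2)) (.wt 1)))

def cert5_48_2 : Cert :=
  (.split 0 63 (.split 5 (-104) (.lin 4) (.split 1 17 (.split 5 (-77) (.lin 4) (.split 3 106
    (.splitN 49362 (.split 4 (-213) .sq (.split 7 214 (.split 4 (-192) (.lin 12) (.split 0 31
    (.split 5 (-41) (.lin 4) (.split 6 (-53) (.wt 2) (.split 3 70 (.split 3 61 (.split 6 (-44)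
    (.wt 2) (.split 3 52 (.split 0 16 (.wt 2) (.split 5 (-31) (.split 7 43 (.lin 12) (.split 1 8
    (.wt 2) (.split 5 (-40) (.split 4 (-143) (.wt 2) (.split 2 (-135) (.lin 0) (.split 7 161
    (.split 4 (-101) (.wt 2) (.split 7 116 (.split 4 (-67) (.wt 2) (.split 2 (-63) (.lin 0)
    (.split 7 98 (.split 4 (-49) (.wt 2) (.split 7 71 (.split 4 (-38) (.wt 2) (.split 7 53
    (.splitN 23830 (.wt 1) (.split 4 (-24) (.wt 0) (.split 7 44 (.wt 0) (.lin 8)))) (.lin 8)))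
    (.lin 8))) (.lin 1)))) (.lin 8))) (.lin 8)))) (.lin 4)))) (.lin 4))) (.lin 11))) (.lin 11))
    (.lin 7)))) (.split 5 (-40) (.split 7 52 (.lin 12) cert5_48_0) (.lin 4)))) .sq)) (.wt 3))
    (.lin 11))) (.split 5 (-40) (.split 3 51 (.lin 11) (.splitN 69959 (.split 7 249 (.split 0 31
    (.split 5 (-68) (.lin 4) (.splitN 57579 (.split 6 (-77) (.wt 2) (.split 3 124 (.split 3 115
    (.split 6 (-73) (.wt 2) (.split 7 222 (.split 7 86 (.split 2 (-81) (.lin 1) (.split 2 (-54)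
    (.lin 9) (.split 4 (-66) (.lin 12) (.split 6 (-57) (.wt 2) (.split 3 97 (.split 6 (-42)
    (.split 2 (-45) (.lin 3) (.split 4 (-29) (.splitN 31736 (.wt 6) (.split 0 21 (.wt 0) (.split
    5 (-49) (.wt 2) (.lin 4)))) (.lin 3))) (.split 3 88 (.split 3 79 (.split 7 57 (.splitN 36912
    (.split 0 20 (.splitN 29058 (.wt 6) (.split 1 33 (.wt 0) (.split 5 (-49) (.wt 2) (.lin 4))))
    (.split 5 (-49) (.split 4 (-30) (.lin 12) (.split 7 43 (.lin 12) (.splitN 24815 (.wt 1)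
    .cand))) (.lin 4))) (.wt 1)) (.split 2 (-26) (.split 4 (-38) (.splitN 39008 (.splitN 25056
    (.wt 1) (.split 0 20 (.split 4 (-47) (.splitN 28121 (.wt 1) (.wt 0)) (.lin 12)) .cand)) (.wt
    0)) (.lin 12)) (.lin 9))) (.lin 11)) (.lin 7))) (.lin 11)))))) (.split 4 (-47) (.split 2
    (-26) (.split 4 (-65) (.splitN 25430 (.wt 1) (.splitN 38609 (.split 6 (-48) (.wt 2) (.split 2
    (-44) (.split 3 88 (.split 6 (-46) (.wt 2) (.split 2 (-53) (.split 3 79 (.split 2 (-136) .sq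
    (.split 7 170 (.splitN 36200 (.split 2 (-123) .sq (.split 4 (-138) (.lin 3) (.split 7 141
    (.split 0 20 (.split 4 (-74) (.splitN 29504 (.wt 1) (.wt 0)) (.lin 12)) .cand) .sq))) (.wt
    3)) (.lin 9))) (.lin 11)) (.lin 9))) (.lin 11)) (.lin 9))) (.wt 3))) (.lin 12)) (.lin 9))
    (.lin 8))) .sq)) (.lin 11)) (.lin 7))) (.wt 3))) (.split 5 (-58) (.split 4 (-210) (.lin 12)
    cert5_48_1) (.lin 4))) .sq) (.wt 1))) (.lin 4)))) (.split 5 (-76) (.split 4 (-237) (.lin 8)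
    (.split 7 88 (.lin 12) (.splitN 21050 .sq (.splitN 55669 (.split 0 190 (.split 5 (-230) (.lin
    4) (.split 5 (-194) .sq (.split 7 198 (.split 4 (-129) (.lin 12) (.split 1 17 (.split 3 106
    (.splitN 45153 (.split 5 (-167) .sq (.split 7 172 (.split 6 (-51) (.split 3 60 (.lin 11)
    (.splitN 25856 .sq (.splitN 41646 (.split 0 136 (.split 5 (-149) (.lin 4) (.split 7 147
    (.split 1 11 (.split 3 97 (.wt 0) (.lin 11)) (.split 5 (-85) (.split 3 69 (.lin 11) (.split 5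
    (-135) .sq (.split 7 137 (.split 4 (-37) (.split 2 (-17) (.split 7 106 (.lin 8) (.splitN
    33488 .sq (.wt 1))) (.lin 0)) (.split 6 (-73) (.split 3 87 (.lin 11) (.splitN 33839 .sq
    (.splitN 39354 (.split 2 (-34) (.wt 1) (.split 7 116 (.split 2 (-18) (.wt 1) (.split 5 (-104)
    (.lin 0) (.split 7 107 (.split 2 (-14) (.wt 1) (.split 6 (-82) (.split 3 96 (.lin 2) .sq)
    (.lin 0))) (.lin 2)))) (.lin 2))) (.wt 1)))) (.split 2 (-26) (.split 3 79 (.splitN 34927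
    (.splitN 30042 (.wt 3) (.split 7 89 (.wt 1) (.split 2 (-35) (.split 4 (-21) (.wt 1) (.wt 0))
    (.lin 2)))) (.wt 1)) (.lin 11)) (.lin 0)))) .sq))) (.lin 4))) .sq)) .sq) (.wt 1)))) (.split 2
    (-35) (.split 2 (-44) (.splitN 34936 (.split 0 122 (.split 5 (-131) (.lin 4) (.split 5 (-127)
    .sq (.split 7 134 (.split 1 11 (.split 3 52 (.splitN 25395 (.split 6 (-44) (.wt 0) (.split 2
    (-53) .sq (.lin 0))) (.wt 3)) (.lin 11)) (.split 5 (-85) (.split 3 42 (.lin 11) (.splitN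
    33116 (.split 4 (-26) (.split 7 97 (.lin 8) (.split 6 (-31) (.split 3 51 (.lin 11) (.split 4
    (-35) (.split 7 106 (.lin 8) .sq) (.wt 0))) (.wt 0))) (.wt 0)) (.wt 1))) (.lin 4))) .sq)))
    .sq) (.wt 1)) (.lin 9)) (.lin 0))) .sq)) (.wt 1)) (.lin 11)) (.split 5 (-94) (.split 3 51
    (.lin 11) (.split 6 (-44) (.split 3 69 (.lin 11) (.splitN 49131 (.split 6 (-51) (.split 3 78
    (.lin 11) (.split 5 (-152) .sq (.split 4 (-21) (.split 7 97 (.lin 12) (.splitN 34136 .sq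
    (.splitN 45371 (.split 6 (-59) (.split 3 87 (.lin 11) (.splitN 36710 .sq (.split 6 (-66)
    (.split 3 96 (.lin 11) (.splitN 39608 .sq (.split 1 27 (.wt 1) (.split 5 (-103) (.split 3 105
    (.lin 11) .sq) (.lin 4))))) (.wt 6)))) (.wt 6)) (.wt 1)))) (.wt 2)))) (.wt 2)) (.wt 1))) (.wt
    2))) (.lin 4)))) .sq))) .sq) (.wt 1))))) (.lin 4)))

def cert5_48_3 : Cert :=
  (.split 0 31 (.split 6 (-55) (.split 4 (-38) (.split 1 196 (.split 3 105 (.lin 11) (.split 0 19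
    (.wt 2) (.split 5 (-76) (.split 6 (-73) (.wt 2) (.split 7 64 (.wt 2) (.split 4 (-47) (.split
    7 76 (.wt 2) (.split 2 (-17) (.split 4 (-56) (.splitN 33191 .sq (.split 7 89 (.wt 0) (.split
    2 (-35) (.split 4 (-74) (.splitN 39671 .sq (.wt 0)) (.lin 12)) (.lin 9)))) (.lin 12)) (.lin
    9))) (.lin 12)))) (.lin 4)))) (.lin 11)) (.lin 3)) (.splitN 59386 (.split 1 213 (.split 5
    (-230) (.lin 4) (.split 3 221 (.split 5 (-212) (.lin 7) (.split 1 187 (.splitN 58907 (.split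
    4 (-201) .sq (.split 7 202 (.split 7 83 (.split 2 (-54) (.lin 9) (.split 4 (-66) (.lin 12)
    (.splitN 48390 (.split 3 190 (.split 5 (-185) (.lin 7) (.split 6 (-37) (.split 2 (-45) (.lin
    9) (.split 7 43 (.lin 9) (.split 3 87 (.lin 11) (.splitN 26485 (.wt 1) (.split 0 20 (.split 4
    (-29) (.wt 2) (.lin 3)) (.split 5 (-76) (.split 4 (-57) (.lin 12) (.splitN 42622 (.split 3
    163 (.split 5 (-149) (.lin 7) (.split 1 124 (.split 7 62 (.splitN 39516 .cand (.wt 1))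
    (.split 2 (-26) (.split 4 (-47) (.splitN 35528 (.splitN 29986 (.wt 3) (.split 3 121 (.split 5
    (-113) (.lin 1) (.split 6 (-38) (.split 1 70 (.wt 0) (.lin 11)) (.wt 1))) .sq)) (.wt 1))
    (.lin 12)) (.lin 9))) (.lin 11))) .sq) (.wt 1))) (.lin 4))))))) (.splitN 38856 .cand (.wt
    1)))) .sq) (.wt 1)))) (.split 2 (-44) (.split 4 (-47) (.split 4 (-65) (.splitN 44054 (.split
    1 130 (.split 5 (-149) (.lin 4) (.split 2 (-128) .sq (.split 7 170 (.splitN 42603 (.split 3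
    131 (.split 5 (-122) (.lin 7) (.split 1 97 (.split 7 137 (.split 6 (-37) (.split 3 87 (.lin
    11) (.splitN 30644 .sq (.splitN 37428 (.split 0 17 (.wt 0) (.split 5 (-76) (.split 1 82
    (.split 5 (-104) (.lin 4) (.split 2 (-78) .sq (.split 7 116 (.splitN 35755 (.split 6 (-46)
    (.wt 6) (.split 2 (-53) .sq (.lin 3))) (.wt 1)) (.lin 9)))) .sq) (.lin 4))) (.wt 3))))
    (.split 2 (-53) (.split 2 (-62) (.splitN 30464 .sq (.splitN 33812 (.split 0 23 (.split 4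
    (-74) (.split 1 70 (.wt 0) (.split 5 (-94) (.split 3 105 (.lin 7) .sq) (.lin 4))) (.lin 3))
    (.wt 0)) (.wt 1))) (.lin 9)) (.lin 3))) .sq) (.lin 11))) .sq) (.wt 1)) (.lin 9)))) .sq) (.wt
    1)) (.lin 12)) (.lin 3)) (.lin 9))) .sq)) (.wt 1)) (.lin 11))) .sq)) .sq) (.wt 1))) (.split 5
    (-85) (.split 7 52 (.lin 12) (.splitN 58412 (.split 6 (-36) (.split 3 87 (.lin 11) (.split 3
    200 (.split 5 (-221) (.lin 7) (.split 6 (-38) (.split 3 96 (.lin 11) (.split 5 (-193) .sq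
    (.split 7 180 (.splitN 54553 (.split 7 171 (.split 4 (-53) (.split 7 88 (.lin 12) (.splitN
    33731 .sq (.splitN 46958 (.split 3 147 (.split 5 (-158) (.lin 7) (.split 1 97 (.splitN 46076
    (.split 3 136 (.split 5 (-149) (.lin 7) (.split 4 (-111) .sq (.split 6 (-47) (.split 5 (-140)
    (.lin 7) (.split 3 105 (.lin 11) (.splitN 36467 .sq (.split 2 (-81) .sq (.split 3 132 (.split
    2 (-17) (.split 1 70 (.split 7 152 (.split 5 (-131) (.lin 4) (.split 6 (-74) (.lin 11)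
    (.splitN 40711 (.split 0 43 (.split 5 (-113) (.lin 4) (.split 0 41 (.split 7 143 (.split 1 52
    (.wt 0) (.split 5 (-94) (.split 3 114 (.lin 7) .sq) (.lin 4))) (.lin 12)) (.wt 1))) (.wt 1))
    (.wt 1)))) (.lin 2)) (.lin 11)) (.lin 2)) .sq))))) (.wt 6)))) .sq) (.wt 1)) (.lin 11))) .sq)
    (.wt 1)))) (.split 7 107 (.splitN 50029 (.split 3 181 (.split 6 (-64) (.split 1 115 (.split 7
    70 (.lin 9) (.split 3 114 (.lin 11) (.splitN 33911 .sq (.splitN 49143 (.split 3 159 (.split 5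
    (-149) (.lin 7) (.split 0 59 (.split 7 98 (.split 4 (-34) (.splitN 43092 (.split 3 145
    (.split 5 (-131) (.lin 7) (.split 1 79 (.splitN 42800 (.split 3 133 (.split 5 (-122) (.lin 7)
    (.split 1 70 (.split 6 (-73) (.split 7 79 (.lin 9) (.split 3 123 (.lin 11) .sq)) (.split 0 42
    (.split 2 (-18) (.lin 3) (.split 7 80 (.split 4 (-47) (.wt 0) (.split 2 (-9) (.lin 3) (.split
    7 71 (.wt 0) (.lin 9)))) (.lin 9))) (.wt 6))) (.lin 11))) .sq) (.wt 1)) (.lin 11))) .sq) (.wt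
    1)) (.split 0 42 (.lin 3) (.split 6 (-74) (.lin 3) (.wt 2)))) (.lin 12)) (.wt 2))) .sq) (.wt
    1))))) (.lin 11)) (.split 0 45 (.split 7 89 (.split 4 (-22) (.split 7 61 (.lin 12) (.splitN
    41016 (.split 0 42 (.split 7 80 (.split 3 147 (.split 5 (-131) (.lin 7) (.split 1 97 (.splitN
    39396 (.split 6 (-47) .cand (.wt 2)) (.wt 1)) (.lin 11))) .sq) (.lin 12)) (.wt 2)) (.wt 1)))
    (.wt 2)) (.lin 12)) (.wt 2))) .sq) (.wt 1)) (.lin 12))) .sq) (.wt 1)) .sq))) (.wt 2))) .sq))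
    (.wt 2)) (.wt 1))) (.lin 4)))

def cert5_48_4 : Cert :=
  (.split 3 17120 (.split 4 (-6849) (.div 4) (.split 5 (-3425) (.div 5) (.split 0 3418 (.split 1
    3418 (.split 7 10259 (.splitN 551823 (.split 4 (-6129) (.div 4) (.split 6 (-9533) (.lin 0)
    (.split 7 9539 (.split 0 8 (.wt 2) (.split 5 (-22) (.splitN 204482 (.split 1 2240 (.split 2
    (-1121) (.div 2) (.split 4 (-2241) (.div 4) (.split 5 (-1121) (.div 5) (.split 1 1105 (.split
    0 444 (.split 6 (-2666) (.lin 3) (.split 7 2672 (.split 1 444 (.splitN 186973 (.split 2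
    (-426) .sq (.split 3 426 (.split 1 394 (.split 7 836 (.split 4 (-822) (.lin 5) (.split 6
    (-416) (.lin 11) (.splitN 154877 (.split 2 (-386) .sq (.split 3 386 (.split 1 358 (.split 4
    (-386) .sq (.split 5 (-387) .sq (.split 7 387 (.splitN 136992 (.split 3 365 (.split 1 331
    (.split 6 (-353) (.lin 11) (.split 7 365 (.split 0 340 (.split 4 (-345) (.lin 12) (.split 1
    48 (.splitN 107974 (.split 0 321 (.split 5 (-356) (.lin 4) (.split 3 323 (.split 6 (-317)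
    (.lin 11) (.split 5 (-323) .sq (.split 7 323 (.split 6 (-95) (.split 7 106 (.lin 9) (.split 3
    105 (.lin 11) (.splitN 33938 .sq (.split 1 7 (.wt 0) (.split 5 (-31) (.split 3 114 (.lin 11)
    (.splitN 36611 .sq (.split 0 17 (.wt 0) (.split 5 (-40) (.splitN 69823 (.split 3 210 (.split
    6 (-191) (.lin 11) (.split 0 25 (.wt 2) (.split 5 (-49) (.splitN 61148 (.split 0 145 (.split
    5 (-185) (.lin 4) (.split 3 182 (.split 6 (-164) (.lin 11) (.split 4 (-144) .sq (.split 7 278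
    (.splitN 58960 (.split 3 173 (.split 6 (-155) (.lin 11) (.split 7 168 (.splitN 54234 (.split
    3 163 (.split 6 (-146) (.lin 11) (.split 5 (-127) .sq (.split 7 158 (.split 0 60 (.split 4
    (-56) (.splitN 41687 .sq (.wt 0)) (.lin 3)) (.split 5 (-76) (.splitN 44891 .sq (.split 1 24
    (.wt 1) (.split 5 (-85) (.split 3 123 (.lin 11) (.split 6 (-137) (.lin 11) (.splitN 48860 .sq
    (.wt 1)))) (.lin 4)))) (.lin 4))) .sq))) .sq) (.wt 1)) .sq)) .sq) (.wt 1)) (.lin 12)))) .sq))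
    .sq) (.wt 1)) (.lin 4)))) .sq) (.wt 1)) (.lin 4))))) (.lin 4)))))) (.split 3 133 (.splitN
    81181 (.split 2 (-273) .sq (.split 4 (-273) .sq (.split 5 (-274) .sq (.split 7 274 (.split 2
    (-243) (.lin 9) cert5_48_2) .sq)))) (.wt 1)) (.lin 11))) .sq))) .sq)) .sq) (.wt 1)) (.split 5
    (-67) (.split 3 78 (.lin 11) (.split 6 (-308) (.lin 11) (.splitN 105589 (.splitN 20284 (.wt
    1) (.split 1 301 (.split 3 307 (.split 1 277 (.split 6 (-254) (.lin 11) (.split 5 (-305) .sq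
    (.split 7 299 (.split 2 (-270) (.lin 9) (.split 0 63 (.split 6 (-85) (.split 4 (-38) (.split
    1 214 (.split 5 (-275) (.lin 4) (.split 7 97 (.lin 9) (.split 3 141 (.lin 11) (.splitN 47006
    .sq (.split 0 26 (.wt 0) (.split 5 (-85) (.splitN 50642 .sq (.split 7 110 (.wt 1) (.split 4
    (-56) (.splitN 56186 .sq (.wt 1)) (.lin 12)))) (.lin 4))))))) (.lin 11)) (.lin 3)) (.splitN
    76930 (.split 1 248 (.split 3 255 (.split 5 (-284) (.lin 7) (.split 5 (-253) .sq (.split 7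
    245 cert5_48_3 .sq))) .sq) .sq) (.wt 1))) (.split 1 232 (.split 5 (-121) (.split 7 88 (.lin
    12) (.splitN 37655 .sq (.split 6 (-31) (.split 3 87 (.lin 11) (.split 6 (-70) (.split 3 123
    (.lin 11) (.splitN 51335 .sq (.split 6 (-79) (.split 3 132 (.lin 11) (.splitN 55043 .sq
    (.split 2 (-26) (.wt 1) (.split 7 269 (.splitN 61790 (.split 4 (-34) (.wt 1) (.split 6 (-112)
    (.split 5 (-148) (.split 7 124 (.lin 9) .sq) (.lin 0)) (.wt 1))) (.wt 1)) (.lin 2))))) (.wt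
    1)))) (.wt 2))) (.wt 1)))) (.lin 4)) (.lin 4)))) .sq))) (.lin 11)) .sq) .sq)) (.wt 1))))
    (.lin 4)))) (.lin 12)) .sq)) (.lin 11)) .sq) (.wt 1)) .sq))) (.lin 11)) .sq)) (.wt 1))))
    (.lin 2)) (.lin 11)) .sq)) (.wt 1)) .sq) (.lin 12))) .sq) (.lin 4))))) (.div 1)) (.wt 1))
    (.lin 4))) (.lin 8)))) (.wt 3)) (.lin 8)) (.lin 4)) (.lin 4)))) (.div 3))

def cert5_48_5 : Cert :=
  (.splitN 276073 (.split 0 7580 (.split 2 (-7560) (.lin 3) (.split 6 (-7580) (.lin 3) (.split 1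
    3032 (.split 5 (-18158) (.lin 0) (.split 5 (-1517) (.div 5) (.split 1 1492 (.split 6 (-1514)
    (.lin 0) (.split 7 1520 (.splitN 234595 (.split 5 (-1301) (.div 5) (.split 0 479 (.split 2
    (-459) (.lin 3) (.split 6 (-479) (.lin 3) (.split 7 485 (.splitN 184974 (.split 0 421 (.split
    6 (-425) (.lin 3) (.split 7 431 (.split 1 420 (.split 5 (-833) (.lin 4) (.splitN 172499
    (.split 3 410 (.split 6 (-398) (.lin 11) (.split 5 (-411) .sq (.split 7 410 (.split 1 51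
    (.splitN 127090 (.split 0 350 (.split 6 (-353) (.lin 3) (.split 7 359 (.splitN 123170 (.split
    3 341 (.split 6 (-335) (.lin 11) (.split 5 (-342) .sq (.split 7 341 (.split 6 (-97) (.split 0
    96 (.lin 3) (.split 5 (-103) (.split 7 106 (.lin 9) (.split 3 105 (.lin 11) (.splitN 52937
    .sq (.split 1 7 (.wt 0) (.wt 2))))) (.lin 0))) (.split 3 133 (.splitN 90058 (.split 0 289
    (.split 7 296 (.split 5 (-291) .sq (.split 1 17 (.split 3 106 (.split 6 (-51) (.split 0 51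
    (.lin 3) (.split 5 (-58) (.split 7 52 (.lin 8) (.split 7 61 (.lin 9) (.split 3 60 (.lin 11)
    (.splitN 52908 (.split 0 195 (.split 5 (-203) (.lin 4) (.split 7 206 (.splitN 51783 (.split 5
    (-190) .sq (.split 7 188 (.split 1 11 (.split 3 97 (.splitN 34485 (.split 0 54 (.wt 2)
    (.split 5 (-67) (.split 7 70 (.lin 8) (.split 6 (-90) (.wt 2) (.split 3 88 (.split 0 128
    (.split 5 (-131) (.lin 4) (.split 7 134 (.splitN 32169 (.split 0 66 (.wt 2) (.split 5 (-76)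
    (.split 7 79 (.lin 8) (.splitN 26813 (.wt 1) (.split 7 84 (.wt 0) (.split 5 (-85) (.split 6
    (-69) (.wt 2) (.split 2 (-26) (.split 3 70 (.split 0 98 (.wt 0) (.split 5 (-112) (.split 7
    115 (.lin 8) .sq) (.lin 4))) (.lin 11)) (.lin 0))) (.lin 8))))) (.lin 4))) (.wt 3)) (.lin
    8))) .sq) (.lin 11)))) (.lin 4))) (.wt 3)) (.lin 11)) (.split 5 (-67) (.split 3 69 (.lin 11)
    (.split 7 166 (.split 0 151 (.split 5 (-167) (.lin 4) (.splitN 48773 (.split 7 126 (.split 2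
    (-72) (.lin 2) (.split 7 123 (.split 0 106 (.split 5 (-122) (.lin 4) (.split 0 60 (.split 2
    (-9) (.lin 3) (.split 6 (-56) (.lin 3) (.split 5 (-68) (.lin 0) (.split 3 70 (.split 7 62
    (.splitN 44592 (.wt 0) (.wt 0)) (.lin 1)) (.lin 6))))) (.wt 2))) (.lin 12)) (.wt 0))) (.wt
    0)) (.wt 6))) (.lin 12)) (.wt 0))) (.lin 0))) (.lin 8))) (.wt 1)) (.lin 8))) .sq) (.wt 1)))))
    (.lin 0))) (.split 1 11 (.splitN 37812 .cand (.wt 1)) (.split 3 42 (.lin 11) (.split 0 59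
    (.split 5 (-68) (.lin 4) (.split 7 62 (.split 6 (-29) (.split 2 (-27) (.lin 0) (.split 0 33
    (.lin 3) (.split 5 (-49) (.split 7 43 (.lin 8) (.split 3 51 (.lin 11) (.splitN 36338 (.split
    0 44 (.split 2 (-18) (.lin 3) (.split 5 (-59) (.lin 4) (.split 0 42 (.split 2 (-9) (.lin 3)
    (.split 6 (-38) (.lin 3) (.split 5 (-50) (.lin 0) (.wt 0)))) (.wt 0)))) (.wt 0)) (.wt 1))))
    (.lin 0)))) (.wt 2)) (.lin 8))) (.wt 2))))) (.lin 11)) (.split 3 51 (.lin 11) (.split 0 107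
    (.split 2 (-90) (.lin 3) (.split 5 (-212) (.lin 0) (.split 5 (-149) (.lin 4) (.split 6 (-35)
    (.split 0 33 (.lin 3) (.split 7 43 (.lin 9) (.split 3 60 (.lin 11) (.split 0 59 (.split 2
    (-27) (.lin 3) (.split 6 (-56) (.lin 3) (.split 5 (-113) (.lin 0) (.wt 2)))) (.wt 2))))) (.wt
    2))))) (.wt 2))))) (.lin 12)) .sq) (.wt 1)) (.lin 11))) (.lin 8)))) .sq) (.wt 1)) (.lin 12)))
    .sq) (.wt 1)) (.split 6 (-362) (.lin 0) (.split 3 78 (.lin 11) (.split 0 121 (.split 6 (-119)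
    (.lin 3) (.split 0 55 (.split 6 (-56) (.lin 3) (.split 0 28 (.split 2 (-9) (.lin 3) (.split 6
    (-29) (.lin 3) (.split 7 35 (.splitN 48978 (.wt 0) (.wt 1)) (.lin 9)))) (.wt 2))) (.wt 2)))
    (.wt 2))))) .sq))) .sq) (.wt 1))) .sq) (.lin 12))) .sq) (.wt 1)) (.lin 12)))) .sq)) (.wt 1))
    (.lin 8))) (.lin 0)))) (.div 1)))) (.div 0)) (.wt 1))

def cert5_48_6 : Cert :=
  (.split 1 15 (.split 0 20 (.wt 2) (.split 6 (-46) (.split 5 (-31) (.split 0 28 (.wt 2) (.split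
    6 (-55) (.split 5 (-40) (.split 0 36 (.wt 2) (.split 6 (-64) (.split 5 (-49) (.split 3 69
    (.lin 5) (.split 7 61 (.lin 8) (.splitN 17540 .sq (.wt 4)))) (.lin 4)) (.lin 3))) (.lin 4))
    (.lin 3))) (.lin 4)) (.lin 3))) (.split 3 51 (.lin 2) (.split 5 (-31) (.split 2 13 (.splitN
    50550 (.split 3 211 (.split 7 188 (.split 4 (-174) (.lin 5) (.splitN 49314 (.split 2 3
    (.splitN 26026 (.split 3 137 (.split 7 116 (.split 6 (-119) (.lin 9) (.split 0 28 (.split 5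
    (-59) (.lin 4) (.splitN 23220 (.split 6 (-73) (.split 4 (-47) (.split 7 70 (.lin 9) (.split 3
    87 (.lin 2) .sq)) (.lin 3)) (.split 4 (-48) (.lin 3) (.split 3 106 (.split 7 62 (.split 3 97
    (.split 0 20 (.splitN 19240 (.wt 6) (.wt 0)) (.split 4 (-39) (.lin 3) (.split 6 (-46) (.split
    5 (-40) (.split 7 43 (.lin 9) (.splitN 19918 (.split 7 57 (.split 6 (-56) (.lin 9) (.split 4
    (-30) (.lin 3) (.split 1 22 (.split 3 70 (.wt 2) (.lin 2)) (.wt 1)))) (.wt 1)) (.wt 1)))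
    (.lin 4)) (.lin 3)))) (.lin 2)) (.lin 9)) (.lin 5)))) (.wt 3))) (.split 6 (-55) (.split 5
    (-49) (.split 3 69 (.lin 5) (.split 7 52 (.lin 9) (.splitN 22081 (.split 3 100 (.split 7 80
    (.split 1 25 (.split 4 (-34) (.split 6 (-73) (.split 3 78 (.lin 6) (.split 7 70 (.lin 9)
    .sq)) (.lin 3)) (.split 6 (-69) (.split 5 (-58) (.split 0 42 (.lin 3) (.split 3 78 (.lin 5)
    (.split 7 70 (.lin 9) .sq))) (.lin 0)) (.split 5 (-68) (.lin 0) (.split 7 62 (.splitN 19108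
    (.split 0 40 (.wt 1) (.wt 0)) (.wt 1)) (.lin 9))))) (.split 3 87 (.lin 2) (.split 5 (-67) .sq
    (.lin 4)))) (.lin 2)) .sq) (.wt 1)))) (.lin 4)) (.lin 3)))) (.lin 2)) .sq) (.wt 1)) (.split 6
    (-46) (.split 0 16 (.wt 2) (.split 6 (-55) (.split 5 (-40) (.split 7 43 (.lin 9) (.split 3
    195 (.split 7 161 (.split 7 84 (.split 3 124 (.split 6 (-92) (.lin 9) (.split 4 (-57) (.lin
    3) (.splitN 37207 (.split 0 38 (.splitN 23421 (.wt 1) .cand) (.split 6 (-73) (.split 5 (-58)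
    (.split 7 61 (.lin 9) (.splitN 26387 (.wt 1) .cand)) (.lin 4)) (.lin 3))) (.wt 1)))) (.lin
    2)) (.split 3 114 (.lin 2) (.split 6 (-100) (.split 4 (-38) (.splitN 35171 .sq (.wt 3)) (.lin
    3)) (.lin 9)))) (.lin 2)) .sq)) (.lin 4)) (.lin 3))) (.lin 3))) (.wt 3))) (.lin 2)) .sq) (.wt
    3)) (.split 7 188 (.split 6 (-55) (.splitN 50565 (.split 0 18 (.wt 2) (.split 6 (-64) (.split
    5 (-40) (.split 7 43 (.lin 12) (.split 3 200 (.split 7 161 (.split 7 84 (.splitN 40231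
    (.split 3 174 (.split 6 (-155) (.lin 11) (.split 0 38 (.split 5 (-68) (.lin 4) (.split 6
    (-101) (.wt 2) (.split 3 142 (.split 0 25 (.wt 2) (.split 6 (-73) (.split 5 (-49) (.splitN
    29435 (.wt 6) (.split 1 17 (.wt 0) (.split 5 (-58) (.splitN 30533 (.wt 6) (.split 4 (-27)
    (.wt 0) (.split 7 53 (.wt 0) (.lin 12)))) (.lin 4)))) (.lin 4)) (.lin 3))) (.lin 7))))
    (.split 2 91 (.split 6 (-82) (.split 5 (-58) (.split 3 96 (.lin 5) (.split 7 61 (.lin 12)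
    (.splitN 39044 (.split 3 139 (.split 2 55 (.split 6 (-119) (.lin 11) (.split 1 25 (.split 5
    (-77) (.lin 4) (.splitN 36329 (.split 4 (-36) (.wt 2) (.split 3 127 (.split 1 20 (.wt 2)
    (.split 5 (-67) (.splitN 29928 (.wt 1) (.split 4 (-27) (.wt 0) (.split 7 62 (.wt 3) (.split 0
    51 (.lin 12) (.split 3 114 (.lin 2) (.split 6 (-91) (.split 5 (-76) .sq (.lin 4)) (.lin
    3))))))) (.lin 4))) .sq)) (.wt 1))) (.split 3 114 (.lin 2) (.split 5 (-76) (.split 6 (-101)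
    (.lin 11) (.splitN 33335 .sq (.split 4 (-27) (.wt 0) (.split 7 71 (.wt 1) (.lin 8))))) (.lin
    4))))) (.lin 10)) .sq) (.wt 1)))) (.lin 4)) (.lin 3)) (.lin 3)))) .sq) (.wt 3)) (.split 3 123
    (.lin 2) (.split 6 (-109) (.split 4 (-38) (.splitN 39464 .sq (.wt 3)) (.lin 12)) (.lin 9))))
    (.lin 2)) .sq)) (.lin 4)) (.lin 3))) (.wt 3)) (.lin 3)) (.lin 2))) (.lin 4))))

def cert5_48_7 : Cert :=
  (.split 2 13 (.splitN 61766 (.split 3 224 (.split 7 179 (.split 6 (-191) (.lin 9) (.split 2 3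
    (.splitN 27303 (.split 3 134 (.split 7 89 (.split 6 (-92) (.lin 9) (.splitN 23852 (.split 3
    122 (.split 1 79 (.split 7 71 (.split 6 (-74) (.lin 9) (.split 5 (-95) (.lin 10) (.splitN
    22474 (.split 3 108 (.split 7 62 (.split 6 (-65) (.lin 9) (.split 0 20 (.splitN 17178 (.wt 6)
    (.split 1 50 (.wt 0) (.split 7 53 (.wt 0) (.lin 2)))) (.split 6 (-46) (.split 5 (-67) (.split
    3 87 (.lin 5) (.split 7 43 (.lin 9) (.splitN 19160 .sq (.split 1 44 (.wt 1) (.split 3 96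
    (.lin 2) (.split 5 (-76) .sq (.lin 4))))))) (.lin 4)) (.lin 3)))) (.lin 2)) .sq) (.wt 1))))
    (.lin 2)) (.lin 2)) .sq) (.wt 1))) (.lin 2)) .sq) (.wt 1)) (.split 7 170 (.split 6 (-46)
    (.split 0 28 (.split 6 (-112) (.wt 2) (.split 7 98 (.split 6 (-94) (.wt 2) (.split 7 80
    (.split 0 16 (.wt 2) (.split 6 (-55) (.split 5 (-67) (.split 3 96 (.lin 5) (.split 7 43 (.lin
    9) (.split 6 (-84) (.wt 2) (.split 4 (-48) (.lin 3) (.split 7 71 (.splitN 26829 (.wt 1)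
    (.split 6 (-80) (.wt 2) (.split 7 62 (.splitN 36046 (.split 6 (-71) (.wt 6) (.split 4 (-30)
    (.lin 3) (.split 7 53 (.split 1 114 (.split 5 (-140) (.lin 0) (.split 3 187 (.split 3 169
    (.splitN 32861 (.split 4 (-29) (.wt 0) (.split 6 (-56) (.lin 3) (.split 7 44 (.split 1 84
    (.wt 0) (.split 5 (-112) (.split 3 141 (.lin 6) .sq) (.lin 0))) (.lin 9)))) (.wt 3)) (.lin
    2)) (.lin 6))) .sq) (.lin 9)))) (.wt 3)) (.lin 9)))) (.lin 9)))))) (.lin 4)) (.lin 3))) (.lin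
    9))) (.lin 9))) (.split 6 (-64) (.split 5 (-76) (.split 3 105 (.lin 5) (.split 7 52 (.lin 9)
    (.splitN 27422 .sq (.splitN 47625 (.split 1 143 (.split 3 172 (.split 7 116 (.split 6 (-128)
    (.lin 9) (.split 5 (-140) (.lin 10) (.splitN 42365 (.split 3 153 (.split 7 98 (.split 5
    (-122) (.lin 10) (.split 4 (-37) (.split 6 (-82) (.split 1 70 (.split 3 123 (.lin 5) (.split
    7 70 (.lin 9) (.splitN 37466 .sq (.wt 0)))) (.lin 11)) (.lin 3)) (.split 6 (-92) (.lin 3)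
    (.split 7 80 (.splitN 37484 .cand (.wt 1)) (.lin 9))))) (.lin 2)) .sq) (.wt 1)))) (.lin 2))
    .sq) .sq) (.wt 1))))) (.lin 4)) (.lin 3))) (.lin 3)) (.lin 2)))) (.lin 2)) .sq) (.wt 1))
    (.split 1 196 (.split 7 188 (.split 6 (-55) (.split 5 (-212) (.lin 10) (.split 0 16 (.wt 2)
    (.split 6 (-64) (.split 5 (-67) (.split 3 105 (.lin 5) (.split 7 43 (.lin 12) (.splitN 58032
    (.split 1 180 (.split 3 205 (.split 1 142 (.split 2 118 (.split 7 143 (.split 5 (-167) (.lin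
    10) (.split 6 (-164) (.lin 11) (.split 7 79 (.splitN 45660 (.split 1 140 (.split 3 170
    (.split 1 106 (.split 2 82 (.split 5 (-131) (.lin 10) (.split 6 (-128) (.lin 11) (.split 0 38
    (.splitN 41243 (.split 3 160 (.split 1 97 (.split 6 (-116) (.wt 2) (.split 4 (-34) (.split 2
    46 (.split 6 (-82) (.split 3 123 (.lin 5) (.split 7 61 (.lin 12) (.splitN 34712 .sq (.wt
    0)))) (.lin 3)) (.lin 3)) (.split 7 62 (.splitN 38703 (.split 3 150 (.split 1 79 (.split 0 25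
    (.wt 2) (.split 6 (-73) (.split 1 70 (.split 5 (-76) (.split 3 114 (.lin 5) (.split 7 52
    (.lin 12) (.splitN 30905 .sq (.split 4 (-29) (.wt 2) (.split 7 53 (.splitN 35210 (.split 1 45
    (.wt 0) (.split 3 123 (.lin 2) (.split 5 (-85) .sq (.lin 4)))) (.wt 0)) (.lin 12)))))) (.lin
    4)) (.lin 11)) (.lin 3))) (.lin 2)) .sq) (.wt 3)) (.lin 12)))) (.lin 2)) .sq) (.wt 3))
    (.split 2 64 (.split 6 (-82) (.split 1 88 (.split 5 (-85) (.split 3 123 (.lin 5) (.split 7 61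
    (.lin 12) (.splitN 37628 .sq (.split 0 43 (.split 4 (-28) (.wt 0) (.split 7 62 (.wt 1) (.lin
    12))) (.wt 1))))) (.lin 4)) (.lin 11)) (.lin 3)) (.lin 3))))) (.lin 10)) (.lin 2)) .sq) .sq)
    (.wt 1)) (.split 2 82 (.split 3 141 (.lin 2) (.split 6 (-100) (.split 4 (-29) (.splitN 44729
    .sq (.splitN 48240 (.split 0 36 (.wt 0) (.split 5 (-85) .sq (.lin 4))) (.wt 1))) (.lin 12))
    (.lin 9))) (.lin 9))))) (.lin 2)) (.lin 10)) (.lin 2)) .sq) .sq) (.wt 1)))) (.lin 4)) (.lin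
    3)))) (.lin 3)) (.lin 2)) (.lin 2)))

def cert5_48_8 : Cert :=
  (.split 1 42 (.splitN 78090 (.split 3 266 (.split 7 251 (.split 5 (-248) (.lin 10) (.split 6
    (-254) (.lin 11) (.split 1 15 (.splitN 35965 .cand (.wt 3)) (.split 3 51 (.lin 2) (.split 5
    (-40) (.split 2 14 (.splitN 63266 (.split 3 238 (.split 7 215 (.split 0 205 (.split 6 (-227)
    (.lin 3) (.split 2 3 (.splitN 27660 (.split 5 (-149) (.div 5) (.split 6 (-146) (.lin 0)
    (.split 7 143 (.splitN 26142 (.split 5 (-131) (.div 5) (.split 6 (-128) (.lin 0) (.split 0 78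
    (.split 6 (-83) (.lin 3) (.splitN 17022 (.wt 3) (.split 0 48 (.split 6 (-56) (.lin 3) (.split
    5 (-77) (.lin 0) (.split 7 53 (.split 0 38 (.split 6 (-47) (.lin 3) (.split 7 44 (.wt 1)
    (.lin 9))) (.wt 1)) (.lin 9)))) (.wt 2)))) (.wt 2)))) (.wt 1)) (.lin 8)))) (.wt 1)) (.split 3
    60 (.lin 2) (.split 7 86 (.split 0 70 (.split 6 (-92) (.lin 3) (.split 0 47 (.split 6 (-65)
    (.lin 3) (.split 5 (-77) (.lin 0) (.split 7 53 (.splitN 36229 .cand (.wt 1)) (.lin 9))))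
    (.split 6 (-73) (.split 3 87 (.lin 5) (.split 7 61 (.lin 9) (.wt 2))) (.lin 3)))) (.lin 12))
    (.split 3 114 (.lin 2) (.split 0 78 (.lin 12) (.split 6 (-100) (.split 5 (-94) (.splitN 46700
    .sq (.wt 1)) (.lin 0)) (.lin 3)))))))) (.lin 5)) (.lin 2)) .sq) (.wt 1)) (.split 3 69 (.lin
    2) (.split 7 224 (.split 6 (-55) (.splitN 69021 (.split 3 248 (.split 6 (-227) (.lin 11)
    (.split 7 84 (.split 5 (-104) (.lin 8) (.splitN 53523 (.split 3 212 (.split 6 (-191) (.lin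
    11) (.split 0 47 (.split 5 (-77) (.lin 4) (.split 7 53 (.splitN 45212 (.split 3 188 (.split 6
    (-173) (.lin 11) (.split 6 (-98) (.split 3 96 (.lin 6) (.split 2 45 (.lin 9) (.split 0 25
    (.wt 2) (.split 5 (-49) (.split 7 43 (.lin 12) (.splitN 41448 (.split 3 147 (.split 6 (-128)
    (.lin 11) (.split 1 25 (.splitN 38406 .cand (.wt 1)) (.split 5 (-67) (.split 3 132 (.lin 11)
    (.split 6 (-110) (.lin 11) (.splitN 38663 .sq (.wt 1)))) (.lin 4)))) .sq) (.wt 1))) (.lin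
    4))))) (.split 3 124 (.split 0 34 (.split 5 (-68) (.lin 4) (.split 7 44 (.splitN 38091 .cand
    (.wt 1)) (.lin 12))) (.split 6 (-73) (.split 5 (-58) (.split 3 87 (.lin 6) (.split 7 52 (.lin
    12) (.splitN 37371 (.split 1 21 (.split 5 (-59) (.lin 4) (.splitN 34833 (.split 6 (-76)
    (.split 2 27 (.lin 0) (.split 3 96 (.lin 6) (.split 3 105 (.split 2 28 (.split 6 (-83) (.lin
    0) (.wt 0)) (.lin 1)) (.wt 0)))) (.wt 0)) (.wt 0))) (.wt 0)) (.wt 1)))) (.lin 4)) (.lin 3)))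
    (.lin 11)))) .sq) (.wt 1)) (.lin 12))) (.split 5 (-67) (.split 3 96 (.lin 5) (.split 7 61
    (.lin 12) (.split 1 23 (.splitN 40219 (.split 6 (-114) (.split 3 132 (.lin 11) .sq) (.wt 2))
    (.wt 1)) (.wt 2)))) (.lin 4)))) .sq) (.wt 1))) (.split 0 78 (.lin 12) (.split 3 123 (.lin 2)
    (.wt 2))))) .sq) (.wt 1)) (.lin 3)) (.lin 2)))) (.lin 4)))))) (.lin 2)) .sq) (.wt 1)) (.split
    3 78 (.lin 2) (.split 5 (-67) (.split 6 (-254) (.lin 11) (.split 6 (-47) (.split 3 96 (.lin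
    11) (.split 0 75 (.split 7 80 (.splitN 61849 (.split 1 200 (.split 3 218 (.split 1 160
    (.split 5 (-203) (.lin 10) (.split 6 (-173) (.lin 11) (.split 0 59 (.split 7 62 (.splitN
    53203 (.split 3 203 (.split 2 118 (.split 6 (-155) (.lin 11) (.split 2 10 (.split 0 33 (.lin
    3) (.split 6 (-74) (.lin 3) (.split 7 43 (.lin 9) (.wt 2)))) (.split 5 (-167) (.lin 10)
    (.splitN 29899 (.wt 3) (.split 6 (-105) (.split 2 45 (.lin 3) (.split 1 88 (.split 5 (-140)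
    (.lin 4) (.split 3 150 (.lin 11) (.splitN 45107 .sq (.split 7 35 (.wt 0) (.split 0 33 (.lin
    12) (.split 5 (-76) (.splitN 47636 .sq (.wt 1)) (.lin 4))))))) (.lin 11))) (.split 2 64
    (.split 0 41 (.split 7 44 (.splitN 42501 (.split 3 167 (.split 5 (-140) (.lin 1) (.split 5
    (-131) (.lin 10) (.split 6 (-78) (.split 3 123 (.lin 11) (.split 3 152 (.split 5 (-104) (.lin
    6) (.split 1 70 (.split 0 29 (.split 7 35 (.wt 0) (.lin 12)) (.split 2 55 (.split 7 43 (.lin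
    12) (.splitN 38607 (.wt 0) (.wt 1))) (.lin 3))) (.lin 11))) .sq)) (.split 2 37 (.split 0 32
    (.split 7 35 (.splitN 35689 (.split 1 44 (.wt 3) (.split 3 105 (.lin 2) (.split 5 (-76)
    (.split 6 (-56) (.split 2 27 (.lin 3) (.split 1 70 (.split 3 142 (.split 1 68 (.split 3 133
    (.split 1 53 (.wt 0) (.split 3 123 (.lin 2) (.split 5 (-85) .sq (.lin 4)))) (.lin 2)) (.wt
    1)) (.lin 2)) (.wt 1))) (.wt 2)) (.lin 4)))) (.wt 1)) (.lin 12)) (.wt 2)) (.lin 3))))) .sq)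
    (.wt 1)) (.lin 12)) (.wt 2)) (.lin 3))))))) (.lin 2)) .sq) (.wt 1)) (.lin 12)) (.wt 2))))
    (.lin 11)) .sq) .sq) (.wt 1)) (.lin 12)) (.wt 2))) (.wt 2))) (.lin 4))))

def cert5_48_9 : Cert :=
  (.split 4 (-12) (.split 6 (-28) (.split 3 33 (.lin 5) (.split 7 25 (.lin 12) (.splitN 257040
    (.split 2 1426 (.split 3 7130 (.split 4 (-2853) (.div 4) (.split 5 (-1427) (.div 5) (.split 0
    1420 (.split 1 1420 (.split 7 4265 (.split 3 5695 (.splitN 229754 (.split 2 1264 (.split 4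
    (-2529) (.div 4) (.split 6 (-5204) (.lin 0) (.split 7 3941 (.split 5 (-1265) (.div 5) (.split
    1 1258 (.split 0 7 (.wt 2) (.split 6 (-37) (.split 5 (-22) (.split 3 42 (.lin 5) (.split 7 34
    (.lin 12) (.splitN 117359 (.split 2 634 (.split 3 4417 (.split 4 (-1269) (.div 4) (.split 5
    (-635) (.div 5) (.split 1 619 (.split 3 2527 (.split 0 329 (.split 6 (-2216) (.lin 3) (.split
    7 1583 (.split 1 329 (.splitN 110259 (.split 2 319 (.split 3 322 (.split 7 620 (.split 1 286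
    (.split 7 314 (.split 5 (-302) (.lin 10) (.split 6 (-317) (.lin 11) (.splitN 87840 (.split 3
    284 (.split 1 241 (.split 7 269 (.split 5 (-257) (.lin 10) (.split 6 (-272) (.lin 11) (.split
    1 41 (.splitN 70639 (.split 3 254 (.split 7 242 (.split 6 (-245) (.lin 11) (.split 0 59
    (.split 5 (-86) (.lin 4) (.splitN 56701 (.split 3 228 (.split 7 215 cert5_48_6 (.lin 2)) .sq)
    (.wt 3))) (.split 6 (-82) (.split 5 (-67) (.split 3 87 (.lin 5) (.split 7 79 (.lin 12)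
    (.splitN 29528 .sq (.splitN 47713 (.split 1 7 (.wt 0) (.split 3 96 (.lin 2) (.split 5 (-76)
    (.splitN 32687 .sq (.split 2 1 (.wt 1) (.split 6 (-91) (.splitN 36170 .sq (.split 3 145
    (.split 7 116 (.split 5 (-113) (.lin 10) (.split 6 (-128) (.lin 11) (.splitN 39637 (.split 1
    17 (.wt 1) (.split 3 114 (.lin 2) (.split 5 (-85) .sq (.lin 4)))) (.wt 1)))) (.lin 2)) .sq))
    (.lin 3)))) (.lin 4)))) (.wt 1))))) (.lin 4)) (.lin 3)))) (.lin 2)) .sq) (.wt 1)) (.split 3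
    78 (.lin 2) (.split 7 233 (.split 5 (-58) (.split 6 (-236) (.lin 11) (.splitN 73711 (.split 3
    252 (.split 1 214 (.split 7 206 (.split 5 (-230) (.lin 10) (.split 6 (-209) (.lin 11) (.split
    0 54 cert5_48_7 (.split 2 127 (.split 6 (-82) (.split 5 (-103) (.split 3 123 (.lin 5) (.split
    7 79 (.lin 12) (.splitN 45080 .sq (.splitN 50359 (.split 2 9 (.wt 1) (.split 3 132 (.lin 2)
    (.split 6 (-91) (.splitN 49049 .sq (.split 1 99 (.wt 1) (.split 5 (-166) .sq (.lin 4))))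
    (.lin 3)))) (.wt 1))))) (.lin 4)) (.lin 3)) (.lin 3))))) (.lin 2)) (.lin 2)) .sq) (.wt 1)))
    (.lin 4)) (.lin 2)))))) (.lin 2)) (.lin 2)) .sq) (.wt 1)))) (.lin 2)) (.lin 2)) (.lin 1))
    .sq) .sq) (.wt 1)) .sq) (.lin 12))) .sq) (.lin 10)) (.lin 4)))) (.lin 10)) (.div 2)) (.wt
    1)))) (.lin 4)) (.lin 3))) (.lin 4))) (.lin 8)))) (.div 2)) (.wt 3)) (.lin 10)) (.lin 8))
    (.lin 4)) (.lin 4)))) (.div 3)) (.div 2)) (.wt 3)))) (.lin 3)) (.split 4 (-5) (.split 6 (-19)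
    (.split 7 16 (.lin 12) (.split 0 22 (.split 7 26 (.splitN 54318 (.split 2 292 (.split 5
    (-293) (.div 5) (.split 3 601 (.splitN 32336 .cand (.wt 3)) (.lin 1))) (.div 2)) (.wt 0))
    (.lin 12)) (.split 6 (-37) (.split 5 (-31) (.split 3 42 (.lin 5) (.split 7 34 (.lin 12)
    (.splitN 141713 (.split 2 778 (.split 5 (-779) (.div 5) (.split 6 (-1559) (.lin 0) (.split 1
    754 (.split 7 782 (.splitN 123373 (.split 2 670 (.split 5 (-671) (.div 5) (.split 0 339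
    (.split 6 (-1010) (.lin 3) (.split 7 341 (.splitN 111108 (.split 1 323 (.split 2 323 (.split
    6 (-659) (.lin 3) (.splitN 106697 (.split 5 (-581) (.div 5) (.split 3 316 (.split 1 277
    (.split 7 305 (.split 5 (-302) (.lin 10) (.split 6 (-308) (.lin 11) (.splitN 96676 (.split 3
    300 (.split 2 253 (.split 7 287 (.split 5 (-284) (.lin 10) (.split 6 (-290) (.lin 11)
    cert5_48_8)) (.lin 2)) (.lin 10)) .sq) (.wt 1)))) (.lin 2)) (.lin 2)) .sq)) (.wt 1))) .sq)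
    .sq) (.wt 1)) (.lin 12))) .sq)) (.div 2)) (.wt 1)) (.lin 8)) (.lin 8)))) (.div 2)) (.wt 1))))
    (.lin 4)) (.lin 3)))) (.lin 3)) (.split 7 24 (.split 0 16 (.split 6 (-28) (.split 2 9 (.lin
    3) (.split 3 24 (.lin 6) (.split 3 33 (.lin 11) (.split 7 12 (.split 2 18 (.lin 9) (.split 0
    7 (.splitN 42499 (.split 1 440 (.split 5 (-446) (.lin 4) (.split 2 220 (.split 3 664 (.split
    6 (-227) (.lin 3) (.split 5 (-221) (.div 5) (.split 3 439 (.split 1 214 (.splitN 39011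
    (.split 5 (-203) (.div 5) (.split 1 196 (.splitN 19925 (.wt 1) (.splitN 34346 (.split 5
    (-185) (.div 5) (.split 1 8 (.wt 0) (.split 5 (-22) (.splitN 24814 (.wt 1) (.split 1 19 (.wt
    0) (.split 5 (-31) (.splitN 26916 (.wt 1) (.split 1 32 (.wt 0) (.split 5 (-40) (.split 6
    (-42) (.wt 0) (.split 2 28 (.split 3 214 (.split 1 40 (.wt 0) (.split 5 (-49) (.split 3 83
    (.wt 2) (.split 5 (-58) (.split 3 88 (.wt 2) (.split 5 (-67) (.split 1 60 (.lin 2) (.splitN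
    30006 (.wt 1) (.split 1 102 (.wt 0) (.split 3 132 (.lin 2) (.split 5 (-112) .sq (.lin 4))))))
    (.lin 1))) (.lin 1))) (.lin 4))) (.lin 6)) (.lin 3))) (.lin 4)))) (.lin 4)))) (.lin 4))))
    (.wt 3))) (.lin 8))) (.wt 0)) (.lin 8)) (.lin 6)))) (.lin 1)) (.div 2))) (.div 1)) (.wt 0))
    (.lin 12))) (.split 0 15 (.lin 12) (.splitN 498519 (.split 2 2758 (.split 6 (-2774) (.lin 3)
    (.split 5 (-2759) (.div 5) (.splitN 107973 (.wt 5) (.splitN 327852 (.split 2 1804 (.split 6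
    (-1820) (.lin 3) (.split 5 (-1805) (.div 5) (.splitN 277884 (.split 2 1534 (.split 6 (-1550)
    (.lin 3) (.split 5 (-1535) (.div 5) (.splitN 257959 (.split 1 8 (.split 5 (-23) (.lin 4) (.wt
    1)) (.wt 0)) (.wt 6)))) (.div 2)) (.wt 6)))) (.div 2)) (.wt 6))))) (.div 2)) (.wt 6)))))))
    (.split 2 10 (.split 0 13 (.split 7 8 (.splitN 31983 (.split 1 332 (.split 5 (-347) (.lin 0)
    (.split 5 (-167) (.div 5) (.split 6 (-15) (.split 2 9 (.lin 3) (.split 3 24 (.lin 6) (.splitN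
    28712 (.splitN 17610 (.wt 1) (.split 1 7 (.wt 0) (.split 5 (-22) (.split 3 33 (.lin 6)
    (.splitN 21899 (.wt 0) (.split 1 33 (.split 5 (-32) (.lin 0) (.splitN 24259 (.split 1 18
    (.split 5 (-23) (.lin 0) (.split 3 34 (.wt 0) (.lin 6))) (.wt 0)) (.wt 1))) (.wt 0)))) (.lin
    0)))) (.wt 1)))) (.split 2 1 (.splitN 14536 (.wt 0) (.wt 1)) (.lin 3))))) (.div 1)) (.wt 1))
    (.lin 12)) (.wt 2)) (.lin 3))) (.lin 12)) (.split 3 33 (.lin 2) (.split 0 24 (.lin 12) (.wt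
    0))))))

def cert5_48_10 : Cert :=
  (.split 1 30 (.split 3 70 (.splitN 34982 (.split 0 165 (.split 5 (-168) .sq (.split 4 29
    (.splitN 31606 (.split 0 155 (.split 7 143 (.splitN 29786 (.split 5 (-149) (.div 5) (.split 7
    134 (.split 1 7 (.wt 2) (.split 5 (-58) (.split 7 125 (.split 3 42 (.lin 11) (.split 4 7 (.wt
    2) (.split 0 51 (.lin 3) (.split 5 (-67) (.splitN 17565 (.wt 1) (.split 5 (-140) .sq (.split
    0 124 (.split 7 107 (.split 6 (-46) (.wt 2) (.split 3 61 (.split 7 61 (.split 2 (-36) (.lin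
    2) (.split 0 97 (.split 2 (-27) (.lin 9) (.split 0 79 (.split 6 (-34) (.wt 2) (.split 3 52
    (.splitN 23023 (.split 0 56 (.wt 6) (.split 5 (-76) (.split 1 16 (.wt 6) (.split 5 (-85)
    (.split 3 51 (.lin 11) (.split 7 47 (.split 4 16 (.wt 0) (.split 7 35 (.wt 0) (.split 2 (-17)
    (.split 0 69 (.lin 3) (.split 5 (-94) .sq (.lin 0))) (.lin 2)))) (.wt 1))) (.lin 4))) (.lin
    4))) (.wt 1)) (.lin 11))) (.lin 12))) (.lin 3))) (.split 2 (-17) (.split 0 60 (.lin 3)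
    (.split 2 (-26) (.split 0 78 (.lin 12) (.split 5 (-85) (.split 5 (-94) (.splitN 22742 .sq
    (.splitN 25918 (.split 0 83 (.split 4 16 (.split 7 62 (.wt 0) (.lin 12)) (.lin 12)) .sq) (.wt
    1))) (.lin 4)) (.lin 0))) (.lin 9))) (.lin 2))) (.lin 11))) (.lin 8)) (.lin 4)))) (.lin
    0))))) (.lin 8)) (.lin 0))) (.lin 8))) (.wt 3)) (.lin 12)) .sq) (.wt 1)) (.split 0 69 (.lin
    3) (.split 5 (-76) (.split 7 125 (.splitN 32853 (.split 0 140 (.split 4 97 (.split 7 98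
    (.split 5 (-144) .sq (.split 1 13 (.split 3 52 (.splitN 19427 (.split 5 (-95) (.div 5)
    (.split 4 52 (.split 7 53 (.wt 0) (.lin 8)) (.lin 0))) (.wt 0)) (.lin 11)) (.split 5 (-85)
    (.split 3 42 (.lin 11) (.splitN 17459 .sq (.split 7 62 (.splitN 28493 (.split 0 118 (.split 4
    79 (.split 5 (-129) .sq (.split 4 70 (.split 0 106 (.split 6 (-37) (.split 4 61 (.split 2
    (-27) (.lin 9) (.split 5 (-94) (.split 7 43 (.lin 9) (.split 3 51 (.lin 11) (.splitN 22562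
    .sq (.split 6 (-46) (.wt 2) (.split 3 61 (.splitN 26231 (.split 0 84 (.split 2 (-9) (.lin 3)
    (.split 4 34 (.split 7 44 (.wt 0) (.lin 9)) (.lin 3))) .sq) (.wt 1)) (.lin 11)))))) (.lin
    0))) (.lin 0)) (.split 3 52 (.splitN 24766 (.split 0 104 (.split 4 61 (.split 7 48 (.split 2
    (-18) (.lin 9) (.splitN 22972 (.split 7 42 (.split 2 (-9) (.lin 9) (.split 1 24 (.split 3 43
    (.wt 0) (.lin 2)) (.wt 0))) (.wt 1)) (.wt 1))) (.split 2 (-17) (.split 0 78 (.lin 3) (.split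
    2 (-26) (.split 5 (-103) .sq (.lin 0)) (.lin 9))) (.lin 2))) (.lin 3)) .sq) (.wt 1)) (.lin
    11))) (.lin 4)) (.lin 0))) (.lin 3)) .sq) (.wt 1)) (.split 2 (-17) (.split 0 78 (.lin 3)
    (.split 0 105 (.lin 12) (.split 5 (-121) .sq (.lin 4)))) (.lin 2))))) (.lin 0)))) (.lin 12))
    (.lin 3)) .sq) (.wt 1)) (.lin 8)) (.lin 0))))) .sq) (.wt 1)) (.lin 11)) (.split 4 106 (.split
    5 (-76) (.split 7 134 (.split 3 60 (.lin 11) (.splitN 35871 (.split 5 (-156) .sq (.split 0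
    115 (.split 4 79 (.split 7 107 (.split 4 23 (.splitN 29719 (.split 5 (-134) .sq (.split 7 89
    (.split 3 115 (.split 4 11 (.splitN 20185 (.split 5 (-113) (.div 5) (.split 1 70 (.split 0 79
    (.split 7 71 (.split 3 97 (.splitN 18522 (.split 5 (-95) (.div 5) (.split 1 52 (.split 7 53
    (.split 3 79 (.wt 0) (.lin 10)) (.lin 8)) (.lin 0))) (.wt 0)) (.lin 10)) (.lin 8)) (.lin 4))
    (.lin 0))) (.wt 0)) (.split 0 51 (.lin 3) (.split 5 (-85) (.split 3 106 (.splitN 17135 .sq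
    (.split 5 (-130) .sq (.split 1 70 (.split 0 88 (.split 2 (-45) (.lin 10) (.split 7 71 (.split
    3 97 (.splitN 26543 (.split 6 (-43) (.wt 2) (.split 5 (-117) .sq (.split 1 61 (.split 7 48
    (.split 2 (-18) (.lin 9) (.split 0 61 (.splitN 23132 (.split 7 43 (.split 0 52 (.split 1 50
    (.wt 0) (.split 5 (-103) (.split 3 78 (.lin 6) .sq) (.lin 0))) (.lin 12)) (.wt 1)) (.wt 0))
    (.lin 12))) (.split 2 (-17) (.split 0 69 (.lin 12) (.split 5 (-103) .sq (.lin 4))) (.lin 9)))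
    (.lin 0)))) (.wt 3)) (.lin 10)) (.lin 8))) (.lin 4)) (.lin 0)))) (.lin 10)) (.lin 0)))) (.lin
    10)) (.lin 8))) (.wt 1)) (.split 1 88 (.split 0 60 (.lin 3) (.split 5 (-94) (.split 7 89
    (.splitN 32245 (.split 5 (-137) .sq (.split 7 71 (.split 3 97 (.split 6 (-37) (.split 1 61
    (.split 4 52 (.split 5 (-103) (.split 7 43 (.lin 9) (.split 3 69 (.lin 11) (.splitN 25559 .sq
    (.splitN 29551 (.split 0 77 (.split 2 (-9) (.lin 3) (.split 4 25 (.split 6 (-38) (.lin 3)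
    (.split 7 44 (.wt 0) (.lin 9))) (.lin 3))) .sq) (.wt 1))))) (.lin 0)) (.lin 0)) (.lin 0))
    (.wt 2)) (.lin 10)) (.lin 8))) (.wt 1)) (.lin 8)) (.lin 0))) (.lin 0))) (.lin 8)) (.lin 0))
    (.lin 4))) (.wt 1))) (.lin 8)) (.lin 0)) (.lin 0)))

def cert5_48_11 : Cert :=
  (.split 0 320 (.split 4 295 (.split 6 (-299) (.lin 3) (.split 7 305 (.splitN 89043 (.split 0
    293 (.split 4 268 (.split 6 (-272) (.lin 3) (.split 7 278 (.split 1 293 (.split 5 (-295) .sq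
    (.split 6 (-53) (.split 0 69 (.lin 3) (.split 5 (-76) (.split 7 61 (.lin 9) (.split 3 60
    (.lin 11) (.splitN 50279 (.split 5 (-275) (.div 5) (.split 1 205 (.split 4 205 (.split 6
    (-254) (.lin 0) (.split 7 260 (.split 1 7 (.wt 2) (.split 5 (-85) (.split 3 69 (.lin 11)
    (.splitN 24263 .sq (.splitN 48988 (.split 5 (-257) (.div 5) (.split 0 241 (.split 4 8 (.wt 0)
    (.split 0 78 (.lin 3) (.split 5 (-94) (.splitN 27422 .sq (.split 0 157 (.split 4 88 (.split 6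
    (-128) (.lin 3) (.split 7 134 (.splitN 41312 (.split 5 (-221) (.div 5) (.split 1 142 (.split
    0 135 (.split 4 70 (.split 6 (-110) (.lin 3) (.split 7 116 (.splitN 39003 (.split 5 (-203)
    (.div 5) (.split 3 178 (.split 1 16 (.wt 0) (.split 5 (-103) (.split 3 78 (.lin 11) (.splitN
    30905 .sq (.split 4 19 (.wt 0) (.split 5 (-112) (.split 7 107 (.splitN 34712 .sq (.split 1 32
    (.wt 0) (.split 5 (-121) (.split 3 87 (.lin 11) .sq) (.lin 0)))) (.lin 12)) (.lin 0)))))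
    (.lin 0))) (.lin 10))) (.wt 1)) (.lin 12))) (.lin 3)) .sq) (.lin 0))) (.wt 1)) (.lin 12)))
    (.lin 3)) .sq)) (.lin 0)))) (.lin 4))) (.wt 1)))) (.lin 0))) (.lin 8))) (.lin 0)) (.lin 0)))
    (.wt 1)))) (.lin 0))) (.splitN 54927 (.split 0 225 (.split 2 (-207) (.lin 3) (.split 4 205
    (.split 7 215 (.split 1 224 (.split 3 224 (.split 5 (-227) .sq (.split 3 205 (.split 6 (-22)
    (.split 1 178 (.split 0 42 (.lin 3) (.split 4 178 (.split 5 (-49) (.split 7 34 (.lin 9)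
    (.split 3 33 (.lin 11) (.splitN 40658 (.splitN 13682 (.wt 1) (.split 0 184 (.split 2 (-144)
    (.lin 3) (.split 4 142 (.split 7 170 (.splitN 39582 (.split 0 175 (.split 7 161 (.split 5
    (-177) .sq (.split 1 133 cert5_48_10 (.lin 0))) (.lin 12)) .sq) (.wt 1)) (.lin 12)) (.lin
    3))) .sq)) (.wt 1)))) (.lin 0)) (.lin 0))) (.lin 0)) (.splitN 33458 (.split 2 (-185) (.div 2)
    (.split 7 197 (.split 5 (-185) (.div 5) (.split 1 160 (.split 0 178 (.split 4 160 (.split 7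
    170 (.splitN 32539 (.split 5 (-167) (.div 5) (.split 4 142 (.split 7 152 (.split 6 (-15)
    (.split 0 33 (.lin 3) (.split 5 (-40) (.split 7 25 (.lin 9) (.split 3 24 (.lin 11) (.splitN
    28602 (.split 5 (-149) (.div 5) (.split 0 142 (.split 7 134 (.split 1 28 (.split 3 43
    (.splitN 26052 (.split 5 (-131) (.div 5) (.split 4 26 (.split 1 13 (.split 3 25 (.splitN
    17517 (.split 5 (-95) (.div 5) (.split 2 (-63) (.lin 0) (.split 7 80 (.splitN 16299 (.split 5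
    (-77) (.div 5) (.split 2 (-45) (.lin 0) (.split 7 62 (.wt 2) (.lin 2)))) (.wt 0)) (.lin 2))))
    (.wt 0)) (.lin 11)) (.split 5 (-49) (.split 7 107 (.split 3 33 (.lin 11) (.splitN 23134
    (.split 5 (-113) (.div 5) (.split 2 (-72) (.lin 0) (.split 7 89 (.split 4 13 (.splitN 18638
    (.split 5 (-95) (.div 5) (.split 7 71 (.splitN 15310 (.wt 6) (.split 0 52 (.wt 0) (.split 2
    (-35) (.split 0 68 (.wt 0) (.split 2 (-44) (.split 5 (-85) (.split 7 61 (.lin 9) .sq) (.lin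
    0)) (.lin 3))) (.lin 3)))) (.lin 6))) (.wt 0)) (.splitN 14331 (.wt 0) .cand)) (.lin 6))))
    (.wt 1))) (.lin 8)) (.lin 0))) (.splitN 14221 (.wt 1) .cand))) (.wt 1)) (.lin 11)) (.split 4
    88 (.split 5 (-67) (.split 7 107 (.split 3 51 (.lin 11) (.splitN 25655 (.split 5 (-131) (.div
    5) (.split 3 115 (.splitN 13952 (.wt 1) .cand) (.lin 6))) (.wt 1))) (.lin 8)) (.lin 0)) (.lin
    0))) (.lin 6)) (.lin 4))) (.wt 1)))) (.lin 0))) (.splitN 20859 .cand (.wt 1))) (.lin 8))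
    (.lin 0))) (.wt 1)) (.lin 8)) (.lin 0)) (.lin 4)) (.lin 0))) (.lin 9))) (.wt 1))) (.lin 10)))
    .sq) .sq) (.lin 12)) (.lin 3))) .sq) (.wt 1)))) .sq) (.lin 12))) (.lin 3)) .sq) (.wt 1))
    (.lin 12))) (.lin 3)) .sq)

def cert5_48_12 : Cert :=
  (.split 7 16 (.splitN 14365 (.split 5 (-77) (.div 5) (.split 0 70 (.split 3 97 (.split 1 61
    (.split 4 61 (.splitN 12621 (.split 5 (-59) (.div 5) (.split 3 79 (.split 0 52 (.split 1 43
    (.split 4 43 (.splitN 10177 (.split 5 (-41) (.div 5) (.split 3 61 (.split 0 34 (.split 1 25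
    (.split 4 25 (.split 2 9 (.split 3 34 (.split 6 (-11) (.lin 9) (.split 1 7 (.wt 0) (.split 4
    16 (.split 0 25 (.split 5 (-31) (.split 3 24 (.lin 2) (.split 4 8 (.wt 0) (.split 1 16
    (.split 0 24 (.lin 3) (.split 3 25 (.split 5 (-40) .point (.lin 0)) (.lin 6))) (.lin 0))))
    (.lin 0)) (.lin 3)) (.lin 0)))) (.lin 1)) (.wt 1)) (.lin 8)) (.lin 8)) (.lin 4)) (.lin 1)))
    (.wt 3)) (.lin 8)) (.lin 8)) (.lin 4)) (.lin 1))) (.wt 0)) (.lin 8)) (.lin 8)) (.lin 6))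
    (.lin 4))) (.wt 0)) (.split 3 24 (.lin 2) (.split 2 19 (.split 0 24 (.lin 12) (.split 5 (-31)
    (.split 6 (-19) (.splitN 26115 (.split 5 (-131) (.div 5) (.split 1 124 (.split 0 124 (.split
    3 142 (.split 4 124 (.split 4 106 (.splitN 8698 (.wt 1) (.split 1 27 (.split 3 79 (.split 3
    61 (.splitN 23160 (.split 5 (-113) (.div 5) (.split 4 88 (.split 4 24 (.split 0 52 (.split 6
    (-33) (.wt 2) (.split 7 26 (.split 1 7 (.wt 2) (.split 5 (-40) (.split 6 (-26) (.wt 2)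
    (.split 0 34 (.split 2 1 (.split 7 17 (.split 3 43 (.wt 2) (.lin 2)) (.lin 9)) (.lin 9))
    (.lin 3))) (.lin 4))) (.lin 9))) (.lin 3)) (.split 5 (-49) (.split 0 42 (.lin 12) (.split 1
    13 (.split 3 43 (.splitN 16035 (.split 5 (-77) (.div 5) (.split 0 70 (.split 4 52 (.split 3
    26 (.wt 2) (.split 6 (-28) (.splitN 13417 (.split 5 (-59) (.div 5) (.split 4 34 (.split 7 26
    (.wt 2) (.lin 8)) (.lin 8))) (.wt 0)) (.lin 11))) (.lin 8)) (.lin 4))) (.wt 0)) (.lin 11))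
    (.split 3 33 (.lin 2) (.split 0 97 (.split 5 (-58) (.split 4 79 (.split 2 4 (.splitN 20124
    (.split 5 (-95) (.div 5) (.split 4 61 (.split 0 79 (.splitN 15076 (.split 5 (-77) (.div 5)
    (.split 4 43 (.split 0 61 (.split 3 52 (.splitN 10501 (.wt 1) (.split 7 18 (.wt 0) (.split 0
    51 (.lin 12) (.split 5 (-67) (.split 4 34 (.split 6 (-28) (.split 6 (-37) (.wt 2) (.split 7
    26 (.wt 0) (.lin 9))) (.lin 9)) (.lin 8)) (.lin 4))))) (.lin 10)) (.lin 4)) (.lin 0))) (.wt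
    1)) (.lin 4)) (.lin 0))) (.wt 0)) (.split 6 (-28) (.split 7 26 (.splitN 19586 (.split 5 (-95)
    (.div 5) (.split 4 61 (.splitN 14256 (.wt 1) (.split 7 20 (.wt 0) (.split 3 51 (.lin 2)
    (.split 2 10 (.split 0 51 (.lin 12) (.split 5 (-67) (.split 6 (-37) (.wt 1) (.lin 9)) (.lin
    1))) (.lin 9))))) (.lin 8))) (.wt 0)) (.lin 9)) (.lin 9))) (.lin 8)) (.lin 4)) (.lin 4)))))
    (.lin 8))) (.lin 8))) (.wt 3)) (.lin 11)) (.lin 2)) (.split 0 97 (.split 3 51 (.lin 2)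
    (.split 5 (-58) (.split 4 79 (.split 4 23 (.split 0 52 (.splitN 21819 (.split 5 (-113) (.div
    5) (.split 1 88 (.split 3 119 (.split 2 4 (.split 3 106 (.splitN 17958 (.split 5 (-95) (.div
    5) (.split 1 70 (.splitN 14836 (.split 5 (-77) (.div 5) (.split 3 70 (.split 6 (-33) (.wt 2)
    (.split 7 26 (.splitN 13247 (.split 5 (-59) (.div 5) (.split 0 25 (.split 4 7 (.split 6 (-20)
    (.lin 0) (.split 3 52 (.split 7 17 (.wt 0) (.lin 1)) (.lin 6))) (.lin 0)) (.lin 4))) (.wt 1))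
    (.lin 9))) (.lin 10))) (.wt 1)) (.lin 0))) (.wt 0)) (.lin 10)) (.split 0 43 (.split 6 (-28)
    (.split 7 26 (.splitN 17147 (.split 5 (-95) (.div 5) (.split 3 106 (.split 1 70 (.splitN
    16856 (.split 5 (-77) (.div 5) (.split 3 88 (.wt 2) (.lin 6))) (.wt 0)) (.lin 8)) (.lin 6)))
    (.wt 0)) (.lin 9)) (.lin 9)) (.lin 3))) .sq) (.lin 4))) (.wt 1)) (.lin 3)) (.split 0 42 (.lin
    12) (.split 5 (-76) (.splitN 12761 .sq (.splitN 23014 (.split 5 (-113) (.div 5) (.split 1 70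
    (.split 4 61 (.split 3 100 (.split 2 4 (.splitN 15377 (.split 5 (-77) (.div 5) (.split 1 34
    (.split 0 43 (.split 4 25 (.split 6 (-20) (.lin 0) (.split 3 52 (.split 7 17 (.wt 0) (.lin
    1)) (.lin 6))) (.lin 0)) (.lin 4)) (.lin 0))) (.wt 1)) (.split 3 60 (.lin 2) (.split 6 (-28)
    (.split 7 26 (.splitN 14300 .sq (.split 7 17 (.wt 3) (.split 1 61 (.split 2 10 (.split 0 51
    (.lin 12) (.split 3 69 (.lin 2) (.split 5 (-85) (.split 4 52 (.split 6 (-37) (.splitN 18755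
    .sq (.wt 0)) (.lin 9)) (.lin 6)) (.lin 1)))) (.lin 9)) (.lin 2)))) (.lin 9)) (.lin 9)))) .sq)
    (.lin 8)) (.lin 8))) (.wt 1))) (.lin 4)))) (.lin 8)) (.lin 4))) (.lin 4)))) (.lin 8)) (.lin
    0)) (.lin 6)) (.lin 4)) (.lin 0))) (.wt 1)) (.lin 9)) (.lin 4))) (.lin 9))))

def cert5_48_13 : Cert :=
  (.split 2 562 (.split 5 (-563) (.div 5) (.split 0 556 (.split 1 547 (.split 0 316 (.split 6
    (-866) (.lin 3) (.split 4 304 (.split 7 305 (.splitN 92866 (.split 5 (-509) (.div 5) (.split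
    0 300 (.split 4 286 (.split 7 287 (.split 1 300 (.split 2 300 (.split 3 300 (.split 2 280
    (.split 6 (-290) (.lin 11) (.splitN 84149 (.split 0 284 (.split 4 268 (.split 7 269 (.split 3
    284 (.split 6 (-272) (.lin 11) (.split 5 (-285) .sq (.split 7 46 (.splitN 48466 (.split 0 212
    (.split 4 196 (.split 1 211 (.split 3 212 (.splitN 45824 (.split 5 (-239) (.div 5) (.split 5
    (-206) .sq (.split 6 (-45) (.split 1 160 (.split 3 51 (.lin 11) (.splitN 7407 (.wt 1)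
    (.splitN 29888 (.split 5 (-167) (.div 5) (.split 0 160 (.split 1 151 (.split 4 151 (.splitN
    29337 (.split 7 8 (.wt 0) (.split 0 24 (.lin 12) (.split 5 (-31) (.split 3 150 (.split 1 97
    (.split 1 7 (.wt 2) (.split 2 109 (.split 5 (-40) (.split 3 60 (.lin 11) (.split 4 7 (.wt 2)
    (.split 5 (-49) (.split 0 33 (.lin 12) (.split 5 (-138) .sq (.split 0 115 (.split 4 97
    (.split 7 30 (.split 2 18 (.lin 9) (.splitN 22198 (.split 5 (-113) (.div 5) (.split 4 79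
    (.splitN 17831 (.wt 6) (.split 0 56 (.wt 0) (.split 1 52 (.split 0 77 (.wt 0) (.split 5 (-94)
    (.split 4 51 (.lin 12) .sq) (.lin 4))) (.lin 4)))) (.lin 8))) (.wt 0))) (.split 0 51 (.lin
    12) (.split 5 (-67) (.split 3 124 (.split 2 73 (.split 5 (-128) .sq (.split 1 70 (.split 4 70
    (.splitN 26176 (.split 3 111 (.split 1 61 (.split 5 (-115) .sq (.split 2 7 (.split 0 60 (.lin
    3) (.split 4 52 (.split 5 (-76) (.split 7 43 (.lin 9) (.splitN 17783 .sq (.wt 0))) (.lin 0))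
    (.lin 0))) (.split 1 20 (.wt 2) (.split 3 69 (.lin 2) (.split 4 52 (.split 4 22 (.wt 2)
    (.split 0 60 (.lin 12) (.split 5 (-85) (.splitN 20537 .sq (.split 1 30 (.wt 0) (.split 3 78
    (.lin 2) (.split 5 (-94) .sq (.lin 4))))) (.lin 4)))) (.lin 8)))))) (.lin 11)) .sq) (.wt 3))
    (.lin 8)) (.lin 8))) (.lin 2)) .sq) (.lin 4)))) (.lin 8)) (.lin 4)))) (.lin 8)))) (.lin 4))
    (.lin 2))) (.lin 11)) .sq) (.lin 4)))) (.wt 3)) (.lin 8)) (.lin 8)) (.lin 4))) (.wt 3))))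
    (.lin 11)) (.split 2 28 (.split 7 35 (.splitN 30728 (.split 5 (-167) (.div 5) (.split 4 178
    (.split 0 160 cert5_48_12 (.lin 4)) (.lin 0))) (.wt 1)) (.lin 9)) (.lin 9))))) (.wt 3)) .sq)
    .sq) (.lin 12)) .sq) (.wt 1)) (.split 0 60 (.lin 12) (.split 3 60 (.lin 2) (.split 5 (-67)
    (.split 6 (-55) (.splitN 17864 .sq (.splitN 44293 (.split 5 (-239) (.div 5) (.split 1 178
    (.split 4 178 (.split 7 224 (.split 1 7 (.wt 4) (.split 3 69 (.lin 2) (.split 5 (-76) (.split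
    4 169 (.splitN 20537 .sq (.splitN 42692 (.split 5 (-221) (.div 5) (.split 4 7 (.wt 0) (.split
    0 69 (.lin 12) (.split 5 (-85) (.split 0 145 (.split 4 88 (.split 7 125 (.splitN 38738
    (.split 5 (-203) (.div 5) (.split 0 133 (.split 4 79 (.split 7 116 (.split 3 133 (.split 1 79
    (.split 2 64 (.split 6 (-119) (.lin 11) (.splitN 34843 (.split 0 121 (.split 4 61 (.split 7
    98 (.splitN 32680 (.split 0 106 (.split 4 52 (.split 7 89 (.split 1 16 (.wt 4) (.split 3 78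
    (.lin 2) (.split 5 (-94) (.splitN 26693 .sq (.split 1 33 (.wt 0) (.split 3 87 (.lin 2)
    (.split 5 (-103) .sq (.lin 4))))) (.lin 4)))) (.lin 12)) (.lin 12)) .sq) (.wt 3)) (.lin 12))
    (.lin 12)) .sq) (.wt 1))) (.lin 2)) (.lin 2)) .sq) (.lin 12)) (.lin 12)) .sq)) (.wt 1)) (.lin
    12)) (.lin 12)) .sq) (.lin 4))))) (.wt 1))) (.lin 8)) (.lin 4)))) (.lin 8)) (.lin 8)) (.lin
    8))) (.wt 1))) (.lin 9)) (.lin 4))))))) .sq) (.lin 12)) (.lin 12)) .sq) (.wt 1))) (.lin 2))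
    .sq) .sq) .sq) (.lin 12)) (.lin 12)) .sq)) (.wt 1)) (.lin 12)) (.lin 12))) .sq) (.lin 8))
    (.lin 4))) (.div 2))

def cert5_48_14 : Cert :=
  (.split 4 (-1) (.split 2 (-1) (.split 7 16 (.lin 9) (.split 4 (-12) (.split 7 25 (.lin 12)
    (.splitN 10677 (.wt 1) (.split 6 (-28) (.split 7 34 (.lin 9) (.split 3 33 (.lin 11) (.splitN
    616897 (.split 2 (-3425) (.div 2) cert5_48_4) (.wt 3)))) (.splitN 92511 (.split 2 (-509)
    (.div 2) (.split 7 521 (.split 5 (-509) (.div 5) (.splitN 83298 (.split 1 282 (.split 2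
    (-283) .sq (.split 7 296 (.splitN 78054 (.split 5 (-272) .sq (.split 7 272 (.split 0 15
    (.split 6 (-17) (.wt 2) .cand) (.split 2 (-17) (.split 7 34 (.lin 12) (.splitN 42664 (.split
    6 (-15) (.splitN 15303 (.wt 1) .cand) (.splitN 14302 (.wt 0) (.splitN 24021 (.split 5 (-131)
    (.div 5) (.wt 6)) (.wt 1)))) (.wt 1))) (.lin 3))) .sq)) (.wt 1)) (.lin 9))) .sq) (.wt 1)))
    (.lin 9))) (.wt 1))))) (.splitN 10568 (.wt 1) (.split 4 (-5) (.split 6 (-28) (.split 5 (-31)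
    (.split 0 24 (.lin 3) (.split 7 34 (.lin 9) (.split 3 33 (.lin 11) cert5_48_5))) (.lin 0))
    (.splitN 138850 (.split 2 (-761) (.div 2) (.split 7 773 (.split 5 (-761) (.div 5) (.splitN
    124916 (.split 5 (-689) (.div 5) (.split 0 350 (.split 2 (-351) (.lin 3) (.split 7 368
    (.splitN 115505 (.split 5 (-635) (.div 5) (.split 3 646 (.split 0 46 (.split 2 (-45) (.lin 3)
    (.split 7 53 (.splitN 62280 (.split 1 247 (.split 0 17 (.split 2 (-18) (.lin 3) (.split 7 26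
    (.split 6 (-15) (.split 5 (-22) (.split 0 15 (.lin 3) (.split 3 24 (.lin 6) (.split 2 (-9)
    (.lin 9) (.split 7 25 (.lin 9) (.splitN 27449 (.split 5 (-149) (.div 5) (.splitN 17926 (.wt
    1) (.split 1 7 (.wt 0) (.split 5 (-31) (.split 3 33 (.lin 6) (.splitN 22013 (.wt 0) (.splitN
    26368 (.split 1 19 (.split 5 (-32) (.lin 0) (.split 3 34 (.wt 0) (.lin 6))) (.wt 0)) (.wt
    1)))) (.lin 0))))) (.wt 1)))))) (.lin 0)) (.splitN 23949 (.split 5 (-131) (.div 5) (.split 3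
    133 (.split 0 15 (.split 2 (-9) (.lin 3) (.split 7 17 (.splitN 19430 (.split 1 7 (.wt 0)
    (.split 5 (-22) (.split 3 24 (.lin 6) (.splitN 13752 (.wt 0) (.split 1 16 (.wt 0) (.split 5
    (-31) (.split 3 33 (.lin 6) (.split 1 41 (.split 5 (-41) (.lin 0) (.split 3 43 (.split 1 26
    (.wt 0) (.split 5 (-40) (.split 3 42 (.lin 6) (.wt 0)) (.lin 0))) (.lin 6))) (.wt 0))) (.lin
    0))))) (.lin 0))) (.wt 1)) (.lin 9))) (.wt 2)) (.lin 6))) (.wt 1))) (.lin 12))) (.split 2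
    (-17) (.split 7 34 (.lin 12) (.splitN 17580 (.wt 3) (.split 1 27 (.split 5 (-77) (.lin 0)
    (.split 1 23 (.split 5 (-59) (.lin 4) (.split 3 32 (.split 6 (-14) (.split 1 7 (.split 3 24
    (.lin 11) (.splitN 22126 (.split 0 35 (.split 2 (-27) (.lin 3) (.split 5 (-41) (.lin 0)
    (.split 7 43 (.split 2 (-18) (.lin 2) (.split 0 25 (.wt 0) (.lin 3))) (.wt 0)))) (.wt 0))
    (.wt 1))) (.lin 11)) (.wt 2)) (.wt 2))) (.wt 2))) (.wt 2)))) (.lin 3))) .sq) (.wt 1)) (.lin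
    12))) (.split 2 (-44) (.split 7 52 (.lin 9) (.split 7 61 (.lin 12) (.splitN 27063 (.split 5
    (-149) (.div 5) (.splitN 26562 (.split 3 18 (.split 6 (-11) (.lin 11) (.wt 0)) (.wt 0)) (.wt
    6))) (.wt 6)))) (.lin 3))) (.lin 6))) (.wt 1)) (.lin 9))) .sq)) (.wt 1))) (.lin 9))) (.wt
    1))) (.split 0 15 (.lin 3) (.split 0 118 (.split 6 (-110) (.lin 3) (.split 0 48 (.split 6
    (-38) (.lin 3) (.wt 2)) (.wt 0))) (.wt 0))))))) cert5_48_9) (.split 5 (-22) (.split 0 15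
    (.lin 12) (.split 2 (-1) (.split 5 (-31) (.split 0 24 (.lin 3) (.split 7 16 (.lin 9) (.splitN
    125131 (.split 0 3440 (.split 7 3428 (.split 1 1376 (.split 5 (-4811) (.lin 4) (.split 2
    (-689) (.div 2) (.split 5 (-689) (.div 5) (.split 0 682 (.split 6 (-668) (.lin 0) (.split 7
    674 (.splitN 104510 (.split 5 (-581) (.div 5) (.splitN 9019 (.wt 1) cert5_48_11)) (.wt 1))
    (.lin 8))) (.lin 4))))) (.div 1)) (.lin 12)) (.div 0)) (.wt 1)))) (.lin 0)) (.splitN 120960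
    (.split 0 3350 (.split 4 3337 (.split 2 670 (.split 5 (-671) (.div 5) (.split 6 (-1325) (.lin
    0) (.split 0 664 (.split 3 1978 (.split 1 655 (.split 4 655 (.split 7 656 (.splitN 103738
    cert5_48_13 (.wt 1)) (.lin 8)) (.lin 8)) (.lin 8)) (.lin 6)) (.lin 4)))) (.div 2)) (.lin 12))
    (.div 0)) (.wt 1)))) (.lin 8)))

def cert5_48 : Cert :=
  (.split 5 (-13) (.split 6 (-2) (.split 3 15 (.lin 11) (.splitN 4131 (.wt 1) cert5_48_14)) (.wt
    2)) (.lin 4))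

theorem check5_48 :
    check task5 cert5_48
      [(7, ⟨some (7), none⟩), (7, ⟨some (7), none⟩), (1, ⟨none, none⟩), (7, ⟨some (7), none⟩), (7, ⟨none, none⟩), (5, ⟨none, none⟩), (8, ⟨none, some (-1)⟩), (8, ⟨some (8), none⟩)] ⟨some (3960), none⟩ = true := by
  decide +kernel

def cert5_49 : Cert :=
  (.lin 4)

theorem check5_49 :
    check task5 cert5_49
      [(7, ⟨none, some (-2)⟩), (7, ⟨none, some (-2)⟩), (1, ⟨none, none⟩), (7, ⟨none, some (-2)⟩), (7, ⟨none, none⟩), (5, ⟨none, some (-4)⟩), (8, ⟨some (8), none⟩), (8, ⟨none, some (-1)⟩)] ⟨some (3960), none⟩ = true := by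
  decide +kernel

end Cfsg.Agent.EightLocal
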