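import Cfsg.Agent.Lib.EightLocal.Task5

/-!
# Search trees of family 5, part 3
-/

set_option autoImplicit false
set_option maxRecDepth 20000
set_option Elab.async false

namespace Cfsg.Agent.EightLocal

open Cfsg.Agent.SelfNine

def cert5_50_0 : Cert :=
  (.split 1 (-66) (.split 5 130 (.lin 0) (.split 3 (-119) (.split 5 139 (.lin 4) (.split 0 (-69)
    (.split 5 148 (.lin 4) (.split 4 (-66) (.split 5 175 (.lin 0) (.split 0 (-228) (.split 5 292
    (.lin 1) (.split 4 (-191) (.split 5 310 (.lin 4) (.split 3 (-246) (.split 5 427 (.lin 1)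
    (.split 1 (-191) (.splitN 379727 .sq (.split 7 (-42) (.split 2 (-9) (.lin 9) (.split 6 52
    (.lin 9) (.splitN 3253502 (.split 0 (-90291) (.div 0) (.split 5 18058 (.split 3 (-17868)
    (.lin 6) (.splitN 517471 (.split 5 2866 (.split 3 (-2676) (.lin 6) (.split 0 (-437) .sq
    (.split 4 (-390) (.lin 3) (.splitN 451401 (.split 5 2506 (.split 3 (-2316) (.lin 6) (.split 1
    (-1750) (.wt 1) (.split 3 (-1803) (.lin 2) (.split 1 (-1379) (.wt 1) (.split 3 (-1425) (.lin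
    2) (.split 1 (-1100) (.wt 1) (.split 3 (-1146) (.lin 2) (.split 1 (-891) (.wt 1) (.split 3
    (-939) (.lin 2) (.split 1 (-733) (.wt 1) (.split 3 (-786) (.lin 2) (.split 1 (-616) (.wt 1)
    (.split 3 (-669) (.lin 2) (.split 1 (-526) (.wt 1) (.split 3 (-579) (.lin 2) (.split 1 (-456)
    (.wt 1) (.split 3 (-507) (.lin 2) (.split 1 (-400) (.wt 1) (.split 3 (-453) (.lin 2) (.split
    1 (-358) (.wt 1) (.split 3 (-408) (.lin 2) (.wt 6)))))))))))))))))))))) (.div 5)) (.wt 1)))))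
    (.div 5)) (.wt 1))) (.div 5))) (.wt 0)))) (.split 6 48 (.split 2 (-9) (.lin 9) (.split 0
    (-527) (.wt 1) (.split 4 (-489) (.lin 3) (.split 0 (-283) (.wt 1) (.split 4 (-246) (.lin 3)
    (.wt 1)))))) (.split 2 (-17) (.splitN 954625 (.split 1 (-10593) (.div 1) (.split 5 5296
    (.split 3 (-5115) (.lin 6) (.split 4 (-5061) (.lin 0) (.split 0 (-533) (.split 5 733 (.lin 1)
    (.split 4 (-497) .sq (.lin 3))) (.wt 2)))) (.div 5))) (.wt 1)) (.lin 9))))) (.lin 2)))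
    (.split 1 (-201) (.lin 2) (.split 7 (-42) (.split 3 (-128) (.split 2 (-9) (.lin 9) (.split 6
    52 (.lin 9) (.splitN 639972 (.split 5 3550 (.split 4 (-3423) (.lin 0) (.split 0 (-3468) (.lin
    1) (.splitN 540258 (.split 5 2992 (.split 4 (-2865) (.lin 0) (.split 0 (-2910) (.lin 1)
    (.split 0 (-276) (.split 5 355 (.lin 1) (.splitN 476172 (.split 5 2632 (.split 4 (-2505)
    (.lin 0) (.split 0 (-2550) (.lin 1) (.split 0 (-346) (.split 5 427 (.lin 1) (.split 4 (-308)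
    (.splitN 429506 .sq (.wt 6)) (.lin 3))) (.wt 0)))) (.div 5)) (.wt 6))) (.wt 0)))) (.div 5))
    (.wt 6)))) (.div 5)) (.wt 1)))) (.lin 2)) (.split 6 49 (.split 2 (-9) (.lin 9) (.split 0
    (-331) (.split 1 (-104) (.split 3 (-155) (.wt 1) (.lin 2)) (.wt 0)) (.wt 0))) (.wt 2))))))
    (.lin 3))) (.split 4 (-201) (.lin 3) (.split 3 (-125) (.split 7 (-42) (.split 5 193 (.lin 6)
    (.split 2 (-9) (.lin 9) (.split 6 52 (.lin 9) (.split 4 (-183) (.lin 3) (.splitN 1434217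
    (.split 5 7960 (.split 1 (-7833) (.lin 0) (.split 3 (-7887) (.lin 6) (.splitN 702515 (.split
    5 3892 (.split 1 (-3765) (.lin 0) (.split 3 (-3819) (.lin 6) (.splitN 606613 (.split 5 3370
    (.split 1 (-3243) (.lin 0) (.split 0 (-128) (.split 4 (-83) (.split 1 (-178) (.split 5 310
    (.lin 0) (.splitN 575357 (.split 5 3190 (.split 3 (-3108) (.lin 6) (.splitN 400537 (.split 5
    2218 (.split 1 (-2082) (.lin 0) (.split 3 (-2136) (.lin 6) (.splitN 364731 (.split 5 2020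
    (.split 3 (-1938) (.lin 6) (.wt 2)) (.div 5)) (.wt 6)))) (.div 5)) (.wt 6))) (.div 5)) (.wt
    1))) (.wt 0)) (.lin 3)) (.wt 0))) (.div 5)) (.wt 6)))) (.div 5)) (.wt 6)))) (.div 5)) (.wt
    1)))))) (.split 1 (-115) (.split 5 220 (.lin 0) (.split 0 (-118) (.split 3 (-245) (.split 5
    310 (.lin 1) (.split 6 48 (.split 2 (-9) (.lin 9) (.split 0 (-141) (.split 3 (-379) (.wt 1)
    (.wt 0)) (.wt 0))) (.wt 2))) (.wt 2)) (.wt 2))) (.wt 0))) (.wt 2))))) (.split 0 (-111) (.lin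
    3) (.splitN 2162342 (.split 5 12010 (.split 1 (-11946) (.lin 0) (.split 3 (-11991) (.lin 6)
    (.splitN 1664205 (.split 5 9238 (.split 1 (-9174) (.lin 0) (.split 3 (-9219) (.lin 6)
    (.splitN 1556289 (.split 0 (-82) (.split 5 157 (.lin 4) (.wt 2)) (.wt 0)) (.wt 6)))) (.div
    5)) (.wt 6)))) (.div 5)) (.wt 6))))) (.wt 2))) (.lin 2))) (.split 3 (-120) (.lin 11) (.split
    0 (-170) (.split 5 184 (.lin 1) (.split 5 202 (.lin 4) (.splitN 4487534 (.split 5 24916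
    (.split 4 (-24852) (.lin 0) (.split 0 (-24897) (.lin 1) (.splitN 3455078 (.split 5 19192
    (.split 4 (-19128) (.lin 0) (.split 0 (-19173) (.lin 1) (.splitN 3232323 (.split 5 17950
    (.split 4 (-17886) (.lin 0) (.split 0 (-17931) (.lin 1) (.split 0 (-218) (.split 5 247 (.lin
    4) (.splitN 1514549 (.split 5 8410 (.split 4 (-8346) (.lin 0) (.split 0 (-8391) (.lin 1)
    (.splitN 1306188 (.split 0 (-307) (.split 5 337 (.lin 4) (.wt 2)) (.wt 0)) (.wt 6)))) (.div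
    5)) (.wt 6))) (.wt 0)))) (.div 5)) (.wt 6)))) (.div 5)) (.wt 6)))) (.div 5)) (.wt 6)))) (.wt
    0))))

def cert5_50_1 : Cert :=
  (.split 4 (-30) (.split 0 (-83) (.split 0 (-205) (.wt 2) (.split 2 136 (.split 4 (-156) (.lin
    3) (.split 1 (-255) (.wt 2) (.split 5 572 (.split 5 455 (.split 0 (-185) (.wt 2) (.split 1
    (-180) (.wt 2) (.split 5 356 (.split 3 (-113) (.wt 2) (.split 5 266 (.split 1 (-84) (.lin 11)
    (.split 0 (-173) (.wt 2) (.split 5 248 (.split 3 (-109) (.wt 2) (.split 1 (-75) (.lin 11)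
    (.split 7 (-81) (.wt 2) (.split 2 46 (.split 0 (-129) (.wt 6) (.split 5 230 (.split 5 203
    (.split 0 (-125) (.wt 6) (.split 3 (-88) (.wt 6) (.split 5 176 (.split 1 (-57) (.lin 11)
    (.split 7 (-60) (.split 0 (-101) (.wt 2) (.lin 12)) (.split 4 (-56) (.split 0 (-101) (.wt 6)
    (.lin 3)) (.split 1 (-39) (.split 3 (-74) (.split 7 (-52) (.split 2 27 (.lin 9) (.split 0
    (-92) (.wt 1) (.lin 12))) (.wt 1)) (.lin 11)) (.wt 1))))) (.lin 7)))) (.lin 4)) (.lin 1)))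
    (.lin 9))))) (.lin 4)))) (.lin 7))) (.lin 4)))) (.lin 4)) (.lin 0)))) (.lin 3))) (.lin 3))
    (.split 7 (-100) (.split 5 148 (.lin 6) (.split 2 72 (.lin 9) (.split 0 (-110) (.split 4
    (-26) (.wt 2) (.split 3 (-382) (.wt 6) (.split 1 (-354) (.lin 11) (.split 4 (-16) (.split 0
    (-119) (.splitN 272074 (.wt 6) (.split 1 (-163) (.wt 0) (.split 7 (-282) (.wt 0) (.split 2
    370 (.split 2 253 (.split 5 455 (.splitN 353663 (.wt 6) (.split 1 (-100) (.wt 0) (.split 5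
    392 (.splitN 371570 (.wt 6) (.split 7 (-200) (.wt 0) (.split 2 172 (.split 5 311 (.splitN
    410685 (.wt 6) (.split 1 (-84) (.wt 0) (.split 3 (-111) (.lin 11) (.split 7 (-186) (.wt 0)
    (.split 5 284 (.split 0 (-154) (.wt 2) (.split 2 100 (.split 1 (-48) (.wt 2) (.split 5 194
    (.split 0 (-146) (.wt 2) (.split 2 91 (.split 1 (-47) (.wt 2) (.split 5 176 (.split 3 (-66)
    (.lin 11) (.split 7 (-106) (.split 2 81 (.lin 2) (.split 0 (-128) (.splitN 3235551 (.wt 6)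
    (.split 7 (-116) (.wt 0) (.split 2 82 (.split 0 (-129) (.lin 3) (.wt 0)) (.lin 2)))) (.lin
    3))) (.wt 0))) (.lin 0))) (.lin 3))) (.lin 0))) (.lin 3))) (.lin 6)))))) (.lin 0)) (.lin
    9)))) (.lin 0)))) (.lin 0)) (.lin 9)) (.lin 2))))) (.lin 3)) (.split 7 (-137) (.split 2 117
    (.lin 9) (.split 0 (-155) (.split 7 (-157) (.split 2 135 (.lin 9) (.split 0 (-173) (.split 3
    (-208) (.wt 2) (.split 1 (-174) (.lin 11) (.split 7 (-180) (.split 2 153 (.lin 9) (.split 0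
    (-191) (.split 3 (-173) (.wt 2) (.split 1 (-138) (.lin 11) (.split 7 (-197) (.split 0 (-209)
    (.split 3 (-152) (.wt 2) (.split 1 (-120) (.lin 11) (.split 7 (-212) (.split 2 189 (.lin 9)
    (.split 0 (-227) (.split 3 (-110) (.wt 6) (.split 1 (-75) (.lin 11) (.split 7 (-281) (.split
    2 225 (.lin 2) (.split 2 261 (.lin 9) (.split 0 (-299) (.split 7 (-310) (.split 0 (-326)
    (.split 3 (-92) (.wt 6) (.split 1 (-57) (.lin 11) (.split 7 (-441) (.split 2 396 (.lin 2)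
    (.split 0 (-434) (.split 7 (-493) (.split 2 450 (.lin 2) (.split 0 (-488) (.split 3 (-82)
    (.wt 6) (.split 1 (-48) (.lin 11) (.split 7 (-791) (.split 2 756 (.lin 2) (.split 0 (-794)
    (.split 7 (-979) (.split 2 945 (.lin 2) (.split 0 (-983) (.split 7 (-1055) (.split 3 (-73)
    (.wt 6) (.split 1 (-39) (.lin 11) (.wt 0))) (.wt 1)) (.lin 3))) (.wt 1)) (.lin 3))) (.wt
    1)))) (.lin 3))) (.wt 1)) (.lin 3))) (.wt 1)))) (.lin 12)) (.wt 1)) (.lin 12)))) (.wt 1))))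
    (.lin 12))) (.wt 1)))) (.lin 12)) (.wt 1)))) (.lin 12))) (.wt 1)))) (.lin 12))) (.wt 1))
    (.lin 12))) (.wt 1)))))) (.lin 12)))) (.split 2 64 (.split 0 (-120) (.lin 12) (.split 4 (-20)
    (.split 0 (-65) (.split 3 (-824) (.wt 6) (.split 5 959 (.split 7 (-69) (.split 2 45 (.lin 9)
    (.split 0 (-92) (.split 3 (-122) (.wt 2) (.split 5 230 (.split 3 (-98) (.wt 6) (.split 5 185
    (.split 1 (-66) (.lin 11) (.split 4 (-25) (.split 0 (-101) (.splitN 1784878 (.wt 6) (.split 1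
    (-46) (.wt 0) (.split 5 158 (.split 3 (-66) (.lin 11) (.splitN 4904446 (.wt 6) (.split 7
    (-79) (.wt 0) (.split 2 46 (.split 0 (-102) (.lin 3) (.wt 0)) (.lin 2))))) (.lin 0)))) (.lin
    3)) (.split 1 (-41) (.split 3 (-74) (.split 7 (-81) (.split 2 54 (.lin 9) (.split 1 (-50)
    (.split 3 (-83) (.wt 2) (.lin 11)) (.wt 1))) (.wt 1)) (.lin 11)) (.wt 1)))) (.lin 6))) (.lin
    1))) (.lin 12))) (.split 2 37 (.split 0 (-93) (.lin 12) (.split 3 (-202) (.split 1 (-164)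
    (.wt 6) (.lin 2)) (.split 5 284 (.split 1 (-192) (.lin 2) (.split 7 (-48) (.split 2 27 (.lin
    9) (.split 0 (-74) (.split 1 (-40) (.split 3 (-74) (.split 3 (-147) (.wt 6) (.split 5 221
    (.split 1 (-120) (.lin 11) (.split 3 (-143) (.wt 6) (.split 5 203 (.split 4 (-21) (.split 0
    (-83) (.split 1 (-51) (.split 3 (-83) (.wt 2) (.lin 11)) (.wt 1)) (.lin 3)) (.wt 1)) (.lin
    6)))) (.lin 1))) (.lin 11)) (.wt 1)) (.lin 12))) (.wt 1))) (.lin 1)))) (.lin 9))) (.lin 1)))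
    (.lin 3)) (.wt 3))) (.lin 9))))

def cert5_50_2 : Cert :=
  (.split 7 (-69) (.split 2 36 (.lin 2) (.split 0 (-101) (.split 2 45 (.lin 9) (.split 0 (-110)
    (.split 5 130 (.lin 0) (.split 4 (-84) (.split 5 184 (.lin 0) (.split 0 (-137) (.split 0
    (-470) (.wt 2) (.split 5 509 (.split 0 (-385) (.wt 2) (.split 5 428 (.split 4 (-336) (.lin 0)
    (.split 1 (-26) (.wt 2) (.split 3 (-48) (.lin 11) (.split 7 (-82) (.split 2 54 (.lin 2)
    (.split 0 (-265) (.wt 2) (.split 5 293 (.split 0 (-251) (.wt 2) (.split 5 275 (.split 4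
    (-128) (.split 5 229 (.lin 0) (.split 0 (-200) (.wt 2) (.lin 1))) (.split 5 230 (.split 0
    (-219) (.lin 1) (.split 7 (-87) (.split 2 63 (.lin 2) (.split 5 202 (.lin 0) (.split 0 (-198)
    (.wt 2) (.split 5 212 (.split 4 (-102) (.lin 0) (.splitN 757195 (.wt 0) (.splitN 910203 .cand
    (.wt 1)))) (.lin 1))))) (.split 2 55 (.split 0 (-201) (.lin 3) (.splitN 1105047 (.wt 0)
    (.splitN 1801859 (.split 4 (-101) (.split 5 202 (.lin 0) (.splitN 1464832 (.split 4 (-108)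
    (.splitN 1326083 (.split 4 (-111) (.split 5 220 (.lin 0) (.splitN 1176318 .cand (.wt 1)))
    (.wt 0)) (.wt 1)) (.wt 0)) (.wt 1))) (.wt 0)) (.wt 1)))) (.lin 2)))) (.lin 0))) (.lin 1)))
    (.lin 1)))) (.split 2 46 (.split 0 (-170) (.split 4 (-101) (.split 0 (-330) (.wt 2) (.split 5
    347 (.split 4 (-255) (.lin 0) (.split 4 (-178) (.split 5 274 (.lin 0) (.split 0 (-254)
    (.splitN 1176363 (.wt 1) (.wt 0)) (.lin 1))) (.split 5 266 (.split 0 (-246) (.lin 1) (.split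
    4 (-110) (.split 5 202 (.lin 0) (.split 0 (-202) (.split 5 229 (.lin 1) (.split 4 (-137)
    (.split 4 (-155) (.split 5 247 (.lin 0) (.split 0 (-227) (.wt 2) (.lin 1))) (.split 5 239
    (.split 0 (-219) (.lin 1) (.splitN 3224843 (.wt 0) (.wt 1))) (.lin 0))) (.lin 0))) (.wt 2)))
    (.wt 0))) (.lin 0)))) (.lin 1))) (.lin 3)) (.wt 2)) (.lin 2)))))) (.lin 1))) (.lin 1))) (.lin
    1))) (.split 5 203 (.split 0 (-174) (.lin 3) (.split 1 (-25) (.split 3 (-56) (.split 0 (-149)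
    (.wt 2) (.split 5 176 (.split 0 (-145) (.wt 2) (.split 5 167 (.split 4 (-51) (.wt 2) (.split
    7 (-82) (.split 2 54 (.lin 2) (.split 0 (-119) (.split 5 148 (.lin 0) (.splitN 1070013 (.wt
    6) (.split 4 (-43) (.wt 0) (.split 5 158 (.splitN 1245375 (.wt 6) (.split 7 (-87) (.wt 0)
    (.split 2 55 (.split 0 (-120) (.lin 3) (.split 5 149 (.splitN 2777420 (.wt 0) (.wt 0)) (.lin
    0))) (.lin 2)))) (.lin 0))))) (.lin 3))) (.split 2 46 (.split 5 149 (.splitN 2630632 (.wt 1)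
    (.split 4 (-42) (.split 5 148 (.lin 0) (.split 0 (-119) (.wt 0) (.lin 1))) (.wt 0))) (.lin
    0)) (.lin 2)))) (.lin 4))) (.lin 4))) (.lin 11)) (.split 3 (-48) (.lin 11) (.wt 2)))) (.lin
    0)))) (.lin 12))) (.lin 3))) (.split 2 37 (.split 4 (-84) (.split 5 157 (.lin 0) (.split 0
    (-137) (.split 7 (-55) (.split 2 27 (.lin 9) (.split 0 (-2831) (.wt 6) (.split 5 2867 (.split
    0 (-2208) (.wt 6) (.split 5 2246 (.split 1 (-25) (.split 3 (-56) (.wt 2) (.lin 11)) (.split 3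
    (-48) (.lin 11) (.split 4 (-104) (.split 7 (-56) (.split 2 36 (.lin 2) (.split 0 (-173)
    (.split 5 193 (.lin 0) (.split 4 (-122) (.split 5 211 (.lin 0) (.split 0 (-191) (.split 4
    (-134) (.split 0 (-493) (.wt 2) (.split 5 509 (.split 4 (-426) (.lin 0) (.split 0 (-426) (.wt
    1) (.split 5 446 (.split 4 (-363) (.lin 0) (.split 0 (-346) (.wt 1) (.split 5 365 (.split 4
    (-282) (.lin 0) (.split 0 (-261) (.wt 1) (.wt 0))) (.lin 1)))) (.lin 1)))) (.lin 1))) (.wt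
    1)) (.lin 1))) (.wt 1))) (.lin 3))) (.wt 1)) (.wt 0)))) (.lin 1))) (.lin 1)))) (.split 2 19
    (.split 0 (-172) (.wt 1) (.split 5 194 (.split 4 (-129) (.lin 0) (.wt 0)) (.lin 1))) (.lin
    9))) (.lin 3))) (.split 5 176 (.split 0 (-174) (.lin 1) (.split 0 (-147) (.lin 3) (.split 1
    (-22) (.split 3 (-56) (.split 4 (-45) (.split 5 121 (.lin 0) (.split 7 (-53) (.split 2 27
    (.lin 2) (.split 4 (-48) (.split 7 (-57) (.split 2 36 (.lin 2) (.split 0 (-119) (.splitN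
    9387902 (.wt 6) (.split 0 (-127) (.wt 0) (.split 5 149 (.split 4 (-57) (.lin 0) (.wt 0))
    (.lin 1)))) (.lin 3))) (.wt 1)) (.wt 0))) (.wt 0))) (.wt 0)) (.lin 11)) (.wt 0)))) (.lin 0)))
    (.lin 9)))

def cert5_50_3 : Cert :=
  (.split 4 (-30) (.split 5 85 (.lin 0) (.split 0 (-83) (.split 6 21 (.split 2 27 (.lin 9)
    (.split 1 (-12) (.split 3 (-38) (.wt 2) (.lin 11)) (.wt 1))) (.split 3 (-38) (.split 7 (-100)
    (.split 2 54 (.lin 2) (.split 0 (-119) (.split 2 72 (.lin 9) (.split 0 (-137) (.split 5 148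
    (.lin 0) (.split 1 (-20) (.split 3 (-47) (.split 4 (-363) (.wt 2) (.split 7 (-208) (.split 2
    171 (.lin 2) (.split 0 (-236) (.splitN 492839 (.split 2 2722 (.split 5 3137 (.splitN 281812
    (.wt 6) (.split 1 (-23) (.wt 0) (.split 4 (-50) (.wt 0) (.split 7 (-348) (.wt 0) (.split 2
    316 (.split 5 410 (.splitN 362634 (.wt 6) (.split 4 (-42) (.wt 0) (.split 7 (-248) (.wt 0)
    (.split 2 217 (.split 5 302 (.split 0 (-240) (.wt 2) (.split 2 172 (.lin 9) (.lin 3))) (.lin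
    0)) (.lin 2))))) (.lin 0)) (.lin 2)))))) (.lin 0)) (.div 2)) (.wt 0)) (.lin 3))) (.split 2
    181 (.split 5 599 (.split 4 (-250) (.wt 2) (.split 5 482 (.split 4 (-232) (.wt 2) (.split 5
    455 (.split 4 (-93) (.split 0 (-200) (.wt 2) (.lin 3)) (.split 7 (-150) (.split 2 117 (.lin
    2) (.split 0 (-182) (.split 2 126 (.lin 9) (.split 5 211 (.lin 0) (.split 1 (-24) (.wt 2)
    (.split 5 311 (.split 3 (-48) (.lin 11) (.splitN 267601 (.wt 1) (.split 4 (-77) (.wt 0)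
    (.split 5 293 (.splitN 286834 (.wt 1) (.split 4 (-72) (.wt 0) (.split 0 (-264) (.lin 12)
    (.split 4 (-55) (.wt 2) (.split 5 275 (.split 0 (-246) (.lin 12) (.split 4 (-43) (.split 0
    (-200) (.splitN 399975 (.wt 6) (.split 7 (-176) (.wt 0) (.split 2 145 (.split 5 239 (.splitN
    428924 (.wt 1) (.split 7 (-168) (.wt 0) (.splitN 456645 (.wt 1) (.split 7 (-163) (.wt 0)
    (.split 2 127 (.split 0 (-201) (.lin 3) (.split 5 221 (.splitN 514020 (.wt 0) (.wt 0)) (.lin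
    0))) (.lin 2)))))) (.lin 0)) (.lin 2)))) (.lin 3)) (.split 5 257 (.splitN 574353 (.split 7
    (-178) (.split 2 153 (.lin 2) (.split 5 238 (.lin 0) (.split 0 (-238) (.split 2 163 (.lin 3)
    (.lin 1)) (.wt 2)))) (.wt 0)) (.wt 6)) (.lin 6)))) (.lin 0)))))) (.lin 6))))) (.lin 8)))))
    (.lin 3))) (.split 2 127 (.split 0 (-246) (.lin 3) (.split 2 118 (.split 5 266 (.split 1
    (-25) (.split 3 (-56) (.wt 2) (.lin 11)) (.split 3 (-48) (.lin 11) (.split 4 (-41) (.split 5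
    166 (.lin 0) (.split 4 (-70) (.split 5 193 (.lin 0) (.split 0 (-173) (.splitN 372034 (.wt 6)
    (.split 7 (-132) (.wt 0) (.split 2 100 (.split 5 239 (.splitN 396190 (.wt 6) (.split 7 (-127)
    (.wt 0) (.split 0 (-206) (.wt 2) (.split 5 221 (.split 4 (-92) (.wt 2) (.splitN 463718 (.wt
    1) (.split 7 (-115) (.wt 2) (.split 2 82 (.split 7 (-105) (.splitN 643776 .cand (.wt 0))
    (.split 2 73 (.split 0 (-183) (.lin 3) (.splitN 698787 (.wt 0) (.splitN 788965 (.split 4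
    (-78) (.splitN 715965 .cand (.wt 1)) (.wt 0)) (.wt 1)))) (.lin 2))) (.lin 2))))) (.lin 4)))))
    (.lin 0)) (.lin 2)))) (.lin 3))) (.split 5 230 (.split 0 (-210) (.lin 3) (.split 7 (-123)
    (.split 2 99 (.lin 2) (.split 0 (-173) (.split 5 193 (.lin 0) (.split 4 (-56) (.split 7
    (-136) (.split 2 108 (.lin 2) (.split 0 (-191) (.wt 2) (.lin 3))) (.split 2 100 (.split 0
    (-192) (.lin 3) (.split 5 212 (.splitN 492957 (.wt 1) (.split 4 (-65) (.wt 0) (.splitN 595249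
    (.wt 0) (.wt 1)))) (.lin 0))) (.lin 2))) (.wt 2))) (.lin 3))) (.split 2 91 (.split 0 (-183)
    (.lin 3) (.split 5 203 (.splitN 753992 (.split 0 (-148) (.split 5 175 (.lin 4) (.splitN
    692326 (.split 4 (-59) (.split 7 (-111) (.split 2 90 (.lin 2) (.split 0 (-182) (.split 5 202
    (.lin 0) (.splitN 576261 (.wt 0) (.wt 0))) (.lin 3))) (.wt 0)) (.wt 0)) (.wt 6))) (.wt 0))
    (.wt 6)) (.lin 0))) (.lin 2)))) (.lin 0)))) (.wt 2)))) (.lin 0)) (.lin 9))) (.lin 2)))) (.lin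
    6))) (.lin 0))) (.lin 0)) (.lin 2)))) (.lin 11)) (.split 3 (-39) (.lin 11) (.wt 2)))) (.lin
    12))) (.lin 3))) (.split 2 82 (.split 2 64 (.split 1 (-12) (.split 5 103 (.lin 0) (.split 3
    (-47) cert5_50_2 (.lin 11))) (.wt 0)) (.lin 9)) (.lin 2))) (.lin 11))) (.lin 12))) (.split 7
    (-47) (.split 2 27 (.lin 9) (.split 6 21 (.split 2 36 (.lin 9) (.split 3 (-48) (.lin 11)
    (.split 0 (-285) (.wt 1) (.split 2 253 (.split 5 329 (.split 7 (-290) (.lin 2) (.wt 1)) (.lin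
    0)) (.lin 3))))) (.split 1 (-12) (.split 3 (-47) (.split 4 (-12) (.split 7 (-67) (.split 2 36
    (.lin 2) (.split 2 45 (.lin 9) (.split 5 112 (.lin 0) (.split 7 (-75) (.split 2 54 (.lin 9)
    (.split 7 (-172) (.split 2 135 (.lin 2) (.split 0 (-182) (.split 2 144 (.lin 9) (.split 5 211
    (.lin 0) (.split 7 (-352) (.split 2 315 (.lin 2) (.split 0 (-362) (.split 5 382 (.lin 0)
    (.splitN 505178 .sq (.split 1 (-29) (.wt 0) (.split 3 (-48) (.lin 11) (.split 4 (-29) (.wt 0)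
    (.wt 2)))))) (.lin 3))) (.split 2 325 (.split 0 (-381) (.lin 3) (.split 5 410 (.split 1 (-25)
    (.split 3 (-56) (.splitN 276004 (.wt 1) (.split 4 (-26) (.wt 0) (.splitN 443505 (.wt 1)
    (.split 7 (-318) (.wt 0) (.split 2 289 (.split 5 365 (.split 0 (-244) (.wt 2) (.split 2 190
    (.split 5 266 (.split 7 (-195) (.split 2 171 (.lin 2) (.split 0 (-218) (.wt 2) (.lin 3)))
    (.split 2 163 (.split 0 (-210) (.lin 3) (.split 5 239 (.split 0 (-201) (.split 2 162 (.lin 3)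
    (.split 5 238 (.lin 0) (.split 7 (-190) (.splitN 1007133 (.wt 0) (.wt 0)) (.lin 1)))) (.wt
    2)) (.lin 0))) (.lin 2))) (.lin 0)) (.lin 3))) (.lin 0)) (.lin 2)))))) (.lin 11)) (.split 3
    (-48) (.lin 11) (.splitN 716655 (.split 4 (-26) (.split 7 (-241) (.split 2 216 (.lin 2)
    (.split 5 292 (.lin 0) (.splitN 526743 (.split 7 (-295) (.split 2 270 (.lin 2) (.split 0
    (-326) (.split 5 346 (.lin 0) (.splitN 475430 (.split 0 (-369) (.split 2 315 (.lin 3) (.split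
    5 391 (.lin 0) (.split 7 (-343) .sq (.lin 2)))) (.wt 2)) (.wt 6))) (.lin 3))) (.wt 0)) (.wt
    6)))) (.wt 0)) (.wt 0)) (.wt 6)))) (.lin 0))) (.lin 2))))) (.lin 3))) (.split 2 145 (.split 0
    (-201) (.lin 3) (.split 2 136 (.split 5 221 (.split 7 (-84) (.split 2 63 (.lin 9) (.split 7
    (-127) (.split 2 90 (.lin 2) (.split 0 (-137) (.split 2 99 (.lin 9) (.split 5 166 (.lin 0)
    (.split 1 (-25) (.split 3 (-56) (.split 4 (-27) (.wt 2) (.wt 2)) (.lin 11)) (.split 3 (-48)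
    (.lin 11) (.wt 0))))) (.lin 3))) (.split 2 100 (.split 0 (-156) (.lin 3) (.split 2 91 (.split
    5 176 (.split 1 (-23) (.split 3 (-56) (.split 4 (-23) (.split 5 148 (.lin 0) (.split 7 (-92)
    (.split 2 72 (.lin 2) (.split 0 (-128) (.split 5 157 (.lin 0) (.splitN 774272 (.wt 1) (.split
    7 (-118) (.wt 0) (.split 2 82 (.split 0 (-138) (.lin 3) (.split 5 167 (.splitN 2118636
    (.splitN 1046028 (.wt 1) (.split 7 (-101) (.split 2 81 (.lin 2) (.split 0 (-137) (.wt 0)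
    (.lin 3))) (.wt 0))) (.wt 1)) (.lin 0))) (.lin 2))))) (.lin 3))) (.wt 0))) (.wt 0)) (.lin
    11)) (.wt 0)) (.lin 0)) (.lin 9))) (.lin 2)))) (.wt 0)) (.lin 0)) (.lin 9))) (.lin 2)))) (.wt
    3))))) (.wt 0)) (.wt 0)) (.lin 11)) (.wt 0)))) (.wt 1)))

def cert5_50_4 : Cert :=
  (.split 1 (-48) (.split 5 121 (.lin 0) (.split 3 (-92) (.split 4 (-48) (.split 5 157 (.lin 0)
    (.split 0 (-101) (.splitN 1136870 (.split 5 6304 (.split 3 (-6249) (.lin 6) (.split 0 (-1045)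
    .sq (.splitN 996485 (.split 0 (-976) .sq (.split 1 (-973) .sq (.split 3 (-1020) (.lin 2)
    (.splitN 908326 (.split 5 937 (.split 4 (-831) (.lin 0) (.split 6 44 (.split 7 (-56) (.lin 9)
    (.split 6 39 (.split 7 (-47) (.lin 9) (.splitN 152214 (.wt 1) (.split 3 (-283) (.split 1
    (-254) (.split 5 355 (.lin 0) (.splitN 292130 .sq (.wt 0))) (.lin 2)) (.split 0 (-279)
    (.split 5 337 (.lin 1) (.split 4 (-236) (.splitN 263942 .sq (.split 0 (-409) (.wt 0) (.split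
    1 (-62) (.wt 0) (.split 3 (-93) (.lin 2) (.wt 1))))) (.lin 3))) (.split 3 (-161) (.split 5
    229 (.lin 1) (.split 1 (-128) (.split 0 (-174) (.wt 2) (.splitN 336755 .cand (.wt 1))) (.lin
    2))) (.split 1 (-120) (.lin 2) (.split 4 (-113) (.split 5 220 (.lin 0) (.splitN 334584 .cand
    (.wt 1))) (.split 5 275 (.split 0 (-156) (.lin 3) (.splitN 211771 (.wt 3) (.split 0 (-111)
    (.split 4 (-74) (.split 3 (-112) (.split 5 202 (.lin 1) (.split 1 (-83) (.splitN 301121 .cand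
    (.wt 1)) (.lin 2))) (.wt 2)) (.lin 3)) (.wt 2)))) (.lin 0))))))))) (.split 5 166 (.lin 0)
    (.split 0 (-110) (.split 7 (-55) (.splitN 208756 (.split 0 (-399) .sq (.split 4 (-345) (.lin
    3) (.split 3 (-104) (.split 5 175 (.lin 1) (.split 1 (-65) (.splitN 192721 (.split 0 (-370)
    .sq (.split 4 (-309) (.lin 3) (.split 1 (-359) .sq (.split 3 (-399) (.lin 2) (.split 0 (-112)
    (.split 4 (-65) (.splitN 179080 (.split 3 (-115) (.split 5 193 (.lin 1) (.split 1 (-74)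
    (.split 0 (-336) .sq (.splitN 171818 (.split 3 (-121) (.split 1 (-83) (.split 0 (-315) .sq
    (.split 4 (-255) (.lin 3) (.split 1 (-303) .sq (.split 3 (-345) (.lin 2) (.split 0 (-124)
    (.split 5 211 (.lin 1) (.split 4 (-74) (.splitN 160636 (.split 3 (-132) (.split 1 (-92)
    (.split 0 (-278) .sq (.split 4 (-219) (.lin 3) (.split 0 (-130) (.split 5 229 (.lin 1)
    (.split 4 (-83) (.splitN 152944 (.split 3 (-146) (.split 0 (-232) .sq (.split 4 (-174) (.lin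
    3) (.split 0 (-138) (.split 4 (-92) (.split 3 (-177) (.split 5 283 (.lin 1) (.split 1 (-137)
    .sq (.lin 2))) (.wt 2)) (.lin 3)) (.wt 2)))) (.wt 2)) (.wt 1)) (.lin 3))) (.wt 2)))) (.lin
    2)) (.wt 2)) (.wt 1)) (.lin 3))) (.wt 2)))))) (.lin 2)) (.wt 2)) (.wt 1))) (.lin 2))) (.wt
    2)) (.wt 1)) (.lin 3)) (.wt 2)))))) (.wt 1)) (.lin 2))) (.wt 2)))) (.wt 1)) (.lin 9)) (.lin
    3))))) (.split 5 175 (.lin 0) (.split 7 (-64) (.split 3 (-110) (.splitN 136874 (.split 5 760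
    (.split 1 (-633) (.lin 0) (.split 0 (-696) (.lin 1) (.split 3 (-687) (.lin 6) (.split 4
    (-633) (.lin 0) (.split 0 (-166) (.split 5 229 (.lin 1) (.split 4 (-110) (.splitN 117170 .sq
    (.splitN 120788 (.split 5 670 (.split 3 (-543) (.lin 6) (.split 4 (-543) (.lin 0) (.split 1
    (-57) (.wt 1) (.wt 0)))) (.div 5)) (.wt 1))) (.lin 3))) (.wt 2)))))) (.div 5)) (.wt 1)) (.lin
    2)) (.lin 9))))) .sq) (.wt 1))))) (.wt 1)))) (.div 5)) (.wt 1)) (.lin 3))) (.split 0 (-111)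
    (.lin 3) (.split 3 (-102) (.split 6 43 (.split 0 (-93) (.lin 3) (.split 1 (-74) (.split 7
    (-47) (.lin 9) (.split 4 (-23) (.split 5 148 (.lin 0) (.split 0 (-74) (.splitN 1040653
    (.split 1 (-11529) (.div 1) (.split 5 11615 (.split 3 (-11577) (.lin 6) (.split 5 5764
    (.split 1 (-5682) (.lin 0) (.split 3 (-5718) (.lin 6) (.split 1 (-95) (.split 5 175 (.lin 0)
    (.split 3 (-312) (.split 5 355 (.lin 1) (.split 1 (-281) (.splitN 315944 .sq (.splitN 451963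
    (.split 5 2506 (.split 3 (-2460) (.lin 6) (.split 4 (-31) (.splitN 339218 (.split 5 1876
    (.split 3 (-1821) (.lin 6) (.split 1 (-653) (.wt 1) (.split 5 743 (.split 3 (-696) (.lin 6)
    (.split 4 (-39) (.wt 1) (.wt 0))) (.lin 0)))) (.div 5)) (.wt 1)) (.wt 0))) (.div 5)) (.wt
    1))) (.lin 2))) (.wt 2))) (.wt 2)))) (.div 5))) (.lin 0))) (.wt 1)) (.lin 3))) (.wt 0)))
    (.lin 11))) (.wt 2)) (.wt 2)))) (.lin 2))) (.split 3 (-102) (.lin 2) (.split 0 (-105) (.split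
    5 130 (.lin 4) (.split 0 (-113) (.split 5 139 (.lin 4) (.split 6 42 (.split 4 (-74) (.split 7
    (-47) (.lin 9) (.split 3 (-84) (.lin 2) (.splitN 2790697 (.split 5 15502 (.split 0 (-15474)
    (.lin 1) (.split 1 (-26) (.split 5 148 (.lin 0) (.split 3 (-65) (.splitN 908471 (.split 5
    5044 (.split 4 (-4962) (.lin 0) (.split 0 (-436) (.split 5 472 (.lin 1) (.split 4 (-380)
    (.splitN 572885 .sq (.wt 1)) (.lin 0))) (.wt 2))) (.div 5)) (.wt 1)) (.lin 2))) (.wt 0)))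
    (.div 5)) (.wt 6)))) (.lin 3)) (.wt 2))) (.wt 2))) (.wt 2))))

def cert5_50_5 : Cert :=
  (.splitN 532857 (.split 0 (-700) .sq (.split 1 (-691) .sq (.split 3 (-759) (.lin 2) (.splitN
    500678 (.split 5 683 (.split 3 (-212) (.split 1 (-146) (.split 1 (-173) (.split 5 283 (.lin
    0) (.splitN 183032 .sq (.wt 3))) (.lin 11)) (.lin 2)) (.split 1 (-201) (.lin 2) (.split 1
    (-174) (.lin 11) (.split 4 (-139) (.split 5 256 (.lin 0) (.split 0 (-218) (.splitN 151127 .sq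
    (.split 1 (-108) (.wt 0) (.split 3 (-147) (.lin 11) (.split 6 43 (.splitN 191542 .cand (.wt
    0)) (.wt 1))))) (.lin 3))) (.split 5 428 (.split 0 (-255) (.lin 3) (.split 6 39 (.split 2 45
    (.lin 9) (.splitN 105725 (.wt 1) (.split 1 (-82) (.split 3 (-119) (.splitN 212823 (.splitN
    138679 (.wt 6) (.split 4 (-65) (.wt 0) (.split 5 338 (.split 0 (-143) (.wt 2) (.split 5 311
    (.split 1 (-126) (.wt 2) (.split 5 257 (.split 4 (-44) (.wt 2) .cand) (.lin 4))) (.lin 4)))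
    (.lin 0)))) (.wt 3)) (.lin 11)) (.split 5 320 (.split 3 (-111) (.lin 11) (.split 4 (-73)
    (.split 5 193 (.lin 0) (.split 0 (-155) (.split 1 (-56) (.split 3 (-92) (.wt 2) (.lin 11))
    (.split 3 (-84) (.lin 11) (.split 7 (-96) (.split 2 63 (.lin 9) (.split 5 211 (.lin 0)
    (.splitN 175614 .cand (.wt 1)))) (.split 2 64 (.split 0 (-237) (.lin 3) (.split 2 55 (.split
    4 (-106) (.split 5 229 (.lin 0) (.splitN 189362 .cand (.wt 1))) (.split 5 239 (.split 0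
    (-210) (.lin 1) (.split 1 (-43) (.splitN 186075 .cand (.wt 1)) (.split 3 (-75) (.lin 11) (.wt
    2)))) (.lin 0))) (.lin 9))) (.lin 2))))) (.lin 3))) (.split 5 248 (.split 0 (-174) (.lin 3)
    (.split 1 (-56) (.split 5 175 (.lin 0) (.split 3 (-92) (.split 4 (-52) (.split 5 193 (.lin 0)
    (.split 0 (-137) (.split 3 (-109) (.wt 2) (.split 7 (-103) (.wt 2) (.split 5 230 (.split 7
    (-91) (.split 2 54 (.lin 9) (.split 0 (-146) (.splitN 160096 (.wt 6) (.split 1 (-62) (.wt 0)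
    (.split 3 (-93) (.lin 11) (.split 4 (-62) (.wt 0) (.split 7 (-95) (.wt 0) (.split 2 55
    (.split 0 (-147) (.lin 3) (.splitN 171008 (.wt 0) (.wt 0))) (.lin 2))))))) (.lin 12)))
    (.split 2 46 (.split 0 (-147) (.lin 12) (.splitN 188242 .cand (.wt 1))) (.lin 9))) (.lin
    6)))) (.lin 3))) (.split 0 (-156) (.lin 3) (.split 7 (-96) (.split 5 193 (.lin 6) (.splitN
    191428 .cand (.wt 1))) (.split 2 55 (.split 0 (-138) (.lin 12) (.split 4 (-43) (.splitN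
    206349 .cand (.wt 1)) (.split 0 (-129) (.lin 3) (.wt 2)))) (.lin 9))))) (.lin 11))) (.split 3
    (-84) (.lin 11) (.splitN 198069 .cand (.wt 6))))) (.lin 0)))) (.lin 0))))) (.split 2 64
    (.split 1 (-165) (.lin 11) (.split 1 (-79) (.split 5 202 (.lin 0) (.split 3 (-128) (.split 4
    (-73) (.split 5 238 (.lin 0) (.split 0 (-155) (.splitN 119924 .sq (.splitN 136335 (.split 7
    (-100) (.wt 1) (.split 2 46 (.split 0 (-195) .sq (.split 4 (-111) (.lin 3) (.split 1 (-144)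
    .sq (.split 3 (-192) (.lin 2) (.split 3 (-131) (.split 1 (-92) (.splitN 123884 .sq (.split 0
    (-162) (.split 5 256 (.lin 4) .sq) (.wt 1))) (.lin 11)) (.wt 6)))))) (.lin 9))) (.wt 1)))
    (.lin 3))) (.split 0 (-174) (.lin 3) (.split 3 (-130) (.split 1 (-92) (.split 4 (-41) (.split
    5 220 (.lin 0) (.splitN 144356 (.split 5 295 (.split 7 (-96) (.split 3 (-192) (.lin 6)
    (.split 2 54 (.lin 9) (.split 0 (-146) (.split 5 238 (.lin 0) (.splitN 122840 .sq (.splitN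
    125392 (.split 0 (-149) .sq (.wt 1)) (.wt 1)))) (.lin 12)))) (.split 2 46 (.split 0 (-156)
    (.lin 12) (.splitN 131600 (.split 4 (-48) (.split 0 (-139) (.split 5 238 (.lin 4) (.split 3
    (-192) (.lin 7) (.splitN 118835 .sq (.wt 6)))) (.wt 2)) (.wt 0)) (.wt 6))) (.lin 9))) .sq)
    (.wt 1))) (.wt 2)) (.lin 11)) (.wt 2)))) (.lin 11))) (.split 3 (-120) (.lin 11) (.splitN
    137913 (.split 1 (-39) (.split 3 (-92) (.split 4 (-51) (.split 5 184 (.lin 0) (.split 0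
    (-186) (.split 4 (-83) (.split 5 238 (.lin 4) (.splitN 121193 .sq (.wt 6))) (.lin 3)) (.wt
    2))) (.wt 0)) (.lin 11)) (.wt 0)) (.wt 6))))) (.lin 9)))) (.lin 0)))))) .sq) (.wt 1))))) (.wt
    1))

def cert5_50_6 : Cert :=
  (.split 4 (-651) (.lin 0) (.split 0 (-723) (.lin 1) (.split 6 39 (.split 1 (-68) (.split 3
    (-110) (.splitN 178270 (.wt 6) (.split 0 (-452) (.wt 0) (.split 5 581 (.split 4 (-273) (.wt
    0) (.split 5 464 (.splitN 188778 (.wt 6) (.split 4 (-190) (.wt 0) (.split 5 374 (.split 7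
    (-61) (.wt 0) (.split 2 19 (.split 1 (-105) (.wt 0) (.split 4 (-144) (.wt 0) (.split 5 293
    (.splitN 207815 (.wt 6) (.split 1 (-89) (.wt 0) (.split 4 (-116) (.wt 0) (.split 5 248
    (.splitN 218673 (.wt 6) (.split 0 (-161) (.wt 0) (.split 4 (-102) (.lin 3) (.split 1 (-80)
    (.wt 0) (.split 5 230 (.split 3 (-111) (.lin 2) (.split 4 (-101) (.wt 0) (.split 0 (-147)
    (.lin 3) (.splitN 232888 (.wt 0) (.wt 0))))) (.lin 0)))))) (.lin 0))))) (.lin 0)))) (.lin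
    9))) (.lin 0)))) (.lin 0))) (.lin 1)))) (.lin 11)) (.split 3 (-102) (.lin 11) (.splitN 491382
    (.split 0 (-661) .sq (.split 7 (-64) (.split 2 27 (.lin 9) (.split 0 (-155) (.splitN 313805
    (.split 0 (-507) .sq (.split 4 (-444) (.lin 3) (.split 5 515 (.split 1 (-52) (.split 3 (-92)
    (.splitN 238822 (.split 0 (-203) (.wt 2) (.split 5 275 (.split 4 (-138) (.lin 3) (.splitN
    158641 (.wt 1) (.split 0 (-188) (.wt 2) (.split 5 257 (.split 7 (-72) (.wt 2) .cand) (.lin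
    1))))) (.lin 1))) (.wt 0)) (.lin 11)) (.split 3 (-84) (.lin 11) (.splitN 150379 (.wt 1)
    (.split 0 (-304) (.split 5 337 (.lin 1) (.split 4 (-218) (.split 4 (-236) (.splitN 277829 .sq
    (.wt 0)) (.lin 3)) (.lin 0))) (.split 4 (-164) (.split 5 265 (.lin 0) (.split 0 (-227)
    (.splitN 239173 (.split 7 (-69) (.split 2 36 (.lin 9) (.splitN 198790 (.split 5 324 (.split 4
    (-210) (.lin 0) (.split 0 (-282) (.lin 1) (.split 1 (-47) (.wt 2) (.split 3 (-75) (.lin 2)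
    (.splitN 190873 (.wt 0) (.wt 1)))))) .sq) (.wt 1))) .cand) (.wt 1)) (.lin 3))) (.split 5 275
    (.split 0 (-246) (.lin 1) (.split 0 (-228) (.lin 3) (.split 0 (-158) (.split 5 202 (.lin 4)
    (.split 7 (-69) (.splitN 216279 .cand (.wt 1)) (.split 2 28 (.splitN 231790 (.split 1 (-41)
    (.split 3 (-83) (.split 4 (-109) (.split 5 220 (.lin 0) (.splitN 217276 (.split 0 (-190)
    (.split 5 238 (.lin 1) (.split 0 (-216) (.split 5 265 (.lin 1) (.split 4 (-155) (.splitN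
    204749 (.wt 0) (.wt 0)) (.lin 0))) (.wt 2))) (.wt 0)) (.wt 1))) (.wt 0)) (.lin 2)) (.wt 0))
    (.wt 6)) (.lin 9)))) (.wt 2)))) (.lin 0))))))) .sq))) (.wt 1)) (.lin 12))) (.split 2 19
    (.splitN 381128 (.split 0 (-571) .sq (.split 4 (-516) (.lin 3) (.split 1 (-52) (.split 5 202
    (.lin 0) (.splitN 290242 .cand (.wt 1))) (.split 3 (-84) (.lin 2) (.split 0 (-227) (.split 5
    265 (.lin 1) (.split 4 (-173) (.splitN 288084 (.split 0 (-250) (.split 5 292 (.lin 1) (.split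
    4 (-191) (.split 0 (-390) .sq (.split 5 437 (.split 4 (-345) (.lin 0) (.split 0 (-274)
    (.split 5 319 (.lin 1) (.split 4 (-218) (.splitN 240416 .sq (.splitN 268671 (.split 1 (-39)
    (.wt 1) (.wt 0)) (.wt 1))) (.lin 0))) (.wt 2))) (.lin 1))) (.lin 0))) (.wt 2)) (.wt 1)) (.lin
    3))) (.wt 2)))))) (.wt 1)) (.lin 9)))) (.wt 1)))) (.split 2 28 (.split 1 (-111) (.lin 11)
    (.split 7 (-64) (.splitN 198603 (.split 0 (-376) .sq (.split 4 (-309) (.lin 3) (.split 1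
    (-45) (.split 5 202 (.lin 0) (.split 3 (-96) (.split 1 (-56) (.splitN 167566 (.split 0 (-311)
    .sq (.split 4 (-246) (.lin 3) (.split 0 (-157) (.split 5 220 (.lin 4) (.split 3 (-105)
    (.split 1 (-65) (.splitN 159185 (.split 0 (-277) .sq (.split 4 (-210) (.lin 3) (.split 0
    (-165) (.split 4 (-101) (.split 5 238 (.lin 4) (.split 3 (-114) (.split 1 (-74) (.split 0
    (-251) .sq (.split 4 (-183) (.lin 3) (.split 3 (-123) (.split 5 256 (.lin 7) (.split 1 (-83)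
    (.splitN 135845 .sq (.split 7 (-70) (.wt 1) (.split 2 19 (.split 4 (-110) (.splitN 137856 .sq
    (.wt 1)) (.lin 3)) (.lin 9)))) (.lin 11))) (.wt 2)))) (.lin 11)) (.wt 2))) (.lin 3)) (.wt
    2)))) (.wt 1)) (.lin 11)) (.wt 2))) (.wt 2)))) (.wt 1)) (.lin 11)) (.wt 2))) (.wt 2)))) (.wt
    1)) (.lin 9))) (.lin 9)))))

def cert5_50_7 : Cert :=
  (.split 3 (-156) (.split 5 202 (.lin 1) (.split 1 (-110) (.split 1 (-119) (.split 5 220 (.lin
    10) (.splitN 920660 (.split 5 5098 (.split 3 (-5043) (.lin 6) (.split 0 (-907) .sq (.splitN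
    812859 (.split 0 (-846) .sq (.split 1 (-849) .sq (.split 3 (-903) (.lin 2) (.splitN 746408
    (.split 5 830 (.split 3 (-777) (.lin 6) (.split 4 (-158) (.split 0 (-218) (.split 5 337 (.lin
    0) (.splitN 234332 .sq (.wt 0))) (.lin 3)) (.split 0 (-237) (.lin 3) (.splitN 589872 (.split
    5 729 (.split 6 39 (.split 1 (-128) (.splitN 530871 (.split 5 686 (.split 3 (-624) (.lin 6)
    (.split 4 (-92) (.wt 2) (.split 7 (-64) (.split 2 27 (.lin 9) (.split 0 (-101) (.splitN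
    271424 (.split 0 (-128) (.wt 2) (.split 3 (-246) (.wt 2) (.split 5 338 (.split 3 (-227) (.wt
    2) (.split 5 311 (.split 4 (-47) (.wt 2) .cand) (.lin 1))) (.lin 1)))) (.wt 3)) (.lin 12)))
    (.split 2 19 (.split 0 (-138) (.lin 12) (.splitN 372542 (.splitN 177324 (.wt 1) .cand) (.wt
    1))) (.lin 9))))) .sq) (.wt 3)) (.lin 11)) (.split 0 (-101) (.split 2 28 (.split 7 (-64)
    (.splitN 196219 (.split 1 (-319) .sq (.split 5 368 (.split 1 (-264) (.lin 0) (.split 3 (-309)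
    (.lin 6) (.split 4 (-77) (.split 0 (-146) (.split 3 (-264) (.lin 6) (.split 5 265 (.lin 0)
    (.splitN 146411 .sq (.splitN 149738 (.split 0 (-179) (.split 5 292 (.lin 1) (.split 4 (-110)
    .sq (.lin 3))) (.wt 1)) (.wt 1))))) (.lin 3)) (.split 0 (-147) (.lin 3) (.splitN 157288
    (.split 4 (-42) (.split 0 (-122) (.split 3 (-291) (.lin 1) (.split 1 (-246) (.lin 11) (.split
    5 238 (.lin 1) (.split 4 (-56) (.splitN 146038 (.split 1 (-143) (.split 5 265 (.lin 0)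
    (.split 3 (-182) .sq (.lin 2))) (.wt 2)) (.wt 6)) (.lin 3))))) (.wt 2)) (.wt 0)) (.wt 6))))))
    .sq)) (.wt 1)) (.lin 9)) (.lin 9)) (.lin 3))) .sq) (.wt 1))))) .sq) (.wt 1))))) (.wt 1))))
    (.div 5)) (.wt 1))) (.lin 11)) (.lin 2))) (.split 1 (-138) (.lin 2) (.split 1 (-120) (.lin
    11) (.split 4 (-84) (.split 5 184 (.lin 0) (.split 0 (-146) (.splitN 665688 (.split 5 3694
    (.split 0 (-782) .sq (.split 5 914 (.split 4 (-822) (.lin 0) (.splitN 608181 (.splitN 95835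
    (.wt 1) (.split 5 751 cert5_50_6 .sq)) (.wt 1))) (.lin 1))) (.div 5)) (.wt 1)) (.lin 3)))
    (.split 5 284 (.split 0 (-165) (.lin 3) (.split 0 (-156) (.lin 12) (.split 6 42 (.splitN
    130515 (.wt 1) (.split 1 (-68) (.split 5 166 (.lin 0) (.split 3 (-110) (.split 7 (-64)
    (.split 5 175 (.lin 6) (.split 2 27 (.lin 9) (.split 4 (-61) (.split 0 (-128) (.splitN 171668
    (.wt 6) (.split 7 (-73) (.wt 0) (.split 5 266 (.split 2 28 (.splitN 216452 (.split 0 (-141)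
    (.wt 2) (.split 4 (-75) (.lin 3) (.splitN 182986 (.wt 1) (.split 1 (-102) (.wt 0) (.split 5
    239 (.split 1 (-87) (.wt 2) (.split 5 221 (.split 3 (-117) (.wt 2) (.split 1 (-75) (.lin 2)
    (.split 4 (-73) (.wt 2) (.split 5 203 (.split 0 (-129) (.lin 1) (.wt 0)) (.lin 0))))) (.lin
    0))) (.lin 0)))))) (.wt 3)) (.lin 9)) (.lin 6)))) (.lin 3)) (.split 5 248 (.split 4 (-47)
    (.split 7 (-69) (.split 0 (-119) (.splitN 239606 .cand (.wt 0)) (.lin 12)) (.split 2 28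
    (.split 0 (-120) (.lin 12) (.splitN 254181 .cand (.wt 1))) (.lin 9))) (.split 0 (-111) (.lin
    3) (.splitN 258267 (.split 7 (-65) (.split 2 36 (.lin 9) (.split 0 (-110) (.splitN 236772
    (.split 1 (-88) (.split 5 202 (.lin 0) (.split 3 (-144) (.split 5 220 (.lin 1) (.split 1
    (-110) (.split 3 (-153) (.wt 2) (.split 1 (-111) (.lin 2) (.splitN 210113 (.wt 0) (.wt 1))))
    (.lin 2))) (.wt 2))) (.wt 0)) (.wt 1)) (.lin 12))) (.wt 0)) (.wt 6)))) (.lin 0))))) (.split 2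
    19 (.split 0 (-138) (.lin 12) (.split 4 (-42) (.split 5 175 (.lin 0) (.splitN 327001 .cand
    (.wt 1))) (.wt 2))) (.lin 9))) (.lin 11))) (.split 3 (-102) (.lin 11) (.split 0 (-110)
    (.split 5 148 (.lin 4) (.split 0 (-112) (.split 1 (-44) (.split 5 166 (.lin 4) (.split 3
    (-83) (.split 4 (-52) (.split 7 (-58) (.split 2 27 (.lin 9) (.split 7 (-69) (.split 5 175
    (.lin 6) (.splitN 228618 .cand (.wt 1))) (.split 2 28 (.split 0 (-147) (.lin 12) (.splitN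
    237293 (.split 1 (-54) (.split 5 175 (.lin 0) (.split 4 (-66) (.split 5 193 (.lin 0) (.splitN
    222660 (.split 1 (-58) (.split 3 (-101) (.split 0 (-140) (.split 5 211 (.lin 1) (.split 4
    (-83) (.splitN 202427 (.wt 0) (.wt 0)) (.lin 0))) (.wt 2)) (.lin 2)) (.wt 0)) (.wt 1))) (.wt
    0))) (.wt 0)) (.wt 6))) (.lin 9)))) (.wt 2)) (.wt 2)) (.lin 11))) (.wt 2)) (.wt 2))) (.wt
    2))))) (.wt 2)))) (.lin 0))))))

def cert5_50_8 : Cert :=
  (.split 7 (-118) (.split 5 175 (.lin 6) (.split 2 63 (.lin 9) (.split 0 (-155) (.split 5 193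
    (.lin 4) (.splitN 89270 .sq (.splitN 318946 (.split 2 1768 (.split 5 1768 (.split 0 (-1722)
    (.lin 4) (.split 3 (-1659) (.lin 6) (.splitN 304953 (.split 0 (-487) .sq (.split 2 406
    (.splitN 286531 (.split 3 (-450) .sq (.split 1 (-408) (.lin 11) (.splitN 272587 (.split 5 466
    (.split 0 (-426) (.lin 4) (.split 3 (-363) (.lin 6) (.split 2 352 (.split 6 44 (.split 2 72
    (.lin 9) (.split 1 (-109) (.split 5 256 (.lin 0) (.split 3 (-146) (.splitN 145412 .sq (.wt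
    3)) (.lin 11))) (.split 3 (-147) (.lin 11) (.splitN 237402 (.split 5 429 (.split 2 316
    (.split 4 (-104) (.split 0 (-218) (.split 5 256 (.lin 0) (.splitN 153071 .sq (.split 6 36
    (.wt 0) (.wt 1)))) (.lin 3)) (.split 6 39 (.split 2 81 (.lin 9) (.split 7 (-207) (.split 2
    171 (.lin 9) (.split 0 (-245) (.split 5 283 (.lin 0) (.splitN 223118 .sq (.wt 0))) (.lin
    12))) (.split 2 226 (.split 2 163 (.split 1 (-70) (.split 3 (-110) (.wt 2) (.lin 11)) (.split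
    5 365 (.split 4 (-70) (.split 0 (-191) (.splitN 163566 .cand (.wt 0)) (.lin 3)) (.split 7
    (-159) (.split 2 126 (.lin 9) (.split 0 (-200) (.split 5 238 (.lin 0) (.splitN 149408 .sq
    (.split 1 (-53) (.wt 0) (.split 3 (-84) (.lin 11) (.split 4 (-53) (.wt 0) (.split 0 (-246)
    (.lin 3) (.splitN 162188 (.split 0 (-224) .sq (.split 2 145 (.split 7 (-182) (.lin 9) (.split
    1 (-47) (.wt 1) (.split 3 (-75) (.lin 11) (.wt 2)))) (.lin 3))) (.wt 1)))))))) (.lin 12)))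
    (.split 2 118 (.split 0 (-219) (.lin 12) (.split 5 284 (.split 1 (-52) (.split 3 (-92)
    (.splitN 176917 .cand (.wt 0)) (.lin 11)) (.split 3 (-84) (.lin 11) (.splitN 193956 .cand
    (.wt 1)))) (.lin 0))) (.lin 9)))) (.lin 0))) (.lin 9)) (.lin 2)))) (.split 3 (-83) (.splitN
    158608 (.split 0 (-297) .sq (.split 2 208 (.split 7 (-254) (.lin 9) (.split 5 318 (.split 0
    (-273) (.lin 4) (.split 7 (-236) (.lin 6) (.split 1 (-70) (.split 2 154 (.split 5 229 (.lin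
    0) (.split 3 (-119) (.splitN 119195 .sq (.split 4 (-50) (.wt 1) (.split 7 (-138) (.wt 1)
    (.split 2 118 (.split 0 (-210) (.lin 3) (.wt 2)) (.lin 2))))) (.lin 11))) (.lin 0)) (.split 3
    (-111) (.lin 11) (.split 1 (-40) (.split 3 (-92) (.split 4 (-52) (.split 0 (-173) (.split 5
    220 (.lin 0) (.splitN 113768 .sq (.split 7 (-150) (.wt 1) (.split 2 100 (.wt 6) (.lin 9)))))
    (.lin 3)) (.wt 2)) (.lin 11)) (.wt 2)))))) .sq)) (.lin 3))) (.wt 1)) (.lin 11)))) (.lin 0))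
    .sq) (.wt 1))))) (.split 3 (-92) (.splitN 139122 (.split 0 (-259) .sq (.split 2 163 (.split 4
    (-138) (.lin 3) (.split 7 (-218) (.lin 9) (.split 3 (-103) (.split 5 211 (.lin 6) (.splitN
    106478 .sq (.split 1 (-177) (.wt 1) (.split 3 (-228) (.lin 11) (.split 1 (-130) (.wt 1)
    (.split 3 (-183) (.lin 11) (.wt 6))))))) (.wt 2)))) (.lin 3))) (.wt 1)) (.lin 11))) (.lin
    10)))) .sq) (.wt 1)))) (.wt 1)) (.lin 3))) (.wt 1)))) (.div 5)) (.div 2)) (.wt 1)))) (.lin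
    12)))) (.split 2 73 (.splitN 65817 (.wt 1) (.split 6 44 (.splitN 72295 (.wt 1) (.split 7
    (-82) (.split 5 148 (.lin 6) (.split 2 36 (.lin 9) (.split 0 (-119) (.split 5 157 (.lin 4)
    (.splitN 590571 (.split 5 3280 (.split 3 (-3198) (.lin 6) (.split 0 (-741) .sq cert5_50_5))
    (.div 5)) (.wt 1))) (.lin 12)))) (.split 2 37 cert5_50_7 (.lin 9)))) (.split 5 148 (.lin 0)
    (.split 0 (-110) (.split 2 55 (.split 7 (-73) (.split 3 (-92) (.splitN 221325 (.split 1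
    (-2457) (.div 1) (.split 3 (-2541) (.lin 2) (.split 0 (-424) .sq (.split 4 (-345) (.lin 3)
    (.split 3 (-95) (.split 5 157 (.lin 6) (.split 1 (-47) (.splitN 186428 (.split 0 (-372) .sq
    (.split 4 (-300) (.lin 3) (.split 1 (-359) .sq (.split 3 (-444) (.lin 2) (.split 3 (-408)
    (.lin 11) (.split 3 (-106) (.split 5 166 (.lin 6) (.split 1 (-56) (.split 4 (-40) (.split 5
    175 (.lin 0) (.split 0 (-119) (.splitN 157053 (.split 0 (-316) .sq (.split 4 (-237) (.lin 3)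
    (.split 3 (-119) (.split 1 (-294) .sq (.split 3 (-345) (.lin 11) (.split 3 (-122) (.split 5
    193 (.lin 6) (.split 1 (-74) (.split 4 (-49) (.splitN 138721 (.split 0 (-257) .sq (.split 4
    (-183) (.lin 3) (.split 3 (-143) (.split 5 220 (.lin 6) (.split 1 (-92) (.splitN 106640 .sq
    (.split 7 (-102) (.wt 1) (.split 2 46 (.split 0 (-138) (.split 5 238 (.lin 4) (.splitN 119852
    .sq (.split 1 (-253) (.wt 1) (.split 3 (-300) (.lin 11) (.split 1 (-223) (.wt 1) (.split 3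
    (-273) (.lin 11) (.wt 6))))))) (.wt 2)) (.lin 9)))) (.lin 11))) (.wt 2)))) (.wt 1)) (.wt 2))
    (.lin 11))) (.wt 2)))) (.wt 2)))) (.wt 1)) (.lin 3))) (.wt 2)) (.lin 11))) (.wt 2))))))) (.wt
    1)) (.lin 11))) (.wt 2)))))) (.wt 1)) (.lin 11)) (.lin 9)) (.lin 9)) (.lin 3))))) (.lin 9)))

def cert5_50_9 : Cert :=
  (.split 6 39 (.split 2 81 (.lin 9) (.split 1 (-88) (.split 5 229 (.lin 0) (.split 3 (-128)
    (.splitN 295689 (.split 4 (-28) (.wt 2) (.split 5 479 (.split 7 (-204) (.split 5 319 (.lin 6)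
    (.split 2 171 (.lin 9) (.split 0 (-227) (.splitN 253250 .sq (.wt 0)) (.lin 12)))) (.split 5
    419 (.split 2 163 (.split 7 (-159) (.split 5 274 (.lin 6) (.split 2 126 (.lin 9) (.split 0
    (-182) (.splitN 177920 .sq (.splitN 207790 (.split 1 (-130) (.wt 0) (.split 5 347 (.split 3
    (-144) (.wt 2) (.split 1 (-102) (.lin 11) (.split 7 (-181) (.split 2 144 (.lin 9) (.split 0
    (-200) (.split 5 292 (.lin 0) .sq) (.lin 12))) (.split 2 145 (.split 0 (-201) (.lin 3)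
    (.split 2 136 (.split 5 293 (.split 3 (-133) (.split 1 (-101) (.wt 2) (.lin 11)) (.split 1
    (-93) (.lin 11) (.splitN 188092 (.wt 0) (.splitN 194222 (.split 7 (-168) (.split 0 (-196)
    (.lin 3) (.wt 1)) (.wt 0)) (.wt 1))))) (.lin 0)) (.lin 9))) (.lin 2))))) (.lin 0))) (.wt 0)))
    (.lin 12)))) (.split 5 374 (.split 2 118 (.split 0 (-174) (.lin 12) (.split 3 (-182) (.split
    1 (-146) (.splitN 235686 (.split 0 (-153) (.wt 2) (.split 2 91 (.split 5 347 (.split 7 (-128)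
    (.lin 9) (.split 3 (-208) (.wt 2) (.split 5 320 (.split 1 (-174) (.lin 2) (.split 7 (-123)
    (.split 2 90 (.lin 9) (.split 0 (-146) (.splitN 202729 (.wt 1) (.wt 0)) (.lin 12))) .cand))
    (.lin 1)))) (.lin 0)) (.lin 3))) (.wt 0)) (.lin 11)) (.split 1 (-138) (.lin 11) (.split 5 311
    (.split 7 (-136) (.split 5 247 (.lin 6) (.split 2 99 (.lin 9) (.split 0 (-155) (.split 3
    (-151) (.split 1 (-119) (.split 5 274 (.lin 0) (.split 0 (-166) (.wt 2) (.split 2 109 (.split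
    7 (-146) (.lin 9) (.split 3 (-166) (.wt 2) (.split 5 293 (.split 1 (-129) (.lin 11) (.split 7
    (-141) (.split 2 108 (.lin 9) (.split 0 (-164) (.splitN 192130 (.wt 1) (.wt 0)) (.lin 12)))
    (.split 0 (-156) (.lin 12) (.split 3 (-158) (.split 1 (-128) (.splitN 202820 (.wt 1) (.wt 0))
    (.lin 2)) (.wt 2))))) (.lin 6)))) (.lin 3)))) (.lin 11)) (.split 1 (-111) (.lin 11) (.split 5
    284 (.split 0 (-161) (.split 2 108 (.lin 3) (.split 7 (-145) (.split 1 (-96) (.split 5 265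
    (.lin 0) (.split 3 (-138) (.split 1 (-110) (.split 0 (-173) (.wt 2) (.split 2 109 (.split 7
    (-146) (.lin 2) (.splitN 204398 (.wt 0) (.wt 0))) (.lin 3))) (.lin 11)) (.wt 2))) (.wt 2))
    (.lin 9))) (.wt 2)) (.lin 0)))) (.lin 12)))) (.split 2 91 (.split 0 (-147) (.lin 12) (.splitN
    219456 (.split 1 (-124) (.split 5 265 (.lin 0) (.wt 2)) (.wt 0)) (.wt 6))) (.lin 9))) (.lin
    0))))) (.lin 9)) (.lin 6))) (.lin 9)) (.lin 6))) .sq)) (.wt 1)) (.lin 11))) (.split 3 (-120)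
    (.lin 11) (.split 7 (-204) (.split 2 171 (.lin 9) (.split 0 (-227) (.split 5 265 (.lin 0)
    (.splitN 203678 .sq (.split 1 (-56) (.wt 1) (.split 3 (-84) (.lin 11) (.wt 6))))) (.lin 12)))
    (.split 2 208 (.split 0 (-273) (.lin 3) (.split 2 163 (.split 0 (-228) (.lin 12) (.split 4
    (-25) (.splitN 255380 .cand (.wt 1)) (.splitN 224064 (.split 1 (-58) (.split 5 202 (.lin 0)
    (.splitN 210324 (.split 0 (-147) (.split 2 99 (.lin 3) (.split 5 220 (.lin 0) (.split 7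
    (-161) (.split 2 126 (.lin 9) (.split 5 247 (.lin 0) (.splitN 196100 (.split 1 (-70) (.split
    3 (-110) (.split 7 (-175) (.split 2 144 (.lin 9) (.split 5 274 (.lin 0) (.split 0 (-216)
    (.split 2 162 (.lin 3) (.split 5 292 (.lin 0) (.split 7 (-199) .sq (.lin 9)))) (.wt 2))))
    (.wt 0)) (.lin 11)) (.wt 0)) (.wt 6)))) (.wt 0)))) (.wt 0)) (.wt 6))) (.wt 0)) (.wt 6))))
    (.lin 9))) (.lin 2)))))) (.split 1 (-53) (.split 5 193 (.lin 0) (.split 3 (-117) (.split 5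
    211 (.lin 6) (.split 1 (-74) (.splitN 104939 .sq (.split 4 (-21) (.split 0 (-146) (.split 3
    (-126) (.split 5 229 (.lin 6) (.split 1 (-83) (.splitN 119519 .sq (.split 7 (-205) (.wt 1)
    (.split 2 154 (.split 0 (-228) (.lin 12) (.split 7 (-188) (.wt 1) (.split 0 (-210) (.lin 12)
    (.splitN 132106 (.split 7 (-126) (.split 2 81 (.lin 9) (.split 0 (-155) (.splitN 125828 .sq
    (.split 7 (-156) (.wt 1) (.split 0 (-183) (.lin 12) (.wt 2)))) (.lin 12))) (.wt 0)) (.wt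
    6))))) (.lin 9)))) (.lin 11))) (.wt 6)) (.lin 3)) (.wt 2))) (.lin 11))) (.wt 2))) (.wt 2)))

def cert5_50_10 : Cert :=
  (.split 7 (-118) (.split 5 148 (.lin 6) (.split 2 63 (.lin 9) (.split 0 (-128) (.split 5 166
    (.lin 4) (.split 4 (-20) (.split 5 175 (.lin 8) (.split 0 (-137) (.splitN 999713 (.split 2
    5548 (.split 0 (-5628) (.lin 3) (.split 5 5548 (.split 3 (-5457) (.lin 6) (.split 0 (-971)
    .sq (.split 2 910 (.splitN 862882 (.split 0 (-898) .sq (.split 2 838 (.split 1 (-888) .sq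
    (.split 5 1805 (.split 3 (-939) (.lin 11) (.splitN 788938 (.split 0 (-855) .sq (.split 2 793
    (.split 1 (-845) .sq (.split 3 (-847) .sq (.split 5 861 (.split 3 (-777) (.lin 6) (.split 7
    (-803) (.lin 8) (.split 6 44 (.split 2 72 (.lin 9) (.split 3 (-240) (.split 5 337 (.lin 6)
    (.split 2 595 (.split 1 (-200) (.splitN 253916 .sq (.wt 3)) (.lin 11)) (.lin 10))) (.split 1
    (-201) (.lin 11) (.split 7 (-294) (.split 2 252 (.lin 9) (.split 0 (-317) (.split 5 346 (.lin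
    0) (.splitN 382256 .sq (.wt 1))) (.lin 12))) (.split 2 415 (.split 2 253 (.split 0 (-318)
    (.lin 12) (.split 5 527 (.splitN 87331 (.wt 1) cert5_50_9) (.lin 0))) (.lin 9)) (.lin 2))))))
    (.split 0 (-150) (.split 5 193 (.lin 4) (.split 1 (-55) (.split 0 (-804) (.lin 4) (.split 5
    211 (.lin 4) (.split 3 (-110) (.split 0 (-156) (.split 2 81 (.lin 3) (.split 7 (-136)
    (.splitN 115505 .sq (.split 7 (-567) (.wt 1) (.split 2 505 (.split 0 (-588) (.lin 12) (.split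
    7 (-523) (.wt 1) (.split 2 460 (.split 0 (-543) (.lin 12) (.split 0 (-169) (.split 2 90 (.lin
    3) (.split 5 229 (.lin 4) (.split 7 (-145) (.splitN 130580 .sq (.split 1 (-191) (.wt 1)
    (.split 3 (-237) (.lin 11) (.wt 2)))) (.lin 9)))) (.wt 2))) (.lin 9)))) (.lin 9)))) (.lin
    9))) (.wt 2)) (.lin 11)))) (.wt 2))) (.wt 2))))) .sq))) (.lin 3))) (.wt 1))) (.lin 0))) (.lin
    3))) (.wt 1)) (.lin 3)))) (.div 5))) (.div 2)) (.wt 1)) (.lin 12))) (.split 0 (-129) (.split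
    7 (-127) (.split 3 (-129) (.split 5 220 (.lin 6) (.split 6 41 (.split 2 90 (.lin 3) (.split 1
    (-101) (.split 5 238 (.lin 0) (.split 7 (-262) (.split 5 373 (.lin 6) (.split 2 225 (.lin 9)
    (.split 0 (-272) (.splitN 363896 .sq (.splitN 862619 (.split 1 (-9585) (.div 1) (.split 2
    4792 (.split 0 (-4836) (.lin 3) (.split 5 4792 (.split 3 (-4548) (.lin 6) (.split 7 (-2629)
    (.wt 1) (.split 2 2584 (.split 0 (-2631) (.lin 12) (.splitN 810434 (.split 5 4486 (.split 3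
    (-4242) (.lin 6) (.split 7 (-2291) (.wt 1) (.split 2 2251 (.split 0 (-2298) (.lin 12) (.split
    3 (-162) (.split 5 400 (.lin 6) (.split 1 (-128) (.splitN 399131 .sq (.splitN 692984 (.split
    5 3838 (.split 3 (-3594) (.lin 6) (.split 7 (-705) (.wt 1) (.split 2 667 (.split 0 (-714)
    (.lin 12) (.split 7 (-582) (.wt 1) (.split 0 (-588) (.lin 12) (.split 3 (-252) (.split 5 490
    (.lin 6) (.split 1 (-218) (.splitN 548171 .sq (.wt 1)) (.lin 11))) (.wt 2))))) (.lin 9))))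
    (.div 5)) (.wt 1))) (.lin 11))) (.wt 2))) (.lin 9)))) (.div 5)) (.wt 1))) (.lin 9)))) (.div
    5))) (.div 2))) (.wt 1))) (.lin 12)))) (.split 2 217 (.split 0 (-264) (.lin 12) (.splitN
    760786 (.split 1 (-8433) (.div 1) (.split 5 4216 (.split 1 (-4071) (.lin 0) (.split 3 (-4107)
    (.lin 6) (.splitN 581700 (.split 5 3226 (.split 1 (-3081) (.lin 0) (.split 3 (-3117) (.lin 6)
    (.splitN 541138 (.split 5 2992 (.split 1 (-2847) (.lin 0) (.split 3 (-2883) (.lin 6) (.split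
    0 (-170) (.split 2 126 (.lin 3) (.split 5 274 (.lin 0) (.split 7 (-163) (.splitN 475578
    (.split 5 2632 (.split 1 (-2451) (.lin 0) (.split 3 (-2487) (.lin 6) (.split 0 (-201) (.split
    2 162 (.lin 3) (.split 5 310 (.lin 0) (.split 7 (-199) (.splitN 424222 (.split 5 2344 (.split
    1 (-2127) (.lin 0) (.split 3 (-2163) (.lin 6) (.wt 2))) (.div 5)) (.wt 6)) (.lin 9)))) (.wt
    0)))) (.div 5)) (.wt 6)) (.lin 9)))) (.wt 0)))) (.div 5)) (.wt 6)))) (.div 5)) (.wt 6))))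
    (.div 5))) (.wt 6))) (.lin 9)))) (.lin 11))) (.wt 2))) (.wt 2)) (.lin 12)) (.wt 2)))) (.lin
    12)))) (.split 2 73 (.split 0 (-138) (.lin 12) (.split 3 (-76) (.split 4 (-13) (.split 0
    (-74) (.split 5 121 (.lin 10) (.split 6 47 (.split 7 (-82) (.split 5 139 (.lin 6) (.split 2
    36 (.lin 9) (.split 0 (-101) (.splitN 2962382 (.split 1 (-1708) .sq (.split 5 1850 (.split 3
    (-1794) (.lin 6) (.splitN 2506077 (.split 3 (-1570) .sq (.split 1 (-237) (.split 5 337 (.lin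
    0) (.split 3 (-236) (.split 3 (-281) (.splitN 273149 .sq (.split 4 (-26) (.wt 1) (.split 6 38
    (.split 2 45 (.lin 3) (.split 7 (-102) (.wt 0) (.split 2 64 (.split 7 (-95) (.wt 1) (.split 2
    55 (.split 0 (-111) (.lin 12) (.split 3 (-306) (.split 5 364 (.lin 1) (.split 1 (-263)
    (.splitN 317924 .sq (.split 0 (-103) (.split 2 54 (.lin 3) (.split 7 (-91) (.wt 0) (.lin 9)))
    (.wt 1))) (.lin 2))) (.wt 2))) (.lin 9))) (.lin 9)))) (.wt 1)))) (.lin 11)) (.lin 6)))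
    (.split 5 383 (.split 3 (-327) (.lin 6) (.split 3 (-282) (.lin 11) (.split 3 (-89) (.split 5
    148 (.lin 6) (.split 6 41 (.split 2 45 (.lin 9) (.split 1 (-56) (.splitN 141908 (.wt 1)
    (.split 4 (-25) (.split 5 166 (.lin 0) (.splitN 339452 .cand (.wt 1))) (.split 0 (-129) (.lin
    3) (.splitN 203611 (.wt 3) (.split 0 (-102) (.split 2 54 (.lin 3) (.split 5 166 (.lin 0)
    (.split 7 (-91) (.splitN 461693 (.split 1 (-61) (.split 5 175 (.lin 0) (.split 1 (-102)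
    (.split 5 220 (.lin 0) (.split 3 (-198) (.split 5 256 (.lin 1) (.split 1 (-164) (.splitN
    293227 .cand (.wt 1)) (.lin 11))) (.wt 2))) (.wt 2))) (.wt 0)) (.wt 1)) (.lin 9)))) (.wt
    2)))))) (.lin 11))) (.wt 2))) (.wt 2)))) (.lin 0)))) (.wt 1))) (.lin 0))) (.wt 1)) (.lin
    12)))) (.split 2 37 (.split 0 (-102) (.lin 12) (.splitN 153891 (.wt 3) (.split 3 (-143)
    (.split 5 166 (.lin 1) (.split 3 (-157) (.split 1 (-119) (.split 5 193 (.lin 0) (.splitN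
    29881422 (.split 5 166000 (.split 3 (-165963) (.lin 6) (.split 6 40 (.split 1 (-128) (.splitN
    11595092 (.split 1 (-3394) .sq (.split 5 3488 (.split 3 (-3450) (.lin 6) (.splitN 8508722
    (.split 1 (-2904) .sq (.split 5 3002 (.split 3 (-2964) (.lin 6) (.split 4 (-25) (.split 5 211
    (.lin 0) (.split 0 (-83) (.splitN 653715 (.split 3 (-166) (.split 1 (-137) (.split 1 (-752)
    .sq (.split 5 851 (.split 3 (-804) (.lin 6) (.splitN 597007 (.split 3 (-722) .sq (.split 5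
    732 (.split 1 (-642) (.lin 0) (.split 3 (-678) (.lin 6) (.split 7 (-64) (.split 5 229 (.lin
    6) (.splitN 349592 .cand (.wt 1))) (.split 2 19 (.split 0 (-84) (.lin 12) (.splitN 425065
    (.wt 0) (.wt 1))) (.lin 9))))) .sq)) (.wt 1))) (.lin 0))) (.lin 11)) (.wt 2)) (.wt 1)) (.lin
    3))) (.split 0 (-93) (.lin 3) (.wt 2)))) (.lin 0))) (.wt 1))) (.lin 0))) (.wt 1)) (.lin 11))
    (.wt 2))) (.div 5)) (.wt 1))) (.lin 11)) (.wt 2))) (.wt 2)))) (.lin 9))) (.wt 2))) (.lin 3))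
    (.wt 2)) (.wt 2))) (.lin 9)))

def cert5_50_11 : Cert :=
  (.split 2 4 (.split 7 (-29) (.lin 9) (.split 1 (-30) (.split 5 67 (.lin 0) (.split 3 (-56)
    (.split 4 (-30) (.split 5 94 (.lin 0) (.split 0 (-56) (.split 6 21 (.split 7 (-20) (.lin 9)
    (.split 0 (-254) (.wt 2) (.split 4 (-228) (.lin 3) (.split 3 (-254) (.wt 2) (.split 5 473
    (.split 0 (-225) (.wt 2) (.split 3 (-224) (.wt 2) (.split 5 419 (.split 0 (-162) (.wt 6)
    (.split 3 (-159) (.wt 6) (.split 5 293 (.split 0 (-155) (.wt 6) (.split 3 (-155) (.wt 6)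
    (.split 5 275 (.split 0 (-101) (.split 4 (-83) (.splitN 7012987 (.wt 6) (.split 0 (-133) (.wt
    0) (.split 5 257 (.splitN 22558746 (.wt 6) (.split 0 (-128) (.wt 0) (.split 4 (-102) (.lin 3)
    (.split 1 (-44) (.wt 0) (.split 5 158 (.wt 1) (.lin 0)))))) (.lin 1)))) (.lin 3)) (.split 5
    221 (.split 4 (-75) (.lin 3) (.split 3 (-101) (.split 1 (-83) (.wt 6) (.lin 2)) (.split 5 167
    (.split 1 (-75) (.lin 2) (.split 0 (-74) (.split 4 (-56) (.split 1 (-47) (.split 3 (-65)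
    (.splitN 2435436 (.wt 1) (.split 1 (-71) (.wt 0) (.split 3 (-84) (.lin 2) (.split 0 (-87)
    (.wt 1) (.split 5 149 (.split 4 (-66) (.lin 3) (.splitN 59371727 (.wt 1) (.split 1 (-63) (.wt
    0) (.split 5 140 (.wt 1) (.lin 0))))) (.lin 1)))))) (.lin 2)) (.wt 1)) (.lin 3)) (.split 4
    (-48) (.lin 3) (.split 1 (-58) (.split 5 121 (.lin 0) (.split 3 (-74) (.wt 1) (.lin 6))) (.wt
    0))))) (.lin 1)))) (.lin 1))) (.lin 1)))) (.lin 1)))) (.lin 1)))) (.lin 1)))))) (.split 5 103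
    (.lin 0) (.split 0 (-65) (.split 7 (-28) (.split 3 (-65) (.splitN 107656 (.split 1 (-1197)
    (.div 1) (.split 3 (-1218) (.lin 2) (.split 4 (-1197) (.div 4) (.split 0 (-1218) (.lin 3)
    (.split 5 598 (.split 1 (-525) (.lin 0) (.split 0 (-552) (.lin 1) (.split 3 (-552) (.lin 6)
    (.split 4 (-525) (.lin 0) (.splitN 103211 (.split 5 562 (.split 1 (-489) (.lin 0) (.split 3
    (-516) (.lin 6) (.split 0 (-70) (.split 5 112 (.lin 1) (.split 4 (-47) (.splitN 97763 (.split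
    3 (-72) (.split 5 121 (.lin 1) (.split 1 (-47) (.split 0 (-262) .sq (.split 4 (-228) (.lin 3)
    (.splitN 91148 (.split 5 490 (.split 3 (-435) (.lin 6) (.split 0 (-79) (.split 4 (-56)
    (.split 3 (-92) (.split 5 148 (.lin 1) (.split 1 (-65) (.splitN 83733 (.split 5 454 (.split 1
    (-363) (.lin 0) (.split 3 (-390) (.lin 6) (.split 3 (-94) (.split 5 157 (.lin 1) (.split 1
    (-74) (.split 0 (-84) (.split 5 166 (.lin 1) (.split 4 (-65) (.split 0 (-181) .sq (.split 4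
    (-147) (.lin 3) (.split 3 (-129) (.split 5 202 (.lin 1) (.split 1 (-110) .sq (.lin 2))) (.wt
    2)))) (.lin 3))) (.wt 2)) (.lin 2))) (.wt 2)))) (.div 5)) (.wt 1)) (.lin 2))) (.wt 2)) (.lin
    3)) (.wt 2))) (.div 5)) (.wt 1)))) (.lin 2))) (.wt 2)) (.wt 1)) (.lin 3))) (.wt 2)))) (.div
    5)) (.wt 1)))))) (.div 5)))))) (.wt 1)) (.lin 2)) (.lin 9)) (.lin 3)))) (.lin 3))) (.split 0
    (-57) (.lin 3) (.split 6 22 (.split 0 (-48) (.lin 3) (.split 7 (-20) (.lin 9) (.split 0 (-34)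
    (.split 4 (-20) (.split 1 (-82) (.split 5 121 (.lin 0) (.split 1 (-87) (.split 5 130 (.lin 0)
    (.split 3 (-139) (.split 1 (-128) (.split 4 (-21) (.split 0 (-47) (.splitN 5101214 (.wt 1)
    (.split 3 (-850) (.wt 0) (.split 5 878 (.split 1 (-831) (.lin 2) (.wt 1)) (.lin 1)))) (.lin
    3)) (.wt 0)) (.lin 2)) (.wt 0))) (.wt 0))) (.wt 0)) (.lin 3)) (.wt 0)))) (.wt 2)))) (.lin
    2))) (.split 3 (-57) (.lin 2) (.split 4 (-13) (.split 5 49 (.lin 0) (.split 6 22 (.split 7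
    (-20) (.lin 9) (.split 3 (-48) (.lin 2) (.split 0 (-120) (.split 5 139 (.lin 1) (.split 0
    (-138) (.split 4 (-128) (.split 1 (-21) (.split 3 (-47) (.splitN 5101214 (.wt 1) (.split 0
    (-850) (.wt 0) (.split 5 878 (.split 4 (-831) (.lin 0) (.wt 1)) (.lin 1)))) (.lin 2)) (.wt
    0)) (.lin 3)) (.wt 0))) (.wt 0)))) (.wt 2))) (.wt 0))))) (.split 0 (-38) (.split 1 (-16)
    (.split 3 (-38) (.split 4 (-19) (.split 0 (-47) (.split 1 (-21) (.split 3 (-47) (.split 4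
    (-25) (.split 0 (-56) (.split 6 20 (.wt 1) (.split 0 (-65) (.split 2 10 (.split 7 (-37)
    (.split 3 (-56) (.split 1 (-36) (.split 3 (-65) (.split 1 (-40) (.split 3 (-74) (.split 4
    (-45) (.split 0 (-83) (.split 1 (-55) (.split 3 (-83) (.split 1 (-61) (.split 3 (-92)
    (.splitN 6253317 (.wt 6) (.split 0 (-226) (.wt 0) (.split 4 (-183) (.lin 3) (.split 1 (-288)
    (.wt 0) (.split 5 500 (.wt 6) (.lin 0)))))) (.lin 2)) (.wt 1)) (.lin 2)) (.wt 1)) (.lin 3))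
    (.wt 1)) (.lin 2)) (.wt 1)) (.lin 2)) (.wt 1)) (.lin 2)) (.lin 9)) (.lin 9)) (.lin 3))) (.lin
    3)) (.wt 1)) (.lin 11)) (.wt 1)) (.lin 3)) (.wt 1)) (.lin 11)) (.wt 1)) (.lin 3)))

def cert5_50_12 : Cert :=
  (.split 7 (-46) (.split 5 67 (.lin 8) (.split 0 (-56) (.split 6 30 (.split 2 18 (.lin 9)
    (.split 1 (-30) (.split 3 (-56) (.split 6 17 (.wt 6) (.split 3 (-65) cert5_50_1 (.lin 11)))
    (.lin 11)) (.split 3 (-57) (.lin 11) cert5_50_3))) (.split 3 (-47) (.split 2 10 (.split 7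
    (-65) (.lin 9) (.split 1 (-12) (.split 3 (-56) (.split 5 76 (.lin 4) (.split 4 (-12) (.split
    5 85 (.lin 8) (.split 0 (-65) (.split 2 3 (.split 6 43 (.lin 9) (.split 7 (-56) (.lin 9)
    (.splitN 60074 (.split 5 328 (.split 3 (-309) (.lin 6) (.wt 2)) (.div 5)) (.wt 1))))
    cert5_50_4) (.lin 12))) (.wt 4))) (.lin 2)) (.wt 4))) (.split 5 76 (.lin 0) (.split 0 (-65)
    (.split 7 (-55) (.split 1 (-30) (.split 5 103 (.lin 0) (.split 3 (-74) (.split 4 (-30)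
    (.split 5 130 (.lin 0) (.split 0 (-92) cert5_50_8 (.lin 3))) (.splitN 59896 (.wt 1)
    cert5_50_10)) (.lin 11))) (.split 3 (-84) (.lin 11) (.split 4 (-14) (.split 1 (-12) (.split 5
    94 (.lin 0) (.split 3 (-56) (.split 4 (-21) (.split 6 50 (.split 3 (-75) (.lin 11) (.split 7
    (-118) (.split 2 63 (.lin 2) (.split 2 72 (.lin 9) (.split 0 (-146) (.split 5 157 (.lin 0)
    (.split 5 166 (.lin 4) (.splitN 573835 (.split 5 3172 (.split 0 (-3144) (.lin 4) (.split 0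
    (-720) .sq (.split 2 649 (.split 7 (-704) (.lin 2) (.split 4 (-32) (.split 5 175 (.lin 8)
    (.split 6 43 (.split 2 81 (.lin 9) (.split 3 (-66) (.lin 11) (.split 4 (-39) (.splitN 300387
    (.split 0 (-491) .sq (.split 4 (-372) (.lin 3) (.split 7 (-224) (.split 2 180 (.lin 2)
    (.split 0 (-263) (.split 5 283 (.lin 0) (.splitN 240632 .sq (.wt 1))) (.lin 3))) (.split 2
    190 (.split 4 (-61) (.split 5 202 (.lin 0) (.split 1 (-21) (.split 3 (-65) (.splitN 183480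
    (.split 0 (-332) .sq (.split 4 (-210) (.lin 3) (.split 4 (-80) (.split 5 229 (.lin 0) (.split
    7 (-123) (.split 2 90 (.lin 2) (.splitN 162358 (.split 0 (-263) .sq (.split 2 136 (.split 7
    (-173) (.lin 2) (.split 4 (-129) (.lin 3) (.wt 2))) (.lin 3))) (.wt 1))) (.wt 2))) (.wt 2))))
    (.wt 1)) (.lin 11)) (.wt 2))) (.wt 2)) (.lin 2))))) (.wt 1)) (.wt 2)))) (.wt 2))) (.wt 2)))
    (.lin 3)))) (.div 5)) (.wt 1)))) (.lin 12)))) (.split 2 82 (.split 2 73 (.split 0 (-145)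
    (.split 5 166 (.lin 4) (.split 0 (-166) (.split 5 193 (.lin 4) (.split 6 39 (.split 3 (-66)
    (.lin 11) (.splitN 653802 (.split 4 (-7245) (.div 4) (.split 5 3622 (.split 4 (-3540) (.lin
    0) (.split 0 (-3648) (.lin 1) (.splitN 503291 (.split 5 2794 (.split 4 (-2712) (.lin 0)
    (.split 0 (-2820) (.lin 1) (.splitN 471187 (.split 5 2614 (.split 0 (-2640) (.lin 1) (.split
    7 (-56) (.split 2 27 (.lin 9) (.split 0 (-261) (.split 5 283 (.lin 4) (.splitN 358001 (.split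
    5 1984 (.split 4 (-1893) (.lin 0) (.split 0 (-2001) (.lin 1) (.splitN 333556 (.split 5 1840
    (.split 4 (-1749) (.lin 0) (.split 0 (-1857) (.lin 1) (.split 0 (-296) (.split 4 (-191)
    (.split 5 319 (.lin 4) (.splitN 237923 .sq (.splitN 310884 (.split 5 1714 (.split 4 (-1623)
    (.lin 0) (.split 7 (-94) (.wt 1) (.split 2 55 (.split 4 (-209) (.splitN 240590 .sq (.wt 6))
    (.lin 3)) (.lin 9)))) (.div 5)) (.wt 6)))) (.lin 3)) (.wt 2)))) (.div 5)) (.wt 6)))) (.div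
    5)) (.wt 6))) (.wt 2))) (.wt 0))) (.div 5)) (.wt 6)))) (.div 5)) (.wt 6)))) (.div 5))) (.wt
    6))) (.wt 2))) (.wt 2))) (.wt 2)) (.lin 9)) (.lin 2)))) (.wt 2)) (.wt 2)) (.lin 11))) (.wt
    2)) (.wt 0)))) (.lin 9)) (.lin 3)))) (.lin 11))) (.lin 12))) (.split 6 35 (.split 6 26
    cert5_50_11 (.split 5 58 (.lin 0) (.split 2 1 (.split 7 (-37) (.split 3 (-47) (.splitN 218871
    (.split 5 1210 (.split 1 (-1155) (.lin 0) (.split 0 (-1191) (.lin 1) (.split 3 (-1191) (.lin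
    6) (.split 4 (-1155) (.lin 0) (.splitN 75153 (.split 5 400 (.split 1 (-345) (.lin 0) (.split
    0 (-381) (.lin 1) (.split 3 (-381) (.lin 6) (.split 4 (-345) (.lin 0) (.splitN 51538 (.split
    5 274 (.split 3 (-255) (.lin 6) (.split 4 (-219) (.lin 0) (.wt 0))) (.div 5)) (.wt 6))))))
    (.div 5)) (.wt 6)))))) (.div 5)) (.wt 1)) (.lin 2)) (.lin 9)) (.lin 9)))) (.lin 9)))

def cert5_50_13 : Cert :=
  (.split 2 10 (.split 7 (-164) (.lin 9) (.splitN 498609 (.split 0 (-13791) (.div 0) (.split 4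
    (-13728) (.lin 3) (.split 1 (-5517) (.div 1) (.split 5 19400 (.split 3 (-19470) (.lin 6)
    (.split 4 (-5517) (.div 4) (.split 0 (-5673) (.lin 3) (.split 5 2758 (.split 1 (-2667) (.lin
    0) (.split 0 (-2829) (.lin 1) (.split 3 (-2820) (.lin 6) (.split 4 (-2667) (.lin 0) (.splitN
    406734 (.split 5 2254 (.split 1 (-2163) (.lin 0) (.split 0 (-2325) (.lin 1) (.split 3 (-2316)
    (.lin 6) (.split 4 (-2163) (.lin 0) (.splitN 367586 (.split 5 2038 (.split 0 (-2109) (.lin 1)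
    (.split 3 (-2100) (.lin 6) (.split 4 (-1947) (.lin 0) (.splitN 348232 (.split 5 1930 (.split
    1 (-1839) (.lin 0) (.split 0 (-2001) (.lin 1) (.split 3 (-1992) (.lin 6) (.split 4 (-1839)
    (.lin 0) (.split 0 (-97) (.split 5 121 (.lin 4) (.splitN 285132 (.split 5 1570 (.split 0
    (-1542) (.lin 4) (.split 3 (-1632) (.lin 6) (.split 4 (-1479) (.lin 0) (.split 3 (-1542)
    (.lin 10) (.splitN 250749 (.split 5 1390 (.split 1 (-1299) (.lin 0) (.split 0 (-1362) (.lin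
    4) (.split 4 (-1299) (.lin 0) (.split 3 (-1362) (.lin 10) (.splitN 233766 (.split 5 1282
    (.split 0 (-1254) (.lin 4) (.split 3 (-1254) (.lin 10) (.split 0 (-106) (.split 5 130 (.lin
    4) (.splitN 212351 (.split 5 1174 (.split 1 (-1083) (.lin 0) (.split 0 (-1146) (.lin 4)
    (.split 4 (-1083) (.lin 0) (.split 3 (-1146) (.lin 10) (.splitN 201439 (.split 5 1102 (.split
    1 (-1011) (.lin 0) (.split 0 (-1074) (.lin 4) (.split 4 (-1011) (.lin 0) (.split 3 (-1074)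
    (.lin 10) (.split 1 (-37) (.split 5 148 (.lin 4) (.splitN 181194 (.split 5 994 (.split 1
    (-903) (.lin 0) (.split 0 (-948) (.lin 4) (.split 4 (-885) (.lin 0) (.split 3 (-966) (.lin
    10) (.splitN 169278 (.split 5 940 (.split 1 (-849) (.lin 0) (.split 0 (-894) (.lin 4) (.split
    4 (-831) (.lin 0) (.split 3 (-912) (.lin 10) (.split 0 (-117) (.split 5 157 (.lin 4) (.splitN
    159526 (.split 5 886 (.split 1 (-795) (.lin 0) (.split 4 (-777) (.lin 0) (.split 3 (-858)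
    (.lin 10) (.split 0 (-120) (.split 1 (-750) (.lin 4) (.split 5 166 (.lin 4) (.splitN 150039
    (.split 5 832 (.split 4 (-723) (.lin 0) (.split 0 (-786) (.lin 4) (.split 1 (-696) (.lin 4)
    (.split 3 (-804) (.lin 10) (.split 1 (-44) (.split 5 175 (.lin 4) (.split 3 (-110) (.splitN
    70010 .sq (.splitN 141614 (.split 5 778 (.split 4 (-660) (.lin 0) (.split 3 (-750) (.lin 10)
    (.split 2 1 (.wt 1) (.split 7 (-73) (.split 3 (-128) (.split 4 (-46) (.splitN 116720 (.split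
    5 634 (.split 1 (-507) (.lin 0) (.split 0 (-579) (.lin 4) (.split 4 (-507) (.lin 0) (.split 3
    (-570) (.lin 10) (.split 0 (-140) (.split 5 193 (.lin 4) (.splitN 89027 .sq (.split 6 102
    (.split 7 (-110) (.lin 9) (.splitN 98738 (.split 5 544 (.split 0 (-507) (.lin 1) (.split 4
    (-417) (.lin 0) (.split 3 (-489) (.lin 1) (.wt 6)))) (.div 5)) (.wt 6))) (.wt 1)))) (.wt
    2)))))) (.div 5)) (.wt 1)) (.wt 2)) (.wt 2)) (.lin 9))))) (.div 5)) (.wt 6))) (.lin 11)))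
    (.wt 2)))))) (.div 5)) (.wt 6)))) (.wt 2))))) (.div 5)) (.wt 6))) (.wt 2)))))) (.div 5)) (.wt
    6)))))) (.div 5)) (.wt 6))) (.wt 2)))))) (.div 5)) (.wt 6)))))) (.div 5)) (.wt 6))) (.wt
    2)))) (.div 5)) (.wt 6)))))) (.div 5)) (.wt 6)))))) (.div 5)) (.wt 6))) (.wt 2)))))) (.div
    5)) (.wt 6))))) (.div 5)) (.wt 6)))))) (.div 5)) (.wt 6)))))) (.div 5))))) (.lin 0))))) (.wt
    1))) (.split 5 121 (.lin 0) (.split 7 (-82) (.splitN 695225 (.split 2 3856 (.split 7 (-4007)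
    (.lin 9) (.split 5 3856 (.split 1 (-3747) (.lin 0) (.split 3 (-3900) (.lin 6) (.split 4
    (-3747) (.lin 0) (.split 6 139 (.split 0 (-813) .sq (.split 2 730 (.split 4 (-732) (.lin 3)
    (.split 7 (-866) (.lin 9) (.split 1 (-23) (.split 5 130 (.lin 0) (.split 3 (-92) (.splitN
    327379 (.split 5 1804 (.split 3 (-1830) (.lin 6) (.split 4 (-24) (.split 5 139 (.lin 0)
    (.splitN 222511 (.split 5 1228 (.split 3 (-1245) (.lin 6) (.split 6 111 (.split 0 (-425) .sq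
    (.split 2 325 (.split 4 (-336) (.lin 3) (.split 7 (-389) (.lin 12) (.split 1 (-32) (.split 5
    148 (.lin 0) (.split 3 (-101) (.splitN 183383 (.split 5 1012 (.split 3 (-1002) (.lin 6)
    (.split 4 (-31) (.split 5 157 (.lin 0) (.split 0 (-119) (.split 3 (-948) (.lin 10) (.splitN
    63143 .sq (.splitN 160531 (.split 5 886 (.split 3 (-867) (.lin 6) (.split 3 (-822) (.lin 10)
    (.split 6 87 (.split 0 (-333) .sq (.split 2 226 (.split 4 (-246) (.lin 3) (.split 7 (-290)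
    (.lin 12) (.split 1 (-41) (.split 5 166 (.lin 0) (.splitN 146531 (.split 5 814 (.split 1
    (-687) (.lin 0) (.split 3 (-768) (.lin 6) (.split 3 (-118) (.split 5 175 (.lin 10) (.splitN
    73880 .sq (.split 3 (-144) (.split 5 202 (.lin 10) (.split 1 (-65) (.splitN 93284 .sq
    (.splitN 134279 (.split 5 742 (.split 3 (-696) (.lin 6) (.split 7 (-194) (.wt 1) (.split 2
    127 (.split 4 (-47) (.splitN 125274 (.split 5 688 (.split 1 (-552) (.lin 0) (.split 3 (-633)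
    (.lin 6) (.split 7 (-157) (.wt 1) (.split 2 91 (.split 7 (-153) (.wt 1) (.split 2 82 (.split
    0 (-139) (.splitN 101204 .sq (.split 4 (-226) (.wt 1) (.split 7 (-114) (.wt 1) (.split 2 46
    (.splitN 120424 (.split 5 652 (.split 3 (-597) (.lin 6) (.wt 6)) (.div 5)) (.wt 1)) (.lin
    9))))) (.wt 2)) (.lin 9))) (.lin 9))))) (.div 5)) (.wt 1)) (.wt 2)) (.lin 9)))) (.div 5))
    (.wt 1))) (.lin 11))) (.wt 6)))) (.wt 2)))) (.div 5)) (.wt 1))) (.wt 2)))) (.lin 3))) (.wt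
    6)))) (.div 5)) (.wt 1)))) (.lin 3))) (.wt 2))) (.div 5)) (.wt 1)) (.lin 11))) (.wt 2))))
    (.lin 3))) (.wt 2))) (.div 5)) (.wt 1))) (.wt 2))) (.div 5)) (.wt 1)) (.lin 11))) (.wt 2))))
    (.lin 3))) (.wt 2))))) (.div 5))) (.div 2)) (.wt 1)) (.lin 9))))

def cert5_50 : Cert :=
  (.split 5 13 (.lin 8) (.split 0 (-11) (.splitN 10548 (.wt 0) (.splitN 15592 (.wt 1) (.split 1
    (-3) (.split 5 22 (.lin 4) (.split 3 (-20) (.split 4 (-3) (.split 5 31 (.lin 8) (.split 0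
    (-20) (.split 7 (-11) (.split 5 40 (.lin 8) (.split 0 (-29) (.split 6 8 (.wt 6) (.split 3
    (-29) (.split 2 (-1) (.split 6 25 (.lin 9) (.split 7 (-21) (.split 0 (-38) (.split 5 49 (.lin
    4) (.split 6 34 (.lin 9) (.split 6 248 (.split 7 (-236) (.lin 9) (.split 6 175 (.split 7
    (-164) (.lin 9) (.split 6 155 (.split 7 (-146) (.lin 9) (.split 6 148 (.split 7 (-137) (.lin
    9) (.split 7 (-62) (.split 2 (-81) (.lin 9) (.split 0 (-74) (.split 5 85 (.lin 4) (.split 6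
    70 (.lin 9) (.split 1 (-14) (.split 4 (-14) (.split 5 103 (.lin 8) (.split 0 (-102) (.split 1
    (-34) (.split 3 (-110) (.split 5 148 (.lin 4) (.splitN 9005360 (.split 5 50026 (.split 3
    (-50079) (.lin 6) (.split 4 (-35) (.splitN 453731 (.split 1 (-5013) (.div 1) (.split 4
    (-5013) (.div 4) (.split 5 10148 (.split 0 (-10254) (.lin 1) (.split 0 (-5142) (.lin 3)
    (.split 5 2506 (.split 0 (-2604) (.lin 1) (.split 3 (-2541) (.lin 6) (.split 4 (-2469) (.lin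
    0) (.split 0 (-118) (.split 5 157 (.lin 4) (.splitN 430756 (.split 5 2380 (.split 1 (-2343)
    (.lin 0) (.split 0 (-2334) (.lin 4) (.split 3 (-2397) (.lin 7) (.split 0 (-120) (.split 5 166
    (.lin 4) (.split 1 (-40) (.split 5 175 (.lin 4) (.splitN 353609 (.split 5 1948 (.split 1
    (-1911) (.lin 0) (.split 3 (-1983) (.lin 6) (.split 4 (-1902) (.lin 0) (.split 3 (-125)
    (.split 4 (-41) (.splitN 303677 (.split 5 1678 (.split 3 (-1704) (.lin 6) (.split 4 (-1632)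
    (.lin 0) (.split 6 101 (.split 2 (-36) (.lin 9) (.split 7 (-92) (.lin 9) (.split 0 (-184)
    (.split 4 (-101) (.split 5 238 (.lin 4) (.splitN 224667 (.split 5 1246 (.split 3 (-1173)
    (.lin 6) (.split 4 (-1155) (.lin 0) (.split 0 (-216) (.split 4 (-128) (.split 5 265 (.lin 4)
    (.splitN 162458 .sq (.splitN 211897 (.split 5 1174 (.split 0 (-1164) (.lin 1) (.split 3
    (-1074) (.lin 6) (.split 1 (-190) (.wt 1) (.split 3 (-282) (.lin 11) (.wt 2))))) (.div 5))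
    (.wt 1)))) (.lin 3)) (.wt 2)))) (.div 5)) (.wt 1))) (.lin 3)) (.wt 2)))) (.wt 2)))) (.div 5))
    (.wt 1)) (.wt 2)) (.wt 2))))) (.div 5)) (.wt 1))) (.wt 2))) (.wt 2))))) (.div 5)) (.wt 1)))
    (.wt 2))))) (.div 5)))) (.lin 0)))) (.wt 1)) (.wt 2))) (.div 5)) (.wt 1))) (.lin 2)) (.wt 2))
    (.wt 2))) (.wt 0)) (.wt 0)))) (.lin 12))) (.split 1 (-15) (.split 5 58 (.lin 4) (.split 4
    (-15) (.split 0 (-47) (.split 6 84 (.split 6 57 (.split 2 (-27) (.lin 9) (.split 7 (-47)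
    (.lin 9) (.split 1 (-23) (.split 5 76 (.lin 4) (.split 4 (-23) (.split 5 85 (.lin 8) (.split
    7 (-29) (.split 3 (-74) (.split 2 (-18) (.lin 9) (.split 0 (-65) (.split 5 94 (.lin 4)
    (.split 6 43 (.lin 9) cert5_50_0)) (.lin 12))) (.lin 2)) (.wt 3))) (.wt 3))) (.wt 3))))
    (.split 1 (-25) (.split 4 (-26) (.split 7 (-32) (.split 5 94 (.lin 8) (.split 2 (-45) (.lin
    9) (.split 0 (-159) (.split 4 (-92) (.split 5 193 (.lin 4) (.split 0 (-200) (.split 5 229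
    (.lin 4) (.split 1 (-66) (.split 0 (-216) (.split 5 292 (.lin 4) (.split 4 (-164) (.split 3
    (-219) (.split 5 346 (.lin 1) (.split 1 (-128) (.split 1 (-146) (.splitN 272951 .sq (.split 7
    (-52) (.wt 1) (.split 2 (-17) (.wt 6) (.lin 9)))) (.lin 11)) (.lin 2))) (.wt 2)) (.lin 12)))
    (.wt 2)) (.wt 2))) (.wt 2))) (.lin 3)) (.wt 2)))) (.wt 0)) (.wt 0)) (.wt 0))) (.wt 2)) (.lin
    12)) (.wt 0))) (.wt 0)))) (.wt 2))) (.wt 2))) (.wt 2))) (.wt 2)))) (.lin 12)) (.wt 0)))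
    (.split 6 61 cert5_50_12 (.split 5 85 (.lin 0) (.split 7 (-64) (.split 1 (-18) (.split 5 94
    (.lin 0) (.split 3 (-83) (.split 4 (-19) (.split 5 103 (.lin 0) (.split 6 154 cert5_50_13
    (.wt 2))) (.wt 2)) (.lin 11))) (.wt 2)) (.lin 9))))) (.lin 11))) (.lin 12))) (.wt 3)) (.lin
    12))) (.wt 3)) (.lin 11))) (.wt 3)))) (.lin 12)))

theorem check5_50 :
    check task5 cert5_50
      [(7, ⟨none, some (-2)⟩), (7, ⟨none, some (-2)⟩), (1, ⟨none, none⟩), (7, ⟨none, some (-11)⟩), (7, ⟨none, some (-2)⟩), (5, ⟨some (5), none⟩), (8, ⟨some (8), none⟩), (8, ⟨none, some (-10)⟩)] ⟨some (3960), none⟩ = true := by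
  decide +kernel

def cert5_51_0 : Cert :=
  (.split 4 11 (.splitN 170448 (.split 0 (-397) .sq (.split 5 419 (.splitN 160482 (.split 3
    (-388) .sq (.split 0 (-354) (.lin 5) (.split 5 383 (.split 6 139 (.split 0 (-120) (.lin 3)
    (.split 5 149 (.split 3 (-246) (.lin 6) (.split 7 (-128) (.lin 9) (.split 3 (-165) (.lin 11)
    (.split 1 (-20) (.split 3 (-74) (.split 5 58 (.lin 4) (.splitN 88169 (.split 7 (-87) (.split
    0 (-83) (.split 3 (-119) (.split 6 97 (.lin 3) (.split 5 103 (.lin 4) (.splitN 50264 .sq (.wt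
    0)))) (.lin 2)) (.lin 12)) (.split 5 104 (.split 0 (-75) (.lin 12) (.split 6 93 (.split 3
    (-156) (.lin 6) (.split 7 (-64) (.split 2 (-27) (.lin 9) (.split 0 (-56) (.split 3 (-92)
    (.splitN 52254 (.splitN 45866 (.wt 6) (.split 1 (-26) (.wt 0) (.split 5 95 (.splitN 46618
    (.wt 6) (.split 0 (-67) (.wt 0) (.split 5 86 (.split 2 (-19) (.wt 0) (.wt 6)) (.lin 4))))
    (.lin 0)))) (.wt 0)) (.lin 2)) (.lin 12))) (.split 5 77 (.split 0 (-48) (.lin 12) (.splitN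
    44709 (.wt 1) (.split 6 71 (.split 2 (-27) (.lin 9) (.split 6 62 (.split 1 (-25) (.split 3
    (-83) (.splitN 55620 (.wt 6) (.wt 4)) (.lin 2)) .cand) .cand)) (.split 2 (-26) (.splitN 58244
    .cand (.wt 1)) (.lin 9))))) (.lin 8)))) (.split 2 (-17) (.split 3 (-119) (.split 7 (-64)
    (.split 0 (-56) (.split 5 76 (.lin 4) (.splitN 51958 (.split 3 (-161) .sq (.split 1 (-25)
    (.split 5 85 (.lin 4) (.split 3 (-128) (.split 6 125 (.splitN 41795 .sq (.wt 0)) (.lin 11))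
    (.lin 11))) (.splitN 41874 (.wt 1) .cand))) (.wt 0))) (.lin 12)) (.split 2 (-35) (.split 0
    (-48) (.lin 12) (.split 5 77 (.splitN 43497 (.wt 0) (.split 0 (-40) (.split 5 67 (.lin 4)
    (.split 7 (-55) (.splitN 50408 (.split 1 (-22) (.split 5 76 (.lin 4) (.split 6 103 (.wt 0)
    (.split 2 (-53) (.wt 1) (.lin 0)))) (.wt 0)) (.wt 1)) (.lin 12))) (.wt 2))) (.lin 4))) (.lin
    2))) (.lin 11)) (.lin 3)))) (.lin 8))) (.wt 1))) (.lin 2)) (.split 3 (-147) (.lin 11) (.split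
    7 (-87) (.split 0 (-83) (.split 6 97 (.lin 3) (.split 5 94 (.lin 4) (.split 6 131 (.split 5
    122 (.split 7 (-119) (.lin 8) (.split 3 (-138) (.lin 11) (.split 6 117 (.split 0 (-102) (.lin
    3) (.split 5 113 (.split 7 (-110) (.lin 8) (.split 0 (-91) (.split 6 106 (.lin 3) (.split 5
    103 (.lin 4) (.wt 2))) (.wt 2))) (.lin 0))) (.wt 2)))) (.lin 0)) (.wt 2)))) (.lin 12))
    (.split 5 86 (.split 0 (-75) (.lin 12) (.split 6 91 (.split 3 (-138) (.lin 6) (.split 3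
    (-102) (.lin 11) (.split 0 (-41) (.split 6 61 (.lin 3) (.split 5 58 (.lin 4) (.split 0 (-53)
    (.split 6 70 (.lin 3) (.split 5 67 (.lin 4) (.split 7 (-64) (.splitN 75200 (.split 0 (-69)
    (.split 2 (-9) (.lin 3) (.split 6 88 (.lin 3) (.split 5 85 (.lin 0) (.wt 0)))) (.wt 2)) (.wt
    1)) (.lin 8)))) (.wt 2)))) (.wt 2)))) (.wt 2))) (.lin 8)))))))) (.lin 0))) (.split 3 (-155)
    (.splitN 93827 (.split 0 (-206) .sq (.split 5 230 (.split 7 (-227) (.lin 8) (.split 3 (-255)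
    .sq (.split 6 242 (.split 1 (-20) (.split 5 58 (.lin 4) (.split 3 (-164) (.splitN 54899 .sq
    (.split 7 (-95) (.wt 0) (.split 2 (-53) (.splitN 57644 .sq (.wt 1)) (.lin 9)))) (.lin 11)))
    (.split 0 (-68) (.split 5 85 (.lin 4) (.split 7 (-82) (.splitN 64304 .sq (.wt 1)) (.lin 8)))
    (.wt 2))) (.lin 11)))) (.lin 4))) (.wt 1)) (.lin 11))) (.lin 4)))) (.wt 1)) (.lin 4))) (.wt
    1)) (.split 6 61 (.lin 3) (.split 7 (-55) (.splitN 760295 (.split 2 (-4217) (.div 2) (.split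
    5 4216 (.split 0 (-4197) (.lin 4) (.split 3 (-8454) (.lin 5) (.split 0 (-863) .sq (.split 6
    5084 (.split 5 887 (.split 3 (-5934) (.lin 6) (.split 7 (-893) (.lin 8) (.splitN 682392
    (.split 0 (-816) .sq (.split 5 842 (.split 7 (-848) (.lin 8) (.split 2 (-816) .sq (.split 3
    (-1686) (.lin 2) (.split 3 (-819) .sq (.split 6 222 (.split 0 (-192) (.lin 3) (.split 5 221
    (.split 7 (-227) (.lin 8) (.split 7 (-209) (.lin 9) (.split 3 (-246) (.lin 11) (.split 0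
    (-44) (.split 6 70 (.lin 3) (.split 5 58 (.lin 4) (.split 0 (-55) (.split 6 79 (.lin 3)
    (.split 5 67 (.lin 4) (.split 0 (-67) (.split 6 97 (.lin 3) (.split 5 85 (.lin 4) (.splitN
    101369 (.split 1 (-13) (.split 0 (-100) (.split 6 124 (.lin 3) (.split 5 121 (.lin 4) (.split
    3 (-146) (.split 7 (-118) (.splitN 76670 .sq (.wt 1)) (.lin 12)) (.lin 5)))) (.wt 2)) (.wt
    0)) (.wt 6)))) (.wt 2)))) (.wt 2)))) (.wt 2))))) (.lin 0))) (.split 3 (-236) (.splitN 113282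
    .sq (.wt 6)) (.lin 11))))))) (.lin 4))) (.wt 1)))) (.lin 4)) (.lin 3))))) (.div 5))) (.wt 1))
    (.lin 12))))

def cert5_51_1 : Cert :=
  (.split 4 22 (.split 1 (-30) (.split 3 (-92) (.split 5 76 (.lin 4) (.splitN 196264 (.split 1
    (-2169) (.div 1) (.split 2 (-1085) (.div 2) (.split 5 1084 (.split 6 2132 (.split 3 (-3180)
    (.lin 6) (.split 0 (-418) .sq (.split 7 (-434) (.lin 12) (.splitN 184811 (.split 1 (-402) .sq
    (.split 2 (-400) .sq (.split 3 (-1227) (.lin 2) (.split 3 (-411) .sq (.split 0 (-354) (.lin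
    5) (.split 5 392 (.split 6 368 (.split 4 11 (.splitN 79496 (.splitN 60102 (.split 5 328
    (.split 6 62 (.wt 2) (.split 3 (-110) (.splitN 58957 (.split 3 (-200) .sq (.split 0 (-138)
    (.lin 5) (.split 2 (-108) (.lin 10) (.split 5 275 (.split 5 176 (.split 6 152 (.split 0 (-77)
    (.wt 2) (.split 7 (-83) (.lin 12) (.splitN 34012 (.wt 1) (.split 7 (-64) (.split 2 (-90)
    (.lin 2) (.split 0 (-56) (.splitN 41258 (.splitN 38230 (.wt 6) (.split 1 (-55) (.wt 0)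
    (.split 5 122 (.wt 6) (.lin 4)))) (.wt 4)) (.lin 12))) (.split 2 (-17) (.split 0 (-48) (.lin
    12) (.split 6 111 (.splitN 52286 (.split 3 (-182) .sq (.split 1 (-102) (.lin 11) (.split 5
    149 (.split 6 89 (.split 0 (-47) (.wt 2) (.split 7 (-47) (.lin 12) .cand)) (.split 2 (-44)
    (.split 1 (-75) (.lin 11) (.split 5 131 (.split 3 (-137) (.splitN 48841 (.split 3 (-154) .sq
    (.split 1 (-48) (.lin 11) (.split 7 (-51) (.split 0 (-47) (.split 5 85 (.lin 4) (.splitN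
    44432 .sq (.wt 0))) (.lin 12)) (.split 0 (-39) (.lin 12) (.wt 0))))) (.wt 1)) (.lin 11))
    (.lin 0))) (.lin 3))) (.lin 4)))) (.wt 3)) (.split 2 (-62) (.split 3 (-155) (.splitN 52307
    .sq (.wt 1)) (.lin 11)) (.lin 3)))) (.lin 9)))))) (.lin 11)) (.lin 10)) (.lin 1))))) (.wt 3))
    (.lin 11))) (.div 5)) (.wt 3)) (.wt 0)) (.split 6 61 (.lin 3) (.split 7 (-55) (.splitN 121760
    (.split 3 (-324) .sq (.split 1 (-255) (.lin 2) (.split 6 131 (.split 0 (-102) (.lin 3)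
    (.split 7 (-119) (.lin 9) (.splitN 110268 (.split 3 (-303) .sq (.split 0 (-70) (.split 6 97
    (.lin 3) (.split 5 112 (.lin 4) (.split 3 (-137) (.split 7 (-91) (.splitN 67953 (.split 1
    (-102) .sq (.split 5 203 (.split 3 (-255) (.lin 6) (.split 1 (-40) (.split 3 (-146) (.split 5
    121 (.lin 4) (.splitN 62090 .sq (.split 1 (-77) (.wt 1) (.split 3 (-201) (.lin 11) (.split 1
    (-73) (.wt 1) (.split 2 (-11) (.wt 1) (.split 6 119 (.split 0 (-93) (.lin 3) (.split 3 (-183)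
    (.lin 5) (.split 7 (-110) (.lin 9) (.wt 6)))) (.wt 1)))))))) (.lin 2)) (.wt 2))) (.lin 0)))
    (.wt 1)) (.lin 12)) (.lin 5)))) (.split 7 (-83) (.lin 12) (.split 0 (-52) (.split 6 79 (.lin
    3) (.split 5 94 (.lin 4) (.split 7 (-73) (.split 1 (-59) (.split 5 121 (.lin 4) (.splitN
    69747 (.split 1 (-67) (.split 3 (-155) (.split 5 130 (.lin 4) (.splitN 61847 .sq (.split 6 93
    (.split 3 (-158) (.split 1 (-98) .sq (.split 5 158 (.split 3 (-192) (.lin 6) (.wt 2)) (.lin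
    0))) (.wt 6)) (.wt 2)))) (.lin 2)) (.wt 2)) (.wt 1))) (.wt 2)) (.lin 12)))) (.split 7 (-65)
    (.lin 12) (.split 0 (-41) (.split 6 70 (.lin 3) (.split 5 85 (.lin 4) (.wt 2))) (.wt 2)))))))
    (.wt 1)))) (.split 1 (-183) (.lin 11) (.split 3 (-173) (.splitN 60047 .sq (.split 7 (-129)
    (.wt 1) (.split 0 (-111) (.lin 12) (.split 7 (-111) (.wt 1) (.split 2 (-26) (.wt 6) (.lin
    9)))))) (.lin 11)))))) (.wt 1)) (.lin 12)))) (.lin 11)) (.lin 10))))))) (.wt 1))))) (.lin 0))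
    (.div 5)))) (.wt 1))) (.lin 2)) cert5_51_0) (.split 6 70 (.lin 3) (.split 3 (-83) (.split 7
    (-64) (.split 1 (-30) (.split 5 76 (.lin 4) (.splitN 252092 (.split 1 (-2781) (.div 1)
    (.split 4 2780 (.split 5 1390 (.split 1 (-1344) (.lin 4) (.split 0 (-471) .sq (.splitN 235133
    (.split 3 (-465) .sq (.split 0 (-390) (.lin 5) (.split 7 (-416) (.lin 2) (.split 4 376
    (.split 0 (-42) (.split 6 79 (.lin 3) (.split 5 85 (.lin 4) (.split 0 (-48) (.split 6 88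
    (.lin 3) (.split 5 94 (.lin 4) (.split 7 (-82) (.splitN 134087 (.split 3 (-324) .sq (.split 1
    (-228) (.lin 2) (.split 7 (-272) (.lin 2) (.split 0 (-63) (.split 6 97 (.lin 3) (.split 5 103
    (.lin 4) (.split 0 (-72) (.split 6 106 (.lin 3) (.split 5 112 (.lin 4) (.split 0 (-82)
    (.split 6 115 (.lin 3) (.split 5 121 (.lin 4) (.split 3 (-155) (.split 7 (-109) (.splitN
    73268 .sq (.split 4 25 (.wt 1) (.split 6 124 (.lin 3) (.split 3 (-164) (.split 7 (-118)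
    (.splitN 80882 .sq (.wt 6)) (.lin 12)) (.lin 5))))) (.lin 12)) (.lin 5)))) (.wt 2)))) (.wt
    2)))) (.wt 2))))) (.wt 1)) (.lin 12)))) (.wt 2)))) (.wt 2)) (.lin 5))))) (.wt 1)))) (.div 5))
    (.div 4))) (.wt 1))) (.split 0 (-52) (.split 6 88 (.lin 3) (.split 5 67 (.lin 4) (.split 7
    (-82) (.splitN 1571725 (.split 4 17432 (.split 5 8716 (.split 0 (-8697) (.lin 4) (.split 0
    (-78) (.split 6 115 (.lin 3) (.split 5 94 (.lin 4) (.split 7 (-109) (.splitN 304871 (.split 3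
    (-8391) (.div 3) (.split 5 1678 (.split 0 (-1659) (.lin 4) (.splitN 128198 (.split 2 (-707)
    (.div 2) (.split 3 (-3531) (.div 3) (.split 4 1412 (.split 5 706 (.split 0 (-687) (.lin 4)
    (.split 3 (-2829) (.lin 5) (.split 7 (-2810) (.lin 2) (.splitN 107091 (.split 2 (-581) (.div
    2) (.split 4 1160 (.split 3 (-2451) (.lin 5) (.split 7 (-1847) (.lin 8) (.split 5 580 (.split
    0 (-561) (.lin 4) (.split 7 (-1721) (.lin 8) (.splitN 100759 (.split 1 (-13) (.split 5 103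
    (.lin 4) (.split 0 (-159) (.split 6 196 (.lin 3) (.split 5 184 (.lin 4) (.split 7 (-181) .sq
    (.lin 8)))) (.wt 2))) (.wt 0)) (.wt 6)))) (.div 5)))) (.div 4))) (.wt 6))))) (.div 5)) (.div
    4)))) (.wt 6))) (.div 5))) (.wt 1)) (.lin 12)))) (.wt 2))) (.div 5)) (.div 4)) (.wt 1)) (.lin
    12)))) (.wt 2))) (.lin 12)) (.lin 5))))

def cert5_51_2 : Cert :=
  (.split 2 (-54) (.lin 3) (.split 0 (-20) (.split 2 (-45) (.lin 3) (.split 6 34 (.lin 3) (.split
    5 31 (.lin 4) (.split 4 16 (.split 7 (-28) (.split 1 (-30) (.split 3 (-74) (.split 5 58 (.lin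
    4) (.split 4 11 (.splitN 165335 (.split 1 (-1809) (.div 1) (.split 5 1859 (.split 3 (-1911)
    (.lin 6) (.split 5 904 (.split 1 (-389) .sq (.split 5 437 (.split 3 (-395) .sq (.split 6 53
    (.split 2 (-27) (.lin 3) (.split 6 44 (.split 0 (-25) (.split 2 (-9) (.lin 3) (.split 6 43
    (.lin 3) (.split 5 67 (.lin 0) (.split 3 (-83) (.split 7 (-37) (.wt 2) (.lin 9)) (.lin 6)))))
    (.split 7 (-29) (.lin 12) (.split 3 (-82) (.split 6 43 (.split 2 (-9) (.lin 3) (.split 1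
    (-47) (.split 5 67 (.lin 0) (.split 3 (-86) (.split 5 76 (.lin 1) (.split 1 (-56) (.split 3
    (-256) (.wt 2) (.split 5 239 (.split 1 (-219) (.lin 2) (.split 3 (-93) (.split 5 85 (.lin 1)
    (.split 1 (-65) (.split 3 (-197) (.wt 2) (.split 5 176 (.split 1 (-156) (.lin 2) (.split 3
    (-102) (.split 5 94 (.lin 1) (.split 1 (-74) (.split 3 (-166) (.wt 2) (.split 5 149 (.split 1
    (-129) (.lin 2) (.split 3 (-160) (.wt 2) (.split 5 140 (.split 3 (-113) (.split 5 103 (.lin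
    1) (.split 1 (-83) (.split 3 (-146) (.wt 2) (.split 5 122 (.split 1 (-102) (.lin 2) (.splitN
    91704 (.wt 1) (.split 1 (-100) (.wt 0) (.split 5 113 (.split 3 (-129) (.lin 6) (.wt 6)) (.lin
    0))))) (.lin 1))) (.lin 2))) (.wt 2)) (.lin 1)))) (.lin 1))) (.lin 2))) (.wt 2))) (.lin 1)))
    (.lin 2))) (.wt 2))) (.lin 1))) (.lin 2))) (.wt 2))) (.lin 11))) (.wt 2)) (.wt 2)))) (.split
    2 (-17) (.split 3 (-83) (.split 3 (-92) (.splitN 89179 (.split 1 (-269) .sq (.split 5 293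
    (.split 3 (-327) (.lin 6) (.split 0 (-21) (.split 2 (-18) (.lin 3) (.split 5 67 (.lin 0)
    (.split 7 (-37) (.splitN 65375 (.splitN 52253 (.wt 1) (.split 1 (-134) (.wt 0) (.split 5 158
    (.splitN 53975 (.wt 1) (.split 1 (-82) (.wt 0) (.split 5 104 (.splitN 56387 (.wt 1) (.split 1
    (-60) (.wt 0) (.split 5 86 (.split 3 (-111) (.lin 6) (.split 1 (-42) (.split 5 76 (.lin 0)
    (.split 3 (-101) (.splitN 61565 (.split 1 (-50) (.wt 0) (.wt 0)) (.wt 0)) (.lin 6))) (.wt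
    0))) (.lin 0)))) (.lin 0)))) (.lin 0)))) (.wt 1)) (.lin 9)))) (.wt 2))) (.lin 0))) (.wt 1))
    (.lin 11)) (.lin 6)) (.lin 3)))) (.split 2 (-26) (.split 3 (-101) (.split 0 (-23) (.split 2
    (-36) (.lin 3) (.split 5 67 (.lin 4) (.split 7 (-37) (.splitN 60036 (.split 1 (-194) .sq
    (.split 5 230 (.split 3 (-273) (.lin 6) (.split 1 (-40) (.split 5 76 (.lin 4) (.splitN 57556
    (.split 1 (-48) (.split 5 85 (.lin 4) (.split 3 (-197) .sq (.split 5 158 (.split 1 (-129)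
    (.lin 2) (.splitN 55655 (.splitN 50006 (.wt 3) (.split 1 (-72) (.split 5 103 (.lin 4) (.split
    6 67 (.split 2 (-27) (.lin 3) (.split 1 (-77) (.split 5 112 (.lin 0) (.split 3 (-146) (.split
    1 (-101) (.wt 0) (.split 5 122 (.split 3 (-156) (.lin 6) (.wt 0)) (.lin 0))) (.lin 6))) (.wt
    0))) (.wt 1))) (.wt 0))) (.wt 1))) (.lin 1)))) (.wt 0)) (.wt 1))) (.wt 0))) (.lin 0))) (.wt
    1)) (.lin 12)))) (.wt 2)) (.lin 11)) (.lin 3)))) (.lin 0))) (.div 5))) (.lin 0))) (.wt 1))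
    (.split 2 (-36) (.lin 3) (.split 0 (-21) (.lin 12) (.split 6 43 (.lin 3) (.split 7 (-37)
    (.splitN 493714 (.wt 0) (.wt 1)) (.lin 12))))))) (.lin 2)) (.split 5 86 (.split 3 (-147)
    (.lin 6) (.split 3 (-111) (.lin 2) (.split 5 59 (.split 3 (-102) (.lin 11) (.split 4 15
    (.split 6 53 (.split 2 (-27) (.lin 3) (.split 3 (-84) (.lin 11) (.split 1 (-12) (.split 5 40
    (.lin 4) (.split 0 (-21) (.split 6 43 (.lin 3) (.split 5 49 (.lin 4) (.split 7 (-37) (.split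
    1 (-24) (.split 5 58 (.lin 4) (.splitN 79694 (.split 6 50 (.split 2 (-9) (.lin 0) (.split 3
    (-75) (.lin 6) (.wt 0))) (.wt 0)) (.wt 1))) (.wt 2)) (.lin 12)))) (.wt 2))) (.wt 2)))) (.wt
    2)) (.wt 0))) (.lin 4)))) (.lin 0))) (.lin 12)) (.lin 12))))) (.splitN 90028 (.split 5 490
    (.split 3 (-561) (.lin 6) (.wt 2)) (.div 5)) (.wt 6))))

def cert5_51_3 : Cert :=
  (.split 7 (-46) (.split 2 27 (.lin 9) (.split 0 (-20) (.split 5 40 (.lin 4) (.split 3 (-165)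
    (.wt 2) (.split 5 176 (.split 3 (-135) (.wt 2) (.split 5 140 (.split 4 16 (.wt 2) (.split 0
    (-28) (.wt 6) (.split 3 (-79) (.wt 6) (.split 5 77 (.split 3 (-72) (.wt 6) (.split 5 68
    (.split 1 (-48) (.lin 11) (.split 7 (-100) (.split 2 81 (.lin 9) (.split 4 78 (.lin 3)
    (.split 1 (-43) (.wt 2) (.split 5 59 (.split 3 (-55) (.wt 2) (.split 5 50 (.split 1 (-30)
    (.lin 11) (.split 7 (-208) (.split 2 180 (.lin 1) (.split 4 177 (.lin 3) (.splitN 2110749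
    (.split 2 11722 (.split 4 11725 (.split 1 (-27) (.wt 2) (.split 5 41 (.split 3 (-39) (.lin 7)
    (.splitN 962812 (.split 2 5332 (.split 4 5326 (.split 7 (-278) (.split 2 261 (.lin 1) (.split
    4 258 (.lin 0) (.splitN 626960 (.split 2 3478 (.split 4 3472 (.split 7 (-364) (.split 2 351
    (.lin 1) (.split 4 348 (.lin 0) (.splitN 386819 .sq (.splitN 502748 (.split 2 2776 (.split 4
    2770 (.split 7 (-794) (.wt 0) (.split 2 775 (.split 4 772 (.split 7 (-634) (.wt 0) (.split 2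
    613 (.split 4 610 (.split 7 (-591) (.wt 0) (.split 2 568 (.splitN 444261 (.split 7 (-399)
    (.split 2 387 (.lin 1) (.split 4 384 (.lin 0) .sq)) (.wt 0)) (.wt 6)) (.lin 1))) (.lin 0))
    (.lin 1))) (.lin 0)) (.lin 1))) (.lin 0)) (.div 2)) (.wt 1))))) (.wt 2)) (.lin 0)) (.div 2))
    (.wt 1)))) (.wt 2)) (.lin 0)) (.div 2)) (.wt 1))) (.lin 4))) (.lin 0)) (.div 2)) (.wt 1))))
    (.split 2 190 (.split 4 178 (.split 3 (-47) (.wt 6) (.split 5 41 (.split 1 (-21) (.lin 11)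
    (.splitN 1552932 (.split 7 (-126) (.split 2 108 (.lin 1) (.split 4 105 (.lin 0) (.splitN
    610097 (.split 4 127 (.split 2 127 (.split 7 (-146) (.lin 1) (.wt 0)) (.lin 0)) (.wt 0)) (.wt
    6)))) (.wt 0)) (.wt 6))) (.lin 7))) (.lin 12)) (.lin 1)))) (.lin 7))) (.lin 4))))) (.split 2
    73 (.split 4 97 (.split 4 70 (.split 3 (-57) (.wt 6) (.split 5 59 (.split 3 (-55) (.wt 6)
    (.split 5 50 (.split 1 (-30) (.lin 11) (.split 7 (-47) (.split 2 36 (.lin 9) (.split 4 33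
    (.lin 3) (.split 7 (-73) (.split 2 54 (.lin 9) (.split 4 51 (.lin 3) (.split 3 (-46) (.wt 6)
    (.split 1 (-21) (.lin 11) (.wt 0))))) (.split 2 46 (.split 4 52 (.split 3 (-45) (.wt 6)
    (.split 1 (-21) (.lin 11) (.wt 0))) (.lin 0)) (.lin 9))))) (.wt 1))) (.lin 7))) (.lin 7)))
    (.lin 3)) (.lin 0)) (.lin 9)))) (.lin 7))) (.lin 7))))) (.lin 7))) (.lin 7)))) (.split 4 33
    (.lin 3) (.split 1 (-24) (.split 5 40 (.lin 4) (.split 3 (-87) (.split 5 85 (.lin 7) (.splitN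
    395501 (.split 2 2182 (.split 7 (-2198) (.lin 9) (.split 5 2182 (.split 1 (-2163) (.lin 4)
    (.split 3 (-2181) (.lin 7) (.splitN 287040 (.split 2 1588 (.split 7 (-1604) (.lin 9) (.split
    5 1588 (.split 1 (-1569) (.lin 4) (.split 3 (-1587) (.lin 7) (.splitN 260306 (.split 5 1444
    (.split 3 (-1443) (.lin 7) (.split 7 (-58) (.split 2 45 (.lin 9) (.split 4 51 (.lin 3)
    (.splitN 140548 (.split 2 778 (.split 7 (-794) (.lin 9) (.split 5 778 (.split 1 (-759) (.lin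
    4) (.split 3 (-777) (.lin 7) (.splitN 119699 (.split 2 652 (.split 7 (-668) (.lin 9) (.split
    5 652 (.split 1 (-633) (.lin 4) (.split 3 (-651) (.lin 7) (.splitN 112685 (.split 2 616
    (.split 7 (-632) (.lin 9) (.split 5 616 (.split 3 (-615) (.lin 7) (.split 4 208 (.split 2 199
    (.split 7 (-218) (.lin 9) (.wt 2)) (.lin 3)) (.wt 0))) (.div 5))) (.div 2)) (.wt 6)))) (.div
    5))) (.div 2)) (.wt 6)))) (.div 5))) (.div 2)) (.wt 6)))) (.wt 0))) (.div 5)) (.wt 6))))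
    (.div 5))) (.div 2)) (.wt 6)))) (.div 5))) (.div 2)) (.wt 6))) (.wt 2))) (.wt 2))))) (.split
    2 19 (.split 0 (-20) (.split 2 9 (.lin 3) (.split 4 16 (.split 7 (-28) (.split 0 (-26) (.wt
    2) (.split 1 (-58) (.wt 2) (.split 5 77 (.splitN 193981 (.wt 6) (.split 4 7 (.wt 0) (.split 2
    18 (.lin 3) (.split 7 (-37) (.wt 6) (.lin 9))))) (.lin 4)))) (.lin 9)) (.lin 3))) (.split 4
    21 (.split 2 10 (.split 7 (-29) (.lin 9) (.split 3 (-41) (.split 5 40 (.lin 7) (.split 1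
    (-29) (.split 4 13 (.split 2 1 (.split 7 (-20) (.lin 9) (.splitN 56757 (.split 5 310 (.split
    3 (-309) (.lin 6) (.splitN 55092 (.wt 0) (.wt 1))) (.div 5)) (.wt 1))) (.lin 3)) (.wt 2))
    (.lin 11))) (.wt 2))) (.lin 3)) (.wt 2))) (.lin 9)))

def cert5_51_4 : Cert :=
  (.split 4 11 (.splitN 64587 (.split 5 346 (.split 1 (-171) (.wt 2) (.split 5 248 (.split 3
    (-133) (.wt 2) (.split 5 158 (.split 3 (-126) (.wt 2) (.split 5 149 (.split 6 36 (.wt 2)
    (.split 0 (-47) (.split 7 (-55) (.split 3 (-65) (.wt 2) (.lin 11)) (.lin 9)) (.lin 3))) (.lin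
    10))) (.lin 10))) (.lin 0))) (.div 5)) (.wt 3)) (.split 0 (-75) (.lin 3) (.split 7 (-55)
    (.splitN 317039 (.split 1 (-552) .sq (.split 5 626 (.split 3 (-642) (.lin 6) (.split 6 39
    (.split 0 (-57) (.lin 3) (.split 2 18 (.lin 9) (.split 7 (-74) (.lin 9) (.split 1 (-93)
    (.split 3 (-128) (.splitN 63220 (.split 5 346 (.wt 1) (.div 5)) (.wt 0)) (.lin 11)) (.split 5
    149 (.split 1 (-43) (.split 3 (-65) (.split 5 85 (.lin 4) (.split 0 (-42) (.wt 2) (.split 7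
    (-56) (.lin 12) (.splitN 74729 (.wt 1) (.split 6 29 (.wt 0) (.split 2 19 (.split 3 (-83)
    (.splitN 83505 (.split 1 (-63) (.wt 0) (.split 5 95 (.wt 6) (.lin 0))) (.wt 0)) (.lin 6))
    (.lin 3))))))) (.lin 2)) (.split 3 (-75) (.lin 11) (.split 6 30 (.split 5 86 (.split 2 27
    (.lin 9) (.splitN 126161 (.wt 6) (.split 1 (-24) (.wt 0) (.split 5 68 (.split 3 (-48) (.lin
    11) (.splitN 148392 (.wt 6) (.split 0 (-41) (.wt 0) (.split 2 28 (.split 5 59 (.split 7 (-56)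
    (.lin 1) (.splitN 161402 (.wt 0) (.wt 0))) (.lin 0)) (.lin 3))))) (.lin 0))))) (.lin 0))
    (.splitN 131363 .cand (.wt 1))))) (.lin 0)))))) (.split 3 (-65) (.splitN 126492 (.split 1
    (-331) .sq (.split 5 401 (.split 1 (-77) (.split 5 121 (.lin 0) (.split 3 (-128) (.splitN
    82283 (.split 0 (-70) (.wt 2) (.split 7 (-83) (.lin 12) (.split 1 (-210) .sq (.split 3 (-264)
    (.lin 11) (.split 3 (-231) .sq (.split 5 248 (.split 0 (-52) (.split 2 18 (.lin 3) (.split 7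
    (-73) (.wt 2) (.lin 12))) (.split 2 19 (.split 7 (-65) (.lin 12) (.splitN 72834 (.split 3
    (-209) .sq (.split 6 48 (.split 0 (-47) (.wt 2) (.split 2 10 (.split 7 (-56) (.lin 9)
    (.splitN 64955 (.split 1 (-143) (.split 5 184 (.lin 0) (.split 3 (-191) .sq (.lin 6))) (.wt
    0)) (.wt 1))) (.lin 3))) (.split 2 10 (.split 7 (-64) (.splitN 57543 (.split 1 (-133) (.split
    5 184 (.lin 0) .sq) (.wt 0)) (.wt 1)) (.lin 9)) (.lin 9)))) (.wt 1))) (.lin 3))) (.lin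
    6))))))) (.wt 1)) (.lin 11))) (.split 5 149 (.split 3 (-165) (.lin 6) (.split 3 (-129) (.lin
    11) (.split 1 (-39) (.split 5 85 (.lin 0) (.split 3 (-92) (.split 0 (-56) (.split 7 (-73)
    (.split 6 45 (.wt 2) .cand) (.lin 12)) (.split 2 19 (.split 5 131 (.split 5 122 (.split 7
    (-65) (.lin 12) (.split 0 (-40) (.split 7 (-64) (.splitN 70355 (.split 6 48 (.split 2 18
    (.lin 3) (.split 1 (-48) (.split 5 103 (.lin 0) (.split 3 (-101) (.split 1 (-63) (.wt 2)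
    (.split 5 104 (.split 3 (-102) (.lin 6) (.splitN 68014 (.wt 0) (.wt 0))) (.lin 0))) (.lin
    6))) (.wt 3))) (.wt 2)) (.wt 1)) (.lin 12)) (.wt 2))) (.lin 4)) (.lin 0)) (.lin 3))) (.lin
    11))) (.split 5 113 (.split 3 (-93) (.lin 11) (.split 0 (-44) (.split 5 67 (.lin 4) (.split 1
    (-29) (.split 5 76 (.lin 4) (.split 3 (-74) (.split 0 (-61) (.split 2 27 (.lin 3) (.split 5
    85 (.lin 0) (.split 5 94 (.lin 4) (.split 7 (-82) (.splitN 74194 (.splitN 59071 (.wt 1)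
    (.split 6 48 (.split 0 (-66) (.lin 3) (.split 2 36 (.lin 9) (.split 7 (-83) (.lin 9) (.splitN
    67675 (.wt 1) (.split 1 (-33) (.wt 0) (.split 5 95 (.split 3 (-75) (.lin 6) (.wt 0)) (.lin
    0))))))) (.splitN 67388 (.split 1 (-31) (.split 3 (-92) (.split 7 (-89) (.wt 1) (.split 2 28
    (.split 0 (-66) (.lin 3) (.wt 0)) (.lin 2))) (.lin 11)) (.wt 0)) (.wt 1)))) (.wt 1)) (.lin
    12))))) (.split 2 28 (.split 5 95 (.split 7 (-74) (.lin 12) (.split 0 (-50) (.split 2 18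
    (.lin 3) (.split 5 85 (.lin 4) (.split 7 (-73) (.splitN 74692 (.split 1 (-31) (.split 3 (-83)
    (.split 5 94 (.lin 4) (.split 6 49 (.split 2 27 (.lin 0) (.split 3 (-84) (.lin 6) (.splitN
    69645 (.wt 0) (.wt 0)))) (.wt 0))) (.lin 2)) (.wt 0)) (.wt 1)) (.lin 12)))) (.wt 2))) (.lin
    4)) (.lin 3))) (.lin 11))) (.split 3 (-75) (.lin 11) (.wt 2)))) (.wt 2))) (.lin 0))))) (.lin
    0))) (.lin 0))) (.wt 1)) (.lin 11)))) (.lin 0))) (.wt 3)) (.lin 12))))

def cert5_51_5 : Cert :=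
  (.split 1 (-53) (.split 5 94 (.lin 4) (.split 3 (-83) (.splitN 133709 (.split 2 742 (.split 4
    736 (.split 0 (-71) (.wt 2) (.split 5 203 (.split 6 27 (.wt 2) (.split 3 (-92) (.splitN
    114872 (.split 0 (-65) (.wt 2) (.split 4 78 (.lin 3) (.split 2 257 (.split 4 250 (.splitN
    107896 (.split 4 236 (.split 7 (-261) .sq (.split 2 217 (.split 0 (-47) (.split 5 103 (.lin
    4) (.split 3 (-165) (.wt 2) (.split 5 185 (.split 7 (-195) (.split 2 162 (.lin 9) (.split 4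
    141 (.lin 3) .sq)) (.split 2 154 (.split 4 142 (.split 1 (-79) (.split 3 (-119) (.wt 2) (.lin
    11)) (.split 5 131 (.split 0 (-56) (.wt 2) .cand) (.lin 4))) (.lin 3)) (.lin 9))) (.lin 7))))
    (.split 4 96 (.lin 3) (.split 5 176 (.splitN 97330 (.split 3 (-100) (.split 5 103 (.lin 7)
    (.split 3 (-103) (.split 5 112 (.lin 7) (.split 1 (-74) (.split 2 183 (.split 4 178 (.split 7
    (-218) (.lin 9) (.splitN 72339 (.wt 1) (.split 3 (-111) (.split 5 121 (.lin 7) (.split 1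
    (-83) (.splitN 90126 (.split 1 (-137) .sq (.split 5 167 (.split 3 (-165) (.lin 7) (.split 2
    147 (.split 4 142 (.split 7 (-182) (.lin 9) (.split 3 (-123) (.split 5 130 (.lin 7) (.split 1
    (-92) (.splitN 82583 .sq (.split 7 (-152) (.wt 1) (.split 2 109 (.split 4 106 (.split 1
    (-100) (.wt 1) (.split 5 131 (.split 3 (-129) (.lin 7) (.wt 0)) (.lin 4))) (.lin 3)) (.lin
    9)))) (.lin 11))) (.wt 2))) (.lin 3)) .sq)) (.lin 4))) (.wt 1)) (.lin 11))) (.wt 6)))) (.lin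
    3)) .sq) (.lin 11))) (.wt 2))) (.wt 2)) (.wt 1)) (.lin 4)))) (.lin 9))) .sq) (.wt 1)) (.lin
    3)) .sq))) (.wt 1)) (.lin 11))) (.lin 4))) (.lin 3)) (.div 2)) (.wt 3)) (.lin 11))) (.split 5
    131 (.split 3 (-84) (.lin 11) (.splitN 470768 (.split 2 664 (.split 4 682 (.split 7 (-671)
    .sq (.split 4 628 (.split 6 30 (.split 2 108 (.lin 9) (.split 3 (-75) (.lin 11) (.splitN
    80560 (.wt 1) (.split 0 (-81) (.wt 2) (.split 4 60 (.lin 3) (.split 5 122 (.splitN 402195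
    (.split 2 607 (.split 4 592 (.split 1 (-34) (.split 3 (-65) (.splitN 132427 (.wt 6) (.split 0
    (-41) (.wt 0) (.split 5 86 (.wt 2) (.lin 4)))) (.lin 11)) (.split 5 104 (.split 3 (-57) (.lin
    11) (.splitN 335945 (.split 2 551 (.split 7 (-558) .sq (.split 4 511 (.split 0 (-56) (.split
    5 76 (.lin 4) (.split 1 (-29) (.wt 2) (.split 3 (-48) (.lin 11) (.splitN 268083 .cand (.wt
    1))))) (.split 4 87 (.lin 3) (.split 5 77 (.split 7 (-255) (.split 2 234 (.lin 9) (.split 4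
    204 (.lin 0) (.splitN 174104 .sq (.split 0 (-42) (.split 5 67 (.lin 4) (.split 1 (-24) (.wt
    0) (.split 5 68 (.split 3 (-48) (.lin 7) (.wt 1)) (.lin 4)))) (.wt 1))))) (.split 2 244
    (.split 2 226 (.split 4 223 (.split 1 (-25) (.split 5 67 (.lin 4) (.split 3 (-56) (.split 0
    (-44) (.wt 2) (.split 4 96 (.lin 3) (.split 5 68 (.splitN 148292 (.split 7 (-148) (.split 2
    126 (.lin 1) (.split 4 114 (.lin 0) (.splitN 138093 (.split 7 (-180) (.split 2 153 (.lin 1)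
    (.split 4 141 (.lin 0) (.splitN 129002 (.split 4 165 (.split 2 172 (.split 7 (-200) (.lin 1)
    (.wt 0)) (.lin 0)) (.wt 0)) (.wt 6)))) (.wt 0)) (.wt 6)))) (.wt 0)) (.wt 6)) (.lin 4))))
    (.lin 11))) (.split 3 (-48) (.lin 11) (.wt 2))) (.lin 0)) (.lin 9)) (.lin 1))) (.lin 4))))
    (.lin 12))) .sq) (.wt 1))) (.lin 4))) (.lin 3)) .sq) (.wt 1)) (.lin 4))))))) (.split 3 (-56)
    (.splitN 176932 (.split 2 380 (.split 7 (-443) (.lin 2) (.split 4 376 (.split 0 (-39) (.split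
    5 67 (.lin 4) (.splitN 167547 (.split 7 (-377) .sq (.split 2 334 (.split 4 322 (.split 1
    (-34) (.split 5 85 (.lin 4) (.split 3 (-74) (.splitN 119394 (.split 7 (-295) .sq (.split 4
    241 (.split 0 (-65) (.split 5 103 (.lin 4) (.split 4 61 (.wt 2) (.split 7 (-213) (.split 2
    180 (.lin 9) (.split 4 132 (.lin 3) .sq)) (.split 2 199 (.split 2 172 (.split 4 151 (.split 4
    142 (.split 0 (-80) (.wt 2) (.split 5 122 (.split 7 (-172) (.split 2 135 (.lin 9) (.split 0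
    (-73) (.wt 2) (.split 4 105 (.lin 3) (.split 5 113 (.split 1 (-47) (.wt 2) (.split 5 104
    (.split 3 (-75) (.lin 7) (.splitN 91534 (.wt 0) (.wt 6))) (.lin 4))) (.lin 4))))) (.split 2
    127 (.split 4 97 (.split 0 (-73) (.wt 2) (.split 5 113 (.split 1 (-47) (.wt 2) (.split 5 104
    (.split 3 (-75) (.lin 7) (.split 4 84 (.split 2 109 (.split 7 (-146) (.lin 1) (.splitN 99393
    (.split 4 77 (.split 2 100 (.split 7 (-137) (.lin 1) (.wt 0)) (.lin 0)) (.wt 0)) (.wt 1)))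
    (.lin 0)) (.wt 2))) (.lin 4))) (.lin 4))) (.lin 3)) (.lin 9))) (.lin 4))) (.lin 3)) (.lin 0))
    (.lin 9)) (.lin 1))))) (.split 4 78 (.lin 3) (.splitN 109575 (.split 7 (-204) (.split 2 171
    (.lin 9) (.split 4 150 (.lin 3) .sq)) (.split 0 (-50) .cand (.wt 2))) (.wt 1)))) (.lin 12)))
    (.wt 1)) (.lin 11))) (.split 5 113 (.split 3 (-66) (.lin 11) (.split 0 (-59) (.split 5 85
    (.lin 4) (.split 1 (-21) (.split 5 94 (.lin 4) (.split 3 (-65) (.split 4 135 (.split 2 181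
    (.split 7 (-236) (.lin 1) (.split 7 (-218) (.lin 2) (.split 0 (-68) (.split 5 103 (.lin 4)
    (.split 4 82 (.split 2 127 (.split 7 (-164) (.lin 2) (.splitN 109281 (.split 4 78 (.split 2
    118 (.split 7 (-155) (.lin 2) (.split 0 (-76) (.split 5 112 (.lin 4) (.split 4 52 (.wt 2)
    (.wt 2))) (.wt 2))) (.lin 0)) (.wt 0)) (.wt 1))) (.lin 0)) (.wt 2))) (.wt 2)))) (.lin 0))
    (.wt 2)) (.lin 11))) (.wt 2))) (.wt 2))) (.lin 4))) (.lin 3)) (.lin 9))) (.wt 1))) (.wt 2))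
    (.lin 3))) .sq) (.wt 1)) (.lin 11))) (.lin 12))) (.lin 0)) .sq) (.wt 1))) (.lin 4)))

def cert5_51_6 : Cert :=
  (.split 6 30 (.split 2 36 (.lin 3) (.split 0 (-61) (.split 2 63 (.lin 3) (.split 4 61 (.split 7
    (-91) (.splitN 185621 (.wt 6) (.split 1 (-23) (.wt 0) (.split 5 104 (.splitN 216322 (.wt 6)
    (.split 0 (-73) (.wt 0) (.split 5 86 (.wt 2) (.lin 4)))) (.lin 4)))) (.lin 9)) (.lin 3)))
    (.split 5 104 (.split 1 (-34) (.split 3 (-65) (.splitN 126611 (.wt 6) (.split 4 31 (.wt 0)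
    (.split 2 45 (.lin 3) (.split 7 (-73) (.splitN 143864 (.wt 6) (.split 0 (-50) (.wt 0) (.split
    5 95 (.split 4 47 (.wt 0) (.split 2 63 (.lin 3) (.split 7 (-91) (.wt 2) (.lin 9)))) (.lin
    4)))) (.lin 9))))) (.lin 11)) (.split 5 86 (.split 3 (-57) (.lin 11) (.split 4 46 (.split 2
    73 (.split 7 (-82) (.split 2 54 (.lin 9) (.split 0 (-47) (.split 5 67 (.lin 4) (.split 1
    (-28) (.wt 2) (.split 3 (-48) (.lin 11) (.splitN 246152 .cand (.wt 1))))) (.split 2 55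
    (.split 5 68 (.split 4 42 (.lin 3) (.split 7 (-83) (.lin 9) (.splitN 166519 (.wt 0) (.splitN
    178798 (.split 1 (-27) (.split 5 67 (.lin 0) (.split 3 (-56) (.wt 0) (.lin 6))) (.wt 0)) (.wt
    6))))) (.lin 1)) (.lin 3)))) (.split 2 55 (.split 2 46 (.split 0 (-48) (.lin 12) (.split 5 77
    (.split 4 34 (.split 1 (-25) (.split 5 67 (.lin 4) (.split 3 (-56) (.splitN 145216 (.wt 6)
    (.split 4 25 (.wt 0) (.split 2 45 (.lin 0) (.split 0 (-39) (.lin 3) (.split 5 68 (.split 7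
    (-73) (.splitN 157462 (.wt 0) (.wt 0)) (.lin 1)) (.lin 0)))))) (.lin 11))) (.split 5 68
    (.split 3 (-48) (.lin 11) (.splitN 289899 (.split 4 31 (.splitN 228144 (.split 0 (-39)
    (.split 2 45 (.lin 3) (.split 5 67 (.lin 0) (.split 7 (-73) (.splitN 173653 (.wt 0) (.wt 0))
    (.lin 1)))) (.wt 0)) (.wt 1)) (.wt 0)) (.wt 1))) (.lin 0))) (.lin 3)) (.lin 0))) (.lin 9))
    (.lin 2))) (.lin 3)) (.split 2 54 (.lin 0) (.split 0 (-47) (.split 2 72 (.lin 3) (.split 7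
    (-100) (.split 1 (-25) (.split 3 (-56) (.wt 2) (.lin 11)) (.split 5 77 (.split 3 (-48) (.lin
    11) (.split 0 (-51) (.split 2 81 (.lin 3) (.split 7 (-109) (.split 4 70 (.split 5 76 (.lin 4)
    (.split 4 52 (.wt 2) (.split 2 90 (.lin 0) (.split 7 (-118) (.splitN 200723 (.split 4 69
    (.split 2 91 (.split 7 (-119) (.lin 1) (.splitN 197584 (.wt 0) (.wt 0))) (.lin 0)) (.wt 0))
    (.wt 1)) (.lin 1))))) (.lin 3)) (.lin 1))) (.wt 2))) (.lin 4))) (.lin 9))) (.split 5 68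
    (.split 1 (-24) (.split 5 67 (.lin 4) (.split 4 67 (.split 2 73 (.split 7 (-101) (.lin 1)
    (.wt 2)) (.lin 0)) (.wt 2))) (.wt 2)) (.lin 4)))))) (.lin 4))) (.lin 4)))) (.split 2 91
    (.split 3 (-56) (.split 0 (-61) (.split 2 54 (.lin 3) (.split 4 61 (.split 5 85 (.lin 4)
    (.split 7 (-91) (.split 1 (-34) (.split 5 103 (.lin 4) (.split 3 (-74) (.splitN 82552 (.wt 6)
    (.split 4 30 (.wt 0) (.split 2 63 (.lin 3) (.split 7 (-100) (.split 0 (-74) (.wt 2) (.split 5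
    113 (.splitN 89572 (.wt 6) (.split 4 38 (.wt 0) (.split 2 72 (.lin 3) (.split 7 (-109)
    (.split 1 (-43) (.wt 2) (.split 5 104 (.split 3 (-75) (.lin 7) (.splitN 95457 (.wt 6) (.split
    4 49 (.wt 0) (.split 2 81 (.lin 0) (.split 7 (-118) (.splitN 100645 (.wt 6) (.wt 1)) (.lin
    1)))))) (.lin 4))) (.lin 9))))) (.lin 4))) (.lin 9))))) (.lin 11))) (.split 5 113 (.split 3
    (-66) (.lin 11) (.split 4 56 (.split 4 38 (.split 1 (-25) (.split 3 (-65) (.split 0 (-78)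
    (.wt 2) (.split 2 73 (.split 7 (-110) (.lin 2) (.split 5 104 (.split 4 26 (.wt 2) (.splitN
    94095 (.wt 0) (.split 0 (-68) (.split 2 72 (.lin 3) (.split 7 (-109) (.wt 0) (.lin 1))) (.wt
    2)))) (.lin 4))) (.lin 3))) (.lin 11)) (.split 3 (-57) (.lin 11) (.wt 2))) (.split 2 72 (.lin
    3) (.split 7 (-109) (.splitN 134227 (.split 1 (-21) (.split 3 (-65) (.split 0 (-73) (.split 2
    81 (.lin 3) (.split 5 103 (.lin 4) (.splitN 98232 (.wt 1) (.split 0 (-75) (.split 2 90 (.lin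
    3) (.split 5 112 (.lin 1) (.split 4 43 (.split 7 (-127) (.wt 0) (.lin 1)) (.lin 0)))) (.wt
    6))))) (.wt 2)) (.lin 11)) (.wt 0)) (.wt 1)) (.lin 9)))) (.wt 2))) (.lin 4))) (.lin 9)))
    (.lin 3))) (.split 5 104 (.split 1 (-34) (.split 5 76 (.lin 4) (.split 3 (-74) (.splitN
    162515 (.split 4 46 (.split 2 64 (.split 7 (-110) (.lin 2) (.split 7 (-101) (.lin 9) (.split
    0 (-39) (.split 2 36 (.lin 3) (.split 5 85 (.lin 4) (.split 7 (-73) (.split 4 34 (.split 2 55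
    (.split 7 (-92) (.lin 9) (.split 4 29 (.split 0 (-53) (.wt 2) (.split 2 37 (.split 5 95
    (.split 7 (-74) (.lin 9) (.splitN 90241 (.wt 1) (.split 1 (-39) (.split 5 94 (.lin 0) (.split
    3 (-83) (.wt 0) (.lin 6))) (.wt 2)))) (.lin 0)) (.lin 3))) (.split 2 45 (.lin 3) (.splitN
    88446 (.wt 1) .cand)))) (.lin 3)) (.split 2 45 (.lin 0) (.split 0 (-50) (.split 2 63 (.lin 3)
    (.split 5 94 (.lin 0) (.split 7 (-100) (.splitN 99986 (.splitN 93565 (.wt 1) (.split 1 (-46)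
    (.wt 0) (.split 5 95 (.split 3 (-75) (.lin 6) (.wt 0)) (.lin 0)))) (.wt 1)) (.lin 9)))) (.wt
    2)))) (.lin 9)))) (.wt 2)))) (.lin 3)) (.split 2 54 (.lin 3) (.split 0 (-48) (.splitN 89065
    (.wt 1) .cand) (.wt 2)))) (.wt 1)) (.lin 11))) (.split 5 86 (.split 3 (-66) (.lin 11)
    (.splitN 122850 (.split 4 48 (.split 2 73 (.split 2 64 (.split 7 (-101) (.lin 9) (.splitN
    109420 (.split 0 (-42) (.split 5 67 (.lin 4) (.splitN 99954 (.split 0 (-48) (.split 5 76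
    (.lin 4) (.splitN 93741 (.split 1 (-28) (.split 5 85 (.lin 4) (.wt 2)) (.wt 0)) (.wt 6)))
    (.wt 0)) (.wt 6))) (.wt 0)) (.wt 6))) (.lin 3)) (.lin 0)) (.wt 0)) (.wt 6))) (.lin 4))) (.lin
    4))) (.lin 11)) (.lin 9)))

def cert5_51_7 : Cert :=
  (.split 7 (-136) (.split 2 99 (.lin 9) (.split 4 42 (.lin 3) (.split 4 51 (.lin 12) (.splitN
    1512050 (.split 2 8392 (.split 4 8386 (.split 1 (-1214) .sq (.split 5 1292 (.split 3 (-1290)
    (.lin 7) (.splitN 1315850 (.split 1 (-1129) .sq (.split 5 1211 (.split 3 (-1209) (.lin 7)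
    (.split 2 1132 (.split 4 2230 (.split 4 1123 (.split 7 (-1163) (.lin 9) (.splitN 1175525
    (.split 2 1069 (.split 4 1060 (.split 1 (-146) (.split 5 184 (.lin 4) (.split 3 (-128)
    (.split 3 (-173) (.splitN 118790 .sq (.wt 0)) (.lin 11)) (.lin 7))) (.split 5 221 (.split 3
    (-219) (.lin 7) (.split 3 (-174) (.lin 11) (.splitN 713061 (.split 2 825 (.split 4 817
    cert5_51_5 (.lin 3)) .sq) (.wt 1)))) (.lin 4))) (.lin 3)) .sq) (.wt 1))) (.lin 3)) (.lin 0))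
    .sq)) (.lin 4))) (.wt 1))) (.lin 4))) (.lin 3)) (.div 2)) (.wt 1))))) (.split 2 100 (.split 4
    97 (.split 4 88 (.split 1 (-48) (.split 5 94 (.lin 4) (.split 3 (-83) (.splitN 236807 (.split
    5 1300 (.split 1 (-459) .sq (.split 5 563 (.split 3 (-624) (.lin 6) (.split 3 (-489) (.lin
    11) (.split 3 (-463) .sq (.split 5 518 (.split 5 465 (.split 6 30 (.wt 2) (.split 2 91
    (.split 3 (-92) (.splitN 185635 (.split 0 (-83) (.wt 2) (.split 3 (-407) .sq (.split 5 437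
    (.split 4 46 (.split 2 82 (.split 0 (-63) (.wt 2) (.split 2 64 (.splitN 138581 (.split 5 342
    (.split 7 (-82) (.split 2 45 (.lin 9) (.split 0 (-54) (.wt 2) (.split 2 55 (.split 4 33 (.lin
    3) (.split 7 (-92) (.lin 9) (.split 3 (-164) (.split 1 (-128) (.split 5 166 (.lin 0) (.splitN
    83834 .sq (.wt 0))) (.lin 11)) (.split 5 176 (.split 1 (-120) (.lin 11) (.split 5 167 (.split
    0 (-43) (.split 1 (-86) (.wt 2) (.split 5 140 (.split 5 131 (.split 3 (-107) (.wt 2) (.split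
    5 113 (.split 4 35 (.wt 2) (.split 2 54 (.lin 3) (.split 7 (-91) (.split 1 (-61) (.wt 2)
    (.split 5 104 (.split 3 (-93) (.lin 6) (.splitN 94601 (.wt 0) (.wt 0))) (.lin 0))) (.lin
    9)))) (.lin 7))) (.lin 4)) (.lin 0))) (.split 2 46 (.split 4 42 (.lin 3) (.split 7 (-83)
    (.lin 9) (.splitN 97755 (.split 1 (-75) (.split 5 121 (.lin 0) (.splitN 91346 (.split 1 (-99)
    (.split 5 139 (.lin 0) (.split 3 (-139) (.split 5 148 (.lin 1) (.split 1 (-115) (.wt 2)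
    (.split 5 149 (.split 3 (-147) (.lin 6) (.wt 2)) (.lin 0)))) (.wt 2))) (.wt 0)) (.wt 1)))
    (.wt 0)) (.wt 1)))) (.lin 3))) (.lin 4))) (.lin 1))))) (.lin 3)))) (.split 2 37 (.split 0
    (-48) (.lin 12) (.split 4 34 (.split 3 (-169) (.split 1 (-128) (.wt 2) (.lin 2)) (.split 5
    185 (.split 1 (-138) (.lin 2) (.split 1 (-129) (.lin 11) (.split 4 29 (.split 0 (-46) (.wt 2)
    (.split 2 28 (.split 7 (-65) (.lin 9) (.split 3 (-149) (.wt 2) (.split 5 149 (.split 1 (-111)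
    (.lin 2) (.split 3 (-94) (.split 5 103 (.lin 1) (.split 1 (-65) (.split 3 (-130) (.wt 2)
    (.split 5 131 (.split 1 (-93) (.lin 2) (.splitN 91320 (.splitN 85080 (.wt 1) (.split 1 (-66)
    (.split 5 112 (.lin 0) (.split 3 (-110) (.split 1 (-79) (.wt 0) (.split 5 113 (.split 3
    (-111) (.lin 6) (.wt 0)) (.lin 0))) (.lin 6))) (.wt 0))) (.wt 1))) (.lin 1))) (.lin 2))) (.wt
    2))) (.lin 1)))) (.lin 3))) (.split 5 167 (.split 0 (-39) (.lin 3) (.split 2 36 (.lin 3)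
    (.split 7 (-73) (.splitN 98163 (.split 1 (-57) (.split 5 103 (.lin 0) (.split 3 (-113)
    (.split 5 121 (.lin 1) (.splitN 85270 (.wt 1) (.split 1 (-118) (.wt 0) (.split 3 (-123)
    (.split 5 130 (.lin 1) (.split 1 (-105) (.wt 0) (.split 3 (-129) (.split 1 (-101) (.wt 0)
    (.lin 2)) (.wt 2)))) (.wt 2))))) (.wt 2))) (.wt 0)) (.wt 1)) (.lin 9)))) (.lin 0))))) (.lin
    1))) (.lin 3))) (.lin 9))) .sq) (.wt 1)) (.lin 3))) (.lin 3)) (.split 2 54 (.lin 3) (.split 7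
    (-91) (.splitN 131055 (.split 0 (-65) (.wt 2) (.splitN 123317 (.split 5 303 (.split 0 (-47)
    (.split 2 63 (.lin 3) (.split 4 79 (.split 7 (-100) (.split 3 (-157) (.wt 2) (.split 1 (-120)
    (.lin 11) (.split 5 176 (.split 1 (-79) (.split 3 (-119) (.wt 2) (.lin 11)) (.split 5 149
    (.split 0 (-52) (.split 2 72 (.lin 3) (.split 7 (-109) (.wt 2) (.lin 9))) .cand) (.lin 0)))
    (.lin 4)))) (.lin 9)) (.lin 3))) .cand) .sq) (.wt 1))) (.wt 1)) (.lin 9)))) (.lin 7)))) (.wt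
    1)) (.lin 11)) (.lin 9))) .sq) (.lin 7))))) (.lin 0))) (.div 5)) (.wt 3)) (.lin 11))) (.split
    5 158 (.split 5 131 (.split 3 (-84) (.lin 11) cert5_51_6) (.lin 4)) (.lin 0))) (.lin 12))
    (.lin 3)) (.lin 9)))

def cert5_51_8 : Cert :=
  (.split 1 (-47) (.split 5 85 (.lin 4) (.split 3 (-92) (.splitN 140136 (.split 7 (-127) (.split
    2 72 (.lin 9) (.split 4 42 (.lin 3) (.split 4 51 (.lin 12) (.split 0 (-45) (.split 0 (-61)
    (.split 5 112 (.lin 4) (.split 4 124 (.split 6 48 (.split 2 81 (.lin 9) (.split 1 (-79)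
    (.split 5 148 (.lin 4) (.split 3 (-128) (.splitN 77192 .sq (.splitN 83563 (.split 4 63 (.wt
    0) (.split 2 90 (.lin 3) (.split 7 (-136) .sq (.lin 9)))) (.wt 1))) (.lin 11))) (.split 5 149
    (.split 3 (-129) (.lin 7) (.split 3 (-120) (.lin 11) (.split 4 88 (.split 2 118 (.split 7
    (-164) (.lin 9) (.split 4 70 (.split 2 100 (.split 7 (-146) (.lin 9) (.split 1 (-61) (.split
    5 121 (.lin 0) (.split 3 (-110) (.split 4 61 (.split 2 91 (.split 7 (-137) (.lin 9) (.split 0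
    (-70) (.split 5 139 (.lin 4) (.split 3 (-119) (.wt 2) (.split 5 140 (.split 1 (-66) (.lin 11)
    (.splitN 78429 (.wt 1) (.wt 1))) (.lin 7)))) (.split 2 82 (.split 4 60 (.lin 3) (.split 7
    (-128) (.lin 9) (.splitN 79761 (.wt 0) (.wt 1)))) (.lin 3)))) (.lin 3)) (.split 0 (-69)
    (.split 2 99 (.lin 3) (.split 5 139 (.lin 0) (.split 7 (-145) (.splitN 79262 .sq (.wt 0))
    (.lin 9)))) (.wt 2))) (.lin 11))) (.split 3 (-102) (.lin 11) (.wt 2)))) (.lin 3)) (.split 2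
    99 (.lin 3) (.split 7 (-145) (.splitN 83777 (.split 1 (-51) (.split 5 121 (.lin 4) (.split 3
    (-101) (.split 0 (-68) (.split 2 108 (.lin 3) (.split 5 130 (.lin 4) (.split 7 (-154)
    (.splitN 79748 .sq (.wt 1)) (.lin 9)))) (.wt 2)) (.lin 11))) (.wt 0)) (.wt 1)) (.lin 9)))))
    (.lin 3)) (.split 2 117 (.lin 3) (.split 7 (-163) (.splitN 83706 (.split 1 (-50) (.split 5
    121 (.lin 4) (.split 3 (-101) .sq (.lin 11))) (.wt 0)) (.wt 1)) (.lin 9)))))) (.lin 4))))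
    (.splitN 70204 (.split 1 (-64) (.split 5 130 (.lin 4) (.split 3 (-119) (.splitN 66743 .sq
    (.wt 6)) (.lin 11))) (.wt 0)) (.wt 6))) (.lin 12))) (.split 4 60 (.lin 3) (.split 4 69 (.lin
    12) (.split 0 (-50) (.split 5 103 (.lin 4) (.split 1 (-66) (.split 5 130 (.lin 4) (.split 3
    (-133) (.split 5 139 (.lin 7) (.split 1 (-83) (.splitN 76688 .sq (.wt 6)) (.lin 11))) (.wt
    2))) (.wt 2))) (.wt 2))))) (.wt 2))))) (.split 2 136 (.split 2 73 (.split 4 79 (.splitN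
    127908 (.split 4 44 (.splitN 114251 (.split 0 (-56) (.split 5 103 (.lin 4) (.split 7 (-82)
    (.splitN 95763 (.split 4 34 (.split 6 48 (.split 4 29 .cand .cand) .cand) .cand) (.wt 1))
    (.lin 12))) (.split 5 158 (.split 7 (-92) (.lin 12) (.split 0 (-40) (.split 2 18 (.lin 3)
    (.split 5 94 (.lin 4) (.split 7 (-73) (.split 1 (-55) (.split 4 31 (.split 2 28 (.split 7
    (-74) (.lin 12) (.splitN 75848 (.split 1 (-77) (.split 5 121 (.lin 0) (.split 6 47 (.split 3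
    (-156) (.lin 6) (.wt 2)) (.wt 0))) (.wt 0)) (.wt 1))) (.lin 3)) (.wt 2)) (.wt 2)) (.lin
    12)))) (.wt 2))) (.lin 4))) (.wt 1)) (.split 0 (-66) (.lin 12) (.split 0 (-51) (.split 5 103
    (.lin 4) (.split 4 61 (.split 7 (-109) (.split 1 (-48) (.split 5 112 (.lin 4) (.split 3
    (-104) (.split 6 48 (.split 2 63 (.lin 3) (.split 1 (-65) (.split 5 121 (.lin 4) (.split 3
    (-156) (.lin 11) (.split 1 (-88) (.split 5 148 (.lin 4) (.split 3 (-137) (.splitN 79439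
    (.split 5 165 (.split 3 (-147) (.lin 7) (.split 0 (-57) (.split 2 72 (.lin 3) (.split 5 157
    (.lin 1) (.split 7 (-118) .sq (.lin 1)))) (.wt 2))) .sq) (.wt 1)) (.lin 11))) (.split 5 149
    (.split 3 (-138) (.lin 2) (.split 3 (-129) (.lin 11) (.split 0 (-62) (.split 2 72 (.lin 3)
    (.split 5 130 (.lin 1) (.split 4 52 (.split 7 (-118) (.splitN 78018 (.wt 3) (.wt 1)) (.lin
    9)) (.lin 3)))) (.wt 2)))) (.lin 0))))) (.lin 11))) (.wt 2)) (.wt 2))) (.wt 2)) (.lin 12))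
    (.lin 12))) (.wt 2)))) (.wt 1)) (.lin 12)) (.lin 9)) (.lin 2))) (.wt 1)) (.lin 11))) (.split
    5 113 (.split 3 (-93) (.lin 11) (.split 0 (-51) (.split 2 27 (.lin 3) (.split 5 76 (.lin 4)
    (.split 1 (-23) (.split 4 39 (.split 2 64 (.split 7 (-128) (.lin 2) (.split 7 (-110) (.lin
    12) (.split 0 (-64) (.split 2 36 (.lin 3) (.split 7 (-91) (.split 1 (-31) (.split 5 103 (.lin
    4) (.splitN 85902 (.split 4 33 (.split 2 55 (.split 7 (-101) (.lin 8) (.splitN 79169 (.split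
    6 47 (.split 3 (-84) (.lin 11) (.splitN 76401 (.wt 0) (.wt 1))) (.wt 0)) (.wt 1))) (.lin 0))
    (.wt 0)) (.wt 1))) (.wt 2)) (.lin 12))) (.wt 2)))) (.lin 3)) (.wt 2)) (.wt 2)))) (.wt 2)))
    (.lin 4)))

def cert5_51_9 : Cert :=
  (.split 7 (-194) (.split 2 144 (.lin 9) (.split 4 33 (.lin 12) (.splitN 73268 .sq (.splitN
    134123 (.split 2 285 (.split 4 385 (.split 7 (-335) (.lin 9) (.split 0 (-39) (.split 5 67
    (.lin 4) (.split 4 244 (.splitN 126640 (.split 2 263 (.split 7 (-317) (.lin 9) (.split 4 223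
    (.split 1 (-47) (.split 5 94 (.lin 4) (.split 3 (-92) (.splitN 85625 .sq (.splitN 92259
    (.split 0 (-94) (.split 5 148 (.lin 4) .sq) (.wt 1)) (.wt 1))) (.lin 11))) (.split 3 (-93)
    (.lin 11) (.split 0 (-59) (.split 5 85 (.lin 4) (.splitN 79964 .sq (.split 0 (-70) (.split 5
    94 (.lin 4) (.splitN 113223 (.split 2 221 (.split 4 170 (.split 5 192 (.split 1 (-29) (.split
    0 (-156) (.lin 4) (.split 5 103 (.lin 4) (.split 4 42 (.lin 8) (.split 3 (-74) (.splitN 87020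
    .sq (.split 4 61 (.wt 1) (.split 6 49 (.split 2 153 (.lin 9) (.split 3 (-84) (.lin 11)
    (.splitN 92762 .sq (.wt 1)))) (.wt 1)))) (.lin 11))))) (.split 3 (-75) (.lin 11) (.wt 2)))
    .sq) .sq) .sq) (.wt 1))) (.wt 6)))) (.wt 2)))) .sq)) .sq) (.wt 1)) .sq)) (.wt 6))) (.lin 0))
    .sq) (.wt 1))))) (.split 2 361 (.split 2 145 (.split 4 151 (.splitN 44891 (.wt 1) (.split 0
    (-79) (.split 2 54 (.lin 3) (.split 4 115 (.split 5 103 (.lin 4) (.split 4 106 (.split 7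
    (-109) (.splitN 141741 (.split 1 (-47) (.split 5 130 (.lin 4) (.split 3 (-92) (.splitN 102430
    (.split 4 51 (.split 4 34 (.splitN 80848 (.split 5 208 (.split 6 48 (.splitN 76100 (.wt 6)
    (.wt 0)) .cand) .sq) (.wt 3)) .cand) (.split 2 81 (.lin 3) (.split 7 (-136) (.splitN 93472
    (.split 5 209 (.split 6 48 (.split 2 90 (.lin 3) (.split 1 (-79) (.split 5 166 (.lin 4)
    (.split 3 (-128) (.splitN 89468 .sq (.wt 0)) (.lin 11))) (.split 3 (-120) (.lin 11) (.split 0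
    (-110) (.split 2 117 (.lin 3) (.split 5 157 (.lin 4) (.split 7 (-163) .sq (.lin 9)))) (.split
    5 176 (.split 4 79 (.splitN 86702 (.split 1 (-61) (.split 5 148 (.lin 4) (.split 3 (-110)
    (.splitN 76832 .sq (.splitN 80373 (.split 0 (-89) (.wt 0) (.split 5 158 (.wt 6) (.lin 4)))
    (.wt 0))) (.lin 11))) (.split 5 158 (.split 3 (-102) (.lin 11) (.split 7 (-163) (.split 2 117
    (.lin 9) (.split 4 60 (.lin 3) (.splitN 80873 .sq (.split 0 (-100) (.split 5 148 (.lin 4)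
    .sq) (.wt 1))))) (.split 2 118 (.split 2 109 (.split 4 70 (.split 4 61 (.split 0 (-92)
    (.split 2 99 (.lin 3) (.split 5 139 (.lin 4) (.split 7 (-145) (.splitN 81216 (.split 1 (-56)
    (.wt 2) (.split 5 149 (.split 3 (-93) (.lin 11) (.splitN 76860 (.wt 1) (.split 0 (-101) (.wt
    2) (.split 4 56 (.wt 0) (.wt 0))))) (.lin 0))) (.wt 1)) (.lin 9)))) (.split 2 100 (.split 5
    140 (.split 7 (-146) (.lin 9) (.splitN 75482 (.wt 1) (.split 3 (-94) (.split 5 139 (.lin 7)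
    (.split 1 (-56) (.split 4 56 (.wt 0) (.split 2 99 (.lin 0) (.split 7 (-145) (.wt 0) (.lin
    1)))) (.lin 11))) (.wt 6)))) (.lin 4)) (.lin 3))) (.split 0 (-84) (.lin 3) (.split 2 108
    (.lin 3) (.split 7 (-154) (.splitN 80012 (.wt 0) (.wt 1)) (.lin 9))))) (.lin 3)) (.lin 9))
    (.lin 2)))) (.lin 4))) (.wt 1)) (.split 2 126 (.lin 3) (.split 7 (-172) (.splitN 90116 .sq
    (.wt 1)) (.lin 9)))) (.lin 4)))))) .cand) .sq) (.wt 1)) (.lin 12)))) (.wt 1)) (.lin 11)))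
    (.split 3 (-93) (.lin 11) (.splitN 131906 (.split 4 51 (.splitN 113636 (.split 1 (-29)
    (.split 5 112 (.lin 4) (.splitN 97695 (.split 4 34 (.split 6 48 (.split 4 29 .cand .cand)
    .cand) .cand) (.wt 1))) (.split 3 (-75) (.lin 11) (.splitN 94181 (.split 4 31 (.split 7
    (-124) (.split 0 (-101) (.split 5 121 (.lin 4) (.split 0 (-140) (.split 2 117 (.lin 3)
    (.split 5 157 (.lin 0) (.split 5 166 (.lin 4) (.split 7 (-172) .sq (.lin 8))))) (.wt 2)))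
    (.lin 12)) (.wt 0)) (.wt 0)) (.wt 6)))) (.wt 1)) (.split 0 (-147) (.lin 3) (.split 0 (-138)
    (.lin 12) (.split 0 (-90) (.split 5 112 (.lin 4) (.split 4 97 (.split 7 (-145) (.splitN
    112833 (.split 1 (-21) (.split 5 121 (.lin 4) (.split 3 (-74) (.split 0 (-93) (.split 5 130
    (.lin 4) (.split 6 48 (.split 2 108 (.lin 3) (.split 3 (-84) (.lin 11) (.split 0 (-106)
    (.split 2 117 (.lin 3) (.split 4 79 (.split 5 139 (.lin 4) (.split 7 (-163) (.splitN 83150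
    .sq (.splitN 90462 (.split 1 (-38) (.wt 1) (.split 3 (-75) (.lin 11) (.wt 0))) (.wt 1)))
    (.lin 9))) (.lin 3))) (.wt 2)))) (.wt 2))) (.wt 2)) (.lin 11))) (.wt 0)) (.wt 1)) (.lin 12))
    (.lin 12))) (.wt 2))))) (.wt 1)))) (.wt 1)) (.lin 12)) (.lin 12))) (.lin 3))) cert5_51_8))
    (.lin 12)) (.lin 9)) (.lin 1)))

def cert5_51_10 : Cert :=
  (.split 6 39 (.split 2 27 (.lin 3) (.splitN 46449 (.wt 1) (.split 0 (-84) (.split 2 81 (.lin 3)
    (.split 5 112 (.lin 4) (.split 7 (-109) (.split 7 (-118) (.splitN 541867 (.split 2 3010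
    (.split 4 2950 (.split 5 3010 (.split 3 (-341) (.wt 2) (.split 1 (-309) (.lin 11) (.split 0
    (-711) .sq (.split 5 1013 (.split 3 (-324) (.wt 2) (.split 2 709 (.split 7 (-1001) (.lin 2)
    (.split 4 646 (.splitN 464614 (.split 7 (-658) .sq (.split 4 556 (.split 1 (-69) (.split 3
    (-101) (.wt 2) (.lin 11)) (.split 3 (-102) (.lin 11) (.split 4 117 (.splitN 289672 (.split 0
    (-502) .sq (.split 5 563 (.split 6 30 (.wt 2) (.split 3 (-56) (.splitN 193479 (.split 0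
    (-392) .sq (.split 2 389 (.split 5 396 (.split 1 (-37) (.split 3 (-74) (.wt 2) (.lin 11))
    (.split 3 (-66) (.lin 11) (.splitN 170980 (.split 0 (-362) .sq (.split 7 (-369) .sq (.split 2
    334 (.split 0 (-336) (.lin 12) (.split 4 53 (.splitN 146449 (.split 7 (-332) .sq (.split 2
    298 (.split 4 38 (.split 0 (-170) (.wt 2) (.split 2 163 (.split 5 203 (.split 1 (-28) (.wt 2)
    (.split 3 (-57) (.lin 11) .cand)) (.lin 0)) (.lin 3))) (.split 0 (-282) (.lin 12) (.split 2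
    99 (.lin 3) (.split 5 311 (.split 7 (-136) (.splitN 135244 (.split 7 (-310) .sq (.split 2 280
    (.split 1 (-25) (.split 3 (-65) (.wt 2) (.lin 11)) (.split 3 (-57) (.lin 11) (.split 0 (-112)
    (.split 2 126 (.lin 3) (.split 7 (-163) (.split 5 139 (.lin 4) (.splitN 119250 (.split 0
    (-230) (.wt 2) (.split 2 244 (.split 7 (-281) (.lin 2) (.split 0 (-120) (.split 2 135 (.lin
    3) (.split 7 (-172) (.split 5 148 (.lin 4) (.split 2 206 (.split 0 (-192) (.lin 3) (.split 7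
    (-236) (.lin 2) (.split 0 (-129) (.split 2 144 (.lin 3) (.split 5 157 (.lin 4) (.splitN
    113778 (.split 7 (-199) .sq (.split 2 154 (.split 0 (-147) (.lin 3) (.split 5 167 (.splitN
    105391 (.split 0 (-142) (.split 2 153 (.lin 3) (.split 5 166 (.lin 1) (.split 7 (-190) .sq
    (.lin 1)))) (.wt 0)) (.wt 6)) (.lin 0))) (.lin 2))) (.wt 1)))) (.wt 2)))) .sq)) (.lin 2)))
    (.wt 2))) (.lin 3))) (.wt 1))) (.lin 2))) (.wt 2)))) (.lin 2))) (.wt 1)) (.lin 9)) (.lin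
    4))))) (.lin 2))) (.wt 1)) (.split 2 108 (.lin 0) (.split 2 117 (.lin 3) (.split 7 (-154)
    (.splitN 147024 (.split 7 (-321) .sq (.split 5 284 (.split 0 (-255) (.lin 12) (.split 1 (-25)
    (.split 3 (-65) (.split 0 (-123) (.wt 2) (.split 2 199 (.split 7 (-236) (.lin 2) (.split 5
    149 (.split 4 68 (.wt 2) (.splitN 93038 (.wt 1) .cand)) (.lin 4))) (.lin 3))) (.lin 11))
    (.split 3 (-57) (.lin 11) (.splitN 139607 (.split 0 (-147) (.split 2 180 (.lin 3) (.split 7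
    (-217) (.split 5 175 (.lin 4) .sq) (.lin 2))) (.wt 2)) (.wt 1))))) (.lin 6))) (.wt 1)) (.lin
    9)))))) (.lin 2)))) (.wt 1)))) .sq) .sq)) (.wt 1)) (.lin 11))) (.lin 4))) (.wt 3)) (.split 0
    (-525) (.lin 12) (.split 2 180 (.lin 3) (.split 5 590 (.split 7 (-208) (.splitN 115919 .sq
    (.splitN 220747 (.split 1 (-36) (.wt 3) (.split 3 (-66) (.lin 11) (.split 2 366 (.split 4 313
    (.split 0 (-273) (.lin 3) (.split 7 (-407) (.lin 2) (.split 6 26 (.wt 2) (.split 3 (-56)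
    (.split 0 (-97) (.split 5 121 (.lin 4) (.split 7 (-226) (.splitN 129059 .sq (.split 1 (-29)
    (.wt 0) (.split 3 (-57) (.lin 11) (.wt 6)))) (.lin 12))) (.wt 6)) (.lin 11))))) (.lin 0))
    .sq))) (.wt 3))) (.lin 9)) (.lin 4))))))) (.lin 12))) (.wt 3)) (.lin 3))) .sq)) (.lin 4)))))
    (.div 5)) (.lin 3)) (.div 2)) (.wt 3)) (.lin 12)) (.lin 9)))) cert5_51_7))) (.split 3 (-65)
    (.splitN 809046 (.split 2 4486 (.split 0 (-4512) (.lin 3) (.split 4 4498 (.split 5 4486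
    (.split 3 (-4494) (.lin 7) (.splitN 763662 (.split 2 4234 (.split 4 4246 (.split 0 (-865) .sq
    (.splitN 705926 (.split 1 (-830) .sq (.split 3 (-876) (.lin 11) (.splitN 658460 (.split 0
    (-803) .sq (.split 2 801 (.split 4 808 (.splitN 610596 (.split 1 (-771) .sq (.split 3 (-822)
    (.lin 11) (.split 4 770 (.split 5 772 (.split 0 (-169) (.split 2 144 (.lin 3) (.split 5 193
    (.lin 4) (.split 7 (-190) (.splitN 131876 .sq (.split 1 (-45) (.wt 0) (.split 3 (-93) (.lin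
    11) (.wt 1)))) (.lin 9)))) (.splitN 454969 (.split 2 661 (.split 3 (-666) .sq (.split 7
    (-665) .sq (.split 2 613 (.split 4 628 (.split 1 (-111) (.split 5 157 (.lin 4) (.split 3
    (-164) (.splitN 74222 .sq (.splitN 145849 (.split 1 (-289) .sq (.split 3 (-336) (.lin 11)
    (.split 2 262 (.split 4 277 (.split 3 (-310) .sq (.split 7 (-271) .sq (.split 2 217 (.split 4
    232 (.splitN 136011 (.split 7 (-252) .sq (.split 2 199 (.split 4 214 (.split 0 (-79) (.split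
    2 54 (.lin 3) (.split 5 202 (.lin 4) (.split 7 (-109) (.splitN 106622 .sq (.wt 0)) (.lin
    12)))) (.splitN 121460 (.split 3 (-271) .sq (.split 7 (-225) .sq (.split 2 172 (.split 4 187
    (.split 7 (-118) (.split 2 63 (.lin 9) (.split 4 33 (.lin 3) (.splitN 89270 .sq (.wt 1))))
    (.split 2 64 (.split 4 70 (.splitN 106911 (.split 3 (-239) .sq (.split 0 (-39) (.split 2 18
    (.lin 3) (.split 5 166 (.lin 4) (.split 4 61 (.split 7 (-73) (.splitN 79406 .sq (.split 4 26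
    (.wt 1) (.split 7 (-82) (.splitN 89849 (.split 6 51 (.split 7 (-104) (.wt 1) (.split 2 55
    (.split 4 52 (.split 0 (-48) (.split 2 45 (.lin 3) (.split 5 175 (.lin 4) (.split 7 (-91) .sq
    (.lin 9)))) (.wt 1)) (.lin 3)) (.lin 9))) (.wt 1)) (.wt 1)) (.lin 12)))) (.lin 12)) (.lin
    12)))) (.wt 6))) (.wt 1)) (.lin 12)) (.lin 9))) (.lin 3)) (.lin 9)))) (.wt 1))) (.lin 3))
    (.lin 9))) (.wt 1)) (.lin 3)) (.lin 9)))) (.lin 3)) .sq))) (.wt 1))) (.lin 11))) (.split 5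
    275 (.split 3 (-165) (.lin 11) cert5_51_9) (.lin 4))) (.lin 3)) (.lin 9)))) .sq) (.wt 1)))
    .sq) .sq))) (.wt 1)) (.lin 3)) .sq)) (.wt 1)))) (.wt 1))) (.lin 3)) (.div 2)) (.wt 1))) (.div
    5)) (.lin 3))) (.div 2)) (.wt 1)) (.lin 11)))

def cert5_51_11 : Cert :=
  (.splitN 83412 (.split 0 (-237) .sq (.split 2 190 (.split 3 (-243) .sq (.split 6 215 (.split 5
    243 (.split 2 172 (.split 7 (-236) (.lin 8) (.split 4 11 (.split 0 (-74) (.split 5 94 (.lin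
    0) (.splitN 43066 (.split 1 (-47) (.wt 2) (.split 6 99 (.wt 2) (.split 5 139 (.lin 0) (.split
    7 (-109) .sq (.lin 8))))) (.wt 3))) (.lin 3)) (.split 1 (-59) (.split 2 127 (.split 0 (-174)
    (.lin 4) (.split 5 130 (.lin 0) (.split 3 (-128) (.splitN 53180 .sq (.split 6 100 (.split 7
    (-141) (.wt 0) (.split 2 73 (.split 0 (-120) (.lin 12) (.split 6 89 (.split 7 (-127) (.wt 0)
    (.split 2 55 (.split 6 84 (.split 7 (-114) (.wt 0) (.split 2 46 (.split 0 (-93) (.lin 12)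
    (.split 7 (-109) (.wt 1) (.split 2 37 (.split 0 (-84) (.lin 12) (.split 6 76 (.split 1 (-119)
    (.wt 0) (.split 5 203 (.split 7 (-100) (.wt 0) (.split 5 185 (.split 2 28 (.split 1 (-110)
    (.wt 0) (.split 3 (-174) (.lin 2) (.split 6 68 (.split 0 (-72) (.wt 0) (.split 2 19 (.wt 1)
    (.lin 3))) (.wt 1)))) (.lin 9)) (.lin 8))) (.lin 0))) (.wt 1))) (.lin 9)))) (.lin 9))) (.wt
    1)) (.lin 9))) (.wt 1))) (.lin 9))) (.wt 1))) (.lin 11)))) (.lin 0)) (.split 6 115 (.split 3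
    (-165) (.lin 11) (.split 1 (-38) (.split 5 103 (.lin 0) (.split 3 (-101) (.splitN 68078
    (.split 6 84 (.split 3 (-138) (.lin 11) (.split 7 (-127) (.split 2 45 (.lin 9) (.split 0
    (-110) (.split 5 148 (.lin 4) .sq) (.lin 12))) (.split 2 73 (.split 2 55 (.split 0 (-102)
    (.lin 12) (.split 5 176 (.split 5 158 (.split 6 71 (.split 3 (-129) (.lin 11) (.split 7
    (-100) (.split 5 112 (.lin 6) (.split 2 27 (.lin 9) (.split 0 (-83) (.split 1 (-47) (.split 5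
    130 (.lin 4) (.split 3 (-110) (.splitN 53243 .sq (.splitN 58239 (.split 0 (-99) (.wt 0)
    (.split 1 (-55) (.wt 0) (.split 5 140 (.split 6 63 (.wt 0) (.split 3 (-119) .sq (.lin 11)))
    (.lin 4)))) (.wt 0))) (.lin 11))) (.split 5 149 (.split 3 (-111) (.lin 11) (.split 6 69
    (.split 3 (-102) (.lin 11) (.splitN 58827 (.split 7 (-103) (.split 2 45 (.lin 2) (.split 0
    (-92) (.wt 2) (.lin 3))) (.wt 0)) (.wt 1))) (.wt 2))) (.lin 0))) (.lin 12)))) (.split 2 28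
    (.split 0 (-75) (.lin 12) (.split 5 131 (.splitN 53128 (.wt 0) (.splitN 60751 (.split 1 (-39)
    (.split 5 112 (.lin 0) (.splitN 58919 (.split 6 69 (.split 3 (-120) (.lin 11) (.split 1 (-48)
    (.split 3 (-119) (.split 0 (-66) (.split 2 27 (.lin 3) (.split 7 (-91) (.wt 0) (.lin 1)))
    (.wt 0)) (.lin 11)) (.wt 0))) (.wt 0)) (.wt 1))) (.wt 0)) (.wt 1))) (.lin 4))) (.lin 9))))
    (.split 5 121 (.lin 0) (.split 0 (-83) (.split 7 (-100) (.split 3 (-119) (.splitN 54395 .sq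
    (.wt 1)) (.lin 11)) (.lin 9)) (.lin 3)))) (.lin 4)) (.lin 0))) (.lin 9)) (.lin 2)))) (.split
    0 (-92) (.split 5 130 (.lin 0) (.split 7 (-109) (.split 3 (-128) (.splitN 63872 .sq (.wt 1))
    (.lin 11)) (.lin 9))) (.lin 3))) (.wt 1)) (.lin 11))) (.split 3 (-138) (.lin 11) (.split 6
    104 (.split 3 (-129) (.lin 11) (.split 7 (-159) (.split 0 (-146) (.split 5 166 (.lin 4) .sq)
    (.lin 12)) (.split 2 91 (.split 0 (-138) (.lin 12) (.split 5 167 (.split 0 (-73) (.split 5 94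
    (.lin 4) (.split 6 79 (.split 3 (-102) (.lin 11) (.split 0 (-88) (.split 7 (-109) (.split 1
    (-21) (.split 5 121 (.lin 4) (.split 3 (-92) (.splitN 61737 (.split 0 (-93) (.split 2 45
    (.lin 3) (.split 5 130 (.lin 4) (.split 7 (-118) (.splitN 56807 .sq (.split 6 66 (.split 2 54
    (.lin 0) (.split 3 (-93) (.lin 11) (.split 0 (-129) (.wt 0) (.split 2 82 (.split 0 (-128)
    (.wt 0) (.split 7 (-119) (.split 2 63 (.lin 2) (.split 5 139 (.lin 0) .sq)) (.wt 0))) (.lin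
    3))))) (.wt 1))) (.lin 8)))) (.wt 2)) (.wt 1)) (.lin 11))) (.wt 2)) (.lin 12)) (.wt 2))) (.wt
    2))) (.wt 2)) (.lin 4))) (.lin 9)))) (.wt 2))))) (.split 0 (-119) (.split 5 139 (.lin 0)
    (.split 7 (-136) (.split 3 (-137) .sq (.lin 11)) (.lin 9))) (.lin 3)))))) (.lin 0)) .sq)
    (.lin 11))) (.lin 3))) (.wt 1))

def cert5_51_12 : Cert :=
  (.split 2 18 (.split 0 (-40) (.split 5 67 (.lin 4) (.split 6 271 (.split 0 (-255) (.lin 3)
    (.split 7 (-281) (.lin 9) (.split 6 210 (.split 0 (-192) (.lin 3) (.split 7 (-218) (.lin 9)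
    (.split 6 168 (.split 0 (-147) (.lin 3) (.split 7 (-173) (.lin 9) (.split 6 136 (.split 0
    (-120) (.lin 3) (.split 7 (-146) (.lin 9) (.split 1 (-23) (.split 5 76 (.lin 4) (.split 0
    (-48) (.split 6 70 (.lin 3) (.split 5 85 (.lin 4) (.split 0 (-59) (.split 6 79 (.lin 3)
    (.split 5 94 (.lin 4) (.split 0 (-72) (.split 6 88 (.lin 3) (.split 5 103 (.lin 4) (.split 3
    (-119) (.split 7 (-100) (.splitN 49841 .sq (.splitN 58775 (.split 5 310 (.split 1 (-228)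
    (.lin 4) (.split 2 2 (.wt 1) (.split 3 (-345) (.lin 10) (.splitN 55764 (.split 1 (-62)
    (.split 3 (-155) .sq (.lin 2)) (.wt 0)) (.wt 6))))) (.div 5)) (.wt 6))) (.lin 12)) (.lin
    5)))) (.wt 2)))) (.wt 2)))) (.wt 2))) (.wt 2)))) (.wt 2)))) (.wt 2)))) (.wt 2)))) (.wt 2)))
    (.wt 2)) (.split 7 (-82) (.splitN 134756 (.split 0 (-334) .sq (.split 3 (-342) .sq (.split 0
    (-39) (.split 5 67 (.lin 4) (.split 5 335 (.split 2 298 (.split 0 (-309) (.lin 4) (.split 7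
    (-362) (.lin 8) (.split 6 126 (.split 1 (-74) (.split 5 121 (.lin 4) (.split 7 (-308) (.lin
    8) (.split 3 (-137) (.splitN 52892 .sq (.splitN 86101 (.split 0 (-48) (.split 5 130 (.lin 4)
    (.splitN 56096 .sq (.split 0 (-179) .sq (.split 2 163 (.split 7 (-227) (.lin 12) (.split 1
    (-186) .sq (.split 3 (-219) .sq (.split 1 (-156) (.lin 11) (.split 0 (-57) (.split 5 139
    (.lin 4) (.split 7 (-91) (.splitN 61181 .sq (.splitN 78966 (.split 0 (-147) .sq (.split 2 136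
    (.split 7 (-200) (.lin 12) (.split 3 (-190) .sq (.split 0 (-67) (.split 5 148 (.lin 4)
    (.split 7 (-100) (.splitN 66752 .sq (.splitN 74660 (.split 4 29 (.wt 1) (.split 7 (-109)
    (.split 2 21 (.wt 1) (.split 4 34 (.wt 1) (.split 7 (-118) .sq (.lin 12)))) (.lin 12))) (.wt
    1))) (.lin 12))) (.wt 6)))) (.lin 3))) (.wt 1))) (.lin 12))) (.wt 6)))))) (.lin 3))))) (.wt
    6)) (.wt 1))) (.lin 11)))) (.split 3 (-192) (.lin 11) (.splitN 125223 (.split 0 (-54) (.split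
    5 76 (.lin 4) (.split 5 319 (.split 0 (-291) (.lin 4) (.split 7 (-321) .sq (.split 1 (-37)
    (.split 0 (-273) (.lin 4) (.split 5 94 (.lin 4) (.split 3 (-101) (.split 0 (-58) (.split 5
    103 (.lin 4) (.split 7 (-91) (.splitN 90024 (.split 0 (-230) .sq (.split 2 217 (.split 7
    (-281) (.lin 12) (.split 6 112 (.split 3 (-174) (.lin 11) (.split 5 243 (.split 2 190 (.split
    0 (-201) (.lin 4) (.split 7 (-254) (.lin 8) (.split 6 102 (.split 3 (-165) (.lin 11) (.split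
    7 (-239) .sq (.split 6 80 (.split 3 (-147) (.lin 11) (.split 0 (-68) (.split 5 112 (.lin 4)
    (.split 7 (-100) (.splitN 83496 (.split 7 (-217) .sq (.split 2 145 (.split 4 38 (.splitN
    77204 (.split 7 (-154) (.split 2 72 (.lin 9) (.split 0 (-119) (.split 5 157 (.lin 4) .sq)
    (.lin 12))) (.split 0 (-120) (.lin 12) (.split 0 (-79) (.split 2 27 (.lin 3) (.split 5 121
    (.lin 4) (.split 7 (-109) (.split 6 72 (.split 2 36 (.lin 3) (.split 3 (-138) (.lin 11)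
    (.split 1 (-52) (.split 5 139 (.lin 4) (.split 3 (-119) (.splitN 68026 (.split 0 (-85)
    (.split 5 148 (.lin 4) (.split 7 (-118) .sq (.lin 12))) (.wt 2)) (.wt 1)) (.lin 11))) (.split
    3 (-120) (.lin 11) (.splitN 63940 (.split 0 (-94) (.split 2 54 (.lin 3) (.split 5 139 (.lin
    4) (.split 7 (-127) .sq (.lin 12)))) (.wt 0)) (.wt 6)))))) (.wt 2)) (.lin 12)))) (.wt 2))))
    (.wt 1)) (.split 0 (-165) (.lin 12) (.split 7 (-118) (.splitN 78162 (.split 0 (-115) (.split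
    2 81 (.lin 3) (.split 5 157 (.lin 4) (.split 7 (-163) .sq (.lin 12)))) (.wt 2)) (.wt 1))
    (.lin 12)))) (.lin 9))) (.wt 1)) (.lin 12))) (.wt 2))) (.split 3 (-128) (.splitN 60890
    (.split 4 39 (.split 7 (-111) (.split 5 121 (.lin 8) .sq) (.wt 0)) (.wt 0)) (.wt 6)) (.lin
    11))))) (.wt 2)))) (.lin 0)) .sq)) (.wt 2))) (.lin 3))) (.wt 1)) (.lin 12))) (.wt 2)) (.lin
    11)))) (.split 3 (-156) (.lin 11) (.split 0 (-95) (.split 5 121 (.lin 4) (.split 0 (-107)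
    (.split 5 130 (.lin 4) (.split 6 78 (.split 2 54 (.lin 0) (.split 3 (-102) (.lin 11) (.splitN
    74038 (.split 4 40 (.split 0 (-174) (.split 2 135 (.lin 3) (.split 5 184 (.lin 0) (.split 7
    (-208) .sq (.lin 12)))) (.wt 2)) (.wt 0)) (.wt 6)))) (.wt 2))) (.wt 2))) (.wt 2)))))) .sq))
    (.wt 2)) (.wt 1)))) (.split 0 (-101) (.split 5 121 (.lin 0) (.split 7 (-154) (.split 3 (-155)
    (.splitN 92168 .sq (.wt 1)) (.lin 11)) (.lin 9))) (.lin 3))))) (.lin 0)) .sq)) (.wt 2))))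
    (.wt 1)) (.lin 9)))

def cert5_51_13 : Cert :=
  (.split 4 54 (.splitN 172763 (.split 0 (-393) .sq (.split 1 (-391) .sq (.split 3 (-399) .sq
    (.split 1 (-336) (.lin 11) (.split 5 394 (.split 7 (-396) .sq (.split 2 325 (.split 4 19
    (.split 5 67 (.lin 0) (.split 0 (-47) (.splitN 101001 (.split 0 (-280) .sq (.split 2 226
    (.split 6 287 (.split 3 (-288) .sq (.split 1 (-219) (.lin 11) (.split 5 283 (.split 2 208
    (.split 0 (-255) (.lin 4) (.split 2 14 (.splitN 81277 (.split 3 (-252) .sq (.split 1 (-192)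
    (.lin 2) (.split 2 3 (.splitN 30984 (.split 5 166 (.split 3 (-174) (.lin 10) (.split 0 (-100)
    .sq (.split 6 107 (.split 7 (-110) (.lin 9) (.split 4 15 (.split 5 76 (.lin 0) (.splitN 24344
    .sq (.wt 1))) (.wt 2))) (.lin 3)))) (.div 5)) (.wt 1)) (.split 5 76 (.lin 0) (.split 0 (-56)
    (.split 7 (-73) (.splitN 74653 (.split 0 (-223) .sq (.split 3 (-231) .sq (.split 7 (-218)
    (.lin 2) (.split 6 206 (.split 5 230 (.split 4 11 (.split 0 (-65) (.splitN 42304 (.split 6 82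
    (.wt 2) (.split 5 112 (.lin 0) (.split 0 (-92) (.split 3 (-110) (.split 7 (-100) .sq (.lin
    9)) (.lin 5)) (.lin 3)))) (.wt 3)) (.lin 3)) (.split 0 (-201) (.lin 3) (.split 1 (-58)
    (.split 5 121 (.lin 0) (.split 0 (-165) (.lin 4) (.split 3 (-128) (.splitN 48158 .sq (.splitN
    58309 (.split 6 137 (.split 0 (-129) (.lin 3) (.split 6 129 (.split 0 (-120) (.lin 3) (.split
    7 (-137) (.lin 9) (.split 6 113 (.split 0 (-102) (.lin 3) (.split 7 (-119) (.lin 9) (.split 6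
    102 (.split 0 (-93) (.lin 3) (.split 7 (-110) (.lin 9) (.split 6 95 (.split 0 (-84) (.lin 3)
    (.split 7 (-101) (.lin 9) (.split 1 (-109) .sq (.split 3 (-192) (.lin 2) (.split 6 86 (.split
    0 (-75) (.lin 3) (.split 7 (-92) (.lin 9) (.splitN 55494 (.split 6 77 (.split 0 (-66) (.lin
    3) (.split 7 (-83) (.lin 9) (.split 6 67 (.split 0 (-57) (.lin 3) (.split 7 (-74) (.lin 9)
    (.wt 0))) (.wt 2)))) (.wt 2)) (.wt 1)))) (.wt 2)))))) (.wt 6)))) (.wt 6)))) (.wt 6)))) (.wt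
    1))) (.wt 1)) (.wt 1))) (.lin 2)))) (.split 6 175 (.split 0 (-165) (.lin 3) (.split 7 (-182)
    (.lin 9) (.split 6 149 (.split 0 (-138) (.lin 3) (.split 3 (-201) (.lin 5) (.split 7 (-155)
    (.lin 9) (.split 6 122 (.split 0 (-111) (.lin 3) (.split 3 (-174) (.lin 5) (.split 7 (-128)
    (.lin 9) (.split 6 98 (.split 0 (-93) (.lin 3) (.split 3 (-156) (.lin 5) (.split 7 (-110)
    (.lin 9) (.split 1 (-25) (.split 5 85 (.lin 0) (.split 0 (-57) (.split 6 70 (.lin 3) (.split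
    5 94 (.lin 0) (.split 7 (-82) (.splitN 57613 (.split 1 (-30) (.split 5 103 (.lin 0) (.split 0
    (-74) (.split 6 79 (.lin 3) (.wt 2)) (.wt 2))) (.wt 0)) (.wt 1)) (.lin 9)))) (.wt 2))) (.wt
    2))))) (.wt 2))))) (.wt 2))))) (.wt 2)))) (.wt 2))))) (.lin 10)) (.lin 9))))) (.wt 1)) (.lin
    9)) (.lin 3)))))) (.wt 1)) (.split 5 85 (.lin 0) (.split 0 (-65) (.split 7 (-82) cert5_51_11
    (.lin 9)) (.lin 3))))) (.lin 0)) .sq))) (.lin 3)) (.lin 3))) (.wt 1)) (.lin 3))) (.split 0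
    (-363) (.lin 12) cert5_51_12)) (.lin 9))) .sq))))) (.wt 1)) (.split 0 (-51) (.split 5 76
    (.lin 4) (.split 7 (-118) (.splitN 127850 (.split 0 (-304) .sq (.split 6 135 (.split 1 (-300)
    .sq (.split 3 (-435) (.lin 11) (.split 6 129 (.split 2 298 (.split 4 367 (.split 7 (-425)
    (.lin 9) (.split 3 (-311) .sq (.split 1 (-246) (.lin 11) (.split 0 (-61) (.split 5 85 (.lin
    4) (.split 7 (-127) (.split 1 (-22) (.split 5 94 (.lin 4) (.split 3 (-92) (.splitN 100437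
    (.split 6 113 (.split 2 18 (.lin 3) (.split 0 (-236) .sq (.split 6 105 (.split 2 27 (.lin 3)
    (.split 1 (-228) .sq (.split 2 227 (.split 4 259 (.split 7 (-326) (.lin 9) (.split 3 (-244)
    .sq (.split 1 (-174) (.lin 11) (.split 0 (-72) (.split 5 103 (.lin 4) (.split 7 (-136)
    (.splitN 94193 (.split 6 92 (.split 2 45 (.lin 3) (.split 0 (-208) .sq (.split 1 (-30)
    (.split 5 112 (.lin 4) (.split 3 (-101) (.splitN 58067 .sq (.split 0 (-75) (.split 2 54 (.lin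
    3) (.split 5 121 (.lin 4) (.split 7 (-145) (.splitN 65033 .sq (.split 6 88 (.split 4 223
    (.split 7 (-308) (.lin 9) (.split 0 (-85) (.split 2 72 (.lin 3) (.split 5 130 (.lin 4)
    (.split 7 (-154) (.splitN 73880 .sq (.split 1 (-85) (.wt 1) (.split 3 (-165) (.lin 11)
    (.split 1 (-71) (.wt 1) (.split 3 (-147) (.lin 11) (.splitN 81308 (.split 4 62 (.wt 1)
    (.split 2 81 (.lin 3) (.split 7 (-163) .sq (.lin 12)))) (.wt 1))))))) (.lin 12)))) (.wt 6)))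
    (.lin 3)) (.wt 2))) (.lin 12)))) (.wt 6))) (.lin 11))) (.wt 2)))) (.wt 2)) (.wt 1)) (.lin
    12))) (.wt 2))))) (.lin 3)) .sq))) (.wt 2)))) (.wt 2)) (.wt 1)) (.lin 11))) (.wt 2)) (.lin
    12))) (.wt 2))))) (.lin 3)) .sq) (.wt 2)))) (.wt 2))) (.wt 1)) (.lin 12))) (.wt 2)))

def cert5_51_14 : Cert :=
  (.split 7 (-100) (.split 2 63 (.lin 9) (.split 4 60 (.lin 3) (.split 4 69 (.lin 12) (.splitN
    762775 (.split 2 4234 (.split 4 4246 (.split 7 (-4268) (.lin 9) (.split 1 (-860) .sq (.split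
    5 887 (.split 3 (-903) (.lin 7) (.splitN 685320 (.split 1 (-813) .sq (.split 3 (-849) (.lin
    11) (.split 2 814 (.split 4 1618 (.split 7 (-1649) (.lin 1) (.split 4 826 (.split 7 (-848)
    (.lin 9) (.splitN 634956 (.split 4 782 (.split 7 (-787) .sq (.split 2 757 (.split 1 (-123)
    (.split 5 148 (.lin 4) (.split 3 (-146) (.split 3 (-155) (.splitN 82682 .sq (.splitN 145469
    (.split 1 (-278) .sq (.split 5 302 (.split 3 (-318) (.lin 7) (.split 6 34 (.split 2 72 (.lin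
    9) (.split 3 (-300) (.lin 11) (.split 0 (-27) (.wt 2) (.split 4 78 (.lin 3) (.splitN 113489
    (.split 2 616 (.split 7 (-641) (.lin 9) (.splitN 91330 (.split 7 (-150) (.split 2 126 (.lin
    9) (.split 4 132 (.lin 3) .sq)) (.wt 0)) (.wt 6))) (.div 2)) (.wt 1)))))) (.wt 6))) (.lin
    4))) (.wt 1))) (.lin 11)) (.lin 7))) (.split 5 149 (.split 3 (-165) (.lin 7) (.split 3 (-156)
    (.lin 11) (.splitN 462069 (.split 2 663 (.split 4 673 (.split 1 (-49) (.split 5 76 (.lin 4)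
    (.split 3 (-74) (.split 3 (-83) (.splitN 165928 (.split 6 33 (.split 2 72 (.lin 9) (.split 3
    (-147) (.lin 11) (.split 2 361 (.split 7 (-461) (.lin 1) (.split 7 (-369) .sq (.split 2 334
    (.split 4 340 (.split 0 (-25) (.split 5 85 (.lin 4) (.split 3 (-128) (.wt 2) (.split 5 122
    (.split 1 (-93) (.lin 11) (.split 7 (-240) (.wt 2) (.split 2 208 (.split 4 241 (.split 4 205
    (.split 3 (-114) (.wt 2) (.split 5 113 (.split 1 (-84) (.lin 11) (.split 7 (-188) (.wt 2)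
    (.split 2 154 (.split 4 178 (.split 4 151 (.split 3 (-106) (.wt 2) (.split 5 104 (.split 4 70
    (.wt 2) (.split 2 81 (.lin 3) (.split 7 (-109) (.split 3 (-98) (.wt 2) (.split 5 95 (.splitN
    101408 (.wt 6) (.split 7 (-170) (.wt 0) (.split 2 136 (.split 4 133 (.split 7 (-162) (.wt 0)
    (.split 2 127 (.split 4 124 (.split 3 (-92) (.wt 2) (.split 5 86 (.split 1 (-57) (.lin 11)
    (.splitN 111221 (.wt 6) (.split 7 (-134) (.wt 0) (.split 2 100 (.split 4 97 (.splitN 120507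
    (.wt 6) (.split 4 87 (.wt 0) (.split 2 90 (.lin 0) (.split 7 (-118) (.wt 0) (.lin 1)))))
    (.lin 0)) (.lin 1))))) (.lin 7))) (.lin 3)) (.lin 9))) (.lin 3)) (.lin 9)))) (.lin 7))) (.lin
    9)))) (.lin 7))) (.lin 3)) (.lin 0)) (.lin 9)))) (.lin 7))) (.lin 3)) (.lin 0)) (.lin 9))))
    (.lin 7)))) (.wt 2)) (.lin 3)) (.lin 9)))) .sq))) (.wt 2)) (.wt 1)) (.lin 11)) (.lin 7)))
    (.split 5 77 (.split 3 (-93) (.lin 7) (.split 3 (-84) (.lin 11) (.split 0 (-23) (.split 5 49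
    (.lin 4) (.split 1 (-22) (.split 5 58 (.lin 4) (.split 3 (-56) (.split 6 28 (.split 3 (-75)
    (.lin 7) (.split 7 (-108) (.split 2 81 (.lin 9) (.split 4 78 (.lin 3) (.split 7 (-119)
    (.split 2 99 (.lin 9) (.split 4 96 (.lin 3) (.split 3 (-57) (.split 5 67 (.lin 7) (.split 1
    (-38) (.split 7 (-154) (.split 2 126 (.lin 9) (.split 4 123 (.lin 3) (.split 7 (-185) (.split
    2 162 (.lin 9) (.split 4 159 (.lin 3) (.splitN 125060 (.split 7 (-221) (.split 4 195 (.lin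
    12) .sq) (.wt 2)) (.wt 1)))) (.wt 2)))) (.wt 2)) (.lin 11))) (.wt 2)))) (.wt 2)))) (.wt 2)))
    (.wt 2)) (.lin 7))) (.wt 2))) (.wt 2)))) (.lin 4))) (.lin 3)) .sq) (.wt 1)))) (.lin 4)))
    (.lin 9))) .sq) (.wt 1))) (.lin 3))) (.lin 0)) .sq))) (.wt 1))) (.lin 4)))) (.lin 3)) (.div
    2)) (.wt 1))))) (.split 2 64 (.split 4 70 (.split 1 (-48) (.split 5 76 (.lin 4) (.split 3
    (-74) (.split 3 (-83) (.splitN 633218 (.split 1 (-785) .sq (.split 5 851 (.split 3 (-912)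
    (.lin 6) (.split 3 (-849) (.lin 2) (.splitN 585063 (.split 3 (-756) .sq (.split 5 752 (.split
    6 30 (.split 7 (-69) (.split 2 45 (.lin 9) (.split 4 42 (.lin 3) (.splitN 189696 (.split 1
    (-407) .sq (.split 5 446 (.split 3 (-412) .sq (.split 0 (-25) (.split 4 61 (.split 1 (-147)
    (.wt 2) (.split 5 176 (.split 1 (-108) (.wt 2) (.split 5 149 (.split 5 131 (.split 1 (-94)
    (.wt 2) (.split 5 122 (.split 3 (-100) (.wt 2) (.split 5 95 (.split 1 (-66) (.lin 11) (.split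
    4 45 (.wt 2) (.split 2 54 (.lin 3) (.split 7 (-82) (.splitN 121332 (.wt 6) (.split 7 (-90)
    (.wt 0) (.split 2 55 (.split 4 52 (.splitN 124868 (.wt 1) (.wt 0)) (.lin 3)) (.lin 9))))
    (.lin 9))))) (.lin 7))) (.lin 4))) (.lin 4)) (.lin 0))) (.lin 4))) (.lin 3)) (.split 4 51
    (.lin 3) (.splitN 109666 (.split 1 (-129) (.split 5 157 (.lin 4) (.wt 2)) (.wt 0)) (.wt
    6))))) (.lin 0))) (.wt 1)))) (.split 2 37 (.split 4 43 (.splitN 361169 (.split 1 (-586) .sq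
    (.split 3 (-606) (.lin 11) (.split 0 (-25) (.split 2 27 (.lin 3) (.split 4 34 (.split 7 (-55)
    (.split 1 (-107) (.wt 2) (.split 5 131 (.split 1 (-73) (.wt 2) (.split 5 95 (.splitN 138697
    (.wt 6) (.split 4 28 (.wt 0) (.split 2 36 (.lin 3) (.split 7 (-64) (.wt 0) (.lin 9))))) (.lin
    4))) (.lin 4))) (.lin 9)) (.lin 3))) (.split 3 (-145) (.split 1 (-119) (.split 5 139 (.lin 4)
    (.split 3 (-182) (.split 1 (-137) (.split 1 (-155) (.split 5 175 (.lin 4) (.split 3 (-194)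
    (.split 5 193 (.lin 7) (.split 1 (-173) (.splitN 111743 .sq (.split 7 (-63) (.wt 1) (.split 2
    28 (.splitN 125741 (.split 3 (-313) (.split 5 301 (.lin 1) .sq) (.wt 2)) (.wt 6)) (.lin 9))))
    (.lin 11))) (.wt 2))) (.lin 11)) (.lin 2)) (.wt 2))) (.lin 11)) (.wt 2))))) (.wt 1)) (.lin
    3)) (.lin 9))) (.split 2 55 (.split 7 (-55) (.split 0 (-23) (.split 4 61 (.split 5 85 (.lin
    4) (.split 3 (-117) (.split 5 112 (.lin 7) (.split 1 (-83) (.splitN 126537 (.split 5 688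
    (.split 3 (-687) (.lin 7) (.split 3 (-128) (.split 5 121 (.lin 7) (.split 1 (-92) (.split 3
    (-130) (.split 5 130 (.lin 7) (.split 4 47 (.split 2 37 (.split 7 (-74) (.lin 9) (.split 3
    (-180) (.split 1 (-146) (.split 5 175 (.lin 4) (.splitN 91493 .sq (.split 4 27 (.wt 1)
    (.split 2 27 (.lin 3) (.split 7 (-64) (.wt 1) (.lin 9)))))) (.lin 11)) (.wt 2))) (.lin 3))
    (.wt 2))) (.wt 2)) (.lin 11))) (.wt 2))) (.div 5)) (.wt 1)) (.lin 11))) (.wt 2))) (.lin 3))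
    (.wt 2)) (.lin 9)) (.lin 9))) (.lin 7))) (.wt 1)))) (.lin 0))) (.wt 1)) (.lin 11)) (.lin 7)))
    (.split 3 (-120) (.lin 2) (.split 5 77 (.split 3 (-84) (.lin 11) (.split 0 (-22) (.split 5 49
    (.lin 4) (.split 7 (-55) (.split 6 30 (.split 2 27 (.lin 3) (.split 3 (-75) (.lin 7) (.split
    1 (-22) (.split 5 58 (.lin 4) (.split 4 53 (.split 2 55 (.split 7 (-83) (.lin 9) (.split 4 47
    (.split 2 46 (.split 7 (-74) (.lin 9) (.split 4 40 (.split 2 37 (.split 7 (-65) (.lin 9)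
    (.split 1 (-30) (.split 5 67 (.lin 4) (.split 4 32 (.split 2 28 (.split 7 (-56) (.lin 9)
    (.splitN 155032 (.split 1 (-39) (.split 5 76 (.lin 0) (.split 3 (-74) (.splitN 134152 (.wt 0)
    (.wt 0)) (.lin 6))) (.wt 0)) (.wt 1))) (.lin 3)) (.wt 2))) (.wt 2))) (.lin 3)) (.wt 2)))
    (.lin 3)) (.wt 2))) (.lin 3)) (.wt 2))) (.wt 2)))) (.wt 2)) (.lin 12))) (.wt 2))) (.lin 4))))
    (.lin 12)) (.lin 9)))

def cert5_51_15 : Cert :=
  (.split 0 (-30) (.split 5 58 (.lin 4) (.split 7 (-46) (.split 6 60 (.splitN 18089 (.wt 1)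
    (.split 4 22 (.splitN 2481136 (.split 1 (-1572) .sq (.split 3 (-1623) (.lin 11) (.split 2 39
    (.split 0 (-84) (.lin 3) (.split 7 (-92) (.lin 9) (.splitN 1118909 (.split 1 (-1053) .sq
    (.split 5 1130 (.split 3 (-1155) (.lin 6) (.split 2 6 (.split 0 (-48) (.lin 3) (.split 6 43
    (.lin 3) (.split 7 (-56) (.lin 9) (.splitN 34908 (.split 5 184 (.split 3 (-201) (.lin 6)
    (.splitN 21992 (.wt 1) (.split 4 13 .cand (.wt 2)))) (.div 5)) (.wt 1))))) cert5_51_4)) (.lin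
    0))) (.wt 3)))) (.split 0 (-56) (.split 7 (-73) (.splitN 140221 (.split 5 778 (.split 6 28
    (.wt 2) (.split 0 (-65) (.split 7 (-82) (.split 3 (-56) (.splitN 108759 (.split 4 7 (.wt 2)
    (.split 5 299 (.split 6 44 (.split 1 (-37) (.split 3 (-74) (.wt 2) (.lin 11)) (.split 3 (-75)
    (.lin 11) (.split 7 (-150) (.split 2 99 (.lin 2) (.split 0 (-137) (.split 5 157 (.lin 4)
    (.splitN 84347 .sq (.wt 0))) (.lin 12))) (.split 0 (-129) (.lin 12) (.split 5 158 (.split 6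
    39 (.splitN 82209 (.wt 6) (.split 0 (-79) (.wt 0) (.split 2 55 (.split 5 104 (.wt 2) (.lin
    0)) (.lin 3)))) .cand) (.lin 4)))))) .cand) .sq)) (.wt 3)) (.lin 11)) (.lin 9)) (.lin 3)))
    (.div 5)) (.wt 3)) (.lin 9)) (.lin 3))))) (.wt 3)) (.split 2 9 (.lin 3) (.split 7 (-64)
    (.splitN 21566 (.wt 0) cert5_51_10) (.lin 12))))) (.split 7 (-64) (.split 3 (-83) (.splitN
    280627 (.split 1 (-3105) (.div 1) (.split 2 1552 (.split 4 3104 (.split 5 1552 (.split 1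
    (-1506) (.lin 4) (.split 3 (-4647) (.lin 10) (.split 0 (-511) .sq (.split 7 (-3611) (.lin 12)
    (.splitN 259899 (.split 0 (-488) .sq (.split 1 (-487) .sq (.split 5 959 (.split 2 486 (.split
    3 (-494) .sq (.split 4 907 (.splitN 240224 (.split 4 465 (.split 5 469 (.split 0 (-444) (.lin
    4) (.split 7 (-471) .sq (.split 2 406 cert5_51_13 (.lin 9)))) .sq) .sq) (.wt 1)) (.lin 5)))
    .sq) (.lin 4)))) (.wt 1)))))) (.div 5)) (.div 4)) (.div 2))) (.wt 1)) (.lin 11)) (.lin 9)))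
    (.lin 12))) (.split 6 60 (.split 4 22 (.split 2 19 (.split 7 (-47) (.lin 12) (.splitN 20938
    (.wt 3) (.split 0 (-20) (.split 5 40 (.lin 4) (.split 2 4 (.split 4 11 (.splitN 39805 .cand
    (.wt 1)) (.split 6 34 (.lin 3) (.wt 2))) (.split 6 35 (.split 7 (-37) (.splitN 2104188
    (.split 5 11686 (.split 3 (-11694) (.lin 6) (.split 4 11 (.split 0 (-29) (.split 2 10 (.split
    6 26 (.split 7 (-38) (.lin 9) (.splitN 60414 (.split 5 328 (.split 1 (-291) (.lin 0) (.wt 1))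
    (.div 5)) (.wt 0))) (.lin 3)) (.lin 3)) (.lin 3)) (.split 1 (-164) (.split 5 184 (.lin 0)
    (.split 3 (-182) (.splitN 97046 .sq (.splitN 163955 (.split 1 (-305) .sq (.split 3 (-315) .sq
    (.split 6 30 (.split 0 (-25) (.wt 0) (.split 2 10 (.split 7 (-38) (.lin 9) (.wt 2)) (.lin
    3))) (.split 0 (-29) (.split 7 (-46) (.wt 0) (.lin 9)) (.lin 3))))) (.wt 1))) (.lin 6)))
    (.split 5 194 (.split 3 (-210) (.lin 6) (.split 3 (-192) (.lin 2) (.split 1 (-56) (.split 5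
    76 (.lin 0) (.split 3 (-74) (.split 6 30 (.split 0 (-28) (.wt 2) (.split 2 10 (.split 7 (-38)
    (.lin 9) (.wt 2)) (.lin 3))) (.split 5 85 (.lin 0) (.split 2 10 (.split 7 (-46) (.splitN
    75842 (.wt 0) (.splitN 84198 (.split 1 (-97) (.split 5 130 (.lin 0) (.wt 1)) (.wt 0)) (.wt
    1))) (.lin 9)) (.lin 9)))) (.lin 6))) (.split 5 86 (.split 3 (-84) (.lin 2) (.split 5 77
    (.split 0 (-22) (.split 5 49 (.lin 4) (.split 7 (-46) (.split 3 (-48) (.split 6 29 (.split 2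
    18 (.lin 3) (.split 3 (-75) (.lin 6) (.split 1 (-29) (.split 5 58 (.lin 0) (.splitN 158206
    (.splitN 120282 (.wt 1) (.split 1 (-43) (.wt 0) (.split 5 68 (.splitN 129570 (.wt 1) (.split
    1 (-38) (.wt 5) (.split 5 59 (.split 3 (-57) (.lin 6) (.wt 0)) (.lin 0)))) (.lin 0)))) (.wt
    1))) (.lin 11)))) (.wt 2)) (.wt 2)) (.lin 12))) (.wt 2)) (.lin 4))) (.lin 0))))) (.lin 0)))))
    (.div 5)) (.wt 1)) (.lin 9)) (.lin 3)))) (.split 2 1 (.split 4 15 (.lin 3) (.split 6 26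
    (.split 7 (-29) (.lin 9) (.splitN 275945 (.wt 0) (.wt 1))) (.lin 3))) (.lin 3))))) (.lin 3))
    (.split 0 (-13) (.split 5 40 (.lin 4) (.split 7 (-46) (.split 2 10 (.split 6 34 (.lin 3)
    (.split 7 (-65) (.lin 9) (.split 0 (-24) (.split 6 43 (.lin 3) (.wt 2)) (.wt 2)))) (.split 6
    39 cert5_51_14 (.split 4 33 (.lin 3) (.split 7 (-64) (.splitN 228266 (.split 2 1264 (.split 7
    (-1316) (.lin 9) (.split 5 1264 (.split 1 (-1236) (.lin 4) (.split 3 (-1290) (.lin 7)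
    (.splitN 82239 (.split 1 (-909) (.div 1) (.split 2 454 (.split 7 (-506) (.lin 9) (.split 5
    454 (.split 3 (-480) (.lin 7) (.splitN 66966 (.split 2 364 (.split 7 (-416) (.lin 9) (.split
    5 364 (.split 1 (-336) (.lin 4) (.split 3 (-390) (.lin 7) (.split 0 (-23) (.split 5 49 (.lin
    4) (.splitN 56488 (.wt 4) (.wt 6))) (.wt 0)))) (.div 5))) (.div 2)) (.wt 6))) (.div 5)))
    (.div 2))) (.wt 6)))) (.div 5))) (.div 2)) (.wt 1)) (.lin 9))))) (.lin 12))) (.wt 2)))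
    (.split 4 33 (.lin 3) (.wt 2))))

def cert5_51_16 : Cert :=
  (.split 4 22 (.split 7 (-64) (.split 2 9 (.lin 2) (.split 0 (-47) (.split 5 58 (.lin 4) (.split
    4 11 (.split 0 (-56) (.splitN 82363 .cand (.wt 3)) (.lin 12)) (.split 6 50 (.split 3 (-57)
    (.lin 11) (.split 6 35 (.split 2 27 (.lin 0) (.split 3 (-48) (.lin 11) (.split 7 (-136)
    (.split 2 99 (.lin 2) (.split 0 (-110) (.split 0 (-119) (.split 5 130 (.lin 4) (.split 6 26
    (.wt 2) (.split 3 (-47) (.splitN 124427 (.split 2 688 (.split 7 (-722) (.lin 2) (.split 0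
    (-168) (.split 2 153 (.lin 3) (.split 5 184 (.lin 0) (.split 7 (-190) .sq (.lin 2)))) (.wt
    2))) (.div 2)) (.wt 1)) (.lin 11)))) (.lin 12)) (.lin 3))) (.split 2 100 (.split 0 (-120)
    (.lin 3) (.split 5 131 (.split 0 (-48) (.split 5 67 (.lin 4) (.split 6 31 (.split 3 (-39)
    (.lin 11) (.split 0 (-66) (.split 2 63 (.lin 3) (.split 5 85 (.lin 0) (.split 7 (-91) (.split
    0 (-89) (.wt 2) (.split 2 73 (.split 5 95 (.split 7 (-101) (.lin 2) (.split 0 (-77) (.split 2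
    72 (.lin 3) (.split 5 94 (.lin 0) (.split 7 (-100) (.splitN 184157 (.wt 0) (.wt 0)) (.lin
    1)))) (.wt 2))) (.lin 0)) (.lin 3))) (.lin 2)))) (.wt 2))) (.wt 2))) (.wt 2)) (.lin 0)))
    (.lin 2))))) (.splitN 195758 (.split 2 1084 (.split 0 (-1110) (.lin 3) (.split 7 (-1127)
    (.lin 2) (.splitN 96143 (.split 2 526 (.split 0 (-552) (.lin 3) (.split 7 (-569) (.lin 2)
    (.wt 2))) (.div 2)) (.wt 6)))) (.div 2)) (.wt 1)))) (.wt 2)))) (.lin 12))) (.split 2 28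
    (.split 0 (-48) (.lin 12) (.split 5 86 (.split 5 59 (.split 6 44 (.split 3 (-57) (.lin 11)
    (.split 0 (-21) (.split 5 40 (.lin 4) (.split 7 (-37) (.split 4 14 (.split 6 40 (.split 3
    (-48) (.lin 11) (.split 2 5 (.split 5 41 (.split 0 (-30) (.lin 3) (.split 6 34 (.lin 0)
    (.split 3 (-47) (.split 7 (-38) (.lin 1) (.splitN 61779 (.wt 0) (.wt 0))) (.lin 1)))) (.lin
    0)) (.split 6 30 (.split 3 (-39) (.lin 11) (.split 0 (-37) (.wt 2) (.split 2 10 (.split 5 41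
    (.split 7 (-38) (.lin 1) (.splitN 190920 (.wt 0) (.wt 0))) (.lin 0)) (.lin 3)))) (.split 3
    (-47) (.split 0 (-43) (.split 2 18 (.lin 3) (.split 5 58 (.lin 0) (.split 7 (-55) (.splitN
    75431 (.wt 0) (.wt 0)) (.lin 1)))) (.wt 2)) (.lin 11))))) (.wt 2)) (.wt 2)) (.lin 8))) (.wt
    2))) (.wt 2)) (.lin 4)) (.lin 0))) (.lin 2))) (.split 0 (-35) (.split 5 49 (.lin 4) (.split 0
    (-39) (.split 5 58 (.lin 4) (.split 6 41 (.split 2 36 (.lin 0) (.split 3 (-48) (.lin 11)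
    (.split 0 (-53) (.split 5 67 (.lin 4) (.split 4 58 (.split 7 (-172) (.split 2 135 (.lin 2)
    (.split 0 (-110) (.split 0 (-119) (.split 5 121 (.lin 0) (.split 5 130 (.lin 4) (.splitN
    789308 (.split 2 4378 (.split 0 (-4386) (.lin 3) (.split 6 34 (.split 2 144 (.lin 9) (.split
    3 (-39) (.lin 11) (.splitN 539794 (.split 2 2992 (.split 7 (-3017) (.lin 2) (.splitN 128313
    (.wt 1) (.split 0 (-685) .sq (.split 2 703 (.splitN 495894 (.split 2 655 (.split 5 662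
    (.split 7 (-677) (.lin 2) (.split 4 38 (.split 5 148 (.lin 0) (.split 0 (-370) (.wt 2)
    (.split 2 370 (.split 5 383 (.split 0 (-337) (.wt 2) (.splitN 313006 .cand (.wt 1))) (.lin
    0)) (.lin 3)))) (.split 0 (-633) (.lin 3) (.split 0 (-193) (.split 2 216 (.lin 3) (.split 5
    202 (.lin 0) (.split 0 (-221) (.split 2 243 (.lin 3) (.split 5 229 (.lin 0) (.split 7 (-271)
    (.splitN 241496 .sq (.split 7 (-565) (.wt 1) (.split 2 532 (.split 0 (-516) (.lin 3) (.split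
    5 527 (.split 0 (-239) (.split 2 261 (.lin 3) (.split 5 247 (.lin 0) (.split 7 (-289)
    (.splitN 277784 .sq (.splitN 291271 (.split 7 (-512) (.wt 0) (.split 2 478 (.split 0 (-309)
    (.split 2 333 (.lin 3) (.split 5 319 (.lin 0) (.split 7 (-361) .sq (.lin 2)))) (.wt 1)) (.lin
    2))) (.wt 1))) (.lin 2)))) (.wt 2)) (.lin 0))) (.lin 2)))) (.lin 2)))) (.wt 2)))) (.wt 2)))))
    (.lin 0)) .sq) (.wt 1)) (.lin 3))))) (.div 2)) (.wt 1)))) (.wt 2))) (.div 2)) (.wt 1))))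
    (.lin 12)) (.lin 3))) (.split 2 136 (.split 0 (-138) (.lin 12) (.split 0 (-71) (.split 5 85
    (.lin 4) (.split 6 28 (.split 2 72 (.lin 0) (.split 3 (-39) (.lin 11) (.splitN 347080 (.split
    0 (-83) (.split 5 94 (.lin 4) (.splitN 302464 (.split 0 (-92) (.split 5 103 (.lin 4) (.splitN
    273400 (.split 0 (-102) (.split 5 121 (.lin 4) (.splitN 237815 (.split 0 (-122) (.split 5 139
    (.lin 4) (.wt 2)) (.wt 0)) (.wt 6))) (.wt 0)) (.wt 6))) (.wt 0)) (.wt 6))) (.wt 0)) (.wt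
    6)))) (.wt 2))) (.wt 2))) (.lin 2))) (.split 0 (-93) (.split 5 112 (.lin 4) (.split 0 (-107)
    (.split 5 121 (.lin 4) (.split 6 30 (.split 3 (-39) (.lin 11) (.split 0 (-243) (.split 2 279
    (.lin 3) (.split 7 (-307) (.split 5 256 (.lin 4) (.splitN 630166 (.split 2 3496 (.split 7
    (-3521) (.lin 2) (.split 0 (-346) (.split 2 387 (.lin 3) (.split 7 (-415) (.split 5 364 (.lin
    4) (.splitN 586565 .sq (.wt 1))) (.lin 2))) (.wt 2))) (.div 2)) (.wt 1))) (.lin 2))) (.wt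
    2))) (.wt 2))) (.wt 2))) (.wt 2)))) (.wt 2)))) (.wt 2))) (.wt 2))) (.wt 2)))

def cert5_51_17 : Cert :=
  (.split 2 (-1) (.split 6 25 (.lin 3) (.split 1 (-3) (.split 5 22 (.lin 4) (.split 0 (-30)
    (.split 6 52 (.lin 3) (.split 5 49 (.lin 4) (.split 3 (-65) (.split 7 (-46) cert5_51_1 (.lin
    12)) (.lin 5)))) (.split 7 (-46) (.split 6 52 (.lin 9) (.split 4 15 (.lin 12) (.split 0 (-19)
    (.split 5 31 (.lin 4) (.splitN 419091 (.split 2 (-2327) (.div 2) (.split 3 (-11631) (.div 3)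
    (.split 7 (-11621) (.lin 1) (.split 4 4652 (.split 7 (-4682) (.lin 12) (.split 5 2326 (.split
    3 (-9300) (.lin 1) (.split 1 (-2298) (.lin 4) (.split 0 (-21) (.split 5 40 (.lin 4) (.splitN
    183704 (.split 3 (-5061) (.div 3) (.split 4 2024 (.split 7 (-2054) (.lin 12) (.split 5 1012
    (.split 1 (-975) (.lin 4) (.splitN 170297 (.split 2 (-941) (.div 2) (.split 4 1880 (.split 3
    (-3819) (.lin 5) (.split 7 (-1910) (.lin 12) (.split 1 (-28) (.split 5 58 (.lin 4) (.splitN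
    113619 (.split 2 (-617) (.div 2) (.split 4 1232 (.split 7 (-1262) (.lin 12) (.split 5 616
    (.split 3 (-2451) (.lin 1) (.split 1 (-579) (.lin 4) (.splitN 107591 (.split 2 (-581) (.div
    2) (.split 4 1160 (.split 7 (-1190) (.lin 12) (.split 5 580 (.split 3 (-2307) (.lin 1)
    (.split 1 (-35) (.split 5 67 (.lin 4) (.splitN 97577 (.split 7 (-48) (.split 6 61 (.lin 9)
    (.split 4 24 (.lin 12) (.wt 2))) (.wt 0)) (.wt 6))) (.wt 2))) (.div 5))) (.div 4))) (.wt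
    6)))) (.div 5))) (.div 4))) (.wt 6))) (.wt 2)))) (.div 4))) (.wt 6))) (.div 5))) (.div 4)))
    (.wt 6))) (.wt 2)))) (.div 5))) (.div 4))))) (.wt 6))) (.wt 2)))) (.split 4 25 (.split 6 212
    (.split 2 (-189) (.lin 3) (.split 6 73 cert5_51_2 (.split 2 (-44) (.splitN 337513 (.split 1
    (-3717) (.div 1) (.split 5 1858 (.split 1 (-1983) (.lin 0) (.split 3 (-2064) (.lin 6)
    (.splitN 264295 (.split 5 1462 (.split 3 (-1668) (.lin 6) (.split 1 (-12) (.split 5 31 (.lin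
    4) (.splitN 114917 (.split 5 634 (.split 1 (-759) (.lin 0) (.split 3 (-840) (.lin 6) (.split
    1 (-633) (.lin 8) (.splitN 102267 (.split 5 562 (.split 3 (-768) (.lin 1) (.split 0 (-14)
    (.split 5 40 (.lin 4) (.splitN 79122 (.split 5 436 (.split 3 (-633) (.lin 1) (.split 1 (-24)
    (.split 5 49 (.lin 4) (.splitN 67117 (.split 5 364 (.split 3 (-561) (.lin 1) (.split 1 (-33)
    (.split 5 58 (.lin 4) (.splitN 60582 (.split 0 (-21) (.split 2 (-171) (.lin 3) (.split 5 67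
    (.lin 4) (.split 4 7 (.split 7 (-37) (.splitN 54879 (.split 5 292 (.split 3 (-462) (.lin 1)
    (.split 1 (-76) (.split 3 (-164) (.split 5 112 (.lin 4) .sq) (.lin 2)) (.wt 0))) (.div 5))
    (.wt 1)) (.lin 12)) (.lin 12)))) (.wt 0)) (.wt 6))) (.wt 0))) (.div 5)) (.wt 6))) (.wt 0)))
    (.div 5)) (.wt 6))) (.wt 0))) (.div 5)) (.wt 6))))) (.div 5)) (.wt 6))) (.wt 0))) (.div 5))
    (.wt 6)))) (.div 5))) (.wt 6)) (.lin 9)))) (.wt 2)) (.lin 12))))) (.wt 0))) (.split 1 (-12)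
    (.split 5 31 (.lin 4) (.split 3 (-29) (.split 6 24 (.split 6 12 (.wt 2) (.split 3 (-38)
    (.split 0 (-30) (.split 2 27 (.lin 3) (.split 7 (-46) (.wt 2) (.lin 9))) cert5_51_3) (.lin
    11))) (.split 7 (-28) (.split 3 (-47) cert5_51_15 (.lin 11)) (.lin 9))) (.lin 11))) (.split 6
    24 (.split 3 (-30) (.lin 11) (.split 1 (-5) (.split 5 22 (.lin 4) (.split 3 (-20) (.split 6
    12 (.split 2 9 (.lin 0) (.wt 6)) (.split 3 (-29) (.split 0 (-12) (.split 2 9 (.lin 3) (.split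
    7 (-28) (.split 5 31 (.lin 4) (.split 0 (-94) (.wt 6) (.split 5 104 (.split 0 (-75) (.wt 6)
    (.split 5 86 (.split 0 (-72) (.wt 6) (.split 5 77 (.split 4 22 (.split 0 (-47) (.wt 2)
    (.split 0 (-33) (.wt 6) (.split 2 28 (.split 7 (-47) (.lin 2) (.split 5 41 (.split 4 13 (.wt
    6) (.wt 0)) (.lin 4))) (.lin 3)))) (.split 2 27 (.lin 0) (.split 7 (-54) (.split 2 36 (.lin
    2) (.split 7 (-79) (.split 2 63 (.lin 2) (.split 0 (-22) (.split 7 (-122) (.split 2 108 (.lin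
    9) (.split 4 60 (.lin 0) (.split 0 (-46) (.wt 1) (.split 4 87 (.lin 3) (.split 5 50 (.split 0
    (-31) (.wt 1) (.wt 0)) (.lin 4)))))) (.wt 1)) (.wt 2))) (.wt 1))) (.wt 0)))) (.lin 4))) (.lin
    4))) (.lin 4)))) (.lin 2))) (.wt 2)) (.lin 11))) (.lin 11))) (.wt 0))) (.split 3 (-29)
    (.split 1 (-3) (.split 5 22 (.lin 4) (.split 3 (-38) (.split 0 (-12) (.split 5 31 (.lin 4)
    (.split 6 60 (.split 3 (-66) (.lin 11) cert5_51_16) (.split 7 (-64) (.split 3 (-74) (.split 0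
    (-26) (.split 5 40 (.lin 4) (.split 4 35 (.splitN 528154 (.split 2 2920 (.split 5 2920
    (.split 6 2933 (.split 0 (-5844) (.lin 3) (.split 0 (-2901) (.lin 4) (.split 3 (-5817) (.lin
    6) (.split 3 (-2946) (.lin 5) (.split 7 (-2936) (.lin 8) (.split 4 32 (.split 5 49 (.lin 0)
    (.splitN 303287 (.split 0 (-535) .sq (.split 2 496 (.split 5 545 (.split 3 (-570) (.lin 5)
    (.split 7 (-560) (.lin 8) (.split 4 21 (.split 5 58 (.lin 0) (.splitN 169137 (.split 0 (-386)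
    .sq (.split 2 334 (.split 3 (-408) (.lin 5) (.split 2 18 (.splitN 121464 (.split 0 (-322) .sq
    (.split 3 (-345) (.lin 5) (.split 7 (-344) (.lin 2) (.split 4 15 (.split 5 67 (.lin 0)
    (.splitN 64003 .cand (.wt 1))) (.wt 2))))) (.wt 1)) (.split 5 76 (.lin 0) (.split 7 (-82)
    (.splitN 125692 (.split 0 (-319) .sq (.split 6 314 (.split 5 329 (.split 3 (-327) (.lin 5)
    (.split 7 (-335) (.lin 8) (.split 4 15 (.split 0 (-74) (.splitN 98568 .cand (.wt 0)) (.lin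
    3)) (.wt 2)))) (.lin 4)) (.lin 3))) (.wt 1)) (.lin 2))))) (.lin 3))) (.wt 1))) (.wt 2))))
    (.lin 4)) (.lin 3))) (.wt 1))) (.wt 2))))))) (.lin 0)) (.div 5)) (.div 2)) (.wt 1)) (.wt 2)))
    (.wt 2)) (.lin 11)) (.lin 9)))) (.wt 2)) (.lin 11))) (.wt 4)) (.lin 11)))))

def cert5_51 : Cert :=
  (.split 0 (-3) (.split 5 13 (.lin 4) (.split 7 (-19) cert5_51_17 (.lin 12))) (.wt 2))

theorem check5_51 :
    check task5 cert5_51
      [(7, ⟨none, some (-2)⟩), (7, ⟨none, some (-2)⟩), (1, ⟨none, none⟩), (7, ⟨none, some (-11)⟩), (7, ⟨some (7), none⟩), (5, ⟨some (5), none⟩), (8, ⟨some (8), none⟩), (8, ⟨none, some (-10)⟩)] ⟨some (3960), none⟩ = true := by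
  decide +kernel

def cert5_52 : Cert :=
  (.wt 0)

theorem check5_52 :
    check task5 cert5_52
      [(7, ⟨none, some (-2)⟩), (7, ⟨none, some (-2)⟩), (1, ⟨none, none⟩), (7, ⟨none, some (-11)⟩), (7, ⟨none, none⟩), (5, ⟨some (5), none⟩), (8, ⟨some (8), none⟩), (8, ⟨some (-1), some (-1)⟩)] ⟨some (3960), none⟩ = true := by
  decide +kernel

def cert5_53 : Cert :=
  (.lin 11)

theorem check5_53 :
    check task5 cert5_53
      [(7, ⟨none, some (-2)⟩), (7, ⟨none, some (-2)⟩), (1, ⟨none, none⟩), (7, ⟨some (-2), some (-2)⟩), (7, ⟨none, none⟩), (5, ⟨some (5), none⟩), (8, ⟨some (8), none⟩), (8, ⟨none, some (-1)⟩)] ⟨some (3960), none⟩ = true := by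
  decide +kernel

def cert5_54_0 : Cert :=
  (.split 1 11 (.split 3 (-47) (.split 5 76 (.lin 4) (.split 6 73 (.wt 2) (.split 3 (-74)
    (.splitN 53481 (.split 5 292 (.split 6 111 (.wt 2) (.split 3 (-110) (.splitN 42047 .sq
    (.splitN 51279 (.split 2 (-275) (.div 2) (.split 7 (-64) (.wt 0) (.split 2 (-62) (.split 6
    323 (.splitN 45827 .sq (.splitN 48251 (.split 2 (-257) (.div 2) (.split 6 305 (.split 0
    (-103) (.wt 0) (.split 5 95 (.split 0 (-99) (.wt 0) (.split 5 86 (.split 3 (-138) (.wt 0)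
    (.split 2 (-108) (.lin 1) (.split 6 161 (.wt 0) (.lin 0)))) (.lin 4))) (.lin 4))) (.lin 9)))
    (.wt 0))) (.lin 9)) (.lin 2)))) (.wt 3))) (.lin 11))) (.div 5)) (.wt 3)) (.lin 11)))) (.lin
    2)) (.split 6 149 (.split 7 (-137) (.lin 9) (.split 3 (-129) (.lin 11) (.splitN 165051
    (.split 0 (-388) .sq (.split 5 365 (.split 4 (-336) (.lin 8) (.split 7 (-91) (.split 0 (-128)
    (.split 3 (-83) (.split 5 112 (.lin 4) (.split 6 97 (.lin 9) (.splitN 69409 (.split 0 (-172)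
    .sq (.split 5 149 (.split 4 (-75) (.lin 8) (.split 7 (-128) (.lin 8) (.split 6 131 (.split 7
    (-119) (.lin 9) (.split 3 (-111) (.lin 11) (.split 3 (-84) (.split 6 106 (.lin 11) (.splitN
    59111 .sq (.splitN 62787 (.split 2 (-12) (.wt 1) (.split 5 121 (.lin 0) (.split 7 (-100) .sq
    (.lin 2)))) (.wt 6)))) (.wt 2)))) (.wt 2)))) (.lin 4))) (.wt 1)))) (.lin 2)) (.lin 12))
    (.split 6 98 (.split 2 (-54) (.lin 9) (.split 3 (-84) (.lin 11) (.split 6 75 (.split 2 (-27)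
    (.lin 9) (.split 7 (-65) (.lin 9) (.split 3 (-57) (.lin 11) (.split 4 (-107) (.split 5 121
    (.lin 0) (.split 0 (-155) (.split 5 139 (.lin 4) (.splitN 106176 (.split 0 (-257) .sq (.split
    4 (-228) (.lin 3) (.split 5 239 (.split 4 (-210) (.lin 8) (.split 7 (-55) (.split 0 (-164)
    (.split 5 148 (.lin 4) (.split 6 61 (.lin 9) (.splitN 70595 .sq (.splitN 82614 (.split 6 70
    (.split 2 (-9) (.lin 9) (.split 7 (-56) (.lin 9) (.split 3 (-48) (.lin 2) (.wt 0)))) (.wt 6))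
    (.wt 1))))) (.lin 12)) (.split 3 (-44) (.split 2 (-17) (.split 6 61 (.lin 9) (.splitN 82696
    (.wt 0) (.wt 1))) (.lin 2)) (.wt 2)))) (.lin 4)))) (.wt 1))) (.lin 12))) (.split 5 149
    (.split 0 (-201) (.lin 1) (.split 0 (-165) (.lin 3) (.split 3 (-41) (.split 6 61 (.lin 11)
    (.split 0 (-125) (.split 5 112 (.lin 4) (.splitN 78996 (.split 7 (-54) (.split 2 (-18) (.lin
    2) (.split 7 (-56) (.split 2 (-9) (.lin 2) (.split 6 70 (.lin 9) (.wt 0))) (.wt 0))) (.wt 0))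
    (.wt 6))) (.wt 2))) (.wt 2)))) (.lin 0)))))) (.split 3 (-65) (.splitN 113534 (.split 0 (-303)
    .sq (.split 5 329 (.split 4 (-318) (.lin 0) (.split 5 284 (.split 4 (-255) (.lin 8) (.split 0
    (-85) (.split 5 76 (.lin 4) (.split 7 (-64) (.split 2 (-36) (.lin 2) (.split 0 (-101) (.split
    5 85 (.lin 4) (.splitN 84361 (.split 0 (-241) .sq (.split 4 (-39) (.split 5 94 (.lin 8)
    (.split 4 (-91) (.split 5 121 (.lin 0) (.split 0 (-155) (.split 5 139 (.lin 4) (.splitN 67130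
    .sq (.splitN 72940 (.split 2 (-12) (.wt 1) (.split 0 (-164) (.split 5 148 (.lin 0) .sq) (.lin
    3))) (.wt 1)))) (.lin 12))) (.split 5 158 (.split 0 (-210) (.lin 1) (.split 0 (-174) (.lin 3)
    (.split 0 (-122) (.split 5 112 (.lin 4) (.split 3 (-72) (.split 6 88 (.lin 11) (.wt 2)) (.wt
    2))) (.wt 2)))) (.lin 0)))) (.wt 2))) (.wt 1))) (.lin 12))) (.split 2 (-26) (.split 0 (-161)
    (.split 5 148 (.lin 4) (.split 4 (-110) (.splitN 74870 .sq (.wt 6)) (.lin 8))) (.wt 2)) (.lin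
    2)))) (.wt 2))) (.lin 4))) (.lin 1))) (.wt 1)) (.lin 11))))) (.split 2 (-26) (.split 3 (-92)
    (.split 0 (-102) (.split 5 94 (.lin 4) (.split 0 (-114) (.split 5 103 (.lin 4) (.split 4
    (-46) (.split 7 (-47) (.splitN 72342 (.split 0 (-188) .sq (.split 5 167 (.split 4 (-129)
    (.lin 8) (.splitN 62091 (.split 4 (-59) (.split 7 (-66) (.split 0 (-137) (.split 5 121 (.lin
    4) .sq) (.lin 12)) (.wt 0)) (.wt 0)) (.wt 6))) (.lin 4))) (.wt 1)) (.wt 2)) (.wt 2))) (.wt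
    2))) (.wt 2)) (.lin 11)) (.lin 9))))) (.lin 4))) (.wt 1)))) (.split 3 (-137) (.splitN 57266
    .sq (.splitN 102008 (.split 0 (-226) .sq (.split 5 203 (.split 4 (-174) (.lin 8) (.split 7
    (-164) (.wt 1) (.split 2 (-210) .sq (.split 3 (-354) (.lin 2) (.split 7 (-48) (.split 0 (-92)
    (.split 5 76 (.lin 4) (.splitN 61055 .sq (.split 7 (-117) (.wt 1) (.split 2 (-44) (.split 3
    (-300) (.lin 2) (.splitN 70784 (.split 7 (-73) (.wt 1) (.split 2 (-89) .sq (.lin 2))) (.wt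
    1))) (.lin 2))))) (.lin 12)) (.wt 2)))))) (.lin 4))) (.wt 1))) (.lin 11))))

def cert5_54_1 : Cert :=
  (.split 1 11 (.split 3 (-47) (.split 5 49 (.lin 4) (.splitN 170448 (.split 0 (-4701) (.div 0)
    (.split 5 4694 (.split 2 (-941) (.div 2) (.split 6 5624 (.split 3 (-10263) (.lin 6) (.split 5
    940 (.split 0 (-939) (.lin 4) (.split 0 (-400) .sq (.splitN 160576 (.split 3 (-386) .sq
    (.split 6 143 (.split 2 (-117) (.lin 0) (.split 5 158 (.split 7 (-137) (.lin 9) (.split 3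
    (-138) (.lin 11) (.split 4 (-20) (.split 5 58 (.lin 8) (.split 0 (-65) (.splitN 77026 (.split
    7 (-91) (.split 0 (-110) (.split 3 (-92) (.split 5 103 (.lin 4) (.split 6 97 (.lin 9)
    (.splitN 49778 .sq (.wt 0)))) (.lin 2)) (.lin 12)) (.split 5 104 (.split 6 98 (.split 2 (-63)
    (.lin 0) (.split 6 75 (.split 5 86 (.split 6 53 (.wt 2) (.split 3 (-56) (.split 4 (-26) (.wt
    2) .cand) (.lin 11))) (.lin 0)) (.split 3 (-74) (.split 7 (-64) (.split 0 (-83) (.wt 2) (.lin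
    12)) (.split 2 (-26) (.split 0 (-84) (.lin 12) (.split 5 77 (.splitN 65431 (.splitN 46272
    (.wt 1) .cand) (.wt 0)) (.lin 4))) (.lin 2))) (.lin 11)))) (.split 2 (-17) (.split 2 (-26)
    (.split 3 (-101) (.splitN 59464 (.split 7 (-64) (.split 0 (-83) (.split 5 76 (.lin 4)
    (.splitN 39689 .sq (.split 4 (-25) (.wt 0) (.split 5 95 (.split 7 (-80) (.wt 0) (.split 2
    (-35) (.split 0 (-93) (.lin 12) (.split 5 86 (.splitN 43770 (.wt 1) (.split 3 (-117) (.wt 0)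
    (.split 6 116 (.wt 0) (.lin 11)))) (.lin 4))) (.lin 2))) (.lin 8))))) (.lin 12)) (.splitN
    44372 (.wt 1) .cand)) (.wt 1)) (.lin 11)) (.lin 9)) (.lin 0))) (.lin 8))) (.wt 3)) (.lin
    12))) (.splitN 41022 (.wt 1) (.split 7 (-91) (.split 0 (-101) (.split 3 (-92) (.splitN 74013
    .cand (.wt 0)) (.lin 2)) (.lin 12)) (.split 0 (-93) (.lin 12) (.split 6 103 (.split 3 (-93)
    (.lin 11) (.split 6 84 (.split 0 (-84) (.lin 3) (.split 5 77 (.split 7 (-74) (.lin 8) (.split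
    3 (-75) (.lin 11) (.split 3 (-48) (.split 6 61 (.lin 11) (.split 0 (-68) (.split 2 (-18)
    (.lin 3) (.split 6 70 (.lin 3) (.split 5 58 (.lin 0) (.wt 2)))) (.wt 2))) (.wt 2)))) (.lin
    0))) (.wt 2))) (.wt 2)))))))) (.lin 0))) (.split 3 (-146) (.splitN 52406 .sq (.splitN 92862
    (.split 7 (-333) (.wt 1) (.split 0 (-354) (.lin 12) (.split 0 (-206) .sq (.split 5 194
    (.split 7 (-191) (.lin 8) (.split 3 (-246) .sq (.split 6 251 (.split 4 (-20) (.split 5 58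
    (.lin 8) (.split 0 (-65) (.splitN 54755 .sq (.split 7 (-64) (.wt 0) (.split 2 (-98) (.splitN
    64295 .sq (.wt 1)) (.lin 2)))) (.lin 12))) (.split 0 (-74) (.split 5 67 (.lin 4) (.split 7
    (-64) (.splitN 58850 .sq (.split 7 (-103) (.wt 1) (.split 2 (-53) (.splitN 61595 .sq (.wt 1))
    (.lin 2)))) (.lin 8))) (.wt 2))) (.lin 11)))) (.lin 4))))) (.wt 1))) (.lin 11)))) (.wt 1))))
    (.div 5))) (.lin 0))) (.lin 4))) (.wt 1))) (.lin 2)) (.split 6 114 (.split 0 (-129) (.lin 3)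
    (.split 5 113 (.split 3 (-165) (.lin 6) (.split 7 (-245) (.lin 1) (.split 7 (-119) (.lin 8)
    (.split 7 (-101) (.lin 9) (.split 3 (-93) (.lin 11) (.split 3 (-47) (.split 6 61 (.lin 11)
    (.split 0 (-82) (.split 5 67 (.lin 4) (.split 0 (-92) (.split 6 70 (.lin 3) (.wt 2)) (.wt
    2))) (.wt 2))) (.wt 2))))))) (.lin 0))) (.splitN 497985 (.split 0 (-13791) (.div 0) (.split 5
    13775 (.split 7 (-13781) (.lin 8) (.split 2 (-2759) (.div 2) (.split 5 2758 (.split 6 5507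
    (.split 0 (-2766) (.lin 4) (.split 3 (-8202) (.lin 6) (.split 0 (-57) (.split 5 49 (.lin 4)
    (.splitN 407305 (.split 2 (-2255) (.div 2) (.split 0 (-615) .sq (.split 5 599 (.split 3
    (-2838) (.lin 5) (.split 7 (-605) (.lin 8) (.split 4 (-12) (.splitN 160689 (.split 2 (-887)
    (.div 2) (.split 3 (-1470) (.lin 2) (.split 0 (-66) (.split 5 58 (.lin 4) (.split 6 833
    (.split 3 (-813) (.lin 11) (.split 6 657 (.split 3 (-642) (.lin 11) (.split 6 583 (.split 7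
    (-569) (.lin 9) (.split 3 (-561) (.lin 11) (.split 0 (-76) (.split 5 67 (.lin 4) (.split 6
    453 (.split 0 (-471) (.lin 3) (.split 5 455 (.split 7 (-452) (.lin 8) (.split 3 (-435) (.lin
    11) (.split 0 (-85) (.split 5 76 (.lin 4) (.split 6 310 (.split 0 (-327) (.lin 3) (.split 5
    311 (.split 7 (-308) (.lin 8) (.split 3 (-291) (.lin 11) (.split 0 (-105) (.split 5 94 (.lin
    4) (.split 0 (-112) (.split 5 103 (.lin 4) (.split 3 (-110) (.split 6 124 (.lin 11) (.split 0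
    (-130) (.split 5 121 (.lin 4) (.split 7 (-109) (.splitN 73979 .sq (.wt 1)) (.lin 8))) (.wt
    2))) (.wt 2))) (.wt 2))) (.wt 2)))) (.lin 0))) (.wt 2))) (.wt 2)))) (.lin 0))) (.wt 2))) (.wt
    2)))) (.wt 2))) (.wt 2))) (.wt 2))) (.wt 2)))) (.wt 1)) (.wt 2)))) (.lin 4)))) (.wt 1))) (.wt
    2)))) (.lin 0)) (.div 5)))) (.lin 4))) (.wt 1))))

def cert5_54_2 : Cert :=
  (.split 4 (-84) (.split 6 223 (.lin 6) (.split 0 (-182) (.split 1 186 (.lin 8) (.split 2 (-125)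
    (.splitN 3623565 (.split 2 (-20129) (.div 2) (.split 0 (-20289) (.lin 1) (.split 1 20284
    (.split 6 20330 (.splitN 3423989 (.split 2 (-19013) (.div 2) (.split 1 19168 (.split 6 233
    (.wt 2) (.split 0 (-200) (.splitN 2612469 (.split 2 (-14513) (.div 2) (.split 0 (-14673)
    (.lin 1) (.split 1 14668 (.split 6 14714 (.split 6 251 (.wt 2) (.split 0 (-218) (.splitN
    2160084 (.split 0 (-1418) .sq (.split 2 (-1359) (.lin 1) (.split 1 1519 (.split 1 1411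
    (.split 6 1457 (.split 3 (-47) (.wt 2) (.split 6 276 (.wt 2) (.split 0 (-245) (.split 6 301
    (.wt 2) (.split 0 (-272) (.split 1 267 (.lin 11) (.splitN 274391 .sq (.split 7 (-188) (.wt 0)
    (.split 6 325 (.wt 2) (.split 4 (-119) (.split 0 (-299) (.split 2 (-152) (.split 1 294 (.lin
    11) (.splitN 335384 .sq (.split 7 (-140) (.wt 0) (.split 2 (-197) (.split 4 (-164) (.splitN
    363824 .sq (.split 7 (-122) (.wt 0) (.split 4 (-182) (.split 0 (-750) (.wt 2) (.split 2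
    (-684) (.lin 1) (.split 1 763 (.split 6 782 (.split 4 (-410) (.wt 0) (.split 6 557 (.wt 2)
    (.lin 6))) (.lin 7)) (.lin 2)))) (.lin 6)))) (.lin 6)) (.lin 1))))) (.lin 9)) (.lin 7)) (.lin
    6)))))) (.lin 7))) (.lin 7)))) (.lin 7)) (.lin 4)) (.lin 2)))) (.wt 3)) (.lin 7))) (.lin 7))
    (.lin 2)))) (.wt 3)) (.lin 7))) (.lin 2))) (.wt 3)) (.lin 7)) (.lin 2)))) (.wt 3)) (.lin
    10))) (.lin 7))) (.split 6 323 (.split 1 277 (.split 2 (-225) (.lin 9) (.split 2 (-126) (.lin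
    10) (.split 7 (-150) (.split 0 (-182) (.split 1 177 (.lin 2) (.split 6 223 (.lin 6) (.split 3
    (-44) (.wt 2) (.split 4 (-63) (.wt 2) (.split 6 287 (.split 1 250 (.split 4 (-55) (.wt 2)
    (.split 2 (-81) (.lin 10) (.split 4 (-43) (.split 1 195 (.lin 8) (.split 2 (-80) (.split 0
    (-200) (.splitN 406869 (.wt 6) (.split 7 (-178) (.wt 0) (.split 1 214 (.split 6 251 (.splitN
    457113 (.wt 1) (.wt 0)) (.lin 0)) (.lin 2)))) (.lin 12)) (.lin 10))) (.split 6 269 (.split 1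
    232 (.split 2 (-72) (.lin 10) (.split 7 (-177) (.split 0 (-218) (.split 1 213 (.lin 2)
    (.splitN 623268 (.splitN 483175 (.wt 1) .cand) (.wt 0))) (.lin 1)) (.split 1 205 (.split 6
    242 (.splitN 568542 (.wt 1) (.split 7 (-163) (.split 0 (-200) (.splitN 718005 .cand (.wt 3))
    (.lin 1)) (.split 0 (-192) (.lin 1) (.wt 2)))) (.lin 0)) (.lin 2)))) (.lin 8)) (.lin 6)))))
    (.lin 8)) (.lin 6)))))) (.lin 1)) (.split 1 232 (.split 6 269 (.split 4 (-61) (.split 6 196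
    (.lin 6) (.split 0 (-155) (.split 2 (-98) (.split 0 (-164) (.split 0 (-218) (.wt 2) (.split 1
    205 (.split 6 251 (.splitN 466682 (.wt 6) (.split 3 (-45) (.wt 0) (.split 2 (-117) (.lin 10)
    (.split 7 (-125) (.wt 0) (.split 6 233 (.splitN 735882 (.wt 6) (.split 4 (-78) (.wt 0)
    (.split 1 187 (.split 2 (-108) (.lin 10) (.splitN 843146 (.wt 6) (.split 4 (-71) (.wt 0)
    (.split 6 215 (.wt 2) (.lin 6))))) (.lin 8)))) (.lin 6)))))) (.lin 7)) (.lin 4))) (.lin 12))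
    (.lin 10)) (.lin 7))) (.split 6 242 (.split 1 196 (.split 2 (-99) (.lin 10) (.split 3 (-47)
    (.wt 6) (.split 2 (-90) (.lin 10) (.split 7 (-123) (.split 0 (-164) (.split 1 159 (.lin 2)
    (.split 6 196 (.lin 6) (.split 4 (-55) (.wt 2) (.split 6 224 (.split 0 (-192) (.lin 7)
    (.split 2 (-81) (.lin 10) (.split 4 (-43) (.split 2 (-80) (.split 0 (-173) (.splitN 778612
    (.wt 6) (.split 1 178 (.wt 0) (.split 6 223 (.lin 0) (.split 0 (-191) (.split 7 (-145) (.wt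
    0) (.lin 1)) (.lin 3))))) (.lin 12)) (.lin 10)) (.split 1 178 (.split 2 (-72) (.lin 10)
    (.splitN 2045270 (.split 7 (-136) (.split 1 168 (.lin 2) (.split 6 210 (.split 1 169 (.split
    0 (-174) (.lin 3) (.split 7 (-137) (.lin 1) (.splitN 1247905 (.wt 0) (.wt 1)))) (.lin 0))
    (.split 1 177 (.lin 0) (.split 7 (-145) (.splitN 934737 (.split 0 (-190) (.lin 1) (.wt 0))
    (.wt 1)) (.lin 2))))) (.split 0 (-165) (.lin 1) (.wt 0))) (.wt 1))) (.lin 8))))) (.lin 6)))))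
    (.lin 1)) (.split 1 169 (.split 6 206 (.split 4 (-47) (.split 6 178 (.lin 6) (.split 0 (-146)
    (.split 1 141 (.lin 8) (.split 2 (-80) (.split 7 (-109) (.split 0 (-155) (.split 1 150 (.lin
    2) (.split 4 (-53) (.wt 2) (.split 1 160 (.split 2 (-81) (.lin 10) (.splitN 995544 (.wt 1)
    (.split 6 191 (.wt 2) (.split 0 (-164) (.split 7 (-118) (.wt 0) (.lin 1)) (.lin 3))))) (.lin
    8)))) (.lin 1)) (.split 1 151 (.split 6 188 (.splitN 1729515 (.wt 1) (.split 4 (-54) (.wt 0)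
    (.split 1 142 (.split 2 (-81) (.lin 10) (.split 0 (-147) (.lin 12) (.splitN 6895817 (.wt 0)
    (.wt 1)))) (.lin 8)))) (.lin 6)) (.lin 2))) (.lin 10))) (.lin 7))) (.split 6 188 (.split 0
    (-156) (.lin 7) (.split 2 (-72) (.lin 10) (.split 7 (-110) (.split 1 150 (.lin 2) (.split 6
    187 (.lin 0) (.wt 0))) (.wt 0)))) (.lin 6))) (.lin 6)) (.lin 2)))))) (.lin 8)) (.lin 6)))
    (.lin 6)) (.lin 2))))) (.lin 8)) (.lin 6)))

def cert5_54_3 : Cert :=
  (.split 6 294 (.split 4 (-183) (.lin 6) (.split 1 268 (.split 2 (-216) (.lin 9) (.split 1 250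
    (.split 4 (-84) (.split 6 196 (.lin 6) (.split 0 (-146) (.split 1 159 (.lin 8) (.split 2
    (-107) (.split 2 (-125) (.split 0 (-164) (.split 3 (-44) (.wt 2) (.split 7 (-82) (.split 0
    (-173) (.split 6 220 (.wt 2) (.split 4 (-101) (.split 0 (-191) (.split 0 (-231) (.wt 2)
    (.split 2 (-180) (.lin 1) (.split 1 232 (.split 6 260 (.splitN 1347263 (.wt 6) (.split 4
    (-116) (.wt 0) (.split 6 233 (.split 1 196 (.wt 0) (.lin 8)) (.lin 6)))) (.lin 7)) (.lin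
    2)))) (.lin 7)) (.lin 6))) (.lin 1)) (.split 6 242 (.split 4 (-138) (.lin 6) (.split 1 205
    (.split 2 (-171) (.lin 9) (.split 4 (-97) (.split 0 (-173) (.split 4 (-104) (.split 1 177
    (.lin 8) (.split 0 (-200) (.wt 2) (.split 6 224 (.split 4 (-120) (.lin 6) (.wt 1)) (.lin
    7)))) (.wt 1)) (.lin 12)) (.wt 1))) (.lin 8))) (.split 4 (-146) (.split 0 (-218) (.split 1
    213 (.lin 8) (.split 2 (-179) (.split 0 (-232) (.wt 2) (.split 2 (-189) (.lin 1) (.split 1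
    223 (.split 4 (-165) (.lin 0) (.split 6 269 (.splitN 3595206 (.wt 1) (.wt 0)) (.lin 0)))
    (.lin 2)))) (.lin 9))) (.lin 7)) (.lin 6))))) (.lin 12)) (.lin 10)) (.lin 9))) (.lin 7)))
    (.split 6 224 (.split 0 (-192) (.lin 7) (.split 1 169 (.split 2 (-153) (.lin 9) (.split 2
    (-135) (.lin 10) (.split 3 (-52) (.wt 6) (.split 4 (-61) (.split 6 169 (.lin 6) (.split 0
    (-128) (.split 1 132 (.lin 8) (.split 2 (-80) (.split 2 (-98) (.split 3 (-44) (.wt 2) (.split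
    6 206 (.split 2 (-117) (.lin 10) (.split 7 (-75) (.split 0 (-146) (.split 1 141 (.lin 2)
    (.split 6 178 (.lin 6) (.split 7 (-87) (.split 0 (-155) (.splitN 1964827 (.wt 6) (.split 0
    (-164) (.wt 0) (.split 2 (-99) (.lin 1) (.split 1 151 (.split 6 188 (.wt 0) (.lin 0)) (.lin
    2))))) (.lin 1)) (.split 4 (-74) (.split 1 150 (.lin 8) (.split 0 (-155) (.splitN 3797086
    (.wt 1) (.split 4 (-81) (.wt 0) (.split 6 188 (.split 1 151 (.wt 0) (.lin 8)) (.lin 6))))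
    (.lin 12))) (.split 6 179 (.split 0 (-147) (.lin 7) (.wt 0)) (.lin 6)))))) (.lin 1)) (.wt
    1))) (.lin 6))) (.lin 10)) (.lin 9))) (.lin 7))) (.split 6 188 (.split 0 (-156) (.lin 7)
    (.split 1 142 (.split 2 (-117) (.lin 9) (.split 2 (-99) (.lin 10) (.split 0 (-147) (.lin 12)
    (.split 4 (-40) (.split 6 151 (.lin 6) (.split 2 (-80) (.split 0 (-119) (.split 3 (-46) (.wt
    1) (.split 2 (-90) (.lin 10) (.split 7 (-80) (.split 1 123 (.lin 2) (.split 6 160 (.lin 6)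
    (.split 7 (-83) (.split 6 169 (.lin 6) (.split 4 (-50) (.split 6 178 (.lin 6) (.split 0
    (-146) (.split 1 141 (.lin 8) (.splitN 7035830 (.wt 1) (.split 6 183 (.wt 0) (.lin 0))))
    (.lin 7))) (.wt 0))) (.wt 0)))) (.wt 0)))) (.lin 12)) (.lin 10))) (.wt 1))))) (.lin 8)))
    (.lin 6)))))) (.lin 8))) (.lin 6))) (.lin 11))) (.lin 8))) (.split 4 (-155) (.split 0 (-245)
    (.split 2 (-206) (.split 3 (-52) (.wt 2) (.split 6 600 (.split 4 (-489) (.lin 6) (.split 1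
    574 (.split 2 (-522) (.lin 9) (.split 3 (-44) (.wt 2) (.split 4 (-173) (.split 0 (-263)
    (.split 7 (-82) (.split 6 351 (.wt 2) (.split 4 (-236) (.split 0 (-326) (.split 0 (-430) (.wt
    2) (.split 6 458 (.wt 2) (.lin 7))) (.lin 7)) (.lin 6))) (.split 4 (-191) (.split 6 444
    (.split 4 (-336) (.lin 6) (.split 1 403 (.split 2 (-369) (.lin 9) (.split 6 313 (.wt 2)
    (.split 4 (-209) (.split 0 (-281) (.split 6 337 (.wt 2) (.split 4 (-236) (.split 0 (-308)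
    (.split 0 (-389) (.wt 2) (.split 2 (-342) (.lin 1) (.split 1 376 (.split 6 413 (.split 0
    (-347) (.wt 2) (.split 6 377 (.wt 2) (.lin 7))) (.lin 7)) (.lin 2)))) (.lin 7)) (.lin 6)))
    (.lin 7)) (.lin 6)))) (.lin 8))) (.split 4 (-344) (.split 0 (-416) (.split 2 (-377) (.split 6
    482 (.wt 2) (.split 4 (-380) (.split 0 (-452) (.split 6 523 (.wt 2) (.split 4 (-425) (.split
    0 (-497) (.split 1 492 (.lin 8) (.split 2 (-458) (.splitN 1168145 .sq (.split 0 (-520) (.wt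
    2) (.split 2 (-477) (.lin 1) (.split 1 511 (.split 6 548 (.wt 0) (.lin 7)) (.lin 2))))) (.lin
    9))) (.lin 7)) (.lin 6))) (.lin 7)) (.lin 6))) (.lin 9)) (.lin 7)) (.lin 6))) (.lin 6)))
    (.lin 7)) (.lin 6)))) (.lin 8))) (.split 4 (-470) (.split 0 (-560) (.split 1 537 (.lin 8)
    (.split 2 (-512) (.splitN 1455290 .sq (.splitN 3378830 (.split 2 (-18761) (.div 2) (.split 0
    (-18813) (.lin 1) (.split 1 18808 (.split 6 18854 (.splitN 3191748 (.split 2 (-17717) (.div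
    2) (.split 1 17764 (.split 3 (-43) (.wt 0) (.splitN 2153130 (.split 2 (-11957) (.div 2)
    (.split 0 (-12009) (.lin 1) (.split 1 12004 (.split 7 (-81) (.wt 0) (.split 4 (-497) (.split
    6 931 (.split 4 (-822) (.lin 6) (.split 0 (-894) (.lin 7) (.split 1 889 (.splitN 1457536 .sq
    (.wt 1)) (.lin 8)))) (.wt 1)) (.lin 6))) (.lin 2)))) (.wt 1))) (.lin 2))) (.wt 3)) (.lin 7))
    (.lin 2)))) (.wt 3))) (.lin 9))) (.lin 7)) (.lin 6)))) (.lin 9)) (.lin 7)) (.lin 6)))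

def cert5_54_4 : Cert :=
  (.split 7 (-100) (.split 6 169 (.lin 6) (.split 1 132 (.lin 8) (.split 0 (-137) (.split 3 (-82)
    (.wt 2) (.split 7 (-208) (.split 0 (-209) (.split 1 240 (.lin 8) (.split 0 (-245) (.split 6
    277 (.lin 6) (.splitN 246608 .sq (.splitN 1090412 (.split 1 12104 (.split 2 (-11970) (.lin 2)
    (.split 0 (-12108) (.lin 4) (.split 6 24038 (.split 6 12176 (.split 2 (-6053) (.div 2)
    (.split 4 (-126) (.wt 0) (.split 3 (-53) (.wt 2) (.split 2 (-162) (.lin 10) (.split 4 (-109)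
    (.wt 3) (.split 2 (-144) (.lin 10) (.split 0 (-951) .sq (.split 7 (-920) (.lin 1) (.split 1
    1024 (.split 6 1052 (.split 1 943 (.split 6 989 (.splitN 795890 (.split 4 (-92) (.wt 3)
    (.split 0 (-780) .sq (.split 1 772 (.split 6 818 (.split 3 (-47) (.wt 2) (.split 2 (-117)
    (.lin 10) (.splitN 646660 (.split 0 (-678) .sq (.split 1 673 (.split 6 710 (.split 4 (-79)
    (.wt 2) (.split 2 (-108) (.lin 10) (.split 4 (-56) (.split 6 295 (.lin 6) (.split 0 (-263)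
    (.split 1 258 (.lin 8) (.split 2 (-89) (.splitN 279656 .sq (.split 0 (-565) (.wt 0) (.split 7
    (-506) (.lin 1) (.split 1 574 (.split 6 593 (.split 0 (-437) (.wt 0) (.split 7 (-380) (.lin
    1) (.split 1 448 (.split 6 467 (.wt 2) (.lin 7)) (.lin 2)))) (.lin 7)) (.lin 2))))) (.lin
    10))) (.lin 7))) (.split 2 (-81) (.lin 10) (.split 7 (-365) (.split 0 (-407) (.split 1 402
    (.lin 2) (.split 6 430 (.lin 0) .sq)) (.lin 1)) (.split 1 403 (.split 6 449 (.split 7 (-285)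
    (.split 0 (-326) (.split 1 321 (.lin 2) (.split 6 349 (.lin 0) (.splitN 423935 .sq (.wt 0))))
    (.lin 1)) (.split 0 (-327) (.lin 1) (.split 1 322 (.split 6 368 (.splitN 525730 (.split 4
    (-47) (.wt 2) (.split 2 (-72) (.lin 10) (.splitN 337668 (.wt 1) .cand))) (.wt 1)) (.lin 0))
    (.lin 2)))) (.lin 0)) (.lin 2))))))) (.lin 7)) (.lin 4))) (.wt 1)))) (.lin 7)) (.lin 4))))
    (.wt 3)) (.lin 7)) (.lin 4)) (.lin 3)) (.lin 2)))))))))) (.lin 7)) (.lin 0)))) (.div 1)) (.wt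
    3)))) (.lin 12))) (.lin 1)) (.split 3 (-56) (.split 2 (-89) (.split 0 (-581) (.wt 2) (.split
    2 (-549) (.lin 1) (.split 1 574 (.split 6 647 (.splitN 339609 (.wt 6) (.split 4 (-109) (.wt
    0) (.split 6 368 (.split 1 295 (.wt 2) (.lin 8)) (.lin 6)))) (.lin 7)) (.lin 4)))) (.lin 10))
    cert5_54_2))) (.lin 12)))) (.split 3 (-93) (.split 7 (-57) (.split 0 (-169) (.wt 2) (.split 1
    160 (.split 6 386 (.wt 2) (.lin 7)) (.lin 4))) (.wt 1)) (.split 7 (-69) (.split 1 105 (.lin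
    8) (.split 0 (-110) (.split 3 (-65) (.split 0 (-579) (.wt 2) (.split 2 (-594) (.lin 1)
    (.split 1 619 (.split 6 665 (.split 0 (-206) (.wt 2) (.split 1 196 (.split 6 287 (.wt 2)
    (.lin 7)) (.lin 4))) (.lin 7)) (.lin 2)))) cert5_54_3) (.lin 12))) (.split 3 (-65) (.split 4
    (-53) (.split 1 96 (.lin 8) (.split 0 (-101) (.split 4 (-72) (.split 1 114 (.lin 8) (.split 0
    (-6314) (.wt 1) (.split 2 (-6354) (.lin 1) (.split 6 6398 (.split 4 (-6294) (.lin 6) (.split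
    0 (-1225) (.wt 1) (.split 2 (-1260) (.lin 1) (.split 6 1304 (.split 4 (-1200) (.lin 6)
    (.split 0 (-291) (.wt 1) (.split 1 286 (.split 6 377 (.split 4 (-246) (.lin 8) (.wt 1)) (.lin
    7)) (.lin 4)))) (.lin 7))))) (.lin 7))))) (.wt 1)) (.lin 12))) (.wt 1)) (.split 6 258 (.split
    4 (-174) (.lin 6) (.split 0 (-219) (.lin 7) (.split 2 (-207) (.lin 9) (.split 3 (-54) (.wt 1)
    (.split 4 (-65) (.split 6 142 (.lin 6) (.split 1 105 (.lin 8) (.split 7 (-48) (.split 4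
    (-165) (.lin 6) (.split 1 114 (.lin 8) (.split 6 151 (.lin 6) (.split 0 (-128) (.wt 1)
    (.split 2 (-108) (.lin 1) (.split 4 (-75) (.lin 3) (.split 1 115 (.split 7 (-56) (.lin 8)
    (.wt 0)) (.lin 4)))))))) (.wt 0)))) (.wt 1)))))) (.split 4 (-146) (.split 0 (-209) (.split 1
    186 (.lin 8) (.split 1 204 (.lin 11) (.split 7 (-53) (.split 3 (-47) (.split 6 427 (.wt 1)
    (.split 4 (-317) (.split 0 (-380) (.split 1 366 (.lin 8) (.split 6 890 (.wt 1) (.split 0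
    (-848) (.wt 6) (.lin 7)))) (.lin 7)) (.lin 6))) (.split 0 (-227) (.split 1 222 (.lin 11)
    (.split 6 269 (.wt 1) (.split 2 (-215) (.split 1 240 (.lin 11) (.split 6 2524 (.split 4
    (-2433) (.lin 6) (.split 0 (-2487) (.lin 7) (.split 2 (-2466) (.lin 9) (.split 6 295 (.wt 1)
    (.split 0 (-263) (.split 1 258 (.lin 11) (.split 6 309 (.wt 1) (.split 0 (-281) (.split 2
    (-251) (.split 1 276 (.lin 11) (.split 7 (-56) (.split 6 323 (.wt 1) (.split 4 (-236) (.split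
    0 (-299) (.split 1 294 (.lin 8) (.split 6 1164 (.split 4 (-1065) (.lin 6) (.split 0 (-1128)
    (.lin 7) (.split 2 (-1098) (.lin 9) (.split 6 357 (.wt 1) (.split 4 (-263) (.split 0 (-326)
    (.split 1 321 (.lin 8) (.split 6 378 (.wt 1) (.split 4 (-290) (.split 1 348 (.lin 8) (.split
    6 1018 (.split 4 (-921) (.lin 6) (.split 0 (-984) (.lin 7) (.split 2 (-954) (.lin 9) (.split
    6 860 (.split 4 (-759) (.lin 6) (.split 0 (-822) (.lin 7) (.split 6 693 (.split 4 (-597)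
    (.lin 6) (.split 0 (-660) (.lin 7) (.split 2 (-630) (.lin 9) (.split 0 (-408) (.split 2
    (-386) (.split 1 411 (.lin 2) (.split 6 448 (.lin 7) (.wt 3))) (.lin 1)) (.wt 0))))) (.wt
    0)))) (.wt 0))))) (.wt 0))) (.lin 6)))) (.lin 7)) (.lin 6)))))) (.wt 2))) (.lin 7)) (.lin
    6))) (.wt 0))) (.lin 9)) (.lin 7)))) (.lin 7)))))) (.wt 2))) (.lin 9)))) (.lin 7))) (.wt
    1)))) (.lin 7)) (.lin 6)))))))

def cert5_54_5 : Cert :=
  (.split 3 (-52) (.split 2 (-71) (.split 7 (-316) (.split 0 (-326) (.split 1 321 (.lin 2)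
    (.split 6 367 (.lin 0) (.splitN 453842 .sq (.split 4 (-29) (.wt 0) (.split 2 (-81) (.lin 10)
    (.split 6 405 (.wt 2) (.split 0 (-353) (.split 7 (-334) (.split 6 441 (.wt 2) (.split 0
    (-389) (.split 7 (-361) (.split 6 494 (.wt 2) (.split 1 438 (.lin 0) (.split 0 (-443) (.split
    7 (-415) (.splitN 822806 .sq (.splitN 127352601 (.split 1 1415024 (.split 6 1415087 (.split 7
    (-11333) (.wt 0) (.split 1 11356 (.split 6 11420 (.split 7 (-5822) (.wt 0) (.split 1 5839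
    (.split 6 5903 (.split 7 (-3988) (.wt 0) (.split 1 4003 (.split 6 4067 (.split 7 (-3079) (.wt
    0) (.split 1 3094 (.split 6 3158 (.split 7 (-2541) (.wt 0) (.split 1 2563 (.split 6 2627
    (.split 7 (-2193) (.wt 0) (.split 1 2212 (.split 6 2276 (.split 7 (-1948) (.wt 0) (.split 1
    1969 (.split 6 2033 (.split 7 (-1771) (.wt 0) (.split 1 1789 (.split 6 1853 (.split 7 (-1635)
    (.wt 0) (.split 1 1654 (.split 6 1718 (.split 7 (-1531) (.wt 0) (.split 1 1546 (.split 6 1610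
    (.split 7 (-1445) (.wt 0) (.split 1 1465 (.split 6 1529 (.split 3 (-62) (.wt 2) (.split 2
    (-72) (.lin 10) (.split 0 (-1379) (.wt 2) (.split 7 (-1352) (.lin 1) (.split 1 1366 (.split 6
    1421 (.split 0 (-1211) (.wt 2) (.split 7 (-1190) (.lin 1) (.split 1 1204 (.split 6 1259
    (.split 0 (-988) (.wt 2) (.split 7 (-965) (.lin 1) (.split 1 979 (.split 6 1034 (.split 0
    (-731) (.wt 2) (.split 7 (-704) (.lin 1) (.split 1 718 (.split 6 773 (.splitN 1290579 (.wt 6)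
    (.split 7 (-518) (.wt 0) (.split 1 529 (.split 6 584 (.splitN 1361087 (.wt 1) (.wt 0)) (.lin
    0)) (.lin 2)))) (.lin 0)) (.lin 2)))) (.lin 0)) (.lin 2)))) (.lin 0)) (.lin 2)))) (.lin 0))
    (.lin 2)))))) (.lin 0)) (.lin 2))) (.lin 0)) (.lin 2))) (.lin 0)) (.lin 2))) (.lin 0)) (.lin
    2))) (.lin 0)) (.lin 2))) (.lin 0)) (.lin 2))) (.lin 0)) (.lin 2))) (.lin 0)) (.lin 2)))
    (.lin 0)) (.lin 2))) (.lin 0)) (.lin 2))) (.lin 0)) (.lin 2))) (.lin 0)) (.div 1)) (.wt 3)))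
    (.lin 1)) (.lin 3)))) (.lin 1)) (.lin 3))) (.lin 6)) (.lin 3)))))))) (.lin 1)) (.split 1 340
    (.split 6 413 (.split 4 (-27) (.wt 2) (.split 6 386 (.split 2 (-81) (.lin 10) (.split 6 248
    (.wt 1) (.split 1 186 (.lin 0) (.split 0 (-191) (.split 6 269 (.wt 1) (.split 1 213 (.lin 0)
    (.split 0 (-218) (.split 3 (-65) (.wt 1) (.split 2 (-72) (.lin 10) (.split 6 308 (.wt 1)
    (.split 0 (-263) (.split 7 (-244) (.wt 6) (.lin 1)) (.lin 3))))) (.lin 3)))) (.lin 3)))))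
    (.lin 6))) (.lin 0)) (.lin 2))) (.lin 10)) (.split 2 (-72) (.lin 10) (.split 7 (-316) (.split
    0 (-326) (.split 1 321 (.lin 2) (.split 6 349 (.lin 0) (.split 4 (-25) (.split 6 376 (.lin 6)
    (.split 1 339 (.lin 8) (.split 2 (-62) (.split 0 (-344) (.splitN 482075 .sq (.splitN 973662
    (.split 1 10808 (.split 6 10853 (.split 0 (-10821) (.lin 3) (.split 7 (-1185) (.wt 1) (.split
    0 (-1218) (.lin 1) (.split 1 1213 (.split 7 (-853) (.wt 1) (.split 0 (-885) (.lin 1) (.split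
    1 880 (.split 7 (-762) (.wt 1) (.split 1 790 (.split 6 836 (.split 7 (-636) (.wt 3) (.split 0
    (-669) (.lin 1) (.split 1 664 (.split 6 710 (.split 3 (-47) (.wt 0) (.wt 6)) (.lin 0)) (.lin
    2)))) (.lin 0)) (.lin 2))) (.lin 2)))) (.lin 2))))) (.lin 0)) (.div 1)) (.wt 1))) (.lin 12))
    (.lin 10)))) (.split 2 (-63) (.lin 10) (.split 3 (-40) (.split 6 376 (.lin 6) (.split 2 (-62)
    (.split 6 1218 (.split 1 1168 (.split 0 (-1173) (.lin 3) (.split 7 (-1154) (.lin 1) (.split 0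
    (-392) (.split 7 (-379) (.split 1 393 (.lin 2) (.split 6 439 (.lin 0) (.split 0 (-582)
    (.split 7 (-568) (.split 1 582 (.lin 2) (.split 6 628 (.lin 0) (.splitN 1409201 .sq (.wt
    1)))) (.lin 1)) (.wt 2)))) (.lin 1)) (.wt 2)))) (.lin 0)) (.wt 2)) (.lin 10))) (.wt 2))))))
    (.lin 1)) (.split 0 (-345) (.lin 1) (.split 1 340 (.split 6 395 (.split 4 (-25) (.split 1 177
    (.lin 8) (.split 2 (-62) (.split 3 (-43) (.split 2 (-71) (.split 0 (-288) (.wt 2) (.split 7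
    (-254) (.lin 1) (.split 1 277 (.split 6 323 (.split 0 (-215) (.wt 2) (.split 7 (-182) (.lin
    1) (.split 1 205 (.split 6 251 (.wt 2) (.lin 0)) (.lin 2)))) (.lin 0)) (.lin 2)))) (.lin 10))
    (.split 2 (-63) (.lin 10) (.split 0 (-183) (.split 6 223 (.lin 3) (.split 0 (-209) (.split 7
    (-181) (.split 1 204 (.lin 2) (.split 6 241 (.lin 0) (.split 0 (-251) (.split 7 (-226)
    (.split 1 249 (.lin 2) (.split 6 286 (.lin 0) (.wt 2))) (.lin 1)) (.wt 2)))) (.lin 1)) (.wt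
    2))) (.wt 2)))) (.lin 10))) (.split 2 (-63) (.lin 10) (.split 0 (-327) (.lin 12) (.split 3
    (-42) (.split 2 (-62) (.split 6 344 (.split 0 (-300) (.lin 3) (.split 7 (-281) (.lin 1)
    (.split 0 (-202) (.split 7 (-190) (.split 1 204 (.lin 2) (.split 6 250 (.lin 0) (.wt 0)))
    (.lin 1)) (.wt 0)))) (.wt 0)) (.lin 10)) (.wt 0))))) (.lin 0)) (.lin 2))))))

def cert5_54_6 : Cert :=
  (.split 4 (-30) (.split 6 106 (.lin 6) (.split 1 69 (.lin 8) (.split 2 (-62) (.split 0 (-83)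
    (.split 5 9 (.split 1 78 (.lin 4) (.split 2 (-71) (.split 3 (-233) (.wt 6) cert5_54_4) (.lin
    10))) (.splitN 5289795 (.split 1 58760 (.split 0 (-58773) (.lin 4) (.split 2 (-29381) (.div
    2) (.split 3 (-29352) (.lin 10) (.split 3 (-40) (.split 6 115 (.lin 6) (.split 2 (-71)
    (.splitN 2012065 (.split 2 (-11165) (.div 2) (.split 3 (-11136) (.lin 10) (.split 0 (-1408)
    .sq (.split 1 1393 (.split 4 (-1362) (.lin 8) (.splitN 1558923 (.split 0 (-1236) .sq (.split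
    1 1222 (.split 4 (-1191) (.lin 8) (.split 2 (-1235) .sq (.split 3 (-1209) (.lin 10) (.splitN
    1346753 (.split 0 (-1148) .sq (.split 1 1132 (.split 2 (-1147) .sq (.split 3 (-1119) (.lin
    10) (.split 7 (-226) (.split 1 249 (.lin 8) (.split 0 (-263) (.split 6 295 (.lin 6) (.splitN
    279251 .sq (.wt 1))) (.lin 12))) (.split 3 (-52) (.split 6 124 (.lin 6) (.split 2 (-80)
    (.splitN 983755 (.split 0 (-974) .sq (.split 1 952 (.split 4 (-921) (.lin 8) (.split 2 (-974)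
    .sq (.split 3 (-948) (.lin 10) (.split 6 978 (.split 7 (-100) (.split 1 123 (.lin 8) (.split
    0 (-137) (.split 6 178 (.lin 6) (.splitN 140689 (.split 2 (-779) (.div 2) (.split 3 (-750)
    (.lin 10) (.split 3 (-86) (.split 2 (-116) (.split 6 214 (.lin 6) (.splitN 113930 .sq (.split
    4 (-78) (.wt 1) (.split 0 (-291) (.lin 12) (.wt 6))))) (.lin 10)) (.wt 2)))) (.wt 1))) (.lin
    12))) (.split 3 (-74) (.split 4 (-867) (.lin 6) (.split 0 (-912) (.lin 7) (.split 2 (-98)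
    (.split 6 142 (.lin 6) (.split 0 (-85) (.split 1 78 (.lin 4) (.split 3 (-894) (.lin 7)
    (.split 6 151 (.lin 7) (.split 0 (-96) (.split 1 87 (.lin 4) (.split 6 160 (.lin 7) (.split 0
    (-106) (.split 6 169 (.lin 7) (.split 0 (-118) (.split 1 105 (.lin 4) (.split 6 178 (.lin 7)
    (.split 0 (-130) (.split 1 123 (.lin 4) (.split 3 (-849) (.lin 7) (.split 6 196 (.lin 7)
    (.split 0 (-158) (.split 2 (-134) (.split 1 150 (.lin 4) (.split 6 223 (.lin 7) (.split 4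
    (-74) (.splitN 131093 .sq (.splitN 187318 (.split 7 (-51) (.split 7 (-78) (.wt 1) (.split 2
    (-152) (.splitN 155812 (.split 3 (-107) (.split 2 (-188) (.split 6 259 (.lin 7) .sq) (.lin
    1)) (.wt 0)) (.wt 6)) (.lin 1))) (.wt 0)) (.wt 6))) (.lin 8)))) (.lin 1)) (.wt 2))))) (.wt
    2)))) (.wt 2))) (.wt 2)))) (.wt 2))))) (.wt 2))) (.lin 10)))) (.wt 2))) .sq)))) (.lin 4)))
    (.wt 1)) (.lin 10))) (.wt 2))))) (.lin 4))) (.wt 1))))) (.lin 4))) (.wt 1))) (.lin 4)))))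
    (.wt 1)) (.lin 10))) (.wt 2))))) (.div 1)) (.wt 1))) (.lin 12)) (.lin 10)))) (.split 5 9
    (.split 1 51 (.lin 4) (.split 2 (-44) (.split 7 (-55) (.split 1 60 (.lin 8) (.split 7 (-59)
    (.split 6 106 (.lin 6) (.split 1 69 (.lin 8) (.split 0 (-74) (.split 4 (-20) (.split 1 78
    (.lin 8) (.split 2 (-53) (.split 0 (-83) (.split 7 (-65) (.split 0 (-92) (.split 3 (-424)
    (.wt 6) (.split 2 (-441) (.lin 10) (.split 3 (-126) (.split 2 (-143) (.split 7 (-100) (.split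
    0 (-119) (.splitN 397034 (.wt 6) (.split 7 (-1977) (.wt 0) (.split 1 2284 (.split 1 1996
    (.split 6 2420 (.splitN 744186 (.wt 6) (.split 7 (-410) (.wt 0) (.split 1 430 (.split 6 854
    (.wt 6) (.lin 0)) (.lin 8)))) (.lin 0)) (.lin 8)) (.lin 2)))) (.lin 12)) (.wt 1)) (.lin 10))
    (.split 2 (-144) (.lin 10) (.split 7 (-154) (.split 6 205 (.lin 6) (.split 1 168 (.lin 8)
    (.split 0 (-173) (.split 3 (-103) (.wt 6) (.split 2 (-126) (.lin 10) (.split 3 (-70) (.split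
    2 (-89) (.split 0 (-1075) (.wt 2) (.split 7 (-1082) (.lin 1) (.split 1 1132 (.split 6 1178
    (.split 0 (-374) (.wt 2) (.split 6 476 (.wt 6) (.lin 3))) (.lin 3)) (.lin 2)))) (.lin 10))
    (.split 2 (-90) (.lin 10) cert5_54_5)))) (.lin 12)))) (.split 1 169 (.split 0 (-174) (.lin
    12) (.split 6 296 (.split 7 (-86) (.split 1 105 (.lin 8) (.split 0 (-110) (.split 3 (-94)
    (.wt 1) (.split 6 260 (.split 3 (-80) (.wt 1) (.split 6 242 (.split 2 (-99) (.lin 10) (.split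
    3 (-73) (.wt 1) (.split 2 (-90) (.lin 10) (.split 7 (-100) (.split 1 114 (.lin 8) (.split 0
    (-119) (.split 7 (-103) (.split 1 123 (.lin 8) (.split 0 (-128) (.split 3 (-62) (.wt 1)
    (.split 6 224 (.split 2 (-81) (.lin 10) (.split 4 (-22) (.split 1 132 (.lin 8) (.split 3
    (-54) (.wt 1) (.split 2 (-72) (.lin 10) (.split 7 (-114) (.split 6 178 (.lin 6) (.split 0
    (-146) (.split 3 (-39) (.wt 6) (.wt 0)) (.lin 12))) (.wt 1))))) (.wt 1))) (.lin 6))) (.lin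
    12))) (.wt 1)) (.lin 12))) (.wt 1))))) (.lin 6))) (.lin 6))) (.lin 12))) (.wt 1)) (.lin 0)))
    (.lin 8))))))) (.lin 12)) (.wt 1)) (.lin 12)) (.lin 10))) (.split 3 (-52) (.split 6 124 (.lin
    6) (.split 3 (-58) (.split 6 133 (.lin 6) (.split 7 (-121) (.split 1 132 (.lin 8) (.split 0
    (-137) (.wt 1) (.lin 12))) (.wt 0))) (.wt 0))) (.wt 0))) (.lin 12)))) (.wt 1))) (.wt 1))
    (.lin 10))) (.split 3 (-45) (.split 6 88 (.lin 6) (.split 3 (-50) (.split 6 97 (.lin 6)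
    (.split 2 (-53) (.split 7 (-100) (.split 6 151 (.lin 6) (.split 1 96 (.lin 8) (.splitN
    1710665 (.split 1 18980 (.split 0 (-18993) (.lin 4) (.split 7 (-18983) (.lin 8) (.split 2
    (-9491) (.div 2) (.split 3 (-9489) (.lin 10) (.splitN 572994 (.split 1 6344 (.split 0 (-6357)
    (.lin 4) (.split 7 (-6347) (.lin 8) (.split 2 (-3173) (.div 2) (.split 3 (-3171) (.lin 10)
    (.splitN 452340 (.split 1 5012 (.split 0 (-5025) (.lin 4) (.split 7 (-5015) (.lin 8) (.split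
    2 (-2507) (.div 2) (.split 3 (-2505) (.lin 10) (.splitN 417277 (.split 2 (-2309) (.div 2)
    (.split 3 (-2307) (.lin 10) (.split 0 (-143) (.split 1 132 (.lin 4) (.split 6 187 (.lin 7)
    (.split 7 (-118) (.splitN 155177 (.split 1 1700 (.split 0 (-1713) (.lin 4) (.split 7 (-1703)
    (.lin 8) (.split 2 (-851) (.div 2) (.split 3 (-849) (.lin 10) (.splitN 123592 (.split 1 1340
    (.split 0 (-1353) (.lin 4) (.split 7 (-1343) (.lin 8) (.split 2 (-671) (.div 2) (.split 3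
    (-669) (.lin 10) (.splitN 113752 (.split 3 (-106) (.split 2 (-107) (.split 6 241 (.lin 7)
    .sq) (.lin 10)) (.wt 0)) (.wt 6)))))) (.div 1)) (.wt 6)))))) (.div 1)) (.wt 6)) (.lin 8))))
    (.wt 2)))) (.wt 6)))))) (.div 1)) (.wt 6)))))) (.div 1)) (.wt 6)))))) (.div 1)) (.wt 1))))
    (.split 1 106 (.split 0 (-120) (.lin 12) (.splitN 240878 (.split 2 (-1337) (.div 2) (.split 6
    1439 (.split 3 (-1398) (.lin 6) (.splitN 195388 (.split 2 (-1085) (.div 2) (.split 3 (-1083)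
    (.lin 10) (.splitN 185205 (.split 0 (-69) (.split 1 60 (.lin 4) (.split 6 115 (.lin 7) (.wt
    0))) (.wt 0)) (.wt 6)))) (.wt 6))) (.lin 0))) (.wt 6))) (.lin 8))) (.lin 10))) (.wt 2))) (.wt
    2))))

def cert5_54_7 : Cert :=
  (.split 6 132 (.split 2 (-81) (.lin 9) (.split 1 88 (.split 3 (-102) (.lin 11) (.split 7 (-69)
    (.split 2 (-54) (.lin 9) (.split 0 (-110) (.split 6 79 (.lin 9) (.splitN 209218 (.split 4
    (-2313) (.div 4) (.split 5 2399 (.split 0 (-2505) (.lin 1) (.split 5 1156 (.split 0 (-1254)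
    (.lin 1) (.split 3 (-40) (.split 5 31 (.lin 6) (.split 1 79 (.splitN 165012 (.split 0 (-382)
    .sq (.split 5 401 (.split 4 (-453) (.lin 0) (.split 4 (-354) (.lin 3) (.split 4 (-309) (.lin
    12) (.split 3 (-52) (.split 5 40 (.lin 6) (.split 1 59 (.split 5 58 (.lin 4) (.split 0 (-120)
    (.split 5 76 (.lin 4) (.split 0 (-136) (.split 5 85 (.lin 4) (.split 4 (-47) (.split 0 (-143)
    (.split 5 94 (.lin 4) (.split 0 (-148) (.split 1 35 (.split 5 121 (.lin 4) (.split 0 (-162)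
    (.split 5 130 (.lin 4) (.split 0 (-165) (.split 5 139 (.lin 4) (.split 4 (-83) (.splitN 71972
    .sq (.split 1 33 (.split 5 148 (.lin 4) (.split 2 (-23) (.wt 1) (.split 3 (-84) (.lin 2)
    (.splitN 76790 (.split 0 (-272) (.split 5 247 (.lin 4) .sq) (.wt 2)) (.wt 6))))) (.wt 2)))
    (.lin 12))) (.wt 2))) (.wt 2))) (.wt 2)) (.wt 2))) (.wt 2)) (.lin 12))) (.wt 2))) (.wt 2)))
    (.wt 2))) (.wt 2))))) (.lin 1))) (.wt 1)) (.lin 11))) (.wt 2))) (.div 5))) (.lin 0))) (.wt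
    1))) (.lin 12))) (.split 3 (-70) (.split 1 52 (.split 2 (-35) (.split 5 31 (.lin 4) (.split 6
    97 (.lin 11) (.splitN 168285 (.split 4 (-1845) (.div 4) (.split 5 922 (.split 4 (-948) (.lin
    0) (.split 0 (-984) (.lin 1) (.splitN 111387 (.split 5 616 (.split 0 (-678) (.lin 1) (.splitN
    102520 (.split 1 44 (.split 5 40 (.lin 4) (.splitN 79037 (.split 5 436 (.split 4 (-453) (.lin
    0) (.split 0 (-471) (.lin 4) (.wt 2))) (.div 5)) (.wt 6))) (.wt 0)) (.wt 6))) (.div 5)) (.wt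
    6)))) (.div 5))) (.wt 1)))) (.lin 2)) (.lin 11)) (.splitN 1789278 (.split 5 9940 (.split 4
    (-10038) (.lin 0) (.split 0 (-10038) (.lin 1) (.split 6 118 (.split 2 (-72) (.lin 9) (.split
    1 79 (.splitN 1461952 (.split 0 (-1204) .sq (.split 5 1211 (.split 4 (-1299) (.lin 0) (.split
    4 (-1209) (.lin 3) (.split 6 111 (.split 2 (-63) (.lin 9) (.split 1 70 (.splitN 1100730
    (.split 0 (-1044) .sq (.split 6 84 (.split 5 40 (.lin 6) (.split 2 (-36) (.lin 9) (.split 1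
    43 (.split 3 (-57) (.lin 11) (.split 0 (-168) (.split 5 130 (.lin 4) (.split 4 (-110)
    (.splitN 150008 (.split 5 832 (.split 0 (-885) (.lin 1) (.splitN 93647 (.split 5 508 (.split
    4 (-516) (.lin 0) (.split 0 (-561) (.lin 1) (.wt 2))) (.div 5)) (.wt 6))) (.div 5)) (.wt 1))
    (.lin 12))) (.wt 2))) (.lin 11)))) (.split 2 (-26) (.splitN 115802 (.split 5 634 (.split 4
    (-669) (.lin 0) (.split 0 (-714) (.lin 1) (.splitN 106479 (.split 0 (-96) (.split 5 31 (.lin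
    4) (.wt 2)) (.wt 0)) (.wt 6)))) (.div 5)) (.wt 6)) (.lin 9)))) (.wt 1)) (.lin 11))) (.wt
    2)))) (.lin 1))) (.wt 1)) (.lin 11))) (.wt 2)))) (.div 5)) (.wt 1))))) (.lin 11))) (.split 2
    (-44) (.splitN 315201 (.split 2 (-1751) (.div 2) (.split 1 1798 (.split 3 (-1812) (.lin 2)
    (.split 4 (-3501) (.div 4) (.split 0 (-3585) (.lin 12) (.splitN 301822 (.split 3 (-65)
    (.split 0 (-520) .sq (.split 1 493 (.split 5 491 (.split 4 (-939) (.lin 8) (.split 4 (-471)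
    (.lin 12) (.splitN 275763 (.split 3 (-76) (.split 0 (-492) .sq (.split 4 (-444) (.lin 12)
    (.split 2 (-487) .sq (.split 3 (-552) (.lin 2) (.split 1 180 (.splitN 244267 (.split 0 (-461)
    .sq (.split 4 (-408) (.lin 12) (.split 1 160 (.split 2 (-456) .sq (.split 3 (-516) (.lin 2)
    (.split 3 (-461) .sq (.split 7 (-69) (.split 0 (-110) (.splitN 127089 (.split 0 (-304) .sq
    (.split 4 (-228) (.lin 12) (.split 1 77 (.split 5 40 (.lin 4) (.split 0 (-134) (.split 5 67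
    (.lin 4) (.splitN 69635 (.split 1 36 (.split 5 103 (.lin 4) (.split 3 (-101) (.splitN 67841
    .sq (.wt 6)) (.lin 11))) (.wt 0)) (.wt 6))) (.wt 2))) (.wt 2)))) (.wt 1)) (.lin 12)) (.split
    2 (-71) (.split 0 (-106) (.split 1 57 (.split 5 58 (.lin 4) (.splitN 74145 (.split 0 (-185)
    (.split 5 139 (.lin 4) (.split 4 (-128) .sq (.lin 12))) (.wt 0)) (.wt 6))) (.wt 2)) (.wt 2))
    (.lin 9)))))) (.wt 2)))) (.wt 1)) (.wt 2)))))) (.wt 2)) (.wt 1)))) (.lin 4)) (.lin 4))) (.wt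
    2)) (.wt 1))))) (.lin 2))) (.wt 1)) (.lin 9)))

def cert5_54_8 : Cert :=
  (.split 7 (-28) (.split 5 49 (.lin 8) (.split 2 (-63) (.lin 9) (.split 0 (-65) (.split 1 11
    (.split 5 58 (.lin 4) (.splitN 239127 (.split 4 (-2637) (.div 4) (.split 5 2705 (.split 5
    1318 (.splitN 123401 (.split 5 670 (.split 0 (-334) .sq (.split 5 374 (.split 4 (-399) (.lin
    0) (.split 4 (-345) (.lin 3) (.split 5 320 (.split 6 66 (.split 2 (-36) (.lin 9) (.split 3
    (-57) (.lin 11) (.split 7 (-33) (.split 2 (-27) (.lin 2) (.split 0 (-74) (.splitN 49976 (.wt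
    1) (.split 4 (-156) (.wt 0) (.split 0 (-192) (.lin 12) (.split 5 185 (.split 0 (-112) (.wt 2)
    (.split 5 104 (.split 0 (-101) (.wt 2) (.split 5 86 (.split 4 (-57) (.lin 8) (.split 3 (-43)
    (.wt 2) (.split 2 (-9) (.lin 2) (.split 6 44 (.splitN 56687 (.wt 1) (.wt 0)) (.lin 9)))))
    (.lin 4))) (.lin 4))) (.lin 4))))) (.lin 12))) (.split 2 (-17) (.splitN 60228 (.wt 1)
    (.splitN 99842 (.split 0 (-298) .sq (.split 5 302 (.split 6 53 (.split 2 (-27) (.lin 9)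
    (.split 3 (-48) (.lin 2) (.split 0 (-136) (.wt 2) (.split 5 131 (.split 4 (-120) (.lin 0)
    (.split 5 122 (.splitN 69473 (.wt 1) .cand) (.lin 4))) (.lin 1))))) (.split 2 (-35) (.split 3
    (-56) (.split 4 (-130) (.wt 0) (.split 5 149 (.splitN 66841 (.wt 1) (.split 4 (-70) (.wt 0)
    (.split 5 86 (.splitN 72152 (.wt 1) (.split 4 (-50) (.wt 0) (.split 5 68 (.split 0 (-73) (.wt
    2) (.split 5 59 (.split 4 (-39) (.lin 0) (.splitN 84225 (.wt 0) (.wt 0))) (.lin 1))) (.lin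
    0)))) (.lin 0)))) (.lin 0))) (.lin 2)) (.lin 9))) (.lin 1))) (.wt 3))) (.lin 2))))) (.split 2
    (-35) (.split 3 (-56) (.split 3 (-65) (.splitN 100163 (.splitN 47104 (.wt 1) (.split 0 (-204)
    (.wt 2) (.split 5 221 (.split 5 194 (.split 0 (-186) (.wt 2) (.split 5 176 (.split 4 (-156)
    (.lin 8) (.split 7 (-33) (.split 2 (-54) (.lin 2) (.split 0 (-74) (.splitN 57183 (.split 0
    (-160) (.wt 0) (.split 5 149 (.split 4 (-120) (.lin 8) (.splitN 49504 (.wt 1) (.split 0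
    (-105) (.wt 0) (.split 5 95 (.split 0 (-101) (.wt 0) (.split 5 86 (.split 4 (-57) (.lin 8)
    (.splitN 52817 (.wt 1) (.split 0 (-78) (.wt 0) (.split 5 68 (.split 4 (-39) (.lin 8) (.wt 1))
    (.lin 4))))) (.lin 4))) (.lin 4))))) (.lin 4))) (.wt 0)) (.lin 12))) (.split 2 (-44) (.splitN
    59173 (.wt 1) (.split 0 (-124) (.split 5 121 (.lin 4) (.split 4 (-101) (.wt 0) (.lin 8)))
    (.split 5 131 (.split 5 113 (.split 4 (-93) (.lin 8) (.split 4 (-65) (.split 0 (-92) (.splitN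
    68066 (.split 6 78 (.wt 1) (.split 2 (-53) (.split 3 (-74) (.wt 2) (.lin 2)) (.lin 9))) (.wt
    0)) (.lin 12)) (.split 0 (-84) (.lin 12) (.split 5 77 (.splitN 65576 (.wt 1) .cand) (.lin
    4))))) (.lin 4)) (.lin 1)))) (.lin 2)))) (.lin 4))) (.lin 4)) (.lin 1)))) (.wt 0)) (.lin 11))
    (.lin 2)) (.lin 9))) (.lin 4)))) (.lin 1))) (.div 5)) (.wt 3)) (.div 5)) (.lin 0))) (.wt 0)))
    (.split 2 (-17) (.split 3 (-75) (.lin 11) (.split 6 52 (.lin 11) (.splitN 791540 (.split 4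
    (-8793) (.div 4) (.split 5 8843 (.split 0 (-8904) (.lin 1) (.split 0 (-77) (.split 5 67 (.lin
    4) (.split 4 (-47) (.splitN 454677 (.split 5 2524 (.split 0 (-2577) (.lin 1) (.split 0 (-86)
    (.split 5 76 (.lin 4) (.split 4 (-56) (.split 3 (-41) (.split 2 (-26) (.split 6 61 (.lin 11)
    (.splitN 244229 (.split 5 1354 (.split 4 (-1362) (.lin 0) (.split 0 (-165) (.split 5 157
    (.lin 4) (.split 4 (-137) (.splitN 177313 (.split 5 976 (.split 4 (-984) (.lin 0) (.split 0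
    (-1020) (.lin 1) (.split 0 (-228) (.split 5 220 (.lin 4) (.split 4 (-200) (.splitN 152306 .sq
    (.wt 6)) (.lin 8))) (.wt 2)))) (.div 5)) (.wt 1)) (.lin 8))) (.wt 2))) (.div 5)) (.wt 1)))
    (.lin 2)) (.wt 2)) (.lin 8))) (.wt 2))) (.div 5)) (.wt 1)) (.lin 8))) (.wt 2))) (.lin 0)))
    (.wt 1)))) (.lin 2))) (.lin 12)))) (.split 2 (-26) (.split 1 13 (.split 5 49 (.lin 4) (.split
    6 66 (.split 2 (-45) (.lin 9) (.split 3 (-57) (.lin 2) (.split 0 (-277) (.split 5 256 (.lin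
    1) (.split 4 (-227) (.split 5 274 (.lin 4) (.split 4 (-263) (.splitN 228221 .sq (.wt 0))
    (.lin 8))) (.lin 0))) (.split 0 (-124) (.split 5 121 (.lin 4) (.split 4 (-110) (.splitN
    232752 .cand (.wt 3)) (.lin 8))) (.split 5 131 (.split 4 (-138) (.lin 0) (.split 5 113
    (.split 4 (-102) (.lin 8) (.split 6 53 (.split 2 (-36) (.lin 9) (.split 3 (-48) (.lin 2)
    (.split 0 (-59) (.split 5 58 (.lin 4) (.split 4 (-47) (.split 6 48 (.split 2 (-27) (.lin 9)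
    (.split 3 (-39) (.lin 2) (.splitN 330162 (.split 0 (-68) (.split 5 67 (.lin 1) (.split 4
    (-56) (.splitN 283432 (.split 0 (-76) (.split 5 76 (.lin 1) (.split 4 (-65) (.splitN 256556
    (.split 0 (-84) (.split 5 85 (.lin 1) (.split 0 (-101) (.split 5 94 (.lin 1) (.split 0 (-103)
    (.split 5 103 (.lin 1) (.split 4 (-92) (.splitN 213950 (.split 0 (-113) (.wt 2) (.split 5 104
    (.split 4 (-93) (.lin 0) (.wt 0)) (.lin 1))) (.wt 3)) (.lin 0))) (.wt 2))) (.wt 2))) (.wt 0))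
    (.wt 1)) (.lin 0))) (.wt 0)) (.wt 1)) (.lin 0))) (.wt 0)) (.wt 1)))) (.split 2 (-35) (.split
    3 (-47) (.splitN 246748 (.split 0 (-81) (.split 5 76 (.lin 1) (.splitN 191333 (.split 0
    (-112) (.split 5 112 (.lin 1) (.split 4 (-101) (.splitN 186944 (.wt 0) (.wt 0)) (.lin 0)))
    (.wt 0)) (.wt 6))) (.wt 0)) (.wt 1)) (.lin 2)) (.lin 9))) (.lin 8))) (.wt 2)))) (.split 2
    (-44) (.split 3 (-56) (.splitN 204426 (.split 0 (-95) (.split 5 94 (.lin 1) (.split 4 (-83)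
    (.splitN 183223 (.wt 0) (.wt 1)) (.lin 0))) (.wt 0)) (.wt 6)) (.lin 2)) (.lin 9)))) (.lin
    4))) (.lin 1)))))) (.split 2 (-53) (.split 3 (-65) (.splitN 303307 (.split 4 (-3357) (.div 4)
    (.split 5 3380 (.split 0 (-3405) (.lin 1) (.split 0 (-70) (.split 5 67 (.lin 4) (.split 4
    (-56) (.splitN 218588 (.split 5 1210 (.split 0 (-1227) (.lin 1) (.split 0 (-78) (.split 5 76
    (.lin 4) (.split 4 (-65) (.splitN 201237 (.split 0 (-420) .sq (.split 5 428 (.split 4 (-435)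
    (.lin 0) (.split 0 (-84) (.split 5 85 (.lin 4) (.split 4 (-74) (.splitN 184190 .cand (.wt 1))
    (.lin 8))) (.wt 2))) (.lin 1))) (.wt 1)) (.lin 8))) (.wt 2))) (.div 5)) (.wt 1)) (.lin 8)))
    (.wt 2))) (.lin 0))) (.wt 1)) (.lin 2)) (.lin 9)))) (.wt 0)) (.lin 2)))

def cert5_54_9 : Cert :=
  (.split 4 (-30) (.split 5 40 (.lin 8) (.split 0 (-56) (.split 6 96 (.split 2 (-72) (.lin 9)
    (.split 3 (-102) (.lin 2) (.split 3 (-84) (.lin 11) cert5_54_8))) (.split 2 (-62) (.split 3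
    (-65) (.split 3 (-83) (.split 7 (-28) (.split 5 49 (.lin 8) (.split 0 (-65) (.splitN 265179
    (.split 2 (-1463) (.div 2) (.split 3 (-1488) (.lin 2) (.split 0 (-488) .sq (.split 5 473
    (.split 4 (-462) (.lin 8) (.splitN 245382 (.split 2 (-468) .sq (.split 3 (-498) (.lin 2)
    (.split 3 (-471) .sq (.split 1 11 (.split 5 58 (.lin 4) (.split 3 (-92) (.splitN 86274
    (.split 0 (-240) .sq (.split 5 230 (.split 3 (-249) .sq (.split 6 251 (.split 7 (-33) (.split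
    0 (-74) (.split 5 67 (.lin 4) (.splitN 56395 (.split 0 (-163) .sq (.split 5 149 (.split 6 100
    (.wt 2) (.split 2 (-71) (.split 3 (-101) (.splitN 55726 (.split 6 107 (.wt 2) (.split 2 (-80)
    (.split 3 (-110) (.split 0 (-115) .sq (.split 5 104 (.split 6 118 (.wt 2) (.split 2 (-89)
    (.split 3 (-119) (.splitN 50669 .sq (.split 4 (-56) (.wt 0) (.split 5 77 (.split 6 125 (.wt
    0) (.split 2 (-98) (.split 3 (-128) .sq (.lin 2)) (.lin 9))) (.lin 8)))) (.lin 2)) (.lin 9)))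
    (.lin 4))) (.lin 2)) (.lin 9))) (.wt 3)) (.lin 2)) (.lin 9))) (.lin 4))) (.wt 3))) (.lin 12))
    (.split 2 (-71) (.split 6 174 (.split 2 (-144) (.lin 9) (.split 3 (-165) (.lin 2) (.split 0
    (-120) (.split 5 121 (.lin 4) (.split 4 (-101) (.splitN 65411 .sq (.wt 0)) (.lin 8))) (.split
    5 113 (.split 4 (-93) (.lin 8) (.split 6 134 (.split 2 (-108) (.lin 9) (.split 3 (-129) (.lin
    2) (.split 4 (-65) (.split 5 85 (.lin 8) (.split 0 (-92) (.splitN 59824 (.wt 1) (.split 6 106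
    (.wt 2) (.split 2 (-80) (.split 3 (-101) (.split 4 (-87) (.wt 0) (.split 5 104 (.split 3
    (-126) (.wt 2) (.split 2 (-99) (.lin 2) (.split 6 125 (.split 0 (-110) (.wt 0) (.split 5 95
    (.split 0 (-100) (.wt 2) (.split 5 86 (.split 4 (-66) (.lin 8) (.split 6 107 (.wt 0) (.split
    3 (-110) (.wt 2) (.lin 6)))) (.lin 4))) (.lin 4))) (.lin 9)))) (.lin 8))) (.lin 2)) (.lin
    9)))) (.lin 12))) (.split 5 77 (.split 0 (-84) (.lin 12) (.splitN 74847 (.split 6 133 (.split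
    2 (-99) (.lin 9) (.split 3 (-120) (.lin 2) (.split 4 (-47) (.split 5 67 (.lin 8) (.split 0
    (-74) (.split 6 122 (.split 2 (-90) (.lin 9) (.split 3 (-111) (.lin 2) (.split 6 107 (.split
    2 (-81) (.lin 9) (.split 3 (-102) (.lin 2) (.splitN 65833 (.wt 3) (.split 4 (-56) (.wt 3)
    (.split 0 (-75) (.lin 12) (.wt 2)))))) (.splitN 66132 (.wt 0) (.wt 1))))) (.wt 2)) (.lin
    12))) (.split 0 (-66) (.lin 12) (.wt 0))))) (.wt 2)) (.wt 1))) (.lin 8))))) (.split 2 (-116)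
    (.split 3 (-137) (.splitN 62657 .sq (.splitN 71312 (.split 4 (-82) (.wt 1) (.split 0 (-102)
    (.lin 12) (.split 4 (-39) (.split 5 67 (.lin 8) (.split 4 (-62) (.wt 1) (.split 0 (-84) (.lin
    12) (.split 4 (-53) (.wt 1) (.split 0 (-75) (.lin 12) (.wt 0)))))) (.wt 0)))) (.wt 1))) (.lin
    2)) (.lin 9)))) (.lin 4))))) (.split 2 (-152) (.split 3 (-173) .sq (.lin 2)) (.lin 9))) (.lin
    2))) (.lin 11))) (.lin 4))) (.wt 1)) (.lin 11))) (.split 0 (-121) (.split 5 112 (.lin 4)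
    (.split 4 (-92) (.split 0 (-179) (.split 5 166 (.lin 4) (.split 4 (-146) (.splitN 103706 .sq
    (.splitN 125772 (.split 7 (-29) (.wt 1) (.wt 0)) (.wt 6))) (.lin 8))) (.wt 2)) (.lin 8)))
    (.wt 2)))))) (.wt 1))) (.lin 4))))) (.wt 1)) (.lin 12))) (.split 2 (-71) (.split 2 (-80)
    (.split 1 12 (.split 5 49 (.lin 4) (.splitN 287514 (.split 2 (-1589) (.div 2) (.split 3
    (-1596) (.lin 2) (.split 0 (-507) .sq (.splitN 265603 (.split 2 (-488) .sq (.split 3 (-498)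
    (.lin 2) (.split 0 (-58) (.split 5 58 (.lin 4) (.split 4 (-47) (.splitN 215360 .cand (.wt 1))
    (.lin 8))) (.wt 2)))) (.wt 1))))) (.wt 1))) (.wt 0)) (.lin 9)) (.lin 2))) (.lin 11)) (.lin
    2)) (.lin 9))) (.lin 12))) (.split 5 59 (.split 0 (-66) (.lin 12) (.split 6 96 (.split 3
    (-120) (.lin 6) (.split 3 (-84) (.lin 11) (.split 7 (-28) (.split 5 22 (.lin 8) (.split 0
    (-38) (.split 1 11 (.split 5 31 (.lin 4) (.split 4 (-20) (.split 5 40 (.lin 8) (.split 6 66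
    (.split 2 (-36) (.lin 9) (.split 3 (-57) (.lin 11) (.split 7 (-33) (.split 0 (-56) (.splitN
    142397 .cand (.wt 0)) (.lin 12)) (.split 0 (-57) (.lin 12) (.split 3 (-39) (.split 2 (-26)
    (.split 6 52 (.lin 9) (.splitN 95377 (.wt 0) (.splitN 103583 (.split 0 (-51) (.split 5 49
    (.lin 4) (.split 4 (-29) (.wt 1) (.lin 8))) (.wt 0)) (.wt 6)))) (.lin 2)) (.wt 2))))))
    (.split 2 (-35) (.splitN 102434 (.split 7 (-33) .cand (.split 0 (-57) (.lin 12) (.wt 2)))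
    (.wt 1)) (.lin 9)))) (.split 0 (-48) (.lin 12) (.wt 2)))) (.split 6 52 (.lin 11) (.wt 2)))
    (.lin 12))) (.split 2 (-26) (.split 0 (-48) (.lin 12) (.split 0 (-38) (.split 5 22 (.lin 4)
    (.split 0 (-41) (.split 5 31 (.lin 4) (.wt 2)) (.wt 0))) (.wt 0))) (.lin 2))))) (.split 2
    (-35) (.split 2 (-62) (.split 1 13 (.split 5 22 (.lin 4) (.split 0 (-31) (.split 5 31 (.lin
    4) (.split 4 (-13) (.splitN 496698 (.split 2 (-2759) (.div 2) (.split 6 2798 (.split 3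
    (-2820) (.lin 6) (.split 6 363 (.split 3 (-381) (.lin 6) (.split 3 (-354) (.lin 11) (.split 0
    (-39) (.split 5 40 (.lin 4) (.splitN 341242 (.split 7 (-21) (.split 6 193 (.split 3 (-201)
    (.lin 6) (.split 3 (-183) (.lin 11) (.split 6 148 (.split 3 (-156) (.lin 6) (.split 3 (-138)
    (.lin 11) (.splitN 56958 (.wt 3) (.split 0 (-51) (.split 5 49 (.lin 4) (.splitN 79020 (.split
    7 (-29) (.splitN 66227 (.split 4 (-21) (.split 5 58 (.lin 8) (.split 0 (-65) (.splitN 59748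
    (.split 3 (-99) (.split 2 (-71) (.split 6 106 (.lin 0) (.wt 1)) (.lin 1)) (.wt 0)) (.wt 1))
    (.lin 12))) (.wt 0)) (.wt 1)) (.wt 0)) (.wt 6))) (.wt 2))))) (.wt 2)))) (.wt 2)) (.wt 0))
    (.wt 1))) (.wt 2)))) (.wt 2))) (.lin 0))) (.wt 1)) (.wt 2))) (.wt 2))) (.wt 2)) (.lin 9))
    (.lin 0)))) (.lin 8)))

def cert5_54_10 : Cert :=
  (.split 7 (-46) (.split 6 52 (.lin 9) (.split 0 (-56) (.split 1 22 (.split 5 40 (.lin 4)
    (.split 4 (-30) (.split 5 67 (.lin 8) (.split 0 (-83) (.splitN 202281 (.split 0 (-5601) (.div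
    0) (.split 5 5594 (.split 7 (-5573) (.lin 8) (.split 2 (-1121) (.div 2) (.split 3 (-6681)
    (.lin 2) (.split 5 1120 (.split 0 (-1128) (.lin 4) (.split 0 (-435) .sq (.split 6 1511
    (.split 5 428 (.split 4 (-399) (.lin 8) (.split 7 (-407) (.lin 8) (.splitN 189724 (.split 2
    (-412) .sq (.split 3 (-804) (.lin 2) (.split 3 (-414) .sq (.split 6 422 cert5_54_0 (.lin
    11))))) (.wt 1)))) (.lin 4)) (.lin 3)))) (.div 5))))) (.lin 4))) (.wt 1)) (.lin 12)))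
    cert5_54_1)) (.split 6 61 (.lin 11) (.split 5 18 (.split 1 42 (.lin 4) (.split 2 (-35)
    (.split 6 79 (.lin 6) cert5_54_6) (.lin 10))) (.split 4 (-30) (.split 0 (-83) (.split 7
    (-100) (.split 6 106 (.lin 9) (.split 0 (-137) (.splitN 184173 (.split 2 (-1013) (.div 2)
    (.split 0 (-396) .sq (.split 1 367 (.split 3 (-1335) (.lin 5) (.split 4 (-291) (.lin 12)
    (.split 7 (-353) (.lin 12) (.splitN 165675 (.split 3 (-45) (.split 0 (-370) .sq (.split 4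
    (-264) (.lin 12) (.split 3 (-347) .sq (.split 6 359 (.split 3 (-128) (.split 1 232 (.split 6
    151 (.lin 11) (.splitN 70919 .sq (.splitN 134941 (.split 0 (-286) .sq (.split 4 (-183) (.lin
    12) (.split 7 (-245) (.lin 12) (.split 5 117 (.split 2 (-53) (.split 1 134 (.split 0 (-246)
    (.lin 4) (.split 4 (-147) (.lin 8) (.split 7 (-209) (.lin 8) (.split 1 84 (.split 5 58 (.lin
    4) (.splitN 76616 .sq (.wt 1))) (.wt 2))))) (.wt 2)) (.lin 10)) (.wt 6))))) (.wt 1)))) (.lin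
    11)) (.splitN 144047 (.split 0 (-342) .sq (.split 4 (-237) (.lin 12) (.split 7 (-299) (.lin
    12) (.split 6 331 (.split 2 (-225) (.lin 9) (.split 1 83 (.split 7 (-191) (.lin 2) (.split 5
    58 (.lin 4) (.split 1 40 (.split 3 (-74) (.split 7 (-146) (.lin 2) (.split 5 103 (.lin 4)
    (.split 6 152 (.splitN 71568 (.split 4 (-43) (.split 5 112 (.lin 8) (.split 0 (-206) (.split
    4 (-65) (.split 5 175 (.lin 4) .sq) (.lin 3)) (.wt 2))) (.wt 0)) (.wt 6)) (.lin 11)))) (.lin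
    2)) (.wt 2)))) (.split 6 133 (.lin 11) (.splitN 76744 (.split 3 (-75) (.split 6 169 (.lin 11)
    (.wt 2)) (.wt 0)) (.wt 6))))) .sq)))) (.wt 1))) .sq)))) (.wt 2)) (.wt 1))))) (.lin 4)))) (.wt
    1)) (.lin 12))) cert5_54_7) (.lin 12)) (.split 7 (-100) (.split 6 106 (.lin 9) (.split 3
    (-60) (.split 4 (-20) (.split 0 (-119) (.splitN 299301 (.split 2 (-1661) (.div 2) (.split 0
    (-522) .sq (.split 3 (-2127) (.lin 5) (.split 7 (-497) (.lin 12) (.split 6 521 (.split 3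
    (-498) (.lin 11) (.split 6 358 (.split 0 (-372) (.lin 3) (.split 7 (-344) (.lin 9) (.split 3
    (-327) (.lin 11) (.split 1 79 (.split 5 40 (.lin 4) (.split 0 (-145) (.split 6 124 (.lin 3)
    (.split 5 67 (.lin 4) (.wt 2))) (.wt 2))) (.wt 2))))) (.wt 2))) (.wt 2)))))) (.wt 1)) (.lin
    12)) (.wt 2)) (.wt 2))) (.split 0 (-120) (.lin 12) (.split 3 (-81) (.split 2 (-17) (.split 6
    106 (.lin 11) (.wt 2)) (.lin 2)) (.wt 2)))))))) (.lin 12))) (.splitN 33980 (.wt 1) (.split 1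
    22 (.split 5 13 (.lin 4) cert5_54_9) (.split 2 (-26) (.split 6 61 (.lin 11) (.split 4 (-13)
    (.split 7 (-22) (.split 5 18 (.split 6 70 (.lin 6) (.split 4 (-25) (.split 1 42 (.lin 8)
    (.split 4 (-31) (.split 6 88 (.lin 6) (.split 1 51 (.lin 8) (.split 3 (-45) (.split 6 97
    (.lin 6) (.split 7 (-29) (.split 4 (-45) (.split 6 115 (.lin 6) (.split 1 69 (.lin 8) (.split
    3 (-51) (.split 5 5 (.wt 1) (.split 0 (-90) (.split 1 78 (.lin 4) (.split 6 133 (.lin 7)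
    (.split 0 (-107) (.split 2 (-116) (.split 1 96 (.lin 4) (.split 6 151 (.lin 7) (.split 4
    (-74) (.splitN 7815299 (.split 0 (-217011) (.div 0) (.split 2 (-43403) (.div 2) (.split 0
    (-43392) (.lin 1) (.split 1 43378 (.split 3 (-43338) (.lin 1) (.split 4 (-43356) (.lin 8)
    (.splitN 7404505 (.split 2 (-41135) (.div 2) (.split 3 (-41070) (.lin 1) (.splitN 566780
    (.split 2 (-3137) (.div 2) (.split 1 3112 (.split 3 (-3072) (.lin 1) (.split 4 (-3090) (.lin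
    8) (.wt 2))) (.lin 2))) (.wt 6)))) (.wt 1)))) (.lin 2))))) (.wt 1)) (.lin 8)))) (.lin 1))
    (.wt 0)))) (.wt 0))) (.wt 3)))) (.wt 3)) (.wt 3))) (.wt 5)))) (.wt 3))) (.wt 3))) (.split 3
    (-50) (.split 2 (-44) (.split 6 79 (.lin 11) (.split 3 (-73) (.split 2 (-62) (.split 6 97
    (.lin 11) (.split 0 (-105) (.split 1 97 (.split 3 (-105) (.split 2 (-98) (.split 6 133 (.lin
    11) (.splitN 936754 (.split 2 (-5189) (.div 2) (.split 3 (-5196) (.lin 2) (.split 5 5188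
    (.split 0 (-5277) (.lin 4) (.split 4 (-5250) (.lin 8) (.splitN 608965 (.split 2 (-3371) (.div
    2) (.split 3 (-3378) (.lin 2) (.split 5 3370 (.split 0 (-3459) (.lin 4) (.split 4 (-3432)
    (.lin 8) (.splitN 513409 (.split 2 (-2849) (.div 2) (.split 3 (-2856) (.lin 2) (.split 5 2848
    (.split 0 (-2937) (.lin 4) (.split 4 (-2910) (.lin 8) (.splitN 474733 (.split 2 (-2633) (.div
    2) (.split 3 (-2640) (.lin 2) (.split 5 2632 (.split 4 (-2694) (.lin 8) (.split 1 85 (.split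
    5 31 (.lin 4) (.splitN 144762 (.split 2 (-797) (.div 2) (.split 3 (-804) (.lin 2) (.split 5
    796 (.split 4 (-840) (.lin 8) (.wt 2)) (.div 5)))) (.wt 6))) (.wt 0))) (.div 5)))) (.wt 6))))
    (.div 5)))) (.wt 6)))) (.div 5)))) (.wt 6)))) (.div 5)))) (.wt 6))) (.lin 2)) (.wt 2)) (.wt
    2)) (.wt 2))) (.lin 2)) (.wt 2))) (.lin 2)) (.wt 2))) (.wt 3)) (.wt 0))) (.lin 2)))))

def cert5_54_11 : Cert :=
  (.split 7 (-46) (.split 1 24 (.lin 2) (.split 0 (-56) (.split 6 52 (.lin 9) (.split 3 (-12)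
    (.split 5 209 (.split 5 31 (.split 1 33 (.lin 4) (.split 5 10 (.split 1 51 (.lin 4) (.split 2
    (-26) (.split 6 70 (.lin 6) (.split 4 (-12) (.split 6 79 (.lin 6) (.split 2 (-35) (.split 7
    (-48) (.split 1 69 (.lin 8) (.split 7 (-118) (.split 1 123 (.lin 2) (.split 6 151 (.lin 6)
    (.split 4 (-22) (.split 1 141 (.lin 8) (.split 2 (-44) (.split 4 (-66) (.split 6 205 (.lin 6)
    (.split 1 186 (.lin 8) (.split 2 (-89) (.splitN 756504 (.split 3 (-22) (.split 2 (-98)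
    (.split 0 (-806) .sq (.split 1 799 (.splitN 628054 (.split 0 (-721) .sq (.split 6 737 (.split
    4 (-597) (.lin 6) (.split 7 (-195) (.split 0 (-272) (.split 1 267 (.lin 2) (.split 6 295
    (.lin 6) (.splitN 288971 .sq (.wt 1)))) (.lin 1)) (.split 6 499 (.split 4 (-354) (.lin 6)
    (.split 0 (-471) (.lin 7) (.split 6 378 (.split 4 (-237) (.lin 6) (.split 0 (-354) (.lin 7)
    (.split 2 (-261) (.lin 9) (.split 4 (-80) (.split 6 223 (.lin 6) (.split 4 (-97) (.split 6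
    241 (.lin 6) (.split 1 213 (.lin 8) (.split 2 (-125) (.splitN 313315 (.split 7 (-126) (.split
    0 (-251) (.split 1 249 (.lin 4) (.split 6 277 (.lin 7) (.splitN 247121 .sq (.wt 6)))) (.wt
    2)) (.wt 0)) (.wt 6)) (.lin 10)))) (.wt 2))) (.wt 2))))) (.wt 2)))) (.wt 2)))) (.lin 7)))
    (.wt 1)) (.lin 4))) (.lin 10)) (.wt 2)) (.wt 1)) (.lin 10)))) (.split 2 (-90) (.lin 10)
    (.split 3 (-23) (.split 6 169 (.lin 6) (.split 2 (-53) (.split 6 763 (.split 0 (-768) (.lin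
    3) (.split 7 (-740) (.lin 1) (.split 4 (-30) (.split 6 178 (.lin 6) (.split 2 (-62) (.split 7
    (-695) (.lin 6) (.split 0 (-162) (.split 1 159 (.lin 4) (.split 0 (-165) (.split 6 196 (.lin
    7) (.split 0 (-197) (.split 1 195 (.lin 4) (.split 6 223 (.lin 7) (.split 0 (-265) (.split 7
    (-208) (.split 1 267 (.lin 4) (.split 6 295 (.lin 7) (.splitN 282842 .sq (.wt 6)))) (.lin 1))
    (.wt 2)))) (.wt 2))) (.wt 2))) (.wt 2))) (.lin 10))) (.wt 2)))) (.wt 2)) (.lin 10))) (.wt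
    2)))) (.lin 10))) (.wt 2)))) (.split 4 (-23) (.split 6 97 (.lin 6) (.split 1 78 (.lin 8)
    (.split 2 (-44) (.split 6 1081 (.split 4 (-1011) (.lin 6) (.split 0 (-1065) (.lin 7) (.split
    6 601 (.split 4 (-525) (.lin 6) (.split 0 (-579) (.lin 7) (.split 6 435 (.split 4 (-363)
    (.lin 6) (.split 0 (-417) (.lin 7) (.split 3 (-21) (.split 6 106 (.lin 6) (.split 4 (-30)
    (.split 6 115 (.lin 6) (.split 1 87 (.lin 8) (.split 2 (-62) (.split 7 (-56) (.split 1 96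
    (.lin 2) (.split 6 124 (.lin 6) (.split 6 299 (.split 4 (-210) (.lin 6) (.split 0 (-273)
    (.lin 7) (.split 2 (-234) (.lin 9) (.split 4 (-39) (.split 6 133 (.lin 6) (.split 1 105 (.lin
    8) (.split 7 (-66) (.split 6 142 (.lin 6) (.split 0 (-134) (.split 1 132 (.lin 4) (.split 6
    160 (.lin 7) (.split 0 (-175) (.split 6 205 (.lin 7) (.wt 2)) (.wt 2)))) (.wt 2))) (.wt 0))))
    (.wt 0))))) (.wt 2)))) (.wt 0)) (.lin 10)))) (.wt 0))) (.wt 2)))) (.wt 2)))) (.wt 2)))) (.wt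
    2)) (.lin 10)))) (.wt 0)))) (.wt 3)) (.lin 10))) (.wt 0))) (.lin 10))) (.split 0 (-79)
    (.split 1 60 (.lin 4) (.split 6 79 (.lin 7) (.wt 2))) (.wt 2)))) (.splitN 107174 (.split 0
    (-2901) (.div 0) (.split 2 (-2853) (.lin 1) (.split 4 (-5700) (.lin 3) (.split 1 1160 (.split
    0 (-1362) (.lin 4) (.split 7 (-1352) (.lin 1) (.split 2 (-581) (.div 2) (.split 4 (-759)
    (.lin 10) (.splitN 90442 (.split 1 980 (.split 7 (-1001) (.lin 2) (.split 0 (-1182) (.lin 4)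
    (.split 2 (-491) (.div 2) (.split 4 (-669) (.lin 10) (.split 1 578 (.split 7 (-596) (.lin 2)
    (.split 0 (-777) (.lin 4) (.splitN 82094 (.split 2 (-455) (.div 2) (.split 4 (-633) (.lin 10)
    (.split 1 120 (.split 7 (-137) (.lin 2) (.split 4 (-273) (.lin 8) (.wt 2))) (.wt 0)))) (.wt
    6)))) (.wt 0)))))) (.div 1)) (.wt 6)))))) (.div 1))))) (.wt 6))) (.wt 2)) (.wt 2))) (.lin
    12))) (.split 6 60 (.split 2 (-36) (.lin 9) (.split 1 43 (.split 5 18 (.split 0 (-75) (.lin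
    1) (.split 0 (-57) (.lin 4) (.split 1 15 (.lin 8) (.split 4 (-39) (.lin 6) (.split 1 33
    (.split 4 (-21) (.lin 8) (.split 7 (-29) (.lin 8) (.wt 0))) (.wt 0)))))) (.split 1 17 (.split
    2 (-27) (.lin 2) (.split 6 44 (.split 3 (-20) (.split 4 (-30) (.split 0 (-56) (.split 5 40
    (.lin 4) (.split 7 (-28) (.split 2 (-18) (.lin 2) (.split 0 (-65) (.split 5 49 (.lin 4)
    (.split 6 34 (.lin 9) (.split 1 11 (.split 2 (-9) (.lin 2) (.split 3 (-29) (.split 7 (-29)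
    (.lin 2) (.split 6 35 (.splitN 104256 (.split 4 (-1125) (.div 4) (.split 5 1139 (.wt 2) (.lin
    0))) (.wt 0)) (.lin 9))) (.lin 2))) (.split 3 (-24) (.split 6 43 (.lin 11) (.wt 2)) (.wt
    2))))) (.lin 12))) (.split 1 12 (.split 2 (-18) (.lin 2) (.split 5 49 (.lin 4) (.split 6 35
    (.split 6 30 (.split 2 (-9) (.lin 9) (.split 3 (-21) (.lin 2) (.split 0 (-162) (.wt 2)
    (.split 5 149 (.split 4 (-138) (.lin 0) (.split 0 (-57) (.split 4 (-50) (.split 5 67 (.lin 0)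
    (.split 0 (-74) (.splitN 1135703 (.wt 1) (.split 0 (-139) (.wt 0) (.split 5 131 (.split 4
    (-120) (.lin 0) (.splitN 1424846 (.wt 1) (.split 0 (-129) (.wt 0) (.split 5 122 (.split 4
    (-111) (.lin 0) (.splitN 1690455 (.wt 1) (.split 0 (-124) (.wt 0) (.split 5 113 (.split 4
    (-102) (.lin 0) (.splitN 2161956 (.wt 1) (.split 0 (-118) (.wt 0) (.split 5 104 (.split 0
    (-94) (.wt 1) (.split 5 86 (.split 4 (-75) (.lin 0) (.wt 1)) (.lin 1))) (.lin 1))))) (.lin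
    1))))) (.lin 1))))) (.lin 1)))) (.lin 1))) (.wt 1)) (.wt 0))) (.lin 1))))) (.split 2 (-17)
    (.split 3 (-29) (.split 0 (-58) (.split 5 58 (.lin 1) (.split 4 (-47) (.split 0 (-180) (.wt
    2) (.split 5 167 (.split 4 (-156) (.lin 0) (.split 0 (-69) (.split 5 67 (.lin 1) (.split 4
    (-56) (.split 0 (-124) (.wt 2) (.split 5 113 (.split 4 (-102) (.lin 0) (.split 0 (-78)
    (.split 5 76 (.lin 1) (.split 4 (-65) (.split 0 (-105) (.wt 2) (.split 5 95 (.split 4 (-84)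
    (.lin 0) (.split 0 (-86) (.split 5 85 (.lin 1) (.split 4 (-74) (.split 0 (-95) (.wt 2)
    (.split 5 86 (.split 4 (-75) (.lin 0) (.splitN 354421 (.wt 0) (.wt 0))) (.lin 1))) (.lin 0)))
    (.wt 2))) (.lin 1))) (.lin 0))) (.wt 2))) (.lin 1))) (.lin 0))) (.wt 2))) (.lin 1))) (.lin
    0))) (.wt 2)) (.lin 2)) (.lin 9))) (.lin 9)))) (.wt 0)))) (.lin 12)) (.split 5 59 (.split 0
    (-102) (.lin 1) (.split 0 (-66) (.lin 3) (.split 5 50 (.split 7 (-28) (.split 6 34 (.lin 9)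
    (.split 1 13 (.split 2 (-9) (.lin 2) (.split 0 (-57) (.lin 4) (.split 5 31 (.lin 0) (.split 3
    (-29) (.split 7 (-29) (.lin 2) (.split 6 35 (.splitN 463105 (.split 4 (-17) (.split 5 40
    (.lin 0) (.splitN 189682 (.split 4 (-23) (.split 5 49 (.lin 0) (.split 0 (-56) (.splitN
    138148 (.wt 0) (.wt 0)) (.lin 1))) (.wt 0)) (.wt 1))) (.wt 0)) (.wt 6)) (.lin 9))) (.lin
    2))))) (.wt 0))) (.split 0 (-48) (.lin 12) (.wt 0))) (.lin 10)))) (.lin 0))) (.split 7 (-20)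
    (.lin 2) (.wt 0))) (.lin 11))) (.split 3 (-19) (.split 6 43 (.lin 11) (.wt 2)) (.wt 0))))
    (.lin 11))) (.split 1 33 (.lin 11) (.split 0 (-144) (.split 4 (-110) (.split 1 53 (.split 2
    (-63) (.lin 2) (.split 5 58 (.lin 0) (.wt 0))) (.wt 0)) (.lin 12)) (.wt 0)))))

def cert5_54_12 : Cert :=
  (.split 7 (-46) (.split 5 40 (.lin 6) (.split 2 9 (.lin 9) (.split 0 (-65) (.split 3 (-20)
    (.split 5 49 (.lin 6) (.split 1 16 (.split 6 25 (.lin 11) (.splitN 491733 (.split 0 (-696)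
    .sq (.split 2 649 (.split 7 (-695) (.lin 2) (.split 4 (-660) (.lin 3) (.split 1 11 (.splitN
    75704 (.split 5 418 (.split 3 (-29) (.wt 2) (.split 6 26 (.wt 2) (.lin 11))) (.div 5)) (.wt
    3)) (.split 3 (-21) (.lin 11) (.split 6 34 (.lin 11) (.splitN 85205 (.split 2 472 (.split 7
    (-506) (.lin 2) (.split 5 472 (.split 0 (-480) (.lin 4) (.split 4 (-435) (.lin 0) (.splitN
    76908 (.split 5 418 (.split 2 370 (.split 0 (-426) (.lin 4) (.split 7 (-407) (.lin 2) (.split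
    4 (-21) (.split 5 58 (.lin 0) (.splitN 67734 (.split 5 364 (.split 2 307 (.split 0 (-372)
    (.lin 4) (.split 4 (-327) (.lin 0) (.split 7 (-344) (.lin 2) (.split 7 (-72) (.split 2 36
    (.lin 2) (.split 0 (-101) (.split 5 85 (.lin 0) (.splitN 56513 (.split 5 310 (.split 2 253
    (.split 4 (-246) (.lin 0) (.split 7 (-290) (.lin 2) (.splitN 53249 (.split 5 292 (.split 2
    235 (.split 0 (-300) (.lin 4) (.split 4 (-228) (.lin 0) (.split 7 (-272) (.lin 2) (.splitN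
    51985 (.split 5 274 (.split 2 217 (.split 4 (-210) (.lin 0) (.split 7 (-254) (.lin 2) (.split
    0 (-197) (.split 5 184 (.lin 4) .sq) (.wt 0)))) (.lin 0)) (.div 5)) (.wt 6))))) (.lin 0))
    (.div 5)) (.wt 6)))) (.lin 0)) (.div 5)) (.wt 6))) (.lin 3))) (.wt 0))))) (.lin 0)) (.div 5))
    (.wt 6))) (.wt 0)))) (.lin 0)) (.div 5)) (.wt 6)))) (.div 5))) (.div 2)) (.wt 6))))))) (.lin
    3))) (.wt 1))) (.lin 11))) (.split 6 32 (.split 5 49 (.lin 6) (.split 2 18 (.lin 9) (.split 1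
    16 (.splitN 933621 (.split 5 5170 (.split 0 (-962) .sq (.split 2 919 (.split 7 (-947) (.lin
    2) (.split 1 11 (.split 2 27 (.lin 2) (.split 6 17 (.splitN 57886 (.wt 6) (.split 4 (-49)
    (.wt 0) (.split 7 (-81) (.wt 0) (.split 2 55 (.split 5 113 (.splitN 68693 (.wt 6) (.split 4
    (-31) (.wt 0) (.split 7 (-62) (.wt 0) (.split 2 37 (.split 5 77 (.splitN 77152 (.wt 6)
    (.split 4 (-25) (.wt 0) (.split 7 (-54) (.wt 0) (.split 2 28 (.split 0 (-66) (.lin 3) (.split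
    5 59 (.splitN 93454 (.wt 0) (.wt 0)) (.lin 0))) (.lin 2))))) (.lin 0)) (.lin 2))))) (.lin 0))
    (.lin 2))))) (.lin 11))) (.split 6 25 (.lin 11) (.wt 2)))) (.lin 3))) (.div 5)) (.wt 1))
    (.lin 11)))) (.wt 2))) (.lin 12)))) (.split 2 19 (.splitN 21001 (.wt 1) (.split 3 (-20)
    (.split 1 16 (.split 0 (-47) (.split 2 10 (.split 7 (-28) (.split 5 40 (.lin 10) (.split 6 25
    (.lin 11) (.split 2 3 (.splitN 57043 (.split 5 310 (.split 4 (-291) (.lin 0) (.split 0 (-318)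
    (.lin 1) (.split 0 (-228) .sq (.splitN 55506 (.split 1 11 (.splitN 39837 .cand (.wt 1))
    (.split 3 (-21) (.lin 2) (.split 7 (-37) (.split 6 34 (.lin 9) (.wt 0)) (.lin 2)))) (.wt
    1))))) (.div 5)) (.wt 1)) (.split 1 7 (.split 0 (-56) (.split 3 (-21) (.lin 2) (.split 7
    (-37) (.split 6 26 (.splitN 84297 (.split 5 454 (.splitN 54244 (.wt 1) (.split 4 (-39) (.wt
    0) (.split 5 68 (.splitN 65672 (.wt 1) (.split 4 (-25) (.wt 0) (.split 5 50 (.split 0 (-57)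
    (.lin 1) (.splitN 80128 (.wt 0) (.wt 0))) (.lin 0)))) (.lin 0)))) (.div 5)) (.wt 0)) (.lin
    9)) (.lin 2))) (.lin 3)) (.lin 2))))) (.lin 2)) (.lin 2)) (.lin 5)) (.lin 2)) (.split 6 24
    (.split 1 7 (.split 2 4 (.split 7 (-20) (.lin 2) (.splitN 64143 (.split 5 346 (.split 4
    (-327) (.lin 0) (.wt 2)) (.div 5)) (.wt 1))) (.split 5 40 (.lin 0) (.split 0 (-47) (.split 7
    (-28) (.split 4 (-108) (.split 5 130 (.lin 0) (.split 0 (-128) (.wt 2) (.lin 1))) (.split 5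
    131 (.split 4 (-45) (.split 5 67 (.lin 0) (.split 0 (-65) (.split 0 (-74) (.splitN 86906 (.wt
    6) (.split 7 (-33) (.wt 0) (.split 2 10 (.split 5 122 (.splitN 97403 (.wt 1) (.split 4 (-70)
    (.wt 0) (.split 5 86 (.splitN 105480 (.wt 1) (.split 4 (-55) (.wt 0) (.split 5 68 (.split 0
    (-75) (.lin 1) (.splitN 115553 (.wt 0) (.wt 0))) (.lin 0)))) (.lin 0)))) (.lin 0)) (.lin
    2)))) (.lin 3)) (.lin 1))) (.split 5 68 (.split 0 (-84) (.lin 1) (.split 0 (-75) (.lin 3)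
    (.split 0 (-48) (.split 5 49 (.lin 4) (.split 4 (-22) (.splitN 166290 .cand (.wt 1)) (.wt
    2))) (.wt 2)))) (.lin 0))) (.lin 0))) (.lin 2)) (.lin 3)))) (.lin 11)) (.wt 2)))) (.lin 2)))

def cert5_54_13 : Cert :=
  (.split 2 20 (.splitN 184289 (.split 0 (-418) .sq (.split 3 (-390) (.lin 5) (.split 2 4
    (.splitN 37912 (.split 5 202 (.split 4 (-165) (.lin 0) (.split 0 (-210) (.lin 4) (.split 6
    188 (.split 3 (-318) (.lin 6) (.split 0 (-169) .sq (.split 4 (-120) (.lin 3) (.split 6 143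
    (.split 3 (-138) (.lin 5) (.split 7 (-155) (.lin 2) (.split 7 (-146) (.lin 9) (.split 1 11
    (.split 5 58 (.lin 0) (.splitN 28851 (.split 5 148 (.split 4 (-102) (.lin 0) (.split 0 (-132)
    .sq (.split 5 122 (.split 6 75 (.split 7 (-74) (.lin 9) (.splitN 20621 (.wt 1) .cand))
    (.split 5 94 (.lin 0) (.split 7 (-82) (.split 3 (-74) .sq (.lin 2)) (.lin 9)))) (.lin 4))))
    (.div 5)) (.wt 1))) (.split 3 (-129) (.lin 2) (.splitN 23582 (.wt 3) (.split 3 (-42) (.split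
    7 (-64) (.split 0 (-83) (.split 5 67 (.lin 4) (.split 4 (-102) (.lin 5) (.split 6 61 (.lin 9)
    (.splitN 27121 (.split 5 148 (.split 0 (-156) (.lin 4) (.split 3 (-120) (.lin 5) (.wt 6)))
    (.div 5)) (.wt 6))))) (.lin 5)) (.lin 2)) (.wt 2)))))))) (.lin 3))))) (.lin 0)))) (.div 5))
    (.wt 1)) (.split 5 58 (.lin 0) (.split 0 (-74) (.split 7 (-55) (.splitN 136448 (.split 0
    (-352) .sq (.split 6 314 (.split 1 11 (.split 3 (-38) (.splitN 57535 (.split 5 310 (.split 6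
    278 (.split 6 46 (.wt 2) (.split 5 76 (.lin 0) (.split 0 (-83) (.split 7 (-64) (.split 3
    (-47) (.splitN 49316 (.split 5 256 (.split 6 224 (.split 6 60 (.wt 2) (.split 7 (-73) (.split
    3 (-56) (.splitN 44470 (.split 6 77 (.wt 2) (.split 5 103 (.lin 0) (.split 0 (-110) (.split 7
    (-91) (.split 3 (-74) .sq (.lin 11)) (.lin 9)) (.lin 3)))) (.wt 3)) (.lin 11)) (.lin 9)))
    (.lin 0)) (.div 5)) (.wt 3)) (.lin 11)) (.lin 9)) (.lin 3)))) (.lin 0)) (.div 5)) (.wt 3))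
    (.lin 11)) (.split 6 117 (.split 7 (-137) (.lin 9) (.split 3 (-111) (.lin 2) (.split 3 (-102)
    (.lin 11) (.splitN 122067 (.split 0 (-333) .sq (.split 6 80 (.split 7 (-101) (.lin 9) (.split
    3 (-66) (.lin 11) (.split 4 (-74) (.split 5 112 (.lin 0) (.splitN 78455 (.split 0 (-226) .sq
    (.split 4 (-165) (.lin 3) (.split 3 (-47) (.split 7 (-73) (.split 0 (-146) (.split 5 130
    (.lin 4) (.split 6 52 (.lin 9) (.split 6 61 (.lin 11) (.splitN 55691 .sq (.splitN 57720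
    (.split 2 11 (.wt 1) (.split 5 139 (.lin 0) (.split 7 (-82) .sq (.lin 2)))) (.wt 1))))))
    (.lin 5)) (.lin 2)) (.split 7 (-74) (.lin 2) (.split 3 (-32) (.split 6 52 (.lin 11) (.wt 2))
    (.wt 2)))))) (.wt 1))) (.split 5 149 (.split 0 (-210) (.lin 1) (.split 0 (-165) (.lin 3)
    (.split 3 (-32) (.split 0 (-83) (.split 5 67 (.lin 4) (.split 6 52 (.lin 11) (.split 3 (-41)
    (.split 7 (-73) (.split 0 (-92) (.split 5 76 (.lin 4) (.split 6 61 (.lin 11) (.splitN 72453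
    (.split 4 (-22) (.split 5 85 (.lin 0) (.split 3 (-54) (.split 6 70 (.lin 11) (.wt 2)) (.wt
    2))) (.wt 0)) (.wt 1)))) (.lin 5)) (.lin 2)) (.wt 2)))) (.lin 5)) (.wt 2)))) (.lin 0)))))
    (.split 5 103 (.lin 0) (.split 7 (-100) (.split 3 (-74) (.splitN 60541 (.split 4 (-23)
    (.split 5 112 (.lin 0) (.split 0 (-128) (.splitN 53747 .sq (.wt 1)) (.lin 3))) (.wt 0)) (.wt
    1)) (.lin 11)) (.lin 9))))) (.wt 1))))) (.split 0 (-155) (.split 5 139 (.lin 0) (.split 7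
    (-136) (.split 3 (-101) (.splitN 90602 .sq (.wt 1)) (.lin 2)) (.lin 9))) (.lin 3)))) (.lin
    3))) (.wt 1)) (.lin 9)) (.lin 3)))))) (.wt 1)) (.split 5 76 (.lin 0) (.split 0 (-92) (.split
    7 (-64) (.split 3 (-417) (.lin 5) (.split 7 (-73) (.splitN 117646 (.split 0 (-320) .sq
    (.split 2 253 (.split 4 (-246) (.lin 3) (.split 6 269 (.split 5 311 (.split 7 (-308) (.lin 8)
    (.split 1 11 (.split 3 (-38) (.splitN 50103 (.split 5 274 (.split 6 224 (.split 6 56 (.wt 2)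
    (.split 2 190 (.split 0 (-110) (.split 5 103 (.lin 0) (.split 7 (-91) (.split 3 (-56)
    (.splitN 39410 .sq (.splitN 45691 (.split 5 238 (.split 6 188 (.splitN 41920 (.split 5 220
    (.split 6 170 (.split 3 (-91) (.wt 0) (.split 6 89 (.wt 0) (.lin 11))) (.lin 0)) (.div 5))
    (.wt 3)) (.lin 0)) (.div 5)) (.wt 0))) (.lin 11)) (.lin 9))) (.lin 3)) (.lin 0))) (.lin 0))
    (.div 5)) (.wt 3)) (.lin 11)) (.split 6 108 (.split 3 (-93) (.lin 11) (.splitN 104392 (.split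
    0 (-293) .sq (.split 2 226 (.split 5 275 (.split 7 (-272) (.lin 8) (.split 6 75 (.split 3
    (-57) (.lin 11) (.split 4 (-67) (.split 0 (-146) (.split 5 130 (.lin 0) (.splitN 53099 .sq
    (.splitN 70859 (.split 0 (-193) .sq (.split 5 176 (.split 7 (-119) (.lin 8) (.split 3 (-30)
    (.split 2 64 (.split 0 (-155) (.split 7 (-82) (.split 5 139 (.lin 4) (.split 6 52 (.lin 11)
    (.splitN 61118 .sq (.wt 1)))) (.lin 2)) (.lin 5)) (.lin 2)) (.wt 6))) (.lin 4))) (.wt 1))))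
    (.lin 3)) (.split 3 (-43) (.split 0 (-110) (.split 7 (-91) (.split 5 94 (.lin 4) (.split 6 61
    (.lin 11) (.split 4 (-24) (.split 5 103 (.lin 0) (.splitN 64149 (.split 0 (-188) .sq (.split
    2 91 (.split 5 167 (.split 7 (-155) (.lin 8) (.split 4 (-36) (.split 5 112 (.lin 0) (.split 7
    (-146) (.lin 8) (.split 6 70 (.split 3 (-48) (.lin 11) (.wt 2)) (.wt 2)))) (.wt 2))) (.lin
    4)) (.lin 3))) (.wt 1))) (.wt 2)))) (.lin 2)) (.lin 5)) (.split 6 53 (.splitN 88303 (.split 0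
    (-270) .sq (.split 2 199 (.split 7 (-254) (.lin 2) (.split 4 (-37) (.split 5 94 (.lin 0)
    (.splitN 73027 (.split 7 (-136) (.split 2 81 (.lin 2) (.split 0 (-164) (.split 0 (-173)
    (.split 5 157 (.lin 4) .sq) (.lin 12)) (.lin 3))) (.split 2 82 (.split 0 (-201) (.lin 3)
    (.split 3 (-30) (.split 6 52 (.lin 11) (.wt 2)) (.wt 2))) (.lin 2))) (.wt 1))) (.split 0
    (-117) (.split 5 103 (.lin 4) (.split 3 (-33) (.split 6 52 (.lin 11) (.wt 2)) (.wt 2))) (.wt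
    2)))) (.lin 3))) (.wt 1)) (.lin 11))))) (.split 2 190 (.split 0 (-128) (.split 5 112 (.lin 0)
    (.split 7 (-109) (.split 3 (-65) (.splitN 53099 .sq (.split 7 (-255) (.wt 1) (.split 4 (-24)
    (.split 5 121 (.lin 0) (.split 0 (-137) (.splitN 58040 .sq (.wt 1)) (.lin 3))) (.wt 2))))
    (.lin 11)) (.lin 9))) (.lin 3)) (.lin 0)))) (.lin 4)) (.lin 3))) (.wt 1))) (.split 0 (-164)
    (.split 5 148 (.lin 0) (.split 7 (-145) (.split 3 (-101) (.splitN 95219 .sq (.wt 1)) (.lin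
    11)) (.lin 9))) (.lin 3))))) (.lin 4)) (.lin 3))) (.lin 3))) (.wt 1)) (.lin 9))) (.lin 2))
    (.lin 3))))

def cert5_54_14 : Cert :=
  (.split 6 42 (.split 1 25 (.split 3 (-30) (.lin 11) (.split 7 (-46) (.split 2 9 (.lin 9)
    (.split 0 (-56) (.split 3 (-20) (.split 5 40 (.lin 6) (.split 1 16 (.split 6 25 (.lin 11)
    (.split 1 11 (.split 5 49 (.lin 4) (.split 7 (-137) (.split 2 108 (.lin 2) (.split 0 (-146)
    (.split 0 (-155) (.split 5 148 (.lin 4) (.splitN 80378 .sq (.wt 0))) (.lin 12)) (.lin 3)))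
    (.split 2 109 (.split 5 149 (.split 7 (-91) (.split 2 54 (.lin 2) (.split 0 (-92) (.split 3
    (-28) (.wt 2) (.split 6 26 (.wt 2) (.lin 11))) (.lin 3))) (.split 2 55 (.split 0 (-102) (.lin
    3) (.split 0 (-93) (.lin 12) (.split 5 95 (.split 5 86 (.split 6 30 (.split 2 18 (.lin 0)
    (.split 3 (-21) (.lin 11) (.splitN 113357 (.split 7 (-47) (.split 2 27 (.lin 2) (.split 0
    (-65) (.split 5 58 (.lin 0) (.split 0 (-68) (.split 2 36 (.lin 3) (.split 5 67 (.lin 0)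
    (.splitN 70152 (.wt 1) (.split 7 (-82) (.wt 0) (.split 2 46 (.split 0 (-84) (.lin 3) (.split
    5 77 (.split 0 (-76) (.split 2 45 (.lin 3) (.split 7 (-73) (.splitN 74183 (.wt 0) (.wt 0))
    (.lin 1))) (.wt 2)) (.lin 0))) (.lin 2)))))) (.wt 2))) (.lin 3))) (.wt 0)) (.wt 1)))) (.split
    2 46 (.split 3 (-29) (.splitN 93648 (.split 7 (-47) (.split 2 18 (.lin 2) (.split 5 58 (.lin
    0) (.splitN 59535 (.wt 0) (.splitN 79899 (.split 7 (-57) (.split 2 27 (.lin 2) (.split 0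
    (-78) (.split 2 36 (.lin 3) (.split 5 76 (.lin 0) (.split 7 (-73) (.splitN 67377 (.split 7
    (-74) (.split 2 45 (.lin 2) (.split 0 (-92) (.wt 0) (.lin 3))) (.wt 0)) (.wt 1)) (.lin 2))))
    (.wt 2))) (.wt 0)) (.wt 1))))) (.wt 0)) (.wt 1)) (.lin 11)) (.lin 0))) (.lin 4)) (.lin 0))))
    (.lin 2))) (.lin 0)) (.lin 2)))) (.split 3 (-21) (.lin 11) (.split 6 34 (.lin 11) (.splitN
    308831 (.split 2 1714 (.split 0 (-1758) (.lin 3) (.split 7 (-3449) (.lin 1) (.wt 2))) (.div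
    2)) (.wt 1)))))) (.lin 11))) (.split 1 11 (.split 2 27 (.lin 2) (.split 5 49 (.lin 0) (.split
    6 17 (.splitN 219792 (.split 2 1210 (.split 0 (-58) (.split 2 36 (.lin 3) (.split 5 58 (.lin
    0) (.split 7 (-55) (.splitN 153970 .cand (.wt 1)) (.lin 2)))) (.wt 2)) (.div 2)) (.wt 1))
    (.lin 11)))) (.wt 2))) (.lin 12))) (.split 2 19 (.split 0 (-66) (.lin 3) (.split 0 (-48)
    (.lin 12) (.split 5 41 (.split 3 (-13) (.split 2 10 (.split 7 (-28) (.split 5 31 (.lin 10)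
    (.split 6 25 (.lin 11) (.splitN 112083 (.wt 4) (.splitN 196035 (.split 2 1 (.wt 1) (.split 0
    (-47) (.split 3 (-21) (.lin 1) (.wt 0)) (.lin 3))) (.wt 6))))) (.lin 2)) (.lin 10)) (.wt 2))
    (.lin 4)))) (.lin 2)))) (.lin 11)) (.split 7 (-46) (.split 3 (-19) (.split 5 31 (.lin 10)
    (.split 1 22 (.split 5 40 (.lin 0) (.split 3 (-29) (.split 2 10 (.splitN 501869 (.split 5
    2776 (.split 6 2771 (.split 0 (-2793) (.lin 3) (.split 3 (-2775) (.lin 5) (.split 0 (-703)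
    .sq (.split 3 (-678) (.lin 5) (.split 7 (-704) (.lin 2) (.splitN 432160 (.split 0 (-652) .sq
    (.split 3 (-633) (.lin 5) (.split 2 3 (.splitN 45090 (.split 5 238 (.split 6 233 (.split 0
    (-246) (.lin 3) (.split 3 (-408) (.lin 6) (.split 3 (-228) (.lin 5) (.split 7 (-245) (.lin 2)
    (.split 1 14 (.split 5 49 (.lin 0) (.splitN 33065 (.split 5 166 (.split 6 152 (.split 0
    (-165) (.lin 3) (.split 3 (-147) (.lin 5) (.split 7 (-155) (.lin 2) (.splitN 23556 (.wt 3)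
    (.split 3 (-43) (.split 7 (-55) (.split 0 (-65) (.split 6 52 (.lin 3) (.split 5 58 (.lin 0)
    (.splitN 29469 (.split 5 148 (.split 6 134 (.split 0 (-147) (.lin 3) (.split 3 (-129) (.lin
    5) (.split 7 (-137) (.lin 2) (.split 3 (-50) (.split 0 (-74) (.split 6 61 (.lin 3) (.split 5
    67 (.lin 0) (.wt 6))) (.lin 5)) (.wt 0))))) (.lin 0)) (.div 5)) (.wt 1)))) (.lin 5)) (.lin
    2)) (.wt 2)))))) (.lin 0)) (.div 5)) (.wt 1))) (.wt 2)))))) (.lin 0)) (.div 5)) (.wt 1))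
    (.split 5 49 (.lin 0) (.split 7 (-55) (.splitN 232983 (.split 0 (-472) .sq (.split 3 (-444)
    (.lin 5) (.split 7 (-470) (.lin 2) (.split 1 11 (.split 5 58 (.lin 0) (.splitN 84841 .cand
    (.wt 1))) (.split 3 (-61) (.split 0 (-101) (.split 6 79 (.lin 3) (.split 5 85 (.lin 0) (.wt
    2))) (.lin 5)) (.wt 2)))))) (.wt 1)) (.lin 9)))))) (.wt 1))))))) (.lin 0)) (.div 5)) (.wt 1))
    (.split 5 58 (.lin 0) (.split 7 (-55) (.split 7 (-64) (.splitN 318474 (.split 2 1768 (.split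
    5 1768 (.split 6 1745 (.split 0 (-1776) (.lin 4) (.split 3 (-3432) (.lin 6) (.split 3 (-1740)
    (.lin 5) (.splitN 305072 (.split 0 (-540) .sq (.split 5 527 (.split 3 (-498) (.lin 5) (.split
    7 (-533) (.lin 8) (.split 1 11 (.split 5 67 (.lin 0) (.splitN 91754 .cand (.wt 1))) (.split 3
    (-58) (.split 0 (-110) (.split 5 94 (.lin 4) (.split 6 79 (.lin 11) (.wt 2))) (.lin 5)) (.wt
    2))))) (.lin 4))) (.wt 1))))) (.lin 0)) (.div 5)) (.div 2)) (.wt 1)) (.lin 9)) (.lin 2))))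
    (.lin 11))) (.split 3 (-60) (.split 6 88 (.lin 11) (.wt 2)) (.wt 2)))) (.wt 2)) (.lin 9)))

def cert5_54_15 : Cert :=
  (.split 5 (-1) (.split 2 (-8) (.split 3 (-6) (.split 6 25 (.lin 6) (.split 2 (-17) (.split 4
    (-4) (.split 6 34 (.lin 6) (.split 1 24 (.lin 8) (.split 2 (-26) (.split 7 (-19) (.split 1 33
    (.lin 8) (.split 7 (-22) (.split 6 52 (.lin 6) (.split 3 (-12) (.split 6 61 (.lin 6) (.split
    2 (-35) (.split 0 (-45) (.split 1 51 (.lin 4) (.split 6 70 (.lin 7) (.split 0 (-58) (.split 1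
    69 (.lin 4) (.split 6 88 (.lin 7) (.splitN 187771 (.split 0 (-5151) (.div 0) (.split 7
    (-5141) (.lin 12) (.split 1 2060 (.split 0 (-2055) (.lin 4) (.split 7 (-2045) (.lin 8)
    (.split 2 (-1031) (.div 2) (.split 3 (-1011) (.lin 10) (.split 4 (-1002) (.lin 10) (.split 5
    (-995) (.lin 10) (.splitN 121875 (.split 1 1340 (.split 0 (-1335) (.lin 4) (.split 7 (-1325)
    (.lin 8) (.split 2 (-671) (.div 2) (.split 3 (-651) (.lin 10) (.split 4 (-642) (.lin 10)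
    (.split 5 (-635) (.lin 10) (.splitN 102076 (.split 1 1124 (.split 0 (-1119) (.lin 4) (.split
    7 (-1109) (.lin 8) (.split 2 (-563) (.div 2) (.split 3 (-543) (.lin 10) (.split 4 (-534)
    (.lin 10) (.split 5 (-527) (.lin 10) (.splitN 93585 (.split 2 (-509) (.div 2) (.split 3
    (-489) (.lin 10) (.split 5 (-473) (.lin 10) (.split 3 (-32) (.split 6 106 (.lin 7) (.split 2
    (-53) (.splitN 61280 (.split 1 656 (.split 0 (-651) (.lin 4) (.split 7 (-641) (.lin 8)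
    (.split 2 (-329) (.div 2) (.split 3 (-309) (.lin 10) (.split 4 (-282) (.lin 10) (.split 5
    (-275) (.lin 10) (.wt 2))))))) (.div 1)) (.wt 6)) (.lin 10))) (.wt 0))))) (.wt 6))))))))
    (.div 1)) (.wt 6)))))))) (.div 1)) (.wt 6)))))))) (.div 1)))) (.wt 6)))) (.wt 2)))) (.wt 2))
    (.lin 10))) (.wt 0))) (.wt 0))) (.wt 0)) (.lin 10)))) (.wt 0)) (.lin 10))) (.wt 0)) (.lin
    10)) (.split 3 (-3) (.split 6 16 (.lin 11) (.split 2 (-1) (.splitN 18286 (.wt 1) (.split 4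
    (-3) (.split 0 (-20) (.split 7 (-12) (.split 6 25 (.lin 9) (.split 0 (-29) (.split 3 (-30)
    (.split 6 43 (.lin 11) cert5_54_10) cert5_54_11) (.lin 12))) (.wt 3)) (.lin 12)) (.wt 3)))
    (.split 7 (-19) (.split 5 13 (.lin 10) (.split 4 (-12) (.split 0 (-38) (.split 5 31 (.lin 10)
    (.split 6 42 (.split 3 (-30) (.lin 11) cert5_54_12) (.split 0 (-65) (.split 7 (-46) (.split 3
    (-12) (.split 5 40 (.lin 10) (.split 1 22 (.split 5 49 (.lin 0) (.split 3 (-29) (.splitN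
    264366 (.split 2 1462 (.split 5 1462 (.split 0 (-1470) (.lin 4) (.split 0 (-506) .sq (.split
    2 433 (.split 5 491 (.split 3 (-471) (.lin 5) (.splitN 233109 (.split 0 (-473) .sq (.split 2
    406 cert5_54_13 (.lin 3))) (.wt 1))) (.lin 4)) (.lin 3)))) (.div 5)) (.div 2)) (.wt 1)) (.lin
    11))) (.split 3 (-22) (.split 7 (-55) (.split 5 49 (.lin 10) (.split 6 52 (.lin 11) (.splitN
    832660 (.split 2 4612 (.split 0 (-906) .sq (.split 2 829 (.split 4 (-849) (.lin 3) (.split 6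
    881 (.split 1 853 (.split 5 878 (.split 3 (-858) (.lin 5) (.split 7 (-1712) (.lin 6) (.splitN
    632212 (.split 0 (-787) .sq (.split 4 (-732) (.lin 3) (.split 6 764 (.split 1 736 (.split 3
    (-741) (.lin 5) (.split 7 (-767) (.lin 12) (.split 2 26 (.split 3 (-30) (.split 7 (-64)
    (.split 5 58 (.lin 10) (.split 6 61 (.lin 11) (.splitN 194821 (.split 0 (-422) .sq (.split 4
    (-354) (.lin 3) (.split 6 395 (.split 3 (-372) (.lin 5) (.split 7 (-416) (.lin 9) (.split 3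
    (-39) (.split 5 67 (.lin 10) (.split 6 70 (.lin 11) (.split 6 320 (.split 7 (-335) (.lin 9)
    (.split 3 (-291) (.lin 11) (.split 6 264 (.split 7 (-281) (.lin 9) (.split 3 (-255) (.lin 2)
    (.split 3 (-237) (.lin 11) (.split 3 (-48) (.split 5 76 (.lin 10) (.split 6 79 (.lin 11)
    (.split 3 (-57) (.split 7 (-91) (.split 0 (-110) (.split 6 88 (.lin 11) (.split 3 (-66)
    (.split 7 (-100) (.split 5 94 (.lin 10) (.split 6 97 (.lin 11) (.splitN 49292 .sq (.split 2 1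
    (.wt 1) (.split 0 (-128) (.split 5 103 (.lin 10) (.split 1 73 (.split 3 (-78) (.split 7
    (-118) (.split 5 112 (.lin 10) (.split 6 106 (.lin 11) (.splitN 64925 .sq (.split 4 (-42)
    (.wt 1) (.wt 2))))) (.lin 2)) (.wt 2)) (.wt 2))) (.lin 3)))))) (.lin 2)) (.wt 2))) (.lin 5))
    (.lin 2)) (.wt 2)))) (.wt 2))))) (.wt 2)))) (.wt 2)))) (.wt 2)))) (.lin 3)))) (.wt 1))))
    (.lin 2)) (.wt 2)) (.split 5 76 (.lin 10) (.split 3 (-31) (.split 7 (-91) (.split 5 85 (.lin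
    10) (.split 6 61 (.lin 11) (.splitN 153448 (.split 0 (-361) .sq (.split 4 (-264) (.lin 3)
    (.split 3 (-282) (.lin 5) (.split 7 (-335) (.lin 12) (.split 3 (-42) (.split 5 94 (.lin 10)
    (.split 6 70 (.lin 11) (.split 3 (-50) (.split 5 103 (.lin 10) (.split 6 79 (.lin 11) (.split
    3 (-59) (.split 5 112 (.lin 10) (.split 6 88 (.lin 11) (.split 3 (-68) (.split 0 (-146)
    (.split 7 (-127) (.split 5 121 (.lin 10) (.split 6 97 (.lin 11) (.splitN 69218 .sq (.split 1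
    26 (.wt 1) (.split 7 (-136) (.split 0 (-155) (.split 6 106 (.lin 11) (.splitN 76670 .sq (.wt
    6))) (.lin 4)) (.lin 2)))))) (.lin 2)) (.lin 5)) (.wt 2)))) (.wt 2)))) (.wt 2)))) (.wt
    2)))))) (.wt 1)))) (.lin 2)) (.wt 2)))))) (.lin 11)) (.lin 3)))) (.wt 1)))) (.lin 4)) (.lin
    11)) (.lin 3))) (.lin 3))) (.div 2)) (.wt 1)))) (.lin 2)) (.wt 2)))) (.wt 2)) (.lin 9)) (.lin
    3)))) (.lin 3)) (.split 4 (-5) (.split 5 22 (.lin 10) cert5_54_14) (.wt 0)))) (.lin 2))))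
    (.wt 2)))

def cert5_54 : Cert :=
  (.split 0 (-11) cert5_54_15 (.lin 12))

theorem check5_54 :
    check task5 cert5_54
      [(7, ⟨none, some (-2)⟩), (7, ⟨some (7), none⟩), (1, ⟨none, none⟩), (7, ⟨none, some (-2)⟩), (7, ⟨none, some (-2)⟩), (5, ⟨none, none⟩), (8, ⟨some (8), none⟩), (8, ⟨none, some (-10)⟩)] ⟨some (3960), none⟩ = true := by
  decide +kernel

def cert5_55 : Cert :=
  (.wt 3)

theorem check5_55 :
    check task5 cert5_55
      [(7, ⟨none, some (-2)⟩), (7, ⟨some (7), none⟩), (1, ⟨none, none⟩), (7, ⟨none, some (-2)⟩), (7, ⟨some (7), none⟩), (5, ⟨none, none⟩), (8, ⟨some (8), none⟩), (8, ⟨none, some (-10)⟩)] ⟨some (3960), some (7200)⟩ = true := by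
  decide +kernel

def cert5_56_0 : Cert :=
  (.split 5 (-40) (.split 1 78 (.lin 4) (.split 3 (-354) (.lin 7) (.split 6 97 (.lin 7) (.splitN
    135853 (.split 0 (-337) .sq (.split 1 343 (.split 0 (-300) (.lin 4) (.split 5 (-302) (.lin 4)
    (.split 4 334 (.split 6 348 (.split 0 (-282) (.lin 7) (.split 1 322 (.split 5 (-284) (.lin 4)
    (.split 3 (-264) (.lin 7) (.split 7 (-335) (.lin 9) (.split 4 45 (.split 2 (-17) (.splitN
    90808 (.split 0 (-261) .sq (.split 3 (-21) (.split 6 106 (.lin 7) (.split 2 (-26) (.splitN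
    84706 (.split 1 252 (.split 5 (-212) (.lin 4) (.split 6 262 (.split 0 (-192) (.lin 7) (.split
    1 232 (.split 5 (-194) (.lin 4) (.split 7 (-236) (.lin 6) (.split 3 (-183) (.lin 7) (.split 4
    41 (.split 2 (-35) (.splitN 76059 (.split 6 248 (.split 0 (-174) (.lin 7) (.split 1 214
    (.split 5 (-176) (.lin 4) (.split 7 (-209) (.lin 6) (.split 3 (-165) (.lin 7) (.split 4 15
    (.split 2 (-62) (.splitN 42316 (.split 0 (-117) .sq (.split 1 135 (.split 0 (-93) (.lin 4)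
    (.split 5 (-95) (.lin 4) (.split 7 (-101) (.lin 8) (.split 3 (-30) (.split 6 115 (.lin 6)
    (.split 2 (-71) (.splitN 31391 .sq (.split 7 (-97) (.wt 1) (.split 0 (-84) (.lin 12) (.splitN
    39512 (.split 0 (-81) .sq (.split 7 (-83) (.lin 12) (.split 3 (-39) (.split 6 124 (.lin 6)
    (.split 2 (-80) (.splitN 35684 .sq (.split 7 (-57) (.wt 1) (.split 0 (-48) (.lin 12) (.split
    3 (-50) (.split 6 133 (.lin 6) .sq) (.wt 0))))) (.lin 10))) (.wt 6)))) (.wt 1))))) (.lin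
    10))) (.wt 2))))) .sq)) (.wt 1)) (.lin 10)) (.split 0 (-61) (.split 1 105 (.lin 4) (.split 5
    (-149) (.lin 4) (.split 3 (-138) (.lin 7) (.split 6 133 (.lin 7) (.split 7 (-82) (.splitN
    54201 (.split 3 (-33) (.split 5 (-140) (.lin 7) (.split 6 142 (.lin 7) (.splitN 47870 .sq
    (.wt 6)))) (.wt 0)) (.wt 1)) (.lin 12)))))) (.wt 2)))))) (.lin 11))) .sq) (.wt 1)) (.lin 10))
    (.wt 2))))) (.lin 11))) .sq)) .sq) (.wt 1)) (.lin 10))) (.wt 2))) (.wt 1)) (.lin 10)) (.split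
    7 (-91) (.splitN 79736 (.split 3 (-32) (.split 0 (-264) (.lin 7) (.split 1 304 (.split 5
    (-266) (.lin 4) (.split 6 115 (.lin 7) (.splitN 64478 (.split 0 (-51) (.split 1 96 (.lin 4)
    (.split 3 (-246) (.lin 7) (.split 6 133 (.lin 7) (.wt 2)))) (.wt 0)) (.wt 6)))) (.lin 11)))
    (.wt 0)) (.wt 1)) (.lin 12)))))) (.lin 11))) .sq) .sq))) .sq)) (.wt 1))))) (.splitN 127506
    (.split 0 (-345) .sq (.split 3 (-344) .sq (.split 6 348 (.split 0 (-327) (.lin 3) (.split 1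
    322 (.split 3 (-300) (.lin 7) (.split 7 (-335) (.lin 9) (.split 4 45 (.splitN 101094 (.split
    1 299 (.split 6 303 (.split 0 (-282) (.lin 3) (.split 2 (-252) (.lin 9) (.split 1 277 (.split
    3 (-255) (.lin 7) (.split 7 (-290) (.lin 9) (.split 5 (-12) (.split 0 (-264) (.lin 4) (.split
    1 51 (.lin 4) (.split 6 70 (.lin 7) (.splitN 20521 (.wt 1) (.split 4 17 (.split 2 (-17)
    (.splitN 63599 (.split 0 (-227) .sq (.split 7 (-236) (.lin 12) (.split 2 (-225) .sq (.split 3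
    (-228) (.lin 10) (.split 6 234 (.split 3 (-192) (.lin 6) (.split 0 (-201) (.lin 7) (.split 3
    (-21) (.split 6 79 (.lin 7) (.split 2 (-26) (.split 1 205 (.splitN 58417 (.split 6 218
    (.split 7 (-191) (.lin 6) (.split 3 (-165) (.lin 7) (.split 4 11 (.split 2 (-35) (.splitN
    40628 .cand (.wt 1)) (.lin 10)) (.split 0 (-57) (.split 6 106 (.lin 3) (.split 1 78 (.lin 4)
    (.split 3 (-138) (.lin 7) (.split 7 (-82) (.splitN 43932 (.split 3 (-48) (.split 6 133 (.lin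
    6) (.split 2 (-53) (.split 1 160 (.splitN 41516 .sq (.wt 1)) (.lin 11)) (.lin 10))) (.wt 0))
    (.wt 1)) (.lin 12))))) (.wt 2))))) .sq) (.wt 1)) (.lin 11)) (.lin 10))) (.wt 2)))) .sq)))))
    (.wt 1)) (.lin 10)) (.split 7 (-64) (.splitN 74076 (.split 3 (-21) (.split 6 79 (.lin 7)
    (.split 0 (-68) (.split 1 87 (.lin 4) (.split 3 (-210) (.lin 7) (.split 6 115 (.lin 7)
    (.splitN 45466 (.split 0 (-112) (.split 6 151 (.lin 3) (.split 7 (-145) .sq (.lin 12))) (.wt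
    0)) (.wt 6))))) (.wt 2))) (.wt 0)) (.wt 1)) (.lin 12))))))) (.splitN 34179 (.split 2 (-185)
    (.div 2) (.split 3 (-219) (.lin 10) (.wt 2))) (.wt 1))))) (.lin 11)))) .sq) .sq) (.wt 1))
    (.split 0 (-282) (.lin 3) (.split 6 97 (.lin 3) (.splitN 54433 (.split 0 (-53) (.split 6 115
    (.lin 3) (.split 1 60 (.lin 4) (.wt 2))) (.wt 0)) (.wt 6))))))) (.lin 11))) .sq))) (.wt 1)))

def cert5_56_1 : Cert :=
  (.split 2 (-1) (.split 0 (-30) (.split 6 52 (.lin 3) (.split 1 42 (.lin 4) (.split 7 (-46)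
    (.splitN 327911 (.split 0 (-9021) (.div 0) (.split 1 3608 (.split 0 (-3603) (.lin 4) (.split
    2 (-1805) (.div 2) (.split 3 (-9021) (.div 3) (.split 4 12580 (.split 4 3608 (.split 3
    (-5403) (.lin 10) (.split 5 (-1805) (.div 5) (.split 3 (-13) (.split 6 61 (.lin 7) (.splitN
    240129 (.split 2 (-1319) (.div 2) (.split 4 2636 (.split 5 (-1319) (.div 5) (.split 0 (-479)
    .sq (.splitN 225846 (.split 1 465 (.split 5 (-419) (.lin 4) (.splitN 211906 (.split 3 (-450)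
    .sq (.split 4 853 (.splitN 199179 (.split 1 436 (.split 5 (-392) (.lin 4) (.split 4 434
    (.split 6 438 (.split 4 385 (.split 3 (-390) (.lin 7) (.split 7 (-425) (.lin 9) cert5_56_0))
    (.lin 3)) .sq) .sq)) .sq) (.wt 1)) (.lin 5))) (.wt 1))) .sq) (.wt 1)))) (.div 4))) (.wt 1)))
    (.wt 2)))) (.div 4)) (.lin 5))))) (.div 1))) (.wt 1)) (.lin 12)))) (.split 3 (-30) (.split 6
    52 (.lin 7) (.split 7 (-46) (.split 4 15 (.lin 12) (.splitN 145972 (.split 1 1592 (.split 2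
    (-797) (.div 2) (.split 3 (-3981) (.div 3) (.split 4 1592 (.split 3 (-2397) (.lin 5) (.split
    7 (-1622) (.lin 12) (.split 5 (-797) (.div 5) (.split 0 (-16) (.split 1 24 (.lin 4) (.split 6
    61 (.lin 7) (.splitN 122916 (.split 4 1340 (.split 7 (-1370) (.lin 12) (.split 5 (-671) (.div
    5) (.splitN 96254 (.split 2 (-527) (.div 2) (.split 4 1052 (.split 3 (-1578) (.lin 5) (.split
    7 (-1082) (.lin 12) (.split 5 (-527) (.div 5) (.split 0 (-21) (.split 1 33 (.lin 4) (.split 6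
    70 (.lin 7) (.splitN 52295 (.split 2 (-275) (.div 2) (.split 3 (-1317) (.lin 1) (.split 4 548
    (.split 3 (-813) (.lin 5) (.split 7 (-578) (.lin 12) (.split 5 (-275) (.div 5) (.splitN 47812
    (.split 3 (-45) (.split 6 79 (.lin 7) (.splitN 39857 (.split 2 (-221) (.div 2) (.split 4 440
    (.split 3 (-651) (.lin 5) (.split 7 (-470) (.lin 12) (.split 5 (-221) (.div 5) (.splitN 36605
    (.wt 4) (.wt 6))))) (.div 4))) (.wt 6))) (.wt 0)) (.wt 6))))) (.div 4)))) (.wt 6)))) (.wt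
    2))))) (.div 4))) (.wt 6)))) (.div 4)) (.wt 1)))) (.wt 2))))) (.div 4)))) (.div 1)) (.wt 1)))
    (.split 2 (-17) (.split 0 (-14) (.split 2 (-26) (.split 1 24 (.lin 4) (.split 6 61 (.lin 7)
    (.split 4 16 (.split 7 (-28) (.splitN 110204 (.split 1 1196 (.split 5 (-1175) (.lin 4)
    (.split 3 (-49) (.split 2 (-44) (.split 6 79 (.lin 7) (.split 0 (-21) (.split 2 (-53) (.split
    6 88 (.lin 3) (.split 1 33 (.lin 4) (.split 4 7 (.split 7 (-37) (.splitN 43941 (.split 2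
    (-239) (.div 2) (.split 3 (-237) (.lin 1) (.split 1 214 (.split 5 (-185) (.lin 1) (.splitN
    42540 (.split 2 (-221) (.div 2) (.split 3 (-219) (.lin 1) (.split 1 47 (.split 5 (-14) (.lin
    4) (.wt 0)) (.wt 0)))) (.wt 1))) (.lin 2)))) (.wt 1)) (.lin 12)) (.lin 12)))) (.lin 1)) (.wt
    2))) (.lin 1)) (.wt 2))) (.div 1)) (.wt 1)) (.lin 12)) (.lin 12)))) (.lin 1)) (.wt 2)) (.lin
    1)))) (.split 6 114 (.split 2 (-90) (.lin 3) (.split 1 97 (.split 7 (-119) (.lin 2) (.split 5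
    (-185) (.lin 1) (.split 5 (-86) (.lin 4) (.split 7 (-101) (.lin 9) (.split 0 (-13) (.split 6
    34 (.lin 3) (.split 1 24 (.lin 4) (.split 5 (-77) (.lin 4) (.splitN 113217 (.split 4 54
    (.split 7 (-83) (.lin 12) (.splitN 103311 (.split 4 34 (.split 7 (-65) (.lin 12) (.splitN
    90886 (.split 4 22 (.split 7 (-47) (.lin 12) (.split 3 (-12) (.split 6 43 (.lin 7) (.wt 2))
    (.wt 0))) (.wt 0)) (.wt 6))) (.wt 0)) (.wt 6))) (.wt 0)) (.wt 6))))) (.wt 2)))))) (.lin 11)))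
    (.wt 2)))) (.split 4 15 (.lin 10) (.split 0 (-30) (.split 7 (-55) (.split 1 42 (.lin 4)
    (.split 6 52 (.lin 7) (.splitN 135615 (.split 1 1484 (.split 2 742 (.split 4 1484 (.split 3
    (-1479) (.lin 10) (.split 5 (-743) (.div 5) (.split 3 (-22) (.split 7 (-73) (.split 6 70
    (.lin 7) (.split 4 33 (.lin 10) (.splitN 87302 (.split 1 944 (.split 0 (-939) (.lin 4)
    (.split 7 (-2423) (.lin 8) (.split 4 944 (.split 3 (-939) (.lin 10) (.split 5 (-473) (.div 5)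
    (.split 0 (-39) (.split 7 (-82) (.split 6 79 (.lin 7) (.splitN 77426 (.split 4 836 (.split 3
    (-831) (.lin 10) (.split 5 (-419) (.div 5) (.split 3 (-46) (.split 7 (-100) (.split 6 97
    (.lin 7) (.split 4 51 (.lin 10) (.splitN 67667 (.split 1 728 (.split 2 364 (.split 4 728
    (.split 7 (-1451) (.lin 8) (.split 5 (-365) (.div 5) (.split 0 (-72) (.split 7 (-127) (.split
    1 78 (.lin 4) (.split 6 124 (.lin 7) (.splitN 48401 .sq (.splitN 60228 (.split 4 656 (.split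
    3 (-651) (.lin 10) (.split 5 (-329) (.div 5) (.split 2 5 (.wt 1) (.split 7 (-136) (.split 4
    60 (.lin 10) (.splitN 51884 .sq (.split 3 (-48) (.split 7 (-145) (.split 6 133 (.lin 7)
    (.split 4 69 (.lin 10) (.splitN 58850 .sq (.wt 1)))) (.lin 1)) (.wt 1)))) (.lin 1))))) (.div
    4)) (.wt 1))))) (.lin 1)) (.wt 2)))) (.div 4)) (.div 2)) (.div 1)) (.wt 1)))) (.lin 1)) (.wt
    2)))) (.div 4)) (.wt 1))) (.lin 1)) (.wt 2)))) (.div 4)))) (.div 1)) (.wt 1)))) (.lin 1))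
    (.wt 2)))) (.div 4)) (.div 2)) (.div 1)) (.wt 1)))) (.lin 1)) (.split 3 (-17) (.split 6 34
    (.lin 7) (.split 4 24 (.lin 10) (.split 0 (-14) (.split 1 24 (.lin 4) (.split 6 43 (.lin 7)
    (.split 3 (-63) (.split 4 60 (.lin 5) (.split 6 88 (.lin 7) (.wt 2))) (.wt 2)))) (.wt 2))))
    (.wt 2)))))

def cert5_56 : Cert :=
  (.split 0 (-3) (.split 1 15 (.lin 4) (.split 6 16 (.lin 7) (.split 3 (-3) (.split 6 25 (.lin 7)
    cert5_56_1) (.wt 0)))) (.wt 2))

theorem check5_56 :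
    check task5 cert5_56
      [(7, ⟨none, some (-2)⟩), (7, ⟨some (7), none⟩), (1, ⟨none, none⟩), (7, ⟨none, some (-2)⟩), (7, ⟨some (7), none⟩), (5, ⟨none, some (-4)⟩), (8, ⟨some (8), none⟩), (8, ⟨none, some (-10)⟩)] ⟨some (10440), none⟩ = true := by
  decide +kernel

end Cfsg.Agent.EightLocal
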