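import Cfsg.Agent.Lib.EightLocal.Task5

/-!
# Search trees of family 5, part 4
-/

set_option autoImplicit false
set_option maxRecDepth 20000
set_option Elab.async false

namespace Cfsg.Agent.EightLocal

open Cfsg.Agent.SelfNine

def cert5_57_0 : Cert :=
  (.split 4 17 (.splitN 67493 (.split 2 (-239) .sq (.split 3 (-242) .sq (.split 7 (-245) (.lin 2)
    (.split 6 251 (.split 1 11 (.split 3 (-47) (.splitN 28303 (.wt 6) (.split 0 (-49) (.wt 0)
    (.split 5 41 (.wt 2) (.lin 4)))) (.lin 2)) (.splitN 23666 (.wt 1) (.split 4 11 (.splitN 34210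
    (.split 5 184 (.split 3 (-205) (.wt 0) (.split 6 215 (.split 0 (-175) (.wt 0) (.split 5 158
    (.split 3 (-172) (.wt 0) (.split 6 179 (.split 0 (-143) (.wt 0) (.split 5 122 (.splitN 26730
    (.wt 6) (.split 0 (-57) (.wt 0) (.split 5 41 (.wt 2) (.lin 4)))) (.lin 4))) (.lin 11))) (.lin
    4))) (.lin 11))) (.div 5)) (.wt 0)) (.split 6 61 (.lin 0) (.split 3 (-47) (.split 7 (-55)
    (.splitN 55019 (.split 3 (-208) .sq (.split 6 215 (.split 0 (-88) (.split 6 115 (.lin 3)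
    (.split 5 76 (.lin 4) (.split 3 (-101) (.split 7 (-109) (.splitN 50507 .sq (.wt 0)) (.lin 8))
    (.lin 5)))) (.split 5 68 (.split 6 115 (.split 2 (-54) (.lin 0) (.split 0 (-77) (.wt 2)
    (.split 5 59 (.split 0 (-74) (.wt 2) (.split 5 50 (.split 6 84 (.split 0 (-48) (.wt 2)
    (.split 5 32 (.split 0 (-45) (.wt 2) (.split 5 23 (.split 7 (-56) (.lin 8) (.splitN 47154
    (.wt 1) (.split 2 (-14) (.wt 0) (.split 6 62 (.wt 0) (.lin 0))))) (.lin 4))) (.lin 4)))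
    (.split 3 (-74) (.split 0 (-46) (.wt 2) (.split 2 (-35) (.split 5 41 (.split 5 23 (.split 7
    (-56) (.lin 8) (.splitN 44608 (.wt 1) (.wt 0))) (.lin 4)) (.lin 0)) (.lin 3))) (.lin 11)))
    (.lin 4))) (.lin 4)))) (.split 3 (-101) (.split 0 (-62) (.wt 2) (.split 2 (-44) (.split 5 41
    (.splitN 45056 (.split 0 (-54) (.wt 2) (.split 5 32 (.split 6 120 (.wt 2) (.split 2 (-62)
    (.split 3 (-110) (.split 6 127 (.wt 2) (.split 3 (-119) (.splitN 42668 .sq (.split 0 (-45)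
    (.wt 0) (.split 2 (-80) .sq (.lin 3)))) (.lin 11))) (.lin 11)) (.lin 0))) (.lin 4))) (.wt 3))
    (.lin 4)) (.lin 3))) (.lin 11))) (.lin 4))) (.lin 11))) (.wt 3)) (.lin 8)) (.lin 5))))))
    (.lin 11))))) (.wt 3)) (.split 6 70 (.lin 3) (.split 3 (-56) (.split 7 (-55) (.split 7 (-64)
    (.splitN 84730 (.splitN 76265 (.split 3 (-252) .sq (.split 6 260 (.split 1 11 (.split 3 (-65)
    (.split 0 (-46) (.wt 2) (.split 5 32 (.wt 2) (.lin 4))) (.lin 2)) (.split 0 (-93) (.split 6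
    133 (.lin 3) (.split 5 85 (.lin 4) (.split 3 (-119) (.split 7 (-127) (.splitN 66788 .sq (.wt
    0)) (.lin 8)) (.lin 5)))) (.split 5 77 (.split 7 (-137) (.lin 8) (.splitN 33224 (.wt 1)
    (.split 6 135 (.split 2 (-72) (.lin 0) (.split 3 (-120) (.lin 11) (.split 0 (-65) (.split 5
    49 (.lin 4) (.split 3 (-83) (.split 7 (-91) (.split 4 26 (.wt 2) (.split 2 (-36) (.lin 0)
    (.split 3 (-92) (.split 7 (-100) (.split 0 (-76) (.wt 2) (.split 5 59 (.split 0 (-73) (.wt 2)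
    (.split 5 50 (.split 2 (-10) (.split 3 (-101) (.wt 2) (.lin 1)) (.wt 2)) (.lin 4))) (.lin
    4))) (.lin 8)) (.lin 5)))) (.lin 8)) (.lin 5))) (.split 5 41 (.split 7 (-101) (.lin 8)
    (.splitN 71146 (.split 6 102 (.split 3 (-102) (.lin 7) (.split 7 (-92) (.lin 9) (.split 3
    (-84) (.lin 11) (.split 0 (-47) (.split 2 (-27) (.lin 3) (.split 5 31 (.lin 4) (.split 3
    (-65) (.split 7 (-73) (.split 4 34 (.split 4 29 (.split 7 (-83) (.lin 8) (.splitN 43195 (.wt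
    1) (.split 0 (-54) (.wt 2) (.split 5 32 (.split 7 (-74) (.lin 8) (.splitN 49029 (.split 2
    (-21) (.split 6 97 (.lin 0) (.split 3 (-83) (.wt 0) (.lin 6))) (.wt 1)) (.wt 4))) (.lin
    4))))) (.split 2 (-18) (.lin 0) (.split 6 88 (.lin 0) (.split 3 (-74) (.split 7 (-82)
    (.splitN 52199 (.split 0 (-55) (.wt 2) (.split 5 32 (.split 7 (-83) (.lin 8) (.splitN 46587
    (.wt 0) (.split 2 (-16) (.wt 0) (.split 6 89 (.split 3 (-75) (.lin 6) (.wt 0)) (.lin 0)))))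
    (.lin 4))) (.wt 0)) (.lin 8)) (.lin 5))))) (.split 2 (-9) (.lin 0) (.split 0 (-48) (.lin 3)
    (.split 5 32 (.split 6 97 (.lin 0) (.split 3 (-83) (.split 7 (-91) (.splitN 51693 (.wt 0)
    (.wt 0)) (.lin 1)) (.lin 6))) (.lin 0))))) (.lin 8)) (.lin 5)))) (.split 5 23 .cand (.lin
    4)))))) (.split 3 (-92) (.split 7 (-82) (.split 0 (-47) (.splitN 39968 (.wt 1) (.split 4 34
    (.split 2 (-17) (.split 4 29 (.split 0 (-56) (.wt 0) (.lin 12)) .cand) (.lin 0)) .cand))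
    (.split 2 (-26) (.split 5 23 (.split 4 42 (.lin 8) (.split 7 (-83) (.lin 8) (.splitN 51366
    (.wt 0) (.wt 1)))) (.lin 4)) (.lin 3))) (.split 2 (-35) (.split 4 34 (.split 4 29 .cand
    (.split 0 (-39) (.lin 12) (.split 7 (-73) (.splitN 50327 (.wt 0) (.wt 1)) (.lin 8)))) (.lin
    8)) (.lin 9))) (.lin 11))) (.wt 1))) (.lin 4))))) (.split 3 (-74) (.split 3 (-128) (.splitN
    65315 (.split 3 (-187) .sq (.split 6 197 (.split 0 (-65) (.split 5 49 (.lin 4) (.split 7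
    (-91) (.splitN 52784 .sq (.wt 0)) (.lin 8))) (.split 2 (-44) (.splitN 54080 (.split 3 (-153)
    .sq (.split 6 161 (.split 7 (-82) (.splitN 48347 .sq (.splitN 49621 (.split 0 (-53) (.wt 0)
    (.split 2 (-53) (.split 5 32 (.split 4 33 (.lin 8) .sq) (.lin 4)) (.lin 3))) (.wt 1)))
    (.split 2 (-71) (.split 4 34 (.splitN 48824 .sq (.splitN 50631 (.split 4 27 (.wt 1) (.split 7
    (-73) .sq (.lin 8))) (.wt 1))) (.lin 8)) (.lin 9))) (.lin 11))) (.wt 1)) (.lin 3))) (.lin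
    11))) (.wt 1)) (.lin 11)) (.lin 7))))) (.lin 4)))) (.lin 11))) (.wt 3)) (.wt 1)) (.lin 12))
    (.lin 8)) (.lin 5))))

def cert5_57_1 : Cert :=
  (.split 1 49 (.splitN 71290 (.split 6 107 (.split 2 (-45) (.lin 0) (.split 5 59 (.split 7
    (-101) (.lin 9) (.split 0 (-65) (.split 2 (-27) (.lin 3) (.split 7 (-82) (.splitN 56759
    (.split 3 (-65) (.split 1 26 (.wt 2) (.split 5 50 (.split 6 97 (.lin 11) (.splitN 43056 (.wt
    1) (.split 5 27 (.wt 2) (.split 2 (-15) (.split 5 41 (.split 0 (-75) (.lin 3) (.split 7 (-92)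
    (.lin 9) (.split 1 38 (.splitN 46935 (.split 0 (-70) (.wt 0) (.split 5 32 (.split 7 (-83)
    (.lin 8) (.wt 1)) (.lin 4))) (.wt 0)) (.split 2 (-18) (.lin 0) (.split 0 (-74) (.split 5 32
    (.split 6 106 (.lin 0) (.split 3 (-66) (.lin 1) (.split 7 (-91) (.splitN 46189 (.wt 0) (.wt
    0)) (.lin 1)))) (.lin 0)) (.lin 4)))))) (.lin 0)) (.split 7 (-91) (.split 0 (-74) (.splitN
    49305 (.wt 1) (.wt 0)) (.lin 3)) (.lin 2)))))) (.lin 0))) (.split 1 33 (.lin 2) (.split 2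
    (-18) (.lin 10) (.split 7 (-92) (.lin 2) (.split 5 32 (.split 6 98 (.splitN 46093 (.wt 1)
    .cand) (.lin 11)) (.lin 10)))))) (.wt 3)) (.lin 12))) (.split 1 34 (.split 5 32 (.split 7
    (-74) (.lin 12) (.split 3 (-65) (.split 2 (-17) (.split 1 29 .cand (.split 0 (-56) (.split 5
    23 (.split 7 (-73) (.splitN 49763 (.wt 1) (.wt 0)) (.lin 8)) (.lin 4)) (.lin 4))) (.lin 2))
    (.split 2 (-27) (.lin 1) (.split 2 (-18) (.lin 10) (.split 6 89 (.split 6 80 (.splitN 47006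
    (.wt 1) (.split 1 29 (.splitN 57222 .cand (.wt 0)) (.split 2 (-9) (.lin 0) (.split 0 (-56)
    (.split 5 23 (.split 3 (-48) (.lin 1) (.split 7 (-73) (.splitN 55419 (.wt 0) (.wt 0)) (.lin
    1))) (.lin 0)) (.lin 4))))) (.split 0 (-56) (.split 3 (-56) (.split 2 (-17) (.split 1 33
    (.lin 11) (.split 5 23 (.split 7 (-73) (.splitN 50606 (.wt 0) (.wt 0)) (.lin 1)) (.lin 0)))
    (.lin 9)) (.lin 6)) (.lin 3))) (.lin 3)))))) (.lin 4)) (.lin 4)))) (.lin 0))) (.split 3 (-74)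
    (.split 0 (-83) (.split 7 (-100) (.split 0 (-116) (.wt 2) (.split 1 29 (.wt 2) (.split 5 77
    (.split 0 (-108) (.wt 2) (.split 5 68 (.split 3 (-90) (.wt 2) (.split 2 (-27) (.lin 2)
    (.split 5 59 (.split 6 125 (.wt 2) (.lin 11)) (.lin 10)))) (.lin 4))) (.lin 4)))) (.lin 12))
    (.split 2 (-26) (.split 5 50 (.split 7 (-92) (.lin 12) (.split 1 34 (.split 3 (-83) (.split 0
    (-61) (.split 5 31 (.lin 4) (.split 7 (-82) (.splitN 40522 (.wt 1) (.splitN 45740 (.split 1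
    26 (.wt 0) (.split 5 41 (.split 0 (-66) (.wt 1) (.split 5 32 (.split 7 (-83) (.lin 8) (.wt
    1)) (.lin 4))) (.lin 4))) (.wt 3))) (.lin 12))) (.split 2 (-44) (.split 5 32 (.split 7 (-74)
    (.lin 12) (.splitN 43066 (.wt 1) (.split 1 29 (.split 3 (-92) (.splitN 49141 (.split 7 (-73)
    (.wt 0) (.split 0 (-48) (.lin 12) (.split 5 23 (.wt 1) (.lin 4)))) (.wt 0)) (.lin 11))
    (.split 0 (-56) (.split 5 23 (.split 7 (-73) (.splitN 48867 (.wt 1) (.wt 0)) (.lin 8)) (.lin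
    4)) (.lin 4))))) (.lin 4)) (.lin 3))) (.lin 11)) (.split 0 (-65) (.split 5 32 (.split 7 (-82)
    (.splitN 44702 (.wt 1) (.split 3 (-98) (.wt 2) (.split 6 134 (.splitN 49200 (.split 5 26 (.wt
    1) (.split 0 (-74) (.split 7 (-91) (.wt 0) (.lin 8)) (.lin 4))) (.wt 3)) (.lin 11)))) (.lin
    8)) (.lin 4)) (.lin 4)))) (.lin 4)) (.lin 3))) (.lin 11))) (.wt 3)) (.split 0 (-74) (.split 7
    (-91) (.split 3 (-70) (.split 1 70 (.split 6 124 (.lin 11) (.split 5 45 (.split 2 (-17)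
    (.split 5 32 (.split 2 (-26) (.split 7 (-119) (.lin 6) (.splitN 43749 (.wt 1) (.split 0
    (-100) (.wt 2) (.split 7 (-110) (.lin 12) (.split 5 27 (.split 2 (-35) (.splitN 46575 (.wt 1)
    (.split 0 (-81) (.wt 0) (.split 1 52 (.wt 0) (.lin 4)))) (.lin 10)) (.split 0 (-83) (.split 1
    61 (.split 7 (-100) (.splitN 47262 (.split 1 52 (.wt 0) (.split 6 133 (.lin 0) (.split 7
    (-109) .sq (.lin 8)))) (.wt 0)) (.lin 8)) (.lin 8)) (.lin 4))))))) (.lin 10)) (.split 0 (-92)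
    (.split 7 (-109) (.splitN 46376 .sq (.wt 0)) (.lin 8)) (.lin 4))) (.lin 10)) (.split 0 (-101)
    (.split 7 (-118) (.splitN 50750 .sq (.wt 0)) (.lin 8)) (.lin 4)))) (.lin 11)) (.split 2 (-27)
    (.lin 10) (.split 5 41 (.split 6 120 (.split 1 70 (.split 0 (-93) (.lin 3) (.split 7 (-110)
    (.lin 9) (.splitN 58857 (.split 3 (-56) (.split 1 61 (.split 6 106 (.lin 11) (.split 5 32
    (.split 2 (-15) (.split 7 (-101) (.lin 9) (.splitN 46173 (.wt 1) .cand)) (.split 7 (-100)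
    (.split 0 (-83) (.split 5 31 (.lin 10) (.splitN 50119 (.wt 1) (.wt 3))) (.lin 3)) (.lin 2)))
    (.split 1 52 (.split 0 (-92) (.split 2 (-9) (.lin 10) (.split 6 115 (.lin 0) (.split 3 (-65)
    (.split 7 (-109) (.splitN 46542 (.wt 0) (.wt 0)) (.lin 1)) (.lin 6)))) (.lin 4)) (.lin 0))))
    (.lin 11)) (.split 5 23 .cand (.lin 10))) (.wt 3)))) (.lin 0)) (.split 0 (-83) (.split 1 60
    (.lin 11) (.split 3 (-56) (.split 5 32 (.split 2 (-15) (.split 7 (-128) (.lin 9) (.split 5 27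
    .cand (.split 1 79 (.split 0 (-92) (.split 2 (-18) (.lin 10) (.split 7 (-109) (.split 3 (-65)
    (.splitN 49280 (.split 1 71 (.split 6 134 (.split 0 (-102) (.lin 3) (.split 7 (-119) (.lin 1)
    (.wt 1))) (.lin 0)) (.wt 1)) (.wt 0)) (.lin 10)) (.lin 6))) (.lin 4)) (.lin 0)))) (.split 1
    69 (.lin 0) (.split 0 (-101) (.split 7 (-118) (.split 3 (-57) (.lin 10) (.split 5 31 (.lin
    10) (.splitN 51588 (.split 7 (-121) (.split 1 78 (.lin 2) (.split 6 133 (.lin 0) .sq)) (.wt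
    1)) (.wt 1)))) (.lin 1)) (.lin 3)))) (.split 1 79 (.split 0 (-101) (.split 7 (-118) (.split 3
    (-65) (.splitN 49697 .sq (.wt 0)) (.lin 10)) (.lin 6)) (.lin 4)) (.lin 0))) (.split 7 (-118)
    (.split 2 (-9) (.lin 10) (.split 1 78 (.lin 11) (.split 5 23 (.splitN 49433 (.wt 0) (.splitN
    53793 (.split 7 (-134) (.wt 1) (.split 0 (-111) (.lin 1) (.split 6 133 (.split 0 (-102) (.lin
    3) (.split 7 (-119) (.lin 1) (.wt 0))) (.wt 2)))) (.wt 1))) (.lin 10)))) (.lin 6)))) (.lin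
    3))) (.lin 10)))) (.lin 8)) (.lin 4)))

def cert5_57_2 : Cert :=
  (.split 5 18 (.split 3 (-48) (.split 6 70 (.lin 6) (.split 2 (-26) (.split 6 79 (.lin 7)
    (.splitN 299447 (.split 1 3320 (.split 2 (-1661) (.div 2) (.split 6 5003 (.split 0 (-535) .sq
    (.split 1 529 (.splitN 266768 (.split 0 (-504) .sq (.split 1 493 (.split 2 (-503) .sq (.split
    6 1016 (.split 3 (-525) (.lin 10) (.split 6 508 (.split 4 11 (.split 2 (-35) (.splitN 48154
    (.split 2 (-257) (.div 2) (.splitN 34199 (.wt 6) (.split 0 (-138) (.wt 0) (.split 6 395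
    (.split 1 133 (.splitN 38126 (.wt 6) (.split 0 (-58) (.wt 0) (.split 1 52 (.wt 2) (.lin 4))))
    (.lin 4)) (.lin 3))))) (.wt 5)) (.lin 10)) (.split 7 (-55) (.split 5 9 (.wt 2) (.split 7
    (-127) (.split 1 96 (.lin 8) (.split 0 (-110) (.split 6 151 (.lin 0) (.splitN 65006 .sq (.wt
    0))) (.lin 12))) (.split 1 88 (.split 0 (-102) (.lin 12) (.splitN 95618 .cand (.wt 1))) (.lin
    8)))) (.lin 12))) .sq)) (.lin 0))) (.lin 4))) (.wt 3)) (.lin 4))) (.lin 0))) (.div 1)) (.wt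
    3))) (.lin 10))) (.split 2 (-36) (.lin 10) (.split 4 11 (.splitN 209899 (.split 1 2312
    (.split 6 2366 (.splitN 93712 (.split 0 (-293) .sq (.split 7 (-326) (.lin 1) (.split 1 340
    (.split 1 313 (.split 6 368 (.splitN 86250 (.split 0 (-281) .sq (.split 6 314 (.split 6 283
    (.split 5 9 (.splitN 56723 (.wt 6) (.split 0 (-84) (.wt 0) (.split 7 (-119) (.lin 1) (.split
    1 106 (.split 6 152 (.wt 2) (.lin 0)) (.lin 8))))) (.split 1 250 (.split 2 (-27) (.lin 10)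
    (.split 3 (-29) (.split 0 (-118) (.wt 2) (.split 7 (-137) (.lin 1) (.split 1 133 (.split 6
    143 (.split 0 (-62) (.wt 2) (.split 6 89 (.split 1 43 (.wt 2) (.lin 4)) (.lin 3))) (.lin 3))
    (.lin 2)))) (.lin 10))) (.lin 0))) .sq) (.lin 3))) (.wt 3)) (.lin 0)) (.lin 8)) (.lin 2))))
    (.wt 3)) (.lin 0)) (.div 1)) (.wt 0)) (.split 6 61 (.lin 3) (.split 2 (-27) (.lin 10) (.split
    3 (-29) (.split 7 (-55) (.splitN 989757 (.split 0 (-991) .sq (.split 7 (-1019) (.lin 1)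
    (.split 1 1015 (.split 6 1070 (.splitN 754742 (.split 0 (-863) .sq (.split 7 (-893) (.lin 1)
    (.split 1 889 (.split 6 863 (.split 5 9 (.split 0 (-92) (.wt 2) (.split 7 (-119) (.lin 1)
    (.split 1 97 (.split 6 125 (.split 1 79 (.splitN 164005 (.wt 6) (.split 0 (-44) (.wt 0)
    (.split 6 80 (.wt 0) (.lin 3)))) (.lin 4)) (.lin 3)) (.lin 8)))) (.split 2 (-18) (.lin 10)
    (.split 3 (-38) (.splitN 135569 (.split 0 (-353) .sq (.split 7 (-371) (.lin 1) (.split 1 349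
    (.split 6 395 (.split 6 147 (.split 1 106 (.split 0 (-68) (.split 1 60 (.lin 4) (.split 7
    (-91) (.splitN 76469 .cand (.wt 0)) (.lin 8))) (.split 7 (-92) (.lin 1) (.split 1 61 (.splitN
    94932 .cand (.wt 1)) (.lin 8)))) (.lin 0)) (.split 1 105 (.lin 0) (.split 0 (-119) (.split 7
    (-136) (.splitN 68957 .sq (.wt 0)) (.lin 6)) (.lin 3)))) (.lin 0)) (.lin 2)))) (.wt 1)) (.lin
    10)))) .sq) (.lin 2)))) (.wt 3)) (.lin 0)) (.lin 2)))) (.wt 3)) (.lin 12)) (.lin 10)))))))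
    (.split 6 61 (.lin 0) (.split 0 (-47) (.split 7 (-55) (.split 3 (-38) (.splitN 137711 (.split
    2 (-761) (.div 2) (.split 3 (-3801) (.div 3) (.split 0 (-357) .sq (.split 1 331 (.split 5 329
    (.splitN 125938 (.split 0 (-339) .sq (.split 1 313 (.split 2 (-335) .sq (.split 3 (-337) .sq
    (.split 6 340 (.split 1 295 (.split 2 (-279) (.lin 9) (.split 4 11 (.splitN 45679 (.split 5
    238 (.split 3 (-159) (.wt 2) (.split 5 140 (.split 3 (-143) (.wt 2) (.split 2 (-108) (.lin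
    10) (.split 5 122 (.split 3 (-137) (.wt 2) (.split 2 (-99) (.lin 10) (.split 6 70 (.wt 2)
    (.split 0 (-180) .sq (.split 6 278 (.split 1 151 (.split 7 (-182) (.lin 12) (.split 3 (-106)
    (.wt 2) (.split 6 251 (.split 2 (-72) (.lin 10) (.split 5 86 (.split 0 (-172) (.wt 2) (.split
    1 142 (.split 3 (-91) (.wt 2) (.split 6 233 (.split 2 (-54) (.lin 10) (.split 5 68 (.split 0
    (-137) (.wt 2) (.split 6 188 (.split 1 106 (.split 0 (-102) (.wt 2) (.split 6 161 (.split 1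
    79 (.split 0 (-81) (.wt 2) (.split 6 134 (.split 1 52 (.split 5 50 (.split 7 (-83) (.lin 12)
    (.splitN 30095 (.wt 1) (.split 3 (-72) (.wt 0) (.split 6 116 (.split 2 (-36) (.lin 10)
    (.splitN 33638 (.wt 6) (.split 0 (-58) (.wt 0) (.split 6 98 (.split 1 34 (.split 5 32 (.wt 0)
    (.lin 4)) (.lin 4)) (.lin 3))))) (.lin 6))))) (.lin 4)) (.lin 4)) (.lin 3))) (.lin 4)) (.lin
    3))) (.lin 4)) (.lin 3))) (.lin 10))) (.lin 6))) (.lin 4))) (.lin 10))) (.lin 6)))) (.lin 4))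
    (.lin 3)))))) (.lin 10)))) (.lin 10))) (.div 5)) (.wt 3)) (.split 6 70 (.lin 0) (.split 7
    (-64) (.split 3 (-47) (.splitN 98867 (.split 0 (-292) .sq (.split 5 266 (.split 6 296 (.split
    3 (-273) (.lin 11) (.split 6 144 (.split 1 97 (.split 0 (-120) (.lin 3) (.split 2 (-81) (.lin
    9) (.split 5 95 (.split 7 (-137) (.lin 9) (.splitN 34646 (.wt 1) cert5_57_1)) (.lin 0))))
    (.lin 0)) (.splitN 77394 (.split 0 (-211) .sq (.split 1 187 (.split 3 (-211) .sq (.split 6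
    255 (.split 7 (-216) .sq (.split 1 169 (.split 0 (-192) (.lin 12) (.split 5 167 (.split 7
    (-116) (.split 0 (-101) (.splitN 50912 .sq (.splitN 58646 (.split 1 36 (.wt 0) (.split 3
    (-122) (.wt 0) (.split 5 95 (.split 3 (-117) (.wt 0) (.split 2 (-30) (.wt 1) (.split 0 (-110)
    (.split 7 (-127) .sq (.lin 9)) (.lin 3)))) (.lin 10)))) (.wt 3))) (.lin 12)) (.split 3 (-83)
    (.split 1 70 (.split 2 (-44) (.split 0 (-93) (.lin 12) (.split 5 68 (.splitN 58832 (.split 3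
    (-152) .sq (.split 6 198 (.split 1 47 (.split 3 (-110) (.splitN 44855 .sq (.splitN 55505
    (.split 7 (-106) (.wt 3) (.split 2 (-53) (.split 3 (-138) .sq (.split 6 179 (.split 0 (-65)
    (.split 7 (-82) (.splitN 50372 .sq (.wt 0)) (.lin 12)) (.split 2 (-80) (.split 3 (-119)
    (.splitN 51380 .sq (.wt 1)) (.lin 7)) (.lin 3))) (.lin 11))) (.lin 9))) (.wt 1))) (.lin 11))
    (.split 0 (-74) (.split 5 41 (.split 7 (-91) (.splitN 49175 .sq (.splitN 51896 (.split 3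
    (-116) (.wt 0) (.split 2 (-72) (.lin 10) (.split 6 179 (.split 1 52 (.wt 0) (.split 7 (-100)
    .sq (.lin 8))) (.lin 3)))) (.wt 1))) (.lin 8)) (.lin 4)) (.lin 4))) .sq)) (.wt 1)) (.lin 4)))
    (.lin 9)) (.lin 8)) (.lin 6))) (.lin 4))) (.lin 8))) .sq)) (.lin 4))) (.wt 1)))) .sq) (.lin
    4))) (.wt 1)) (.lin 10)) (.lin 8))))) (.lin 0)) .sq))) (.lin 4))) (.wt 1)) (.lin 4)) (.lin
    4))))) (.wt 1)) (.lin 10)) (.lin 8)) (.lin 4))))

def cert5_57_3 : Cert :=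
  (.split 4 46 (.split 0 (-56) (.split 6 88 (.lin 3) (.split 1 42 (.lin 4) (.split 7 (-82)
    (.splitN 101677 (.split 3 (-70) (.split 2 (-17) (.split 6 115 (.lin 7) (.splitN 81857 (.split
    4 34 (.split 2 (-26) (.split 4 29 (.splitN 69638 .cand (.wt 1)) .cand) (.lin 10)) .cand) (.wt
    1))) (.lin 10)) (.split 4 34 (.split 7 (-110) (.lin 8) (.split 6 107 (.split 7 (-101) (.lin
    9) (.split 3 (-56) (.split 0 (-66) (.lin 7) (.split 1 52 (.split 6 97 (.lin 7) (.splitN 85499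
    (.split 4 29 (.split 2 (-17) (.splitN 70979 .cand (.wt 1)) (.lin 10)) (.split 2 (-18) (.lin
    0) (.splitN 65852 (.wt 0) .cand))) (.wt 1))) (.lin 11))) (.split 2 (-9) (.lin 10) (.split 4
    25 (.split 0 (-58) (.split 7 (-91) (.split 1 51 (.lin 2) (.split 6 97 (.lin 0) (.splitN 74881
    (.split 0 (-69) (.split 7 (-100) (.split 1 60 (.lin 2) (.split 6 106 (.lin 0) (.wt 0))) (.lin
    1)) (.wt 0)) (.wt 1)))) (.lin 1)) (.wt 2)) (.lin 10))))) (.split 7 (-91) (.split 1 51 (.lin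
    11) (.split 4 29 (.split 2 (-17) (.splitN 67923 .cand (.wt 1)) (.lin 0)) (.split 0 (-70)
    (.split 1 60 (.lin 4) (.wt 2)) (.wt 2)))) (.lin 6)))) (.split 6 106 (.lin 0) (.split 2 (-9)
    (.lin 10) (.split 3 (-65) (.split 0 (-65) (.split 7 (-109) (.split 1 51 (.lin 2) (.split 6
    115 (.lin 0) (.wt 2))) (.lin 1)) (.wt 2)) (.lin 10)))))) (.wt 1)) (.lin 8)))) (.split 1 34
    (.split 7 (-92) (.lin 8) (.split 3 (-79) (.split 2 (-17) (.split 2 (-26) (.split 6 106 (.lin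
    7) (.split 4 34 (.split 7 (-83) (.lin 8) (.split 2 (-35) (.split 7 (-73) (.split 1 29 (.split
    0 (-39) (.lin 4) (.split 4 33 (.lin 8) (.split 7 (-74) (.lin 8) (.splitN 67060 (.wt 0) (.wt
    1))))) (.split 0 (-47) (.split 3 (-102) (.lin 7) (.split 6 115 (.lin 7) (.splitN 68211
    (.split 4 31 (.split 2 (-44) (.split 7 (-74) (.lin 8) (.splitN 61784 (.wt 0) (.split 6 130
    (.split 3 (-93) (.lin 6) (.wt 2)) (.wt 1)))) (.lin 0)) (.wt 0)) (.wt 1)))) (.lin 4))) (.split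
    0 (-39) (.lin 12) (.wt 2))) (.lin 10))) (.split 7 (-82) (.splitN 70337 (.split 0 (-41)
    (.split 2 (-45) (.lin 3) (.split 3 (-102) (.lin 1) (.split 6 115 (.lin 3) (.split 1 33 (.lin
    4) (.wt 0))))) (.wt 2)) (.wt 1)) (.lin 8)))) (.lin 10)) (.lin 1)) (.split 2 (-36) (.lin 10)
    (.split 6 107 (.split 6 89 (.split 3 (-66) (.lin 7) (.split 7 (-83) (.lin 9) (.split 3 (-56)
    (.split 6 79 (.lin 7) (.split 7 (-73) (.split 1 29 (.split 0 (-39) (.lin 4) (.split 4 33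
    (.lin 8) (.wt 2))) (.split 0 (-47) (.split 3 (-57) (.lin 7) (.split 6 88 (.lin 7) (.wt 2)))
    (.lin 4))) (.split 2 (-17) (.split 1 25 (.split 0 (-39) (.lin 12) (.split 4 25 (.splitN 67455
    (.wt 0) (.wt 1)) (.lin 8))) (.lin 8)) (.lin 1)))) (.split 2 (-9) (.lin 10) (.split 7 (-74)
    (.lin 1) (.split 4 25 (.splitN 83714 (.split 0 (-40) (.split 7 (-73) (.split 1 33 (.lin 2)
    (.split 6 79 (.lin 0) (.wt 0))) (.lin 1)) (.wt 2)) (.wt 1)) (.lin 10))))))) (.split 4 34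
    (.split 2 (-17) (.split 7 (-83) (.lin 8) (.splitN 77019 (.split 7 (-73) (.split 1 29 (.split
    2 (-26) (.split 0 (-39) (.lin 4) (.split 2 (-27) (.lin 1) (.split 4 33 (.lin 0) (.split 7
    (-74) (.lin 1) (.wt 0))))) (.lin 0)) (.split 0 (-47) (.split 3 (-67) (.split 6 106 (.lin 7)
    (.wt 2)) (.wt 2)) (.lin 4))) (.split 3 (-74) (.split 1 25 (.split 2 (-35) (.split 0 (-39)
    (.lin 12) (.split 4 25 (.split 6 98 (.splitN 68656 (.wt 0) (.wt 0)) (.lin 0)) (.lin 5)))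
    (.lin 9)) (.lin 8)) (.lin 6))) (.wt 1))) (.lin 0)) (.split 2 (-27) (.lin 0) (.split 0 (-44)
    (.split 1 33 (.lin 4) (.split 7 (-91) (.splitN 77693 (.wt 0) (.wt 1)) (.lin 8))) (.wt 2)))))
    (.lin 7))))) (.lin 4))) (.split 6 97 (.lin 0) (.split 7 (-91) (.splitN 105418 (.split 0 (-56)
    (.split 1 42 (.lin 4) (.split 3 (-93) (.lin 7) (.split 2 (-15) (.split 0 (-66) (.lin 3)
    (.split 6 124 (.lin 0) (.split 7 (-119) (.lin 9) (.wt 2)))) .cand))) (.split 1 34 (.split 2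
    (-19) (.split 6 115 (.lin 0) (.split 7 (-110) (.lin 9) (.splitN 70354 (.split 0 (-43) (.split
    6 124 (.lin 3) (.split 1 33 (.lin 4) (.split 3 (-102) (.lin 7) (.wt 0)))) (.wt 2)) (.wt 1))))
    (.split 1 29 (.split 0 (-39) (.lin 4) (.split 3 (-97) (.split 7 (-109) (.split 4 69 (.lin 5)
    (.split 6 124 (.lin 7) (.splitN 69696 (.wt 0) (.wt 1)))) (.lin 1)) (.wt 2))) (.split 4 79
    (.split 0 (-47) (.split 6 106 (.lin 0) (.split 3 (-102) (.lin 7) (.split 7 (-100) (.splitN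
    80437 (.split 2 (-13) (.wt 2) (.split 4 75 (.split 3 (-93) (.lin 5) (.wt 2)) (.wt 0))) (.wt
    1)) (.lin 8)))) (.lin 4)) (.lin 0)))) (.lin 4))) (.wt 1)) (.lin 8))))

def cert5_57_4 : Cert :=
  (.split 7 (-113) (.split 2 (-90) (.lin 9) (.split 4 42 (.lin 8) (.split 0 (-56) (.split 4 142
    (.split 1 42 (.lin 4) (.split 3 (-165) (.lin 7) (.split 4 78 (.split 7 (-146) (.lin 8)
    (.split 3 (-124) (.split 2 (-26) (.split 2 (-44) (.split 6 160 (.lin 6) (.split 6 169 (.lin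
    7) (.splitN 68174 .sq (.splitN 69922 (.split 0 (-63) (.split 1 51 (.lin 4) (.split 6 178
    (.lin 7) .sq)) (.wt 1)) (.wt 1))))) (.lin 10)) (.lin 1)) (.split 2 (-23) (.split 0 (-65)
    (.split 1 51 (.lin 4) (.split 3 (-85) (.split 4 56 (.split 7 (-128) (.lin 8) (.split 6 161
    (.split 3 (-111) (.lin 6) (.split 4 47 (.split 3 (-102) (.lin 6) (.split 1 60 (.lin 8)
    (.split 2 (-35) (.split 6 151 (.lin 0) (.split 7 (-119) (.lin 8) (.splitN 67785 (.wt 0) (.wt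
    1)))) (.lin 10)))) (.split 0 (-70) (.split 2 (-36) (.lin 3) (.split 3 (-102) (.lin 1) (.split
    6 151 (.lin 3) (.split 1 60 (.lin 4) (.split 7 (-127) (.splitN 70762 (.wt 0) (.wt 1)) (.lin
    8)))))) (.wt 2)))) (.split 2 (-44) (.split 3 (-110) (.splitN 65834 .sq (.wt 1)) (.lin 7))
    (.lin 0)))) (.split 6 151 (.lin 0) (.split 3 (-101) (.splitN 68706 (.split 0 (-70) (.split 6
    160 (.lin 3) (.split 1 60 (.lin 4) (.split 7 (-136) .sq (.lin 8)))) (.wt 0)) (.wt 6)) (.lin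
    10)))) (.wt 2))) (.split 1 43 (.split 4 60 (.lin 8) (.split 7 (-128) (.lin 8) (.splitN 69821
    (.wt 0) (.wt 1)))) (.lin 4))) (.split 4 51 (.lin 0) (.split 3 (-102) (.lin 10) (.split 0
    (-60) (.split 1 51 (.lin 4) (.split 3 (-86) (.split 4 60 (.lin 10) (.split 0 (-69) (.split 1
    60 (.lin 4) (.wt 2)) (.wt 2))) (.wt 2))) (.wt 2))))))) (.split 7 (-136) (.split 3 (-101)
    (.splitN 86874 (.split 2 (-24) (.split 4 124 (.split 6 160 (.lin 0) (.split 3 (-119) (.splitN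
    70676 .sq (.splitN 72544 (.split 0 (-69) (.split 6 178 (.lin 3) (.split 1 60 (.lin 4) (.split
    7 (-154) .sq (.lin 8)))) (.wt 1)) (.wt 1))) (.lin 10))) (.lin 0)) (.split 0 (-65) (.split 6
    151 (.lin 3) (.split 1 51 (.lin 4) (.split 7 (-145) (.splitN 67760 .sq .cand) (.lin 8))))
    (.split 1 43 (.splitN 79397 (.split 3 (-129) (.split 7 (-163) (.split 4 105 (.lin 5) (.split
    6 178 (.lin 7) .sq)) (.lin 1)) (.wt 2)) (.wt 1)) (.lin 4)))) (.wt 1)) (.lin 10)) (.lin 8)))))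
    (.lin 3)) (.split 1 34 (.split 3 (-110) (.split 4 69 (.lin 8) (.splitN 77617 (.split 7 (-189)
    .sq (.split 0 (-39) (.split 1 33 (.lin 4) (.split 2 (-19) (.wt 2) (.split 4 78 (.lin 0)
    (.split 3 (-165) (.lin 1) (.wt 2))))) (.wt 2))) (.wt 1))) (.lin 7)) (.lin 4))))) (.split 2
    (-35) (.split 4 70 (.splitN 94681 (.split 0 (-56) (.split 1 42 (.lin 4) (.split 3 (-165)
    (.lin 7) (.split 7 (-82) (.split 4 38 (.splitN 74215 (.split 3 (-124) (.split 2 (-62) (.split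
    2 (-80) (.split 6 169 (.lin 7) (.splitN 64214 .sq (.split 6 191 (.split 3 (-147) (.lin 7)
    (.split 7 (-100) (.wt 1) (.split 1 52 (.splitN 67751 (.split 4 27 (.wt 1) (.split 7 (-91) .sq
    (.lin 8))) (.wt 1)) (.lin 8)))) .sq))) (.lin 10)) (.lin 1)) (.split 4 29 (.splitN 67608 .cand
    (.wt 1)) .cand)) (.wt 1)) (.split 0 (-66) (.lin 12) (.split 3 (-105) (.split 6 151 (.lin 7)
    (.split 3 (-114) (.split 6 160 (.lin 7) (.split 0 (-57) (.split 2 (-62) (.split 6 169 (.lin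
    3) (.split 1 51 (.lin 4) (.split 4 43 (.split 7 (-109) (.splitN 67760 .sq (.wt 1)) (.lin 8))
    (.lin 8)))) (.lin 1)) (.wt 2))) (.wt 2))) (.wt 2)))) (.lin 8)))) (.split 1 34 (.split 3
    (-110) (.split 4 47 (.split 2 (-53) (.split 7 (-92) (.lin 8) (.split 4 34 (.split 7 (-83)
    (.lin 8) (.split 7 (-73) (.split 1 29 (.split 0 (-39) (.lin 4) (.split 4 33 (.lin 8) (.split
    7 (-74) (.lin 8) (.splitN 65482 (.wt 0) (.wt 1))))) (.split 0 (-47) (.split 3 (-114) (.split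
    6 151 (.lin 7) (.split 3 (-124) (.split 6 160 (.lin 7) (.split 3 (-135) (.split 2 (-89)
    (.split 6 169 (.lin 7) (.splitN 65105 .sq (.wt 1))) (.lin 1)) (.wt 2))) (.wt 2))) (.wt 2))
    (.lin 4))) (.split 2 (-71) (.split 1 25 (.split 0 (-39) (.lin 12) (.split 4 25 (.splitN 60951
    (.wt 0) (.wt 1)) (.lin 8))) (.lin 8)) (.lin 1)))) (.split 7 (-82) (.splitN 66301 (.split 1 33
    (.split 0 (-39) (.lin 4) (.split 7 (-83) (.lin 8) (.wt 0))) (.wt 0)) (.wt 1)) (.lin 8))))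
    (.lin 0)) (.split 0 (-42) (.split 1 33 (.lin 4) (.wt 2)) (.wt 2))) (.lin 7)) (.lin 4))) (.wt
    1)) (.lin 8)) (.lin 9)))

def cert5_57_5 : Cert :=
  (.split 6 206 (.split 2 (-144) (.lin 0) (.split 4 160 (.split 3 (-318) (.lin 6) (.split 3
    (-183) (.lin 7) (.split 7 (-200) (.lin 9) (.split 0 (-79) (.split 4 115 (.split 6 115 (.lin
    3) (.split 1 69 (.lin 4) (.split 3 (-138) (.lin 7) (.split 7 (-109) (.splitN 114510 (.splitN
    49863 (.wt 1) (.split 4 53 (.split 3 (-92) (.split 0 (-129) (.lin 7) (.split 2 (-26) (.split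
    1 115 (.split 6 160 (.lin 7) (.splitN 59552 .sq (.splitN 78177 (.split 7 (-167) .sq (.split 4
    38 (.split 2 (-44) (.splitN 71244 (.split 6 184 (.split 1 88 (.split 4 26 (.wt 0) (.split 7
    (-118) (.split 0 (-100) (.wt 2) (.split 1 79 (.splitN 65148 .sq (.wt 3)) (.lin 4))) (.lin
    8))) (.lin 11)) .sq) (.wt 1)) (.lin 10)) (.split 0 (-120) (.lin 12) (.split 7 (-127) (.split
    6 190 (.split 3 (-120) (.lin 7) (.split 0 (-97) (.split 1 87 (.lin 4) (.split 6 178 (.lin 7)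
    (.split 7 (-145) .sq (.lin 8)))) (.split 1 79 (.splitN 70557 (.split 6 172 (.split 3 (-102)
    (.lin 7) (.split 7 (-141) .sq (.split 4 51 (.split 2 (-35) (.splitN 65573 .sq (.wt 1)) (.lin
    10)) (.wt 2)))) .sq) (.wt 1)) (.lin 4)))) .sq) (.lin 8))))) (.wt 1)))) (.lin 11)) (.lin 10)))
    (.split 4 38 (.splitN 90227 (.split 3 (-65) (.split 6 124 (.lin 6) (.split 2 (-17) (.splitN
    76766 (.split 7 (-154) (.split 1 105 (.lin 8) (.split 6 169 (.lin 6) .sq)) (.split 1 106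
    (.split 6 188 (.split 4 29 (.splitN 70357 .cand (.wt 0)) .cand) (.lin 6)) (.lin 8))) (.wt 1))
    (.lin 10))) (.split 6 161 (.split 0 (-129) (.lin 3) (.split 7 (-164) (.lin 1) (.split 7
    (-155) (.lin 9) (.split 4 29 .cand (.split 1 106 (.split 0 (-120) (.lin 3) (.split 2 (-9)
    (.lin 10) (.split 3 (-56) (.split 0 (-91) (.split 7 (-127) (.split 1 78 (.lin 2) (.split 6
    133 (.lin 0) (.splitN 69361 (.wt 3) (.split 0 (-105) (.split 7 (-145) (.split 1 96 (.lin 2)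
    (.split 6 151 (.lin 0) (.wt 1))) (.lin 1)) (.wt 2))))) (.lin 1)) (.wt 2)) (.lin 10)))) (.lin
    0)))))) (.split 0 (-128) (.split 1 114 (.lin 11) (.split 7 (-154) (.splitN 85319 .sq (.wt 1))
    (.lin 6))) (.lin 7)))) (.wt 1)) (.split 6 133 (.lin 0) (.split 7 (-127) (.split 0 (-119)
    (.split 6 169 (.lin 3) (.split 1 105 (.lin 4) (.split 7 (-163) (.splitN 87200 .sq (.wt 1))
    (.lin 8)))) (.split 7 (-173) (.lin 1) (.split 1 115 (.split 1 97 (.split 7 (-164) (.lin 8)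
    (.splitN 84586 (.split 2 (-15) (.split 6 142 (.lin 0) (.split 3 (-74) (.splitN 74367 (.split
    6 165 (.split 7 (-146) (.lin 9) (.split 0 (-84) (.split 6 151 (.lin 3) (.split 1 78 (.lin 4)
    (.split 0 (-93) (.split 2 (-18) (.lin 3) (.split 3 (-75) (.lin 1) (.split 7 (-145) (.split 1
    87 (.lin 2) (.split 6 160 (.lin 0) .sq)) (.lin 1)))) (.wt 2)))) (.wt 2))) (.split 1 87 (.lin
    11) (.split 7 (-145) .sq (.lin 6)))) (.wt 1)) (.lin 10))) (.split 3 (-75) (.lin 10) (.splitN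
    65755 (.wt 0) .cand))) (.wt 1))) (.lin 4)) (.lin 8)))) (.lin 8))))) (.split 1 124 (.split 6
    151 (.lin 0) (.split 7 (-145) (.split 3 (-83) (.splitN 66788 .sq (.splitN 93310 (.split 2
    (-23) (.split 4 97 (.split 6 169 (.lin 0) (.split 3 (-101) (.splitN 76508 .sq (.wt 1)) (.lin
    10))) (.lin 0)) (.split 0 (-110) (.split 6 178 (.lin 3) (.split 1 96 (.lin 4) (.split 7
    (-172) .sq (.lin 8)))) (.split 1 88 (.split 3 (-110) (.split 7 (-163) (.split 6 178 (.lin 7)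
    (.split 4 78 (.lin 10) (.splitN 89000 .sq (.wt 1)))) (.lin 1)) (.split 4 79 (.splitN 83816
    .cand (.wt 1)) (.lin 10))) (.lin 4)))) (.wt 1))) (.lin 10)) (.lin 8))) (.lin 0)))) (.wt 1))
    (.lin 8))))) (.lin 3)) (.split 1 61 (.split 6 138 (.split 2 (-72) (.lin 0) (.split 4 88
    (.split 3 (-111) (.lin 7) (.split 7 (-164) (.lin 1) (.split 7 (-128) (.lin 9) (.splitN 46225
    (.wt 1) cert5_57_3)))) (.lin 0))) (.split 3 (-83) (.splitN 43575 (.wt 1) cert5_57_4) (.lin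
    7))) (.lin 4)))))) (.lin 0))) (.split 3 (-65) (.splitN 165125 (.split 3 (-331) .sq (.split 4
    304 (.split 7 (-331) .sq (.split 0 (-79) (.split 1 69 (.lin 4) (.split 4 241 (.split 7 (-109)
    (.splitN 75005 .sq (.splitN 107925 (.split 3 (-192) .sq (.split 4 169 (.splitN 103513 (.split
    7 (-196) .sq (.split 2 (-26) (.split 4 106 (.splitN 83762 (.split 4 39 (.wt 1) (.split 3
    (-83) (.split 7 (-127) .sq (.lin 8)) (.lin 6))) (.wt 1)) (.lin 8)) (.lin 9))) (.wt 1)) (.lin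
    10))) (.wt 1))) (.lin 8)) (.lin 8))) (.split 1 61 (.split 3 (-155) (.splitN 77300 .sq (.split
    7 (-202) (.wt 1) (.split 4 160 (.split 2 (-17) (.split 7 (-114) (.wt 1) (.split 2 (-71)
    (.split 2 (-107) (.split 4 70 (.splitN 88685 .sq (.wt 1)) (.lin 8)) (.lin 9)) (.lin 1)))
    (.lin 9)) (.lin 8)))) (.lin 7)) (.lin 4)))) (.lin 10))) (.wt 1)) (.lin 7)))

def cert5_57_6 : Cert :=
  (.split 1 51 (.split 4 51 (.splitN 92814 (.split 0 (-88) (.split 6 124 (.lin 3) (.split 5 49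
    (.lin 4) (.split 3 (-83) (.split 7 (-118) (.splitN 59754 (.split 3 (-132) .sq (.split 1 34
    (.split 3 (-92) (.split 5 58 (.lin 4) (.splitN 51272 .sq (.splitN 56806 (.split 2 (-17) (.wt
    1) (.split 4 26 (.wt 3) (.split 6 133 (.lin 3) (.split 3 (-101) (.split 7 (-127) .sq (.lin
    9)) (.lin 5))))) (.wt 1)))) (.lin 2)) (.splitN 49940 .sq (.split 6 157 (.split 0 (-120) (.lin
    3) (.split 3 (-111) (.lin 11) (.splitN 58830 (.split 4 40 (.split 6 146 (.split 0 (-111)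
    (.lin 3) (.split 7 (-137) (.lin 9) (.split 3 (-102) (.lin 11) (.split 2 (-16) (.wt 1) (.split
    4 33 (.splitN 53649 (.split 5 64 (.split 6 134 (.split 0 (-102) (.lin 3) (.split 3 (-93)
    (.lin 5) (.split 5 56 (.split 6 125 (.split 0 (-93) (.lin 3) (.split 3 (-84) (.lin 6) (.split
    7 (-119) (.lin 1) (.wt 0)))) (.lin 0)) (.wt 1)))) (.lin 0)) (.wt 1)) (.wt 1)) (.wt 2))))))
    .sq) (.wt 2)) (.wt 1)))) .sq)))) (.wt 1)) (.lin 12)) (.lin 5)))) (.split 5 59 (.split 6 120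
    (.split 2 (-45) (.lin 0) (.split 7 (-110) (.lin 9) (.split 3 (-93) (.lin 11) (.split 0 (-65)
    (.split 2 (-27) (.lin 3) (.split 6 97 (.lin 3) (.split 7 (-91) (.splitN 42851 (.wt 1) (.split
    1 34 (.split 5 31 (.lin 4) (.splitN 65529 (.split 1 29 .cand .cand) (.wt 1))) .cand)) (.lin
    12)))) (.split 5 32 (.split 7 (-101) (.lin 12) (.split 4 34 (.split 7 (-92) (.lin 12) (.split
    6 98 (.split 3 (-75) (.lin 11) (.split 1 29 (.splitN 68559 .cand (.wt 1)) (.split 0 (-56)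
    (.split 6 88 (.lin 0) (.split 5 23 (.split 3 (-66) (.lin 7) (.wt 2)) (.lin 4))) (.lin 4))))
    (.split 2 (-17) (.split 1 33 (.split 4 33 (.split 2 (-26) (.split 7 (-83) (.lin 8) (.splitN
    54799 (.splitN 49769 (.wt 3) (.split 5 28 (.split 0 (-48) (.lin 4) (.split 7 (-74) (.lin 8)
    (.wt 0))) (.wt 1))) (.wt 1))) (.lin 0)) (.wt 2)) (.wt 2)) (.lin 3)))) (.split 6 97 (.lin 0)
    (.split 0 (-52) (.split 6 106 (.lin 3) (.wt 2)) (.wt 2))))) (.lin 4)))))) (.split 0 (-65)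
    (.split 7 (-91) (.splitN 71310 (.split 1 34 (.split 5 31 (.lin 4) (.split 4 34 (.split 7
    (-119) (.lin 12) (.split 1 29 .cand (.split 3 (-129) (.lin 11) (.splitN 43351 (.wt 0)
    .cand)))) .cand)) .cand) (.wt 1)) (.lin 12)) (.split 2 (-26) (.split 1 34 (.split 7 (-101)
    (.lin 12) (.splitN 62816 (.split 4 41 (.split 7 (-92) (.lin 12) (.split 1 29 .cand (.split 0
    (-56) (.split 5 23 (.split 3 (-129) (.lin 7) (.split 7 (-82) (.splitN 54262 (.split 3 (-117)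
    (.split 2 (-62) (.split 6 151 (.lin 7) .sq) (.lin 1)) (.wt 0)) (.wt 6)) (.lin 8))) (.lin 4))
    (.lin 4)))) (.wt 2)) (.wt 1))) (.lin 4)) (.lin 3)))) (.lin 4))) (.wt 1)) (.split 0 (-102)
    (.lin 3) (.split 6 106 (.lin 0) (.split 0 (-74) (.split 4 79 (.split 6 133 (.lin 3) (.split 5
    31 (.lin 4) (.split 7 (-127) (.splitN 64544 (.split 3 (-136) .sq (.split 1 34 (.split 3
    (-101) (.split 5 40 (.lin 4) (.splitN 54836 .sq (.splitN 59889 (.split 2 (-15) (.wt 1)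
    (.split 0 (-78) (.split 6 142 (.lin 3) (.split 5 49 (.lin 4) (.split 3 (-110) (.split 7
    (-136) .sq (.lin 9)) (.lin 5)))) (.wt 6))) (.wt 1)))) (.lin 2)) (.split 3 (-120) (.lin 11)
    (.wt 2)))) (.wt 1)) (.lin 12)))) (.lin 3)) (.split 1 34 (.split 0 (-56) (.split 6 115 (.lin
    3) (.split 5 32 (.split 1 29 (.split 0 (-57) (.lin 4) (.split 5 31 (.lin 4) (.splitN 53617
    (.wt 4) (.wt 6)))) (.split 0 (-59) (.split 5 31 (.lin 4) (.wt 2)) (.wt 2))) (.split 6 124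
    (.lin 0) (.wt 2)))) (.splitN 59816 (.split 2 (-15) (.wt 2) (.split 3 (-98) (.split 4 69 (.lin
    5) (.wt 0)) (.wt 0))) (.wt 6))) (.split 6 124 (.lin 0) (.wt 2))))))) (.split 0 (-74) (.split
    4 79 (.split 6 106 (.lin 0) (.split 7 (-100) (.split 3 (-111) (.lin 11) (.splitN 86492
    (.splitN 44360 (.wt 3) (.split 4 44 (.split 5 42 (.split 3 (-83) (.split 0 (-120) (.lin 7)
    (.split 1 79 (.split 6 133 (.lin 11) (.split 4 34 (.split 5 32 (.split 2 (-17) (.splitN 64154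
    (.split 4 29 .cand .cand) (.wt 1)) (.lin 10)) (.split 0 (-92) (.split 7 (-118) (.splitN 52307
    .sq (.splitN 60943 (.split 6 157 (.split 1 70 (.split 3 (-102) (.lin 7) (.split 4 30 (.split
    2 (-17) (.wt 1) (.lin 10)) (.wt 2))) (.lin 11)) .sq) (.wt 1))) (.lin 8)) (.lin 4))) (.split 0
    (-85) (.split 6 142 (.lin 3) (.split 7 (-136) (.splitN 59444 .sq (.split 2 (-14) (.wt 1)
    (.split 3 (-93) (.lin 10) (.split 5 31 (.lin 10) (.wt 1))))) (.lin 12))) (.wt 2)))) (.lin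
    11))) (.split 4 34 (.split 6 134 (.split 1 79 (.split 7 (-128) (.lin 9) (.split 4 29 (.splitN
    66778 .cand (.wt 1)) (.split 0 (-93) (.lin 3) (.split 6 115 (.lin 0) (.wt 2))))) (.lin 0))
    (.split 0 (-92) (.split 1 69 (.lin 11) (.split 0 (-97) (.split 7 (-127) (.splitN 56033 .sq
    (.split 5 40 (.split 3 (-62) (.split 4 30 (.splitN 61331 (.split 2 (-11) (.wt 1) (.split 1 78
    (.lin 0) (.split 0 (-110) (.split 7 (-136) (.split 5 31 (.lin 10) .sq) (.lin 1)) (.lin 3))))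
    (.wt 1)) (.wt 2)) (.wt 2)) (.wt 1))) (.lin 12)) (.wt 2))) (.lin 7))) (.split 0 (-111) (.lin
    3) (.split 6 124 (.lin 0) (.wt 2))))) (.split 0 (-101) (.split 6 133 (.lin 0) (.split 7
    (-127) (.split 3 (-83) (.splitN 57068 .sq (.splitN 60780 (.split 1 54 (.wt 1) (.split 6 142
    (.lin 0) (.split 7 (-136) .sq (.lin 8)))) (.wt 1))) (.lin 10)) (.lin 8))) (.lin 4))) (.split
    0 (-102) (.lin 3) (.split 6 133 (.lin 0) (.split 3 (-83) (.splitN 67401 (.split 0 (-96)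
    (.split 2 (-9) (.lin 3) (.split 6 160 (.lin 3) (.split 7 (-154) .sq (.lin 9)))) (.wt 2)) (.wt
    6)) (.lin 10)))))) (.wt 1))) (.lin 8))) (.lin 0)) (.lin 4)))

def cert5_57_7 : Cert :=
  (.split 5 18 (.split 5 9 (.split 0 (-84) (.split 1 87 (.lin 4) (.split 7 (-118) (.split 3 (-52)
    (.wt 2) (.split 4 34 (.wt 2) (.lin 10))) (.lin 8))) (.split 1 79 (.split 3 (-504) (.wt 2)
    (.split 4 529 (.split 6 575 (.split 3 (-178) (.wt 2) (.split 2 (-144) (.lin 10) (.split 6 251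
    (.split 4 160 (.split 3 (-92) (.wt 2) (.split 6 161 (.split 4 70 (.split 0 (-58) (.wt 2)
    (.split 1 52 (.split 6 134 (.split 0 (-47) (.wt 2) (.split 1 34 (.split 6 116 (.wt 2) (.lin
    7)) (.lin 4))) (.lin 7)) (.lin 4))) (.lin 10)) (.lin 7))) (.lin 10)) (.lin 7)))) (.lin 7))
    (.lin 5))) (.lin 4))) (.split 3 (-47) (.splitN 881941 (.split 2 (-4883) (.div 2) (.split 4
    9764 (.split 3 (-14655) (.lin 10) (.split 0 (-931) .sq (.split 1 916 (.splitN 732439 (.split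
    0 (-847) .sq (.split 1 826 (.split 3 (-848) .sq (.split 4 817 (.splitN 620630 (.split 3
    (-780) .sq (.split 4 754 (.split 0 (-172) (.split 6 205 (.lin 3) (.split 1 159 (.lin 4)
    (.split 7 (-199) (.splitN 140660 .sq (.wt 1)) (.lin 8)))) (.split 1 151 (.splitN 377506
    (.split 2 (-602) .sq (.split 3 (-604) .sq (.split 4 700 cert5_57_5 (.lin 5)))) (.wt 1)) (.lin
    4))) (.lin 10))) (.wt 1)) (.lin 10))) (.lin 4))) (.wt 1)) (.lin 4)))) (.div 4))) (.wt 1))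
    (.lin 10))) (.split 6 79 (.lin 0) (.split 0 (-47) (.split 7 (-73) (.split 3 (-56) (.splitN
    199724 (.split 1 2204 (.split 3 (-5511) (.div 3) (.split 4 7657 (.split 0 (-427) .sq (.split
    1 403 (.splitN 180023 (.split 0 (-403) .sq (.split 1 376 (.split 3 (-404) .sq (.split 4 367
    (.splitN 165684 (.split 6 387 (.split 1 331 (.split 0 (-354) (.lin 3) (.split 4 331 (.split 5
    329 (.split 3 (-363) (.lin 11) (.split 0 (-129) (.split 4 241 (.split 6 169 (.lin 3) (.split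
    7 (-163) (.splitN 79217 .sq (.splitN 83856 (.split 0 (-176) (.split 6 214 (.lin 3) (.split 7
    (-208) .sq (.lin 12))) (.wt 1)) (.wt 1))) (.lin 12))) (.lin 3)) (.split 1 106 (.split 5 104
    (.splitN 137535 (.split 6 352 (.split 4 295 (.split 3 (-327) (.lin 11) (.split 6 167 (.split
    4 106 (.split 3 (-219) (.lin 7) (.split 7 (-155) (.lin 9) (.split 3 (-138) (.lin 11) (.splitN
    119955 cert5_57_6 (.wt 1))))) (.lin 0)) (.split 3 (-65) (.splitN 103399 (.split 3 (-251) .sq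
    (.split 4 214 (.split 4 70 (.splitN 93076 (.split 3 (-231) .sq (.split 1 51 (.split 3 (-128)
    (.splitN 54665 .sq (.splitN 83344 (.split 3 (-209) .sq (.split 7 (-180) .sq (.split 0 (-88)
    (.split 5 49 (.lin 4) (.split 7 (-118) (.splitN 71486 .sq (.wt 1)) (.lin 12))) (.split 2
    (-17) (.splitN 71480 (.split 3 (-174) .sq (.split 0 (-49) (.split 7 (-82) (.splitN 57212 .sq
    (.split 7 (-139) (.wt 1) (.split 2 (-35) (.splitN 64911 (.split 4 30 (.wt 1) (.split 7 (-91)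
    (.splitN 60236 .sq (.split 0 (-76) (.split 5 40 (.lin 4) (.split 7 (-118) .sq (.lin 12)))
    (.wt 1))) (.lin 12))) (.wt 1)) (.lin 9)))) (.lin 12)) (.wt 6))) (.wt 1)) (.lin 3))))) (.wt
    1))) (.lin 11)) (.split 0 (-74) (.split 7 (-100) (.splitN 80577 (.split 3 (-174) .sq (.split
    4 47 (.splitN 74889 (.split 3 (-154) .sq (.split 5 42 (.split 3 (-106) (.split 2 (-26)
    (.splitN 61010 .sq (.splitN 65025 (.split 1 57 (.wt 1) (.split 7 (-109) .sq (.lin 8))) (.wt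
    1))) (.lin 10)) (.split 7 (-118) (.split 0 (-92) (.splitN 61631 .sq (.split 2 (-19) (.wt 1)
    (.split 0 (-110) (.split 7 (-154) .sq (.lin 9)) (.lin 3)))) (.lin 7)) (.lin 6))) (.split 0
    (-101) (.split 3 (-92) (.split 7 (-127) (.splitN 69587 .sq (.wt 1)) (.lin 8)) (.lin 7)) (.lin
    4)))) (.wt 1)) (.split 7 (-127) (.split 3 (-83) (.splitN 63395 .sq (.splitN 74078 (.split 2
    (-23) (.wt 1) (.split 0 (-83) (.split 7 (-154) .sq (.lin 9)) (.lin 3))) (.wt 1))) (.lin 10))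
    (.lin 8)))) (.wt 1)) (.lin 8)) (.lin 4)))) (.wt 1)) (.split 7 (-127) (.split 3 (-110)
    (.splitN 66797 .sq (.split 1 29 (.wt 1) (.split 0 (-56) (.split 7 (-136) (.split 2 (-24) (.wt
    1) (.split 7 (-154) (.splitN 75842 .sq (.wt 1)) (.lin 9))) (.lin 8)) (.lin 4)))) (.lin 10))
    (.lin 8))) (.lin 10))) (.wt 1)) (.lin 7)))) (.lin 0)) .sq) (.wt 1)) (.lin 4)) (.lin 4))))
    (.lin 0)) (.lin 0))) (.lin 0)) .sq) (.wt 1)) (.lin 10))) (.lin 4))) (.wt 1)) (.lin 4))) (.lin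
    5))) (.div 1)) (.wt 1)) (.lin 10)) (.lin 8)) (.lin 4))))

def cert5_57_8 : Cert :=
  (.split 6 114 (.split 4 79 (.split 4 35 (.split 7 (-65) (.lin 8) (.split 3 (-52) (.split 2
    (-17) (.split 0 (-25) (.wt 2) (.split 1 16 (.split 4 24 (.lin 8) (.split 7 (-56) (.lin 8)
    (.split 3 (-64) (.wt 2) (.split 2 (-27) (.lin 1) (.split 6 71 (.splitN 135258 (.wt 1) (.wt
    0)) (.lin 7)))))) (.lin 4))) (.lin 10)) (.split 6 71 (.split 4 25 (.split 0 (-28) (.wt 2)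
    (.split 2 (-18) (.lin 1) (.split 3 (-38) (.split 6 62 (.split 1 16 (.split 4 24 (.lin 8)
    (.split 7 (-47) (.lin 8) (.splitN 148529 (.wt 1) (.wt 0)))) (.lin 4)) (.lin 3)) (.lin 1))))
    (.split 2 (-9) (.lin 10) (.split 6 61 (.lin 0) (.split 3 (-38) (.split 7 (-55) (.split 3
    (-47) (.splitN 273423 (.wt 6) (.split 0 (-22) (.wt 0) (.split 7 (-56) (.lin 1) (.split 1 16
    (.split 6 62 (.wt 0) (.lin 0)) (.lin 2))))) (.lin 10)) (.lin 6)) (.lin 6))))) (.lin 7))))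
    (.split 3 (-47) (.split 7 (-64) (.split 3 (-56) (.split 0 (-26) (.wt 2) (.split 1 16 (.split
    3 (-69) (.wt 2) (.split 2 (-18) (.lin 1) (.split 7 (-74) (.lin 1) (.split 4 52 (.split 6 80
    (.splitN 128313 (.wt 1) (.wt 0)) (.lin 7)) (.lin 5))))) (.lin 4))) (.lin 10)) (.lin 8)) (.lin
    5))) (.lin 0)) (.split 3 (-92) (.split 7 (-100) (.split 4 69 (.lin 8) (.splitN 652840 (.split
    2 (-3623) (.div 2) (.split 3 (-18111) (.div 3) (.split 4 18106 (.split 6 21752 (.split 4 7244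
    (.splitN 465128 (.split 2 (-654) .sq (.split 3 (-660) .sq (.split 4 655 (.split 6 683
    (.splitN 384411 (.split 3 (-595) .sq (.split 4 583 (.split 6 611 (.split 0 (-25) (.split 1 24
    (.lin 4) (.splitN 104977 (.wt 6) (.split 7 (-194) (.wt 0) (.split 4 160 (.wt 2) (.lin 8)))))
    (.split 1 16 (.split 3 (-101) (.split 4 78 (.lin 8) (.split 6 149 (.wt 2) (.split 3 (-137)
    (.split 6 194 (.wt 2) (.split 3 (-182) (.splitN 88919 .sq (.split 7 (-194) (.wt 0) (.split 4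
    169 (.split 7 (-154) (.wt 0) (.split 2 (-53) (.split 4 124 (.split 3 (-241) (.wt 0) (.split 6
    251 (.wt 0) (.lin 7))) (.lin 8)) (.lin 1))) (.lin 8)))) (.lin 7))) (.lin 7)))) (.lin 7))
    (.lin 4))) (.lin 7)) (.lin 5))) (.wt 3)) (.lin 7)) (.lin 5)))) (.wt 3)) (.div 4)) (.lin 0))
    (.lin 5)))) (.wt 1))) (.split 2 (-26) (.split 4 70 (.split 4 33 (.split 2 (-62) (.splitN
    1174487 (.split 2 (-6521) (.div 2) (.split 6 6569 (.split 3 (-6555) (.lin 6) (.splitN 434486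
    (.split 2 (-2399) (.div 2) (.split 6 2447 (.splitN 253155 (.split 2 (-1391) (.div 2) (.split
    6 1439 (.split 0 (-28) (.wt 2) (.split 2 (-71) (.split 3 (-101) (.split 1 16 (.split 4 24
    (.lin 8) (.split 7 (-47) (.lin 8) (.splitN 139754 (.split 2 (-761) (.div 2) (.split 6 800
    (.splitN 100044 (.wt 1) (.splitN 119470 (.split 2 (-653) (.div 2) (.split 6 692 (.split 3
    (-265) (.wt 0) (.split 2 (-234) (.lin 1) (.split 6 278 (.splitN 109862 (.wt 1) (.split 3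
    (-114) (.wt 0) (.split 2 (-81) (.lin 1) (.split 6 125 (.wt 0) (.lin 0))))) (.lin 0)))) (.lin
    0))) (.wt 3))) (.lin 0))) (.wt 0)))) (.lin 4)) (.lin 1)) (.lin 3))) (.lin 0))) (.wt 3)) (.lin
    0))) (.wt 1))) (.lin 0))) (.wt 0)) (.lin 0)) (.split 7 (-55) (.splitN 915919 (.split 2 (-943)
    .sq (.split 6 1034 (.split 3 (-1056) (.lin 6) (.splitN 835928 (.split 3 (-903) .sq (.split 2
    (-873) (.lin 1) (.split 6 971 (.split 6 905 (.split 0 (-25) (.split 1 24 (.lin 4) (.split 4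
    61 (.split 7 (-64) (.splitN 117765 (.wt 6) (.split 3 (-211) (.wt 0) (.split 2 (-171) (.lin 1)
    (.split 6 260 (.wt 2) (.lin 0))))) (.lin 8)) (.lin 8))) (.split 1 16 (.split 3 (-101) (.split
    6 132 (.wt 2) (.split 3 (-119) (.split 6 150 (.wt 2) (.split 3 (-137) (.split 6 166 (.wt 2)
    (.split 2 (-80) (.split 3 (-155) (.splitN 155114 (.split 6 182 (.wt 2) (.split 3 (-173)
    (.split 2 (-288) .sq (.split 6 377 (.split 4 35 (.wt 2) (.split 7 (-64) (.split 3 (-295) (.wt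
    2) (.split 6 305 (.splitN 92469 (.wt 6) (.split 7 (-78) (.wt 0) (.split 4 52 (.wt 2) (.lin
    8)))) (.lin 7))) (.lin 8))) (.lin 0))) (.lin 7))) (.wt 1)) (.lin 7)) (.lin 0))) (.lin 7)))
    (.lin 7))) (.lin 7)) (.lin 4))) .sq) (.lin 0)))) (.wt 1))) (.lin 0))) (.wt 1)) (.lin 8)))
    (.lin 8)) (.lin 9))) (.lin 7)))

def cert5_57_9 : Cert :=
  (.split 6 60 (.split 2 (-36) (.lin 0) (.split 3 (-48) (.lin 11) (.split 0 (-20) (.split 2 (-27)
    (.lin 3) (.split 4 16 (.split 7 (-28) (.split 1 13 (.split 3 (-29) (.split 5 13 (.lin 4)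
    (.split 0 (-27) (.wt 2) (.split 5 14 (.splitN 36461 (.wt 6) (.split 4 8 (.wt 0) (.split 6 43
    (.lin 0) (.split 3 (-38) (.split 7 (-37) (.wt 0) (.lin 8)) (.lin 6))))) (.lin 4)))) (.lin 2))
    (.split 5 14 (.splitN 39278 (.wt 1) (.split 4 11 (.split 5 9 (.wt 2) (.split 0 (-29) (.split
    1 16 (.split 6 43 (.lin 0) (.split 3 (-29) (.split 7 (-37) (.wt 0) (.lin 8)) (.lin 6))) (.lin
    8)) (.lin 4))) (.split 1 16 (.split 0 (-21) (.lin 12) (.split 6 43 (.lin 0) (.split 3 (-29)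
    (.split 5 5 (.split 7 (-37) (.splitN 156012 (.wt 1) (.wt 0)) (.lin 8)) (.lin 4)) (.lin 6))))
    (.lin 8)))) (.lin 4))) (.lin 12)) (.lin 12))) (.split 1 7 (.split 5 5 (.splitN 38558 (.wt 1)
    (.split 4 13 (.split 7 (-20) (.lin 8) (.splitN 68280 (.wt 1) (.split 3 (-42) (.wt 0) (.split
    2 (-27) (.lin 1) (.split 6 44 (.splitN 76534 (.wt 1) (.split 3 (-30) (.wt 0) (.split 2 (-18)
    (.lin 1) (.split 6 35 (.splitN 94735 (.wt 1) (.split 2 (-15) (.wt 0) (.split 6 26 (.wt 0)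
    (.lin 0)))) (.lin 0))))) (.lin 0)))))) (.split 6 34 (.lin 0) (.split 7 (-28) (.splitN 231515
    .cand (.wt 1)) (.lin 8))))) (.lin 4)) (.lin 4))))) (.split 3 (-38) (.split 2 (-26) (.split 0
    (-20) (.split 4 16 (.split 7 (-28) (.split 1 13 (.split 3 (-47) (.split 5 13 (.lin 4) (.split
    3 (-56) (.splitN 76050 (.split 2 (-419) (.div 2) (.split 6 458 (.splitN 53174 (.split 2
    (-211) .sq (.split 6 251 (.splitN 26696 (.wt 1) (.split 3 (-216) .sq (.split 6 215 (.split 4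
    11 (.wt 0) (.split 5 14 (.split 0 (-21) (.lin 12) (.split 7 (-37) (.splitN 36151 (.wt 1)
    (.split 3 (-161) (.wt 0) (.split 2 (-126) (.lin 1) (.split 6 161 (.splitN 36965 (.wt 1)
    (.split 3 (-72) (.wt 0) (.split 2 (-36) (.lin 1) (.split 6 71 (.wt 0) (.lin 0))))) (.lin
    0))))) (.lin 8))) (.lin 8))) (.lin 11)))) (.lin 0))) (.wt 3)) (.lin 0))) (.wt 0)) (.lin 11)))
    (.lin 2)) (.split 5 14 (.split 4 11 (.splitN 192571 (.split 2 (-1067) (.div 2) (.split 6 1106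
    (.splitN 94182 (.split 2 (-291) .sq (.split 6 332 (.split 6 296 (.split 5 9 (.splitN 75042
    (.wt 6) (.split 0 (-23) (.wt 0) (.split 1 16 (.wt 0) (.lin 4)))) (.split 0 (-29) (.split 3
    (-47) (.split 1 16 (.split 7 (-37) (.splitN 36967 (.wt 1) (.wt 0)) (.lin 8)) (.lin 8)) (.lin
    6)) (.lin 4))) .sq) (.lin 0))) (.wt 3)) (.lin 0))) (.wt 0)) (.split 3 (-47) (.split 1 16
    (.split 0 (-21) (.lin 12) (.split 5 5 (.split 7 (-37) (.splitN 283873 (.split 2 (-1571) (.div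
    2) (.split 6 1601 (.splitN 89946 (.wt 1) (.splitN 153747 (.split 2 (-851) (.div 2) (.split 6
    881 (.split 3 (-285) (.wt 0) (.split 2 (-261) (.lin 1) (.split 6 296 (.splitN 99051 (.wt 1)
    (.split 3 (-110) (.wt 0) (.split 2 (-81) (.lin 1) (.split 6 116 (.wt 2) (.lin 0))))) (.lin
    0)))) (.lin 0))) (.wt 3))) (.lin 0))) (.wt 0)) (.lin 8)) (.lin 4))) (.lin 8)) (.lin 6)))
    (.lin 4))) (.lin 12)) (.lin 12)) (.split 1 7 (.split 5 5 (.split 3 (-56) (.splitN 1232139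
    (.split 2 (-1107) .sq (.split 6 1142 (.split 3 (-1155) (.lin 6) (.split 4 13 (.split 2 (-44)
    (.split 7 (-20) (.lin 8) (.splitN 103247 (.split 2 (-563) (.div 2) (.split 6 575 (.splitN
    56526 (.wt 1) (.splitN 76554 (.split 2 (-419) (.div 2) (.split 6 431 (.split 6 63 (.wt 0)
    (.split 3 (-65) (.split 6 72 (.wt 0) (.split 3 (-74) (.splitN 71232 (.split 2 (-383) (.div 2)
    (.split 6 395 (.split 6 82 (.wt 0) (.split 2 (-71) (.split 3 (-83) (.splitN 59538 (.wt 1)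
    (.split 3 (-268) (.wt 0) (.split 2 (-252) (.lin 1) (.split 6 269 (.split 3 (-191) (.wt 0)
    (.split 2 (-171) (.lin 1) (.split 6 188 (.split 3 (-137) (.wt 0) (.split 2 (-117) (.lin 1)
    (.split 6 134 (.splitN 65412 (.wt 1) (.wt 0)) (.lin 0)))) (.lin 0)))) (.lin 0))))) (.lin 6))
    (.lin 0))) (.lin 0))) (.wt 3)) (.lin 6))) (.lin 6))) (.lin 0))) (.wt 3))) (.lin 0))) (.wt
    0))) (.lin 0)) (.split 7 (-28) (.splitN 119449 (.split 2 (-653) (.div 2) (.split 6 683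
    (.split 3 (-687) (.lin 6) (.split 6 179 (.split 3 (-183) (.lin 6) (.split 6 126 (.split 3
    (-120) (.lin 7) (.split 6 103 (.split 2 (-72) (.lin 0) (.split 3 (-93) (.lin 7) (.split 6 90
    (.split 3 (-84) (.lin 7) (.split 6 84 (.split 3 (-75) (.lin 7) (.split 4 22 (.split 2 (-35)
    (.split 7 (-29) (.lin 8) (.splitN 82369 (.wt 0) (.wt 1))) (.lin 0)) (.wt 2))) (.wt 2))) (.wt
    2)))) (.wt 2))) (.wt 2))) (.wt 2))) (.lin 0))) (.wt 1)) (.lin 8)))) (.lin 0))) (.wt 1)) (.lin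
    7)) (.lin 4)) (.lin 4))) (.lin 9)) (.lin 6)))

def cert5_57_10 : Cert :=
  (.split 0 (-30) (.split 6 52 (.lin 3) (.split 7 (-46) (.split 1 22 (.split 3 (-38) (.split 5 22
    (.lin 4) (.splitN 211551 (.split 0 (-5871) (.div 0) (.split 5 5864 (.split 2 (-1175) (.div 2)
    (.split 4 2348 (.split 5 1174 (.split 6 4697 (.split 0 (-452) .sq (.split 5 437 (.splitN
    198364 (.split 3 (-438) .sq (.split 2 (-405) (.lin 10) (.split 7 (-443) (.lin 2) (.split 4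
    403 (.split 6 1259 (.split 6 845 (.split 6 449 (.splitN 183534 (.split 0 (-419) .sq (.split 6
    420 (.split 4 376 (.split 3 (-408) (.lin 11) (.split 4 51 (.splitN 136732 (.split 0 (-356)
    .sq (.split 5 347 (.split 3 (-356) .sq cert5_57_0) (.lin 4))) (.wt 1)) (.split 6 97 (.lin 3)
    (.split 3 (-83) (.split 7 (-91) (.splitN 74959 (.split 3 (-223) .sq (.split 4 187 (.split 6
    233 (.split 1 11 (.split 3 (-92) (.split 5 31 (.lin 4) (.splitN 31634 .sq (.split 0 (-41)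
    (.wt 0) (.split 5 32 (.wt 0) (.lin 4))))) (.lin 2)) (.split 0 (-82) (.split 4 142 (.split 6
    142 (.lin 3) (.split 5 67 (.lin 4) (.split 3 (-128) (.split 7 (-136) (.splitN 69866 .sq (.wt
    0)) (.lin 8)) (.lin 5)))) (.lin 3)) (.split 5 59 (.split 0 (-56) (.split 6 115 (.lin 3)
    (.split 5 40 (.lin 4) (.split 3 (-101) (.split 7 (-109) (.splitN 54976 (.split 3 (-140) .sq
    (.split 6 152 (.split 6 150 (.split 4 79 (.split 3 (-129) (.lin 11) (.splitN 52543 (.split 3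
    (-128) .sq (.split 7 (-128) (.lin 2) (.split 4 70 (.split 6 134 (.split 2 (-15) (.split 4 61
    (.split 6 124 (.lin 0) (.split 3 (-110) (.splitN 47672 .sq (.wt 0)) (.lin 2))) (.lin 0))
    (.split 0 (-74) (.wt 2) (.split 5 50 (.splitN 46105 (.wt 1) (.split 4 54 (.wt 3) (.split 6
    124 (.lin 0) (.split 3 (-110) (.split 7 (-118) .sq (.lin 2)) (.lin 5))))) (.lin 4)))) (.lin
    11)) (.lin 5)))) (.wt 1))) (.lin 0)) .sq) (.lin 11))) (.wt 1)) (.lin 8)) (.lin 5)))) (.split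
    5 32 (.split 6 156 (.split 4 106 (.split 3 (-147) (.lin 7) (.split 7 (-146) (.lin 9) (.split
    6 125 (.split 2 (-36) (.lin 0) (.split 3 (-120) (.lin 7) (.split 7 (-128) (.lin 2) (.split 7
    (-119) (.lin 9) (.split 3 (-111) (.lin 11) (.split 0 (-43) (.split 6 106 (.lin 3) (.split 5
    31 (.lin 4) (.split 7 (-100) (.split 6 121 (.split 4 61 (.split 3 (-102) (.lin 7) (.split 7
    (-110) (.lin 1) (.splitN 47220 (.wt 0) (.splitN 52022 (.split 2 (-13) (.wt 1) (.wt 0)) (.wt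
    1))))) (.lin 0)) (.wt 2)) (.lin 8)))) (.split 5 23 (.split 3 (-96) (.split 6 115 (.lin 7)
    (.wt 2)) (.wt 2)) (.lin 4)))))))) (.split 3 (-110) (.split 3 (-119) (.splitN 57235 (.split 7
    (-137) .sq (.split 0 (-39) (.split 5 31 (.lin 4) (.split 4 88 (.split 7 (-100) (.splitN 48374
    .sq (.splitN 52202 (.split 2 (-14) (.wt 1) (.split 7 (-127) .sq (.lin 1))) (.wt 1))) (.lin
    8)) (.lin 8))) (.wt 2))) (.wt 1)) (.lin 11)) (.lin 7))))) (.lin 0)) (.split 3 (-146) (.splitN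
    60515 .sq (.wt 1)) (.lin 11))) (.lin 4))) (.lin 4)))) (.lin 11)) (.lin 5))) (.wt 1)) (.lin
    12)) (.lin 5))))) (.lin 0)) .sq)) (.wt 1)) (.lin 11)) (.lin 6)) (.lin 0)) (.lin 5))))) (.wt
    1)) (.lin 4))) (.lin 0)) (.div 5)) (.div 4))) (.lin 4))) (.wt 1))) (.lin 2)) (.splitN 21467
    (.wt 1) (.split 4 22 cert5_57_2 (.split 6 70 (.lin 3) (.split 7 (-55) (.split 3 (-38) (.split
    7 (-64) cert5_57_7 (.lin 12)) (.lin 10)) (.lin 8)))))) (.lin 12))) (.split 1 25 (.split 5 23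
    (.split 7 (-46) (.split 3 (-29) (.split 6 52 (.lin 9) (.split 4 15 (.lin 12) (.split 0 (-20)
    (.splitN 21913 (.wt 1) (.split 1 13 (.split 3 (-47) (.split 5 13 (.lin 4) (.splitN 171067
    (.split 3 (-4701) (.div 3) (.split 4 4678 (.splitN 75526 (.split 2 (-419) (.div 2) (.split 4
    836 (.split 6 1277 (.splitN 70911 (.split 3 (-251) .sq (.split 2 (-216) (.lin 1) (.split 4
    223 (.split 6 467 (.split 6 260 (.split 4 59 (.splitN 65380 (.splitN 56113 (.split 3 (-224)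
    .sq (.split 6 233 (.split 6 111 (.split 4 28 (.split 0 (-28) (.wt 2) (.split 5 14 (.split 4
    24 (.lin 8) (.split 7 (-47) (.lin 8) (.splitN 37747 (.wt 1) (.split 3 (-93) (.wt 0) (.split 2
    (-54) (.lin 1) (.split 6 98 (.split 3 (-85) (.wt 0) (.split 2 (-45) (.lin 1) (.split 6 89
    (.split 3 (-76) (.wt 0) (.split 2 (-36) (.lin 1) (.split 6 80 (.splitN 39833 (.wt 1) (.split
    2 (-12) (.wt 0) (.split 6 53 (.wt 0) (.lin 0)))) (.lin 0)))) (.lin 0)))) (.lin 0))))))) (.lin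
    4))) (.split 2 (-54) (.lin 0) (.split 3 (-56) (.split 7 (-55) (.split 0 (-29) (.wt 2) (.split
    5 14 (.split 7 (-74) (.lin 8) (.split 6 69 (.wt 2) (.split 3 (-65) (.split 6 78 (.wt 2)
    (.split 3 (-74) (.split 6 85 (.wt 2) (.split 2 (-17) (.split 3 (-83) (.split 4 36 (.wt 2)
    (.split 7 (-64) (.splitN 39414 (.wt 1) (.wt 0)) (.lin 8))) (.lin 7)) (.lin 0))) (.lin 7)))
    (.lin 7)))) (.lin 4))) (.lin 8)) (.lin 5)))) (.split 2 (-35) (.split 3 (-101) (.splitN 45769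
    (.split 3 (-159) .sq (.split 6 170 (.split 0 (-28) (.wt 2) (.split 5 14 .cand (.lin 4)))
    (.lin 7))) (.wt 3)) (.lin 7)) (.lin 0))) (.lin 7))) (.wt 3)) (.wt 1)) (.split 6 88 (.lin 0)
    (.split 3 (-83) (.split 7 (-82) (.splitN 43698 (.split 3 (-155) .sq (.split 4 124 (.split 6
    161 (.split 6 152 (.splitN 41787 (.split 0 (-28) (.wt 2) (.split 5 14 (.split 6 94 (.wt 2)
    (.split 3 (-92) (.split 6 101 (.wt 2) (.split 3 (-101) (.split 6 107 (.wt 2) (.split 3 (-110)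
    (.splitN 36710 .sq (.split 2 (-23) (.wt 0) (.split 4 78 (.lin 0) (.split 7 (-100) .sq (.lin
    1))))) (.lin 7))) (.lin 7))) (.lin 7))) (.lin 4))) (.wt 3)) (.lin 11)) (.lin 7)) (.lin 5)))
    (.wt 3)) (.lin 8)) (.lin 5)))) (.lin 7)) (.lin 0)) (.lin 5)))) (.wt 3)) (.lin 0)) (.div 4)))
    (.wt 1)) (.lin 5))) (.wt 0))) (.lin 2)) (.split 5 14 (.split 5 9 cert5_57_8 (.split 0 (-29)
    (.split 1 16 (.splitN 164928 .cand (.wt 1)) (.lin 4)) (.lin 4))) (.lin 4)))) (.split 1 7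
    (.split 5 5 (.splitN 124511 .cand (.wt 1)) (.lin 4)) (.lin 4))))) (.lin 1)) (.split 4 25
    cert5_57_9 (.lin 8))) (.lin 4)) (.lin 4)))

def cert5_57 : Cert :=
  (.split 6 25 (.lin 0) (.split 3 (-20) cert5_57_10 (.lin 10)))

theorem check5_57 :
    check task5 cert5_57
      [(7, ⟨none, some (-11)⟩), (7, ⟨some (7), none⟩), (1, ⟨none, some (-8)⟩), (7, ⟨none, some (-2)⟩), (7, ⟨some (7), none⟩), (5, ⟨some (5), none⟩), (8, ⟨some (8), none⟩), (8, ⟨none, some (-19)⟩)] ⟨some (10440), none⟩ = true := by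
  decide +kernel

def cert5_58_0 : Cert :=
  (.split 5 42 (.split 2 64 (.split 0 (-111) (.lin 3) (.split 0 (-75) (.lin 4) (.split 2 37
    (.split 7 (-92) (.lin 6) (.split 1 15 (.split 0 (-48) (.lin 4) (.split 5 31 (.lin 4) (.split
    7 (-65) (.lin 8) (.split 3 (-28) (.wt 2) (.split 2 9 (.lin 1) (.split 6 26 (.splitN 24947
    (.wt 1) (.wt 0)) (.lin 11))))))) (.split 6 34 (.lin 11) (.splitN 17555 (.wt 1) (.split 5 14
    (.split 0 (-48) (.lin 4) (.split 2 10 (.split 1 24 (.lin 4) (.split 7 (-65) (.lin 6) (.split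
    3 (-30) (.lin 7) (.split 6 43 (.lin 7) (.splitN 20497 (.wt 1) (.split 2 3 (.split 7 (-56)
    (.lin 9) (.split 4 11 (.split 3 (-21) (.lin 10) (.split 5 13 (.lin 10) (.wt 1))) (.split 0
    (-39) (.lin 3) (.split 6 52 (.lin 3) (.split 7 (-55) (.splitN 37608 (.splitN 30814 (.wt 5)
    (.split 5 6 (.split 1 33 (.lin 0) (.split 3 (-21) (.lin 6) (.wt 0))) (.wt 1))) (.wt 1)) (.lin
    9)))))) (.split 7 (-55) (.split 3 (-21) (.lin 10) (.split 4 15 (.lin 10) (.split 5 13 (.lin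
    10) (.splitN 61893 (.wt 0) (.wt 1))))) (.lin 1)))))))) (.lin 10))) (.split 2 6 (.split 1 25
    (.split 0 (-48) (.lin 3) (.split 5 32 (.split 7 (-56) (.lin 9) (.split 3 (-29) (.split 4 11
    (.split 1 17 (.wt 0) (.split 5 23 (.split 0 (-47) (.split 7 (-55) (.wt 0) (.lin 1)) (.lin 4))
    (.lin 0))) (.split 1 16 (.split 5 23 (.split 6 52 (.lin 0) (.split 3 (-38) (.split 7 (-55)
    (.splitN 26278 (.wt 0) (.wt 0)) (.lin 1)) (.lin 6))) (.lin 0)) (.lin 0))) (.lin 10))) (.lin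
    0))) (.lin 0)) (.split 4 11 (.split 2 28 (.split 0 (-72) (.wt 2) (.split 7 (-74) (.lin 12)
    (.split 3 (-27) (.wt 2) (.split 6 37 (.wt 2) (.split 0 (-47) (.split 1 24 (.lin 11) (.split 7
    (-55) (.splitN 29952 (.wt 1) (.split 7 (-71) (.wt 0) (.split 0 (-57) (.lin 12) (.split 5 32
    (.split 0 (-56) (.wt 2) (.split 2 10 (.split 5 23 (.split 7 (-56) (.lin 1) (.split 1 25
    (.split 6 44 (.wt 0) (.lin 0)) (.lin 2))) (.lin 1)) (.lin 3))) (.lin 4))))) (.lin 2))) (.lin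
    3)))))) (.lin 10)) (.split 7 (-55) (.split 3 (-29) (.split 7 (-83) (.lin 6) (.split 0 (-66)
    (.lin 7) (.split 2 28 (.split 1 25 (.split 6 43 (.lin 11) (.split 0 (-52) (.split 2 18 (.lin
    3) (.split 7 (-64) (.split 5 31 (.lin 4) (.split 7 (-73) (.split 1 17 (.wt 2) (.split 3 (-30)
    (.lin 11) (.split 6 52 (.lin 11) (.splitN 43129 (.wt 0) (.wt 1))))) (.lin 12))) (.lin 1)))
    (.split 2 19 (.split 5 32 (.split 7 (-65) (.lin 12) (.split 1 20 (.split 3 (-38) (.wt 2)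
    (.split 6 44 (.splitN 45848 (.splitN 41129 (.wt 1) (.split 0 (-45) (.wt 0) (.split 2 10
    (.split 7 (-56) (.lin 1) (.wt 0)) (.lin 3)))) (.wt 0)) (.lin 11))) (.split 2 10 (.split 0
    (-47) (.split 5 23 (.split 6 52 (.lin 0) (.split 3 (-30) (.lin 1) (.split 7 (-64) (.splitN
    51613 (.wt 0) (.wt 0)) (.lin 1)))) (.lin 0)) (.lin 4)) (.lin 2)))) (.lin 4)) (.lin 3))))
    (.lin 11)) (.lin 10)))) (.split 2 18 (.lin 10) (.split 6 50 (.split 0 (-66) (.lin 3) (.split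
    1 25 (.split 7 (-83) (.lin 2) (.splitN 58966 (.split 0 (-52) (.split 5 31 (.lin 4) (.split 7
    (-73) (.split 6 42 (.split 0 (-57) (.lin 3) (.split 2 36 (.lin 9) (.split 1 16 (.split 5 40
    (.lin 0) (.split 7 (-74) (.lin 1) (.splitN 40280 (.wt 0) (.wt 0)))) (.lin 11)))) (.wt 2))
    (.lin 12))) (.split 5 32 (.split 7 (-65) (.lin 12) (.splitN 43469 (.wt 0) (.split 1 23
    (.split 6 35 (.split 0 (-40) (.split 2 27 (.lin 3) (.split 7 (-64) (.wt 0) (.lin 1))) (.wt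
    2)) (.lin 11)) (.wt 0)))) (.lin 4))) (.wt 1))) (.lin 11))) (.wt 2)))) (.lin 8))))))))) (.lin
    10)))) (.lin 0)) (.split 2 9 (.lin 0) (.split 0 (-56) (.split 7 (-64) (.splitN 66571 (.split
    6 26 (.wt 2) (.split 0 (-239) .sq (.split 2 217 (.split 5 257 (.split 1 7 (.wt 2) (.split 2
    18 (.lin 0) (.split 0 (-65) (.split 7 (-73) (.splitN 59780 (.split 7 (-224) .sq (.split 2 181
    (.split 4 11 (.splitN 31518 (.split 5 166 (.wt 2) (.div 5)) (.wt 0)) (.split 2 27 (.lin 0)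
    (.split 0 (-201) (.lin 12) (.split 7 (-82) (.split 3 (-29) (.split 1 25 (.split 6 43 (.lin
    11) (.split 0 (-102) (.wt 2) (.split 2 73 (.split 5 95 (.split 0 (-88) (.wt 2) (.split 2 55
    (.split 5 77 (.split 7 (-101) (.lin 12) (.splitN 37048 (.wt 1) (.split 1 18 (.wt 0) (.split 2
    36 (.lin 0) (.split 0 (-74) (.split 2 46 (.split 5 59 (.split 7 (-91) (.splitN 41805 (.wt 1)
    (.wt 0)) (.lin 2)) (.lin 0)) (.lin 2)) (.lin 4)))))) (.lin 0)) (.lin 3))) (.lin 0)) (.lin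
    3)))) (.lin 11)) (.split 2 45 (.lin 10) (.splitN 52310 (.split 0 (-190) .sq (.split 5 167
    (.split 7 (-200) (.lin 12) (.split 6 44 (.split 1 25 (.split 7 (-141) (.split 2 99 (.lin 2)
    (.split 0 (-119) (.split 0 (-128) (.split 5 103 (.lin 4) .sq) (.lin 12)) (.lin 3))) (.split 2
    100 (.split 0 (-120) (.lin 12) (.split 5 104 (.split 1 20 (.split 6 35 (.splitN 38136 (.wt 1)
    (.wt 0)) (.lin 11)) (.split 6 43 (.lin 11) (.wt 2))) (.lin 4))) (.lin 2))) (.lin 11)) (.split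
    1 33 (.lin 11) (.splitN 43272 (.wt 0) (.wt 1))))) (.lin 4))) (.wt 1)))) (.lin 8))))) (.lin
    2))) (.wt 3)) (.lin 8)) (.lin 4)))) (.lin 0)) (.lin 3)))) (.wt 3)) (.lin 8)) (.lin 4))))

def cert5_58_1 : Cert :=
  (.split 7 (-134) (.split 2 18 (.lin 1) (.split 2 81 (.lin 9) (.split 4 33 (.lin 12) (.splitN
    67028 (.split 2 202 (.split 4 214 (.split 7 (-230) .sq (.split 0 (-70) (.split 5 49 (.lin 4)
    (.splitN 57975 (.split 7 (-193) .sq (.split 2 145 (.split 4 115 (.split 1 20 (.split 5 58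
    (.lin 4) (.splitN 50723 (.split 2 132 (.split 4 106 (.splitN 49008 (.split 2 120 (.split 4 97
    (.split 3 (-38) (.wt 2) (.split 4 88 (.split 6 44 (.splitN 43009 (.wt 6) (.split 0 (-83) (.wt
    0) (.split 5 59 (.wt 2) (.lin 4)))) (.lin 11)) (.lin 5))) (.lin 0)) .sq) (.wt 3)) (.lin 0))
    .sq) (.wt 1))) (.split 3 (-30) (.lin 11) (.split 6 52 (.lin 11) (.wt 2)))) (.lin 12)) (.lin
    2))) (.wt 1))) (.split 4 60 (.lin 3) (.split 5 50 (.split 4 69 (.lin 12) (.split 0 (-52)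
    (.split 5 31 (.lin 4) (.split 4 169 (.splitN 59527 (.split 2 168 (.split 7 (-201) .sq (.split
    1 20 (.split 5 40 (.lin 4) (.splitN 51259 (.split 2 134 (.split 4 124 (.split 7 (-182) (.lin
    2) (.split 3 (-34) (.split 6 52 (.lin 11) (.splitN 47640 (.splitN 43289 (.wt 1) (.split 4 73
    (.wt 3) (.split 2 109 (.split 4 106 (.split 7 (-161) (.wt 3) (.split 2 100 (.split 4 97
    (.split 0 (-65) (.wt 0) (.wt 6)) (.lin 0)) (.lin 2))) (.lin 0)) .sq))) (.wt 1))) (.splitN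
    48579 (.split 7 (-137) (.split 2 99 (.lin 2) (.split 4 78 (.lin 0) (.split 7 (-148) (.split 2
    108 (.lin 2) (.split 4 87 (.lin 0) .sq)) (.wt 0)))) (.wt 0)) (.wt 1)))) (.lin 0)) .sq) (.wt
    1))) (.split 3 (-30) (.lin 11) (.split 6 52 (.lin 11) (.wt 0))))) .sq) (.wt 1)) (.lin 12)))
    (.split 4 78 (.lin 3) (.split 4 87 (.lin 12) (.splitN 61275 (.split 7 (-199) .sq (.split 1 20
    (.split 3 (-34) (.split 6 52 (.lin 11) (.split 0 (-43) (.split 5 31 (.lin 4) (.wt 2)) (.wt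
    2))) (.splitN 48003 (.wt 0) (.wt 6))) (.split 0 (-47) (.split 5 23 (.split 3 (-30) (.lin 7)
    (.split 6 52 (.lin 7) (.wt 0))) (.lin 4)) (.lin 4)))) (.wt 1)))))) (.lin 4))))) (.lin 0))
    .sq) (.wt 1))))) (.split 2 145 (.split 2 82 (.split 4 88 (.split 0 (-70) (.split 2 45 (.lin
    3) (.split 7 (-91) (.split 4 61 (.split 5 49 (.lin 4) (.split 4 52 (.split 7 (-100) (.split 1
    20 (.split 3 (-37) (.wt 2) (.split 6 44 (.splitN 45205 (.wt 6) (.split 0 (-83) (.wt 0)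
    (.split 5 59 (.wt 2) (.lin 4)))) (.lin 11))) (.split 3 (-30) (.lin 11) (.split 6 52 (.lin 11)
    (.wt 2)))) (.lin 12)) (.lin 12))) (.lin 3)) (.lin 2))) (.split 5 50 (.split 4 46 (.split 7
    (-119) (.lin 6) (.split 7 (-110) (.lin 12) (.splitN 72333 (.split 0 (-52) (.split 2 27 (.lin
    3) (.split 7 (-73) (.split 5 31 (.lin 4) (.split 7 (-82) (.splitN 39718 (.wt 1) (.split 1 20
    (.split 5 40 (.lin 4) (.split 3 (-34) (.split 4 27 (.wt 0) (.split 2 36 (.lin 0) (.split 7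
    (-91) (.splitN 43193 (.wt 1) (.split 0 (-60) (.wt 0) (.split 5 41 (.wt 2) (.lin 4)))) (.lin
    2)))) (.split 6 44 (.split 4 29 (.wt 2) (.split 2 45 (.lin 0) (.split 7 (-91) (.splitN 48931
    (.splitN 44298 (.wt 1) (.split 0 (-65) (.wt 2) (.split 2 55 (.split 7 (-101) (.lin 1) (.split
    5 41 (.split 4 38 (.wt 0) (.wt 0)) (.lin 4))) (.lin 3)))) (.wt 1)) (.lin 2)))) (.lin 11))))
    (.split 3 (-30) (.lin 11) (.split 6 52 (.lin 11) (.wt 2))))) (.lin 12))) (.lin 2))) (.split 7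
    (-92) (.lin 12) (.split 1 20 (.split 3 (-34) (.split 6 52 (.lin 11) .cand) (.split 6 44
    (.splitN 41447 (.wt 0) .cand) (.lin 11))) (.split 2 18 (.lin 0) (.split 0 (-47) (.split 7
    (-73) (.split 5 23 (.split 3 (-30) (.lin 7) (.split 6 52 (.lin 7) (.splitN 60003 (.wt 0) (.wt
    1)))) (.lin 4)) (.lin 2)) (.lin 4)))))) (.wt 1)))) (.split 2 36 (.lin 0) (.split 7 (-91)
    (.splitN 67821 (.split 0 (-52) (.split 2 54 (.lin 3) (.split 5 31 (.lin 4) (.split 4 70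
    (.split 7 (-109) (.splitN 59238 (.split 1 20 (.split 5 40 (.lin 4) (.split 3 (-34) (.split 6
    52 (.lin 11) (.splitN 48979 (.splitN 44184 (.wt 1) (.split 0 (-65) (.wt 2) (.split 5 41
    (.split 4 68 (.split 2 64 (.split 7 (-119) (.lin 1) (.split 4 52 (.wt 0) (.wt 0))) (.lin 0))
    (.wt 0)) (.lin 4)))) (.wt 0))) (.split 2 63 (.lin 2) (.split 6 44 (.splitN 49091 (.split 0
    (-57) (.split 2 72 (.lin 3) (.split 7 (-118) (.split 4 61 (.wt 6) (.lin 3)) (.lin 1))) (.wt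
    0)) (.wt 1)) (.lin 11))))) (.split 3 (-30) (.lin 11) (.split 6 52 (.lin 11) (.wt 0)))) (.wt
    1)) (.lin 12)) (.lin 12)))) (.split 1 20 (.split 3 (-34) (.split 6 52 (.lin 11) (.split 0
    (-42) (.split 5 31 (.lin 4) (.wt 2)) (.wt 2))) (.splitN 51909 (.split 0 (-43) (.split 5 31
    (.lin 4) (.wt 2)) (.wt 0)) (.wt 6))) (.split 0 (-47) (.split 5 23 (.split 3 (-30) (.lin 7)
    (.split 6 52 (.lin 7) (.wt 0))) (.lin 4)) (.lin 4)))) (.wt 1)) (.lin 8)))) (.lin 4))) (.lin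
    8)) (.lin 9)) (.lin 1)))

def cert5_58_2 : Cert :=
  (.split 0 (-365) .sq (.split 2 362 (.split 4 376 (.split 7 (-434) (.lin 2) (.split 7 (-369) .sq
    (.split 2 325 (.split 4 340 (.split 4 322 (.split 3 (-29) (.split 1 25 (.split 6 43 (.lin 11)
    (.splitN 96111 (.split 2 291 (.split 4 304 (.split 7 (-299) .sq (.split 0 (-273) (.lin 12)
    (.split 0 (-102) (.split 2 81 (.lin 3) (.split 7 (-127) (.split 5 85 (.lin 4) (.split 7
    (-136) (.splitN 48374 .sq (.split 4 30 (.wt 0) (.split 2 90 (.lin 3) (.split 7 (-145)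
    (.splitN 52991 .sq (.split 1 16 (.wt 0) (.split 3 (-30) (.lin 11) (.split 6 52 (.lin 11) (.wt
    1))))) (.lin 12))))) (.lin 12))) (.lin 2))) (.split 5 86 (.splitN 88957 (.split 7 (-288) .sq
    (.split 2 235 (.split 4 250 cert5_58_1 (.lin 0)) (.lin 2))) (.wt 1)) (.lin 4))))) (.lin 0))
    .sq) (.wt 1))) (.lin 11)) (.split 2 27 (.lin 10) (.splitN 99799 (.split 7 (-305) .sq (.split
    2 262 (.split 0 (-273) (.lin 12) (.split 5 257 (.split 4 259 (.split 0 (-102) (.split 2 81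
    (.lin 3) (.split 4 205 (.split 5 76 (.lin 4) (.split 4 187 (.split 7 (-136) (.splitN 60072
    (.split 6 51 (.split 1 25 (.split 5 85 (.lin 4) (.splitN 48779 .sq (.split 4 27 (.wt 1)
    (.split 2 99 (.lin 3) (.split 7 (-145) (.splitN 53558 .sq (.split 0 (-259) (.split 2 252
    (.lin 3) (.split 7 (-280) .sq (.lin 1))) (.wt 1))) (.lin 12)))))) (.lin 11)) (.wt 2)) (.wt
    1)) (.lin 12)) (.lin 12))) (.lin 3))) (.split 5 86 (.split 6 52 (.split 1 25 (.splitN 84752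
    (.split 7 (-277) .sq (.split 7 (-132) (.split 2 36 (.lin 1) (.split 2 90 (.lin 9) (.split 4
    33 (.lin 12) (.splitN 64593 (.split 0 (-43) (.split 2 194 (.split 7 (-236) (.lin 2) (.split 7
    (-220) .sq (.split 0 (-74) (.split 5 49 (.lin 4) (.split 1 23 (.split 2 99 (.lin 2) (.split 5
    58 (.lin 4) (.split 6 35 (.split 4 90 (.splitN 48802 (.split 2 124 (.split 7 (-155) (.lin 2)
    (.split 4 59 (.split 5 67 (.lin 0) (.split 0 (-83) (.splitN 43046 .sq (.split 4 43 (.wt 1)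
    (.split 0 (-89) (.split 2 108 (.lin 3) (.split 5 76 (.lin 0) (.split 7 (-145) .sq (.lin 2))))
    (.wt 0)))) (.lin 3))) (.wt 0))) .sq) (.wt 1)) (.wt 2)) (.lin 11)))) (.wt 2))) (.split 4 60
    (.lin 3) (.split 4 69 (.lin 12) (.splitN 56083 (.split 1 20 (.split 5 31 (.lin 4) (.wt 2))
    (.wt 0)) (.wt 6))))))) .sq) (.wt 2)) (.wt 1))))) (.split 2 91 (.split 0 (-42) (.split 4 79
    (.split 7 (-73) (.split 4 44 (.split 0 (-74) (.split 2 54 (.lin 3) (.split 5 49 (.lin 4)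
    (.split 7 (-100) (.split 6 41 (.split 1 16 (.split 5 58 (.lin 4) (.splitN 48848 (.split 4 25
    (.wt 2) (.split 5 77 (.splitN 43938 (.wt 1) (.split 0 (-76) (.split 2 81 (.lin 3) (.split 7
    (-118) (.split 4 36 (.wt 0) (.split 0 (-84) (.lin 3) (.wt 0))) (.lin 2))) (.wt 6))) (.lin
    0))) (.wt 1))) (.lin 11)) (.wt 2)) (.lin 12)))) (.split 5 50 (.split 7 (-110) (.lin 12)
    (.split 1 24 (.split 2 36 (.lin 2) (.split 5 31 (.lin 4) (.split 6 35 (.splitN 42842 (.wt 3)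
    (.split 0 (-51) (.split 2 45 (.lin 3) (.split 7 (-82) (.split 5 40 (.lin 4) (.splitN 51252
    (.split 4 37 (.split 2 64 (.split 7 (-101) (.lin 2) (.split 0 (-58) (.split 2 54 (.lin 3)
    (.split 7 (-91) (.split 5 49 (.lin 4) (.splitN 47583 (.split 4 28 (.wt 0) (.wt 0)) (.wt 1)))
    (.lin 1))) (.wt 2))) (.lin 0)) (.wt 0)) (.wt 1))) (.lin 2))) (.wt 2))) (.lin 11)))) (.wt 2)))
    (.lin 4))) (.split 0 (-84) (.lin 3) (.split 0 (-75) (.lin 12) (.split 7 (-100) (.splitN 64055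
    (.split 1 23 (.split 5 31 (.lin 4) (.split 6 35 (.splitN 50059 (.split 0 (-72) (.split 2 90
    (.lin 3) (.split 5 58 (.lin 1) (.wt 0))) (.wt 0)) (.wt 6)) (.lin 11))) (.wt 0)) (.wt 1))
    (.lin 12))))) (.lin 12)) (.lin 12)) (.wt 2)) (.lin 9)))) (.wt 1)) (.lin 11)) (.wt 2)) (.lin
    4))) (.lin 6)) (.lin 4))) (.lin 2))) (.wt 1)))) (.lin 8)) (.lin 0)) (.lin 2)))) (.lin 0))
    .sq))

def cert5_58_3 : Cert :=
  (.split 2 13 (.split 3 (-56) (.split 6 70 (.lin 3) (.splitN 58563 (.split 3 (-201) .sq (.split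
    4 187 (.split 5 167 (.split 6 205 (.split 4 169 (.split 7 (-209) (.lin 9) (.split 2 3 (.split
    3 (-65) (.split 6 79 (.lin 3) (.splitN 21221 .sq (.splitN 26457 (.split 1 7 (.wt 1) (.split 0
    (-41) (.split 6 88 (.lin 3) (.split 3 (-74) (.split 7 (-91) .sq (.lin 2)) (.lin 5))) (.wt
    2))) (.wt 1)))) (.lin 2)) (.splitN 25445 (.wt 1) (.split 1 11 (.split 3 (-65) (.split 0
    (-110) (.wt 0) (.split 5 95 (.split 0 (-49) (.wt 2) (.split 5 41 (.splitN 26713 (.wt 1)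
    (.split 3 (-98) (.wt 0) (.split 7 (-110) (.lin 2) (.split 4 70 (.split 6 98 (.wt 0) (.lin 9))
    (.lin 5))))) (.lin 4))) (.lin 4))) (.lin 2)) .cand)))) (.lin 3)) .sq) (.lin 10)) (.lin 5)))
    (.wt 1))) (.lin 2)) (.split 6 215 (.split 1 11 (.split 3 (-56) (.split 0 (-61) (.wt 2)
    (.split 5 50 (.splitN 26707 (.wt 1) (.split 6 66 (.wt 0) (.split 7 (-91) (.split 3 (-65)
    (.split 0 (-55) (.wt 0) (.split 5 41 (.split 3 (-131) (.wt 0) (.split 6 134 (.wt 2) (.lin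
    11))) (.lin 4))) (.lin 11)) (.lin 9)))) (.lin 4))) (.lin 11)) (.split 6 115 (.split 3 (-93)
    (.lin 11) (.split 0 (-86) (.split 5 76 (.lin 4) (.split 4 142 (.split 7 (-136) (.splitN 41831
    .sq (.split 3 (-91) (.wt 0) (.split 6 98 (.split 3 (-83) (.wt 0) (.split 2 45 (.lin 2)
    (.split 6 89 (.splitN 43163 .sq (.wt 3)) (.lin 11)))) (.lin 11)))) (.lin 8)) (.lin 8)))
    (.split 5 68 (.splitN 33846 (.wt 1) (.split 0 (-61) (.split 5 49 (.lin 4) (.split 4 169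
    (.split 7 (-109) (.splitN 52004 (.split 7 (-185) .sq (.split 2 118 (.split 4 115 (.split 6 84
    (.split 2 27 (.lin 0) (.split 4 79 (.split 6 71 (.split 2 36 (.lin 0) (.split 4 61 (.splitN
    45668 (.split 3 (-56) (.wt 6) (.split 6 62 (.wt 6) (.lin 11))) (.wt 3)) (.split 2 63 (.lin 0)
    (.split 7 (-136) (.splitN 46007 (.split 3 (-56) (.wt 6) (.split 6 62 (.wt 2) (.lin 11))) (.wt
    0)) (.lin 8))))) (.split 3 (-65) (.splitN 45756 (.split 0 (-74) (.wt 2) (.split 5 50 (.wt 6)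
    (.lin 4))) (.wt 0)) (.lin 11))) (.split 2 72 (.lin 0) (.split 7 (-154) .sq (.lin 8)))))
    (.split 3 (-74) (.splitN 46903 (.split 7 (-154) .sq (.split 2 73 (.split 4 79 (.splitN 45811
    .cand (.wt 1)) (.lin 8)) (.lin 1))) (.wt 1)) (.lin 11))) (.lin 8)) (.lin 9))) (.wt 1)) (.lin
    8)) (.lin 8))) (.split 5 41 (.splitN 61067 (.split 7 (-221) .sq (.split 4 178 (.split 6 84
    (.split 3 (-66) (.lin 11) (.split 7 (-150) (.split 2 72 (.lin 9) (.split 4 96 (.lin 8)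
    (.splitN 46736 .sq (.split 0 (-39) (.split 5 31 (.lin 4) (.wt 1)) (.wt 1))))) (.split 2 100
    (.split 2 82 (.split 0 (-47) (.split 5 31 (.lin 4) (.split 4 97 (.split 7 (-91) (.splitN
    52330 (.split 6 71 (.split 6 66 .cand .cand) (.split 3 (-65) (.splitN 39668 (.wt 1) .cand)
    (.lin 11))) (.wt 1)) (.lin 8)) (.lin 8))) (.split 5 23 (.split 6 77 (.split 3 (-57) (.lin 7)
    (.split 4 74 (.split 7 (-110) (.lin 8) (.split 3 (-51) (.split 7 (-91) (.split 4 51 (.lin 5)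
    (.split 6 70 (.lin 7) (.splitN 48541 (.wt 0) (.wt 1)))) (.lin 1)) (.wt 2))) (.wt 2))) (.wt
    2)) (.lin 4))) (.lin 9)) (.lin 1)))) (.split 4 51 (.lin 0) (.split 7 (-109) (.split 3 (-74)
    (.splitN 51150 (.split 7 (-176) .sq (.split 2 82 (.split 0 (-47) (.split 5 31 (.lin 4)
    (.split 4 124 (.splitN 47756 (.split 7 (-162) .sq (.split 4 106 (.split 4 79 (.split 6 98
    (.split 3 (-84) (.lin 11) (.split 0 (-52) (.split 5 40 (.lin 4) .cand) (.split 2 37 (.split 4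
    60 (.lin 3) (.split 5 32 (.split 7 (-128) (.lin 8) (.splitN 42909 (.wt 0) (.wt 1))) (.lin
    4))) (.lin 3)))) (.split 2 28 (.split 4 69 (.lin 0) (.split 7 (-127) (.split 3 (-92) (.splitN
    44792 .sq (.wt 1)) (.lin 11)) (.lin 9))) (.lin 0))) (.split 2 27 (.lin 0) (.split 7 (-136)
    (.splitN 43910 .sq (.wt 1)) (.lin 8)))) (.lin 8))) (.wt 1)) (.lin 8))) (.split 4 69 (.lin 3)
    (.wt 2))) (.lin 9))) (.wt 1)) (.lin 11)) (.lin 9)))) (.lin 8))) (.wt 1)) (.lin 4)))) (.lin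
    4)))) (.split 2 118 (.split 7 (-136) (.split 3 (-101) (.splitN 46592 .sq (.splitN 52186
    (.split 0 (-79) (.wt 0) (.split 5 59 (.split 0 (-74) (.wt 0) (.split 4 69 (.lin 3) .sq))
    (.lin 4))) (.wt 1))) (.lin 11)) (.lin 9)) (.lin 9)))) (.lin 9)))

def cert5_58_4 : Cert :=
  (.split 5 14 (.split 1 33 (.lin 0) (.split 2 10 (.split 3 (-30) (.lin 10) (.splitN 182019
    (.split 0 (-412) .sq (.split 7 (-443) (.lin 1) (.split 2 3 (.splitN 42214 (.split 0 (-174)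
    .sq (.split 7 (-200) (.lin 1) (.split 6 177 (.split 1 151 (.split 7 (-182) (.lin 2) (.split 4
    11 (.split 1 42 (.lin 0) (.split 3 (-21) (.lin 10) (.split 5 13 (.lin 10) (.splitN 22431
    (.split 7 (-71) (.split 1 51 (.lin 2) (.split 6 70 (.lin 0) (.split 7 (-87) (.split 1 69
    (.lin 2) (.split 6 88 (.lin 0) .sq)) (.wt 0)))) (.wt 0)) (.wt 1))))) (.split 0 (-156) (.lin
    3) (.split 5 9 (.split 1 42 (.lin 0) (.split 3 (-21) (.lin 10) (.split 6 150 (.split 0 (-129)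
    (.lin 3) (.split 7 (-146) (.lin 1) (.split 6 125 (.split 0 (-111) (.lin 3) (.split 7 (-128)
    (.lin 1) (.split 6 109 (.split 1 88 (.split 0 (-93) (.lin 3) (.split 7 (-110) (.lin 1)
    (.split 0 (-49) (.split 7 (-73) (.split 1 51 (.lin 2) (.split 6 70 (.lin 0) (.splitN 34879
    (.splitN 30596 (.wt 3) (.split 6 102 (.split 0 (-84) (.lin 3) (.split 7 (-76) (.split 1 60
    (.lin 2) (.split 6 79 (.lin 0) (.wt 2))) (.wt 0))) (.wt 1))) (.wt 1)))) (.lin 1)) (.wt 2))))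
    (.lin 0)) (.wt 2)))) (.wt 2)))) (.wt 2)))) (.split 3 (-29) (.splitN 27887 (.splitN 25762
    (.split 0 (-112) (.split 7 (-136) (.split 1 105 (.lin 2) (.split 6 133 (.lin 0) .sq)) (.lin
    1)) (.wt 0)) (.wt 6)) (.wt 1)) (.lin 10)))))) (.lin 11)) .sq))) (.wt 1)) (.split 1 42 (.lin
    0) (.split 3 (-21) (.lin 10) (.split 4 15 (.lin 10) (.split 5 13 (.lin 10) (.splitN 49087
    (.split 0 (-71) (.split 7 (-91) (.split 1 60 (.lin 2) (.split 6 79 (.lin 0) (.wt 2))) (.lin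
    1)) (.wt 0)) (.wt 6))))))))) (.wt 3))) (.lin 10))) (.splitN 70798 (.split 0 (-244) .sq
    (.split 6 251 (.split 1 232 (.split 1 214 (.split 7 (-290) (.lin 6) (.split 7 (-272) (.lin 8)
    (.split 7 (-254) (.lin 12) (.split 2 6 (.split 3 (-29) (.splitN 27748 (.split 0 (-130) .sq
    (.split 7 (-164) (.lin 1) (.split 6 143 (.split 1 115 (.split 1 106 (.split 7 (-146) (.lin 9)
    (.splitN 17034 (.wt 1) (.split 6 135 (.split 4 11 (.split 0 (-56) (.split 3 (-48) (.lin 10)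
    (.splitN 22565 (.split 1 26 (.wt 3) (.split 7 (-124) (.wt 3) (.split 1 88 (.split 0 (-111)
    (.lin 12) (.split 6 116 (.split 7 (-113) (.wt 3) (.split 1 79 (.split 7 (-106) (.wt 3)
    (.split 1 70 (.split 0 (-93) (.lin 12) (.split 6 98 (.split 7 (-99) (.wt 3) (.split 1 61
    (.split 0 (-84) (.lin 12) (.split 6 89 (.split 3 (-38) (.split 0 (-65) (.split 7 (-73) (.wt
    0) (.lin 2)) (.lin 5)) (.split 5 23 (.split 6 63 (.wt 6) (.split 0 (-65) (.split 7 (-73)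
    (.split 7 (-91) (.wt 1) (.split 1 52 (.split 6 80 (.split 7 (-81) (.wt 0) (.split 1 43
    (.split 6 71 (.wt 0) (.lin 0)) (.lin 2))) (.lin 0)) (.lin 2))) (.lin 1)) (.lin 3))) (.lin
    10))) (.lin 3))) (.lin 2))) (.lin 3))) (.lin 2))) (.lin 2))) (.lin 3))) (.lin 2)))) (.wt 1)))
    (.lin 3)) (.split 0 (-120) (.lin 3) (.split 6 116 (.split 7 (-119) (.lin 9) (.split 0 (-48)
    (.split 6 70 (.lin 3) (.split 7 (-73) (.splitN 25682 (.split 1 45 (.split 6 98 (.split 0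
    (-84) (.lin 3) (.split 7 (-101) (.lin 2) (.split 1 33 (.split 0 (-66) (.lin 4) (.split 7
    (-83) (.lin 2) (.wt 0))) (.wt 0)))) (.lin 0)) (.wt 0)) (.wt 1)) (.lin 9))) (.wt 2))) (.wt
    2)))) .sq))) (.lin 4)) (.lin 11)) (.lin 3)))) (.wt 1)) (.lin 10)) (.split 0 (-56) (.split 7
    (-73) (.split 3 (-48) (.lin 10) (.splitN 23498 (.wt 1) (.split 4 11 (.split 2 28 (.split 3
    (-39) (.lin 10) (.splitN 42151 .cand (.wt 1))) (.lin 10)) (.split 3 (-34) (.split 2 19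
    (.split 5 31 (.lin 10) (.splitN 57033 (.split 0 (-208) .sq (.split 6 113 (.split 1 70 (.split
    7 (-128) (.lin 6) (.splitN 34200 (.wt 1) (.split 6 84 (.split 0 (-84) (.lin 3) (.split 1 43
    (.split 7 (-101) (.lin 6) (.split 1 34 (.split 0 (-75) (.lin 4) (.split 7 (-92) (.lin 8)
    (.split 6 71 (.split 1 29 (.split 0 (-66) (.lin 4) (.splitN 45869 .cand (.wt 1))) (.split 3
    (-39) (.lin 11) (.split 6 70 (.lin 11) (.wt 2)))) (.split 1 33 (.lin 0) (.split 0 (-74)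
    (.split 5 40 (.lin 0) (.split 3 (-47) (.split 7 (-91) (.splitN 40495 (.wt 0) (.wt 0)) (.lin
    1)) (.lin 6))) (.lin 3)))))) (.split 7 (-91) (.split 3 (-39) (.lin 11) (.split 6 79 (.lin 11)
    (.splitN 43917 (.wt 0) (.wt 1)))) (.lin 2)))) (.lin 11))) (.split 7 (-100) (.splitN 45052
    .cand (.wt 1)) (.lin 9))))) (.lin 11)) (.split 1 69 (.lin 0) (.split 0 (-110) (.split 7
    (-127) (.splitN 49409 .sq (.wt 1)) (.lin 9)) (.lin 3))))) (.wt 1))) (.lin 10)) (.split 1 33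
    (.lin 11) (.split 3 (-21) (.split 2 28 (.split 6 107 (.split 0 (-120) (.lin 3) (.split 1 79
    (.split 7 (-155) (.lin 1) (.split 7 (-137) (.lin 2) (.split 0 (-70) (.split 7 (-91) (.split 6
    78 (.split 0 (-84) (.lin 3) (.split 1 43 (.split 7 (-101) (.lin 2) (.split 5 31 (.lin 4)
    (.splitN 45044 (.wt 0) (.wt 1)))) (.lin 11))) (.wt 2)) (.lin 12)) (.wt 2)))) (.lin 11))) (.wt
    2)) (.lin 10)) (.wt 2))))))) (.lin 9)) (.lin 3)))))) (.lin 4)) (.lin 11)) (.lin 3))) (.wt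
    1)))

def cert5_58_5 : Cert :=
  (.split 6 530 (.split 1 511 (.split 7 (-533) (.lin 12) (.split 5 49 (.split 2 37 (.split 3
    (-57) (.lin 10) (.splitN 242590 (.split 0 (-482) .sq (.split 6 494 (.split 1 475 cert5_58_4
    (.lin 11)) (.lin 3))) (.wt 3))) (.lin 10)) (.split 0 (-74) (.split 7 (-82) (.splitN 64969
    (.split 0 (-220) .sq (.split 2 172 (.split 1 169 (.split 5 194 (.split 3 (-210) (.lin 5)
    (.split 7 (-236) (.lin 12) (.splitN 60937 (.split 3 (-200) .sq (.split 7 (-215) .sq (.split 2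
    163 (.split 1 151 (.split 2 145 (.split 0 (-201) (.lin 12) (.split 5 176 (.split 2 12 (.split
    6 70 (.lin 0) (.split 3 (-47) (.splitN 51638 (.split 6 178 (.split 2 3 (.split 6 79 (.lin 0)
    (.split 3 (-56) (.splitN 24911 .sq (.wt 1)) (.lin 10))) (.split 4 11 (.wt 2) .cand)) .sq)
    (.wt 1)) (.lin 10))) (.split 3 (-165) (.lin 2) (.split 6 188 (.split 3 (-58) (.split 1 124
    (.split 0 (-92) (.split 7 (-109) (.split 5 67 (.lin 10) (.split 6 88 (.lin 11) (.splitN 38150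
    .sq (.splitN 49083 (.split 1 27 (.wt 0) (.split 0 (-101) (.split 7 (-118) (.split 6 97 (.lin
    11) (.splitN 44144 .sq (.split 1 58 (.wt 0) (.split 7 (-145) (.split 6 124 (.lin 11) .sq)
    (.lin 2))))) (.lin 2)) (.lin 4))) (.wt 1))))) (.lin 2)) (.lin 5)) (.lin 2)) (.splitN 55608
    (.split 7 (-199) .sq (.split 1 133 (.split 2 127 (.split 0 (-183) (.lin 12) (.split 5 158
    (.split 6 170 (.split 4 11 (.splitN 37298 (.split 0 (-148) .sq (.split 2 91 (.split 6 134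
    (.split 1 97 (.split 5 122 (.splitN 36227 (.split 3 (-36) (.wt 2) (.split 0 (-83) (.split 2
    27 (.lin 10) (.split 1 33 (.lin 11) (.split 7 (-91) (.split 0 (-127) .sq (.split 2 64 (.split
    6 98 (.split 1 79 (.split 5 86 (.split 7 (-128) (.lin 12) (.split 3 (-27) (.wt 2) (.split 5
    77 (.split 2 36 (.lin 10) (.split 1 42 (.lin 11) (.split 7 (-100) (.splitN 32442 (.split 6 88
    (.split 1 61 (.split 6 63 (.wt 6) (.split 1 51 (.lin 11) (.split 7 (-109) .sq (.lin 2))))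
    (.lin 11)) (.wt 2)) (.wt 1)) (.lin 2)))) (.lin 6)))) (.lin 4)) (.lin 11)) (.lin 3)) (.lin
    3))) (.lin 6)))) (.lin 7))) (.wt 3)) (.lin 4)) (.lin 4)) (.lin 3)) (.lin 3))) (.wt 3))
    (.split 7 (-91) (.split 3 (-23) (.split 6 116 (.split 1 88 (.split 3 (-43) (.split 1 70
    (.split 6 70 (.lin 11) (.splitN 33193 (.wt 1) (.split 1 47 (.split 6 98 (.splitN 48095
    (.split 0 (-164) .sq (.split 2 100 (.splitN 46027 .cand (.wt 3)) (.lin 3))) (.wt 1)) (.lin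
    11)) (.split 0 (-101) (.split 7 (-118) (.split 6 97 (.lin 11) (.splitN 41759 .sq (.splitN
    44377 (.split 2 19 (.wt 1) (.split 7 (-127) (.split 5 58 (.lin 10) .sq) (.lin 2))) (.wt 1))))
    (.lin 2)) (.lin 4))))) (.lin 11)) (.split 2 27 (.lin 10) (.split 6 89 (.split 1 61 (.splitN
    49056 (.split 0 (-171) .sq (.split 2 118 (.split 7 (-179) .sq (.split 0 (-156) (.lin 12)
    (.split 1 43 (.split 3 (-34) .cand (.split 2 36 (.lin 10) (.split 1 33 (.lin 11) (.split 0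
    (-100) (.split 5 58 (.lin 4) (.split 7 (-118) (.splitN 42731 (.split 1 42 (.split 2 54 (.lin
    2) (.split 5 67 (.lin 0) (.split 7 (-133) (.split 2 72 (.lin 2) (.split 5 85 (.lin 0) .sq))
    (.wt 0)))) (.wt 0)) (.wt 1)) (.lin 12))) (.wt 2))))) (.split 0 (-101) (.split 7 (-118)
    (.split 6 79 (.lin 11) (.splitN 43577 (.split 3 (-30) (.split 1 52 (.split 6 88 (.lin 11)
    (.splitN 39734 .sq (.wt 1))) (.lin 11)) (.wt 0)) (.wt 1))) (.lin 8)) (.lin 4))))) (.lin 3)))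
    (.wt 1)) (.lin 11)) (.split 0 (-110) (.split 1 60 (.lin 11) (.split 7 (-127) (.splitN 45935
    .sq (.wt 1)) (.lin 6))) (.lin 3))))) (.lin 11)) (.split 0 (-128) (.split 7 (-145) .sq (.lin
    9)) (.lin 3))) (.wt 2)) (.lin 8))) (.lin 9)) (.lin 4))) (.lin 9)) (.lin 8))) (.wt 1))) (.lin
    9)))) (.lin 4))) (.lin 9)) (.lin 8)) (.lin 2)))) (.wt 1)))) (.lin 4)) (.lin 4)) (.lin 3)))
    (.wt 1)) (.lin 8)) (.lin 4)))) (.lin 11)) (.lin 3))

def cert5_58_6 : Cert :=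
  (.split 2 3 (.split 3 (-29) (.split 4 43 (.splitN 303177 (.split 0 (-8391) (.div 0) (.splitN
    54539 (.split 1 584 (.split 6 638 (.split 0 (-615) (.lin 3) (.split 0 (-207) .sq (.split 7
    (-245) (.lin 1) (.split 1 214 (.splitN 51884 (.split 6 204 (.split 1 169 (.split 0 (-174)
    (.lin 3) (.split 7 (-200) (.lin 9) (.split 5 9 (.split 1 33 (.lin 4) (.split 0 (-82) (.split
    7 (-109) (.split 6 106 (.lin 3) (.split 1 78 (.lin 4) (.splitN 37952 .sq (.split 3 (-40) (.wt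
    0) (.split 4 34 (.wt 1) (.lin 10)))))) (.lin 1)) (.split 7 (-119) (.lin 1) (.split 1 88
    (.split 6 116 (.split 1 70 (.split 6 89 (.split 7 (-92) (.lin 9) (.split 3 (-38) (.split 1 52
    (.split 7 (-73) (.split 4 33 (.lin 10) (.splitN 34921 (.wt 1) (.split 0 (-54) (.wt 2) (.split
    1 43 (.split 6 80 (.split 7 (-83) (.lin 9) (.split 0 (-46) (.wt 2) (.split 1 34 (.splitN
    39465 (.split 3 (-41) (.wt 1) (.split 4 34 (.split 6 71 (.wt 0) (.lin 0)) (.lin 5))) (.wt 0))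
    (.lin 4)))) (.split 0 (-47) (.split 4 42 (.lin 0) (.split 3 (-47) (.split 7 (-91) (.wt 0)
    (.lin 1)) (.lin 6))) (.lin 3))) (.lin 4))))) (.lin 1)) (.lin 2)) (.split 4 25 .cand (.lin
    10)))) (.split 1 51 (.lin 0) (.split 0 (-56) (.split 7 (-100) (.split 3 (-43) (.wt 2) (.split
    7 (-110) (.lin 1) (.split 6 107 (.split 4 34 (.splitN 33802 (.wt 1) (.split 3 (-35) (.wt 0)
    (.split 0 (-74) (.split 4 25 (.split 6 98 (.wt 0) (.lin 0)) (.lin 5)) (.lin 1)))) (.lin 10))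
    (.lin 7)))) (.lin 9)) (.lin 3)))) (.lin 4)) (.lin 3)) (.lin 2))))) (.split 0 (-52) (.split 6
    79 (.lin 3) (.split 1 42 (.lin 4) (.splitN 24664 (.wt 0) (.wt 6)))) (.wt 2))))) (.lin 0))
    .sq) (.wt 1)) (.lin 2))))) (.lin 0)) (.div 1)) (.wt 1))) (.wt 0)) (.lin 10)) (.lin 10))
    (.split 7 (-73) (.split 5 9 (.split 1 33 (.lin 4) (.split 6 132 (.split 1 106 (.split 7
    (-137) (.lin 9) (.split 3 (-34) (.split 7 (-82) (.split 4 42 (.lin 10) (.splitN 90943 (.wt 1)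
    (.split 0 (-45) (.wt 2) (.split 7 (-92) (.lin 1) (.split 1 43 (.split 6 89 (.split 1 34 (.wt
    0) (.lin 4)) (.lin 0)) (.lin 2)))))) (.lin 1)) (.split 4 34 (.split 0 (-74) (.split 7 (-100)
    (.split 1 60 (.lin 2) (.splitN 81050 (.wt 1) (.split 3 (-26) (.wt 2) (.split 4 25 (.splitN
    141144 .cand (.wt 0)) (.lin 10))))) (.lin 1)) (.split 7 (-101) (.lin 1) (.split 1 70 (.split
    6 98 (.split 6 89 (.split 1 61 (.splitN 78280 (.wt 1) (.split 3 (-25) (.split 4 33 (.lin 10)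
    (.splitN 98712 (.wt 1) (.split 0 (-62) (.wt 0) (.split 7 (-92) (.lin 1) (.split 1 52 (.split
    6 80 (.wt 2) (.lin 0)) (.lin 2)))))) (.split 4 25 (.splitN 141547 .cand (.wt 1)) (.lin 10))))
    (.lin 4)) (.lin 3)) (.lin 0)) (.lin 2)))) (.lin 10)))) (.lin 0)) (.split 0 (-92) (.split 7
    (-118) (.split 7 (-145) (.splitN 200734 (.split 1 2204 (.split 3 (-41) (.wt 2) (.split 0
    (-101) (.split 1 96 (.lin 2) (.split 4 43 (.splitN 167183 (.split 1 1844 (.split 6 1880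
    (.split 3 (-37) (.wt 2) (.split 1 105 (.lin 2) (.split 4 34 (.splitN 134370 (.split 0 (-287)
    .sq (.split 7 (-317) (.lin 1) (.split 1 286 (.split 6 314 (.split 3 (-29) (.wt 2) (.split 1
    114 (.lin 2) (.split 4 25 (.split 6 252 (.split 0 (-237) (.lin 3) (.split 7 (-263) (.lin 1)
    (.split 6 216 (.split 0 (-201) (.lin 3) (.split 7 (-227) (.lin 1) (.split 6 188 (.split 1 169
    (.split 0 (-174) (.lin 3) (.split 7 (-200) (.lin 1) (.split 0 (-120) (.split 7 (-154) (.split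
    1 123 (.lin 2) (.split 6 142 (.lin 0) (.splitN 87095 (.split 0 (-137) (.split 7 (-163)
    (.split 1 132 (.lin 2) (.split 6 151 (.lin 0) .sq)) (.lin 1)) (.wt 2)) (.wt 1)))) (.lin 1))
    (.wt 2)))) (.lin 0)) (.wt 2)))) (.wt 2)))) (.wt 2)) (.lin 10)))) (.lin 0)) (.lin 2)))) (.wt
    1)) (.lin 10)))) (.lin 0)) (.div 1)) (.wt 1)) (.lin 10))) (.lin 1))) (.div 1)) (.wt 1)) (.lin
    9)) (.lin 1)) (.lin 3)))) (.split 4 43 (.splitN 94175 (.split 0 (-283) .sq (.split 1 268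
    (.splitN 88185 .cand (.wt 1)) (.lin 4))) (.wt 1)) (.lin 10))) (.lin 9)))

def cert5_58_7 : Cert :=
  (.split 0 (-2576) .sq (.split 6 76535 (.split 1 2563 (.splitN 4428186 (.split 2 24592 (.split 4
    49184 (.split 6 51740 (.split 0 (-2099) .sq (.split 1 2086 (.splitN 4091516 (.split 2 2015
    (.split 3 (-2017) .sq (.split 6 4094 (.split 4 4012 (.splitN 3058555 (.split 0 (-1742) .sq
    (.split 1 1735 (.split 6 3743 (.splitN 2874513 (.split 2 1687 (.split 3 (-1688) .sq (.split 6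
    3419 (.split 4 1688 (.splitN 2403613 (.split 0 (-1542) .sq (.split 6 3203 (.split 1 1537
    (.split 2 1541 (.split 4 1542 (.splitN 2254697 (.split 6 1494 (.split 1 1438 (.splitN 1985759
    (.split 2 1399 (.split 3 (-1401) .sq (.split 4 1400 (.split 6 1401 (.split 1 1339 (.splitN
    1875287 (.split 7 (-1363) .sq (.split 3 (-1317) (.lin 1) (.split 4 1321 (.split 5 9 (.split 7
    (-109) (.split 0 (-86) (.wt 2) (.split 1 79 (.split 0 (-65) (.wt 2) (.split 1 52 (.split 3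
    (-110) (.wt 2) (.split 6 152 (.wt 2) (.lin 7))) (.lin 4))) (.lin 4))) (.lin 1)) (.splitN
    138049 (.split 0 (-336) .sq (.split 1 322 (.splitN 129681 (.split 0 (-321) .sq (.split 1 304
    (.split 2 318 (.split 3 (-324) .sq (.split 4 619 (.splitN 123056 (.split 4 313 (.split 7
    (-324) .sq (.split 1 241 (.split 4 277 (.split 0 (-99) (.split 2 172 (.split 3 (-210) (.lin
    1) (.split 7 (-163) (.split 1 87 (.lin 4) (.split 6 142 (.lin 7) (.split 4 214 (.splitN 72377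
    .sq (.splitN 80367 (.split 2 21 (.wt 1) (.split 7 (-172) (.split 3 (-89) (.split 7 (-208)
    (.split 6 178 (.lin 7) .sq) (.lin 1)) (.wt 1)) (.lin 1))) (.wt 1))) (.lin 8)))) (.lin 1)))
    (.lin 1)) (.split 1 79 (.splitN 99399 (.split 6 280 (.split 3 (-255) (.lin 7) (.split 7
    (-287) .sq (.split 4 241 (.split 6 144 (.split 3 (-120) (.lin 7) (.split 0 (-65) (.split 7
    (-127) (.split 1 51 (.lin 4) (.split 3 (-93) (.lin 7) (.split 6 106 (.lin 7) (.splitN 76738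
    (.split 7 (-223) .sq (.split 3 (-58) (.split 6 115 (.lin 7) (.split 4 69 (.lin 10) (.split 0
    (-79) (.split 3 (-75) (.lin 7) (.split 6 133 (.lin 7) (.wt 2))) (.split 3 (-79) (.split 6 133
    (.lin 7) (.wt 2)) (.wt 2))))) (.wt 2))) (.wt 1))))) (.lin 1)) (.split 1 43 (.splitN 80966
    (.split 7 (-251) .sq (.split 4 205 (.split 6 111 (.split 3 (-84) (.lin 7) (.split 7 (-172)
    (.split 2 45 (.lin 1) (.split 2 63 (.lin 9) (.split 4 87 (.lin 0) (.split 4 105 (.lin 6)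
    (.split 4 114 (.lin 8) (.splitN 58706 .sq (.splitN 68087 (.split 0 (-40) (.split 1 33 (.lin
    4) (.split 6 88 (.lin 7) (.split 0 (-53) (.split 1 42 (.lin 4) (.split 3 (-66) (.lin 7)
    (.split 6 97 (.lin 7) (.wt 0)))) (.wt 2)))) (.wt 6)) (.wt 1)))))))) (.split 0 (-47) (.split 1
    33 (.lin 4) (.split 3 (-75) (.lin 7) (.split 6 88 (.lin 7) (.split 0 (-50) (.split 2 64
    (.split 7 (-118) (.split 1 42 (.lin 4) (.split 3 (-66) (.lin 7) (.split 6 97 (.lin 7) (.split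
    4 106 (.splitN 63615 (.wt 0) (.wt 1)) (.lin 8))))) (.lin 1)) (.lin 1)) (.wt 2))))) (.splitN
    57491 (.split 3 (-67) (.split 6 97 (.lin 7) (.wt 0)) (.wt 0)) (.wt 6))))) (.split 4 78 (.lin
    0) (.split 0 (-41) (.split 1 33 (.lin 4) (.split 0 (-49) (.split 1 42 (.lin 4) (.split 3
    (-102) (.lin 7) (.wt 2))) (.wt 2))) (.wt 2)))) (.lin 8))) (.wt 1)) (.lin 4)))) (.split 4 78
    (.lin 0) (.split 3 (-74) (.split 7 (-172) (.splitN 67031 .sq (.splitN 70502 (.split 0 (-70)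
    (.split 1 60 (.lin 4) .sq) (.wt 1)) (.wt 1))) (.lin 9)) (.lin 7)))) (.lin 8)))) .sq) (.wt 1))
    (.lin 4))) (.lin 8)) (.lin 2))) .sq) (.wt 1)) (.lin 10))) .sq) (.lin 4))) (.wt 1)) (.lin 4)))
    (.wt 1))) (.lin 12)))) (.wt 3)) (.lin 11)) .sq) .sq)) .sq) (.wt 3)) (.lin 11)) .sq) (.wt 3))
    .sq) .sq) (.lin 4)) (.lin 3))) (.wt 3)) .sq) (.lin 7))) .sq) (.wt 3)) (.lin 7)) (.lin 4)))
    (.wt 3)) (.lin 10)) (.lin 7))) .sq) (.wt 3)) (.lin 4))) (.lin 0)) (.div 4)) (.div 2)) (.wt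
    3)) (.lin 4)) (.lin 3)))

def cert5_58_8 : Cert :=
  (.split 6 132 (.split 0 (-111) (.lin 7) (.split 1 106 (.split 3 (-34) (.split 7 (-91) (.split 1
    88 (.splitN 825731 (.split 2 4576 (.split 4 4660 (.split 0 (-57) (.wt 2) (.split 1 52 (.split
    6 98 (.splitN 375364 (.split 2 2074 (.split 4 2131 (.splitN 134006 (.wt 6) (.split 7 (-197)
    (.wt 0) (.split 2 118 (.split 4 178 (.split 4 151 (.splitN 179077 (.wt 6) (.split 0 (-43)
    (.wt 0) (.split 6 80 (.wt 0) (.lin 7)))) (.lin 8)) (.lin 0)) (.lin 1)))) (.lin 0)) (.div 2))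
    (.wt 0)) (.lin 7)) (.lin 4))) (.lin 0)) (.div 2)) (.wt 3)) (.lin 11)) (.lin 1)) (.split 7
    (-172) (.split 2 36 (.lin 1) (.split 2 45 (.lin 9) (.split 4 60 (.lin 6) (.splitN 558228
    (.split 2 3100 (.split 4 3184 (.split 7 (-3233) (.lin 1) (.split 2 719 (.split 4 736 (.split
    0 (-74) (.split 1 69 (.lin 4) (.split 6 88 (.lin 7) (.splitN 270877 (.split 2 466 (.split 4
    511 (.split 7 (-496) .sq (.split 3 (-25) (.split 1 97 (.wt 2) (.lin 11)) (.split 0 (-81)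
    (.split 1 78 (.lin 4) (.split 6 97 (.lin 7) (.splitN 125974 (.split 4 104 (.split 2 82
    (.split 7 (-209) (.lin 1) (.wt 0)) (.lin 10)) (.wt 0)) (.wt 6)))) (.wt 2)))) (.lin 0)) .sq)
    (.wt 1)))) (.split 2 81 (.lin 1) (.split 1 61 (.split 6 89 (.split 4 96 (.lin 6) (.split 4
    105 (.lin 8) (.splitN 306635 (.split 2 507 (.split 7 (-596) (.lin 1) (.split 7 (-530) .sq
    (.split 3 (-25) (.split 0 (-48) (.wt 2) (.split 1 43 (.split 6 71 (.wt 2) (.lin 7)) (.lin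
    4))) (.split 1 42 (.lin 11) (.split 6 79 (.split 4 114 (.lin 6) (.split 0 (-57) (.lin 7)
    (.split 6 70 (.split 0 (-48) (.lin 7) (.wt 2)) (.wt 2)))) (.wt 2)))))) .sq) (.wt 1)))) (.lin
    7)) (.lin 4)))) (.lin 10)) .sq)) (.lin 0)) (.div 2)) (.wt 1))))) (.split 4 124 (.split 0
    (-74) (.split 2 73 (.split 7 (-109) (.split 1 69 (.lin 4) (.split 6 88 (.lin 7) (.split 4 88
    (.split 3 (-29) (.wt 2) (.split 4 64 (.split 2 46 (.split 6 115 (.split 7 (-155) (.lin 6)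
    (.split 0 (-93) (.lin 7) (.split 0 (-75) (.split 1 78 (.lin 4) (.split 6 97 (.lin 7) (.splitN
    111887 (.wt 4) (.wt 6)))) (.wt 2)))) (.wt 2)) (.lin 10)) (.wt 2))) (.lin 8)))) (.lin 1))
    (.lin 1)) (.split 1 61 (.split 6 89 (.split 3 (-25) (.split 0 (-55) (.wt 2) (.split 1 43
    (.split 6 71 (.splitN 172152 (.wt 6) (.split 4 57 (.wt 0) (.split 2 36 (.lin 10) (.split 7
    (-100) (.wt 2) (.lin 1))))) (.lin 7)) (.lin 4))) (.split 0 (-47) (.split 1 42 (.lin 11)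
    (.split 6 80 (.split 4 62 (.split 2 46 (.split 7 (-128) (.lin 1) (.split 7 (-105) (.split 4
    42 (.lin 6) (.split 6 79 (.split 4 51 (.lin 6) (.split 0 (-57) (.lin 7) (.split 2 36 (.lin 9)
    (.split 1 52 (.split 7 (-119) (.lin 1) (.splitN 173150 (.split 0 (-50) (.split 1 51 (.lin 4)
    (.split 6 70 (.lin 7) (.wt 0))) (.wt 2)) (.wt 1))) (.lin 11))))) (.wt 2))) (.split 2 37
    (.split 4 52 (.split 6 71 (.split 0 (-57) (.lin 7) (.split 4 43 (.split 2 28 (.split 6 66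
    (.split 7 (-92) (.lin 6) (.split 0 (-48) (.lin 7) (.wt 2))) (.split 1 51 (.lin 11) (.wt 2)))
    (.lin 10)) (.split 1 43 (.split 2 36 (.lin 10) (.split 0 (-48) (.lin 12) (.split 6 62 (.split
    7 (-100) (.splitN 190014 (.wt 0) (.wt 0)) (.lin 1)) (.lin 0)))) (.lin 8)))) (.split 4 34
    (.split 0 (-65) (.split 2 19 (.split 1 60 (.lin 11) (.split 7 (-100) (.splitN 143713 (.wt 0)
    (.wt 0)) (.lin 1))) (.lin 9)) (.lin 7)) (.lin 6))) (.lin 6)) (.lin 1)))) (.lin 10)) (.split 0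
    (-50) (.split 1 51 (.lin 4) (.split 6 70 (.lin 7) (.wt 2))) (.wt 2))) (.lin 7))) (.lin 7)))
    (.lin 7)) (.lin 4))) (.lin 6)))) (.lin 11))) (.split 0 (-92) (.split 1 87 (.lin 11) (.split 7
    (-154) (.splitN 794284 (.split 2 4396 (.split 4 4435 (.split 0 (-861) .sq (.split 1 853
    (.splitN 659695 (.split 2 3658 (.split 4 3697 (.split 0 (-780) .sq (.split 1 772 (.split 6
    818 (.split 3 (-47) (.wt 2) (.split 0 (-101) (.split 1 96 (.lin 11) (.splitN 476060 (.split 0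
    (-649) .sq (.split 1 637 (.split 2 641 (.split 4 673 (.splitN 436624 (.split 6 624 (.split 0
    (-606) (.lin 7) (.split 7 (-629) .sq (.split 2 505 (.split 4 520 (.split 3 (-29) (.split 4 42
    (.lin 10) (.splitN 306611 (.split 0 (-502) .sq (.split 1 493 (.split 4 492 (.split 2 460
    (.split 6 508 (.split 7 (-515) .sq (.split 1 466 (.split 4 412 (.splitN 285148 (.split 7
    (-492) .sq (.split 4 385 (.split 6 476 (.split 4 128 (.split 3 (-38) (.wt 2) (.split 0 (-110)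
    (.split 6 159 (.wt 2) (.split 7 (-181) (.split 0 (-137) (.split 0 (-372) (.wt 2) (.split 1
    367 (.split 6 395 (.split 0 (-280) (.wt 2) (.split 1 268 (.split 6 296 (.split 0 (-188) (.wt
    2) (.split 6 206 (.wt 2) (.lin 7))) (.lin 7)) (.lin 4))) (.lin 7)) (.lin 4))) (.lin 7)) (.lin
    6))) (.lin 7))) (.split 6 386 (.split 1 349 (.split 2 99 (.lin 10) (.split 7 (-226) (.splitN
    117197 .sq (.split 0 (-306) (.wt 2) (.split 1 295 (.split 6 332 (.split 0 (-241) (.wt 2)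
    (.split 1 232 (.split 6 269 (.split 0 (-177) (.wt 2) (.split 1 169 (.split 6 206 (.split 3
    (-38) (.wt 0) (.split 7 (-244) (.split 0 (-110) (.split 2 108 (.lin 10) (.split 1 105 (.lin
    11) (.splitN 131264 .sq (.split 7 (-418) (.wt 0) (.split 4 304 (.split 0 (-163) (.wt 0)
    (.split 1 151 (.split 6 179 (.wt 2) (.lin 7)) (.lin 4))) (.lin 6)))))) (.lin 7)) (.lin 6)))
    (.lin 7)) (.lin 4))) (.lin 7)) (.lin 4))) (.lin 7)) (.lin 4)))) (.lin 1))) (.lin 8)) (.lin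
    6))) (.lin 6)) (.lin 6))) (.wt 3)) (.lin 6)) (.lin 2))) .sq) (.lin 10)) .sq) (.lin 4))) (.wt
    3))) (.split 1 114 (.lin 11) (.split 4 124 (.split 2 109 (.split 4 120 (.split 2 100 (.split
    6 284 (.split 0 (-264) (.lin 7) (.split 7 (-380) (.lin 1) (.split 0 (-129) (.split 1 132
    (.lin 4) (.split 6 151 (.lin 7) (.splitN 127706 (.split 4 78 (.split 7 (-335) (.lin 6)
    (.split 2 55 (.splitN 120726 (.split 4 64 (.split 2 46 (.split 0 (-184) (.split 7 (-226)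
    (.split 1 159 (.lin 2) (.split 6 205 (.lin 7) .sq)) (.lin 1)) (.wt 2)) (.lin 10)) (.wt 0))
    (.wt 6)) (.lin 10))) (.wt 0)) (.wt 6)))) (.wt 2)))) (.wt 2)) (.lin 10)) (.wt 2)) (.lin 10))
    (.wt 2)))) (.lin 6)) (.lin 1)))) .sq) (.wt 1)) (.lin 10)) .sq) (.lin 4))) (.wt 1))) (.lin
    7))) (.lin 7)) (.lin 4))) (.lin 10)) (.div 2)) (.wt 1)) (.lin 4))) (.lin 10)) (.div 2)) (.wt
    1)) (.lin 9))) (.lin 7)))

def cert5_58_9 : Cert :=
  (.split 2 10 (.split 3 (-48) (.split 7 (-82) (.split 6 79 (.lin 7) (.split 4 42 (.lin 10)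
    (.splitN 1751852 (.split 4 19448 (.split 0 (-1316) .sq (.split 6 20753 (.split 1 1303
    (.splitN 1376501 (.split 0 (-1165) .sq (.split 1 1159 (.split 3 (-1166) .sq (.split 7 (-2333)
    (.lin 1) (.split 6 2321 (.split 4 1168 (.splitN 1057664 (.split 0 (-1019) .sq (.split 1 1006
    (.split 3 (-1020) .sq (.split 6 2024 (.split 4 1024 (.splitN 999655 (.split 6 992 (.split 1
    952 (.split 4 970 (.splitN 912789 (.split 7 (-948) .sq (.split 1 889 (.split 4 916 (.split 2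
    3 (.splitN 58477 (.split 4 620 (.split 0 (-193) .sq (.split 1 187 (.splitN 55449 (.split 3
    (-189) .sq (.split 4 178 (.splitN 51823 (.split 0 (-175) .sq (.split 1 169 (.split 6 188
    (.split 4 160 (.split 4 151 (.split 7 (-191) (.lin 9) (.split 5 9 (.split 7 (-91) (.split 1
    33 (.lin 4) (.split 6 88 (.lin 7) (.split 4 51 (.lin 10) (.split 0 (-103) (.wt 2) (.split 1
    97 (.split 0 (-94) (.wt 2) (.split 1 88 (.splitN 46050 (.split 3 (-146) .sq (.split 4 133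
    (.split 6 161 (.split 0 (-75) (.wt 2) (.split 1 70 (.split 0 (-72) (.wt 2) (.split 1 61
    (.split 7 (-163) .sq (.split 4 115 (.split 6 152 (.split 0 (-65) (.wt 2) (.split 1 52
    (.splitN 42189 (.split 3 (-83) (.split 7 (-118) (.split 6 115 (.lin 7) (.split 4 78 (.lin 10)
    .sq)) (.lin 1)) (.split 6 125 (.split 4 70 (.split 0 (-49) (.wt 2) (.split 6 116 (.split 1 43
    (.splitN 38842 (.split 0 (-44) (.wt 2) (.split 6 107 (.split 1 34 (.wt 6) (.lin 4)) (.lin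
    3))) (.wt 3)) (.lin 4)) (.lin 3))) (.lin 10)) (.lin 7))) (.wt 3)) (.lin 4))) (.lin 9)) (.lin
    8))) (.lin 4))) (.lin 4))) .sq) (.lin 10))) (.wt 3)) (.lin 4))) (.lin 4)))))) (.lin 1))
    (.splitN 32593 (.split 0 (-44) (.split 6 88 (.lin 3) (.split 1 33 (.lin 4) (.split 0 (-60)
    (.split 7 (-109) (.split 6 106 (.lin 3) (.split 1 51 (.lin 4) .sq)) (.lin 1)) (.wt 2)))) (.wt
    2)) (.wt 1)))) (.lin 3)) (.lin 0)) .sq) (.lin 4))) (.wt 3)) (.lin 10))) (.wt 1)) (.lin 4)))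
    (.div 4)) (.wt 1)) (.split 7 (-91) (.split 6 935 (.split 4 51 (.lin 10) (.splitN 527704
    (.split 0 (-711) .sq (.split 1 700 (.split 3 (-712) .sq (.split 4 709 (.splitN 498008 (.split
    6 692 (.split 1 646 (.split 0 (-651) (.lin 3) (.split 4 673 (.split 5 9 (.split 7 (-100)
    (.split 1 33 (.lin 4) (.split 0 (-82) (.wt 2) (.split 1 70 (.split 0 (-62) (.wt 2) (.split 1
    52 (.split 0 (-56) (.wt 2) (.split 1 43 (.split 3 (-94) (.wt 2) (.split 7 (-146) (.lin 1)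
    (.split 6 134 (.split 4 97 (.splitN 96497 (.wt 1) (.wt 0)) (.lin 10)) (.lin 7)))) (.lin 4)))
    (.lin 4))) (.lin 4)))) (.lin 1)) (.splitN 107535 (.split 0 (-289) .sq (.split 1 268 (.split 3
    (-291) .sq (.split 4 286 (.splitN 98942 (.split 3 (-280) .sq (.split 4 268 (.split 6 285
    (.split 1 223 (.split 3 (-255) (.lin 7) (.split 7 (-290) (.lin 9) (.split 0 (-95) (.split 3
    (-192) (.lin 1) (.split 7 (-154) (.split 4 187 (.split 6 142 (.lin 3) (.split 1 87 (.lin 4)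
    (.splitN 68246 .sq (.splitN 68809 (.split 0 (-230) (.split 7 (-289) .sq (.lin 1)) (.wt 1))
    (.wt 1))))) (.lin 3)) (.lin 1))) (.split 1 79 (.splitN 84758 .cand (.wt 1)) (.lin 4)))))
    (.lin 0)) .sq) (.lin 10))) (.wt 1)) (.lin 10))) (.lin 4))) (.wt 1))) (.lin 0))) (.lin 0))
    .sq) (.wt 3)) (.lin 10))) (.lin 4))) (.wt 3))) (.lin 9)) (.lin 1))) (.lin 8)) (.lin 2))) (.wt
    3)) (.lin 0)) (.lin 0)) .sq) (.wt 3)) (.lin 10)) (.lin 7))) (.lin 4))) (.wt 3)) (.lin 10))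
    (.lin 7)))) (.lin 4))) (.wt 3)) (.lin 4)) (.lin 3))) (.div 4)) (.wt 3)))) (.lin 1)) (.split 4
    52 cert5_58_6 (.lin 10))) (.split 7 (-82) (.split 3 (-48) (.split 7 (-100) (.split 6 79 (.lin
    7) (.split 4 60 (.lin 10) (.splitN 6659815 (.split 2 36994 (.split 4 73988 cert5_58_7 (.div
    4)) (.div 2)) (.wt 3)))) (.lin 1)) (.split 5 9 (.split 1 33 (.lin 4) (.split 4 33 (.lin 10)
    cert5_58_8)) (.splitN 142328 (.split 2 778 (.split 4 808 (.split 0 (-357) .sq (.split 1 340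
    (.splitN 129279 (.split 2 706 (.split 7 (-1091) (.lin 1) (.split 2 336 (.split 4 367 (.split
    7 (-346) .sq (.split 2 280 (.split 4 313 (.split 3 (-34) (.split 4 42 (.lin 10) (.split 6 141
    (.split 0 (-111) (.lin 7) (.split 1 97 (.splitN 107554 (.split 7 (-308) .sq (.split 0 (-74)
    (.split 1 60 (.lin 4) (.split 6 97 (.lin 7) (.splitN 62352 (.split 4 89 (.split 2 64 (.split
    7 (-209) (.lin 1) (.splitN 56014 (.wt 0) (.wt 6))) (.lin 10)) (.wt 0)) (.wt 6)))) (.split 1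
    52 (.split 6 98 (.splitN 92367 (.split 7 (-286) .sq (.split 7 (-152) (.split 4 78 (.lin 6)
    (.split 4 87 (.lin 8) (.split 0 (-41) (.split 1 33 (.lin 4) (.split 6 70 (.lin 7) (.splitN
    67931 (.split 0 (-58) (.split 1 51 (.lin 4) (.split 6 88 (.lin 7) (.wt 0))) (.wt 2)) (.wt
    6)))) (.wt 2)))) (.split 0 (-39) (.split 1 33 (.lin 4) (.split 6 70 (.lin 7) (.split 0 (-53)
    (.split 1 42 (.lin 4) (.split 6 79 (.lin 7) (.wt 2))) (.wt 2)))) (.wt 2)))) (.wt 1)) (.lin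
    7)) (.lin 4)))) (.wt 1)) (.lin 11))) (.split 4 232 (.split 0 (-110) (.split 1 96 (.lin 11)
    (.split 7 (-163) (.splitN 72377 .sq (.wt 1)) (.lin 9))) (.lin 7)) (.lin 6)))) (.split 1 33
    (.lin 11) (.split 0 (-58) (.split 1 51 (.lin 4) (.split 6 70 (.lin 7) (.split 0 (-96) (.split
    1 87 (.lin 4) (.split 6 106 (.lin 7) (.wt 2))) (.wt 2)))) (.wt 2)))) (.lin 6)) (.lin 9)))
    (.lin 10)) .sq)) (.div 2)) (.wt 1)) (.lin 4))) (.lin 10)) (.div 2)) (.wt 1)))) (.lin 9)))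

def cert5_58_10 : Cert :=
  (.split 4 70 (.split 2 91 (.split 7 (-173) (.lin 12) (.splitN 68612 (.split 1 47 (.split 4 47
    (.split 7 (-164) (.lin 8) (.split 5 31 (.lin 10) (.split 7 (-146) (.lin 12) (.split 6 102
    (.split 3 (-75) (.lin 11) (.split 1 34 (.split 4 34 (.split 5 40 (.lin 10) (.split 7 (-137)
    (.lin 12) (.splitN 51959 (.split 0 (-83) (.split 5 49 (.lin 4) (.split 7 (-109) (.split 1 29
    .cand (.split 5 68 (.split 3 (-66) (.lin 11) (.split 6 88 (.lin 11) (.splitN 48245 (.split 4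
    33 (.split 2 37 (.split 7 (-128) (.lin 8) (.splitN 45918 (.split 0 (-91) (.split 5 58 (.lin
    4) (.split 0 (-94) (.split 5 67 (.lin 4) (.split 7 (-127) .sq (.lin 8))) (.wt 0))) (.wt 0))
    (.wt 1))) (.lin 0)) (.wt 0)) (.wt 1)))) (.lin 4))) (.lin 12))) (.split 3 (-66) (.lin 5)
    (.split 7 (-110) (.lin 12) (.split 1 29 .cand (.split 2 19 (.split 4 33 (.lin 5) (.split 6 88
    (.lin 0) (.wt 0))) (.lin 2)))))) (.wt 1)))) .cand) (.split 3 (-57) (.lin 11) (.split 6 97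
    (.lin 11) (.wt 2))))) (.split 0 (-83) (.split 2 37 (.split 5 40 (.lin 0) (.split 7 (-127)
    (.splitN 49398 (.split 1 34 (.split 5 49 (.lin 0) (.split 3 (-74) (.splitN 44054 .sq (.splitN
    47228 (.split 1 27 (.wt 1) (.split 4 36 (.split 0 (-92) (.split 5 58 (.lin 0) .sq) (.lin 3))
    (.wt 0))) (.wt 1))) (.lin 11))) (.split 4 36 (.split 5 49 (.lin 0) (.split 3 (-75) (.lin 5)
    (.wt 2))) (.wt 0))) (.wt 1)) (.lin 9))) (.lin 9)) (.lin 3)))))) (.split 0 (-74) (.split 5 31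
    (.lin 4) (.split 7 (-127) (.splitN 57533 (.split 6 102 (.split 2 27 (.lin 3) (.split 3 (-75)
    (.lin 11) (.splitN 43118 (.wt 3) (.split 1 34 (.split 5 40 (.lin 4) (.split 1 29 (.split 5 49
    (.lin 4) (.splitN 49971 (.split 7 (-167) .sq (.split 6 97 (.split 3 (-66) (.lin 11) (.split 0
    (-82) (.split 2 45 (.lin 3) (.split 5 58 (.lin 4) (.split 7 (-136) (.splitN 48208 (.split 7
    (-137) (.split 2 54 (.lin 2) .sq) (.wt 0)) (.wt 1)) (.lin 8)))) (.wt 2))) (.wt 6))) (.wt 1)))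
    (.split 3 (-66) (.lin 11) (.split 6 88 (.lin 11) (.splitN 49865 (.wt 0) (.wt 1)))))) (.split
    3 (-57) (.lin 11) (.split 6 97 (.lin 11) (.wt 0))))))) (.split 2 64 (.split 3 (-65) (.split 0
    (-77) (.split 5 40 (.lin 4) (.split 7 (-136) (.splitN 46430 .sq (.wt 6)) (.lin 12))) (.wt 2))
    (.lin 11)) (.lin 9))) (.wt 1)) (.lin 12))) (.split 5 41 (.split 7 (-155) (.lin 8) (.split 7
    (-137) (.lin 12) (.split 0 (-49) (.split 3 (-59) (.split 6 88 (.lin 11) (.split 1 31 (.split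
    5 31 (.lin 4) (.wt 2)) (.wt 2))) (.wt 2)) (.wt 2)))) (.lin 4)))) (.split 7 (-127) (.split 5
    50 (.split 3 (-75) (.lin 11) (.split 6 106 (.lin 11) (.split 4 38 (.split 2 28 (.split 5 40
    (.lin 10) (.split 7 (-137) (.lin 12) (.splitN 48057 (.wt 0) (.wt 1)))) (.lin 10)) (.wt 2))))
    (.lin 4)) (.lin 2))) (.wt 1))) (.lin 10)) (.split 7 (-127) (.splitN 68516 (.split 0 (-48)
    (.split 7 (-136) (.split 7 (-213) .sq (.split 2 127 (.split 4 151 (.split 1 47 (.split 5 42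
    (.split 0 (-84) (.lin 4) (.split 6 102 (.split 2 36 (.lin 9) (.split 3 (-75) (.lin 11)
    (.splitN 61779 (.split 7 (-194) .sq (.split 4 133 (.splitN 46309 (.wt 3) (.split 1 34 (.split
    0 (-75) (.lin 4) (.split 5 38 (.split 0 (-66) (.lin 4) (.split 1 31 (.split 0 (-57) (.lin 4)
    (.split 5 31 (.lin 4) (.splitN 50442 (.wt 0) (.wt 1)))) (.wt 2))) (.wt 6))) (.split 3 (-57)
    (.lin 11) (.split 6 97 (.lin 11) (.wt 0))))) (.lin 12))) (.wt 1)))) (.split 3 (-65) (.split 0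
    (-68) (.split 2 27 (.lin 3) (.split 5 31 (.lin 4) (.split 7 (-154) (.splitN 54071 .sq (.wt
    1)) (.lin 12)))) (.wt 2)) (.lin 11)))) (.split 0 (-74) (.split 2 45 (.lin 10) (.split 4 133
    (.split 7 (-154) (.splitN 50210 .sq (.splitN 54595 (.split 1 30 (.wt 1) (.split 7 (-163)
    (.split 6 88 (.lin 11) .sq) (.lin 8))) (.wt 1))) (.lin 8)) (.lin 8))) (.lin 4))) (.split 6
    106 (.lin 11) (.wt 2))) (.lin 12)) (.lin 2))) (.lin 12)) (.wt 2)) (.wt 1)) (.lin 8)))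

def cert5_58_11 : Cert :=
  (.split 0 (-110) (.split 4 169 (.split 7 (-136) (.splitN 73571 (.split 0 (-217) .sq (.split 2
    186 (.split 7 (-231) .sq (.split 4 115 (.split 4 53 (.splitN 67144 (.split 7 (-216) .sq
    (.split 2 154 (.split 6 93 (.split 2 45 (.lin 3) (.split 1 61 (.split 5 49 (.lin 4) (.splitN
    56833 (.split 0 (-164) .sq (.split 2 129 (.split 7 (-183) .sq (.split 2 118 (.split 3 (-38)
    (.split 5 58 (.lin 7) (.split 1 52 (.splitN 54780 (.split 0 (-149) .sq (.split 7 (-169) .sq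
    (.split 2 100 (.split 1 38 (.split 2 54 (.lin 2) (.split 5 76 (.lin 4) (.splitN 46088 .sq
    (.split 1 26 (.wt 1) (.split 2 91 (.split 6 70 (.lin 11) (.wt 1)) (.lin 2)))))) (.split 6 79
    (.lin 11) (.wt 2))) (.lin 2)))) (.wt 1)) (.lin 11))) (.split 1 33 (.lin 11) (.wt 2))) (.lin
    9))) .sq)) (.wt 1))) (.lin 11))) (.split 1 51 (.lin 11) (.split 0 (-112) (.split 7 (-145)
    (.splitN 49850 .sq (.split 5 41 (.split 0 (-138) (.lin 4) (.split 2 64 (.split 1 78 (.lin 4)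
    (.split 6 106 (.lin 7) (.splitN 55232 .sq (.wt 1)))) (.lin 10))) (.wt 1))) (.lin 12)) (.wt
    2)))) (.lin 2))) (.wt 1)) (.split 0 (-165) (.lin 12) (.split 7 (-172) (.split 6 111 (.split 2
    63 (.lin 3) (.split 1 79 (.split 5 31 (.lin 4) (.splitN 55835 .sq (.splitN 62216 (.split 1 43
    (.wt 1) (.split 6 79 (.lin 11) .sq)) (.wt 1)))) (.lin 11))) (.wt 2)) (.lin 12)))) (.lin 12)))
    .sq)) (.wt 1)) (.lin 12)) (.lin 12)) (.split 5 77 (.splitN 82101 (.split 7 (-270) .sq (.split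
    4 214 (.split 2 199 (.split 4 73 (.split 2 118 (.split 7 (-245) (.lin 1) (.split 7 (-173)
    (.lin 12) (.split 6 93 (.split 3 (-38) (.split 1 52 (.split 4 47 (.split 2 82 (.split 7
    (-146) (.lin 12) (.splitN 68504 (.split 0 (-74) (.split 1 38 (.split 5 40 (.lin 4) (.split 4
    34 (.split 7 (-137) (.lin 12) (.split 6 71 (.split 1 29 .cand (.split 3 (-39) (.lin 11)
    (.split 6 70 (.lin 11) (.wt 2)))) (.split 1 33 (.lin 11) (.wt 2)))) (.split 2 36 (.lin 10)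
    (.split 7 (-109) (.split 7 (-118) (.split 3 (-39) (.split 6 70 (.lin 11) (.splitN 51089
    (.split 1 29 (.split 2 45 (.lin 2) (.split 5 49 (.lin 0) (.splitN 46276 (.wt 0) (.wt 1))))
    (.wt 0)) (.wt 1))) (.wt 2)) (.lin 12)) (.lin 8))))) (.split 6 79 (.lin 11) (.split 0 (-79)
    (.split 5 31 (.lin 4) (.wt 2)) (.wt 2)))) (.split 2 46 (.split 1 43 (.split 5 41 (.split 7
    (-128) (.lin 8) (.split 7 (-110) (.lin 12) (.split 6 83 (.split 1 34 (.split 4 34 (.split 2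
    37 (.split 7 (-101) (.lin 12) (.splitN 58928 (.split 6 71 (.split 0 (-56) (.split 5 32
    (.split 2 28 (.split 1 29 (.split 0 (-57) (.lin 4) (.split 5 31 (.lin 4) (.split 7 (-92)
    (.lin 8) (.splitN 46838 (.wt 0) (.wt 6))))) (.split 3 (-39) (.lin 11) (.split 6 70 (.lin 11)
    (.wt 0)))) (.lin 10)) (.split 0 (-65) (.split 1 25 (.split 7 (-91) (.splitN 49705 (.split 4
    33 (.split 7 (-92) (.lin 8) (.splitN 47072 (.split 3 (-44) (.split 2 19 (.split 6 70 (.lin 0)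
    (.wt 0)) (.lin 1)) (.wt 0)) (.wt 1))) (.wt 0)) (.wt 1)) (.lin 8)) (.lin 4)) (.lin 4)))
    (.split 2 19 (.split 4 33 (.lin 3) (.split 6 62 (.split 5 23 (.split 3 (-39) (.lin 6) (.split
    7 (-83) (.lin 1) (.wt 0))) (.lin 0)) (.lin 3))) (.lin 3))) (.split 1 33 (.lin 11) (.split 4
    33 (.lin 3) (.wt 0)))) (.wt 1))) (.lin 3)) (.split 0 (-58) (.split 5 31 (.lin 4) (.wt 2))
    (.wt 2))) (.split 2 28 (.split 0 (-65) (.split 5 23 (.split 4 33 (.lin 5) (.split 6 70 (.lin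
    0) (.split 3 (-39) (.lin 7) (.wt 0)))) (.lin 4)) (.lin 4)) (.lin 2))) (.wt 2)))) (.lin 4))
    (.lin 4)) (.lin 3))) (.wt 1))) (.lin 3)) (.split 2 27 (.lin 10) (.split 1 38 (.split 5 42
    (.split 0 (-75) (.lin 4) (.split 7 (-146) (.lin 8) (.split 0 (-57) (.split 5 31 (.lin 4)
    (.split 7 (-118) (.splitN 53808 (.split 1 29 (.split 5 40 (.lin 4) (.split 7 (-137) (.lin 8)
    (.splitN 51833 (.wt 0) (.wt 1)))) (.wt 0)) (.wt 6)) (.lin 12))) (.wt 2)))) (.split 0 (-78)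
    (.split 7 (-136) (.split 1 31 (.split 3 (-42) (.split 6 70 (.lin 11) (.splitN 47031 (.wt 0)
    (.wt 1))) (.wt 2)) (.wt 2)) (.lin 12)) (.wt 2))) (.split 6 79 (.lin 11) (.wt 2))))) (.lin
    11)) (.split 1 33 (.lin 11) (.wt 2))) (.split 1 51 (.lin 11) (.wt 2))))) (.lin 10)) (.split 2
    54 (.lin 10) (.split 0 (-56) (.split 7 (-136) (.split 3 (-34) (.split 6 86 (.split 1 43
    (.splitN 65399 (.split 0 (-57) (.split 2 63 (.lin 3) (.split 7 (-204) .sq (.split 2 136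
    (.splitN 47052 (.wt 3) (.split 5 58 (.split 0 (-93) (.lin 4) (.split 6 78 (.split 0 (-84)
    (.lin 7) (.split 1 34 (.split 5 31 (.lin 4) (.split 0 (-72) (.split 2 81 (.lin 3) (.split 5
    40 (.lin 4) (.split 7 (-154) (.splitN 49751 .sq (.wt 6)) (.lin 12)))) (.wt 2))) (.lin 11)))
    (.wt 2))) (.wt 6))) (.lin 2)))) (.wt 2)) (.wt 1)) (.lin 11)) (.wt 2)) (.wt 2)) (.lin 12))
    (.wt 2)))) (.lin 9)) (.lin 8))) (.wt 1)) (.lin 4)))

def cert5_58_12 : Cert :=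
  (.split 2 17 (.split 3 (-38) (.splitN 100292 (.split 0 (-293) .sq (.split 3 (-292) .sq (.split
    4 277 (.split 6 295 (.split 4 250 (.split 7 (-299) (.lin 9) (.split 3 (-273) (.lin 2) (.split
    2 3 (.split 6 70 (.lin 0) (.split 3 (-47) (.splitN 32503 (.split 5 166 (.splitN 20284 (.wt 3)
    (.split 0 (-125) .sq (.split 6 233 (.split 7 (-236) (.lin 9) (.split 3 (-210) (.lin 2)
    (.split 6 198 (.split 7 (-200) (.lin 9) (.split 3 (-174) (.lin 2) (.split 6 175 (.split 7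
    (-173) (.lin 9) (.split 3 (-147) (.lin 2) (.split 6 156 (.split 7 (-155) (.lin 9) (.split 3
    (-129) (.lin 2) (.split 3 (-48) (.split 7 (-82) (.split 6 79 (.lin 9) (.split 0 (-53) (.split
    6 142 (.split 7 (-137) (.lin 9) (.split 3 (-111) (.lin 2) (.split 0 (-59) (.split 4 70
    (.split 6 88 (.lin 3) (.split 7 (-91) (.splitN 25343 .sq (.split 1 30 (.wt 1) (.wt 6))) (.lin
    9))) (.lin 3)) (.wt 2)))) (.wt 6)) (.wt 2))) (.lin 2)) (.wt 2)))) (.wt 6)))) (.wt 6)))) (.wt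
    6)))) (.wt 6)))) (.div 5)) (.wt 1)) (.lin 10))) (.split 6 133 (.split 1 88 (.split 0 (-111)
    (.lin 3) (.split 4 88 (.split 5 86 (.split 3 (-165) (.lin 5) (.split 7 (-137) (.lin 9)
    (.split 3 (-102) (.lin 2) (.split 3 (-70) (.split 1 52 (.split 7 (-109) (.split 6 97 (.lin 9)
    (.splitN 56937 (.split 4 46 (.split 5 40 (.lin 10) (.splitN 49272 (.split 1 38 (.split 4 34
    (.split 0 (-74) (.split 5 49 (.lin 10) (.splitN 45201 (.split 7 (-136) .sq (.split 1 29 .cand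
    (.split 0 (-83) (.split 7 (-118) (.split 6 106 (.lin 9) (.split 4 29 (.split 5 58 (.lin 0)
    .sq) (.wt 0))) (.lin 2)) (.lin 4)))) (.wt 1))) (.lin 3)) (.split 0 (-71) (.split 6 106 (.lin
    3) (.split 7 (-118) (.splitN 45453 (.split 0 (-75) (.split 6 115 (.lin 3) (.split 5 49 (.lin
    0) (.split 3 (-83) (.split 7 (-127) .sq (.lin 9)) (.lin 5)))) (.wt 0)) (.wt 1)) (.lin 9)))
    (.wt 2))) (.split 0 (-83) (.split 7 (-127) (.split 6 115 (.lin 9) .sq) (.lin 2)) (.lin 4)))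
    (.wt 1))) (.split 0 (-84) (.lin 3) (.splitN 43026 (.wt 3) (.split 0 (-57) (.split 4 70
    (.split 6 106 (.lin 3) (.split 7 (-118) (.splitN 53310 (.split 1 45 (.splitN 52320 (.split 1
    36 (.split 5 31 (.lin 4) (.splitN 48229 (.split 1 28 (.split 5 40 (.lin 4) (.wt 1)) (.wt 0))
    (.wt 1))) (.wt 0)) (.wt 1)) (.wt 0)) (.wt 1)) (.lin 9))) (.lin 3)) (.wt 2))))) (.wt 1)))
    (.lin 2)) (.lin 2)) (.split 4 52 (.split 6 93 (.split 0 (-75) (.lin 3) (.split 7 (-101) (.lin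
    9) (.splitN 40202 (.wt 3) (.split 3 (-52) (.split 1 34 (.split 7 (-91) (.split 6 79 (.lin 9)
    (.splitN 53657 .cand (.wt 1))) (.lin 2)) (.lin 2)) (.split 5 32 (.split 6 84 (.split 0 (-66)
    (.lin 3) (.split 7 (-92) (.lin 9) (.split 0 (-49) (.split 6 70 (.lin 3) (.split 7 (-82)
    (.splitN 50151 (.split 1 31 (.split 3 (-47) (.split 0 (-57) (.lin 4) (.split 7 (-83) (.lin 2)
    (.split 5 31 (.lin 1) (.wt 0)))) (.lin 2)) (.wt 0)) (.wt 6)) (.lin 9))) (.wt 2)))) (.wt 2))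
    (.lin 10)))))) (.split 1 33 (.lin 11) (.split 7 (-109) (.splitN 55042 (.splitN 40690 (.wt 3)
    .cand) (.wt 1)) (.lin 9)))) (.lin 10)))))) (.lin 0)) (.lin 0))) (.lin 0)) (.split 7 (-145)
    (.splitN 44513 .sq (.splitN 61503 (.split 3 (-41) (.split 0 (-127) .sq (.split 1 97 (.splitN
    57681 (.split 3 (-50) (.splitN 46205 .sq (.split 4 25 (.wt 1) (.split 3 (-61) (.split 0
    (-101) .sq (.split 4 51 (.lin 3) (.split 1 70 (.splitN 49373 .sq (.splitN 55682 (.split 1 36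
    (.wt 1) (.split 0 (-65) .sq (.lin 4))) (.wt 1))) (.lin 4)))) (.wt 6)))) (.wt 6)) (.wt 1))
    (.lin 4))) (.wt 6)) (.wt 1))) (.lin 9)))))) (.lin 0)) .sq) (.lin 10)))) (.wt 1)) (.lin 10))
    (.split 3 (-300) (.lin 2) (.split 7 (-82) (.splitN 117151 (.split 7 (-325) .sq (.split 1 268
    (.split 2 253 (.split 0 (-291) (.lin 12) (.split 3 (-273) (.lin 2) (.split 4 268 (.split 3
    (-89) (.split 7 (-136) (.split 6 115 (.lin 11) (.splitN 73614 (.split 0 (-172) .sq (.split 3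
    (-189) .sq (.split 4 166 (.split 6 201 (.split 1 106 (.splitN 67912 (.split 0 (-152) .sq
    (.split 3 (-171) .sq (.split 6 184 (.split 1 88 (.split 7 (-199) .sq (.split 1 79 (.split 2
    73 (.split 3 (-147) (.lin 2) (.split 4 59 (.split 0 (-83) (.split 5 58 (.lin 10) (.splitN
    52397 .sq (.splitN 52931 (.split 0 (-124) (.split 7 (-154) .sq (.lin 12)) (.wt 1)) (.wt 1))))
    (.lin 3)) (.split 0 (-51) (.split 4 133 (.split 1 44 (.splitN 60383 (.split 7 (-170) .sq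
    (.split 2 46 (.split 0 (-102) (.lin 12) (.split 3 (-120) (.lin 2) (.split 4 106 (.splitN
    57775 (.split 0 (-58) (.split 4 97 (.splitN 49877 .sq (.split 5 40 (.split 7 (-145) (.split 6
    124 (.lin 7) (.split 4 78 (.lin 10) .sq)) (.lin 1)) (.wt 1))) (.lin 12)) (.wt 2)) (.wt 1))
    (.lin 12)))) (.lin 2))) (.wt 1)) (.split 7 (-163) (.split 6 142 (.lin 11) .sq) (.lin 2)))
    (.lin 12)) (.wt 2)))) (.lin 9)) (.lin 2))) (.lin 11)) .sq))) (.wt 1)) (.lin 11)) .sq) .sq)))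
    (.wt 1))) (.lin 2)) (.splitN 104179 (.split 7 (-304) .sq (.split 1 250 (.split 2 235 (.split
    4 250 (.split 6 131 (.split 1 97 (.split 3 (-56) (.split 1 70 (.split 7 (-100) (.split 6 79
    (.lin 11) (.splitN 77876 (.split 0 (-232) .sq (.split 5 203 (.split 7 (-248) .sq (.split 4
    196 (.split 0 (-104) (.split 5 40 (.lin 4) (.split 4 133 (.split 7 (-136) (.splitN 62052
    (.split 0 (-167) .sq (.split 2 126 (.split 7 (-185) .sq (.split 4 70 (.split 1 47 (.split 5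
    67 (.lin 4) (.splitN 46367 .sq (.splitN 53567 (.split 4 29 (.wt 1) (.split 7 (-145) (.splitN
    49427 .sq (.split 0 (-127) (.split 5 85 (.lin 4) (.split 7 (-163) .sq (.lin 12))) (.wt 1)))
    (.lin 12))) (.wt 1)))) (.split 2 73 (.split 3 (-75) (.lin 11) (.split 6 106 (.lin 11)
    (.splitN 50552 .sq (.splitN 54411 (.split 4 53 (.split 0 (-119) (.split 5 49 (.lin 4) (.split
    7 (-145) .sq (.lin 12))) (.wt 1)) (.wt 0)) (.wt 1))))) (.lin 2))) (.lin 12))) .sq)) (.wt 1))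
    (.lin 12)) (.lin 12))) (.split 5 77 cert5_58_10 (.lin 4))) (.lin 8))) (.lin 4))) (.wt 1)))
    (.lin 2)) (.lin 11)) (.splitN 88876 (.split 7 (-282) .sq (.split 2 217 cert5_58_11 (.lin 9)))
    (.wt 1))) (.lin 11)) (.split 4 223 (.split 0 (-74) (.split 2 163 (.split 1 51 (.lin 11)
    (.split 7 (-154) (.splitN 65218 (.split 3 (-43) (.split 1 232 (.splitN 53576 .sq (.split 4 28
    (.wt 1) (.split 0 (-90) (.split 4 205 (.splitN 57095 .sq (.split 4 43 (.wt 1) (.split 5 37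
    (.split 1 60 (.lin 4) (.splitN 59660 .sq (.split 0 (-103) (.split 7 (-163) .sq (.lin 12))
    (.wt 1)))) (.wt 1)))) (.lin 12)) (.wt 2)))) (.lin 2)) (.wt 2)) (.wt 1)) (.lin 9))) (.lin 9))
    (.lin 7)) (.lin 6))) (.lin 8)) (.lin 9)) (.lin 2))) (.wt 1))) (.lin 8)))) (.lin 9)) (.lin
    2))) (.wt 1)) (.lin 9))))

def cert5_58_13 : Cert :=
  (.split 1 22 (.split 5 22 (.lin 4) (.split 3 (-47) (.splitN 89583 (.split 2 490 (.split 4 980
    (.split 5 490 (.split 0 (-279) .sq (.split 5 266 (.split 3 (-1245) (.lin 5) (.splitN 84934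
    (.split 2 263 (.split 3 (-268) .sq (.split 4 502 (.split 6 278 (.split 4 263 (.split 7 (-272)
    .sq (.split 4 241 (.split 4 41 (.splitN 68193 (.splitN 62151 (.split 0 (-220) .sq (.split 2
    190 (.split 6 251 (.split 5 212 (.split 4 15 (.split 0 (-56) (.splitN 24081 (.split 5 130
    (.split 6 143 (.wt 2) (.lin 0)) (.div 5)) (.wt 0)) (.lin 3)) (.split 2 12 (.split 2 3
    (.splitN 27110 (.split 0 (-126) .sq (.split 3 (-129) .sq (.splitN 26615 (.split 3 (-115) .sq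
    (.split 7 (-128) (.lin 2) (.split 6 125 (.split 6 121 (.split 7 (-119) (.lin 9) (.split 1 11
    (.split 5 31 (.lin 4) (.splitN 19871 (.split 5 94 (.split 0 (-41) (.wt 1) (.split 4 24 (.lin
    3) (.split 6 71 (.split 5 32 (.split 3 (-75) (.lin 6) (.split 3 (-66) (.lin 5) (.split 7
    (-74) (.lin 1) (.wt 0)))) (.lin 4)) (.lin 3)))) (.div 5)) (.wt 3))) (.split 0 (-70) (.split 6
    88 (.lin 3) (.split 5 58 (.lin 4) (.split 3 (-74) (.split 7 (-91) .sq (.lin 2)) (.lin 5))))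
    (.split 5 50 (.split 3 (-84) (.lin 5) (.split 7 (-101) (.lin 2) (.split 4 25 (.split 3 (-75)
    (.lin 5) (.split 7 (-92) (.lin 2) (.splitN 20510 (.wt 3) .cand))) (.split 6 70 (.lin 0)
    (.split 0 (-57) (.split 6 97 (.lin 3) (.split 5 49 (.lin 0) (.split 3 (-83) (.split 7 (-100)
    .sq (.lin 1)) (.lin 6)))) (.wt 0)))))) (.lin 4))))) .sq) (.lin 9)))) (.wt 1)))) (.wt 1))
    (.split 7 (-73) (.splitN 52086 (.split 7 (-203) .sq (.split 0 (-183) (.lin 12) (.split 5 176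
    (.split 1 11 (.split 3 (-56) (.splitN 28917 (.split 5 148 (.split 6 170 (.wt 6) (.lin 0))
    (.div 5)) (.wt 0)) (.lin 2)) .cand) (.lin 4)))) (.wt 3)) (.lin 9))) (.split 5 31 (.lin 0)
    (.split 0 (-47) (.split 7 (-82) (.splitN 50877 (.split 0 (-187) .sq (.split 5 176 (.split 7
    (-199) .sq (.split 1 11 (.split 3 (-56) (.splitN 27269 (.split 5 148 (.split 6 161 (.wt 2)
    (.lin 0)) (.div 5)) (.wt 0)) (.lin 11)) (.split 6 116 (.split 4 25 (.split 0 (-56) (.split 6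
    62 (.wt 2) (.split 0 (-65) (.split 7 (-91) (.split 3 (-56) (.split 0 (-102) (.wt 2) (.split 6
    107 (.split 5 86 (.split 7 (-128) (.lin 8) (.splitN 33223 (.wt 1) (.split 4 18 (.wt 0)
    (.split 0 (-82) (.wt 2) (.split 2 28 (.split 6 80 (.split 5 68 (.split 5 59 (.split 7 (-101)
    (.lin 8) (.splitN 37475 (.wt 1) (.wt 0))) (.lin 4)) (.lin 0)) (.lin 3)) (.lin 3)))))) (.lin
    4)) (.lin 3))) (.lin 11)) (.lin 9)) (.lin 3))) (.lin 3)) .cand) (.split 2 64 (.split 5 94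
    (.lin 0) (.split 7 (-145) (.split 3 (-65) .sq (.lin 2)) (.lin 9))) (.lin 9))))) (.lin 4)))
    (.wt 3)) (.lin 9)) (.lin 3))))) (.lin 4)) (.lin 3)) (.lin 3))) (.wt 3)) (.wt 1)) (.split 0
    (-228) (.lin 12) (.split 7 (-82) (.splitN 71280 (.split 3 (-234) .sq (.split 7 (-243) .sq
    (.split 2 181 (.split 0 (-192) (.lin 12) (.split 5 185 (.split 4 205 cert5_58_3 (.lin 8))
    (.lin 4))) (.lin 2)))) (.wt 1)) (.lin 12)))) (.lin 8))) .sq) (.lin 11)) (.lin 5))) .sq) (.wt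
    1))) (.lin 4))) (.div 5)) (.div 4)) (.div 2)) (.wt 1)) (.lin 11))) (.splitN 14571 (.wt 1)
    (.split 4 22 (.split 0 (-47) (.splitN 333093 (.split 0 (-568) .sq (.split 2 514 (.split 6 575
    (.split 1 556 (.split 3 (-552) (.lin 5) (.splitN 276501 (.split 0 (-517) .sq cert5_58_5) (.wt
    3))) (.lin 11)) (.lin 3)) (.lin 3))) (.wt 3)) (.lin 3)) (.split 5 18 cert5_58_9 (.split 0
    (-47) (.split 7 (-73) (.splitN 154260 (.split 0 (-4251) (.div 0) (.split 2 850 (.split 3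
    (-4251) (.div 3) (.split 4 1700 (.split 5 850 (.split 3 (-2541) (.lin 10) (.split 0 (-377)
    .sq (.split 1 349 (.split 5 347 (.split 7 (-2396) (.lin 8) (.splitN 139584 (.split 2 760
    (.split 3 (-21) (.split 2 350 (.split 3 (-352) .sq (.split 4 351 (.split 7 (-722) (.lin 12)
    (.split 6 355 (.split 1 322 (.split 3 (-327) (.lin 11) (.splitN 129726 (.split 0 (-340) .sq
    (.split 7 (-345) .sq (.split 2 289 (.split 1 295 (.split 0 (-318) (.lin 12) (.split 4 295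
    cert5_58_12 (.lin 8))) (.lin 8)) (.lin 2)))) (.wt 1))) (.lin 11)) .sq)) .sq)) .sq) (.wt 2))
    (.div 2)) (.wt 1))) (.lin 4)) (.lin 4)))) (.div 5)) (.div 4))) (.div 2))) (.wt 1)) (.lin 8))
    (.lin 4))))))

def cert5_58_14 : Cert :=
  (.split 1 13 (.split 5 13 (.lin 4) (.splitN 166373 (.split 2 922 (.split 4 952 (.splitN 87239
    (.split 2 472 (.split 4 502 (.splitN 71600 (.split 2 253 (.split 4 286 (.split 4 254 (.split
    7 (-281) (.lin 8) (.split 7 (-258) .sq (.split 4 232 (.split 6 39 (.split 3 (-30) (.lin 11)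
    (.split 7 (-108) (.split 2 72 (.lin 9) (.split 4 69 (.lin 0) (.split 0 (-28) (.wt 2) (.split
    5 14 (.splitN 34660 (.wt 1) (.split 3 (-28) (.wt 0) (.split 6 26 (.splitN 36523 (.split 2 202
    (.split 4 205 (.wt 0) (.lin 0)) (.div 2)) (.wt 0)) (.lin 7)))) (.lin 4))))) (.split 2 73
    (.split 4 88 (.split 7 (-73) (.split 2 27 (.lin 1) (.split 0 (-28) (.wt 2) (.split 5 14
    (.split 4 51 (.lin 8) (.splitN 36802 (.wt 1) (.split 3 (-26) (.wt 0) (.split 6 26 (.wt 0)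
    (.lin 7))))) (.lin 4)))) (.split 2 37 (.split 4 52 (.split 4 43 (.split 6 30 (.wt 2) (.split
    7 (-55) (.split 3 (-29) (.wt 2) (.lin 11)) (.lin 9))) (.lin 8)) (.lin 0)) (.lin 9))) (.lin
    0)) (.lin 9)))) (.split 3 (-29) (.split 7 (-55) (.split 7 (-64) (.split 3 (-38) (.split 0
    (-26) (.wt 2) (.split 5 14 (.splitN 33198 (.wt 6) (.split 7 (-121) (.wt 0) (.split 4 97
    (.split 7 (-96) (.wt 0) (.split 2 46 (.split 4 79 (.split 4 70 (.splitN 36977 (.wt 6) (.split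
    3 (-41) (.wt 0) (.split 6 44 (.wt 0) (.lin 7)))) (.lin 8)) (.lin 0)) (.lin 1))) (.lin 8))))
    (.lin 4))) (.lin 11)) (.lin 9)) (.lin 2)) (.lin 7))) (.lin 8)))) .sq) (.lin 0)) .sq) (.wt 3))
    (.lin 0)) (.div 2)) (.wt 1)) (.lin 0)) (.div 2)) (.wt 0))) (.split 7 (-55) (.split 5 14
    (.split 3 (-39) (.lin 11) (.split 6 34 (.lin 11) (.split 5 9 (.split 4 33 (.lin 10) (.split 7
    (-118) (.split 2 54 (.lin 1) (.split 2 63 (.lin 9) (.split 4 69 (.lin 0) (.split 4 87 (.lin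
    8) (.splitN 1214262 (.split 2 6736 (.split 4 6766 (.splitN 984300 (.split 2 979 (.split 4
    1006 (.split 3 (-29) (.split 0 (-26) (.wt 2) (.split 1 16 (.split 3 (-32) (.wt 2) (.split 6
    44 (.wt 2) (.lin 7))) (.lin 4))) (.split 2 72 (.lin 1) (.split 6 44 (.splitN 281443 (.split 2
    505 (.split 4 529 (.split 4 507 (.split 7 (-514) .sq (.split 0 (-25) (.split 1 24 (.lin 4)
    (.split 6 43 (.lin 7) (.split 4 475 (.split 7 (-123) (.split 2 81 (.lin 1) (.split 4 96 (.lin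
    0) (.split 7 (-132) (.split 2 90 (.lin 1) (.split 4 105 (.lin 0) (.split 7 (-139) (.split 2
    99 (.lin 1) (.split 4 114 (.lin 0) (.split 7 (-147) (.split 2 108 (.lin 1) (.split 4 123
    (.lin 0) (.splitN 107843 (.wt 1) (.split 7 (-470) (.wt 0) (.split 2 424 (.split 4 439 (.split
    7 (-281) (.wt 2) (.split 2 235 (.split 4 250 (.splitN 116671 (.wt 1) (.split 7 (-155) (.split
    7 (-227) (.wt 2) (.split 2 181 (.split 4 196 (.splitN 140866 .cand (.wt 1)) (.lin 0)) (.lin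
    1))) (.wt 2))) (.lin 0)) (.lin 1))) (.lin 0)) (.lin 1)))))) (.wt 2)))) (.wt 2)))) (.wt 2))))
    (.wt 2)) (.lin 6)))) (.split 1 16 (.split 6 35 (.splitN 102679 (.wt 6) (.split 7 (-220) (.wt
    0) (.split 2 181 (.split 4 196 (.splitN 113906 (.wt 6) (.split 7 (-150) (.wt 0) (.split 2 109
    (.split 4 124 (.wt 2) (.lin 0)) (.lin 1)))) (.lin 0)) (.lin 1)))) (.lin 7)) (.lin 4)))) .sq)
    (.lin 0)) .sq) (.wt 1)) (.lin 7)))) (.lin 0)) .sq) (.wt 3)) (.lin 0)) (.div 2)) (.wt 1))))))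
    (.split 2 73 (.split 4 106 (.split 4 88 (.split 3 (-29) (.split 7 (-64) (.split 0 (-27) (.wt
    2) (.split 1 16 (.split 3 (-35) (.wt 2) (.split 6 44 (.wt 2) (.lin 7))) (.lin 4))) (.lin 1))
    (.split 6 44 (.split 0 (-25) (.split 7 (-64) (.split 1 24 (.lin 4) (.split 6 43 (.lin 7)
    (.split 4 70 (.split 2 55 (.split 7 (-101) (.lin 1) (.split 4 62 (.split 2 46 (.split 7 (-92)
    (.lin 1) (.split 4 54 (.split 2 37 (.split 7 (-83) (.lin 1) (.split 4 47 (.split 2 28 (.split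
    7 (-74) (.lin 1) (.split 4 40 (.split 2 19 (.split 7 (-65) (.lin 1) (.splitN 163153 (.wt 0)
    (.wt 0))) (.lin 0)) (.wt 2))) (.lin 0)) (.wt 2))) (.lin 0)) (.wt 2))) (.lin 0)) (.wt 2)))
    (.lin 0)) (.wt 2)))) (.lin 1)) (.split 1 16 (.split 6 35 (.split 7 (-105) (.wt 2) (.split 2
    64 (.split 4 79 (.split 7 (-99) (.wt 2) (.split 2 55 (.split 4 70 (.split 7 (-73) (.split 2
    36 (.lin 1) (.split 4 51 (.lin 0) (.split 7 (-88) (.wt 2) (.split 2 46 (.split 4 61 (.split 7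
    (-81) (.wt 2) (.split 2 37 (.split 4 52 (.splitN 139633 (.wt 0) (.wt 0)) (.lin 0)) (.lin 1)))
    (.lin 0)) (.lin 1))))) (.split 2 28 (.split 4 42 (.split 2 19 (.split 7 (-56) (.lin 1)
    (.splitN 151255 (.wt 0) (.wt 0))) (.lin 0)) (.wt 2)) (.lin 1))) (.lin 0)) (.lin 1))) (.lin
    0)) (.lin 1))) (.lin 7)) (.lin 4))) (.lin 7))) (.lin 8)) (.lin 0)) (.lin 1)))) (.split 1 16
    (.splitN 101364 .cand (.wt 1)) (.lin 4))))) (.lin 4)) (.lin 2)))

def cert5_58_15 : Cert :=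
  (.split 3 (-48) (.lin 11) (.split 4 22 (.split 6 44 (.split 7 (-65) (.lin 6) (.split 7 (-47)
    (.lin 12) (.split 0 (-20) (.splitN 16985 (.wt 1) (.split 1 13 (.split 5 13 (.lin 4) (.split 2
    4 (.split 4 11 (.split 6 35 (.wt 0) (.lin 0)) (.split 6 34 (.lin 0) (.split 3 (-29) (.split 7
    (-37) (.splitN 23209 (.split 0 (-22) (.wt 1) (.split 6 35 (.split 5 14 (.split 3 (-30) (.lin
    6) (.split 7 (-38) (.lin 1) (.wt 0))) (.lin 0)) (.lin 3))) (.wt 3)) (.lin 2)) (.lin 5))))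
    (.split 6 35 (.split 7 (-37) (.splitN 27047 (.wt 1) (.split 4 8 (.wt 0) (.splitN 33461 (.wt
    1) (.split 0 (-27) (.wt 0) (.split 2 10 (.split 6 26 (.split 5 14 (.wt 0) (.lin 0)) (.lin 3))
    (.lin 3)))))) (.lin 2)) (.lin 0)))) (.split 2 10 (.split 3 (-30) (.lin 2) (.split 7 (-37)
    (.split 5 14 (.split 6 34 (.lin 11) (.splitN 20274 (.wt 1) (.split 2 3 (.split 4 11 (.split 0
    (-29) (.split 6 35 (.split 1 16 (.wt 0) (.lin 11)) (.lin 3)) (.lin 3)) (.split 5 11 (.split 3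
    (-21) (.lin 10) (.split 0 (-21) (.split 7 (-46) (.split 1 24 (.lin 2) (.split 6 43 (.lin 0)
    (.splitN 41320 (.wt 0) (.wt 0)))) (.lin 1)) (.wt 2))) (.wt 2))) (.split 1 16 (.split 0 (-29)
    (.split 4 15 (.lin 0) (.split 5 13 (.lin 0) (.split 6 35 (.split 3 (-21) (.lin 1) (.split 7
    (-46) (.splitN 67632 (.wt 0) (.wt 0)) (.lin 1))) (.lin 0)))) (.lin 3)) (.lin 2))))) (.lin 4))
    (.lin 2))) (.lin 2)))) (.split 2 1 (.split 4 15 (.lin 3) (.split 6 26 (.split 1 7 (.split 5 5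
    (.split 3 (-21) (.lin 6) (.split 7 (-29) (.lin 1) (.splitN 40297 (.wt 0) (.wt 0)))) (.lin 0))
    (.lin 11)) (.lin 3))) (.lin 3))))) (.lin 3)) (.split 7 (-37) (.split 0 (-20) (.split 7 (-46)
    (.split 2 10 (.split 4 52 (.split 7 (-83) (.lin 1) (.split 4 43 (.split 6 34 (.lin 3) (.split
    7 (-65) (.lin 9) (.splitN 18566 (.wt 1) (.split 1 13 (.split 3 (-29) (.split 5 13 (.lin 4)
    (.splitN 51860 (.split 2 3 (.split 4 34 (.split 6 43 (.lin 0) (.split 7 (-56) (.lin 2)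
    (.split 0 (-25) (.split 4 25 (.split 6 52 (.lin 3) (.split 5 22 (.lin 0) (.split 3 (-47)
    (.split 7 (-55) (.wt 0) (.lin 1)) (.lin 6)))) (.lin 3)) (.splitN 20870 (.wt 0) (.wt 1)))))
    (.lin 0)) .cand) (.wt 0))) (.lin 2)) (.split 5 14 (.split 3 (-39) (.lin 11) (.split 2 3
    (.split 4 34 (.split 6 43 (.lin 0) (.split 7 (-56) (.lin 9) (.split 3 (-29) (.split 5 8
    (.split 0 (-25) (.split 3 (-30) (.lin 1) (.split 7 (-55) (.split 1 24 (.lin 2) (.split 4 25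
    (.splitN 39259 (.wt 0) (.wt 0)) (.lin 0))) (.lin 1))) (.split 1 16 (.splitN 39415 (.split 3
    (-30) (.split 4 33 (.lin 5) (.wt 0)) (.wt 0)) (.wt 1)) (.lin 4))) (.wt 2)) (.lin 10)))) (.lin
    0)) (.split 5 9 (.split 3 (-29) (.split 7 (-55) (.split 4 33 (.lin 10) (.splitN 95359 (.wt 1)
    (.split 0 (-26) (.wt 2) (.split 1 16 (.split 3 (-33) (.wt 2) (.split 4 34 (.split 6 44 (.wt
    0) (.lin 0)) (.lin 5))) (.lin 4))))) (.lin 1)) (.split 7 (-56) (.lin 1) (.split 6 44 (.split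
    4 25 (.split 0 (-25) (.split 7 (-55) (.split 1 24 (.lin 2) (.split 6 43 (.lin 0) (.splitN
    133302 (.wt 0) (.wt 0)))) (.lin 1)) (.split 7 (-47) (.lin 1) (.split 1 16 (.split 6 35
    (.splitN 138660 (.wt 0) (.wt 0)) (.lin 0)) (.lin 2)))) (.lin 10)) (.lin 6)))) (.split 4 34
    (.split 0 (-29) (.split 6 43 (.lin 0) (.split 1 16 (.split 3 (-29) (.split 7 (-55) (.splitN
    59790 (.split 3 (-34) (.split 4 33 (.lin 5) (.split 6 52 (.lin 0) (.wt 0))) (.wt 2)) (.wt 1))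
    (.lin 1)) (.lin 5)) (.lin 4))) (.lin 4)) (.lin 0))))) (.lin 4)))))) (.lin 3))) (.lin 0))
    (.splitN 25084 (.wt 1) cert5_58_14)) (.lin 12)) (.split 1 7 (.split 5 5 (.splitN 257100
    (.split 2 503 (.split 4 538 (.split 2 21 (.split 4 61 (.splitN 153954 .cand (.wt 1)) (.lin
    0)) (.split 7 (-55) (.splitN 124708 .cand (.wt 1)) (.lin 1))) (.lin 0)) .sq) (.wt 1)) (.lin
    4)) (.lin 4))) (.lin 8))))

def cert5_58_16 : Cert :=
  (.split 1 13 (.split 3 (-47) (.split 5 13 (.lin 4) (.split 3 (-56) (.splitN 45312 (.split 3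
    (-182) .sq (.split 7 (-200) (.lin 1) (.split 4 169 (.split 6 197 (.split 6 179 (.splitN 17023
    (.wt 1) (.splitN 41241 (.split 3 (-173) .sq (.split 7 (-182) (.lin 2) (.split 2 3 (.splitN
    23326 (.split 6 105 (.split 4 79 (.split 7 (-101) (.lin 9) (.split 0 (-25) (.split 4 70
    (.split 5 22 (.lin 4) (.split 7 (-99) (.wt 3) (.split 3 (-84) (.lin 1) (.split 4 61 (.split 6
    63 (.wt 6) (.split 4 42 (.lin 0) (.split 3 (-65) (.split 7 (-73) (.split 7 (-91) (.wt 1)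
    (.split 3 (-75) (.lin 1) (.split 4 52 (.split 6 80 (.split 7 (-81) (.wt 0) (.split 3 (-66)
    (.lin 1) (.split 4 43 (.split 6 71 (.wt 0) (.lin 0)) (.lin 5)))) (.lin 0)) (.lin 5)))) (.lin
    1)) (.lin 5)))) (.lin 5))))) (.lin 3)) (.split 4 42 (.lin 3) (.split 5 14 (.split 3 (-70)
    (.split 7 (-82) (.split 4 60 (.lin 5) (.split 6 79 (.lin 0) .sq)) (.lin 1)) (.wt 0)) (.lin
    4))))) (.lin 0)) .sq) (.wt 1)) (.split 4 42 (.lin 0) (.split 7 (-73) (.splitN 26292 (.wt 1)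
    (.splitN 39100 .cand (.wt 3))) (.lin 2)))))) (.wt 3))) (.lin 11)) (.lin 0)) (.lin 5)))) (.wt
    1)) (.lin 11))) (.lin 2)) (.split 5 14 (.split 2 3 (.splitN 46608 (.split 4 512 (.split 3
    (-525) (.lin 5) (.split 3 (-191) .sq (.split 7 (-209) (.lin 1) (.split 4 187 (.splitN 44879
    (.split 6 188 (.split 4 169 (.split 5 9 (.split 3 (-84) (.split 7 (-109) (.split 6 106 (.lin
    7) (.split 4 87 (.lin 10) (.splitN 40220 .sq (.wt 1)))) (.lin 1)) (.split 7 (-110) (.lin 1)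
    (.split 4 79 (.split 0 (-25) (.split 1 24 (.lin 4) .cand) (.split 4 42 (.lin 3) (.split 1 16
    (.split 3 (-50) (.split 7 (-73) (.split 4 51 (.lin 5) (.split 6 70 (.lin 0) (.splitN 34585
    (.split 7 (-76) (.split 3 (-65) (.split 4 60 (.lin 5) (.split 6 79 (.lin 0) (.wt 2))) (.lin
    1)) (.wt 0)) (.wt 1)))) (.lin 1)) (.wt 2)) (.lin 4)))) (.lin 10)))) (.splitN 28024 (.split 7
    (-71) (.split 3 (-56) (.split 4 42 (.lin 5) (.split 6 70 (.lin 0) (.wt 2))) (.lin 1)) (.wt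
    0)) (.wt 1))) (.lin 0)) .sq) (.wt 1)) (.lin 5))))) (.div 4)) (.wt 1)) (.split 4 42 (.lin 3)
    (.split 7 (-73) (.splitN 405906 (.split 3 (-628) .sq (.split 7 (-659) (.lin 1) (.split 5 9
    (.split 6 197 (.split 4 187 (.split 3 (-86) (.split 7 (-118) (.split 4 87 (.lin 5) (.split 0
    (-26) (.wt 2) (.split 1 16 (.split 3 (-125) (.wt 2) (.split 7 (-146) (.lin 1) (.split 4 124
    (.split 6 134 (.splitN 70253 (.wt 1) (.wt 0)) (.lin 0)) (.lin 5)))) (.lin 4)))) (.lin 1))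
    (.split 7 (-119) (.lin 1) (.split 4 97 (.split 6 116 (.split 6 107 (.split 4 88 (.split 0
    (-25) (.split 1 24 (.lin 4) (.splitN 84313 (.wt 1) (.split 3 (-81) (.wt 0) (.split 7 (-110)
    (.lin 1) (.split 4 79 (.split 6 98 (.splitN 88894 (.wt 1) (.split 3 (-61) (.wt 0) (.split 4
    61 (.split 6 80 (.wt 2) (.lin 0)) (.lin 5)))) (.lin 0)) (.lin 5)))))) (.split 3 (-47) (.split
    4 51 (.lin 3) (.split 6 98 (.split 1 16 (.split 3 (-66) (.wt 2) (.split 7 (-92) (.lin 1)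
    (.split 4 70 (.split 6 80 (.splitN 80493 (.wt 1) (.split 3 (-63) (.wt 0) (.split 7 (-83)
    (.lin 1) (.split 4 61 (.split 6 71 (.splitN 86845 (.wt 1) (.wt 0)) (.lin 0)) (.lin 5)))))
    (.lin 0)) (.lin 5)))) (.lin 4)) (.lin 3))) (.lin 1))) (.lin 10)) (.lin 7)) (.lin 0)) (.lin
    5)))) (.lin 0)) (.split 4 186 (.lin 0) (.split 3 (-173) (.split 7 (-217) (.splitN 155204 .sq
    (.wt 0)) (.lin 9)) (.lin 5)))) (.split 0 (-29) (.split 6 235 (.split 4 214 (.split 3 (-219)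
    (.lin 5) (.split 7 (-245) (.lin 1) (.split 3 (-49) (.split 4 51 (.lin 5) (.split 6 70 (.lin
    0) (.split 3 (-64) (.split 4 60 (.lin 5) (.split 6 79 (.lin 0) (.split 3 (-84) (.split 7
    (-118) (.split 4 87 (.lin 5) (.split 6 106 (.lin 0) (.splitN 42974 .sq (.wt 6)))) (.lin 1))
    (.wt 2)))) (.wt 2)))) (.wt 2)))) (.lin 0)) (.wt 2)) (.lin 4))))) (.wt 1)) (.lin 9)))) (.lin
    4)))

def cert5_58_17 : Cert :=
  (.split 0 (-20) (.split 2 10 (.splitN 733410 (.split 3 (-851) .sq (.split 4 862 (.splitN 626657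
    (.split 3 (-786) .sq (.split 4 799 cert5_58_16 (.lin 5))) (.wt 1)) (.lin 5))) (.wt 1))
    (.split 4 51 (.lin 3) (.split 7 (-82) (.splitN 1489899 (.splitN 23792 (.wt 1) (.split 2 1213
    (.split 3 (-1214) .sq (.split 4 2419 (.split 6 2447 (.splitN 1223796 (.split 2 1098 (.split 3
    (-1100) .sq (.split 7 (-2207) (.lin 1) (.split 4 1099 (.split 7 (-1145) (.lin 8) (.split 1 13
    (.split 5 13 (.lin 4) (.split 3 (-56) (.splitN 46575 (.split 4 512 (.split 6 521 (.splitN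
    42677 .cand (.wt 3)) (.lin 0)) (.div 4)) (.wt 1)) (.lin 11))) (.split 5 14 (.split 5 9
    (.split 6 254 (.split 6 124 (.split 7 (-248) (.split 2 135 (.lin 9) (.split 4 222 (.lin 8)
    (.splitN 138203 .sq (.split 0 (-25) (.wt 0) (.split 1 16 (.wt 0) (.lin 4)))))) (.split 2 190
    (.split 4 286 (.split 4 223 (.split 3 (-70) (.split 7 (-109) (.split 0 (-24) (.wt 2) (.split
    1 16 (.wt 2) (.lin 4))) (.lin 1)) (.split 6 89 (.split 0 (-25) (.splitN 113904 (.wt 6)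
    (.split 3 (-58) (.wt 0) (.split 6 80 (.wt 2) (.lin 7)))) (.split 1 16 (.split 3 (-47) (.split
    6 80 (.splitN 77746 (.wt 6) (.split 7 (-186) (.wt 0) (.split 4 160 (.split 7 (-167) (.wt 0)
    (.split 4 142 (.splitN 82830 (.wt 6) (.split 7 (-133) (.wt 0) (.split 4 106 (.splitN 88225
    (.wt 6) (.split 3 (-63) (.wt 0) (.split 6 71 (.wt 2) (.lin 7)))) (.lin 8)))) (.lin 8))) (.lin
    8)))) (.lin 7)) (.lin 7)) (.lin 4))) (.lin 7))) (.lin 8)) (.lin 0)) (.lin 1))) (.split 3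
    (-101) (.split 7 (-145) (.split 0 (-26) (.wt 2) (.split 1 16 (.split 3 (-152) (.wt 2) (.split
    6 161 (.wt 2) (.lin 7))) (.lin 4))) (.lin 9)) (.lin 7))) (.split 4 249 (.lin 0) (.split 3
    (-236) (.split 7 (-271) (.splitN 260279 .sq (.wt 0)) (.lin 1)) (.lin 7)))) (.split 0 (-29)
    (.split 1 16 (.splitN 70386 (.split 2 382 (.split 4 764 (.split 3 (-759) (.lin 5) (.split 7
    (-794) (.lin 8) (.split 6 254 (.split 3 (-237) (.lin 7) (.split 7 (-632) (.lin 1) (.split 6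
    173 (.split 3 (-156) (.lin 7) (.split 7 (-551) (.lin 1) (.split 6 139 (.split 4 484 (.split 3
    (-120) (.lin 7) (.split 6 119 (.split 3 (-102) (.lin 7) (.splitN 65253 (.split 2 346 (.split
    7 (-461) (.lin 1) (.split 6 107 (.split 3 (-93) (.lin 7) (.split 6 101 (.split 3 (-84) (.lin
    7) (.split 6 94 (.split 3 (-75) (.lin 7) (.split 6 87 (.split 3 (-66) (.lin 7) (.split 6 79
    (.split 3 (-57) (.lin 7) (.splitN 56376 (.split 7 (-90) (.split 4 60 (.lin 8) (.splitN 53703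
    (.split 2 292 (.split 7 (-362) (.lin 1) (.split 7 (-115) (.split 2 45 (.lin 1) (.split 4 87
    (.lin 8) (.splitN 49314 (.split 2 256 (.split 7 (-326) (.lin 1) (.wt 0)) (.div 2)) (.wt 6))))
    (.wt 0))) (.div 2)) (.wt 6))) (.wt 0)) (.wt 6))) (.wt 2))) (.wt 2))) (.wt 2))) (.wt 2))) (.wt
    2))) (.div 2)) (.wt 1))) (.wt 2))) (.lin 0)) (.wt 2)))) (.wt 2)))) (.wt 2)))) (.div 4)) (.div
    2)) (.wt 1)) (.lin 4)) (.lin 4))) (.lin 4)))) .sq))) .sq) (.wt 1)) (.lin 0)) (.lin 5))) .sq))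
    (.wt 1)) (.lin 9)))) (.split 4 51 (.lin 3) (.split 1 7 (.split 5 5 (.split 3 (-56) (.splitN
    349689 (.split 2 1930 (.splitN 68888 (.split 2 382 (.split 4 764 (.split 3 (-768) (.lin 5)
    (.split 7 (-776) (.lin 8) (.split 6 259 (.split 4 619 (.split 3 (-246) (.lin 7) (.split 7
    (-632) (.lin 1) (.split 6 178 (.split 3 (-165) (.lin 7) (.split 7 (-551) (.lin 1) (.splitN
    65175 (.split 2 346 (.split 7 (-515) (.lin 1) (.split 6 144 (.split 3 (-138) (.lin 7) (.split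
    6 130 (.split 3 (-120) (.lin 7) (.split 6 120 (.split 3 (-111) (.lin 7) (.split 6 114 (.split
    3 (-102) (.lin 7) (.split 2 219 (.split 7 (-326) (.lin 1) (.split 6 104 (.split 3 (-93) (.lin
    7) (.split 4 225 (.split 2 172 (.split 7 (-272) (.lin 1) (.split 7 (-236) (.lin 8) (.split 6
    93 (.split 3 (-84) (.lin 7) (.split 6 88 (.split 3 (-75) (.lin 7) (.split 7 (-69) (.split 4
    60 (.lin 8) (.split 6 78 (.split 3 (-66) (.lin 7) (.split 7 (-98) (.split 2 27 (.lin 1)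
    (.split 4 87 (.lin 8) (.splitN 52223 (.split 7 (-111) (.split 2 45 (.lin 1) (.split 4 105
    (.lin 8) (.split 7 (-123) (.split 4 114 (.lin 8) (.split 7 (-128) (.split 4 123 (.lin 8)
    (.splitN 49222 (.split 7 (-176) .sq (.wt 0)) (.wt 1))) (.wt 0))) (.wt 0)))) (.wt 0)) (.wt
    1)))) (.wt 2))) (.wt 2))) (.wt 2))) (.wt 2))) (.wt 2)))) (.lin 0)) .sq)) (.wt 2))) .sq)) (.wt
    2))) (.wt 2))) (.wt 2))) (.wt 2))) (.div 2)) (.wt 1)))) (.wt 2)))) (.lin 0)) (.wt 2)))) (.div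
    4)) (.div 2)) (.wt 1)) (.div 2)) (.wt 0)) (.lin 7)) (.lin 4)) (.lin 4))))

def cert5_58 : Cert :=
  (.split 7 (-28) (.split 6 25 (.lin 11) (.split 0 (-30) (.split 7 (-46) (.split 6 60 (.split 1
    34 (.split 3 (-48) (.lin 11) (.split 4 22 (.splitN 815002 (.split 2 4522 (.split 5 4559
    cert5_58_0 (.lin 0)) (.div 2)) (.wt 0)) (.split 2 9 (.lin 3) (.split 7 (-64) (.split 5 18
    (.split 0 (-48) (.lin 4) (.split 1 24 (.lin 4) (.split 3 (-30) (.lin 7) (.split 6 43 (.lin 7)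
    (.split 5 9 (.split 0 (-39) (.lin 4) (.split 1 33 (.lin 4) (.split 3 (-21) (.lin 7) (.split 6
    52 (.lin 7) (.splitN 534666 (.split 2 2956 (.split 4 2968 (.split 4 26 (.wt 2) (.split 2 18
    (.lin 0) (.split 7 (-73) (.splitN 362734 (.split 2 2002 (.split 7 (-2054) (.lin 1) (.split 4
    870 (.split 2 847 (.split 7 (-902) (.lin 1) (.split 4 404 (.split 2 388 (.split 7 (-443)
    (.lin 1) (.split 4 202 (.split 2 181 (.split 7 (-236) (.lin 1) (.split 4 108 (.split 2 91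
    (.split 7 (-146) (.lin 1) (.split 4 66 (.split 2 46 (.split 7 (-101) (.lin 1) (.split 4 45
    (.split 2 28 (.split 7 (-83) (.lin 1) (.splitN 172135 (.split 4 42 (.split 2 19 (.split 7
    (-74) (.lin 1) (.splitN 160097 (.wt 0) (.wt 0))) (.lin 0)) (.wt 0)) (.wt 6))) (.lin 0)) (.wt
    2))) (.lin 0)) (.wt 2))) (.lin 0)) (.wt 2))) (.lin 0)) (.wt 2))) (.lin 0)) (.wt 2))) (.lin
    0)) (.wt 2))) (.div 2)) (.wt 1)) (.lin 1)))) (.lin 0)) (.div 2)) (.wt 1)))))) (.splitN 104374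
    (.split 2 562 (.split 7 (-623) (.lin 1) (.split 3 (-21) (.split 0 (-39) (.lin 7) (.split 6 52
    (.lin 7) (.wt 2))) (.wt 2))) (.div 2)) (.wt 1))))))) (.splitN 371103 (.split 2 2056 (.split 4
    2077 (.split 0 (-2082) (.lin 3) (.split 0 (-603) .sq (.split 5 590 (.splitN 340973 (.split 2
    577 (.split 4 601 (.split 7 (-581) .sq (.split 4 547 (.split 0 (-552) (.lin 12) (.split 1 15
    (.split 5 31 (.lin 4) (.splitN 52469 (.split 2 274 (.split 5 274 (.splitN 43136 (.split 2 238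
    (.split 4 250 (.split 0 (-194) (.wt 2) (.split 5 185 (.split 3 (-35) (.wt 2) (.split 2 27
    (.lin 2) (.split 4 232 (.split 6 35 (.splitN 40629 (.split 2 220 (.split 4 214 (.splitN 32393
    (.wt 6) (.split 0 (-83) (.wt 0) (.split 5 68 (.splitN 36654 (.wt 6) (.split 0 (-39) (.wt 0)
    (.split 5 32 (.wt 0) (.lin 4)))) (.lin 4)))) (.lin 0)) (.div 2)) (.wt 0)) (.lin 11)) (.lin
    5)))) (.lin 4))) (.lin 0)) (.div 2)) (.wt 3)) (.div 5)) (.div 2)) (.wt 0))) (.split 3 (-39)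
    (.lin 11) (.split 6 34 (.lin 11) (.splitN 140042 cert5_58_2 (.wt 1)))))) (.lin 8))) (.lin 0))
    .sq) (.wt 1)) (.lin 4)))) (.lin 0)) (.div 2)) (.wt 1))) (.lin 12))))) (.lin 11)) (.split 7
    (-64) cert5_58_13 (.lin 9))) (.lin 12)) (.split 1 25 (.split 5 23 (.split 6 60 cert5_58_15
    (.split 4 33 (.lin 3) (.split 3 (-38) (.split 7 (-46) (.split 7 (-64) cert5_58_17 (.lin 9))
    (.lin 2)) (.lin 7)))) (.lin 4)) (.lin 4)))) (.lin 2))

theorem check5_58 :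
    check task5 cert5_58
      [(7, ⟨none, some (-11)⟩), (7, ⟨some (7), none⟩), (1, ⟨some (1), none⟩), (7, ⟨none, some (-20)⟩), (7, ⟨some (7), none⟩), (5, ⟨some (5), none⟩), (8, ⟨some (8), none⟩), (8, ⟨none, some (-19)⟩)] ⟨some (10440), none⟩ = true := by
  decide +kernel

def cert5_59_0 : Cert :=
  (.split 0 (-30) (.split 2 9 (.lin 3) (.split 5 13 (.lin 4) (.split 7 (-46) (.split 4 22
    (.splitN 223591 (.split 2 1228 (.split 0 (-1254) (.lin 3) (.split 0 (-468) .sq (.split 2 460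
    (.split 6 26 (.split 2 18 (.lin 3) (.split 1 16 (.split 5 22 (.lin 4) (.split 1 11 (.split 6
    17 (.splitN 29983 (.split 2 166 (.split 5 167 (.split 5 166 (.splitN 29871 (.split 2 148
    (.split 7 (-164) (.lin 2) (.wt 1)) (.div 2)) (.wt 0)) (.div 5)) (.lin 0)) (.div 2)) (.wt 0))
    (.lin 11)) (.split 6 25 (.lin 11) (.splitN 60367 (.splitN 25764 (.wt 1) .cand) (.wt 1)))))
    (.lin 11))) (.split 1 24 (.lin 11) (.splitN 64794 (.split 2 346 (.split 0 (-372) (.lin 3)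
    (.split 0 (-54) (.split 2 27 (.lin 3) (.split 5 22 (.lin 0) (.split 7 (-64) (.split 5 31
    (.lin 4) (.splitN 45990 (.split 2 238 (.split 7 (-272) (.lin 2) (.splitN 34462 (.split 2 184
    (.split 0 (-210) (.lin 3) (.split 7 (-218) (.lin 2) (.splitN 32523 (.split 2 166 (.split 7
    (-200) (.lin 2) (.split 0 (-101) (.split 2 72 (.lin 3) (.split 7 (-109) (.split 5 76 (.lin 4)
    .sq) (.lin 2))) (.wt 0))) (.div 2)) (.wt 6)))) (.div 2)) (.wt 6))) (.div 2)) (.wt 1))) (.lin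
    2)))) (.wt 2))) (.div 2)) (.wt 1)))) (.lin 3)))) (.div 2)) (.wt 1)) (.split 7 (-64) (.splitN
    603568 (.split 2 3352 (.split 4 3364 (.split 0 (-773) .sq (.splitN 545467 (.split 2 733
    (.split 4 745 (.split 7 (-1496) (.lin 1) (.split 7 (-767) (.lin 2) (.splitN 513069 (.split 7
    (-714) .sq (.split 4 691 (.split 6 26 (.split 2 36 (.lin 3) (.split 1 16 (.split 5 22 (.lin
    4) (.splitN 155762 (.split 0 (-382) .sq (.split 7 (-386) .sq (.split 0 (-354) (.lin 12)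
    (.split 1 11 (.split 6 17 (.wt 2) (.lin 11)) (.split 6 25 (.lin 11) (.splitN 42934 (.wt 0)
    (.wt 6))))))) (.wt 1))) (.lin 11))) (.split 1 24 (.lin 11) (.wt 2))) (.lin 6))) (.wt 1))))
    (.lin 0)) .sq) (.wt 1))) (.lin 0)) (.div 2)) (.wt 1)) (.lin 12))) (.lin 12)))) (.split 5 23
    (.split 7 (-46) (.split 2 9 (.lin 1) (.split 4 15 (.lin 12) (.split 0 (-20) (.split 6 26
    (.split 2 18 (.lin 9) (.split 1 16 (.split 5 10 (.split 0 (-21) (.lin 4) (.split 1 15 (.lin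
    4) (.split 6 25 (.lin 7) (.wt 2)))) (.splitN 210699 (.split 2 452 (.split 4 457 (.split 1 11
    (.split 6 17 (.split 0 (-27) (.wt 2) (.split 5 14 (.splitN 72481 (.split 2 400 (.split 4 394
    (.splitN 47754 (.wt 6) (.split 4 25 (.wt 0) (.split 2 36 (.lin 0) (.split 7 (-55) (.splitN
    64975 (.split 2 346 (.split 4 340 (.splitN 52332 (.wt 6) (.split 4 44 (.wt 0) (.split 2 54
    (.lin 0) (.split 7 (-73) (.wt 2) (.lin 1))))) (.lin 0)) (.div 2)) (.wt 1)) (.lin 1))))) (.lin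
    0)) (.div 2)) (.wt 1)) (.lin 4))) (.lin 11)) (.split 0 (-29) (.split 5 14 (.split 6 25 (.lin
    7) (.wt 2)) (.lin 4)) (.lin 4))) (.lin 0)) .sq) (.wt 1))) (.lin 11))) (.split 1 24 (.lin 11)
    (.wt 2))) (.split 2 27 (.lin 1) (.split 4 33 (.lin 3) (.split 1 7 (.split 5 5 (.splitN 148937
    (.split 2 814 (.split 7 (-830) (.lin 1) (.splitN 110735 (.split 2 598 (.split 7 (-614) (.lin
    1) (.split 7 (-53) (.split 2 36 (.lin 1) (.split 4 42 (.lin 0) (.splitN 89994 (.split 2 490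
    (.split 7 (-506) (.lin 1) (.split 7 (-72) (.split 2 54 (.lin 1) (.split 4 60 (.lin 0)
    (.splitN 74745 (.split 7 (-124) (.split 2 108 (.lin 1) (.split 4 114 (.lin 0) (.splitN 62742
    (.split 2 346 (.split 7 (-362) (.lin 1) (.wt 0)) (.div 2)) (.wt 6)))) (.wt 0)) (.wt 6))))
    (.wt 0))) (.div 2)) (.wt 6)))) (.wt 0))) (.div 2)) (.wt 6))) (.div 2)) (.wt 1)) (.lin 4))
    (.lin 4))))))) (.split 0 (-20) (.split 4 16 (.split 7 (-28) (.split 6 26 (.split 1 16 (.split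
    2 4 (.split 1 15 (.lin 2) (.split 0 (-21) (.lin 3) (.split 4 7 (.split 5 5 (.split 6 25 (.lin
    0) (.split 7 (-29) (.lin 1) (.splitN 40297 (.wt 0) (.wt 0)))) (.lin 0)) (.lin 0)))) (.split 5
    10 (.split 0 (-21) (.lin 1) (.split 2 10 (.split 7 (-37) (.split 1 15 (.lin 2) (.split 4 15
    (.lin 5) (.split 6 25 (.lin 0) (.wt 0)))) (.lin 1)) (.lin 10))) (.split 1 11 (.split 6 17
    (.splitN 47418 (.wt 6) (.split 0 (-27) (.wt 0) (.split 5 14 (.wt 2) (.lin 4)))) (.lin 11))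
    (.split 2 10 (.split 0 (-29) (.split 4 7 (.split 5 14 (.split 6 25 (.lin 0) (.split 7 (-37)
    (.splitN 50895 (.wt 0) (.wt 0)) (.lin 1))) (.lin 0)) (.lin 0)) (.lin 4)) (.lin 2))))) (.lin
    11)) (.split 0 (-29) (.split 2 1 (.split 1 24 (.lin 11) (.split 4 7 (.split 5 5 (.split 7
    (-37) (.splitN 36947 (.wt 0) (.wt 0)) (.lin 1)) (.lin 0)) (.lin 0))) (.lin 9)) (.lin 7)))
    (.lin 12)) (.lin 12)) (.split 1 7 (.split 5 5 (.split 6 17 (.split 4 16 (.split 2 10 (.split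
    7 (-29) (.lin 1) (.split 4 12 (.split 2 1 (.split 7 (-20) (.lin 1) (.splitN 38646 (.wt 0)
    (.wt 0))) (.lin 0)) (.wt 2))) (.lin 0)) (.wt 2)) (.lin 7)) (.lin 4)) (.lin 4)))) (.lin 4)))

def cert5_59 : Cert :=
  (.split 3 (-5) (.split 6 16 (.lin 11) (.split 6 42 (.split 1 25 cert5_59_0 (.lin 11)) (.split 1
    33 (.lin 11) (.split 4 39 (.split 5 23 (.split 2 46 (.split 5 22 (.split 2 37 (.split 6 1153
    (.split 0 (-1182) (.lin 3) (.split 7 (-1226) (.lin 1) (.split 4 32 (.split 2 28 (.split 6 572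
    (.split 0 (-588) (.lin 3) (.split 7 (-623) (.lin 1) (.split 6 390 (.split 0 (-408) (.lin 3)
    (.split 1 376 (.split 7 (-416) (.lin 2) (.split 6 301 (.split 0 (-318) (.lin 3) (.split 0
    (-300) (.lin 7) (.split 7 (-335) (.lin 1) (.split 4 23 (.split 7 (-317) (.lin 6) (.split 2 19
    (.split 6 234 (.split 0 (-246) (.lin 3) (.split 1 223 (.split 7 (-272) (.lin 1) (.split 7
    (-254) (.lin 2) (.split 5 13 (.split 2 10 (.split 6 179 (.split 0 (-183) (.lin 3) (.split 7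
    (-200) (.lin 1) (.split 6 151 (.split 1 142 (.split 0 (-147) (.lin 3) (.split 0 (-138) (.lin
    7) (.split 7 (-155) (.lin 1) (.split 4 15 (.split 7 (-146) (.lin 6) (.split 2 1 (.split 0
    (-50) (.split 7 (-64) (.split 1 51 (.lin 2) (.split 6 61 (.lin 0) (.splitN 23915 (.wt 0) (.wt
    1)))) (.lin 1)) (.wt 2)) (.lin 10))) (.wt 2))))) (.lin 0)) (.wt 2)))) (.wt 2)) (.lin 10))
    (.wt 2)))) (.lin 11))) (.wt 2)) (.lin 10))) (.wt 2))))) (.wt 2))) (.lin 11))) (.wt 2)))) (.wt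
    2)) (.lin 10)) (.wt 2)))) (.wt 2)) (.lin 10)) (.wt 2)) (.lin 10)) (.wt 2)) (.wt 2))))) (.wt
    0))

theorem check5_59 :
    check task5 cert5_59
      [(7, ⟨none, some (-11)⟩), (7, ⟨some (7), none⟩), (1, ⟨some (1), none⟩), (7, ⟨some (-11), some (-2)⟩), (7, ⟨some (7), none⟩), (5, ⟨some (5), none⟩), (8, ⟨some (8), none⟩), (8, ⟨none, some (-19)⟩)] ⟨some (10440), none⟩ = true := by
  decide +kernel

def cert5_60 : Cert :=
  (.lin 8)

theorem check5_60 :
    check task5 cert5_60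
      [(7, ⟨none, some (-11)⟩), (7, ⟨some (7), none⟩), (1, ⟨none, none⟩), (7, ⟨none, some (-2)⟩), (7, ⟨some (7), none⟩), (5, ⟨some (5), none⟩), (8, ⟨some (8), none⟩), (8, ⟨some (-10), some (-10)⟩)] ⟨some (10440), none⟩ = true := by
  decide +kernel

def cert5_61 : Cert :=
  (.lin 4)

theorem check5_61 :
    check task5 cert5_61
      [(7, ⟨some (-2), some (-2)⟩), (7, ⟨some (7), none⟩), (1, ⟨none, none⟩), (7, ⟨none, some (-2)⟩), (7, ⟨some (7), none⟩), (5, ⟨some (5), none⟩), (8, ⟨some (8), none⟩), (8, ⟨none, some (-10)⟩)] ⟨some (10440), none⟩ = true := by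
  decide +kernel

def cert5_62 : Cert :=
  (.wt 3)

theorem check5_62 :
    check task5 cert5_62
      [(7, ⟨none, some (-2)⟩), (7, ⟨some (7), none⟩), (1, ⟨none, none⟩), (7, ⟨none, some (-2)⟩), (7, ⟨none, none⟩), (5, ⟨none, none⟩), (8, ⟨some (8), none⟩), (8, ⟨some (-1), some (-1)⟩)] ⟨some (3960), none⟩ = true := by
  decide +kernel

def cert5_63 : Cert :=
  (.lin 11)

theorem check5_63 :
    check task5 cert5_63
      [(7, ⟨none, some (-2)⟩), (7, ⟨none, some (7)⟩), (1, ⟨none, none⟩), (7, ⟨some (7), none⟩), (7, ⟨none, none⟩), (5, ⟨none, none⟩), (8, ⟨some (8), none⟩), (8, ⟨none, some (-1)⟩)] ⟨some (3960), none⟩ = true := by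
  decide +kernel

def cert5_64 : Cert :=
  (.wt 1)

theorem check5_64 :
    check task5 cert5_64
      [(7, ⟨none, some (-11)⟩), (7, ⟨some (16), none⟩), (1, ⟨none, none⟩), (7, ⟨some (7), none⟩), (7, ⟨none, some (-2)⟩), (5, ⟨none, some (-4)⟩), (8, ⟨some (8), none⟩), (8, ⟨none, some (-10)⟩)] ⟨some (3960), some (10440)⟩ = true := by
  decide +kernel

def cert5_65 : Cert :=
  (.lin 2)

theorem check5_65 :
    check task5 cert5_65
      [(7, ⟨none, some (-11)⟩), (7, ⟨some (16), some (16)⟩), (1, ⟨none, some (-8)⟩), (7, ⟨some (7), none⟩), (7, ⟨none, some (-2)⟩), (5, ⟨none, some (-4)⟩), (8, ⟨some (8), none⟩), (8, ⟨none, some (-10)⟩)] ⟨some (13680), none⟩ = true := by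
  decide +kernel

def cert5_66 : Cert :=
  (.lin 9)

theorem check5_66 :
    check task5 cert5_66
      [(7, ⟨none, some (-11)⟩), (7, ⟨some (25), none⟩), (1, ⟨none, some (-8)⟩), (7, ⟨some (7), none⟩), (7, ⟨none, some (-2)⟩), (5, ⟨none, some (-4)⟩), (8, ⟨some (8), some (8)⟩), (8, ⟨none, some (-10)⟩)] ⟨some (13680), none⟩ = true := by
  decide +kernel

def cert5_67 : Cert :=
  (.lin 8)

theorem check5_67 :
    check task5 cert5_67
      [(7, ⟨none, some (-11)⟩), (7, ⟨some (25), some (25)⟩), (1, ⟨none, some (-8)⟩), (7, ⟨some (7), none⟩), (7, ⟨none, some (-20)⟩), (5, ⟨none, some (-4)⟩), (8, ⟨some (17), none⟩), (8, ⟨none, some (-10)⟩)] ⟨some (13680), none⟩ = true := by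
  decide +kernel

def cert5_68 : Cert :=
  (.lin 8)

theorem check5_68 :
    check task5 cert5_68
      [(7, ⟨none, some (-29)⟩), (7, ⟨some (34), some (43)⟩), (1, ⟨none, some (-8)⟩), (7, ⟨some (7), none⟩), (7, ⟨none, some (-20)⟩), (5, ⟨none, some (-4)⟩), (8, ⟨some (17), none⟩), (8, ⟨none, some (-28)⟩)] ⟨some (13680), none⟩ = true := by
  decide +kernel

def cert5_69 : Cert :=
  (.lin 9)

theorem check5_69 :
    check task5 cert5_69
      [(7, ⟨none, some (-47)⟩), (7, ⟨some (52), none⟩), (1, ⟨none, some (-8)⟩), (7, ⟨some (7), none⟩), (7, ⟨none, some (-20)⟩), (5, ⟨none, some (-4)⟩), (8, ⟨some (17), some (26)⟩), (8, ⟨none, some (-28)⟩)] ⟨some (13680), none⟩ = true := by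
  decide +kernel

def cert5_70_0 : Cert :=
  (.split 7 (-42) (.split 0 (-65) (.splitN 377963 (.split 1 4184 (.split 2 (-4122) (.lin 2)
    (.split 6 8261 (.split 2 (-2093) (.div 2) (.split 1 2158 (.split 6 2141 (.splitN 334356
    (.split 2 (-1841) (.div 2) (.split 6 1889 (.split 4 (-33) (.wt 2) (.split 0 (-84) (.lin 12)
    (.split 5 (-52) (.wt 2) (.split 2 (-72) (.lin 1) (.split 1 142 (.split 2 (-63) (.lin 10)
    (.split 6 116 (.splitN 114163 (.wt 1) (.wt 0)) (.lin 6))) (.lin 2)))))) (.lin 9))) (.wt 0))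
    (.lin 9)) (.lin 2))) (.lin 0))) (.div 1)) (.wt 0)) (.lin 12)) (.split 2 (-53) (.split 4 (-48)
    (.split 2 (-62) (.split 0 (-83) (.splitN 782372 (.split 1 8684 (.split 2 (-4343) (.div 2)
    (.split 1 4390 (.split 6 4373 (.splitN 690934 (.split 2 (-3839) (.div 2) (.split 1 3886
    (.split 6 3869 (.splitN 555358 (.split 2 (-3083) (.div 2) (.split 1 3130 (.split 6 3113
    (.splitN 156808 (.wt 6) (.split 6 99 (.wt 0) (.split 1 123 (.lin 11) (.split 7 (-34) (.wt 0)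
    (.split 2 (-80) (.splitN 188393 (.wt 1) (.splitN 528295 (.split 2 (-2921) (.div 2) (.split 6
    2942 (.split 4 (-357) (.wt 0) (.split 6 126 (.wt 0) (.split 2 (-107) (.split 1 150 (.lin 11)
    (.splitN 201910 (.wt 1) (.split 4 (-213) (.wt 0) (.split 6 143 (.wt 0) (.split 1 168 (.lin
    11) (.split 5 (-74) (.wt 1) (.split 1 304 (.split 4 (-74) (.split 6 287 (.wt 0) (.lin 6))
    (.lin 6)) (.lin 8)))))))) (.lin 9)))) (.lin 9))) (.wt 5))) (.lin 2)))))) (.lin 9)) (.lin 2)))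
    (.wt 5)) (.lin 9)) (.lin 2))) (.wt 0)) (.lin 9)) (.lin 2))) (.div 1)) (.wt 0)) (.lin 12))
    (.lin 10)) (.split 0 (-84) (.lin 12) (.split 6 186 (.split 2 (-180) (.lin 3) (.split 2 (-153)
    (.lin 9) (.split 1 196 (.split 5 (-111) (.wt 6) (.split 6 170 (.split 5 (-91) (.wt 6) (.split
    2 (-126) (.lin 1) (.split 1 178 (.split 6 152 (.split 0 (-78) (.wt 6) (.split 5 (-31) (.split
    6 143 (.split 0 (-64) (.wt 2) (.split 5 (-49) (.split 6 125 (.wt 6) (.lin 7)) (.lin 4)))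
    (.lin 7)) (.lin 4))) (.lin 6)) (.lin 2)))) (.lin 6))) (.lin 11)))) (.split 2 (-152) (.split 1
    204 (.lin 11) (.split 5 (-112) (.split 5 (-121) (.split 4 (-34) (.split 0 (-65) (.splitN
    20297572 (.wt 6) (.split 0 (-76) (.wt 0) (.split 5 (-130) (.wt 6) (.lin 4)))) (.lin 12))
    (.split 7 (-33) (.split 0 (-56) (.split 4 (-28) (.wt 2) (.split 5 (-148) (.split 0 (-57)
    (.lin 12) (.split 6 393 (.wt 2) (.split 2 (-359) (.split 5 (-355) (.split 6 503 (.wt 2)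
    (.split 2 (-476) (.split 1 528 (.lin 11) (.split 5 (-472) (.splitN 15679225 (.split 1 174212
    (.split 2 (-174159) (.lin 2) (.split 2 (-87107) (.div 2) (.split 5 (-87098) (.lin 1) (.split
    6 3479 (.split 2 (-3438) (.lin 3) (.split 1 3490 (.split 5 (-3434) (.lin 1) (.splitN 8716372
    (.split 6 2399 (.split 2 (-2358) (.lin 3) (.split 1 2410 (.split 5 (-2354) (.lin 1) (.splitN
    7256438 (.split 6 2100 (.split 2 (-2061) (.lin 3) (.split 1 2113 (.split 5 (-2057) (.lin 1)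
    (.splitN 6738968 (.split 6 1986 (.split 2 (-1944) (.lin 3) (.split 1 1996 (.split 5 (-1940)
    (.lin 1) (.split 6 558 (.wt 2) (.split 2 (-530) (.split 1 582 (.lin 11) (.split 5 (-526)
    (.splitN 4467205 (.split 6 1339 (.split 2 (-1296) (.lin 3) (.split 1 1348 (.split 5 (-1292)
    (.lin 1) (.splitN 3732411 (.split 6 1162 (.split 2 (-1125) (.lin 3) (.split 1 1177 (.split 5
    (-1121) (.lin 1) (.splitN 3473998 (.split 6 1096 (.split 2 (-1053) (.lin 3) (.split 1 1105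
    (.split 5 (-1049) (.lin 1) (.split 6 595 (.wt 2) (.split 2 (-566) (.split 1 618 (.lin 11)
    (.split 5 (-562) (.splitN 2958325 (.split 6 935 (.split 2 (-900) (.lin 3) (.split 1 952
    (.split 5 (-896) (.lin 1) (.splitN 2737807 (.split 6 877 (.split 2 (-837) (.lin 3) (.split 5
    (-833) (.lin 1) (.split 6 694 (.split 2 (-657) (.lin 3) (.split 1 709 (.split 5 (-653) (.lin
    1) (.split 6 639 (.wt 2) (.split 2 (-611) (.split 1 663 (.lin 11) (.split 5 (-607) (.splitN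
    1923590 (.wt 0) (.split 6 663 (.split 1 673 (.splitN 2003648 .cand (.wt 0)) (.lin 11)) (.wt
    2))) (.lin 1))) (.lin 3)))) (.lin 11))) (.wt 2)))) (.wt 0)) (.wt 1))) (.lin 11))) (.wt 0))
    (.wt 1)) (.lin 1))) (.lin 3)))) (.lin 11))) (.wt 0)) (.wt 1))) (.lin 11))) (.wt 0)) (.wt 1)))
    (.lin 11))) (.wt 0)) (.wt 1)) (.lin 1))) (.lin 3)))) (.lin 11))) (.wt 0)) (.wt 1))) (.lin
    11))) (.wt 0)) (.wt 1))) (.lin 11))) (.wt 0)) (.wt 1))) (.lin 11))) (.wt 0))))) (.div 1))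
    (.wt 1)) (.lin 1))) (.lin 3))) (.lin 1)) (.lin 3)))) (.lin 6))) (.lin 12)) (.wt 1))) (.lin
    4)) (.lin 1))) (.lin 9))))) (.lin 2)))

def cert5_70 : Cert :=
  (.split 3 11 (.wt 2) (.split 5 (-16) (.split 2 (-26) (.split 6 82 (.wt 6) (.split 1 105 (.lin
    11) (.split 7 (-62) (.split 0 (-83) (.splitN 117674 (.split 1 1304 (.split 2 (-1224) (.lin 2)
    (.split 6 2483 (.wt 2) (.lin 0))) (.div 1)) (.wt 0)) (.lin 12)) (.split 2 (-35) cert5_70_0
    (.lin 2))))) (.lin 10)) (.split 7 (-64) (.split 0 (-74) (.split 1 87 (.lin 2) (.split 0 (-83)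
    (.split 6 70 (.lin 6) (.splitN 1177218 (.split 1 13076 (.split 0 (-13071) (.lin 4) (.split 6
    13067 (.splitN 1103617 (.split 1 12248 (.split 0 (-12243) (.lin 4) (.splitN 340865 (.split 1
    3752 (.split 0 (-3747) (.lin 4) (.split 6 3743 (.splitN 132925 (.split 1 1448 (.split 0
    (-1443) (.lin 4) (.split 0 (-336) .sq (.split 7 (-326) (.lin 1) (.split 1 349 (.split 6 332
    (.splitN 119139 (.split 0 (-316) .sq (.split 6 305 (.split 4 (-255) (.lin 6) (.split 5 (-8)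
    (.split 2 (-17) (.splitN 80783 (.wt 6) (.split 0 (-192) (.wt 0) (.split 2 (-126) (.lin 1)
    (.split 6 188 (.wt 2) (.lin 7))))) (.lin 10)) (.split 4 (-24) (.split 6 79 (.lin 6) (.split 2
    (-17) (.split 7 (-281) (.lin 1) (.split 4 (-35) (.split 6 88 (.lin 6) (.split 1 105 (.lin 8)
    (.split 2 (-26) (.splitN 41994 (.split 2 (-221) (.div 2) (.split 4 (-228) (.lin 10) (.splitN
    39032 (.split 7 (-79) (.split 1 123 (.lin 2) (.split 6 106 (.lin 6) .sq)) (.wt 0)) (.wt 6))))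
    (.wt 1)) (.lin 10)))) (.wt 2))) (.lin 10))) (.wt 2)))) (.lin 7))) (.wt 3)) (.lin 7)) (.lin
    4))))) (.div 1)) (.wt 3)) (.lin 7))) (.div 1)) (.wt 1))) (.div 1)) (.wt 0)) (.lin 7))) (.div
    1)) (.wt 0))) (.lin 12))) (.lin 1)) (.split 6 78 (.split 4 (-57) (.lin 6) (.split 0 (-84)
    (.lin 7) (.split 1 124 (.split 2 (-45) (.lin 9) (.split 1 88 (.split 5 (-8) (.split 1 60
    (.lin 8) (.split 2 (-17) (.splitN 378333 (.wt 6) (.split 4 (-33) (.wt 0) (.split 2 (-27)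
    (.lin 10) (.split 7 (-33) (.wt 0) (.split 1 70 (.split 6 53 (.splitN 1003981 (.wt 1) (.wt 0))
    (.lin 6)) (.lin 2)))))) (.lin 10))) (.split 6 51 (.split 4 (-30) (.lin 6) (.split 0 (-57)
    (.lin 7) (.split 7 (-38) (.lin 1) (.wt 2)))) (.wt 2))) (.lin 11))) (.lin 8)))) (.split 4
    (-29) (.split 0 (-83) (.split 2 (-26) (.split 1 96 (.lin 11) (.split 5 (-8) (.split 6 104
    (.wt 2) (.split 4 (-56) (.split 0 (-110) (.split 2 (-53) (.splitN 711446 (.split 2 (-3947)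
    (.div 2) (.split 0 (-3999) (.lin 1) (.split 1 4012 (.split 6 3995 (.splitN 326567 (.split 2
    (-1805) (.div 2) (.split 0 (-1857) (.lin 1) (.split 1 1870 (.split 6 1853 (.splitN 71891 (.wt
    6) (.split 7 (-50) (.wt 0) (.split 2 (-62) (.split 4 (-65) (.splitN 274436 (.split 2 (-1517)
    (.div 2) (.split 0 (-1560) (.lin 1) (.split 1 1573 (.split 6 1556 (.splitN 77778 (.wt 6)
    (.split 7 (-45) (.wt 0) (.split 2 (-71) (.split 4 (-74) (.splitN 246673 (.split 2 (-1355)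
    (.div 2) (.split 0 (-1389) (.lin 1) (.split 6 1385 (.split 0 (-248) (.wt 2) (.split 6 242
    (.wt 2) (.lin 7))) (.lin 7)))) (.wt 3)) (.lin 6)) (.lin 1)))) (.lin 7)) (.lin 2)))) (.wt 3))
    (.lin 6)) (.lin 1)))) (.lin 7)) (.lin 2)))) (.wt 3)) (.lin 7)) (.lin 2)))) (.wt 0)) (.lin 9))
    (.lin 7)) (.lin 6))) (.split 4 (-38) (.splitN 72058 (.split 0 (-2001) (.div 0) (.split 2
    (-1962) (.lin 1) (.split 1 2032 (.split 4 (-3909) (.lin 0) (.split 2 (-401) (.div 2) (.split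
    0 (-462) (.lin 1) (.wt 2)))) (.lin 2)))) (.wt 1)) (.lin 6)))) (.lin 9)) (.lin 7)) (.lin
    6))))))

theorem check5_70 :
    check task5 cert5_70
      [(7, ⟨none, some (-47)⟩), (7, ⟨some (52), none⟩), (1, ⟨none, some (-8)⟩), (7, ⟨some (7), some (16)⟩), (7, ⟨none, some (-20)⟩), (5, ⟨none, some (-4)⟩), (8, ⟨some (35), none⟩), (8, ⟨none, some (-28)⟩)] ⟨some (13680), none⟩ = true := by
  decide +kernel

def cert5_71 : Cert :=
  (.lin 2)

theorem check5_71 :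
    check task5 cert5_71
      [(7, ⟨none, some (-47)⟩), (7, ⟨some (52), some (52)⟩), (1, ⟨none, some (-8)⟩), (7, ⟨some (25), none⟩), (7, ⟨none, some (-20)⟩), (5, ⟨none, some (-4)⟩), (8, ⟨some (35), none⟩), (8, ⟨none, some (-28)⟩)] ⟨some (13680), none⟩ = true := by
  decide +kernel

def cert5_72 : Cert :=
  (.wt 3)

theorem check5_72 :
    check task5 cert5_72
      [(7, ⟨none, some (-47)⟩), (7, ⟨some (61), none⟩), (1, ⟨none, some (-8)⟩), (7, ⟨some (25), none⟩), (7, ⟨none, some (-20)⟩), (5, ⟨none, some (-4)⟩), (8, ⟨some (35), none⟩), (8, ⟨none, some (-28)⟩)] ⟨some (13680), some (26640)⟩ = true := by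
  decide +kernel

def cert5_73 : Cert :=
  (.lin 4)

theorem check5_73 :
    check task5 cert5_73
      [(7, ⟨none, some (-47)⟩), (7, ⟨some (61), some (61)⟩), (1, ⟨none, some (-8)⟩), (7, ⟨some (25), none⟩), (7, ⟨none, some (-20)⟩), (5, ⟨none, some (-22)⟩), (8, ⟨some (35), none⟩), (8, ⟨none, some (-28)⟩)] ⟨some (29880), none⟩ = true := by
  decide +kernel

def cert5_74 : Cert :=
  (.wt 1)

theorem check5_74 :
    check task5 cert5_74
      [(7, ⟨none, some (-47)⟩), (7, ⟨some (70), none⟩), (1, ⟨none, some (-8)⟩), (7, ⟨some (25), none⟩), (7, ⟨none, some (-20)⟩), (5, ⟨none, some (-22)⟩), (8, ⟨some (35), none⟩), (8, ⟨none, some (-28)⟩)] ⟨some (29880), some (33120)⟩ = true := by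
  decide +kernel

def cert5_75_0 : Cert :=
  (.split 6 107 (.split 0 (-120) (.lin 7) (.split 2 (-45) (.lin 9) (.split 1 142 (.split 5 (-59)
    (.lin 4) (.split 7 (-101) (.lin 6) (.split 4 (-29) (.split 5 (-50) (.lin 6) (.split 1 114
    (.lin 8) (.split 2 (-17) (.split 0 (-92) (.split 7 (-92) (.lin 6) (.splitN 165059 (.splitN
    137531 (.split 3 25 (.wt 2) (.split 5 (-36) (.split 0 (-102) (.lin 4) (.split 1 132 (.lin 8)
    (.split 2 (-35) (.split 7 (-74) (.lin 2) (.split 6 97 (.lin 6) (.splitN 122602 (.split 4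
    (-34) (.split 5 (-41) (.lin 6) (.split 1 141 (.lin 8) (.split 2 (-44) (.split 0 (-101)
    (.split 6 106 (.lin 0) (.split 7 (-65) (.lin 1) (.splitN 103766 (.wt 0) (.wt 0)))) (.lin 12))
    (.lin 10)))) (.split 6 106 (.split 0 (-93) (.lin 3) (.split 2 (-36) (.lin 9) (.split 1 133
    (.split 5 (-41) (.lin 0) (.split 7 (-65) (.lin 1) (.wt 0))) (.lin 11)))) (.wt 2))) (.wt 1))))
    (.lin 10)))) (.split 7 (-78) (.split 1 132 (.lin 2) (.split 2 (-27) (.lin 9) (.split 0 (-110)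
    (.split 6 97 (.lin 6) (.splitN 100113 (.split 4 (-34) (.split 5 (-23) (.lin 6) (.split 1 141
    (.lin 8) (.split 2 (-26) (.split 0 (-119) (.split 6 106 (.lin 0) (.split 7 (-83) (.lin 1)
    (.splitN 83422 (.wt 0) (.wt 0)))) (.lin 12)) (.lin 10)))) (.split 5 (-24) (.split 0 (-111)
    (.lin 4) (.split 1 141 (.lin 8) (.split 2 (-26) (.split 6 106 (.lin 0) (.split 7 (-83) (.lin
    1) (.wt 0))) (.lin 10)))) (.wt 2))) (.wt 3))) (.lin 12)))) (.split 6 93 (.split 0 (-102)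
    (.lin 7) (.split 2 (-27) (.lin 9) (.split 1 124 (.split 4 (-34) (.split 5 (-23) (.lin 6)
    (.split 1 123 (.lin 8) (.split 2 (-26) (.split 0 (-101) (.split 6 88 (.lin 0) (.split 7 (-65)
    (.lin 1) (.splitN 100515 (.wt 0) (.wt 0)))) (.lin 12)) (.lin 10)))) .cand) (.lin 11))))
    (.split 2 (-26) (.split 5 (-24) .cand (.wt 2)) (.lin 9)))))) (.wt 3)) (.wt 0))) (.lin 12))
    (.lin 10)))) (.split 3 29 (.split 2 (-17) (.split 1 133 (.split 5 (-35) (.wt 2) (.split 2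
    (-27) (.lin 10) (.split 6 85 (.wt 2) (.split 1 114 (.lin 11) (.split 7 (-78) (.split 0 (-101)
    (.wt 2) (.lin 12)) (.split 0 (-93) (.lin 12) (.split 6 98 (.splitN 113076 (.wt 1) (.split 5
    (-28) (.wt 2) (.split 0 (-92) (.split 1 115 (.split 2 (-18) (.lin 10) (.split 6 89 (.split 7
    (-73) (.wt 0) (.lin 1)) (.lin 0))) (.lin 8)) (.lin 4)))) (.lin 3)))))))) (.lin 11)) (.lin
    10)) (.split 7 (-82) (.split 2 (-27) (.lin 9) (.split 0 (-101) (.split 6 88 (.lin 3) (.split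
    5 (-41) (.lin 4) (.split 5 (-28) (.split 0 (-111) (.lin 4) (.split 1 132 (.lin 8) (.split 2
    (-17) (.split 7 (-92) (.lin 2) (.split 6 97 (.lin 3) (.splitN 125352 (.wt 0) (.wt 1)))) (.lin
    10)))) (.wt 2)))) (.lin 12))) (.split 0 (-93) (.lin 12) (.split 5 (-27) (.split 2 (-17)
    (.split 6 79 (.lin 3) (.split 0 (-85) (.split 2 (-36) (.lin 3) (.split 5 (-50) (.lin 1)
    (.split 6 88 (.lin 3) (.split 1 123 (.lin 11) (.split 7 (-73) (.splitN 162886 (.wt 0) (.wt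
    1)) (.lin 12)))))) (.wt 2))) (.lin 10)) (.wt 2)))))))) (.lin 11)))) (.split 1 141 (.lin 11)
    (.split 7 (-100) (.split 2 (-45) (.lin 9) (.split 0 (-119) (.split 5 (-59) (.lin 4) (.split 4
    (-29) (.split 5 (-50) (.lin 6) (.split 2 (-17) (.splitN 92591 (.split 3 26 (.wt 2) .cand)
    (.wt 3)) (.lin 10))) (.split 3 29 (.split 2 (-17) (.split 1 169 (.split 7 (-128) (.lin 2)
    (.splitN 98385 (.split 5 (-47) (.wt 1) (.split 2 (-36) (.lin 10) (.split 0 (-137) (.wt 2)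
    (.split 7 (-110) (.lin 12) (.split 5 (-35) (.wt 1) (.split 1 160 (.split 2 (-27) (.lin 10)
    (.split 6 134 (.splitN 93291 (.wt 6) (.wt 4)) (.lin 3))) (.lin 4))))))) (.wt 0))) (.lin 11))
    (.lin 10)) (.split 5 (-33) (.split 0 (-138) (.lin 4) (.split 2 (-26) (.split 7 (-119) (.lin
    2) (.split 6 124 (.lin 3) (.wt 2))) (.lin 10))) (.wt 2))))) (.lin 12))) (.split 2 (-17)
    (.split 2 (-26) (.split 0 (-129) (.lin 12) (.split 4 (-29) (.split 5 (-86) (.lin 6) (.split 0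
    (-92) (.split 3 29 (.split 1 169 (.splitN 73767 (.wt 1) (.split 4 (-38) (.wt 2) (.split 5
    (-29) (.wt 2) (.split 0 (-119) (.split 1 142 (.split 2 (-27) (.lin 10) (.split 6 116 (.split
    7 (-91) (.wt 0) (.lin 1)) (.lin 0))) (.lin 8)) (.lin 4))))) (.lin 11)) (.split 1 150 (.lin
    11) (.splitN 135521 (.split 5 (-24) (.split 7 (-78) (.split 2 (-63) (.lin 2) (.split 0 (-110)
    (.split 5 (-68) (.lin 4) (.split 5 (-49) (.split 2 (-44) (.split 6 124 (.lin 6) (.splitN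
    102714 (.split 4 (-34) (.split 0 (-119) (.wt 2) (.lin 12)) .cand) (.wt 1))) (.lin 10))
    (.split 2 (-54) (.lin 1) (.split 1 169 (.split 2 (-45) (.lin 10) (.split 6 134 (.split 4
    (-34) (.split 2 (-35) (.split 0 (-119) (.split 5 (-40) (.wt 2) (.split 1 160 (.split 2 (-36)
    (.lin 10) (.split 6 125 (.splitN 79737 (.wt 1) (.split 7 (-88) (.wt 0) (.split 1 151 (.split
    6 116 (.wt 2) (.lin 0)) (.lin 2)))) (.lin 0))) (.lin 4))) (.lin 12)) (.lin 10)) (.split 6 125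
    (.split 2 (-36) (.lin 10) (.split 0 (-120) (.lin 12) (.split 5 (-36) (.split 2 (-35) (.split
    0 (-111) (.split 7 (-91) (.split 1 159 (.lin 2) (.split 6 124 (.lin 0) (.splitN 92378 (.wt 0)
    (.wt 0)))) (.lin 1)) (.wt 2)) (.lin 10)) (.wt 2)))) (.lin 6))) (.lin 6))) (.lin 8))))) (.lin
    12))) (.split 2 (-44) (.split 0 (-111) (.lin 12) (.splitN 86650 (.wt 0) (.split 4 (-34) .cand
    (.split 0 (-102) (.lin 12) (.splitN 117720 (.split 6 138 (.split 1 169 (.split 5 (-77) (.lin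
    4) (.wt 2)) (.lin 11)) (.wt 0)) (.wt 6)))))) (.lin 2))) (.wt 2)) (.wt 1)))) (.lin 12)))
    (.split 5 (-31) (.split 0 (-111) (.lin 12) (.split 3 32 (.split 5 (-86) (.lin 6) (.split 1
    169 (.split 7 (-78) (.split 0 (-101) (.splitN 116089 (.split 5 (-60) (.wt 1) (.split 2 (-54)
    (.lin 10) (.split 5 (-57) (.wt 1) (.split 1 160 (.split 2 (-45) (.lin 10) (.split 6 134
    (.splitN 109970 (.wt 6) (.wt 4)) (.lin 3))) (.lin 4))))) (.wt 0)) (.lin 12)) (.split 0 (-93)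
    (.lin 12) (.split 5 (-49) (.split 6 129 (.split 2 (-63) (.lin 3) (.split 1 151 (.split 0
    (-89) (.wt 2) (.split 2 (-53) (.split 5 (-58) (.split 7 (-65) (.lin 12) (.splitN 150823 (.wt
    1) (.wt 0))) (.lin 1)) (.lin 3))) (.lin 11))) (.split 2 (-62) (.split 1 159 (.lin 11) (.split
    5 (-67) (.splitN 130877 (.wt 1) (.splitN 160399 (.split 7 (-73) (.wt 0) (.split 2 (-71)
    (.split 0 (-84) (.lin 12) (.split 5 (-76) (.splitN 154167 (.wt 0) (.split 6 142 (.split 1 160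
    (.wt 0) (.lin 11)) (.wt 0))) (.lin 1))) (.lin 2))) (.wt 3))) (.lin 4))) (.lin 3))) (.lin
    4)))) (.lin 11))) (.wt 2))) (.lin 6)))) (.lin 9)) (.lin 2)))))

def cert5_75_1 : Cert :=
  (.split 4 (-47) (.split 5 (-86) (.lin 6) (.split 1 132 (.lin 8) (.split 2 (-17) (.split 0
    (-110) (.split 6 79 (.lin 6) (.split 7 (-96) (.split 1 168 (.lin 8) (.split 0 (-146) (.split
    5 (-50) (.lin 4) (.split 6 115 (.lin 6) (.splitN 78164 .sq (.split 5 (-31) (.split 1 177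
    (.lin 8) (.split 2 (-26) (.split 6 124 (.lin 6) (.splitN 84320 .sq (.wt 1))) (.lin 10))) (.wt
    1))))) (.lin 12))) (.split 6 111 (.split 4 (-75) (.lin 6) (.split 0 (-138) (.lin 7) (.split 2
    (-45) (.lin 9) (.split 1 160 (.split 5 (-50) (.lin 4) (.split 5 (-36) (.split 1 150 (.lin 8)
    (.split 2 (-35) (.split 4 (-57) (.lin 6) (.split 6 97 (.lin 6) (.split 7 (-74) (.lin 6)
    (.splitN 102410 (.split 3 46 (.split 4 (-48) (.lin 6) (.split 2 (-44) (.split 1 151 (.split 7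
    (-65) (.lin 2) (.split 5 (-41) (.lin 1) (.split 6 106 (.lin 0) (.wt 0)))) (.lin 11)) (.lin
    10))) (.wt 2)) (.wt 1))))) (.lin 10))) (.splitN 108564 (.split 7 (-78) (.split 1 150 (.lin 8)
    (.split 2 (-27) (.lin 9) (.split 0 (-128) (.split 4 (-57) (.lin 6) (.split 6 97 (.lin 6)
    (.splitN 86705 (.split 3 47 (.split 4 (-48) (.lin 6) (.split 2 (-26) (.split 1 151 (.split 7
    (-83) (.lin 2) (.split 5 (-23) (.lin 1) (.split 6 106 (.lin 0) (.wt 0)))) (.lin 11)) (.lin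
    10))) (.wt 2)) (.wt 1)))) (.lin 12)))) (.split 6 93 (.split 4 (-57) (.lin 6) (.split 0 (-120)
    (.lin 7) (.split 2 (-27) (.lin 9) (.split 3 50 (.split 4 (-48) (.lin 6) (.split 2 (-26)
    (.split 1 133 (.split 7 (-65) (.lin 2) (.split 5 (-23) (.lin 1) (.split 6 88 (.lin 0) (.wt
    0)))) (.lin 11)) (.lin 10))) (.wt 2))))) (.split 2 (-26) (.split 1 141 (.lin 11) (.split 3 46
    (.split 4 (-66) (.lin 6) (.split 0 (-129) (.lin 7) (.splitN 88084 (.split 4 (-55) (.split 2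
    (-35) (.split 7 (-68) (.split 1 150 (.lin 2) (.split 2 (-36) (.lin 9) (.split 0 (-128)
    (.split 5 (-23) (.lin 1) (.split 4 (-57) (.lin 5) (.split 6 106 (.lin 0) (.wt 0)))) (.lin
    12)))) (.wt 0)) (.lin 10)) (.wt 0)) (.wt 6)))) (.wt 2))) (.lin 9)))) (.wt 1)))) (.lin 11)))))
    (.split 2 (-26) (.split 1 159 (.lin 11) (.splitN 111700 (.split 5 (-44) (.split 0 (-147)
    (.lin 4) (.split 2 (-44) (.split 4 (-84) (.lin 6) (.split 7 (-78) (.split 1 177 (.lin 8)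
    (.split 0 (-128) (.split 5 (-68) (.lin 4) (.split 4 (-66) (.lin 6) (.split 6 124 (.lin 6)
    (.splitN 78812 .sq (.split 3 49 (.split 4 (-57) (.lin 6) (.split 0 (-138) (.lin 7) (.split 2
    (-53) (.split 5 (-59) (.lin 6) (.split 6 133 (.lin 6) (.wt 6))) (.lin 10)))) (.wt 2))))))
    (.lin 12))) (.split 4 (-65) (.split 5 (-68) (.lin 6) (.split 2 (-62) (.split 6 124 (.lin 6)
    (.split 3 47 (.split 4 (-75) (.lin 6) (.split 0 (-138) (.lin 7) (.split 5 (-59) (.lin 6)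
    (.split 6 133 (.lin 6) (.wt 2))))) (.wt 2))) (.lin 10))) (.split 0 (-129) (.lin 12) (.split 3
    45 (.split 5 (-77) (.lin 6) (.split 2 (-53) (.split 0 (-112) (.split 5 (-68) (.lin 7) (.split
    6 124 (.lin 7) (.wt 2))) (.wt 2)) (.lin 10))) (.wt 2)))))) (.lin 10))) (.split 7 (-78)
    (.split 0 (-128) (.split 4 (-93) (.lin 6) (.splitN 67382 .sq (.split 5 (-23) (.split 0 (-165)
    (.lin 4) (.split 4 (-84) (.lin 6) (.split 3 51 .cand (.wt 2)))) (.wt 6)))) (.lin 12)) (.split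
    2 (-35) (.split 2 (-44) (.split 3 49 (.split 0 (-165) (.lin 7) (.split 5 (-28) (.split 4
    (-93) (.lin 6) (.split 0 (-156) (.lin 7) (.split 4 (-59) (.split 2 (-53) (.split 6 132
    (.split 4 (-75) (.lin 6) (.split 0 (-138) (.lin 7) (.splitN 82019 (.split 4 (-69) (.split 5
    (-32) (.lin 6) (.split 1 168 (.lin 8) (.split 2 (-62) (.split 6 124 (.lin 0) (.split 7 (-65)
    (.lin 1) (.wt 0))) (.lin 10)))) (.wt 0)) (.wt 6)))) (.wt 2)) (.lin 10)) (.wt 2)))) (.wt 2)))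
    (.wt 2)) (.lin 9)) (.lin 2)))) (.wt 1))) (.lin 9))))) (.lin 12)) (.lin 10)))) (.split 6 107
    (.split 0 (-138) (.lin 3) (.split 1 160 (.split 5 (-77) (.lin 4) (.split 7 (-101) (.lin 9)
    (.split 4 (-29) (.split 5 (-68) (.lin 6) (.split 5 (-39) (.split 0 (-120) (.lin 4) (.split 1
    132 (.lin 8) (.split 2 (-17) (.split 6 79 (.lin 6) (.split 7 (-92) (.lin 6) (.split 7 (-78)
    (.split 1 141 (.lin 2) (.split 1 150 (.lin 8) (.split 2 (-27) (.lin 9) (.split 0 (-110)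
    (.split 5 (-50) (.lin 4) (.split 6 97 (.lin 6) (.splitN 105871 (.split 3 45 (.split 4 (-30)
    (.lin 6) (.split 2 (-26) (.split 1 151 (.split 7 (-83) (.lin 2) (.split 5 (-41) (.lin 1)
    (.split 6 106 (.lin 0) (.wt 0)))) (.lin 11)) (.lin 10))) (.wt 2)) (.wt 1)))) (.lin 12)))))
    (.split 0 (-111) (.lin 12) (.split 6 99 (.split 5 (-59) (.lin 6) (.split 3 51 (.split 5 (-50)
    (.lin 6) (.split 0 (-102) (.lin 7) (.split 6 88 (.lin 6) (.wt 2)))) (.wt 2))) (.wt 2))))))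
    (.lin 10)))) (.split 7 (-82) (.split 1 132 (.lin 2) (.split 6 88 (.lin 9) (.split 3 49
    (.split 1 151 (.split 5 (-23) (.split 0 (-120) (.lin 4) (.split 2 (-17) (.split 7 (-92) (.lin
    1) (.split 6 97 (.lin 6) (.wt 2))) (.lin 10))) (.wt 2)) (.lin 11)) (.wt 2)))) (.split 0
    (-111) (.lin 12) (.split 3 51 (.split 6 85 (.split 0 (-102) (.lin 7) (.split 2 (-18) (.lin 9)
    (.split 1 124 (.splitN 154428 (.split 4 (-34) (.split 5 (-23) (.lin 6) (.split 1 123 (.lin 8)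
    (.split 2 (-17) (.split 0 (-101) (.split 6 79 (.lin 0) (.split 7 (-65) (.lin 1) (.splitN
    126843 (.wt 0) (.wt 0)))) (.lin 12)) (.lin 10)))) (.split 0 (-95) (.split 2 (-9) (.lin 3)
    (.split 5 (-23) (.lin 1) (.split 7 (-73) (.split 1 123 (.lin 2) (.split 6 79 (.lin 0) (.wt
    0))) (.lin 1)))) (.wt 2))) (.wt 1)) (.lin 11)))) (.wt 2)) (.wt 2)))))) (.split 0 (-120) (.lin
    3) (.split 5 (-32) (.split 1 123 (.lin 4) (.split 3 51 (.split 5 (-68) (.lin 6) (.split 2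
    (-17) (.split 1 151 (.split 7 (-92) (.lin 2) (.split 6 79 (.lin 3) (.wt 2))) (.lin 11)) (.lin
    10))) (.wt 2))) (.wt 2)))))) (.lin 11))) (.split 1 159 (.lin 11) (.split 5 (-26) (.split 4
    (-21) (.split 5 (-104) (.lin 6) (.split 7 (-100) (.split 2 (-45) (.lin 9) (.split 0 (-128)
    (.split 5 (-68) (.lin 4) (.split 2 (-19) (.split 0 (-156) (.lin 3) (.split 7 (-128) (.lin 2)
    (.split 6 124 (.lin 9) (.split 7 (-119) (.lin 9) (.split 3 46 (.split 5 (-59) (.lin 6)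
    (.split 4 (-32) (.split 5 (-50) (.lin 6) (.splitN 83032 (.split 7 (-101) (.split 1 177 (.lin
    2) (.split 0 (-146) (.split 6 133 (.lin 3) .sq) (.lin 12))) (.wt 0)) (.wt 1))) (.wt 2))) (.wt
    2)))))) (.split 5 (-41) (.lin 10) (.split 3 49 (.split 7 (-128) (.lin 6) (.split 0 (-156)
    (.lin 7) (.split 2 (-17) (.split 4 (-30) (.lin 10) (.split 5 (-32) (.lin 10) (.splitN 89108
    (.wt 0) (.wt 1)))) (.lin 10)))) (.wt 2))))) (.lin 12))) (.split 2 (-26) (.split 0 (-129)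
    (.lin 12) (.split 0 (-113) (.split 5 (-77) (.lin 4) (.splitN 95543 (.split 3 48 (.split 5
    (-68) (.lin 7) (.splitN 89699 (.wt 4) (.wt 6))) (.wt 0)) (.wt 6))) (.wt 2))) (.lin 9)))) (.wt
    2)) (.wt 2)))))

def cert5_75_2 : Cert :=
  (.split 7 (-116) (.split 0 (-137) (.split 5 (-563) (.lin 4) (.splitN 89054 .sq (.splitN 168210
    (.split 1 329 (.split 2 (-180) (.lin 2) (.split 5 (-329) (.lin 0) (.split 6 296 (.splitN
    151722 (.split 4 (-38) (.wt 5) (.split 1 303 (.split 5 (-158) (.lin 4) (.split 6 269 (.split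
    5 (-59) (.split 1 204 (.lin 8) (.split 2 (-53) (.split 6 169 (.lin 6) (.splitN 111941 .sq
    (.split 3 28 (.wt 0) (.wt 1)))) (.lin 10))) (.split 3 29 (.split 2 (-17) (.split 4 (-23) (.wt
    0) (.split 2 (-54) (.lin 10) (.split 7 (-151) (.wt 0) (.split 1 223 (.split 0 (-165) (.lin
    12) (.split 6 197 (.split 2 (-36) (.wt 0) (.split 1 205 (.split 6 179 (.wt 5) (.lin 3)) (.lin
    2))) (.lin 3))) (.lin 2))))) (.lin 10)) (.splitN 127373 (.split 1 263 (.split 5 (-40) (.split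
    2 (-26) (.split 4 (-27) (.wt 1) (.split 7 (-166) (.wt 1) (.split 0 (-183) (.lin 12) (.wt
    2)))) (.lin 10)) (.split 0 (-155) (.split 7 (-127) (.splitN 97046 .sq (.splitN 105468 (.split
    2 (-11) (.wt 1) (.split 0 (-164) (.split 7 (-145) .sq (.lin 1)) (.lin 3))) (.wt 1))) (.lin
    6)) (.lin 7))) .sq) (.wt 1)))) (.lin 11))) .sq)) (.wt 3)) (.lin 11)))) .sq) (.wt 3)))) (.lin
    12)) (.split 2 (-35) (.split 2 (-44) (.split 0 (-147) (.lin 12) (.split 5 (-31) (.splitN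
    220235 (.split 1 424 (.split 2 (-333) (.lin 2) (.split 5 (-392) (.lin 1) (.split 5 (-338)
    (.lin 4) (.split 6 395 (.split 4 (-29) (.split 0 (-92) (.splitN 163641 (.split 1 350 (.split
    2 (-261) (.lin 2) (.split 5 (-311) (.lin 1) (.split 5 (-257) (.lin 4) (.split 6 323 (.split 3
    29 (.splitN 126853 (.split 1 289 (.split 2 (-198) (.lin 2) (.split 6 260 (.split 5 (-115)
    (.wt 2) (.split 2 (-126) (.lin 10) (.split 6 242 (.split 5 (-88) (.wt 2) (.split 1 232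
    (.split 2 (-99) (.lin 10) (.split 6 215 (.split 0 (-145) (.wt 2) (.split 5 (-40) (.split 6
    197 (.splitN 88467 (.wt 6) (.split 7 (-80) (.wt 0) (.split 0 (-111) (.lin 12) (.split 5 (-67)
    (.split 6 170 (.wt 2) (.lin 6)) (.lin 4))))) (.lin 7)) (.lin 4))) (.lin 3))) (.lin 4))) (.lin
    3)))) (.lin 11))) .sq) (.wt 3)) (.split 5 (-40) (.splitN 135060 (.split 1 303 (.split 5
    (-203) (.lin 4) (.split 7 (-87) (.split 0 (-119) (.split 5 (-176) (.lin 4) (.splitN 82763 .sq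
    (.splitN 103585 (.split 1 223 (.split 5 (-104) (.lin 4) (.split 5 (-72) (.split 1 195 (.lin
    8) (.split 2 (-71) (.split 6 160 (.lin 6) (.splitN 99593 .sq (.wt 1))) (.lin 10))) (.splitN
    94673 (.split 1 200 (.split 6 161 (.split 4 (-38) (.wt 3) .cand) (.lin 11)) .sq) (.wt 1))))
    .sq) (.wt 1)))) (.lin 12)) (.split 2 (-71) (.split 0 (-120) (.lin 12) (.split 5 (-67)
    (.splitN 78875 .sq (.split 6 211 (.split 1 241 (.split 7 (-73) (.split 0 (-101) (.split 5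
    (-140) (.lin 4) (.split 4 (-34) .cand (.wt 2))) (.lin 12)) (.split 0 (-102) (.lin 12) (.wt
    2))) (.lin 11)) (.wt 2))) (.lin 6))) (.lin 9)))) .sq) (.wt 1)) (.lin 6))) (.lin 11))))) .sq)
    (.wt 1)) (.lin 12)) (.split 5 (-49) (.split 0 (-129) (.lin 12) (.split 3 32 (.split 7 (-87)
    (.split 0 (-110) (.splitN 122678 (.split 6 172 (.wt 2) (.split 1 204 (.lin 11) (.split 5
    (-76) (.split 6 209 (.wt 2) (.split 2 (-107) (.split 1 240 (.lin 11) (.split 5 (-112) .sq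
    (.lin 4))) (.lin 3))) (.lin 4)))) (.wt 3)) (.lin 12)) (.split 2 (-71) (.split 0 (-102) (.lin
    12) (.split 5 (-76) (.split 6 280 (.split 2 (-216) (.lin 3) (.split 1 304 (.split 5 (-221)
    (.lin 4) (.split 6 263 (.split 2 (-198) (.lin 3) (.split 1 286 (.split 5 (-203) (.lin 4)
    (.split 7 (-73) (.split 0 (-92) (.splitN 149490 (.split 6 206 (.split 1 232 (.split 5 (-140)
    (.lin 4) (.split 6 153 (.wt 2) (.split 2 (-80) (.split 5 (-85) (.split 6 183 (.split 1 205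
    (.split 5 (-113) (.lin 4) (.splitN 118977 (.wt 1) (.split 7 (-82) (.wt 0) (.split 5 (-94)
    (.split 0 (-93) (.lin 12) (.split 6 166 (.wt 2) (.split 2 (-98) (.split 5 (-103) (.split 6
    170 (.wt 2) (.wt 2)) (.lin 1)) (.lin 3)))) (.lin 6))))) (.lin 11)) (.split 2 (-107) (.split 1
    213 (.lin 11) (.split 5 (-103) (.split 5 (-112) (.splitN 119951 .sq (.splitN 138675 (.split 7
    (-78) (.split 0 (-101) (.wt 0) (.lin 12)) (.split 0 (-93) (.lin 12) (.wt 0))) (.wt 1))) (.lin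
    4)) (.lin 1))) (.lin 3))) (.lin 6)) (.lin 3)))) (.lin 11)) (.split 2 (-134) (.split 1 240
    (.lin 11) (.split 5 (-139) .sq (.lin 4))) (.lin 3))) (.wt 3)) (.lin 12)) (.split 2 (-89)
    (.split 0 (-84) (.lin 12) (.splitN 171152 (.split 1 228 (.split 2 (-135) (.lin 2) (.split 5
    (-140) (.lin 1) (.wt 2))) (.wt 0)) (.wt 1))) (.lin 2)))) (.lin 11))) (.wt 2))) (.lin 11)))
    (.wt 2)) (.lin 4))) (.lin 2))) (.wt 2))) (.lin 6))) (.lin 11))))) .sq) (.wt 1)) (.lin 4)))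
    (.lin 9)) (.lin 2)))

def cert5_75_3 : Cert :=
  (.split 0 (-742) .sq (.split 1 757 (.split 5 (-671) (.lin 4) (.split 4 (-117) (.split 1 204
    (.lin 8) (.split 2 (-89) (.split 0 (-182) (.splitN 125540 .sq (.wt 3)) (.lin 12)) (.lin 10)))
    (.split 7 (-215) (.split 1 249 (.lin 2) (.split 0 (-236) (.split 6 223 (.lin 9) (.splitN
    217034 .sq (.wt 1))) (.lin 12))) (.split 0 (-318) (.lin 12) (.splitN 538186 (.split 1 706
    (.split 2 (-612) (.lin 2) (.split 5 (-617) (.lin 4) (.split 6 674 (.split 3 38 (.split 4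
    (-47) (.split 2 (-35) (.split 0 (-110) (.splitN 75527 .sq (.splitN 124397 (.split 7 (-122)
    (.wt 3) (.split 1 282 (.split 2 (-189) (.lin 2) (.split 5 (-167) (.lin 4) (.split 6 305
    (.split 6 251 (.splitN 112639 (.split 7 (-105) (.wt 3) (.split 2 (-53) (.split 1 255 (.split
    5 (-140) (.lin 4) (.split 6 224 (.split 7 (-100) (.wt 3) (.split 2 (-62) (.split 5 (-56)
    (.split 2 (-71) (.splitN 82223 .sq (.splitN 107496 (.split 3 25 (.wt 0) (.split 1 230 (.split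
    6 188 (.split 7 (-82) (.wt 5) (.split 2 (-80) (.split 7 (-69) (.split 0 (-119) (.splitN 93260
    (.split 4 (-59) (.wt 0) (.split 6 156 (.wt 2) (.split 5 (-67) (.split 2 (-89) (.split 1 195
    (.lin 11) .sq) (.lin 9)) (.lin 6)))) (.wt 0)) (.lin 12)) .cand) (.lin 9))) (.lin 11)) .sq))
    (.wt 3))) (.lin 10)) (.split 0 (-128) (.splitN 82430 .sq (.split 4 (-100) (.wt 3) (.split 6
    206 (.split 1 232 (.split 7 (-91) (.wt 0) (.split 2 (-71) (.split 3 25 (.wt 0) (.split 4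
    (-56) (.split 0 (-137) (.split 6 188 (.split 7 (-79) (.wt 0) (.split 4 (-65) (.splitN 89918
    .sq (.wt 3)) (.lin 6))) (.lin 6)) (.lin 7)) (.lin 6))) (.lin 9))) (.lin 8)) (.lin 6)))) (.lin
    4))) (.lin 9))) (.lin 11))) .sq) (.lin 9))) (.wt 3)) (.lin 11)) (.lin 9)))) .sq)) (.wt 3)))
    (.lin 12)) (.lin 10)) (.split 0 (-246) (.lin 12) cert5_75_2)) (.split 1 195 (.lin 11)
    (.splitN 268505 (.split 1 479 (.split 5 (-392) (.lin 4) (.split 4 (-47) (.split 5 (-365)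
    (.lin 8) (.split 2 (-17) (.split 0 (-110) (.splitN 82547 .sq (.split 7 (-148) (.wt 1) (.split
    0 (-255) (.lin 12) (.split 7 (-144) (.wt 1) (.split 5 (-28) (.split 2 (-26) (.split 7 (-125)
    (.wt 1) (.split 2 (-35) (.split 0 (-228) (.lin 12) (.split 7 (-117) (.wt 1) (.split 2 (-44)
    (.splitN 113525 (.split 5 (-35) (.split 6 391 (.split 5 (-329) (.lin 6) (.split 0 (-195) .sq
    (.split 7 (-109) (.wt 1) (.split 2 (-53) (.split 5 (-41) (.split 1 249 (.split 5 (-131) (.lin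
    4) (.split 6 197 (.splitN 104150 (.split 7 (-94) (.wt 1) (.split 2 (-62) (.split 0 (-159) .sq
    (.split 4 (-93) (.lin 12) (.split 7 (-90) (.wt 1) (.split 2 (-71) (.splitN 89216 .sq (.split
    7 (-77) (.wt 1) (.split 2 (-80) (.split 5 (-50) (.split 0 (-117) (.split 5 (-122) (.lin 4)
    (.split 3 46 (.split 4 (-59) (.split 5 (-113) (.lin 6) (.splitN 97838 .sq (.wt 1))) (.wt 2))
    (.wt 2))) (.wt 2)) (.wt 1)) (.lin 9)))) (.lin 9))))) (.lin 9))) (.wt 1)) (.lin 11))) .sq)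
    (.wt 6)) (.lin 9))))) (.wt 6)) (.wt 6)) (.wt 1)) (.lin 9)))) (.lin 9))) (.lin 10)) (.wt
    6)))))) (.lin 12)) (.lin 10))) (.split 0 (-246) (.lin 12) (.split 7 (-116) (.split 0 (-137)
    (.split 5 (-338) (.lin 4) (.splitN 97487 .sq (.splitN 139714 (.split 5 (-37) (.split 1 277
    (.split 5 (-140) (.lin 4) (.split 2 (-107) (.wt 1) (.split 5 (-131) (.lin 10) (.split 2 (-89)
    (.wt 1) (.split 5 (-113) (.lin 10) (.split 2 (-62) (.wt 1) (.split 5 (-86) (.lin 10) (.split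
    2 (-37) (.wt 1) (.split 5 (-68) (.lin 10) (.split 2 (-25) (.wt 1) (.split 0 (-155) (.split 7
    (-136) (.split 5 (-50) (.lin 10) (.splitN 107954 .sq (.wt 1))) (.lin 9)) (.lin 3))))))))))))
    .sq) (.wt 6)) (.wt 1)))) (.lin 12)) (.split 2 (-44) (.split 0 (-147) (.lin 12) (.split 5
    (-49) (.splitN 96350 (.split 4 (-29) (.split 7 (-84) (.split 0 (-119) (.splitN 90989 .sq
    (.split 5 (-72) (.split 2 (-53) .sq (.lin 10)) (.wt 1))) (.lin 12)) (.wt 0)) (.wt 0)) (.wt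
    6)) (.lin 4))) (.lin 9)))))) .sq) (.wt 1)))) (.lin 11)))) .sq) (.wt 1)))))) .sq))

def cert5_75_4 : Cert :=
  (.split 5 (-58) (.split 0 (-210) (.lin 4) (.split 1 177 (.lin 8) (.split 6 98 (.split 3 78
    (.lin 6) (.split 2 (-36) (.lin 9) (.split 1 241 (.split 5 (-122) (.lin 4) (.split 7 (-92)
    (.lin 9) (.split 7 (-78) (.split 3 96 (.lin 6) (.split 0 (-137) (.split 5 (-104) (.lin 4)
    (.split 4 (-102) (.lin 6) (.split 6 88 (.lin 9) (.split 0 (-150) (.split 4 (-65) (.split 1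
    213 (.lin 4) (.split 5 (-86) (.lin 4) (.split 3 114 (.lin 7) (.splitN 105344 .sq (.wt 1)))))
    (.lin 3)) (.wt 2))))) (.lin 12))) (.split 6 84 (.split 3 96 (.lin 6) (.split 0 (-165) (.lin
    7) (.split 2 (-18) (.lin 9) (.split 1 223 (.split 4 (-111) (.lin 0) (.split 4 (-102) (.lin 6)
    (.split 4 (-79) (.split 3 123 (.lin 6) (.split 0 (-146) (.split 5 (-77) (.lin 4) (.split 0
    (-151) (.split 5 (-68) (.lin 4) (.split 3 132 (.lin 7) (.wt 2))) (.wt 2))) (.lin 12)))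
    (.split 0 (-147) (.lin 3) (.split 3 118 (.split 5 (-77) (.lin 6) (.split 0 (-127) (.split 3
    105 (.lin 7) (.split 5 (-68) (.lin 7) (.wt 2))) (.wt 2))) (.wt 2)))))) (.lin 11))))) (.split
    2 (-17) (.split 0 (-137) (.split 5 (-113) (.lin 1) (.split 3 96 (.lin 7) (.wt 2))) (.wt 2))
    (.lin 9)))))) (.lin 11)))) (.split 3 115 (.split 5 (-122) (.lin 6) (.split 0 (-183) (.lin 7)
    (.split 3 102 (.split 4 (-102) (.lin 6) (.split 2 (-17) (.split 1 223 (.split 5 (-104) (.lin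
    4) (.split 7 (-110) (.lin 6) (.split 3 79 (.split 4 (-84) (.lin 6) (.split 0 (-147) (.lin 7)
    (.split 2 (-35) (.split 1 205 (.split 5 (-86) (.lin 4) (.split 7 (-92) (.lin 6) (.splitN
    81450 (.split 0 (-130) (.split 1 195 (.lin 4) (.split 6 115 (.lin 7) .sq)) (.wt 0)) (.wt
    6)))) (.lin 11)) (.lin 10)))) (.wt 2)))) (.lin 11)) (.lin 10))) (.wt 2)))) (.wt 2)))))
    (.split 6 98 (.split 0 (-210) (.lin 3) (.split 1 241 (.split 7 (-92) (.lin 9) (.split 3 101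
    (.split 0 (-174) (.lin 7) (.split 1 196 (.split 5 (-36) (.split 0 (-156) (.lin 4) (.split 1
    159 (.lin 8) (.split 4 (-93) (.lin 6) (.split 7 (-78) (.split 3 78 (.lin 6) (.split 4 (-75)
    (.lin 6) (.split 6 88 (.lin 9) (.wt 2)))) (.split 6 84 (.split 3 78 (.lin 6) (.split 0 (-138)
    (.lin 7) (.split 1 178 (.split 4 (-75) (.lin 6) (.split 3 88 (.split 4 (-66) (.lin 6) (.split
    0 (-129) (.lin 7) (.splitN 108963 (.wt 4) (.splitN 118826 (.split 2 (-16) (.wt 1) (.split 3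
    87 (.lin 10) (.split 4 (-57) (.lin 10) (.split 5 (-41) (.lin 10) (.wt 0))))) (.wt 6))))) (.wt
    2))) (.lin 11)))) (.split 2 (-17) (.split 0 (-133) (.split 3 78 (.lin 7) (.wt 2)) (.wt 2))
    (.lin 9))))))) (.split 7 (-78) (.split 1 159 (.lin 8) (.split 2 (-18) (.lin 9) (.split 0
    (-137) (.split 4 (-93) (.lin 6) (.split 6 88 (.lin 9) (.splitN 95241 (.split 3 67 (.split 0
    (-138) (.lin 7) (.split 2 (-17) (.split 1 160 (.split 7 (-83) (.lin 2) (.split 5 (-23) (.lin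
    1) (.split 4 (-57) (.lin 5) (.split 6 97 (.lin 0) (.wt 0))))) (.lin 11)) (.lin 10))) (.wt 2))
    (.wt 1)))) (.lin 12)))) (.split 3 91 (.split 4 (-102) (.lin 6) (.split 0 (-165) (.lin 7)
    (.split 3 86 (.split 4 (-93) (.lin 6) (.split 0 (-156) (.lin 7) (.split 6 86 (.split 4 (-75)
    (.lin 6) (.split 0 (-138) (.lin 7) (.split 2 (-18) (.lin 9) (.split 1 160 (.split 3 72
    (.split 4 (-66) (.lin 6) (.split 0 (-129) (.lin 7) (.splitN 119894 (.split 3 66 (.split 4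
    (-57) (.lin 6) (.split 2 (-17) (.split 1 142 (.split 7 (-65) (.lin 2) (.split 5 (-23) (.lin
    1) (.split 6 79 (.lin 0) (.wt 0)))) (.lin 11)) (.lin 10))) (.wt 2)) (.wt 1)))) (.wt 2)) (.lin
    11))))) (.wt 2)))) (.wt 2)))) (.wt 2)))) (.lin 11))) (.split 1 177 (.lin 2) (.split 5 (-27)
    (.split 6 84 (.split 0 (-192) (.lin 3) (.split 7 (-74) (.lin 9) (.split 3 128 (.split 4
    (-111) (.lin 6) (.split 0 (-174) (.lin 7) (.split 0 (-150) (.split 3 116 (.split 4 (-102)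
    (.lin 6) (.split 5 (-41) (.lin 7) (.wt 2))) (.wt 2)) (.wt 2)))) (.wt 2)))) (.wt 2)) (.wt
    2))))) (.lin 11))) (.split 1 168 (.lin 11) (.split 3 88 (.split 0 (-192) (.lin 7) (.split 3
    81 (.split 5 (-26) (.split 4 (-111) (.lin 6) (.split 0 (-174) (.lin 7) (.split 3 76 (.split 4
    (-102) (.lin 6) (.split 0 (-165) (.lin 7) (.split 2 (-17) (.split 7 (-110) (.lin 6) (.splitN
    83510 (.split 7 (-77) (.split 4 (-84) (.lin 6) (.split 7 (-83) (.split 4 (-75) (.lin 6)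
    (.split 1 177 (.lin 8) (.split 0 (-146) (.splitN 80837 .sq (.wt 6)) (.lin 12)))) (.wt 0)))
    (.wt 0)) (.wt 6))) (.lin 10)))) (.wt 2)))) (.wt 2)) (.wt 2))) (.wt 2)))))

def cert5_75_5 : Cert :=
  (.split 4 (-49) (.split 1 141 (.lin 8) (.split 0 (-119) (.splitN 215214 (.split 1 428 (.split 5
    (-455) (.lin 0) (.split 5 (-302) (.lin 4) (.split 6 126 (.split 0 (-237) (.lin 3) (.split 2
    (-63) (.lin 9) (.split 7 (-119) (.lin 9) (.split 3 145 (.split 1 268 (.split 5 (-149) (.lin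
    4) cert5_75_4) (.lin 11)) (.split 1 222 (.lin 2) (.split 6 100 (.split 0 (-210) (.lin 3)
    (.split 7 (-92) (.lin 9) (.split 6 88 (.split 0 (-192) (.lin 3) (.split 2 (-18) (.lin 9)
    (.split 7 (-74) (.lin 9) (.split 0 (-128) (.split 3 247 (.split 5 (-203) (.lin 1) (.split 1
    331 (.split 0 (-134) (.split 5 (-185) (.lin 7) (.split 3 219 (.split 5 (-167) (.lin 1)
    (.split 0 (-141) (.split 4 (-74) (.split 5 (-149) (.lin 7) (.splitN 143389 (.split 5 (-71)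
    (.split 6 76 (.split 4 (-83) (.split 2 (-9) (.lin 9) (.split 1 286 (.split 5 (-140) (.lin 0)
    (.split 7 (-65) (.lin 9) (.split 4 (-86) (.split 3 159 (.lin 6) (.wt 2)) (.wt 0)))) (.lin
    11))) (.lin 3)) (.wt 2)) (.wt 2)) (.wt 1))) (.lin 3)) (.wt 2))) (.wt 2))) (.wt 2)) (.lin 2)))
    (.wt 2)) (.wt 2))))) (.wt 2)))) (.wt 2))))))) (.split 1 195 (.lin 11) (.splitN 82034 .sq
    (.splitN 138539 (.split 7 (-189) (.wt 1) (.split 0 (-300) (.lin 12) (.split 3 128 (.split 5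
    (-230) (.lin 6) (.split 5 (-37) (.split 0 (-261) .sq (.split 1 303 (.split 5 (-176) (.lin 4)
    (.split 7 (-109) (.split 0 (-164) (.splitN 103670 .sq (.wt 1)) (.lin 12)) (.split 2 (-35)
    (.split 7 (-90) (.wt 1) (.split 2 (-53) (.split 0 (-201) (.lin 12) (.wt 6)) (.lin 9))) (.lin
    9)))) .sq)) (.wt 6))) (.wt 2)))) (.wt 1))))))) .sq) (.wt 1)) (.lin 12))) (.split 0 (-264)
    (.lin 3) (.split 6 126 (.split 0 (-165) (.lin 3) (.split 2 (-63) (.lin 9) (.split 7 (-119)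
    (.lin 9) (.split 3 240 (.split 5 (-329) (.lin 1) (.split 1 358 (.split 5 (-275) (.lin 4)
    (.split 3 214 (.split 5 (-257) (.lin 6) (.split 4 (-34) (.split 5 (-239) (.lin 6) (.split 0
    (-101) (.split 5 (-73) (.split 1 177 (.lin 4) (.split 3 185 (.split 5 (-203) (.lin 6) (.split
    1 304 (.split 6 98 (.split 0 (-138) (.lin 3) (.split 3 78 (.lin 6) (.split 7 (-92) (.lin 9)
    (.split 3 115 (.split 1 214 (.split 5 (-113) (.lin 4) (.split 3 106 (.split 5 (-104) (.lin 6)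
    (.split 3 98 (.split 2 (-17) (.split 6 79 (.lin 6) (.split 7 (-83) (.lin 6) (.wt 2))) (.lin
    10)) (.wt 2))) (.wt 2))) (.lin 11)) (.wt 2))))) (.split 0 (-113) (.split 2 (-54) (.lin 3)
    (.split 1 195 (.lin 4) (.split 5 (-185) (.lin 4) (.split 3 69 (.lin 7) (.splitN 100166
    (.split 3 109 (.split 1 232 (.split 5 (-113) (.lin 4) (.wt 2)) (.lin 11)) (.wt 0)) (.wt
    6)))))) (.wt 2))) (.lin 11))) (.wt 2))) (.split 6 113 (.split 0 (-147) (.lin 3) (.split 7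
    (-101) (.lin 9) (.split 6 101 (.split 7 (-92) (.lin 9) (.split 5 (-24) (.split 6 95 (.split 0
    (-129) (.lin 3) (.split 7 (-83) (.lin 9) (.split 3 86 (.split 6 88 (.split 0 (-120) (.lin 3)
    (.split 2 (-18) (.lin 9) (.split 1 160 (.split 5 (-59) (.lin 4) (.split 7 (-74) (.lin 9)
    (.split 3 72 (.split 5 (-50) (.lin 6) (.split 3 69 (.split 5 (-41) (.lin 6) (.split 0 (-111)
    (.lin 7) (.splitN 120531 (.split 4 (-39) (.split 5 (-32) (.lin 6) (.split 1 141 (.lin 8)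
    (.split 2 (-17) (.split 6 79 (.lin 0) (.split 7 (-65) (.lin 1) (.wt 0))) (.lin 10)))) (.wt
    0)) (.wt 6)))) (.wt 2))) (.wt 2)))) (.lin 11)))) (.wt 2)) (.wt 2)))) (.wt 2)) (.wt 2))) (.wt
    2)))) (.wt 2))) (.lin 12))) (.split 0 (-147) (.lin 3) (.split 3 103 (.split 1 223 (.split 5
    (-140) (.lin 4) (.split 3 95 (.split 5 (-131) (.lin 6) (.split 6 93 (.split 0 (-111) (.lin 3)
    (.split 2 (-27) (.lin 9) (.split 1 178 (.split 5 (-95) (.lin 4) (.split 7 (-83) (.lin 9)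
    (.splitN 159955 (.split 4 (-23) (.split 5 (-86) (.lin 6) (.splitN 149558 (.split 3 77 (.split
    5 (-68) (.lin 6) (.wt 2)) (.wt 0)) (.wt 6))) (.wt 0)) (.wt 6)))) (.lin 11)))) (.wt 2))) (.wt
    2))) (.lin 11)) (.wt 2))))) (.wt 2))) (.lin 11))) (.wt 2))))) (.split 1 195 (.lin 11) (.split
    0 (-113) (.split 2 (-153) (.lin 3) (.split 5 (-608) (.lin 4) (.split 3 87 (.split 1 304
    (.split 5 (-302) (.lin 0) (.split 5 (-185) (.lin 4) (.split 4 (-29) (.split 5 (-44) (.split 6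
    197 (.split 1 277 (.split 7 (-200) (.lin 6) (.split 0 (-136) (.split 5 (-140) (.lin 4)
    (.split 0 (-138) (.split 5 (-131) (.lin 4) (.split 7 (-100) (.splitN 94715 .sq (.split 2
    (-16) (.wt 1) (.split 0 (-155) (.split 7 (-118) (.split 7 (-127) (.split 3 69 (.lin 10)
    (.split 5 (-59) (.lin 10) (.splitN 104732 .sq (.wt 1)))) (.lin 9)) (.lin 1)) (.lin 3))))
    (.lin 12))) (.wt 2))) (.wt 2))) (.lin 11)) (.wt 2)) (.wt 2)) (.wt 2)))) (.lin 11)) (.wt 2))))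
    (.wt 2))))))

def cert5_75 : Cert :=
  (.split 1 96 (.lin 2) (.split 1 105 (.lin 8) (.split 0 (-83) (.split 6 70 (.lin 9) (.split 3 58
    (.split 6 150 (.split 4 (-111) (.lin 6) (.split 0 (-174) (.lin 7) (.split 2 (-81) (.lin 9)
    (.split 1 196 (.split 5 (-185) (.lin 0) (.split 5 (-113) (.lin 4) (.split 7 (-137) (.lin 9)
    (.splitN 51790 (.wt 1) (.split 3 38 (.split 0 (-156) (.lin 7) (.split 1 178 (.split 5 (-95)
    (.lin 4) (.split 4 (-43) (.split 2 (-35) (.split 0 (-110) (.splitN 111622 (.split 3 26 (.wt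
    2) (.split 7 (-87) (.split 1 159 (.lin 2) (.split 0 (-137) (.split 5 (-41) (.lin 4) (.split 6
    124 (.lin 6) (.splitN 73349 .sq (.wt 3)))) (.lin 12))) (.split 5 (-40) (.split 2 (-53)
    (.split 7 (-73) (.split 2 (-72) (.lin 2) (.split 0 (-119) (.splitN 87021 (.splitN 82200 (.wt
    6) (.split 4 (-50) (.wt 0) (.split 6 131 (.wt 0) (.split 1 168 (.lin 11) (.split 7 (-75) (.wt
    0) (.split 2 (-62) (.split 0 (-120) (.lin 12) (.split 5 (-49) (.wt 1) (.lin 1))) (.lin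
    2))))))) (.wt 0)) (.lin 12))) .cand) (.lin 10)) (.split 6 120 (.split 1 151 (.splitN 94567
    .cand (.wt 3)) (.lin 11)) (.split 2 (-44) (.splitN 92880 .cand (.wt 1)) (.lin 9)))))) (.wt
    0)) (.lin 12)) (.lin 10)) (.splitN 59997 (.wt 1) cert5_75_0))) (.lin 11))) (.split 1 114
    (.lin 2) cert5_75_1)))))) (.lin 11))))) (.split 1 177 (.lin 11) (.splitN 67346 .sq (.splitN
    792508 (.split 2 (-4397) (.div 2) (.split 5 (-4424) (.lin 10) (.split 0 (-855) .sq (.split 6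
    5219 (.split 1 5272 (.split 7 (-830) (.lin 12) (.splitN 700064 (.split 2 (-3875) (.div 2)
    (.split 1 4750 (.split 0 (-799) .sq (.split 1 813 (.split 2 (-720) (.lin 2) (.split 6 1484
    (.split 5 (-725) (.lin 4) (.split 6 782 (.splitN 612914 cert5_75_3 (.wt 1)) (.lin 11))) (.lin
    0))) .sq)) (.lin 2))) (.wt 1))) (.lin 11)) (.lin 3))))) (.wt 1))))) (.split 1 132 (.lin 2)
    (.splitN 822051 (.split 5 (-4559) (.div 5) (.split 0 (-889) .sq (.split 1 5443 (.splitN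
    726387 (.split 0 (-832) .sq (.split 1 838 (.split 2 (-711) (.lin 2) (.split 5 (-1454) (.lin
    0) (.split 5 (-752) (.lin 4) (.splitN 636015 (.split 0 (-778) .sq (.split 1 784 (.split 7
    (-713) (.lin 2) (.split 5 (-698) (.lin 4) (.split 4 (-120) (.split 1 213 (.lin 8) (.split 0
    (-191) (.split 5 (-590) (.lin 4) (.splitN 112067 .sq (.splitN 187218 (.split 5 (-24) (.split
    0 (-331) .sq (.split 1 344 (.split 5 (-149) (.lin 4) (.split 6 149 (.split 3 78 (.lin 6)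
    (.split 2 (-40) (.wt 1) (.split 3 123 (.lin 10) (.splitN 124199 .sq (.splitN 141485 (.split 2
    (-12) (.wt 1) (.split 3 150 (.lin 10) (.split 5 (-71) (.split 1 267 (.lin 0) (.split 3 195
    (.lin 10) .sq)) (.wt 1)))) (.wt 1)))))) (.wt 1))) .sq)) (.wt 1)) (.wt 1)))) (.lin 12)))
    (.split 6 225 (.split 0 (-336) (.lin 3) (.split 2 (-162) (.lin 9) (.split 7 (-218) (.lin 9)
    (.splitN 560255 (.split 1 733 (.split 5 (-644) (.lin 4) cert5_75_5) .sq) (.wt 1))))) (.split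
    1 294 (.lin 11) (.splitN 156968 .sq (.splitN 184943 (.split 2 (-15) (.wt 1) (.split 7 (-226)
    .sq (.lin 9))) (.wt 6)))))))) .sq)) (.wt 1))))) .sq)) (.wt 1)) (.lin 4)))) (.wt 1))))) (.lin
    12))))

theorem check5_75 :
    check task5 cert5_75
      [(7, ⟨none, some (-47)⟩), (7, ⟨some (70), none⟩), (1, ⟨none, some (-8)⟩), (7, ⟨some (25), none⟩), (7, ⟨none, some (-20)⟩), (5, ⟨none, some (-22)⟩), (8, ⟨some (35), none⟩), (8, ⟨none, some (-64)⟩)] ⟨some (36360), none⟩ = true := by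
  decide +kernel

def cert5_76_0 : Cert :=
  (.split 6 53 (.split 4 (-57) (.lin 6) (.split 0 (-84) (.lin 7) (.split 2 (-27) (.lin 9) (.split
    1 106 (.split 5 (-68) (.lin 1) (.split 5 (-59) (.lin 4) (.split 3 38 (.split 0 (-66) (.lin 7)
    (.split 1 88 (.split 5 (-41) (.lin 4) (.split 4 (-39) (.lin 6) (.split 6 44 (.split 4 (-30)
    (.lin 6) (.split 0 (-57) (.lin 7) (.split 2 (-18) (.lin 9) (.split 7 (-31) (.split 3 33 (.lin
    6) (.split 1 78 (.lin 8) (.split 2 (-9) (.lin 9) (.split 0 (-56) (.split 5 (-23) (.lin 1)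
    (.split 4 (-21) (.lin 5) (.split 6 43 (.lin 0) (.wt 0)))) (.lin 12))))) (.wt 1))))) (.split 2
    (-17) (.split 1 78 (.lin 11) (.split 7 (-33) (.split 4 (-30) (.lin 6) (.split 2 (-18) (.lin
    9) (.split 0 (-56) (.split 5 (-32) (.lin 0) (.split 3 29 (.split 0 (-57) (.lin 1) (.split 1
    79 (.split 4 (-21) (.lin 0) (.split 5 (-23) (.lin 0) (.splitN 1102247 (.wt 0) (.wt 0))))
    (.lin 2))) (.split 1 87 (.lin 2) (.splitN 1265686 (.split 4 (-26) (.split 5 (-23) (.lin 0)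
    (.split 0 (-65) (.splitN 776438 (.wt 0) (.wt 0)) (.lin 1))) (.wt 0)) (.wt 6))))) (.lin 12))))
    (.split 2 (-26) (.split 0 (-48) (.split 4 (-29) (.split 3 28 (.split 1 79 (.split 4 (-30)
    (.lin 0) (.split 5 (-23) (.lin 0) (.wt 0))) (.lin 2)) (.wt 0)) (.lin 3)) (.wt 0)) (.lin 9))))
    (.lin 9))))) (.lin 11))) (.split 1 78 (.lin 2) (.split 6 44 (.split 4 (-48) (.lin 6) (.split
    0 (-75) (.lin 7) (.split 2 (-18) (.lin 9) (.split 1 97 (.split 4 (-34) (.split 1 87 (.lin 8)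
    (.split 0 (-65) (.split 5 (-32) (.lin 4) (.split 6 35 (.wt 6) (.split 7 (-29) (.split 3 51
    (.lin 6) (.split 1 96 (.lin 8) (.split 2 (-9) (.lin 9) (.split 0 (-74) (.split 4 (-39) (.lin
    0) (.split 5 (-23) (.lin 0) (.splitN 1383551 (.wt 0) (.wt 0)))) (.lin 12))))) (.wt 0))))
    (.lin 12))) (.split 0 (-66) (.lin 3) (.split 7 (-30) (.split 1 87 (.lin 2) (.split 2 (-9)
    (.lin 9) (.split 6 43 (.lin 9) (.wt 5)))) (.wt 0)))) (.lin 11))))) (.split 2 (-17) (.split 1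
    96 (.lin 11) (.split 4 (-25) (.split 7 (-29) (.split 4 (-48) (.lin 6) (.split 2 (-18) (.lin
    9) (.split 5 (-41) (.lin 0) (.splitN 1067017 (.split 4 (-30) (.split 5 (-32) (.lin 0)
    (.splitN 435270 (.split 3 50 (.split 1 97 (.split 4 (-39) (.lin 0) (.split 5 (-23) (.lin 0)
    (.wt 0))) (.lin 2)) (.wt 0)) (.wt 1))) (.wt 0)) (.wt 1))))) (.wt 0)) (.wt 0))) (.lin 9)))))))
    (.lin 11))))) (.split 2 (-26) (.split 1 87 (.lin 11) (.split 3 38 (.split 0 (-84) (.lin 7)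
    (.split 1 106 (.split 4 (-57) (.lin 6) (.split 4 (-38) (.split 5 (-50) (.lin 0) (.split 0
    (-65) (.split 5 (-41) (.lin 4) (.split 7 (-33) (.split 4 (-48) (.lin 6) (.split 2 (-36) (.lin
    9) (.split 0 (-74) (.split 5 (-32) (.lin 1) (.split 3 26 (.wt 2) (.splitN 329612 (.split 6 69
    (.split 4 (-39) (.lin 6) (.split 0 (-75) (.lin 7) (.split 2 (-27) (.lin 9) (.split 1 97
    (.split 5 (-23) (.lin 0) (.wt 0)) (.lin 11))))) (.wt 2)) (.wt 1)))) (.lin 12)))) (.split 3 33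
    (.split 0 (-75) (.lin 1) (.split 5 (-32) (.lin 1) (.split 4 (-48) (.lin 6) (.split 5 (-27)
    (.split 0 (-66) (.lin 1) (.split 1 96 (.lin 8) (.split 2 (-44) (.split 4 (-39) (.lin 5)
    (.split 6 70 (.lin 0) (.wt 0))) (.lin 10)))) (.split 6 70 (.split 4 (-39) (.lin 6) (.split 0
    (-66) (.lin 7) (.wt 0))) (.wt 2)))))) (.wt 0)))) (.lin 12))) (.split 0 (-75) (.lin 3) (.split
    0 (-66) (.lin 12) (.split 7 (-29) (.split 5 (-50) (.lin 6) (.split 2 (-36) (.lin 9) (.split 0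
    (-56) (.split 3 32 (.split 1 97 (.split 4 (-25) (.split 5 (-32) (.lin 6) (.split 0 (-65)
    (.splitN 264021 (.wt 1) (.split 6 63 (.wt 0) (.split 2 (-35) (.split 1 96 (.lin 11) (.split 5
    (-31) (.splitN 275897 (.wt 0) (.wt 0)) (.lin 0))) (.lin 3)))) (.lin 12))) (.split 0 (-57)
    (.lin 12) (.split 6 64 (.split 2 (-27) (.lin 3) (.split 1 88 (.split 5 (-32) (.lin 0) (.wt
    0)) (.lin 11))) (.wt 0)))) (.lin 2)) (.wt 2)) (.lin 12)))) (.wt 0)))))) (.lin 11))) (.split 1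
    96 (.lin 2) (.split 1 105 (.lin 11) (.split 4 (-26) (.split 5 (-68) (.lin 6) (.split 0 (-66)
    (.split 5 (-50) (.lin 4) (.split 7 (-29) (.split 4 (-66) (.lin 6) (.split 2 (-36) (.lin 9)
    (.split 0 (-76) (.split 5 (-41) (.lin 1) (.split 4 (-47) (.split 3 47 (.split 0 (-93) (.lin
    1) (.split 1 115 (.split 5 (-32) (.lin 1) (.split 4 (-57) (.lin 6) (.splitN 262796 (.wt 0)
    (.wt 1)))) (.lin 2))) (.wt 2)) (.lin 12))) (.wt 2)))) (.wt 0))) (.wt 2))) (.wt 0)))))) (.lin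
    9)))

def cert5_76_1 : Cert :=
  (.split 5 (-56) (.split 6 62 (.split 2 (-18) (.lin 9) (.split 0 (-274) (.split 3 267 (.lin 1)
    (.split 4 (-227) (.split 1 339 (.lin 4) (.splitN 326267 .sq (.wt 1))) (.lin 3))) (.split 3
    358 (.split 1 430 (.split 4 (-237) (.lin 3) (.split 4 (-115) (.split 1 213 (.lin 0) (.split 3
    159 (.lin 6) (.split 0 (-164) (.splitN 120806 .sq (.split 7 (-51) (.split 6 61 (.lin 9)
    (.splitN 183972 .cand (.wt 1))) (.split 6 57 (.splitN 308666 .cand (.wt 3)) (.split 2 (-17)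
    (.split 0 (-194) (.split 3 195 (.lin 1) (.split 1 258 (.lin 2) (.split 4 (-155) (.splitN
    179135 .sq (.wt 1)) (.lin 3)))) (.wt 2)) (.lin 9))))) (.lin 12)))) (.split 1 304 (.split 0
    (-165) (.lin 3) (.split 7 (-51) (.split 6 61 (.lin 9) (.split 0 (-120) (.split 4 (-74)
    (.splitN 193789 .cand (.wt 1)) (.lin 3)) (.wt 2))) (.split 0 (-156) (.lin 12) (.splitN 171198
    (.wt 3) (.split 6 60 (.split 2 (-9) (.lin 9) (.split 4 (-83) (.splitN 357915 .cand (.wt 1))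
    (.split 1 259 (.split 0 (-120) (.lin 3) (.splitN 392581 (.split 3 192 (.split 1 241 (.split 4
    (-58) (.split 5 (-131) (.lin 0) (.split 0 (-110) (.splitN 352779 (.split 3 167 (.split 5
    (-104) (.lin 1) (.split 1 214 (.splitN 326947 (.split 3 148 (.split 5 (-86) (.lin 1) (.wt 2))
    (.wt 0)) (.wt 1)) (.lin 2))) (.wt 0)) (.wt 1)) (.lin 3))) (.wt 0)) (.lin 2)) (.wt 0)) (.wt
    1))) (.lin 0)))) (.wt 2)))))) (.lin 0)))) (.lin 2)) (.lin 1)))) (.split 2 (-17) (.split 1 204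
    (.lin 11) (.split 0 (-159) (.split 3 150 (.lin 7) (.split 0 (-190) (.split 3 168 (.lin 1)
    (.split 1 240 (.lin 11) (.split 4 (-137) (.split 3 177 (.lin 7) (.splitN 155825 .sq (.splitN
    171629 (.split 5 (-72) (.split 1 258 (.lin 0) (.split 3 195 (.lin 7) .sq)) (.wt 1)) (.wt
    1)))) (.lin 3)))) (.wt 2))) (.wt 2))) (.lin 9))) (.split 4 (-74) (.split 0 (-137) (.split 4
    (-92) (.splitN 301868 (.split 0 (-482) .sq (.split 1 498 (.split 4 (-426) (.lin 8) (.split 6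
    62 (.split 2 (-18) (.lin 9) (.split 5 (-36) (.split 0 (-453) (.lin 4) (.split 7 (-51) (.split
    2 (-9) (.lin 9) (.split 4 (-399) (.lin 8) (.split 6 61 (.lin 9) (.split 3 405 (.split 0
    (-426) (.lin 1) (.split 1 466 (.split 4 (-372) (.lin 0) (.split 3 375 (.split 0 (-390) (.lin
    1) (.split 1 430 (.split 4 (-336) (.lin 0) (.split 3 336 (.split 0 (-354) (.lin 1) (.split 1
    394 (.split 4 (-300) (.lin 0) (.split 3 298 (.split 0 (-318) (.lin 1) (.split 1 358 (.split 4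
    (-264) (.lin 0) (.split 3 261 (.split 0 (-282) (.lin 1) (.split 1 322 (.split 4 (-228) (.lin
    0) (.split 3 226 (.split 0 (-246) (.lin 1) (.split 1 286 (.split 4 (-192) (.lin 0) (.split 0
    (-156) (.split 3 141 (.lin 1) (.split 1 204 (.lin 2) (.split 0 (-173) (.split 3 150 (.lin 1)
    (.split 0 (-186) (.split 3 168 (.lin 1) (.split 1 231 (.lin 2) (.split 4 (-128) (.split 4
    (-137) (.splitN 146168 .sq (.wt 1)) (.lin 3)) (.lin 0)))) (.wt 2))) (.wt 2)))) (.wt 2)))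
    (.lin 2))) (.wt 2))) (.lin 2))) (.wt 2))) (.lin 2))) (.wt 2))) (.lin 2))) (.wt 2))) (.lin
    2))) (.wt 2))) (.lin 2))) (.wt 2))))) (.split 3 241 (.split 0 (-264) (.lin 1) (.split 1 304
    (.split 4 (-228) (.lin 0) (.splitN 136729 (.wt 3) (.split 6 57 .cand (.split 2 (-17) (.wt 2)
    (.lin 9))))) (.lin 2))) (.split 0 (-254) (.split 1 303 (.lin 2) (.split 4 (-200) (.splitN
    266021 .sq (.wt 1)) (.lin 0))) (.lin 1))))) (.split 4 (-101) (.split 0 (-155) (.split 4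
    (-110) (.splitN 214007 (.split 0 (-376) .sq (.split 4 (-336) (.lin 3) (.split 1 389 (.split 7
    (-51) (.split 2 (-9) (.lin 9) (.split 6 61 (.lin 9) (.splitN 136528 (.split 3 250 (.split 0
    (-291) (.lin 1) (.split 1 313 (.split 4 (-237) (.lin 0) (.split 0 (-181) (.split 3 141 (.lin
    1) (.wt 2)) (.wt 0))) (.lin 2))) (.wt 0)) (.wt 1)))) (.split 3 270 (.split 0 (-309) (.lin 1)
    (.split 1 331 (.split 4 (-273) (.lin 0) (.split 3 226 (.split 0 (-264) (.lin 1) (.split 1 286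
    (.split 4 (-228) (.lin 0) (.split 3 192 (.split 0 (-228) (.lin 1) (.split 1 250 (.split 4
    (-192) (.lin 0) (.split 0 (-170) (.split 4 (-128) (.split 3 164 (.split 0 (-201) (.lin 1)
    (.split 4 (-156) (.lin 6) (.splitN 159009 (.wt 4) (.split 2 (-13) (.wt 1) (.split 3 141 (.lin
    1) (.wt 2)))))) (.wt 2)) (.lin 12)) (.wt 2))) (.lin 2))) (.wt 2))) (.lin 2))) (.wt 2))) (.lin
    2))) (.wt 2))) .sq))) (.wt 1)) (.lin 10)) (.lin 1)) (.lin 0)))) (.split 2 (-17) (.split 1 204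
    (.lin 11) (.splitN 120348 (.split 3 246 (.split 0 (-300) (.lin 1) (.split 1 322 (.split 4
    (-255) (.lin 0) (.wt 2)) (.lin 2))) (.wt 0)) (.wt 6))) (.lin 9)))) .sq)) (.wt 1)) (.lin 10))
    (.lin 1)) (.lin 0)))

def cert5_76_2 : Cert :=
  (.split 3 130 (.split 0 (-183) (.lin 1) (.split 1 205 (.split 4 (-156) (.lin 0) (.split 5
    (-122) (.lin 0) (.split 4 (-129) (.lin 6) (.split 5 (-95) (.lin 6) (.split 5 (-46) (.split 0
    (-156) (.lin 1) (.split 3 78 (.lin 6) (.split 0 (-147) (.lin 7) (.split 1 150 (.lin 8)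
    (.split 4 (-102) (.lin 6) (.split 6 62 (.split 3 87 (.lin 6) (.split 0 (-138) (.lin 7)
    (.split 2 (-18) (.lin 9) (.split 1 187 (.split 5 (-86) (.lin 4) (.split 4 (-93) (.lin 6)
    (.split 7 (-51) (.split 3 96 (.lin 6) (.split 1 159 (.lin 8) (.split 2 (-9) (.lin 9) (.split
    0 (-110) (.split 5 (-77) (.lin 1) (.split 4 (-84) (.lin 6) (.split 6 61 (.lin 9) (.splitN
    188341 (.split 3 116 (.split 0 (-129) (.lin 1) (.split 5 (-68) (.lin 1) (.split 4 (-75) (.lin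
    3) (.split 4 (-60) (.split 1 168 (.lin 0) (.split 0 (-119) (.split 3 105 (.lin 6) (.split 5
    (-59) (.lin 1) (.splitN 176781 (.wt 0) (.wt 1)))) (.lin 3))) (.wt 0))))) (.wt 2)) (.wt 1)))))
    (.lin 12))))) (.splitN 157446 (.wt 3) (.split 6 57 (.split 3 96 (.lin 6) (.split 0 (-129)
    (.lin 7) (.split 2 (-9) (.lin 9) (.split 5 (-77) (.lin 1) (.splitN 353169 .cand (.wt 1))))))
    (.split 2 (-17) (.splitN 201578 (.split 0 (-105) (.split 3 96 (.lin 1) (.split 1 159 (.lin 2)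
    (.split 5 (-77) (.lin 1) (.split 4 (-65) (.splitN 187622 (.wt 0) (.wt 1)) (.lin 3))))) (.wt
    0)) (.wt 1)) (.lin 9))))))) (.lin 11))))) (.split 2 (-17) (.split 0 (-118) (.split 3 96 (.lin
    7) (.split 5 (-77) (.lin 7) (.wt 2))) (.wt 2)) (.lin 9)))))))) (.split 6 62 (.split 4 (-120)
    (.lin 6) (.split 0 (-165) (.lin 7) (.split 2 (-18) (.lin 9) (.split 1 187 (.split 3 92
    (.split 0 (-138) (.lin 1) (.split 1 160 (.split 0 (-129) (.lin 7) (.split 1 151 (.split 4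
    (-84) (.lin 6) (.split 5 (-31) (.split 0 (-120) (.lin 4) (.split 3 69 (.lin 6) (.split 1 132
    (.lin 8) (.split 4 (-75) (.lin 6) (.split 7 (-51) (.split 3 78 (.lin 6) (.split 1 141 (.lin
    8) (.split 2 (-9) (.lin 9) (.split 4 (-66) (.lin 6) (.split 6 61 (.lin 9) (.splitN 160025
    (.wt 0) (.wt 1))))))) (.split 6 60 (.split 3 78 (.lin 6) (.split 0 (-111) (.lin 7) (.split 2
    (-9) (.lin 9) (.split 1 142 (.split 4 (-66) (.lin 0) (.splitN 255935 (.split 3 86 (.split 1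
    133 (.split 4 (-57) (.lin 0) (.split 5 (-32) (.lin 0) (.wt 0))) (.lin 2)) (.wt 2)) (.wt 1)))
    (.lin 11))))) (.wt 2))))))) (.splitN 195262 (.split 3 86 (.split 4 (-75) (.lin 6) (.split 0
    (-120) (.lin 7) (.split 6 59 (.split 3 69 (.lin 6) (.split 2 (-9) (.lin 9) (.split 1 133
    (.split 4 (-66) (.lin 0) (.split 7 (-47) (.lin 9) (.wt 0))) (.lin 11)))) (.wt 2)))) (.wt 2))
    (.wt 1)))) (.lin 11))) (.lin 2))) (.split 1 150 (.lin 2) (.split 4 (-65) (.splitN 256096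
    (.split 5 (-31) (.split 4 (-111) (.lin 6) (.split 7 (-51) (.split 1 159 (.lin 2) (.split 2
    (-9) (.lin 9) (.split 4 (-102) (.lin 6) (.split 6 61 (.lin 9) (.splitN 154359 (.split 3 118
    (.split 0 (-147) (.lin 1) (.split 4 (-93) (.lin 3) (.wt 2))) (.wt 0)) (.wt 1)))))) (.split 6
    58 (.split 4 (-102) (.lin 6) (.split 0 (-147) (.lin 7) (.split 2 (-9) (.lin 9) (.splitN
    184122 (.wt 3) .cand)))) (.wt 2)))) (.split 0 (-138) (.split 4 (-92) (.split 1 159 (.lin 8)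
    (.split 1 168 (.lin 4) (.split 3 105 (.lin 7) (.splitN 125260 (.split 6 59 (.split 4 (-101)
    (.split 3 114 (.lin 6) (.split 2 (-9) (.lin 9) (.split 7 (-47) (.lin 9) (.wt 0)))) (.lin 0))
    (.wt 0)) (.wt 6))))) (.lin 3)) (.wt 2))) (.wt 1)) (.lin 10)))) (.lin 11))))) (.split 2 (-17)
    (.split 1 132 (.lin 11) (.split 0 (-103) (.split 3 81 (.split 0 (-138) (.lin 1) (.split 0
    (-129) (.lin 7) (.split 1 151 (.split 4 (-84) (.lin 0) (.splitN 124924 (.split 3 73 (.split 4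
    (-75) (.lin 6) (.split 1 142 (.split 5 (-32) (.lin 4) (.wt 2)) (.lin 11))) (.wt 0)) (.wt 6)))
    (.lin 11)))) (.wt 2)) (.wt 2))) (.lin 9)))))))) (.lin 2))) (.split 1 186 (.lin 2) (.splitN
    1547753 (.split 5 (-8591) (.div 5) (.split 0 (-1219) .sq (.split 3 9754 (.split 1 9835
    (.splitN 1322988 (.split 0 (-1124) .sq (.split 4 (-1092) (.lin 3) (.split 1 1134 (.split 5
    (-1049) (.lin 0) (.split 3 2140 (.splitN 1102898 (.split 0 (-1021) .sq (.split 1 1032 (.split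
    5 (-941) (.lin 0) (.split 3 970 (.split 5 (-144) (.split 1 231 (.lin 0) (.split 0 (-903)
    (.lin 1) (.split 3 177 (.lin 6) (.split 1 249 (.lin 8) (.splitN 863753 (.split 1 889 (.split
    4 (-714) (.lin 0) (.split 0 (-777) (.lin 3) (.split 5 (-806) (.lin 0) (.split 6 62 (.split 2
    (-18) (.lin 9) (.split 0 (-280) (.split 3 357 (.lin 1) (.split 1 411 (.lin 2) (.split 4
    (-227) (.splitN 455291 .sq (.wt 0)) (.lin 3)))) (.splitN 680468 (.split 1 778 (.split 5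
    (-680) (.lin 0) (.split 3 718 (.split 4 (-115) (.split 1 303 (.lin 0) (.split 0 (-155)
    (.split 3 249 (.lin 6) (.split 0 (-164) (.split 5 (-617) (.lin 0) (.splitN 222866 .sq
    (.splitN 395218 (.split 7 (-55) (.wt 3) (.split 1 512 (.split 5 (-356) (.lin 0) (.splitN
    371219 (.split 1 489 (.split 3 430 (.split 6 57 (.split 2 (-9) (.lin 9) (.splitN 329765
    (.split 0 (-212) (.wt 2) (.split 4 (-165) (.lin 3) (.split 3 268 (.wt 2) (.split 1 330 (.lin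
    2) (.split 1 428 (.split 3 367 (.splitN 266949 (.wt 1) .cand) (.lin 2)) .sq))))) (.wt 3)))
    (.split 2 (-17) (.wt 1) (.lin 9))) (.lin 2)) .sq) (.wt 1))) .sq)) (.wt 1)))) (.lin 12)))
    (.lin 3))) (.split 0 (-165) (.lin 3) (.splitN 564389 (.split 1 699 (.split 5 (-599) (.lin 0)
    (.split 7 (-51) (.split 3 195 (.lin 6) (.split 2 (-9) (.lin 9) (.split 6 61 (.lin 9) (.splitN
    227572 (.split 4 (-68) (.split 1 276 (.lin 0) (.split 3 213 (.lin 6) (.split 5 (-563) (.lin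
    0) (.splitN 190504 (.split 0 (-152) (.split 3 240 (.lin 1) (.split 1 303 (.lin 2) (.split 4
    (-101) .sq (.lin 3)))) (.wt 0)) (.wt 6))))) (.wt 0)) (.wt 1))))) (.split 0 (-156) (.lin 12)
    (.splitN 183904 (.wt 0) (.split 0 (-103) (.split 3 195 (.lin 1) (.split 3 409 (.split 5
    (-356) (.lin 1) (.split 0 (-113) (.split 1 267 (.lin 4) (.split 4 (-74) (.split 3 357 (.split
    5 (-293) (.lin 1) (.split 3 339 (.split 6 56 (.split 3 213 (.lin 6) (.split 2 (-9) (.lin 9)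
    (.split 1 385 (.split 0 (-123) (.split 5 (-257) (.lin 1) (.split 4 (-83) (.splitN 362752
    .cand (.wt 1)) (.lin 3))) (.wt 2)) (.lin 11)))) (.wt 2)) (.wt 2))) (.wt 2)) (.lin 12))) (.wt
    2))) (.wt 2))) (.wt 2)))))) .sq) (.wt 1)))) (.lin 2))) .sq) (.wt 1)))) (.split 2 (-17)
    (.splitN 229751 (.split 0 (-181) (.split 3 249 (.lin 1) (.split 4 (-128) (.split 1 330 (.lin
    4) .sq) (.lin 3))) (.wt 2)) (.wt 1)) (.lin 9)))))) .sq) (.wt 1)))))) (.splitN 678077 (.split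
    0 (-786) .sq (.split 3 871 (.split 1 952 (.split 4 (-903) (.lin 0) (.split 4 (-759) (.lin 3)
    (.split 1 800 cert5_76_1 .sq))) (.lin 2)) (.lin 1))) (.wt 1))) (.lin 2))) .sq)) (.wt 1))
    (.lin 6))) .sq))) (.wt 1)) (.lin 2)) (.lin 1)))) (.wt 1))))

def cert5_76_3 : Cert :=
  (.split 5 (-52) (.split 0 (-192) (.split 3 213 (.lin 1) (.split 1 258 (.lin 2) (.split 4 (-164)
    (.splitN 565339 (.wt 1) (.splitN 6214833 (.split 1 69020 (.split 3 68974 (.split 5 (-34511)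
    (.div 5) (.split 0 (-4694) (.wt 0) (.split 3 39157 (.split 1 39202 (.splitN 5789734 (.split 0
    (-328) (.wt 2) (.split 4 (-291) (.lin 3) (.splitN 684286 (.wt 1) (.split 3 248 (.wt 0)
    (.split 1 294 (.lin 2) (.split 5 (-323) (.wt 1) (.split 1 646 (.split 3 601 (.wt 2) (.lin 6))
    (.lin 0)))))))) (.wt 5)) (.lin 2)) (.lin 1)))) (.lin 2)) (.div 1)) (.wt 5))) (.lin 3))))
    (.split 4 (-156) (.lin 3) (.split 3 274 (.split 5 (-221) (.lin 1) (.split 1 313 (.split 0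
    (-142) (.split 4 (-110) (.splitN 1333401 (.wt 6) (.split 0 (-150) (.wt 0) (.split 4 (-111)
    (.lin 3) (.split 1 287 (.wt 0) (.split 5 (-148) (.wt 0) (.lin 0)))))) (.lin 3)) (.split 4
    (-102) (.lin 3) (.split 4 (-79) (.split 0 (-119) (.split 3 158 (.wt 2) (.split 5 (-67)
    (.split 1 204 (.lin 2) (.split 5 (-155) (.wt 1) (.split 1 286 (.split 3 241 (.split 3 176
    (.wt 2) (.split 5 (-85) (.split 1 222 (.lin 2) (.split 5 (-136) (.wt 1) (.split 1 268 (.split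
    3 223 (.splitN 2868344 (.wt 1) (.split 0 (-136) (.wt 0) (.split 5 (-94) (.splitN 31881918
    (.wt 6) (.split 0 (-121) (.wt 0) (.split 3 205 (.wt 0) (.lin 1)))) (.lin 1)))) (.lin 6))
    (.lin 0)))) (.lin 1))) (.lin 6)) (.lin 0)))) (.lin 1))) (.lin 3)) (.split 5 (-67) (.split 0
    (-111) (.lin 3) (.split 3 223 (.split 5 (-139) (.wt 1) (.split 3 196 (.split 4 (-60) (.split
    0 (-101) (.split 5 (-109) (.wt 1) (.split 3 169 (.split 5 (-98) (.wt 1) (.split 3 160 (.split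
    3 146 (.split 1 187 (.splitN 3426499 (.wt 1) (.split 4 (-74) (.wt 0) (.split 5 (-76) (.wt 1)
    (.lin 0)))) (.lin 2)) (.split 5 (-85) (.split 1 195 (.lin 2) (.split 0 (-107) (.wt 1) (.split
    3 151 (.split 1 196 (.split 5 (-94) (.split 4 (-66) (.lin 0) (.wt 0)) (.lin 1)) (.lin 2))
    (.lin 1)))) (.lin 1))) (.lin 1))) (.lin 6))) (.lin 3)) (.wt 3)) (.lin 6))) (.wt 0))) (.lin
    0))))) (.lin 2))) (.split 5 (-130) (.split 1 321 (.lin 2) (.split 4 (-74) (.split 0 (-110)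
    (.split 0 (-151) (.split 4 (-119) (.split 5 (-389) (.wt 1) (.split 3 529 (.wt 2) (.lin 6)))
    (.lin 3)) (.split 5 (-175) (.split 4 (-111) (.lin 3) (.split 3 1555 (.split 5 (-1490) (.lin
    1) (.split 3 1435 (.split 5 (-1364) (.lin 1) (.split 3 328 (.wt 1) (.split 5 (-229) (.split 1
    375 (.lin 2) (.split 0 (-112) (.split 3 1013 (.wt 1) (.wt 0)) (.wt 0))) (.lin 1)))) (.wt 0)))
    (.wt 0))) (.lin 1))) (.lin 3)) (.wt 3))) (.lin 1))))) (.split 4 (-92) (.split 0 (-128)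
    (.split 0 (-264) (.split 3 249 (.lin 1) (.split 1 294 (.lin 2) (.split 4 (-209) (.split 4
    (-236) (.splitN 2925130 (.split 1 32480 (.split 4 (-32421) (.lin 0) (.split 3 32461 (.splitN
    1044022 (.split 0 (-914) .sq (.split 3 916 (.split 1 961 (.split 5 (-44) (.wt 2) (.splitN
    705642 (.split 0 (-704) .sq (.split 3 691 (.split 1 736 (.splitN 649589 (.split 0 (-664) .sq
    (.split 3 655 (.split 4 (-624) (.lin 3) (.split 5 (-40) (.wt 2) (.split 1 691 (.splitN 594659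
    (.split 0 (-621) .sq (.split 3 601 (.split 1 646 (.split 4 (-588) (.lin 0) (.split 5 (-27)
    (.split 0 (-462) (.wt 2) (.split 3 448 (.split 1 493 (.split 0 (-347) (.wt 2) (.split 3 331
    (.split 1 376 (.wt 2) (.lin 2)) (.lin 1))) (.lin 2)) (.lin 1))) (.splitN 348858 (.split 0
    (-365) (.split 3 348 (.lin 1) (.split 1 393 (.lin 2) (.split 4 (-335) .sq (.lin 0)))) (.wt
    2)) (.wt 1)))) (.lin 2)) (.lin 1))) (.wt 1)) (.lin 0)))) (.lin 1))) (.wt 3)) (.lin 2)) (.lin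
    1))) (.wt 3))) (.lin 2)) (.lin 1))) (.wt 3)) (.lin 6))) (.div 1)) (.wt 1)) (.lin 3)) (.lin
    0)))) (.split 3 268 (.split 1 313 (.split 4 (-255) (.lin 0) (.split 4 (-228) (.lin 3) (.split
    5 (-36) (.split 0 (-229) (.wt 2) (.split 3 232 (.split 1 277 (.split 0 (-197) (.wt 2) (.split
    3 196 (.split 0 (-166) (.wt 2) (.split 3 169 (.split 1 214 (.split 4 (-129) (.lin 3) (.splitN
    634192 (.wt 1) (.split 4 (-127) (.wt 0) (.split 3 160 (.splitN 672039 (.wt 1) (.split 0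
    (-155) (.wt 0) (.split 3 151 (.split 1 196 (.wt 2) (.lin 2)) (.lin 1)))) (.lin 6))))) (.lin
    2)) (.lin 1))) (.lin 1))) (.lin 2)) (.lin 1))) (.split 1 295 (.split 0 (-146) (.split 3 250
    (.split 4 (-110) (.split 5 (-27) (.split 3 135 (.wt 2) (.split 0 (-155) (.split 3 148 (.wt 2)
    (.split 0 (-164) (.split 1 195 (.lin 2) (.split 4 (-128) (.split 0 (-254) (.wt 2) (.split 3
    232 (.split 0 (-232) (.wt 2) (.split 3 214 (.split 0 (-210) (.wt 2) (.split 3 196 (.split 1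
    241 (.split 0 (-189) (.wt 2) (.split 3 169 (.wt 2) (.lin 1))) (.lin 2)) (.lin 1))) (.lin 1)))
    (.lin 1))) (.lin 0))) (.lin 1))) (.lin 1))) (.split 0 (-163) (.split 3 141 (.lin 1) (.split 0
    (-177) (.split 3 159 (.lin 1) (.split 1 204 (.lin 2) (.split 4 (-146) (.splitN 358401 (.split
    3 229 (.split 0 (-246) (.lin 1) (.split 1 268 (.split 4 (-210) (.lin 0) (.split 3 204 (.split
    0 (-219) (.lin 1) (.split 1 241 (.split 4 (-183) (.lin 0) (.splitN 337989 (.wt 0) (.wt 1)))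
    (.lin 2))) (.wt 0))) (.lin 2))) (.wt 0)) (.wt 1)) (.lin 0)))) (.wt 2))) (.wt 2))) (.lin 0))
    (.lin 6)) (.lin 1)) (.lin 0))))) (.lin 2)) (.lin 1))) (.lin 1)) (.lin 0)))

def cert5_76_4 : Cert :=
  (.split 3 130 (.split 0 (-165) (.lin 1) (.split 1 187 (.split 0 (-156) (.lin 7) (.split 5
    (-104) (.lin 0) (.split 4 (-129) (.lin 3) (.split 7 (-33) (.split 4 (-120) (.lin 6) (.split 2
    (-18) (.lin 9) (.split 0 (-92) (.split 5 (-86) (.lin 1) (.split 5 (-44) (.split 1 141 (.lin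
    0) (.split 0 (-129) (.lin 1) (.split 3 87 (.lin 6) (.split 4 (-93) (.lin 3) (.splitN 581463
    (.split 4 (-61) (.split 0 (-101) (.split 3 96 (.lin 6) (.split 5 (-77) (.lin 1) (.wt 2)))
    (.lin 3)) (.wt 0)) (.wt 1)))))) (.split 3 93 (.split 0 (-120) (.lin 1) (.split 1 142 (.split
    4 (-84) (.lin 0) (.splitN 392604 (.split 3 87 (.split 0 (-111) (.lin 1) (.split 1 133 (.split
    4 (-75) (.lin 0) (.split 3 76 (.split 0 (-102) (.lin 1) (.split 1 124 (.split 4 (-66) (.lin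
    0) (.split 5 (-32) (.lin 0) (.splitN 351457 (.wt 0) (.wt 1)))) (.lin 2))) (.wt 0))) (.lin
    2))) (.wt 0)) (.wt 1))) (.lin 2))) (.wt 2)))) (.lin 12)))) (.wt 5))))) (.lin 2))) (.split 1
    177 (.lin 2) (.split 7 (-33) (.split 2 (-18) (.lin 9) (.split 5 (-52) (.split 0 (-192)
    (.split 3 204 (.lin 1) (.split 1 258 (.lin 2) (.split 4 (-164) (.splitN 907817 (.split 5
    (-5027) (.div 5) (.split 0 (-873) .sq (.split 3 5839 (.split 1 5893 (.splitN 792840 (.split 0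
    (-805) .sq (.split 4 (-768) (.lin 3) (.split 1 821 (.split 4 (-723) (.lin 0) (.split 0 (-759)
    (.lin 3) (.split 5 (-617) (.lin 0) (.splitN 667549 (.split 0 (-722) .sq (.split 4 (-678)
    (.lin 3) (.split 1 740 (.split 5 (-536) (.lin 0) (.split 3 682 (.split 5 (-177) (.split 1 384
    (.lin 0) (.split 0 (-552) (.lin 1) (.split 3 330 (.lin 6) (.split 4 (-516) (.lin 0) (.split 0
    (-226) (.split 3 357 (.lin 1) (.split 1 411 (.lin 2) (.split 5 (-509) (.lin 1) (.split 4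
    (-191) (.splitN 526096 (.split 0 (-243) (.split 4 (-209) (.split 0 (-382) .sq (.split 4
    (-345) (.lin 3) (.splitN 492470 (.split 0 (-263) (.split 3 393 (.lin 1) (.split 1 447 (.lin
    2) (.split 4 (-227) .sq (.lin 3)))) (.wt 2)) (.wt 1)))) (.lin 3)) (.wt 2)) (.wt 1)) (.lin
    3))))) (.wt 2)))))) (.splitN 529646 (.split 0 (-621) .sq (.split 4 (-579) (.lin 3) (.split 1
    641 (.split 4 (-543) (.lin 0) (.split 3 583 (.split 5 (-101) (.split 1 303 (.lin 0) (.split 0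
    (-534) (.lin 1) (.split 3 249 (.lin 6) (.split 4 (-498) (.lin 0) (.split 0 (-214) (.split 3
    267 (.lin 1) (.split 1 321 (.lin 2) (.split 0 (-230) (.split 3 285 (.lin 1) (.split 1 339
    (.lin 2) (.split 4 (-200) (.splitN 454595 (.split 0 (-246) (.split 3 303 (.lin 1) (.split 1
    357 (.lin 2) (.split 4 (-218) (.split 0 (-414) .sq (.split 3 529 (.split 1 583 (.split 4
    (-372) (.lin 3) (.splitN 428110 (.split 0 (-279) (.split 3 330 (.lin 1) (.split 1 384 (.lin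
    2) (.split 4 (-245) (.splitN 411848 .sq (.split 0 (-384) (.split 3 438 (.lin 1) (.split 4
    (-353) .sq (.lin 3))) (.wt 1))) (.lin 3)))) (.wt 2)) (.wt 1))) (.lin 2)) (.lin 1))) (.lin
    3)))) (.wt 2)) (.wt 1)) (.lin 3)))) (.wt 2)))) (.wt 2)))))) (.split 0 (-217) (.split 3 222
    (.lin 1) (.split 0 (-242) (.split 3 249 (.lin 1) (.split 1 303 (.lin 2) (.split 0 (-282)
    (.split 3 294 (.lin 1) (.split 1 348 (.lin 2) (.split 4 (-254) (.splitN 365273 .sq (.splitN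
    367195 (.split 0 (-570) (.split 3 582 (.lin 1) (.split 1 636 (.lin 2) (.split 5 (-59) (.lin
    1) (.split 4 (-542) .sq (.lin 0))))) (.wt 1)) (.wt 1))) (.lin 3)))) (.wt 2)))) (.wt 2))) (.wt
    2))) (.lin 2))) .sq))) (.wt 1))) (.lin 2))) .sq))) (.wt 1))))) .sq))) (.wt 1)) (.lin 2))
    (.lin 1)))) (.wt 1)) (.lin 3)))) (.split 4 (-156) (.lin 3) (.split 0 (-112) (.split 3 253
    (.split 5 (-185) (.lin 1) (.split 1 304 (.split 0 (-131) (.split 3 141 (.lin 1) (.split 1 195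
    (.lin 2) (.split 5 (-167) (.lin 1) (.split 0 (-147) (.split 3 159 (.lin 1) (.split 1 213
    (.lin 2) (.split 5 (-149) (.lin 1) (.split 4 (-119) (.splitN 452486 (.split 3 203 (.split 5
    (-95) (.lin 1) (.split 1 250 (.splitN 382413 (.wt 0) (.wt 1)) (.lin 2))) (.wt 0)) (.wt 1))
    (.lin 3))))) (.wt 2))))) (.wt 2)) (.lin 2))) (.wt 2)) (.wt 2)))) (.split 0 (-137) (.split 4
    (-101) (.splitN 439611 (.split 1 4868 (.split 4 (-4809) (.lin 0) (.split 0 (-4845) (.lin 3)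
    (.split 0 (-167) (.split 3 141 (.lin 1) (.split 1 195 (.lin 2) (.split 0 (-187) (.split 3 159
    (.lin 1) (.split 4 (-155) (.split 0 (-227) (.split 3 195 (.lin 1) (.split 1 249 (.lin 2)
    (.split 4 (-191) (.splitN 333086 (.split 1 3680 (.split 4 (-3621) (.lin 0) (.splitN 208960
    (.wt 5) (.split 5 (-25) (.split 0 (-330) (.split 3 312 (.lin 1) (.split 1 366 (.lin 2)
    (.split 4 (-299) .sq (.lin 3)))) (.wt 2)) (.wt 1)))) (.div 1)) (.wt 1)) (.lin 3)))) (.wt 2))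
    (.lin 3))) (.wt 2)))) (.wt 2)))) (.div 1)) (.wt 1)) (.lin 3)) (.lin 1)))) (.split 0 (-435)
    (.split 3 411 (.lin 1) (.wt 0)) (.wt 0)))))

def cert5_76_5 : Cert :=
  (.split 4 (-48) (.split 0 (-65) (.split 1 105 (.lin 8) (.split 0 (-83) (.split 6 44 (.split 2
    (-18) (.lin 9) (.split 3 130 (.split 0 (-156) (.lin 1) (.split 1 178 (.split 0 (-147) (.lin
    7) (.split 1 169 (.split 4 (-129) (.lin 0) (.split 4 (-120) (.lin 6) (.split 7 (-33) (.split
    3 69 (.lin 6) (.split 1 114 (.lin 8) (.split 2 (-9) (.lin 9) (.split 0 (-92) (.split 4 (-111)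
    (.lin 6) (.split 6 43 (.lin 9) (.split 5 (-41) (.split 1 141 (.lin 0) (.split 3 96 (.lin 6)
    (.split 3 110 (.split 1 151 (.split 5 (-59) (.lin 0) (.splitN 39063829 (.split 0 (-100) (.wt
    2) (.split 4 (-57) (.lin 3) (.splitN 3141862 (.wt 3) (.split 5 (-54) (.split 1 150 (.lin 0)
    (.split 3 105 (.lin 6) (.wt 0))) (.split 1 142 (.split 3 97 (.wt 0) (.lin 6)) (.lin 0))))))
    (.wt 3))) (.lin 2)) (.split 1 159 (.lin 2) (.split 5 (-63) (.split 4 (-66) (.lin 0) (.splitN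
    5660094 (.wt 1) (.split 4 (-57) (.split 0 (-101) (.wt 0) (.lin 3)) (.wt 1)))) (.split 4 (-65)
    (.split 0 (-101) (.split 0 (-109) (.wt 2) (.split 3 115 (.split 1 160 (.split 5 (-58) (.split
    4 (-66) (.lin 0) (.splitN 1613987 (.wt 0) (.wt 0))) (.lin 1)) (.lin 2)) (.lin 1))) (.lin 1))
    (.lin 0))))))) (.split 3 97 (.split 0 (-120) (.lin 1) (.split 1 142 (.split 4 (-84) (.lin 0)
    (.split 5 (-31) (.split 1 123 (.lin 0) (.split 3 78 (.lin 6) (.split 4 (-75) (.lin 0) (.split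
    3 88 (.split 1 133 (.split 4 (-66) (.lin 0) (.splitN 666001 (.wt 1) (.split 5 (-39) (.wt 2)
    (.split 3 83 (.split 0 (-93) (.lin 1) (.split 1 124 (.split 4 (-57) (.lin 0) (.splitN 870558
    (.wt 0) (.wt 0))) (.lin 2))) (.split 0 (-101) (.split 1 132 (.lin 2) (.split 4 (-65) (.wt 0)
    (.lin 0))) (.lin 1)))))) (.lin 2)) (.split 0 (-101) (.split 1 141 (.lin 2) (.split 4 (-65)
    (.splitN 630595 (.wt 1) (.splitN 917409 (.split 5 (-38) (.wt 1) (.split 4 (-74) (.split 0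
    (-110) (.wt 0) (.lin 1)) (.lin 0))) (.wt 5))) (.lin 0))) (.lin 1)))))) (.split 3 88 (.split 0
    (-111) (.lin 1) (.split 1 133 (.split 4 (-75) (.lin 0) (.splitN 531701 (.split 3 80 (.split 0
    (-102) (.lin 1) (.split 1 124 (.split 4 (-66) (.lin 0) (.splitN 495499 (.split 3 76 (.split 1
    115 (.split 4 (-57) (.lin 0) (.wt 0)) (.lin 2)) (.wt 0)) (.wt 1))) (.lin 2))) (.wt 2)) (.wt
    1))) (.lin 2))) (.wt 2)))) (.lin 2))) (.split 0 (-110) (.split 1 150 (.lin 2) (.split 4 (-74)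
    (.split 5 (-31) (.split 5 (-36) (.split 4 (-93) (.lin 0) (.splitN 769204 (.wt 1) (.split 0
    (-127) (.wt 0) (.split 3 115 (.split 1 160 (.split 4 (-84) (.lin 0) (.splitN 866067 (.wt 1)
    (.wt 0))) (.lin 2)) (.lin 1))))) (.split 4 (-83) (.split 0 (-119) (.split 0 (-134) (.wt 2)
    (.split 3 115 (.split 1 160 (.split 4 (-93) (.lin 0) (.splitN 557186 (.wt 1) (.split 3 106
    (.wt 0) (.split 1 159 (.lin 2) (.split 4 (-92) (.wt 0) (.lin 0)))))) (.lin 2)) (.lin 1)))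
    (.lin 1)) (.lin 0))) (.wt 2)) (.lin 0))) (.lin 1)))))) (.lin 12))))) (.split 5 (-36) (.wt 1)
    (.split 6 35 (.wt 1) (.split 0 (-102) (.split 3 87 (.lin 1) (.wt 0)) (.wt 0))))))) (.lin
    11))) (.lin 2))) (.split 1 168 (.lin 2) (.split 7 (-33) (.split 1 177 (.lin 2) (.split 2 (-9)
    (.lin 9) (.split 0 (-92) (.split 6 43 (.lin 9) cert5_76_3) (.lin 12)))) (.split 5 (-76) (.wt
    1) (.split 4 (-100) (.split 0 (-119) (.split 5 (-55) (.wt 1) (.split 6 39 (.split 2 (-9)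
    (.lin 9) (.wt 1)) (.split 2 (-17) (.split 0 (-208) (.split 3 186 (.lin 1) (.split 1 231 (.lin
    2) (.split 0 (-560) (.split 3 537 (.lin 1) (.wt 0)) (.wt 0)))) (.wt 0)) (.lin 9)))) (.lin 3))
    (.wt 3))))))) (.split 2 (-17) (.split 1 114 (.lin 11) cert5_76_4) (.lin 9))) (.lin 12)))
    (.lin 3)) (.split 0 (-93) (.lin 3) (.split 0 (-84) (.lin 12) (.split 4 (-22) (.split 7 (-29)
    (.split 1 105 (.lin 2) (.split 2 (-18) (.lin 9) (.split 0 (-65) (.split 6 43 (.lin 9) (.split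
    3 144 (.split 5 (-131) (.lin 1) (.split 3 132 (.split 5 (-113) (.lin 1) (.split 3 112 (.split
    5 (-95) (.lin 1) (.split 5 (-24) (.split 3 104 (.split 5 (-86) (.lin 1) (.split 6 48 (.split
    2 (-9) (.lin 9) (.split 1 142 (.split 3 74 (.split 1 115 (.split 4 (-43) (.split 1 114 (.lin
    0) (.split 3 69 (.lin 6) (.split 5 (-32) (.lin 0) (.splitN 1578524 (.wt 0) (.wt 1)))))
    (.split 0 (-75) (.lin 3) (.wt 5))) (.lin 2)) (.split 1 123 (.lin 2) (.split 0 (-77) (.split 4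
    (-47) (.split 3 82 (.split 5 (-41) (.lin 1) (.splitN 13550815 (.wt 0) (.wt 1))) (.wt 0))
    (.lin 3)) (.wt 0)))) (.lin 11))) (.split 2 (-17) (.wt 2) (.lin 9)))) (.wt 4)) (.wt 2))) (.wt
    2))) (.wt 0))) (.wt 0))) (.lin 12)))) (.wt 3)) (.wt 3)))))

def cert5_76_6 : Cert :=
  (.split 3 58 (.split 0 (-129) (.lin 1) (.split 1 151 (.split 0 (-102) (.lin 7) (.split 1 124
    (.split 5 (-113) (.lin 0) (.split 5 (-77) (.lin 4) (.split 4 (-75) (.lin 6) (.split 7 (-42)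
    (.split 1 78 (.lin 2) (.split 1 87 (.lin 8) (.split 2 (-27) (.lin 9) (.split 0 (-65) (.split
    5 (-68) (.lin 1) (.split 5 (-59) (.lin 4) (.split 4 (-57) (.lin 6) (.split 6 52 (.lin 9)
    (.split 3 38 (.split 0 (-84) (.lin 7) (.split 1 106 (.split 5 (-41) (.lin 4) (.split 4 (-29)
    (.split 5 (-32) (.lin 6) (.split 2 (-17) (.split 0 (-74) (.splitN 235652 (.split 3 27 (.wt 2)
    (.split 7 (-51) (.split 1 105 (.lin 2) (.split 2 (-18) (.lin 9) (.split 0 (-83) (.split 5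
    (-23) (.lin 1) (.split 4 (-30) (.lin 5) (.split 6 70 (.lin 0) (.splitN 152403 (.wt 0) (.wt
    0))))) (.lin 12)))) .cand)) (.wt 3)) (.lin 12)) (.lin 10))) (.split 0 (-75) (.lin 12) (.split
    3 29 (.split 2 (-17) (.split 1 97 (.split 6 61 (.lin 3) (.split 5 (-28) (.wt 2) (.split 2
    (-18) (.lin 10) (.splitN 176920 (.wt 1) (.split 7 (-55) (.wt 0) (.split 0 (-66) (.lin 1)
    (.split 1 88 (.split 6 62 (.splitN 234239 (.wt 0) (.wt 0)) (.lin 0)) (.lin 2)))))))) (.lin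
    11)) (.lin 10)) (.split 6 65 (.split 1 97 (.split 5 (-32) (.lin 4) (.splitN 1558388 (.split 6
    60 (.split 0 (-66) (.lin 3) (.split 2 (-9) (.lin 9) (.split 1 88 (.split 5 (-23) (.lin 0)
    (.split 7 (-47) (.lin 1) (.wt 0))) (.lin 11)))) (.wt 2)) (.wt 1))) (.lin 11)) (.wt 2))))))
    (.lin 11))) (.split 1 96 (.lin 2) (.split 4 (-38) (.split 5 (-41) (.lin 6) (.split 1 105
    (.lin 8) (.split 0 (-83) (.split 6 62 (.split 4 (-48) (.lin 6) (.split 0 (-93) (.lin 7)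
    (.split 2 (-18) (.lin 9) (.split 1 115 (.split 5 (-32) (.lin 4) (.split 7 (-51) (.split 3 51
    (.lin 6) (.split 1 114 (.lin 8) (.split 2 (-9) (.lin 9) (.split 0 (-92) (.split 5 (-23) (.lin
    1) (.split 4 (-39) (.lin 5) (.split 6 61 (.lin 0) (.splitN 203623 (.wt 0) (.wt 0))))) (.lin
    12))))) (.split 6 57 (.split 3 51 (.lin 6) (.split 0 (-84) (.lin 7) (.split 2 (-9) (.lin 9)
    (.split 1 106 (.split 4 (-39) (.lin 0) (.split 5 (-23) (.lin 0) (.splitN 308043 (.wt 0) (.wt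
    0)))) (.lin 11))))) (.split 2 (-17) (.splitN 185184 (.split 3 48 (.split 1 106 (.split 4
    (-39) (.lin 0) (.split 5 (-23) (.lin 0) (.wt 0))) (.lin 2)) (.wt 0)) (.wt 1)) (.lin 9)))))
    (.lin 11))))) (.split 2 (-17) (.split 1 114 (.lin 11) (.split 3 51 (.split 4 (-48) (.lin 6)
    (.split 0 (-93) (.lin 7) (.split 1 115 (.split 5 (-32) (.lin 0) (.wt 2)) (.lin 11)))) (.wt
    2))) (.lin 9))) (.lin 12)))) (.split 0 (-84) (.lin 12) (.split 6 69 (.split 5 (-50) (.lin 6)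
    (.split 2 (-18) (.lin 9) (.split 1 115 (.split 4 (-25) (.split 5 (-41) (.lin 6) (.split 0
    (-74) (.split 5 (-31) (.split 1 105 (.lin 4) (.split 7 (-51) (.split 3 51 (.lin 6) (.split 1
    114 (.lin 8) (.split 2 (-9) (.lin 9) (.split 0 (-83) (.split 5 (-32) (.lin 1) (.split 6 61
    (.lin 0) (.splitN 351238 (.wt 0) (.wt 0)))) (.lin 12))))) (.split 0 (-75) (.lin 12) (.split 3
    46 (.split 2 (-17) (.split 1 106 (.split 5 (-32) (.lin 1) (.split 6 61 (.lin 0) (.splitN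
    436052 (.wt 0) (.wt 0)))) (.lin 2)) (.lin 1)) (.wt 2))))) (.split 1 106 (.split 2 (-9) (.lin
    10) (.split 3 43 (.splitN 247012 (.split 7 (-49) (.split 0 (-83) (.split 1 105 (.lin 2)
    (.split 6 61 (.lin 0) (.splitN 239518 (.wt 0) (.wt 0)))) (.lin 1)) (.wt 0)) (.wt 6)) (.lin
    10))) (.lin 0))) (.lin 12))) (.split 0 (-75) (.lin 3) (.splitN 867063 (.split 7 (-48) (.split
    1 105 (.lin 2) (.split 2 (-9) (.lin 9) (.split 0 (-74) (.split 6 61 (.lin 3) (.wt 0)) (.lin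
    12)))) (.wt 0)) (.wt 6)))) (.lin 11)))) (.wt 2)))))))))) (.lin 12))))) cert5_76_0)))) (.lin
    11))) (.lin 2))) (.split 1 96 (.lin 2) (.split 7 (-42) (.split 1 114 (.lin 2) (.split 2 (-27)
    (.lin 9) (.split 0 (-65) (.split 6 52 (.lin 9) (.split 4 (-48) (.split 0 (-83) (.split 1 123
    (.lin 8) (.split 0 (-101) cert5_76_2 (.lin 12))) (.lin 3)) (.split 0 (-111) (.lin 3) (.split
    0 (-102) (.lin 12) (.split 3 181 (.split 5 (-194) (.lin 1) (.split 3 147 (.split 5 (-158)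
    (.lin 1) (.split 5 (-149) (.lin 6) (.split 3 140 (.split 5 (-140) (.lin 6) (.split 4 (-34)
    (.split 5 (-122) (.lin 6) (.split 0 (-83) (.split 5 (-52) (.split 1 123 (.lin 0) (.split 3 69
    (.lin 6) (.split 1 141 (.lin 8) (.split 3 124 (.split 5 (-113) (.lin 6) (.split 3 122 (.split
    6 64 (.split 3 78 (.lin 6) (.split 5 (-95) (.lin 6) (.split 6 60 (.split 0 (-93) (.lin 3)
    (.split 3 87 (.lin 6) (.split 7 (-47) (.lin 9) (.wt 2)))) (.wt 2)))) (.wt 2)) (.wt 2))) (.wt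
    2))))) (.split 1 160 (.split 6 65 (.split 5 (-36) (.split 1 123 (.lin 4) (.split 7 (-51)
    (.split 3 69 (.lin 6) (.split 1 132 (.lin 8) (.split 2 (-9) (.lin 9) (.split 6 61 (.lin 9)
    (.splitN 195936 (.wt 0) (.wt 1)))))) (.split 1 142 (.split 0 (-93) (.lin 12) (.splitN 393592
    (.split 3 71 (.split 6 57 (.split 3 69 (.lin 6) (.split 2 (-9) (.lin 9) (.split 1 124 (.split
    4 (-39) (.lin 0) (.split 5 (-41) (.lin 0) (.wt 0))) (.lin 11)))) (.wt 2)) (.wt 2)) (.wt 1)))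
    (.lin 8)))) (.split 6 58 (.split 0 (-93) (.lin 3) (.split 7 (-47) (.lin 9) (.wt 2))) (.wt
    2))) (.wt 2)) (.lin 0))) (.lin 12))) (.split 0 (-84) (.lin 12) (.split 0 (-67) (.split 3 72
    (.split 5 (-77) (.lin 1) (.split 1 142 (.split 5 (-68) (.lin 4) (.splitN 491523 (.split 4
    (-21) (.split 0 (-77) (.split 2 (-18) (.lin 3) (.split 5 (-59) (.lin 1) (.split 6 61 (.lin 3)
    (.split 1 123 (.lin 11) (.split 7 (-55) (.splitN 324524 (.wt 0) (.wt 1)) (.lin 12)))))) (.wt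
    2)) (.wt 0)) (.wt 6))) (.lin 11))) (.wt 2)) (.wt 2))))) (.wt 2)))) (.wt 2))) (.wt 2))))))
    (.lin 12)))) (.split 6 53 (.split 2 (-27) (.lin 9) cert5_76_5) (.split 2 (-26) (.split 1 123
    (.lin 11) (.split 4 (-23) (.split 3 1368 (.split 0 (-1425) (.lin 1) (.split 1 1447 (.split 4
    (-1407) (.lin 0) (.split 5 (-1400) (.lin 0) (.split 3 545 (.split 0 (-597) (.lin 1) (.split 1
    619 (.split 4 (-579) (.lin 0) (.split 5 (-572) (.lin 0) (.split 0 (-68) (.split 5 (-536)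
    (.lin 7) (.split 4 (-38) (.split 3 293 (.split 0 (-345) (.lin 1) (.split 1 367 (.split 4
    (-327) (.lin 0) (.split 5 (-311) (.lin 0) (.split 3 181 (.split 0 (-237) (.lin 1) (.split 1
    259 (.split 4 (-219) (.lin 0) (.split 5 (-203) (.lin 0) (.split 5 (-185) (.lin 1) (.split 4
    (-201) (.lin 6) (.split 0 (-78) (.split 3 124 (.split 0 (-183) (.lin 1) (.split 1 205 (.split
    4 (-165) (.lin 0) (.split 4 (-147) (.lin 6) (.split 5 (-113) (.lin 7) (.split 0 (-88) (.split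
    4 (-56) (.split 3 93 (.split 0 (-138) (.lin 7) (.split 1 160 (.split 5 (-86) (.lin 0) (.split
    5 (-77) (.lin 1) (.split 5 (-68) (.lin 4) (.split 4 (-111) (.lin 6) (.splitN 669507 (.split 7
    (-31) (.split 4 (-102) (.lin 6) (.split 2 (-36) (.lin 9) (.splitN 346969 (.split 3 85 (.split
    0 (-129) (.lin 1) (.split 5 (-59) (.lin 1) (.split 4 (-93) (.lin 6) (.splitN 275548 (.split 0
    (-109) (.split 5 (-41) (.lin 1) (.split 1 132 (.lin 4) (.split 4 (-74) (.splitN 262219 (.wt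
    0) (.wt 1)) (.lin 12)))) (.wt 0)) (.wt 6))))) (.wt 0)) (.wt 1)))) (.wt 0)) (.wt 6)))))) (.lin
    11))) (.wt 2)) (.lin 12)) (.wt 2))))) (.lin 2))) (.wt 2)) (.wt 2)))))) (.lin 2))) (.wt 2))))
    (.lin 2))) (.wt 2)) (.lin 12))) (.wt 2)))) (.lin 2))) (.wt 2)))) (.lin 2))) (.wt 2)) (.wt
    0))) (.lin 9))))))

def cert5_76_7 : Cert :=
  (.split 6 195 (.split 4 (-165) (.lin 6) (.split 0 (-210) (.lin 7) (.split 2 (-144) (.lin 9)
    (.split 1 232 (.split 5 (-140) (.lin 1) (.split 3 34 (.split 2 (-44) (.split 5 (-122) (.lin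
    6) (.split 6 88 (.lin 6) (.splitN 168513 (.split 6 138 (.split 4 (-102) (.lin 6) (.split 0
    (-147) (.lin 7) (.split 2 (-90) (.lin 9) (.split 1 169 (.splitN 77851 (.wt 1) (.split 3 29
    (.wt 2) (.split 5 (-39) (.split 4 (-84) (.lin 6) (.split 7 (-51) .cand (.splitN 108775 (.wt
    1) .cand))) (.split 6 111 (.split 4 (-75) (.lin 6) (.split 0 (-120) (.lin 7) (.split 1 142
    (.split 7 (-51) (.split 0 (-110) (.splitN 106000 .cand (.wt 0)) (.lin 12)) (.split 6 106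
    (.split 4 (-66) (.lin 6) (.split 0 (-111) (.lin 7) (.split 2 (-54) (.lin 9) (.split 1 133
    (.splitN 130051 (.split 5 (-24) (.split 0 (-102) (.lin 1) (.split 1 132 (.lin 8) (.split 2
    (-53) (.split 4 (-57) (.lin 5) (.split 6 97 (.lin 0) (.wt 0))) (.lin 10)))) (.wt 2)) (.wt 1))
    (.lin 11))))) (.wt 2))) (.lin 11)))) (.split 4 (-65) (.split 0 (-119) (.split 1 132 (.lin 8)
    (.split 1 150 (.lin 11) (.split 7 (-51) (.splitN 108651 .cand (.wt 0)) (.split 2 (-71)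
    (.split 4 (-74) (.splitN 103718 (.wt 0) (.split 5 (-24) (.split 0 (-138) (.lin 1) (.split 4
    (-93) (.lin 6) (.splitN 108357 (.wt 0) (.wt 6)))) (.wt 1))) (.lin 6)) (.lin 2))))) (.lin 7))
    (.lin 6)))))) (.lin 11))))) (.split 2 (-89) (.split 1 168 (.lin 11) (.split 5 (-52) (.split 0
    (-174) (.lin 1) (.split 0 (-165) (.lin 7) (.split 4 (-120) (.lin 6) (.split 3 26 (.wt 2)
    (.split 1 177 (.lin 11) (.splitN 149019 (.split 7 (-51) .cand (.splitN 99448 (.wt 0) .cand))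
    (.wt 1))))))) (.split 0 (-110) (.split 0 (-119) (.split 4 (-65) (.splitN 78542 .sq (.split 3
    29 (.split 1 214 (.splitN 85170 (.wt 6) (.split 4 (-145) (.wt 0) (.split 7 (-53) (.wt 0)
    (.split 4 (-74) (.splitN 92302 (.wt 1) (.split 4 (-99) (.wt 0) (.split 5 (-31) (.split 6 161
    (.wt 0) (.lin 6)) (.lin 6)))) (.lin 6))))) (.lin 11)) (.split 4 (-74) (.split 7 (-51)
    (.splitN 103757 .cand (.wt 1)) .cand) (.lin 6)))) (.lin 6)) (.lin 4)) (.lin 1)))) (.lin 9)))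
    (.wt 3)))) (.lin 10)) (.split 6 134 (.split 4 (-111) (.lin 6) (.split 0 (-156) (.lin 7)
    (.split 2 (-90) (.lin 9) (.split 1 178 (.split 5 (-77) (.lin 4) (.split 5 (-41) (.split 0
    (-138) (.lin 1) (.split 0 (-129) (.lin 4) (.split 1 150 (.lin 8) (.split 2 (-62) (.split 4
    (-84) (.lin 6) (.split 6 106 (.lin 6) (.splitN 128302 (.split 7 (-47) (.split 2 (-81) (.lin
    9) (.split 0 (-110) (.split 5 (-68) (.lin 1) (.split 4 (-75) (.lin 6) (.split 6 115 (.lin 6)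
    (.splitN 109037 (.wt 0) (.wt 1))))) (.lin 12))) (.wt 0)) (.wt 6)))) (.lin 10))))) (.split 6
    116 (.split 4 (-93) (.lin 6) (.split 0 (-138) (.lin 7) (.split 6 106 (.split 4 (-75) (.lin 6)
    (.split 1 142 (.split 5 (-25) (.split 0 (-111) (.lin 4) (.split 4 (-66) (.lin 6) (.split 6 88
    (.lin 6) (.wt 2)))) (.wt 2)) (.lin 11))) (.wt 2)))) (.wt 2)))) (.lin 11))))) (.split 2 (-89)
    (.split 1 186 (.lin 11) (.split 0 (-128) (.split 5 (-104) (.lin 4) (.split 0 (-136) (.split 5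
    (-95) (.lin 4) (.split 4 (-83) (.splitN 93446 .sq (.split 5 (-24) (.split 4 (-156) (.lin 6)
    (.split 0 (-143) (.split 5 (-86) (.lin 4) (.split 4 (-92) (.splitN 98045 .sq (.split 5 (-32)
    (.split 0 (-192) (.lin 4) (.split 4 (-147) (.lin 6) (.splitN 116766 (.split 7 (-47) (.splitN
    102172 (.split 0 (-163) (.split 2 (-107) (.split 1 204 (.lin 2) (.split 6 160 (.lin 7)
    (.split 4 (-110) .sq (.lin 12)))) (.lin 1)) (.wt 1)) (.wt 1)) (.wt 0)) (.wt 6)))) (.wt 1)))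
    (.lin 12))) (.wt 2))) (.wt 1))) (.lin 12))) (.wt 2))) (.wt 2))) (.lin 9))))) (.lin 11)))))
    (.split 2 (-143) (.split 1 222 (.lin 11) (.splitN 125549 .sq (.splitN 193711 (.split 5 (-30)
    (.split 0 (-276) .sq (.split 4 (-228) (.lin 12) (.split 5 (-32) (.split 1 339 (.split 2
    (-261) (.lin 2) (.split 5 (-257) (.lin 1) (.split 5 (-230) (.lin 4) (.splitN 178929 (.split 3
    42 (.split 1 319 (.split 2 (-243) (.lin 2) (.split 6 296 (.split 7 (-55) (.wt 3) .cand) (.lin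
    9))) .sq) (.wt 6)) (.wt 1))))) .sq) (.wt 1)))) (.wt 1)) (.wt 1)))) (.lin 9)))

def cert5_76_8 : Cert :=
  (.split 4 (-34) (.split 5 (-113) (.lin 6) (.split 0 (-83) (.split 6 120 (.split 2 (-72) (.lin
    9) (.split 1 151 (.split 5 (-68) (.lin 4) (.split 3 29 (.split 1 142 (.split 0 (-101) (.wt 2)
    (.split 5 (-28) (.wt 2) (.split 6 89 (.wt 2) (.lin 7)))) (.lin 11)) (.split 1 114 (.lin 11)
    (.split 5 (-39) (.split 2 (-44) (.split 6 88 (.lin 6) (.splitN 102004 (.wt 1) (.split 7 (-51)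
    (.split 0 (-92) (.splitN 146439 .cand (.wt 0)) (.lin 12)) (.split 0 (-93) (.lin 12) (.split 6
    101 (.split 2 (-63) (.lin 3) (.split 2 (-54) (.lin 9) (.split 1 133 (.split 5 (-50) (.lin 1)
    (.splitN 164083 (.split 4 (-39) (.split 5 (-41) (.lin 6) (.split 1 132 (.lin 8) (.split 2
    (-53) (.split 0 (-92) (.split 6 97 (.lin 0) (.splitN 156468 (.wt 0) (.wt 0))) (.lin 12))
    (.lin 10)))) (.wt 0)) (.wt 1))) (.lin 11)))) (.wt 2)))))) (.lin 10)) (.split 1 133 (.split 2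
    (-45) (.lin 10) (.splitN 160258 (.split 7 (-51) .cand (.split 2 (-35) (.split 0 (-93) (.lin
    12) (.splitN 151220 (.split 4 (-40) (.split 0 (-92) (.splitN 141698 (.split 6 85 (.split 2
    (-36) (.lin 3) (.split 1 115 (.split 5 (-23) (.lin 0) (.wt 0)) (.lin 11))) (.wt 0)) (.wt 1))
    (.lin 12)) (.wt 0)) (.wt 1))) (.lin 9))) (.wt 1))) (.lin 8)))))) (.lin 11))) (.split 2 (-62)
    (.split 2 (-71) (.split 1 150 (.lin 11) (.split 5 (-49) (.split 3 29 (.split 1 187 (.splitN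
    126579 (.wt 6) (.split 7 (-51) (.wt 0) (.split 2 (-80) (.split 0 (-93) (.lin 12) (.split 5
    (-58) (.splitN 149735 (.wt 6) (.split 0 (-85) (.wt 0) (.split 5 (-67) (.wt 0) (.lin 1))))
    (.lin 1))) (.lin 2)))) (.lin 11)) (.split 1 159 (.lin 11) (.splitN 114128 (.wt 0) (.splitN
    142142 (.split 7 (-49) (.split 5 (-104) (.lin 6) (.splitN 129672 (.split 4 (-40) (.split 0
    (-101) (.splitN 121386 (.split 6 139 (.split 2 (-81) (.lin 3) (.split 5 (-68) (.lin 1) (.wt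
    1))) (.wt 0)) (.wt 1)) (.lin 12)) (.wt 0)) (.wt 1))) (.wt 0)) (.wt 6))))) (.lin 4))) (.lin
    9)) (.lin 3))) (.lin 12))) (.split 0 (-84) (.lin 12) (.split 6 120 (.split 2 (-81) (.lin 3)
    (.split 2 (-72) (.lin 9) (.split 1 151 (.split 5 (-95) (.lin 1) (.split 3 29 (.split 5 (-77)
    (.lin 6) (.split 1 142 (.split 5 (-41) (.split 2 (-35) (.split 1 114 (.lin 8) (.split 2 (-44)
    (.split 6 88 (.lin 6) (.split 4 (-25) (.split 2 (-53) (.split 0 (-74) (.splitN 183916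
    (.splitN 174941 (.wt 6) (.split 0 (-78) (.wt 0) (.split 7 (-47) (.lin 12) (.split 6 108 (.wt
    0) (.split 2 (-71) (.split 1 141 (.lin 11) (.split 5 (-67) (.wt 1) (.lin 0))) (.lin 3))))))
    (.wt 0)) (.lin 12)) (.lin 10)) (.split 0 (-75) (.lin 12) (.split 6 113 (.split 2 (-63) (.lin
    3) (.split 1 133 (.split 5 (-68) (.lin 4) (.split 7 (-51) (.split 2 (-54) (.lin 9) (.split 0
    (-74) (.split 5 (-59) (.lin 1) (.split 6 98 (.wt 2) (.split 2 (-53) (.split 1 132 (.lin 11)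
    (.split 5 (-58) (.splitN 203076 (.wt 0) (.wt 0)) (.lin 0))) (.lin 3)))) (.lin 12))) (.split 0
    (-66) (.lin 12) (.splitN 357750 (.wt 0) (.wt 1))))) (.lin 11))) (.wt 2))))) (.lin 10))) (.lin
    1)) (.split 2 (-54) (.lin 1) (.split 1 133 (.split 2 (-45) (.lin 10) (.split 6 98 (.splitN
    110926 (.wt 1) (.split 4 (-25) (.split 0 (-74) (.split 5 (-31) (.wt 2) (.split 0 (-83)
    (.split 1 106 (.split 2 (-27) (.lin 10) (.split 6 80 (.split 7 (-55) (.wt 0) (.lin 1)) (.lin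
    0))) (.lin 8)) (.lin 4))) (.lin 12)) (.split 5 (-31) (.split 1 115 (.split 2 (-36) (.lin 10)
    (.split 0 (-75) (.lin 12) (.split 6 89 (.splitN 166942 (.wt 1) (.split 7 (-51) (.split 0
    (-74) (.split 6 80 (.wt 0) (.split 2 (-35) (.split 1 114 (.lin 11) (.split 5 (-40) (.splitN
    173643 (.wt 0) (.wt 0)) (.lin 0))) (.lin 3))) (.lin 12)) (.split 1 106 (.split 2 (-35)
    (.split 0 (-66) (.lin 12) (.split 5 (-40) (.split 6 80 (.splitN 322712 (.wt 0) (.wt 0)) (.lin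
    0)) (.lin 1))) (.lin 9)) (.lin 2)))) (.lin 3)))) (.lin 8)) (.lin 6)))) (.lin 6))) (.lin 2))))
    (.lin 11))) (.split 1 114 (.lin 11) (.split 0 (-67) (.split 5 (-77) (.lin 4) (.split 4 (-23)
    (.split 5 (-43) (.split 2 (-44) (.split 6 88 (.lin 3) (.wt 2)) (.lin 10)) (.wt 2)) (.wt 2)))
    (.wt 2))))) (.lin 11)))) (.split 2 (-62) (.split 2 (-71) (.split 1 150 (.lin 11) (.split 5
    (-67) (.splitN 112511 (.wt 0) (.split 3 29 (.split 5 (-122) (.lin 6) (.split 1 187 (.split 4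
    (-25) (.split 0 (-74) (.splitN 245582 .cand (.wt 0)) (.lin 12)) (.split 0 (-75) (.lin 12)
    (.wt 2))) (.lin 11))) (.wt 2))) (.lin 4))) (.lin 9)) (.lin 3)))))

def cert5_76_9 : Cert :=
  (.split 3 47 (.split 4 (-48) (.split 1 123 (.lin 8) (.split 2 (-35) (.split 0 (-101) (.splitN
    695534 (.split 1 7712 (.split 2 (-7641) (.lin 2) (.split 5 (-15215) (.lin 0) (.split 2
    (-3857) (.div 2) (.split 1 3949 (.split 6 3905 (.splitN 323286 (.split 2 (-1787) (.div 2)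
    (.split 0 (-1857) (.lin 1) (.split 0 (-541) .sq (.split 1 545 (.split 2 (-468) (.lin 2)
    (.split 6 521 (.splitN 272983 (.split 1 498 (.split 5 (-392) (.lin 4) cert5_76_7) .sq) (.wt
    3)) (.lin 9))) .sq)))) (.wt 3)) (.lin 9)) (.lin 2))))) (.div 1)) (.wt 1)) (.lin 12)) (.lin
    10))) (.split 0 (-102) (.lin 12) (.split 6 168 (.split 2 (-144) (.lin 3) (.split 2 (-117)
    (.lin 9) (.split 1 205 (.split 5 (-221) (.lin 0) (.split 5 (-149) (.lin 1) (.split 5 (-140)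
    (.lin 4) (.split 3 34 (.split 5 (-131) (.lin 6) cert5_76_8) (.split 1 114 (.lin 2) (.split 1
    123 (.lin 11) (.split 0 (-73) (.split 5 (-131) (.lin 4) (.split 4 (-30) (.split 5 (-122)
    (.lin 6) (.split 0 (-83) (.split 5 (-43) (.split 1 132 (.lin 8) (.split 2 (-44) (.split 6 88
    (.lin 6) (.splitN 156831 (.split 6 136 (.split 2 (-90) (.lin 9) (.split 1 178 (.split 5
    (-104) (.lin 1) (.split 5 (-95) (.lin 4) (.splitN 137134 (.split 4 (-40) (.split 2 (-53)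
    (.split 0 (-92) (.split 6 97 (.lin 3) (.wt 2)) (.lin 12)) (.lin 10)) (.wt 0)) (.wt 6))))
    (.lin 11))) (.wt 0)) (.wt 6))) (.lin 10))) (.wt 2)) (.lin 12))) (.wt 2))) (.wt 2))))))))
    (.lin 11)))) (.split 2 (-89) (.split 2 (-116) (.split 1 195 (.lin 11) (.split 5 (-94)
    (.splitN 405065 (.split 3 32 (.split 1 586 (.split 2 (-513) (.lin 2) (.split 5 (-527) (.lin
    1) (.splitN 358727 (.split 1 546 (.split 2 (-468) (.lin 2) (.split 5 (-482) (.lin 1) (.split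
    4 (-34) (.split 5 (-455) (.lin 8) (.split 0 (-83) (.splitN 203442 (.split 1 373 (.split 2
    (-297) (.lin 2) (.split 6 341 (.splitN 182989 (.split 6 170 (.wt 2) (.split 5 (-103) (.split
    2 (-125) (.splitN 107765 .sq (.split 1 335 (.split 6 305 (.split 7 (-51) (.split 0 (-92)
    (.splitN 123674 (.split 4 (-45) (.wt 0) (.split 5 (-112) (.split 0 (-93) (.lin 12) (.splitN
    117736 (.wt 1) (.split 1 265 (.wt 0) (.split 2 (-188) (.split 5 (-175) (.split 6 241 (.lin 3)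
    .sq) (.lin 1)) (.lin 2))))) (.lin 6))) (.wt 0)) (.lin 12)) .cand) (.lin 11)) .sq)) (.lin 9))
    (.lin 6))) (.wt 3)) (.lin 11))) .sq) (.wt 1)) (.lin 12))) (.split 5 (-112) (.split 0 (-84)
    (.lin 12) (.splitN 129198 (.wt 0) (.split 0 (-67) (.split 4 (-23) (.split 6 234 (.split 2
    (-189) (.lin 3) (.split 5 (-194) (.lin 1) (.split 6 212 (.split 2 (-162) (.lin 3) (.split 1
    232 (.split 5 (-167) (.lin 1) (.split 7 (-48) (.split 0 (-83) (.splitN 148690 .cand (.wt 0))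
    (.lin 12)) (.wt 2))) (.lin 11))) (.wt 2)))) (.wt 2)) (.wt 2)) (.wt 2)))) (.lin 6))))) .sq)
    (.wt 1)))) .sq) (.wt 2)) (.wt 1)) (.lin 4))) (.lin 9)) (.lin 3))))) (.split 1 123 (.lin 2)
    (.split 1 132 (.lin 11) (.splitN 1482304 (.split 0 (-41151) (.div 0) (.split 4 (-41106) (.lin
    12) (.split 2 (-8231) (.div 2) (.split 0 (-8328) (.lin 1) (.split 5 (-8285) (.lin 1) (.split
    6 488 (.split 4 (-489) (.lin 6) (.split 0 (-534) (.lin 7) (.split 2 (-441) (.lin 9) (.split 5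
    (-500) (.lin 1) (.split 6 270 (.split 4 (-273) (.lin 6) (.split 0 (-318) (.lin 7) (.split 2
    (-225) (.lin 9) (.split 5 (-284) (.lin 1) (.split 4 (-22) (.split 0 (-74) (.split 6 199
    (.split 4 (-201) (.lin 6) (.split 0 (-246) (.lin 7) (.split 2 (-153) (.lin 9) (.split 5
    (-203) (.lin 1) (.split 6 167 (.split 4 (-165) (.lin 6) (.split 0 (-210) (.lin 7) (.split 2
    (-117) (.lin 9) (.split 5 (-167) (.lin 1) (.split 6 147 (.split 4 (-147) (.lin 6) (.split 2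
    (-99) (.lin 9) (.split 1 214 (.split 5 (-149) (.lin 1) (.split 5 (-140) (.lin 4) (.split 6
    136 (.split 4 (-138) (.lin 6) (.split 2 (-90) (.lin 9) (.split 4 (-64) (.split 5 (-95) (.lin
    6) (.split 0 (-110) (.split 6 127 (.split 0 (-174) (.lin 7) (.split 1 196 (.split 5 (-86)
    (.lin 4) (.split 5 (-24) (.split 1 141 (.lin 8) (.split 4 (-120) (.lin 6) (.split 6 113
    (.split 4 (-102) (.lin 6) (.split 0 (-147) (.lin 7) (.split 1 178 (.split 5 (-68) (.lin 4)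
    (.split 3 66 (.split 4 (-93) (.lin 6) (.split 0 (-138) (.lin 7) (.split 2 (-35) (.split 1 169
    (.split 5 (-59) (.lin 4) (.split 3 60 (.split 4 (-84) (.lin 6) (.split 1 160 (.split 5 (-50)
    (.lin 4) (.split 6 88 (.lin 6) (.wt 2))) (.lin 11))) (.wt 2))) (.lin 11)) (.lin 10)))) (.wt
    2))) (.lin 11)))) (.wt 2)))) (.wt 2))) (.lin 11))) (.wt 2)) (.lin 12))) (.split 0 (-111)
    (.lin 12) (.split 0 (-96) (.split 5 (-104) (.lin 7) (.splitN 154053 (.split 6 116 (.split 1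
    187 (.split 5 (-86) (.lin 4) (.splitN 137278 (.split 3 60 (.split 1 169 (.split 5 (-68) (.lin
    4) (.wt 2)) (.lin 11)) (.wt 0)) (.wt 6))) (.lin 11)) (.wt 0)) (.wt 6))) (.wt 2)))))) (.wt
    2)))) (.lin 11)))) (.wt 2)))))) (.wt 2)))))) (.wt 2)) (.lin 12)) (.wt 2)))))) (.wt 2))))))
    (.wt 2))))))) (.wt 1)))))

def cert5_76_10 : Cert :=
  (.split 6 120 (.split 4 (-102) (.lin 6) (.split 0 (-129) (.lin 7) (.split 2 (-90) (.lin 9)
    (.split 1 151 (.split 5 (-68) (.lin 1) (.split 3 29 (.split 0 (-120) (.lin 1) (.split 1 142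
    (.split 5 (-59) (.lin 1) (.split 4 (-93) (.lin 6) (.split 5 (-40) (.split 0 (-102) (.lin 1)
    (.split 1 123 (.lin 8) (.split 2 (-71) (.split 4 (-75) (.lin 6) (.split 6 97 (.lin 6) (.split
    6 107 (.split 4 (-66) (.lin 6) (.split 0 (-93) (.lin 7) (.split 2 (-81) (.lin 9) (.split 1
    133 (.split 5 (-50) (.lin 1) (.split 6 102 (.split 4 (-57) (.lin 6) (.split 0 (-84) (.lin 7)
    (.split 2 (-72) (.lin 9) (.split 1 124 (.split 5 (-41) (.lin 0) (.splitN 3438030 (.wt 0) (.wt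
    1))) (.lin 11))))) (.split 2 (-80) (.split 1 132 (.lin 11) (.split 0 (-86) (.split 5 (-41)
    (.lin 1) (.split 4 (-65) (.splitN 1216764 (.wt 0) (.wt 0)) (.lin 0))) (.wt 2))) (.lin 9))))
    (.lin 11))))) (.split 2 (-89) (.split 1 141 (.lin 11) (.split 0 (-86) (.split 5 (-50) (.lin
    1) (.split 0 (-93) (.split 5 (-41) (.lin 1) (.split 4 (-74) (.splitN 832423 (.wt 0) (.wt 0))
    (.lin 0))) (.wt 2))) (.wt 2))) (.lin 9))))) (.lin 10)))) (.split 6 98 (.split 4 (-75) (.lin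
    6) (.split 0 (-102) (.lin 7) (.split 2 (-72) (.lin 9) (.split 1 124 (.split 6 89 (.split 4
    (-66) (.lin 6) (.split 0 (-93) (.lin 7) (.split 2 (-63) (.lin 9) (.split 1 115 (.splitN
    1337526 (.split 5 (-27) (.split 0 (-84) (.lin 1) (.split 1 114 (.lin 8) (.split 2 (-62)
    (.split 4 (-57) (.lin 5) (.split 6 88 (.lin 0) (.wt 0))) (.lin 10)))) (.splitN 683503 (.split
    0 (-85) (.split 2 (-62) (.split 1 114 (.lin 2) (.split 6 88 (.lin 0) (.wt 0))) (.lin 1)) (.wt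
    2)) (.wt 1))) (.wt 3)) (.lin 11))))) (.split 4 (-65) (.split 2 (-71) (.split 1 123 (.lin 11)
    (.splitN 787253 (.splitN 546541 (.wt 5) (.split 5 (-25) (.split 4 (-66) (.lin 0) (.split 0
    (-93) (.lin 1) (.wt 0))) (.wt 1))) (.wt 1))) (.lin 9)) (.lin 6))) (.lin 11))))) (.split 4
    (-74) (.split 2 (-80) (.split 1 132 (.lin 11) (.splitN 406505 (.wt 5) (.split 5 (-23) (.split
    0 (-111) (.lin 1) (.split 4 (-84) (.lin 6) (.split 0 (-102) (.split 2 (-89) (.split 1 141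
    (.lin 2) (.split 4 (-83) (.split 6 115 (.lin 0) (.splitN 605466 (.wt 0) (.wt 0))) (.lin 0)))
    (.lin 1)) (.wt 2)))) (.wt 1)))) (.lin 9)) (.lin 6)))))) (.lin 2))) (.split 1 114 (.lin 2)
    (.split 0 (-86) (.split 5 (-59) (.lin 1) (.split 4 (-65) (.split 6 102 (.split 4 (-84) (.lin
    6) (.split 0 (-111) (.lin 7) (.split 2 (-72) (.lin 9) (.split 5 (-41) (.lin 1) (.splitN
    14133042 (.wt 0) (.wt 1)))))) (.wt 0)) (.lin 12))) (.wt 0))))) (.lin 11))))) (.split 2 (-98)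
    (.split 1 150 (.lin 11) (.split 3 32 (.split 0 (-165) (.lin 1) (.split 1 187 (.split 5 (-104)
    (.lin 1) (.split 5 (-23) (.split 0 (-156) (.lin 1) (.split 4 (-129) (.lin 6) (.split 5 (-57)
    (.split 0 (-129) (.lin 1) (.split 4 (-102) (.lin 6) (.split 0 (-106) (.split 2 (-116) (.split
    1 168 (.lin 2) (.split 5 (-77) (.lin 1) (.split 6 142 (.lin 7) (.split 4 (-83) (.split 6 152
    (.split 4 (-93) (.lin 6) (.split 0 (-120) (.lin 7) (.split 2 (-126) (.lin 9) (.split 5 (-68)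
    (.lin 1) (.split 6 147 (.split 4 (-84) (.lin 6) (.split 0 (-111) (.lin 7) (.split 2 (-117)
    (.lin 9) (.split 1 169 (.split 5 (-59) (.lin 0) (.splitN 931221 (.wt 0) (.wt 0))) (.lin
    11))))) (.split 1 177 (.lin 11) (.split 0 (-111) (.split 5 (-59) (.lin 1) (.wt 2)) (.wt
    2)))))))) (.split 2 (-134) (.split 1 186 (.lin 11) (.splitN 641883 (.wt 3) (.split 0 (-111)
    (.split 5 (-68) (.lin 1) (.split 4 (-92) (.splitN 816620 .cand (.wt 1)) (.lin 0))) (.wt 2))))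
    (.lin 9))) (.lin 12))))) (.lin 1)) (.split 4 (-75) (.lin 12) (.split 6 149 (.split 5 (-86)
    (.lin 6) (.split 2 (-117) (.lin 9) (.split 0 (-86) (.split 5 (-77) (.lin 1) (.split 4 (-65)
    (.split 6 139 (.split 5 (-68) (.lin 6) (.split 1 160 (.splitN 2248327 (.split 6 129 (.split 4
    (-66) (.lin 6) (.split 0 (-93) (.lin 7) (.wt 0))) (.split 1 159 (.lin 11) (.wt 2))) (.wt 1))
    (.lin 11))) (.wt 2)) (.lin 12))) (.wt 2)))) (.wt 2)))))) (.split 0 (-101) (.split 4 (-74)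
    (.split 0 (-128) (.split 2 (-107) (.split 1 159 (.lin 2) (.split 6 133 (.lin 7) (.split 4
    (-101) (.split 5 (-40) (.split 0 (-147) (.lin 1) (.split 1 168 (.lin 8) (.split 2 (-116)
    (.split 4 (-120) (.lin 6) (.split 6 142 (.lin 6) (.split 6 152 (.split 4 (-111) (.lin 6)
    (.split 0 (-138) (.lin 7) (.split 2 (-126) (.lin 9) (.split 5 (-49) (.wt 2) (.split 6 150
    (.split 4 (-102) (.lin 6) (.split 0 (-129) (.lin 7) (.split 1 169 (.splitN 538246 (.wt 0)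
    (.wt 0)) (.lin 8)))) (.wt 2)))))) (.split 4 (-110) (.split 0 (-137) (.split 1 177 (.lin 8)
    (.split 2 (-134) (.splitN 538906 (.split 5 (-41) (.split 4 (-111) (.lin 0) (.wt 1)) (.wt 2))
    (.wt 3)) (.lin 9))) (.lin 7)) (.lin 6))))) (.lin 10)))) (.split 0 (-133) (.split 2 (-116)
    (.split 6 142 (.lin 7) (.split 4 (-110) (.splitN 406743 (.split 0 (-142) (.split 2 (-125)
    (.split 1 177 (.lin 2) (.split 6 151 (.lin 7) (.wt 0))) (.lin 1)) (.wt 0)) (.wt 1)) (.lin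
    6))) (.lin 1)) (.wt 2))) (.lin 12)))) (.lin 1)) (.split 2 (-117) (.lin 1) (.split 1 169
    (.split 6 143 (.split 4 (-93) (.lin 12) (.split 5 (-34) (.split 6 134 (.split 2 (-108) (.lin
    9) (.split 1 160 (.split 0 (-110) (.split 4 (-83) (.splitN 775632 (.split 5 (-45) (.split 0
    (-111) (.lin 1) (.split 1 159 (.lin 8) (.split 2 (-107) (.split 4 (-84) (.lin 5) (.split 6
    133 (.lin 0) (.wt 0))) (.lin 10)))) (.split 6 133 (.split 4 (-84) (.lin 6) (.split 0 (-111)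
    (.lin 7) (.split 1 151 (.split 2 (-99) (.lin 9) (.splitN 674999 (.wt 0) (.wt 0))) (.lin 8))))
    (.wt 2))) (.wt 3)) (.lin 12)) (.split 2 (-99) (.lin 1) (.split 1 151 (.split 5 (-49) (.split
    4 (-75) (.lin 0) (.split 6 125 (.splitN 1053984 (.wt 0) (.wt 0)) (.lin 0))) (.lin 1)) (.lin
    2)))) (.lin 11))) (.split 4 (-92) (.split 0 (-119) (.split 2 (-116) (.split 1 168 (.lin 11)
    (.split 5 (-49) (.splitN 652581 (.wt 0) (.wt 0)) (.lin 0))) (.lin 9)) (.lin 7)) (.lin 6)))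
    (.wt 2))) (.lin 7)) (.lin 2)))) (.lin 6)) (.lin 1))))) (.wt 2))) (.lin 2))) (.wt 2))) (.lin
    9)))

def cert5_76_11 : Cert :=
  (.split 6 336 (.split 2 (-306) (.lin 9) (.split 1 358 (.split 5 (-175) (.wt 2) (.split 6 269
    (.split 2 (-243) (.lin 9) (.split 1 295 (.splitN 606616 (.split 5 (-87) (.wt 2) (.split 6 220
    (.wt 2) (.split 2 (-197) (.split 1 249 (.lin 11) (.split 5 (-72) (.split 0 (-196) (.wt 2)
    (.split 2 (-225) (.lin 1) (.split 1 277 (.split 6 251 (.split 4 (-165) (.lin 12) (.splitN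
    508020 (.wt 1) (.wt 0))) (.lin 7)) (.lin 2)))) (.split 6 246 (.split 4 (-183) (.lin 6)
    (.split 2 (-216) (.lin 9) (.splitN 430319 (.wt 1) .cand))) (.split 4 (-182) (.split 0 (-209)
    (.split 0 (-225) (.wt 2) (.split 4 (-192) (.lin 12) (.split 5 (-64) (.wt 2) (.split 2 (-225)
    (.lin 1) (.split 1 277 (.split 6 251 (.splitN 423371 (.wt 1) (.wt 0)) (.lin 6)) (.lin 2))))))
    (.lin 7)) (.lin 6))))) (.lin 9)))) (.wt 0)) (.lin 11))) (.split 2 (-251) (.split 1 303 (.lin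
    11) (.split 5 (-112) (.split 0 (-212) (.wt 2) (.split 4 (-183) (.lin 12) (.split 6 287 (.wt
    2) (.split 2 (-269) (.split 5 (-139) (.split 0 (-195) (.wt 2) (.split 4 (-165) (.lin 12)
    (.split 6 309 (.wt 2) (.split 5 (-148) (.split 1 339 (.lin 11) (.split 6 323 (.split 4 (-164)
    (.wt 2) (.split 5 (-157) (.split 1 353 (.wt 2) (.split 2 (-288) (.lin 0) (.lin 2))) (.lin
    6))) (.split 4 (-164) (.split 2 (-305) (.split 1 357 (.lin 11) (.split 5 (-166) (.splitN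
    616497 (.wt 1) (.wt 0)) (.lin 0))) (.lin 9)) (.lin 6)))) (.lin 6))))) (.split 4 (-164)
    (.split 6 314 (.split 0 (-193) (.wt 2) (.split 2 (-270) (.lin 1) (.split 1 322 (.split 5
    (-130) (.split 4 (-165) (.lin 0) (.split 6 296 (.splitN 548896 (.wt 1) (.wt 0)) (.lin 0)))
    (.lin 1)) (.lin 2)))) (.lin 6)) (.lin 6))) (.lin 9))))) (.split 0 (-200) (.split 4 (-173)
    (.split 5 (-81) (.split 0 (-235) (.wt 2) (.split 2 (-279) (.lin 1) (.split 1 331 (.split 6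
    305 (.split 4 (-201) (.lin 12) (.splitN 521681 (.split 5 (-102) (.wt 1) (.split 0 (-209) (.wt
    2) (.lin 1))) (.wt 5))) (.lin 7)) (.lin 2)))) (.split 0 (-227) (.split 4 (-200) (.split 5
    (-67) (.split 0 (-267) (.wt 2) (.split 2 (-288) (.lin 1) (.split 1 340 (.split 6 314 (.split
    0 (-245) (.wt 2) (.split 2 (-261) (.lin 1) (.split 1 313 (.split 6 296 (.split 4 (-210) (.lin
    12) (.splitN 433323 (.wt 1) (.wt 0))) (.lin 3)) (.lin 2)))) (.lin 7)) (.lin 2)))) (.split 0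
    (-245) (.split 4 (-218) (.split 6 288 (.wt 2) (.split 4 (-236) (.split 0 (-263) (.splitN
    419944 (.split 6 309 (.wt 2) (.split 4 (-254) (.split 1 339 (.lin 8) (.split 2 (-287) .sq
    (.lin 9))) (.lin 6))) (.wt 0)) (.lin 7)) (.lin 6))) (.lin 6)) (.lin 1))) (.lin 6)) (.lin 1)))
    (.lin 6)) (.lin 1)))) (.lin 9)))) (.lin 11))) (.split 2 (-314) (.split 1 366 (.lin 11)
    (.split 5 (-135) (.split 0 (-236) (.split 4 (-209) (.splitN 469673 .sq (.splitN 562509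
    (.split 6 350 (.wt 0) (.split 2 (-332) (.splitN 493901 .sq (.split 6 381 (.wt 0) (.split 2
    (-359) (.split 1 411 (.lin 11) .sq) (.lin 9)))) (.lin 9))) (.wt 0))) (.lin 12)) (.split 4
    (-201) (.lin 12) (.split 6 404 (.split 5 (-248) (.lin 6) (.split 2 (-378) (.lin 9) (.split 1
    430 (.split 0 (-205) (.split 4 (-182) (.split 5 (-183) (.wt 2) (.split 2 (-351) (.lin 1)
    (.split 1 403 (.split 6 377 (.splitN 539877 (.wt 1) (.split 6 351 (.wt 0) (.split 5 (-157)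
    (.wt 2) (.lin 6)))) (.lin 6)) (.lin 2)))) (.lin 12)) (.split 5 (-166) (.split 4 (-174) (.lin
    12) (.split 6 372 (.split 5 (-212) (.lin 6) (.split 2 (-342) (.lin 9) (.split 1 394 (.splitN
    695353 (.split 0 (-191) (.split 4 (-164) (.split 6 354 (.split 2 (-324) (.lin 9) (.split 4
    (-168) (.wt 2) (.split 5 (-175) (.splitN 626061 (.wt 1) (.wt 0)) (.lin 6)))) (.split 5 (-184)
    (.split 2 (-332) (.split 0 (-196) (.split 4 (-173) (.splitN 586526 (.wt 1) (.wt 0)) (.lin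
    12)) (.split 4 (-165) (.lin 12) (.splitN 610399 (.wt 0) .cand))) (.lin 9)) (.lin 6))) (.lin
    12)) (.split 4 (-156) (.lin 12) (.splitN 656348 (.wt 0) (.split 5 (-197) (.split 2 (-332)
    (.split 6 358 (.lin 3) (.wt 1)) (.lin 1)) (.wt 2))))) (.wt 3)) (.lin 11)))) (.split 2 (-350)
    (.split 1 402 (.lin 11) (.split 5 (-202) (.splitN 696731 (.split 0 (-191) (.split 4 (-164)
    (.split 6 390 (.split 5 (-221) (.lin 6) (.split 0 (-196) (.split 4 (-173) (.wt 2) (.lin 12))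
    (.split 4 (-165) (.lin 12) (.splitN 656681 (.wt 0) (.wt 1))))) (.split 5 (-220) (.splitN
    617783 (.wt 3) (.split 0 (-196) (.split 4 (-173) (.splitN 639898 .cand (.wt 0)) (.lin 12))
    (.split 4 (-165) (.lin 12) (.splitN 676388 (.wt 0) (.wt 1))))) (.lin 6))) (.lin 12)) (.split
    4 (-156) (.lin 12) (.wt 0))) (.wt 1)) (.lin 1))) (.lin 9)))) (.lin 1))) (.lin 11)))) (.split
    2 (-386) (.split 1 438 (.lin 11) (.split 5 (-211) (.splitN 615365 .sq (.split 0 (-205)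
    (.split 4 (-182) (.splitN 677399 (.split 6 440 (.split 1 466 (.splitN 636886 (.split 0 (-216)
    (.wt 0) (.split 5 (-229) .sq (.lin 1))) (.wt 0)) (.lin 11)) (.split 2 (-422) (.split 1 474
    (.lin 11) .sq) (.lin 9))) (.wt 0)) (.lin 12)) (.split 4 (-174) (.lin 12) (.split 0 (-194)
    (.split 5 (-293) (.lin 1) (.split 4 (-173) (.splitN 666363 (.split 6 436 (.split 2 (-405)
    (.lin 3) (.split 5 (-257) (.lin 1) (.wt 2))) (.wt 0)) (.wt 1)) (.lin 12))) (.wt 2))))) (.lin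
    1))) (.lin 9))))) (.split 0 (-236) (.split 4 (-209) (.splitN 453716 .sq (.splitN 541587 .cand
    (.wt 3))) (.lin 6)) (.lin 1)))) (.lin 9)))

def cert5_76_12 : Cert :=
  (.split 6 233 (.split 2 (-243) (.lin 3) (.split 2 (-207) (.lin 9) (.split 1 259 (.split 5
    (-122) (.lin 1) (.split 6 201 (.split 4 (-138) (.lin 6) (.split 2 (-171) (.lin 9) (.split 1
    223 (.split 5 (-86) (.lin 1) (.splitN 721693 (.split 5 (-85) (.wt 2) (.split 6 170 (.wt 2)
    (.split 2 (-152) (.split 0 (-151) (.split 2 (-161) (.split 1 213 (.lin 2) (.split 4 (-128)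
    (.splitN 533407 (.splitN 507751 (.wt 1) (.split 0 (-161) (.wt 0) (.split 4 (-129) (.lin 12)
    (.split 6 189 (.wt 0) (.split 2 (-170) (.split 5 (-67) (.wt 1) (.lin 1)) (.lin 3)))))) (.wt
    0)) (.lin 12))) (.lin 1)) (.split 4 (-120) (.lin 12) (.splitN 526846 (.wt 3) (.split 5 (-67)
    (.splitN 555814 (.wt 1) (.split 6 188 (.split 5 (-74) (.wt 2) .cand) (.split 0 (-146) (.split
    2 (-170) (.split 1 222 (.lin 11) (.split 4 (-119) (.split 5 (-76) (.splitN 585985 (.wt 0)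
    (.wt 0)) (.lin 0)) (.lin 0))) (.lin 9)) (.lin 7)))) (.split 0 (-146) (.split 1 205 (.split 2
    (-153) (.lin 10) (.split 4 (-119) (.split 6 179 (.wt 0) (.lin 0)) (.lin 5))) (.lin 8)) (.lin
    1)))))) (.lin 9)))) (.wt 3))) (.lin 11)))) (.split 2 (-179) (.split 1 231 (.lin 11) (.split 5
    (-90) (.split 4 (-138) (.lin 6) (.splitN 572091 (.wt 1) (.split 0 (-151) (.split 2 (-197)
    (.split 1 249 (.lin 2) (.split 4 (-128) (.splitN 643144 (.splitN 614567 (.wt 1) .cand) (.wt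
    0)) (.lin 12))) (.lin 1)) (.split 4 (-120) (.lin 12) (.splitN 646505 (.wt 3) (.split 6 219
    (.split 5 (-104) (.lin 6) (.split 2 (-189) (.lin 9) (.split 1 241 (.splitN 813340 (.split 0
    (-142) (.split 4 (-119) (.splitN 668309 (.wt 1) (.wt 0)) (.lin 12)) (.split 4 (-111) (.lin
    12) (.splitN 754181 (.wt 0) (.split 5 (-97) .cand (.wt 1))))) (.wt 1)) (.lin 11)))) (.split 2
    (-197) (.split 1 249 (.lin 11) (.split 0 (-139) (.split 5 (-113) (.lin 1) (.split 4 (-119)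
    (.splitN 743630 (.split 5 (-105) .cand (.wt 2)) (.wt 1)) (.lin 12))) (.wt 2))) (.lin
    9)))))))) (.split 0 (-146) (.split 4 (-119) (.split 5 (-72) (.splitN 510144 (.wt 1) (.split 0
    (-160) (.split 4 (-137) (.splitN 577190 (.split 0 (-167) (.wt 2) (.split 4 (-138) (.lin 12)
    (.splitN 544165 (.wt 1) (.split 6 221 (.wt 0) (.split 2 (-197) (.split 5 (-85) (.wt 1) (.lin
    1)) (.lin 3)))))) (.wt 0)) (.lin 12)) (.split 2 (-189) (.lin 1) (.split 1 241 (.split 6 215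
    (.split 4 (-129) (.lin 12) (.splitN 668832 (.split 5 (-81) .cand (.split 0 (-155) (.split 4
    (-128) (.splitN 582116 (.wt 1) (.wt 0)) (.lin 6)) (.lin 1))) (.wt 3))) (.lin 7)) (.lin 2)))))
    (.split 0 (-164) (.split 1 241 (.split 4 (-137) (.split 6 215 (.split 5 (-64) (.wt 2) (.split
    0 (-173) (.split 4 (-146) (.splitN 478783 (.wt 1) (.wt 0)) (.lin 6)) (.lin 1))) (.lin 6))
    (.lin 6)) (.lin 8)) (.lin 1))) (.lin 6)) (.lin 1)))) (.lin 9)))) (.lin 11)))) (.split 2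
    (-215) (.split 1 267 (.lin 11) (.split 5 (-94) (.splitN 545362 (.wt 3) (.split 0 (-155)
    (.split 5 (-167) (.lin 1) (.split 4 (-128) (.splitN 824384 (.split 6 269 (.split 5 (-140)
    (.lin 6) (.split 2 (-243) (.lin 9) (.split 1 295 (.split 5 (-117) (.split 0 (-171) (.wt 2)
    (.split 4 (-138) (.lin 12) (.split 6 255 (.split 4 (-129) (.lin 6) (.split 0 (-156) (.lin 7)
    (.split 2 (-225) (.lin 9) (.split 5 (-122) (.lin 1) (.splitN 654955 (.wt 0) .cand)))))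
    (.split 2 (-233) (.split 1 285 (.lin 11) (.splitN 641214 (.wt 3) (.split 0 (-160) (.split 4
    (-137) (.splitN 665086 (.split 5 (-130) (.wt 1) .cand) (.wt 0)) (.lin 12)) (.split 4 (-129)
    (.lin 12) (.splitN 732219 (.wt 0) (.wt 1)))))) (.lin 9))))) (.split 6 255 (.split 2 (-225)
    (.lin 9) (.split 1 277 (.splitN 691881 (.split 0 (-172) (.wt 2) (.split 5 (-103) (.split 4
    (-138) (.lin 12) (.splitN 610259 (.wt 1) (.split 0 (-160) (.split 4 (-137) (.wt 0) (.lin 12))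
    (.split 4 (-129) (.lin 12) (.splitN 663873 (.wt 0) .cand))))) (.lin 1))) (.wt 3)) (.lin 11)))
    (.split 4 (-146) (.split 0 (-173) (.split 2 (-233) (.split 5 (-112) (.splitN 582566 (.wt 1)
    (.wt 0)) (.lin 1)) (.lin 9)) (.lin 7)) (.lin 6)))) (.lin 11)))) (.split 2 (-251) (.split 1
    303 (.lin 11) (.split 5 (-130) (.splitN 777457 (.split 0 (-164) (.split 5 (-158) (.lin 1)
    (.split 4 (-137) (.splitN 734253 (.split 6 287 (.split 5 (-149) (.lin 6) (.split 0 (-169)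
    (.split 4 (-146) (.splitN 635275 (.wt 1) (.wt 0)) (.lin 12)) (.split 4 (-138) (.lin 12)
    (.split 5 (-143) .cand (.wt 2))))) (.split 5 (-148) (.split 2 (-269) (.split 1 321 (.lin 11)
    (.split 0 (-168) (.split 5 (-149) (.lin 1) (.split 4 (-146) (.splitN 643169 (.wt 0) (.wt 0))
    (.lin 0))) (.wt 2))) (.lin 9)) (.lin 6))) (.wt 1)) (.lin 12))) (.split 4 (-129) (.lin 12)
    (.wt 0))) (.wt 1)) (.lin 1))) (.lin 9))) (.wt 3)) (.lin 12))) (.split 4 (-120) (.lin 12)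
    (.splitN 965332 (.split 6 281 (.split 5 (-167) (.lin 6) (.split 1 304 (.splitN 905732 (.split
    6 268 (.split 5 (-149) (.lin 6) (.split 2 (-234) (.lin 9) (.splitN 792781 (.split 0 (-145)
    (.split 5 (-140) (.lin 1) (.wt 0)) (.wt 0)) (.wt 6)))) (.wt 0)) (.wt 1)) (.lin 11))) (.wt 0))
    (.wt 1))))) (.lin 1))) (.lin 9)))

def cert5_76_13 : Cert :=
  (.split 0 (-174) (.split 2 (-179) (.split 1 231 (.lin 2) (.split 6 205 (.lin 7) (.split 4
    (-155) (.split 3 29 (.splitN 2207526 (.split 2 (-12263) (.div 2) (.split 1 12310 (.split 5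
    (-12128) (.lin 1) (.split 6 12284 (.splitN 2078804 (.split 1 1393 (.split 2 (-1341) (.lin 2)
    (.split 5 (-1211) (.lin 1) (.split 6 1367 (.splitN 1419313 (.split 1 1131 (.split 2 (-1071)
    (.lin 2) (.split 5 (-941) (.lin 1) (.split 6 1097 (.split 6 475 (.split 2 (-441) (.lin 9)
    (.split 1 493 (.split 5 (-311) (.lin 1) cert5_76_11) (.lin 11))) (.split 2 (-449) (.split 1
    501 (.lin 11) (.splitN 742103 .sq (.split 0 (-380) (.wt 3) (.split 5 (-200) (.split 6 894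
    (.split 5 (-734) (.lin 6) (.split 1 916 (.split 6 803 (.split 5 (-644) (.lin 6) (.split 1 826
    (.split 0 (-192) (.split 4 (-173) (.splitN 792323 .sq (.split 0 (-286) (.wt 0) (.split 5
    (-220) (.splitN 815753 (.split 0 (-259) (.split 4 (-236) .sq (.lin 12)) (.wt 1)) (.wt 1))
    (.lin 1)))) (.lin 12)) (.wt 1)) (.lin 11))) (.wt 1)) (.lin 11))) (.wt 1)) (.wt 1))))) (.lin
    9))) (.lin 9)))) .sq) (.wt 3)) (.lin 9)))) .sq) (.wt 3)) (.lin 9))) (.lin 2))) (.wt 3))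
    (.splitN 1532898 (.split 1 17000 (.split 2 (-16938) (.lin 2) (.split 4 (-33672) (.lin 0)
    (.split 5 (-16817) (.lin 1) (.split 4 (-16914) (.lin 8) (.split 2 (-8501) (.div 2) (.split 0
    (-8499) (.lin 1) (.split 1 8557 (.split 5 (-8375) (.lin 1) (.split 0 (-193) (.split 2 (-197)
    (.split 1 258 (.lin 2) (.split 6 223 (.lin 7) (.split 4 (-173) (.splitN 1118370 (.split 2
    (-6197) (.div 2) (.split 0 (-6195) (.lin 1) (.split 1 6253 (.split 5 (-6053) (.lin 1) (.split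
    0 (-268) (.split 2 (-269) (.split 1 330 (.lin 2) (.split 6 295 (.lin 7) (.split 4 (-245)
    (.splitN 680457 (.split 2 (-3767) (.div 2) (.split 0 (-3765) (.lin 1) (.split 1 3823 (.split
    4 (-3738) (.lin 8) (.wt 0)) (.lin 2)))) (.wt 1)) (.lin 12)))) (.lin 1)) (.wt 0))) (.lin 2))))
    (.wt 1)) (.lin 12)))) (.lin 1)) (.wt 0))) (.lin 2)))))))) (.div 1)) (.wt 1))) (.lin 12))))
    (.lin 1)) (.split 4 (-147) (.lin 12) (.split 3 32 (.split 6 503 (.split 2 (-567) (.lin 3)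
    (.split 2 (-477) (.lin 9) (.split 5 (-446) (.lin 1) (.split 0 (-84) (.split 4 (-65) (.split 6
    434 (.split 5 (-365) (.lin 6) (.split 2 (-405) (.lin 9) (.split 1 457 (.split 6 300 (.split 2
    (-270) (.lin 9) (.split 1 322 (.split 5 (-230) (.lin 1) (.split 0 (-133) (.split 5 (-185)
    (.lin 1) (.split 4 (-110) cert5_76_12 (.lin 12))) (.split 5 (-67) (.split 4 (-102) (.lin 12)
    (.split 0 (-96) (.split 4 (-74) (.split 6 229 (.split 2 (-198) (.lin 9) (.split 5 (-149)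
    (.lin 1) (.split 6 212 (.split 5 (-131) (.lin 6) (.split 2 (-180) (.lin 9) (.split 0 (-104)
    (.split 5 (-122) (.lin 1) (.split 4 (-83) (.split 5 (-94) (.split 6 178 (.lin 6) (.split 0
    (-111) (.split 2 (-161) (.split 1 213 (.lin 2) (.split 5 (-113) (.lin 1) (.split 4 (-92)
    (.split 6 196 (.split 0 (-120) (.lin 7) (.split 2 (-162) (.lin 9) (.split 5 (-95) (.lin 1)
    (.split 4 (-93) (.lin 5) (.splitN 1150159 (.wt 0) (.wt 1)))))) (.wt 2)) (.lin 12)))) (.lin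
    1)) (.wt 2))) (.split 2 (-162) (.lin 1) (.split 1 214 (.split 6 188 (.split 6 179 (.split 2
    (-153) (.lin 9) (.split 5 (-76) (.split 0 (-124) (.split 2 (-152) (.split 5 (-77) (.lin 1)
    (.split 6 178 (.lin 3) (.wt 2))) (.lin 1)) (.split 4 (-93) (.lin 12) (.wt 2))) (.split 0
    (-128) (.split 1 196 (.split 2 (-144) (.lin 10) (.split 4 (-101) (.split 6 170 (.splitN
    692470 (.wt 0) (.wt 0)) (.lin 0)) (.lin 5))) (.lin 8)) (.lin 1)))) (.split 0 (-128) (.split 2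
    (-161) (.split 1 213 (.lin 11) (.split 4 (-101) (.split 5 (-85) (.splitN 854971 (.wt 0) (.wt
    0)) (.lin 0)) (.lin 0))) (.lin 9)) (.lin 7))) (.lin 6)) (.lin 2)))) (.lin 12))) (.wt 2))))
    (.wt 2)))) (.wt 2)) (.lin 12)) (.wt 2))) (.lin 1)))) (.lin 11))) (.split 2 (-197) (.split 2
    (-278) (.split 1 330 (.lin 11) (.splitN 614346 (.wt 0) (.splitN 2706605 (.split 0 (-110)
    (.split 4 (-83) (.splitN 1506726 (.split 0 (-120) (.split 5 (-329) (.lin 1) (.split 0 (-152)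
    (.split 5 (-302) (.lin 1) (.split 6 348 (.split 2 (-315) (.lin 9) (.split 1 367 (.split 5
    (-212) (.lin 1) (.split 0 (-162) (.split 4 (-137) (.split 6 325 (.split 5 (-185) (.lin 6)
    (.splitN 731648 (.split 0 (-167) (.split 4 (-146) .cand (.lin 12)) (.wt 2)) (.wt 1))) (.wt
    2)) (.lin 12)) (.wt 2))) (.lin 11))) (.wt 2))) (.wt 2))) (.wt 0)) (.wt 1)) (.lin 12)) (.wt
    0)) (.wt 1)))) (.lin 9)) (.lin 3))) (.lin 11)))) (.wt 2)) (.lin 12)) (.wt 2))))) (.wt 2))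
    (.wt 0))))

def cert5_76_14 : Cert :=
  (.split 7 (-33) (.split 0 (-92) (.splitN 524702 (.split 2 (-2903) (.div 2) (.split 1 2968
    (.split 5 (-2876) (.lin 1) (.split 0 (-657) .sq (.splitN 468212 (.split 0 (-614) .sq (.split
    4 (-570) (.lin 12) (.split 1 637 (.split 2 (-576) (.lin 2) (.split 6 1133 (.split 5 (-554)
    (.lin 1) (.splitN 419126 (.split 1 598 (.split 2 (-531) (.lin 2) (.split 5 (-509) (.lin 1)
    (.split 6 566 (.split 5 (-106) (.split 0 (-489) (.lin 1) (.split 4 (-453) (.lin 6) (.split 3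
    29 (.split 2 (-143) (.split 6 178 (.lin 6) (.splitN 285703 (.split 0 (-229) (.wt 2) (.split 4
    (-192) (.lin 12) (.split 1 451 (.split 2 (-387) (.lin 2) (.split 5 (-356) (.lin 1) (.split 6
    422 (.splitN 147040 (.wt 1) (.split 6 300 (.split 1 322 (.splitN 247837 .cand (.wt 3)) (.lin
    11)) (.split 2 (-269) (.split 1 330 (.lin 11) .sq) (.lin 9)))) (.lin 9)))) .sq))) (.wt 3)))
    (.lin 1)) (.split 0 (-115) (.split 6 196 (.lin 7) (.split 0 (-143) (.split 2 (-188) (.split 1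
    258 (.lin 2) (.split 5 (-455) (.lin 1) (.split 6 223 (.lin 7) (.split 4 (-110) (.splitN
    201086 .sq (.wt 1)) (.lin 12))))) (.lin 1)) (.wt 2))) (.wt 2))))) (.splitN 322099 (.split 0
    (-481) .sq (.split 4 (-444) (.lin 12) (.split 1 510 (.split 2 (-441) (.lin 2) (.split 6 476
    (.split 3 29 (.splitN 267692 (.split 1 453 (.split 2 (-387) (.lin 2) (.split 6 422 (.split 5
    (-48) (.split 0 (-181) (.split 2 (-170) (.split 1 231 (.lin 2) (.split 6 205 (.lin 7) (.split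
    4 (-146) (.splitN 183995 .sq (.wt 0)) (.lin 12)))) (.lin 1)) (.split 2 (-216) (.lin 1)
    (.split 1 277 (.split 6 251 (.splitN 232399 .cand (.wt 3)) (.lin 7)) (.lin 2)))) (.split 0
    (-155) (.split 4 (-119) (.splitN 151186 (.split 0 (-219) .sq (.split 2 (-198) (.lin 1)
    (.split 1 259 (.split 6 233 (.split 4 (-201) (.lin 6) (.splitN 142842 (.split 5 (-38) (.wt 1)
    (.split 0 (-164) (.split 4 (-128) (.splitN 133464 .sq (.wt 3)) (.lin 6)) (.lin 1))) (.wt 0)))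
    (.lin 7)) (.lin 2)))) (.wt 3)) (.lin 6)) (.lin 1))) (.lin 9))) .sq) (.wt 3)) (.split 5 (-34)
    (.split 6 319 (.split 4 (-273) (.lin 6) (.split 0 (-309) (.lin 7) (.split 1 412 (.split 0
    (-158) (.split 4 (-128) (.split 5 (-44) (.split 2 (-143) (.split 1 213 (.lin 2) (.split 6 178
    (.lin 6) (.split 0 (-176) (.split 2 (-161) (.split 1 231 (.lin 2) (.split 6 196 (.lin 7)
    (.split 4 (-146) (.splitN 177920 .sq (.wt 1)) (.lin 12)))) (.lin 1)) (.wt 2)))) (.lin 1))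
    (.wt 2)) (.lin 12)) (.wt 2)) (.lin 8)))) (.wt 2)) (.wt 2))) (.lin 9))) .sq))) (.wt 1))) (.lin
    9)))) .sq) (.wt 1))) (.lin 0))) .sq))) (.wt 1)))) (.lin 2))) (.wt 1)) (.lin 12)) (.split 2
    (-143) (.split 5 (-52) cert5_76_13 (.split 0 (-146) (.split 4 (-119) (.splitN 1390557 (.split
    2 (-7709) (.div 2) (.split 0 (-7743) (.lin 1) (.split 6 7766 (.split 4 (-7752) (.lin 6)
    (.split 3 32 (.split 6 3516 (.split 4 (-3486) (.lin 6) (.split 0 (-3513) (.lin 7) (.split 6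
    2468 (.split 2 (-2439) (.lin 9) (.split 6 415 (.split 4 (-390) (.lin 6) (.split 0 (-417)
    (.lin 7) (.split 1 466 (.split 2 (-387) (.lin 9) (.split 1 439 (.split 5 (-36) (.splitN
    249519 (.wt 3) (.split 6 291 (.split 4 (-246) (.lin 6) (.split 0 (-273) (.lin 7) (.split 1
    322 (.split 2 (-261) (.lin 9) (.splitN 275828 (.wt 1) (.split 6 228 (.split 4 (-183) (.lin 6)
    (.split 0 (-210) (.lin 7) (.split 1 259 (.split 6 197 (.split 4 (-156) (.lin 6) (.split 0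
    (-183) (.lin 7) (.split 1 232 (.split 2 (-171) (.lin 9) (.split 6 183 (.split 4 (-138) (.lin
    6) (.split 0 (-165) (.lin 7) (.split 1 214 (.split 2 (-153) (.lin 9) (.splitN 554536 (.splitN
    415594 (.wt 3) (.split 5 (-45) .cand (.split 0 (-159) (.split 2 (-152) (.split 4 (-137)
    (.split 6 178 (.lin 3) (.wt 1)) (.lin 3)) (.lin 1)) (.wt 2)))) (.wt 1))) (.lin 8)))) (.split
    4 (-137) (.split 0 (-164) (.split 2 (-161) (.split 1 213 (.lin 11) (.splitN 538899 (.split 5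
    (-45) (.split 4 (-147) (.lin 6) (.splitN 444570 (.wt 1) .cand)) (.wt 2)) (.wt 0))) (.lin 9))
    (.lin 7)) (.lin 6)))) (.lin 8)))) (.split 4 (-155) (.split 1 222 (.lin 8) (.split 2 (-179)
    (.splitN 464520 (.split 5 (-45) .cand (.split 4 (-164) (.splitN 386262 (.split 0 (-193)
    (.split 1 240 (.lin 4) (.split 4 (-173) (.split 6 211 (.lin 6) (.wt 0)) (.lin 8))) (.wt 0))
    (.wt 1)) (.lin 6))) (.wt 1)) (.lin 9))) (.lin 6))) (.lin 8)))) (.split 4 (-182) (.split 1 249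
    (.lin 8) (.split 2 (-206) (.splitN 441907 (.split 6 260 (.split 4 (-219) (.lin 6) (.split 0
    (-246) (.lin 7) (.split 5 (-45) .cand (.wt 2)))) (.split 4 (-218) (.split 1 285 (.lin 8)
    (.split 2 (-242) (.splitN 390401 (.splitN 347993 (.wt 3) (.split 5 (-42) .cand (.wt 1))) (.wt
    1)) (.lin 9))) (.lin 6))) (.wt 1)) (.lin 9))) (.lin 6))))) (.lin 8)))) (.split 4 (-245)
    (.split 0 (-272) (.split 1 312 (.lin 8) (.split 2 (-269) (.splitN 394964 .sq (.split 0 (-410)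
    (.lin 1) (.wt 1))) (.lin 9))) (.lin 7)) (.lin 6)))) (.split 0 (-165) (.split 4 (-146) (.split
    6 267 (.split 4 (-237) (.lin 6) (.split 0 (-264) (.lin 7) (.split 5 (-25) (.split 6 178 (.lin
    6) (.split 0 (-199) (.split 6 205 (.lin 7) (.wt 2)) (.wt 2))) (.wt 2)))) (.wt 2)) (.lin 12))
    (.wt 2))) (.lin 11))) (.lin 8)))) (.split 4 (-371) (.split 0 (-398) (.split 2 (-395) (.split
    1 447 (.lin 11) (.splitN 832751 .sq (.wt 1))) (.lin 9)) (.lin 7)) (.lin 6)))) (.wt 2)))) (.wt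
    2)) (.wt 2))) (.lin 7)))) (.wt 1)) (.lin 6)) (.lin 1))) (.lin 9)))

def cert5_76_15 : Cert :=
  (.split 6 168 (.split 4 (-156) (.lin 6) (.split 0 (-183) (.lin 7) (.split 2 (-135) (.lin 9)
    (.split 1 205 (.split 5 (-122) (.lin 4) (.splitN 92508 (.wt 1) (.split 3 34 (.split 4 (-147)
    (.lin 6) (.split 7 (-33) (.split 4 (-138) (.lin 6) (.split 1 114 (.lin 8) (.split 2 (-126)
    (.lin 9) (.split 0 (-92) (.split 5 (-104) (.lin 1) (.split 6 120 (.split 2 (-81) (.lin 9)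
    (.split 1 151 (.split 5 (-59) (.lin 1) (.splitN 288970 (.split 3 29 (.split 1 142 (.split 2
    (-53) (.split 4 (-84) (.lin 6) (.splitN 175157 (.split 5 (-36) (.wt 1) (.split 0 (-110) (.wt
    2) (.split 2 (-72) (.lin 1) (.split 6 107 (.split 4 (-66) (.lin 12) (.splitN 148596 (.wt 1)
    (.split 4 (-64) (.wt 0) (.split 6 98 (.split 1 124 (.wt 0) (.lin 8)) (.lin 6))))) (.lin
    7))))) (.wt 0))) (.lin 10)) (.lin 2)) .cand) (.wt 3))) (.lin 11))) (.split 2 (-89) (.split 1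
    150 (.lin 11) (.split 3 29 (.split 1 187 (.split 4 (-129) (.lin 6) (.split 5 (-54) (.wt 2)
    (.split 0 (-101) (.split 4 (-65) (.split 5 (-39) (.wt 2) (.split 0 (-119) (.split 4 (-83)
    (.split 0 (-159) (.wt 2) (.split 4 (-120) (.lin 12) (.split 5 (-28) (.wt 2) (.split 0 (-128)
    (.split 4 (-92) (.split 6 152 (.splitN 126232 (.wt 1) (.split 4 (-117) (.wt 0) (.split 6 143
    (.wt 2) (.lin 6)))) (.lin 6)) (.lin 6)) (.lin 1))))) (.lin 6)) (.lin 1))) (.lin 6)) (.lin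
    1)))) (.lin 2)) (.split 1 159 (.lin 2) (.splitN 151446 (.wt 5) (.split 5 (-27) (.split 0
    (-165) (.lin 1) (.split 4 (-129) (.lin 6) (.split 0 (-110) (.split 5 (-86) (.lin 1) (.split 0
    (-117) (.split 5 (-77) (.lin 1) (.split 4 (-83) (.split 5 (-32) (.split 0 (-156) (.lin 1)
    (.split 4 (-120) (.lin 6) (.split 0 (-124) (.split 2 (-98) (.split 5 (-68) (.lin 1) (.split 6
    133 (.lin 7) (.split 4 (-92) (.splitN 180872 (.split 0 (-136) (.split 2 (-107) (.split 1 177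
    (.lin 2) (.split 5 (-59) (.lin 1) (.split 6 142 (.lin 7) (.wt 0)))) (.lin 1)) (.wt 0)) (.wt
    1)) (.lin 12)))) (.lin 1)) (.wt 2)))) (.wt 1)) (.lin 12))) (.wt 2))) (.wt 2)))) (.wt 1))))))
    (.lin 9)))) (.lin 12))))) (.split 2 (-53) cert5_76_10 (.lin 9)))) (.split 1 114 (.lin 2)
    (.split 1 123 (.lin 11) (.split 5 (-28) (.split 6 114 (.split 4 (-93) (.lin 6) (.split 0
    (-120) (.lin 7) (.split 2 (-81) (.lin 9) (.split 1 151 (.split 5 (-68) (.lin 4) (.splitN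
    260772 (.split 0 (-85) (.split 5 (-59) (.lin 4) (.splitN 211493 (.split 0 (-107) (.split 2
    (-62) (.split 1 132 (.lin 2) (.split 5 (-41) (.lin 4) (.split 6 97 (.lin 7) (.wt 0)))) (.lin
    1)) (.wt 0)) (.wt 6))) (.wt 0)) (.wt 6))) (.lin 11))))) (.wt 2)) (.wt 2))))))) (.lin 11)))))
    (.split 2 (-134) (.split 1 195 (.lin 11) (.split 3 34 cert5_76_14 (.split 1 213 (.lin 11)
    (.splitN 740613 (.split 2 (-4109) (.div 2) (.split 0 (-4161) (.lin 1) (.split 1 4183 (.split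
    5 (-4100) (.lin 1) (.split 4 (-4134) (.lin 8) (.splitN 542429 (.split 2 (-3011) (.div 2)
    (.split 0 (-3063) (.lin 1) (.split 1 3085 (.split 5 (-3002) (.lin 1) (.split 4 (-3036) (.lin
    8) (.splitN 494703 (.split 2 (-2741) (.div 2) (.split 5 (-2732) (.lin 1) (.split 7 (-29)
    (.split 0 (-92) (.splitN 259432 (.split 2 (-1427) (.div 2) (.split 1 1501 (.split 5 (-1409)
    (.lin 1) (.split 4 (-1443) (.lin 8) (.split 0 (-109) (.split 4 (-74) (.splitN 230923 (.split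
    2 (-1283) (.div 2) (.split 1 1357 (.split 5 (-1247) (.lin 1) (.split 4 (-1299) (.lin 8)
    (.split 0 (-126) (.split 4 (-92) (.splitN 218051 (.split 2 (-1211) (.div 2) (.split 0 (-1263)
    (.lin 1) (.split 1 1285 (.split 5 (-1157) (.lin 1) (.split 4 (-1227) (.lin 8) (.split 0
    (-138) (.split 4 (-110) (.split 6 1137 (.split 4 (-1119) (.lin 6) (.split 0 (-1155) (.lin 7)
    (.split 2 (-1098) (.lin 9) (.split 5 (-1031) (.lin 1) (.split 6 1014 (.split 4 (-993) (.lin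
    6) (.split 0 (-1029) (.lin 7) (.split 2 (-972) (.lin 9) (.split 1 1051 (.split 5 (-905) (.lin
    1) (.splitN 207762 (.split 0 (-158) (.split 4 (-128) (.split 6 579 (.split 4 (-561) (.lin 6)
    (.split 0 (-597) (.lin 7) (.split 2 (-540) (.lin 9) (.split 1 619 (.split 5 (-455) (.lin 1)
    (.splitN 193838 (.split 0 (-207) (.split 2 (-152) (.split 1 231 (.lin 2) (.split 5 (-410)
    (.lin 1) (.split 6 187 (.lin 7) (.split 4 (-173) (.splitN 189584 .sq (.wt 1)) (.lin 12)))))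
    (.lin 1)) (.wt 0)) (.wt 1))) (.lin 11))))) (.wt 0)) (.lin 12)) (.wt 0)) (.wt 1))) (.lin
    11))))) (.wt 0)))))) (.wt 0)) (.lin 12)) (.wt 0)))) (.lin 2)))) (.wt 1)) (.lin 12)) (.wt
    0)))) (.lin 2))) (.wt 1)) (.lin 12)) (.wt 0)))) (.lin 2))) (.wt 1)) (.lin 12)) (.wt 0))))
    (.wt 6)))) (.lin 2)))) (.wt 6)))) (.lin 2)))) (.wt 6))))) (.lin 9)))

def cert5_76_16 : Cert :=
  (.split 3 47 (.split 4 (-48) (.split 0 (-83) cert5_76_15 (.lin 12)) (.split 0 (-84) (.lin 12)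
    (.split 3 39 (.split 6 247 (.split 2 (-243) (.lin 3) (.split 2 (-216) (.lin 9) (.split 5
    (-239) (.lin 1) (.split 6 216 (.split 5 (-203) (.lin 6) (.split 6 147 (.split 2 (-144) (.lin
    3) (.split 2 (-117) (.lin 9) (.split 1 178 (.split 5 (-140) (.lin 1) (.split 5 (-131) (.lin
    4) (.split 4 (-34) (.split 5 (-113) (.lin 6) (.split 7 (-33) (.split 5 (-104) (.lin 6)
    (.split 2 (-108) (.lin 9) (.split 0 (-74) (.split 3 29 (.split 5 (-95) (.lin 1) (.split 1 169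
    (.split 6 111 (.split 1 133 (.split 5 (-46) (.wt 2) (.split 6 98 (.split 5 (-35) (.wt 2)
    (.split 2 (-54) (.lin 1) (.split 6 89 (.splitN 172579 (.wt 1) (.split 5 (-27) (.wt 2) (.split
    0 (-83) (.split 1 106 (.split 2 (-45) (.lin 10) (.split 4 (-47) (.split 6 80 (.wt 0) (.lin
    0)) (.lin 5))) (.lin 8)) (.lin 1)))) (.lin 6)))) (.lin 6))) (.lin 11)) (.split 2 (-80)
    (.split 1 141 (.lin 11) (.split 5 (-58) (.split 6 129 (.split 2 (-90) (.lin 9) (.split 1 151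
    (.split 5 (-77) (.lin 1) (.splitN 227000 (.wt 1) (.splitN 295108 (.split 4 (-47) (.wt 0)
    (.split 5 (-67) (.split 0 (-75) (.lin 12) (.split 6 124 (.split 2 (-81) (.lin 3) (.split 1
    142 (.split 5 (-68) (.lin 0) (.splitN 274641 (.wt 0) (.wt 0))) (.lin 11))) (.wt 0))) (.lin
    6))) (.wt 3)))) (.lin 11))) (.split 2 (-98) (.split 1 159 (.lin 11) (.split 5 (-76) (.splitN
    300301 (.splitN 228720 (.wt 1) (.split 4 (-43) (.split 0 (-83) (.wt 0) (.lin 12)) (.split 0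
    (-75) (.lin 12) (.wt 0)))) (.wt 1)) (.lin 1))) (.lin 9))) (.lin 1))) (.lin 9))) (.lin 2)))
    (.split 1 114 (.lin 2) (.splitN 428114 (.split 6 106 (.split 2 (-63) (.lin 9) (.split 5 (-59)
    (.lin 1) (.wt 2))) (.wt 0)) (.wt 1)))) (.lin 12)))) (.split 2 (-53) (.split 0 (-75) (.lin 12)
    (.split 3 26 (.split 4 (-40) (.split 0 (-74) (.split 6 93 (.split 2 (-63) (.lin 3) (.split 1
    115 (.split 5 (-41) (.lin 1) (.split 6 84 (.split 2 (-54) (.lin 3) (.split 1 106 (.split 5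
    (-32) (.lin 0) (.splitN 18075313 (.wt 0) (.wt 1))) (.lin 11))) (.wt 0))) (.lin 11))) (.wt 0))
    (.lin 12)) (.wt 0)) (.wt 0))) (.lin 9)))) (.split 5 (-40) (.split 0 (-66) (.lin 12) (.split 3
    32 (.split 7 (-31) (.split 0 (-56) (.split 6 102 (.split 2 (-72) (.lin 3) (.split 2 (-63)
    (.lin 9) (.split 1 124 (.split 5 (-68) (.lin 1) (.splitN 8081239 (.split 4 (-21) (.split 5
    (-59) (.lin 6) (.split 0 (-65) (.split 6 80 (.wt 2) (.split 2 (-53) (.split 1 114 (.lin 11)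
    (.split 5 (-49) (.splitN 448979 (.split 6 93 (.split 2 (-54) (.lin 3) (.split 1 115 (.split 5
    (-50) (.lin 0) (.splitN 428282 (.wt 0) (.wt 0))) (.lin 11))) (.wt 0)) (.wt 1)) (.lin 1)))
    (.lin 3))) (.lin 12))) (.wt 0)) (.wt 1))) (.lin 11)))) (.wt 2)) (.lin 12)) (.wt 0)) (.wt 0)))
    (.lin 6))))) (.lin 11)))) (.split 2 (-116) (.split 1 177 (.lin 11) (.split 5 (-94) (.splitN
    699519 (.split 0 (-49) (.split 3 31 (.split 5 (-185) (.lin 7) (.splitN 618660 (.split 4 (-30)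
    (.split 7 (-32) (.split 5 (-167) (.lin 6) (.split 0 (-74) (.split 6 175 (.split 2 (-144)
    (.lin 3) (.split 2 (-135) (.lin 9) (.split 1 196 (.split 5 (-122) (.lin 1) (.splitN 294516
    (.split 4 (-39) (.split 5 (-113) (.lin 6) (.split 0 (-83) (.split 6 153 (.wt 2) (.split 5
    (-104) (.split 2 (-134) (.split 1 195 (.lin 2) (.split 6 169 (.lin 0) (.splitN 257582 (.wt 0)
    (.wt 0)))) (.lin 1)) (.wt 2))) (.lin 12))) (.wt 0)) (.wt 1))) (.lin 11)))) (.wt 2)) (.lin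
    12))) (.wt 0)) (.wt 0)) (.wt 6))) (.wt 0)) (.wt 0)) (.wt 6)) (.lin 4))) (.lin 9)))) (.wt
    2))))) (.wt 2)) (.wt 2)))) (.split 1 123 (.lin 2) (.split 0 (-83) (.split 6 181 (.split 4
    (-201) (.lin 6) (.split 0 (-228) (.lin 7) (.split 2 (-153) (.lin 9) (.split 1 250 (.split 5
    (-167) (.lin 4) (.split 0 (-112) (.split 1 141 (.lin 4) (.split 5 (-131) (.lin 4) (.split 0
    (-120) (.split 1 150 (.lin 4) (.split 3 64 (.split 2 (-53) (.split 5 (-113) (.lin 7) (.split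
    6 88 (.lin 7) (.splitN 288924 (.split 6 155 (.split 4 (-165) (.lin 6) (.split 0 (-192) (.lin
    7) (.split 1 214 (.split 5 (-86) (.lin 4) (.wt 2)) (.lin 11)))) (.wt 0)) (.wt 6)))) (.lin 1))
    (.wt 2))) (.wt 2)))) (.wt 2))) (.lin 11))))) (.wt 2)) (.wt 2))))

def cert5_76 : Cert :=
  (.splitN 46205 (.wt 1) (.split 6 78 (.split 2 (-45) (.lin 9) cert5_76_6) (.split 2 (-26)
    (.split 1 105 (.lin 11) (.split 3 205 (.split 3 71 (.split 7 (-42) (.split 0 (-65) cert5_76_9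
    (.lin 12)) (.split 2 (-44) cert5_76_16 (.lin 9))) (.split 1 132 (.lin 2) (.split 1 159 (.lin
    11) (.split 0 (-90) (.split 4 (-38) (.split 6 165 (.split 4 (-318) (.lin 6) (.split 0 (-345)
    (.lin 7) (.split 2 (-135) (.lin 9) (.split 1 367 (.split 5 (-383) (.lin 0) (.split 5 (-302)
    (.lin 1) (.split 5 (-275) (.lin 4) (.splitN 1879077 (.split 7 (-30) (.split 2 (-126) (.lin 9)
    (.split 0 (-109) (.split 3 154 (.split 0 (-309) (.lin 1) (.split 1 313 (.split 5 (-203) (.lin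
    4) (.split 4 (-255) (.lin 6) (.split 0 (-116) (.split 3 133 (.split 4 (-237) (.lin 6) (.split
    0 (-273) (.lin 7) (.split 1 295 (.split 5 (-176) (.lin 4) (.split 0 (-120) (.split 5 (-167)
    (.lin 4) (.split 3 123 (.split 4 (-219) (.lin 6) (.split 1 277 (.split 5 (-149) (.lin 4)
    (.split 5 (-42) (.split 0 (-228) (.lin 4) (.split 1 177 (.lin 4) (.split 4 (-192) (.lin 6)
    (.splitN 217796 (.split 7 (-38) (.split 0 (-132) (.split 3 103 (.split 0 (-210) (.lin 7)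
    (.split 1 259 (.split 5 (-122) (.lin 4) (.split 4 (-165) (.lin 6) (.split 6 88 (.lin 7) (.wt
    2)))) (.lin 11))) (.wt 2)) (.wt 2)) (.wt 0)) (.wt 6))))) (.wt 2))) (.lin 11))) (.wt 2))) (.wt
    2))) (.lin 11)))) (.wt 2)) (.wt 2)))) (.lin 11))) (.wt 2)) (.wt 2))) (.wt 0)) (.wt 6)))))
    (.lin 11))))) (.wt 2)) (.lin 12)) (.wt 2))))) (.split 1 267 (.lin 2) (.split 1 294 (.lin 11)
    (.splitN 143774 .sq (.splitN 169761 (.split 1 1880 (.split 0 (-1857) (.lin 4) (.split 5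
    (-941) (.div 5) (.wt 6))) (.div 1)) (.wt 6))))))) (.lin 9))))

theorem check5_76 :
    check task5 cert5_76
      [(7, ⟨none, some (-47)⟩), (7, ⟨some (70), none⟩), (1, ⟨none, some (-8)⟩), (7, ⟨some (25), none⟩), (7, ⟨none, some (-20)⟩), (5, ⟨none, some (-22)⟩), (8, ⟨some (35), none⟩), (8, ⟨some (-55), some (-28)⟩)] ⟨some (36360), none⟩ = true := by
  decide +kernel

def cert5_77_0 : Cert :=
  (.split 3 58 (.split 0 (-138) (.lin 1) (.split 0 (-111) (.lin 7) (.split 4 (-84) (.lin 6)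
    (.split 7 (-42) (.split 0 (-65) (.split 1 78 (.lin 2) (.split 2 (-27) (.lin 9) (.split 4
    (-66) (.lin 6) (.split 6 52 (.lin 9) (.split 3 49 (.split 4 (-57) (.lin 6) (.split 3 34
    (.split 4 (-48) (.lin 6) (.split 0 (-93) (.lin 7) (.split 4 (-34) (.split 6 61 (.lin 6)
    (.split 1 96 (.lin 8) (.split 2 (-17) (.split 0 (-83) (.split 3 33 (.split 4 (-39) (.lin 6)
    (.split 0 (-84) (.lin 7) (.split 2 (-26) (.split 1 97 (.split 6 70 (.lin 0) (.split 7 (-47)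
    (.lin 1) (.splitN 105515 (.wt 0) (.wt 0)))) (.lin 11)) (.lin 10)))) (.wt 2)) (.lin 12)) (.lin
    10)))) (.split 1 97 (.split 2 (-18) (.lin 10) (.split 0 (-84) (.lin 12) (.split 3 29 (.splitN
    100910 (.wt 1) (.split 6 62 (.split 0 (-75) (.lin 7) (.split 1 88 (.split 4 (-25) (.split 6
    61 (.lin 6) (.split 0 (-74) (.split 1 87 (.lin 8) (.split 2 (-17) (.split 7 (-47) (.lin 1)
    (.splitN 127369 (.wt 0) (.wt 0))) (.lin 10))) (.lin 7))) (.split 2 (-9) (.lin 10) (.split 6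
    61 (.split 1 79 (.split 0 (-66) (.lin 3) (.split 7 (-47) (.lin 1) (.splitN 253239 (.wt 0)
    (.wt 0)))) (.lin 0)) (.wt 2)))) (.lin 11))) (.split 0 (-83) (.split 2 (-17) (.split 1 96
    (.lin 11) (.split 4 (-29) (.split 7 (-55) (.wt 0) (.lin 1)) (.lin 0))) (.lin 9)) (.lin 7))))
    (.split 1 87 (.lin 2) (.wt 2))))) (.lin 8))))) (.split 0 (-92) (.split 6 61 (.lin 7) (.wt 2))
    (.wt 2)))) (.wt 2)))))) (.lin 1)) (.split 6 53 (.split 4 (-66) (.lin 6) (.split 0 (-93) (.lin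
    7) (.split 2 (-27) (.lin 9) (.split 3 38 (.split 0 (-75) (.lin 7) (.split 4 (-48) (.lin 6)
    (.split 6 44 (.split 4 (-39) (.lin 6) (.split 0 (-66) (.lin 7) (.split 2 (-18) (.lin 9)
    (.split 7 (-33) (.split 0 (-56) (.split 1 69 (.lin 2) (.split 2 (-9) (.lin 9) (.split 4 (-30)
    (.lin 6) (.split 6 43 (.lin 9) (.split 3 32 (.split 0 (-57) (.lin 1) (.split 1 70 (.split 4
    (-21) (.lin 0) (.splitN 818026 (.wt 0) (.wt 0))) (.lin 2))) (.wt 2)))))) (.lin 1)) (.split 4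
    (-24) (.split 1 69 (.lin 8) (.split 6 36 (.wt 1) (.split 3 29 (.split 0 (-57) (.lin 1)
    (.split 1 70 (.split 4 (-30) (.lin 0) (.wt 0)) (.lin 2))) (.wt 0)))) (.wt 3)))))) (.split 4
    (-29) (.split 0 (-65) (.split 1 69 (.lin 8) (.split 2 (-17) (.split 1 78 (.lin 11) (.split 3
    30 (.split 4 (-39) (.lin 6) (.split 0 (-66) (.lin 7) (.split 1 79 (.split 7 (-31) (.split 2
    (-18) (.lin 1) (.split 4 (-30) (.lin 0) (.splitN 211806 (.wt 0) (.wt 0)))) (.wt 2)) (.lin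
    11)))) (.wt 2))) (.lin 9))) (.lin 7)) (.lin 6))))) (.split 1 78 (.lin 2) (.split 4 (-38)
    (.split 6 46 (.split 4 (-57) (.lin 6) (.split 0 (-84) (.lin 7) (.split 2 (-18) (.lin 9)
    (.split 1 97 (.split 7 (-33) (.split 1 87 (.lin 2) (.split 2 (-9) (.lin 9) (.split 4 (-48)
    (.lin 6) (.split 6 43 (.lin 9) (.splitN 296347 (.wt 0) (.wt 1)))))) (.split 4 (-40) (.split 1
    87 (.lin 8) (.split 3 51 (.split 0 (-75) (.lin 1) (.split 2 (-17) (.split 4 (-48) (.lin 5)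
    (.split 6 43 (.lin 0) (.wt 0))) (.lin 10))) (.wt 0))) (.wt 0))) (.lin 11))))) (.wt 2)) (.lin
    10))))))) (.split 4 (-38) (.split 0 (-74) (.split 1 78 (.lin 8) (.split 2 (-26) (.split 1 87
    (.lin 11) (.split 3 32 (.split 0 (-93) (.lin 1) (.split 0 (-84) (.lin 7) (.split 4 (-57)
    (.lin 6) (.split 7 (-30) (.split 4 (-48) (.lin 6) (.split 6 69 (.split 4 (-39) (.lin 6)
    (.split 0 (-75) (.lin 7) (.split 1 88 (.split 2 (-27) (.lin 9) (.splitN 163883 (.wt 0) (.wt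
    0))) (.lin 8)))) (.wt 2))) (.wt 2))))) (.wt 2))) (.lin 9))) (.lin 7)) (.lin 6))))))) (.split
    1 96 (.lin 2) (.split 4 (-56) (.split 7 (-42) (.split 1 114 (.lin 2) (.split 2 (-27) (.lin 9)
    (.split 6 52 (.lin 9) (.splitN 155010 (.split 0 (-4251) (.div 0) (.split 3 4210 (.split 1
    4291 (.split 4 (-4251) (.lin 0) (.split 1 1700 (.split 4 (-1659) (.lin 0) (.split 0 (-111)
    (.split 1 132 (.lin 4) (.split 3 118 (.split 0 (-183) (.lin 1) (.split 4 (-129) (.lin 6)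
    (.splitN 108277 (.split 3 103 (.split 0 (-165) (.lin 1) (.split 4 (-111) (.lin 6) (.wt 2)))
    (.wt 0)) (.wt 6)))) (.wt 2))) (.wt 2))) (.div 1))) (.lin 2)) (.lin 1))) (.wt 1))))) (.split 6
    59 (.split 2 (-27) (.lin 9) (.split 6 44 (.split 2 (-18) (.lin 9) (.split 3 130 (.split 0
    (-165) (.lin 1) (.split 0 (-156) (.lin 7) (.split 1 169 (.split 4 (-138) (.lin 0) (.split 4
    (-129) (.lin 6) (.split 7 (-33) (.split 1 105 (.lin 2) (.split 2 (-9) (.lin 9) (.split 4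
    (-120) (.lin 6) (.split 6 43 (.lin 9) (.splitN 250548 (.split 0 (-94) (.split 3 69 (.lin 1)
    (.wt 2)) (.wt 0)) (.wt 1)))))) (.split 3 121 (.split 0 (-147) (.lin 1) (.split 4 (-120) (.lin
    6) (.split 3 111 (.split 0 (-138) (.lin 1) (.split 3 101 (.split 0 (-129) (.lin 1) (.split 4
    (-102) (.lin 6) (.split 3 91 (.split 0 (-120) (.lin 1) (.split 4 (-93) (.lin 6) (.split 3 82
    (.split 4 (-84) (.lin 6) (.split 3 73 (.split 0 (-102) (.lin 1) (.split 4 (-75) (.lin 6) (.wt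
    4))) (.wt 0))) (.wt 0)))) (.wt 0)))) (.wt 0))) (.wt 0)))) (.wt 0))))) (.lin 11)))) (.split 1
    168 (.lin 2) (.split 4 (-128) (.split 7 (-33) (.split 2 (-9) (.lin 9) (.split 6 43 (.lin 9)
    (.splitN 216339 (.split 0 (-5961) (.div 0) (.split 3 5929 (.split 1 5974 (.split 4 (-5925)
    (.lin 0) (.wt 2)) (.lin 2)) (.lin 1))) (.wt 1)))) (.split 0 (-236) (.split 3 204 (.lin 1)
    (.split 1 240 (.lin 2) (.split 3 1412 (.split 1 1456 (.split 4 (-1425) (.lin 0) (.split 0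
    (-268) (.split 3 240 (.lin 1) (.split 1 276 (.lin 2) (.wt 2))) (.wt 0))) (.lin 2)) (.wt 0))))
    (.wt 2))) (.lin 10))))) (.split 4 (-65) (.split 2 (-17) (.split 1 114 (.lin 11) (.splitN
    508588 (.split 0 (-14061) (.div 0) (.split 3 14029 (.split 1 14092 (.split 4 (-14052) (.lin
    0) (.split 1 5624 (.split 4 (-5583) (.lin 0) (.split 0 (-5619) (.lin 3) (.splitN 188573
    (.split 1 2060 (.split 4 (-2019) (.lin 0) (.split 0 (-2055) (.lin 3) (.splitN 171890 (.split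
    0 (-114) (.split 3 78 (.lin 7) (.wt 2)) (.wt 0)) (.wt 6)))) (.div 1)) (.wt 6)))) (.div 1)))
    (.lin 2)) (.lin 1))) (.wt 1))) (.lin 9)) (.lin 6)))) (.wt 2))) (.lin 10))))

def cert5_77_1 : Cert :=
  (.split 7 (-64) (.split 0 (-83) (.split 1 96 (.lin 2) (.split 6 70 (.lin 9) (.splitN 185264
    (.split 1 2024 (.split 0 (-2019) (.lin 4) (.split 7 (-2000) (.lin 1) (.split 4 (-1956) (.lin
    8) (.split 3 264 (.split 0 (-404) .sq (.split 2 (-324) (.lin 1) (.split 7 (-380) (.lin 1)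
    (.split 1 961 (.split 1 412 (.split 4 (-345) (.lin 8) (.splitN 169818 (.split 1 389 (.split 7
    (-353) (.lin 2) (.split 4 (-318) (.lin 8) (.split 5 (-8) (.split 0 (-372) (.lin 4) (.split 3
    53 (.split 4 (-80) (.split 6 106 (.lin 6) (.split 1 159 (.lin 8) (.split 2 (-44) (.split 0
    (-146) (.splitN 72080 .sq (.splitN 75776 (.split 0 (-281) (.split 6 241 (.lin 7) .sq) (.wt
    1)) (.wt 1))) (.lin 12)) (.lin 10)))) (.split 2 (-63) (.lin 10) (.split 3 38 (.split 6 159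
    (.split 0 (-219) (.lin 3) (.split 0 (-174) (.lin 7) (.split 1 187 (.split 7 (-155) (.lin 1)
    (.split 4 (-39) (.split 6 88 (.lin 6) (.split 1 123 (.lin 8) (.split 2 (-26) (.split 7 (-96)
    (.split 1 159 (.lin 8) (.split 0 (-146) (.split 6 124 (.lin 6) (.splitN 76220 .sq (.wt 0)))
    (.lin 12))) (.split 3 29 .cand (.split 0 (-121) (.split 6 106 (.lin 7) (.wt 2)) (.wt 2))))
    (.lin 10)))) (.split 2 (-27) (.lin 10) (.split 6 111 (.split 0 (-138) (.lin 3) (.split 0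
    (-129) (.lin 7) (.split 7 (-110) (.lin 1) (.split 7 (-101) (.lin 9) (.split 4 (-29) (.split 0
    (-92) (.split 3 29 (.split 6 79 (.lin 6) (.split 0 (-120) (.lin 7) (.split 2 (-17) (.split 1
    133 (.split 7 (-92) (.lin 1) (.splitN 96402 (.splitN 66051 (.wt 1) .cand) (.wt 1))) (.lin
    11)) (.lin 10)))) (.split 6 82 (.split 0 (-111) (.lin 3) (.split 0 (-102) (.lin 7) (.split 7
    (-74) (.lin 1) (.wt 2)))) (.wt 2))) (.lin 12)) (.split 0 (-120) (.lin 3) (.split 2 (-9) (.lin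
    10) (.split 6 95 (.split 0 (-102) (.lin 3) (.split 7 (-83) (.lin 1) (.split 6 81 (.split 1
    106 (.split 0 (-93) (.lin 3) (.split 7 (-74) (.lin 1) (.splitN 134630 (.split 6 74 (.split 0
    (-84) (.lin 3) (.split 7 (-65) (.lin 1) (.wt 0))) (.wt 2)) (.wt 1)))) (.lin 0)) (.wt 2))))
    (.wt 2))))))))) (.split 3 31 .cand (.wt 2)))))) (.lin 11)))) (.split 0 (-173) (.split 1 186
    (.lin 11) (.split 7 (-91) (.split 7 (-100) (.splitN 102077 .sq (.wt 1)) (.lin 6)) (.lin 1)))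
    (.lin 7))) (.split 1 114 (.lin 2) (.split 6 130 (.split 0 (-165) (.lin 7) (.split 7 (-119)
    (.lin 9) (.split 3 51 (.split 0 (-156) (.lin 7) (.split 4 (-40) (.split 6 79 (.lin 6) (.split
    2 (-17) (.split 7 (-110) (.lin 1) (.wt 2)) (.lin 10))) (.wt 2))) (.wt 2)))) (.wt 2))))))
    (.split 1 132 (.lin 2) (.split 7 (-317) (.lin 1) (.split 3 105 (.split 6 99 (.split 4 (-120)
    (.lin 6) (.split 7 (-92) (.lin 9) (.wt 2))) (.wt 2)) (.wt 2)))))) (.wt 2)))) .sq) (.wt 1)))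
    (.lin 4)) (.lin 2))))) (.wt 2))))) (.div 1)) (.wt 1)))) (.lin 1)) (.split 6 78 (.split 2
    (-45) (.lin 9) (.split 5 (-8) cert5_77_0 (.split 4 (-29) (.splitN 124056 (.split 1 1376
    (.split 4 (-1380) (.lin 0) (.split 0 (-1443) (.lin 3) (.splitN 114099 (.split 1 1232 (.split
    4 (-1236) (.lin 0) (.split 0 (-100) (.split 3 33 (.lin 7) (.wt 2)) (.wt 2))) (.div 1)) (.wt
    6)))) (.div 1)) (.wt 1)) (.lin 10)))) (.split 4 (-38) (.split 0 (-92) (.split 1 69 (.lin 8)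
    (.split 2 (-26) (.split 1 105 (.lin 11) (.splitN 913043 (.split 2 (-5063) (.div 2) (.split 6
    5111 (.split 3 52 (.split 0 (-5160) (.lin 1) (.split 4 (-5133) (.lin 6) (.split 3 51 (.split
    5 (-6) (.split 6 2664 (.split 4 (-2667) (.lin 6) (.split 0 (-2694) (.lin 7) (.split 6 1948
    (.split 4 (-1947) (.lin 6) (.split 0 (-1974) (.lin 7) (.split 6 1616 (.split 4 (-1614) (.lin
    6) (.split 0 (-1641) (.lin 7) (.split 6 1431 (.split 4 (-1434) (.lin 6) (.split 0 (-1461)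
    (.lin 7) (.split 6 1320 (.split 4 (-1317) (.lin 6) (.split 0 (-1344) (.lin 7) (.split 1 1384
    (.splitN 805784 (.split 0 (-885) .sq (.split 2 (-846) (.lin 1) (.split 1 943 (.split 6 872
    (.split 4 (-876) (.lin 6) (.splitN 761367 (.split 1 860 (.split 0 (-840) (.lin 4) (.split 7
    (-42) (.splitN 133478 (.split 0 (-329) .sq (.split 1 340 (.split 4 (-282) (.lin 8) (.split 3
    42 (.split 6 158 (.split 4 (-129) (.lin 6) (.split 0 (-174) (.lin 7) (.split 1 196 (.split 2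
    (-108) (.lin 9) (.split 6 116 (.split 4 (-93) (.lin 6) (.split 0 (-138) (.lin 7) (.split 3 33
    .cand (.wt 2)))) (.split 4 (-83) (.split 0 (-137) (.split 1 141 (.lin 8) (.split 2 (-71)
    (.split 1 150 (.lin 11) (.splitN 72035 .sq (.splitN 85272 (.split 3 33 (.split 4 (-120) (.lin
    6) (.split 0 (-165) (.lin 7) (.split 1 178 (.split 7 (-55) (.wt 1) (.split 2 (-80) (.split 4
    (-92) (.splitN 78552 (.wt 0) (.split 6 139 (.split 4 (-102) (.lin 6) (.split 0 (-147) (.lin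
    7) (.wt 2))) (.wt 1))) (.lin 6)) (.lin 1))) (.lin 11)))) (.wt 0)) (.wt 1)))) (.lin 9))) (.lin
    7)) (.lin 6)))) (.lin 8)))) (.split 4 (-119) (.split 0 (-173) (.split 1 177 (.lin 8) (.split
    2 (-107) (.splitN 116054 .sq (.wt 1)) (.lin 9))) (.lin 7)) (.lin 6))) (.wt 2))) (.lin 4)))
    (.wt 1)) (.split 2 (-44) (.split 3 37 (.split 6 211 (.split 4 (-201) (.lin 6) (.split 0
    (-228) (.lin 7) (.split 3 32 (.split 6 136 (.split 4 (-120) (.lin 6) (.split 0 (-147) (.lin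
    7) (.split 6 106 (.split 4 (-84) (.lin 6) (.split 0 (-111) (.lin 7) (.split 1 133 (.split 2
    (-72) (.lin 9) (.splitN 166296 (.split 7 (-31) (.split 4 (-75) (.lin 6) (.split 0 (-95)
    (.split 2 (-53) (.split 1 114 (.lin 2) (.split 6 88 (.lin 7) (.split 4 (-65) (.splitN 121378
    (.wt 0) (.wt 1)) (.lin 6)))) (.lin 1)) (.wt 2))) (.wt 0)) (.wt 6))) (.lin 8)))) (.wt 2))))
    (.wt 2)) (.wt 2)))) (.wt 2)) (.wt 2)) (.lin 9)))) .sq) (.wt 1))) (.lin 7)) (.lin 2)))) (.wt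
    1)) (.lin 8)))) (.wt 2)))) (.wt 2)))) (.wt 2)))) (.wt 2)))) (.wt 2)) (.wt 2)) (.wt 2)))) (.wt
    2)) (.lin 9))) (.wt 1))) (.lin 9))) (.lin 7)) (.lin 6))))

def cert5_77 : Cert :=
  cert5_77_1

theorem check5_77 :
    check task5 cert5_77
      [(7, ⟨none, some (-47)⟩), (7, ⟨some (61), none⟩), (1, ⟨none, some (-8)⟩), (7, ⟨some (25), none⟩), (7, ⟨none, some (-20)⟩), (5, ⟨some (-13), some (-4)⟩), (8, ⟨some (35), none⟩), (8, ⟨none, some (-28)⟩)] ⟨some (29880), none⟩ = true := by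
  decide +kernel

def cert5_78 : Cert :=
  (.lin 12)

theorem check5_78 :
    check task5 cert5_78
      [(7, ⟨some (-38), some (-29)⟩), (7, ⟨some (52), none⟩), (1, ⟨none, some (-8)⟩), (7, ⟨some (7), none⟩), (7, ⟨none, some (-20)⟩), (5, ⟨none, some (-4)⟩), (8, ⟨some (17), none⟩), (8, ⟨none, some (-28)⟩)] ⟨some (13680), none⟩ = true := by
  decide +kernel

def cert5_79 : Cert :=
  (.split 3 22 (.split 6 42 (.split 4 (-39) (.lin 6) (.split 0 (-48) (.lin 7) (.split 2 (-27)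
    (.lin 9) (.splitN 139971 (.wt 1) (.split 5 (-6) (.wt 1) (.split 6 19 (.wt 1) (.split 7 (-14)
    (.split 4 (-30) (.lin 6) (.split 2 (-18) (.lin 9) (.split 3 7 (.wt 0) (.wt 0)))) (.wt
    1)))))))) (.split 2 (-26) (.split 1 51 (.lin 11) (.split 7 (-11) (.split 0 (-38) (.split 5
    (-26) (.wt 1) (.split 3 11 (.splitN 102720 (.wt 1) (.split 4 (-130) (.wt 0) (.split 6 161
    (.wt 2) (.lin 6)))) (.split 1 60 (.lin 2) (.split 4 (-26) (.split 0 (-47) (.split 5 (-21)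
    (.wt 1) (.split 4 (-30) (.split 0 (-56) (.split 5 (-8) (.split 2 (-35) (.split 1 69 (.lin 2)
    (.split 0 (-17007) (.wt 1) (.split 2 (-16983) (.lin 1) (.split 6 17000 (.split 4 (-16986)
    (.lin 6) (.split 0 (-3273) (.wt 1) (.split 2 (-3249) (.lin 1) (.split 6 3266 (.split 4
    (-3252) (.lin 6) (.split 0 (-744) (.wt 1) (.split 2 (-720) (.lin 1) (.split 6 737 (.split 4
    (-723) (.lin 6) (.split 6 619 (.split 4 (-597) (.lin 6) (.split 0 (-615) (.lin 7) (.split 6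
    503 (.split 4 (-489) (.lin 6) (.split 0 (-507) (.lin 7) (.split 6 407 (.split 4 (-390) (.lin
    6) (.split 0 (-408) (.lin 7) (.split 2 (-387) (.lin 9) (.split 6 321 (.split 4 (-300) (.lin
    6) (.split 0 (-318) (.lin 7) (.split 2 (-297) (.lin 9) (.split 6 245 (.split 4 (-228) (.lin
    6) (.split 0 (-246) (.lin 7) (.split 6 186 (.split 4 (-165) (.lin 6) (.wt 1)) (.wt 0)))) (.wt
    0))))) (.wt 0))))) (.wt 0)))) (.wt 0)))) (.wt 0))) (.lin 7))))) (.lin 7))))) (.lin 7)))))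
    (.lin 1)) (.wt 2)) (.lin 12)) (.wt 5))) (.lin 12)) (.wt 3))))) (.lin 12)) (.wt 3))) (.lin
    9))) (.split 1 42 (.lin 2) (.split 6 123 (.split 2 (-108) (.lin 9) (.split 7 (-11) (.split 1
    51 (.lin 2) (.split 2 (-99) (.lin 9) (.split 0 (-38) (.split 6 25 (.lin 9) (.split 3 241
    (.split 0 (-354) (.lin 1) (.split 5 (-320) (.lin 1) (.split 4 (-336) (.lin 6) (.split 3 109
    (.split 0 (-219) (.lin 1) (.split 1 223 (.split 5 (-275) (.lin 0) (.split 4 (-201) (.lin 6)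
    (.split 3 80 (.split 4 (-174) (.lin 6) (.split 3 73 (.split 4 (-165) (.lin 6) (.split 4 (-21)
    (.split 5 (-140) (.lin 6) (.split 6 55 (.split 4 (-102) (.lin 6) (.split 0 (-120) (.lin 7)
    (.split 2 (-36) (.lin 9) (.split 1 124 (.split 5 (-104) (.lin 0) (.split 3 48 (.split 0 (-93)
    (.lin 1) (.split 4 (-75) (.lin 6) (.wt 5))) (.wt 0))) (.lin 11))))) (.wt 0))) (.wt 0))) (.wt
    0))) (.wt 0)))) (.lin 2))) (.wt 0))))) (.wt 0))) (.lin 12)))) (.wt 0))) (.wt 0))))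

theorem check5_79 :
    check task5 cert5_79
      [(7, ⟨none, some (-29)⟩), (7, ⟨some (34), none⟩), (1, ⟨none, some (-8)⟩), (7, ⟨some (7), none⟩), (7, ⟨none, some (-20)⟩), (5, ⟨none, some (-4)⟩), (8, ⟨some (17), none⟩), (8, ⟨some (-19), some (-10)⟩)] ⟨some (13680), none⟩ = true := by
  decide +kernel

def cert5_80 : Cert :=
  (.lin 12)

theorem check5_80 :
    check task5 cert5_80
      [(7, ⟨some (-20), some (-11)⟩), (7, ⟨some (34), none⟩), (1, ⟨none, some (-8)⟩), (7, ⟨some (7), none⟩), (7, ⟨none, some (-20)⟩), (5, ⟨none, some (-4)⟩), (8, ⟨some (17), none⟩), (8, ⟨none, some (-10)⟩)] ⟨some (13680), none⟩ = true := by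
  decide +kernel

end Cfsg.Agent.EightLocal
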