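import Cfsg.Agent.Lib.EightLocal.Task5

/-!
# Search trees of family 5, part 5
-/

set_option autoImplicit false
set_option maxRecDepth 20000
set_option Elab.async false

namespace Cfsg.Agent.EightLocal

open Cfsg.Agent.SelfNine

def cert5_81_0 : Cert :=
  (.split 7 (-100) (.split 0 (-110) (.splitN 636329 (.split 1 7064 (.split 6 7046 (.split 2
    (-3533) (.div 2) (.split 5 (-3533) (.lin 10) (.splitN 596465 (.split 1 6596 (.split 6 6578
    (.splitN 359918 (.split 1 3968 (.split 6 3950 (.splitN 303272 (.split 1 3356 (.split 6 3338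
    (.split 5 (-49) (.wt 2) (.split 2 (-36) (.lin 10) (.split 6 123 (.wt 2) (.split 1 141 (.lin
    11) (.split 0 (-506) .sq (.split 7 (-515) (.lin 1) (.split 1 565 (.split 6 521 (.split 5
    (-29) (.wt 2) (.split 0 (-119) (.split 2 (-18) (.lin 10) (.split 7 (-109) (.split 6 147 (.wt
    2) (.split 0 (-146) (.split 1 168 (.lin 11) (.split 7 (-136) (.split 5 (-19) (.wt 2) (.split
    0 (-155) (.split 2 (-9) (.lin 10) (.split 7 (-145) (.split 6 494 (.split 0 (-364) (.wt 2)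
    (.split 7 (-353) (.lin 1) (.split 1 376 (.split 6 359 (.splitN 98373 (.wt 1) (.split 7 (-315)
    (.wt 0) (.split 1 331 (.split 6 314 (.split 7 (-282) (.wt 0) (.split 1 304 (.split 6 287
    (.splitN 112957 (.wt 6) (.split 6 165 (.wt 0) (.split 1 186 (.lin 0) (.split 0 (-173) (.split
    7 (-163) (.splitN 120977 .sq (.wt 0)) (.lin 1)) (.lin 3))))) (.lin 0)) (.lin 2))) (.lin 0))
    (.lin 2)))) (.lin 0)) (.lin 2)))) (.lin 3)) (.lin 1))) (.lin 4))) (.lin 2))) (.lin 3))) (.lin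
    2))) (.lin 4))) (.lin 3)) (.lin 2)))))))) (.lin 11)) (.div 1)) (.wt 5)) (.lin 11)) (.div 1))
    (.wt 3)) (.lin 11)) (.div 1)) (.wt 0)))) (.lin 11)) (.div 1)) (.wt 0)) (.lin 12)) (.split 0
    (-102) (.lin 12) (.split 6 132 (.split 1 142 (.split 5 (-64) (.wt 2) (.split 2 (-54) (.lin
    10) (.split 5 (-49) (.wt 6) (.split 2 (-36) (.lin 10) (.split 7 (-69) (.split 0 (-83)
    (.splitN 283893 (.split 5 (-36) (.wt 1) (.split 1 133 (.split 2 (-27) (.lin 10) (.split 6 116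
    (.splitN 263797 (.split 5 (-28) (.wt 1) (.split 1 124 (.split 2 (-18) (.lin 10) (.split 6 107
    (.splitN 177280 (.wt 6) (.split 7 (-85) (.wt 0) (.split 0 (-93) (.lin 12) (.split 6 98 (.wt
    2) (.lin 3))))) (.lin 3))) (.lin 4))) (.wt 5)) (.lin 3))) (.lin 4))) (.wt 5)) (.lin 12))
    (.split 0 (-75) (.lin 12) (.split 6 98 (.split 5 (-29) (.wt 2) (.split 2 (-18) (.lin 10)
    (.split 6 80 (.split 5 (-19) (.wt 2) (.split 0 (-65) (.split 1 88 (.split 2 (-9) (.lin 10)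
    (.split 6 71 (.split 7 (-55) (.splitN 385893 (.wt 1) (.wt 0)) (.lin 1)) (.lin 0))) (.lin 8))
    (.lin 4))) (.lin 3)))) (.lin 3)))))))) (.lin 11)) (.split 2 (-44) (.split 1 150 (.lin 11)
    (.split 5 (-49) (.split 7 (-69) (.split 0 (-83) (.splitN 1112026 (.split 2 (-6161) (.div 2)
    (.split 1 6262 (.split 6 6245 (.splitN 982547 (.split 2 (-5459) (.div 2) (.split 1 5560
    (.split 6 5543 (.splitN 569767 (.split 2 (-3155) (.div 2) (.split 1 3256 (.split 6 3239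
    (.split 6 288 (.wt 2) (.split 2 (-206) (.split 1 312 (.lin 11) (.split 5 (-211) (.splitN
    529948 (.split 2 (-2939) (.div 2) (.split 1 3040 (.split 6 804 (.wt 2) .sq) (.lin 2))) (.wt
    0)) (.lin 4))) (.lin 3))) (.lin 3)) (.lin 2))) (.wt 3)) (.lin 3)) (.lin 2))) (.wt 0)) (.lin
    3)) (.lin 2))) (.wt 0)) (.lin 12)) (.split 2 (-71) (.split 0 (-75) (.lin 12) (.split 5 (-58)
    (.split 5 (-76) (.split 6 1102 (.split 2 (-1053) (.lin 3) (.split 1 1114 (.split 5 (-2021)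
    (.lin 0) (.split 5 (-1076) (.lin 1) (.split 6 963 (.split 2 (-918) (.lin 3) (.split 5 (-941)
    (.lin 1) (.split 7 (-48) (.split 0 (-65) (.split 6 165 (.wt 2) (.split 2 (-107) (.split 5
    (-103) (.split 6 183 (.wt 2) (.split 2 (-125) (.split 1 204 (.lin 11) (.split 5 (-121)
    (.split 6 698 (.split 2 (-639) (.lin 3) (.split 1 709 (.split 5 (-653) (.lin 1) (.split 6 360
    (.split 2 (-306) (.lin 3) (.split 1 376 (.split 5 (-320) (.lin 1) (.split 6 202 (.wt 2)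
    (.split 2 (-143) (.split 1 222 (.lin 11) (.split 5 (-139) (.split 5 (-148) (.split 7 (-60)
    (.split 0 (-74) (.wt 2) (.lin 12)) (.split 0 (-66) (.lin 12) (.split 6 259 (.split 2 (-198)
    (.lin 3) (.split 1 268 (.split 5 (-203) (.lin 1) (.split 6 220 (.wt 2) (.split 2 (-170)
    (.split 1 240 (.lin 11) (.split 5 (-175) (.split 6 238 (.split 2 (-180) (.lin 3) (.split 1
    250 (.split 5 (-185) (.lin 1) (.splitN 19277518 (.wt 1) (.split 6 228 (.wt 0) (.wt 2))))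
    (.lin 11))) (.wt 0)) (.lin 1))) (.lin 3)))) (.lin 11))) (.wt 0)))) (.lin 4)) (.lin 1))) (.lin
    3)))) (.lin 11))) (.split 2 (-305) (.split 1 384 (.lin 11) (.split 5 (-301) (.splitN 660677
    (.wt 3) (.split 0 (-67) (.split 7 (-64) (.split 6 407 (.wt 2) (.split 2 (-350) (.split 1 429
    (.lin 11) (.split 5 (-355) (.split 6 496 (.split 1 511 (.splitN 847479 .cand (.wt 0)) (.lin
    11)) (.wt 2)) (.lin 1))) (.lin 3))) (.lin 12)) (.wt 2))) (.lin 1))) (.lin 3)))) (.lin 11)))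
    (.wt 2)) (.lin 1))) (.lin 3))) (.lin 1)) (.lin 3))) (.lin 12)) (.wt 3)))) (.wt 2)))) (.lin
    11))) (.wt 2)) (.lin 4)) (.lin 1))) (.lin 2))) (.lin 4))) (.lin 3)))))

def cert5_81_1 : Cert :=
  (.split 3 22 (.split 7 (-46) (.split 0 (-56) (.split 3 11 (.wt 2) (.split 1 69 (.lin 2) (.split
    5 (-13) (.split 6 54 (.wt 2) (.split 1 78 (.lin 11) cert5_81_0)) (.lin 10)))) (.lin 12))
    (.split 0 (-48) (.lin 12) (.split 3 11 (.split 5 (-13) (.wt 1) (.split 2 (-27) (.lin 1)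
    (.split 1 70 (.split 1 52 (.split 2 (-9) (.lin 10) (.split 6 44 (.wt 2) (.lin 0))) (.lin 8))
    (.lin 2)))) (.split 1 42 (.lin 2) (.split 5 (-13) (.split 6 79 (.split 2 (-54) (.lin 3)
    (.split 1 88 (.split 5 (-59) (.lin 4) (.split 6 70 (.split 1 79 (.split 7 (-23) (.split 1 51
    (.lin 2) (.split 0 (-38) (.split 5 (-41) (.lin 4) (.split 6 58 (.split 2 (-27) (.lin 3) (.wt
    1)) (.wt 0))) (.lin 12))) (.wt 0)) (.lin 11)) (.wt 0))) (.lin 11))) (.wt 0)) (.lin 10))))))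
    (.split 1 51 (.lin 2) (.split 5 (-22) (.split 7 (-23) (.split 1 60 (.lin 2) (.split 0 (-38)
    (.split 6 34 (.lin 3) (.split 7 (-29) (.split 0 (-47) (.split 6 43 (.lin 3) (.split 7 (-40)
    (.split 1 78 (.lin 2) (.split 0 (-56) (.split 6 52 (.lin 3) (.split 3 221 (.split 3 73
    (.split 6 114 (.split 0 (-111) (.lin 3) (.split 2 (-63) (.lin 9) (.split 1 178 (.split 5
    (-176) (.lin 0) (.split 7 (-101) (.lin 9) (.split 7 (-49) (.split 1 87 (.lin 2) (.split 0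
    (-65) (.split 6 61 (.lin 3) (.split 3 35 (.split 5 (-77) (.lin 6) (.split 6 106 (.split 0
    (-102) (.lin 3) (.split 1 133 (.split 5 (-68) (.lin 4) (.split 7 (-92) (.lin 9) (.split 3 32
    (.split 5 (-59) (.lin 6) (.split 6 92 (.split 1 115 (.split 7 (-83) (.lin 2) (.split 5 (-50)
    (.lin 4) (.split 6 81 (.split 2 (-27) (.lin 9) (.split 1 106 (.split 7 (-74) (.lin 2) (.split
    5 (-41) (.lin 4) (.split 7 (-58) (.split 1 96 (.lin 2) (.split 0 (-74) (.split 6 70 (.lin 3)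
    (.split 5 (-32) (.lin 4) (.wt 2))) (.lin 12))) (.wt 0)))) (.lin 11))) (.wt 2)))) (.lin 11))
    (.wt 2))) (.wt 2)))) (.lin 11))) (.wt 2))) (.wt 2))) (.lin 12))) (.wt 3)))) (.lin 11))))
    (.split 1 141 (.lin 11) (.split 7 (-53) (.split 0 (-65) (.split 3 42 (.split 7 (-118) (.split
    1 150 (.lin 2) (.split 0 (-128) (.split 6 124 (.lin 3) (.splitN 3270131 (.split 1 36332
    (.split 0 (-36309) (.lin 4) (.split 2 (-18167) (.div 2) (.split 5 (-18185) (.lin 10) (.split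
    0 (-1794) .sq (.split 6 19943 (.split 1 19978 (.splitN 2656048 (.split 0 (-1613) .sq (.split
    1 1614 (.split 5 (-1481) (.lin 4) (.splitN 2045454 (.split 1 1413 (.split 5 (-1283) (.lin 4)
    (.split 6 416 (.split 0 (-417) (.lin 3) (.split 1 448 (.split 7 (-416) (.lin 2) (.split 5
    (-320) (.lin 4) (.split 3 33 (.split 5 (-84) (.split 1 213 (.lin 8) (.split 2 (-71) (.split 7
    (-353) (.lin 2) (.split 6 187 (.lin 3) (.split 0 (-177) (.split 6 241 (.lin 3) (.split 1 267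
    (.lin 11) (.split 7 (-172) (.splitN 206108 .sq (.wt 1)) (.lin 12)))) (.wt 2)))) (.lin 10)))
    (.split 6 293 (.split 0 (-291) (.lin 3) (.split 1 313 (.split 7 (-335) (.lin 1) (.split 7
    (-281) (.lin 2) (.split 5 (-26) (.split 1 159 (.lin 4) (.split 2 (-17) (.split 6 133 (.lin 3)
    (.split 0 (-132) (.split 6 142 (.lin 3) (.split 0 (-150) (.split 6 160 (.lin 3) (.split 1 186
    (.lin 11) (.split 0 (-194) (.split 6 205 (.lin 3) (.split 1 231 (.lin 11) (.split 7 (-190)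
    (.splitN 174356 .sq (.wt 1)) (.lin 12)))) (.wt 2)))) (.wt 2))) (.wt 2))) (.lin 10))) (.wt
    2)))) (.lin 11))) (.wt 2))) (.wt 2)))) (.lin 11))) (.split 1 447 (.lin 11) (.splitN 410390
    .sq (.wt 1))))) .sq) (.wt 1))) .sq)) (.wt 1)) (.lin 11)) (.lin 3)))))) (.div 1)) (.wt 1)))
    (.lin 12))) (.split 0 (-120) (.lin 12) (.split 6 3000 (.split 2 (-2943) (.lin 3) (.split 5
    (-3020) (.lin 1) (.split 3 33 (.split 6 2742 (.split 2 (-2682) (.lin 3) (.split 5 (-2750)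
    (.lin 1) (.split 0 (-99) (.split 7 (-91) (.split 1 490 (.split 2 (-369) (.lin 2) (.split 5
    (-401) (.lin 1) (.splitN 298782 (.wt 4) (.split 5 (-27) (.split 2 (-17) (.splitN 363820
    (.split 6 162 (.split 1 187 (.split 5 (-86) (.lin 4) (.wt 2)) (.lin 11)) (.wt 0)) (.wt 6))
    (.lin 10)) (.wt 1))))) (.wt 2)) (.lin 12)) (.wt 2)))) (.wt 0)) (.wt 0)))) (.wt 0)))) (.wt 2))
    (.lin 12)) (.wt 0)))) (.split 1 132 (.lin 2) (.split 6 1799 (.split 0 (-1803) (.lin 3)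
    (.split 1 2014 (.split 5 (-1958) (.lin 4) (.split 7 (-1793) (.lin 9) (.split 6 523 (.split 0
    (-525) (.lin 3) (.split 7 (-515) (.lin 9) (.split 6 190 (.split 0 (-192) (.lin 3) (.split 2
    (-144) (.lin 9) (.split 1 403 (.split 5 (-482) (.lin 0) (.split 7 (-182) (.lin 9) (.wt 2)))
    (.lin 11)))) (.wt 0)))) (.wt 0)))) (.lin 11))) (.wt 0)))) (.wt 2))) (.lin 12))) (.wt 3)))
    (.lin 12)) (.wt 0))) (.lin 12))) (.wt 0)) (.lin 10))))

def cert5_81 : Cert :=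
  (.split 7 (-13) (.split 1 33 (.lin 2) (.split 0 (-20) (.split 6 25 (.lin 9) (.split 4 (-3)
    (.split 0 (-29) cert5_81_1 (.lin 12)) (.wt 3))) (.lin 12))) (.wt 3))

theorem check5_81 :
    check task5 cert5_81
      [(7, ⟨none, some (-11)⟩), (7, ⟨some (25), none⟩), (1, ⟨none, some (-8)⟩), (7, ⟨some (7), none⟩), (7, ⟨some (-11), some (-2)⟩), (5, ⟨none, some (-4)⟩), (8, ⟨some (17), none⟩), (8, ⟨none, some (-10)⟩)] ⟨some (13680), none⟩ = true := by
  decide +kernel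

def cert5_82_0 : Cert :=
  (.split 7 (-69) (.split 2 36 (.lin 9) (.split 0 (-92) (.splitN 763394 (.split 5 (-4235) (.div
    5) (.split 1 4372 (.splitN 552167 (.split 5 (-3065) (.div 5) (.split 1 3202 (.split 3 3166
    (.splitN 333390 (.split 1 548 (.split 3 511 (.split 5 (-150) (.wt 2) (.split 1 286 (.split 3
    250 (.split 4 (-35) (.wt 2) (.split 1 268 (.split 3 232 (.split 5 (-31) (.split 3 132 (.wt 2)
    (.split 5 (-49) (.split 1 168 (.lin 11) (.splitN 186141 (.wt 6) (.split 0 (-109) (.wt 0)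
    (.split 5 (-67) (.split 3 214 (.wt 2) (.lin 7)) (.lin 4))))) (.lin 6))) (.lin 0)) (.lin 6))
    (.lin 0))) (.lin 6)) (.lin 0))) (.lin 11)) .sq) (.wt 3)) (.lin 6)) (.lin 0))) (.wt 1)) (.lin
    0))) (.wt 0)) (.lin 12))) (.split 5 (-40) (.split 2 28 (.split 0 (-111) (.lin 12) (.split 4
    (-34) (.split 0 (-83) (.splitN 713782 (.split 1 7928 (.split 5 (-7844) (.lin 0) (.split 5
    (-3965) (.div 5) (.split 1 4075 (.split 3 4039 (.splitN 438723 (.split 5 (-2435) (.div 5)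
    (.split 1 2545 (.split 3 2509 (.split 3 147 (.wt 2) (.split 1 186 (.lin 11) (.split 5 (-76)
    (.split 3 255 (.wt 2) (.split 1 294 (.lin 11) (.split 5 (-184) (.splitN 199736 .sq (.split 7
    (-55) (.wt 0) (.split 5 (-202) (.split 2 10 (.split 0 (-93) (.lin 12) (.splitN 306500 (.split
    5 (-1697) (.div 5) (.split 1 1789 (.split 3 1753 (.splitN 281100 (.split 3 536 (.wt 2)
    (.split 5 (-481) .sq (.lin 1))) (.wt 3)) (.lin 6)) (.lin 0))) (.wt 0))) (.lin 9)) (.lin 6))))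
    (.lin 0)))) (.lin 0)))) (.lin 6)) (.lin 0))) (.wt 3)) (.lin 6)) (.lin 0)))) (.div 1)) (.wt
    0)) (.lin 3)) (.split 5 (-58) (.split 0 (-93) (.lin 3) (.split 7 (-55) (.split 2 18 (.lin 9)
    (.split 0 (-74) (.splitN 1758003 (.split 5 (-9761) (.div 5) (.split 1 1315 (.split 5 (-1238)
    (.lin 0) (.splitN 1413832 (.split 1 1177 (.split 5 (-1103) (.lin 0) (.split 3 1159 (.split 3
    365 (.split 5 (-329) (.lin 1) (.split 1 403 (.split 4 (-25) (.split 0 (-83) (.splitN 158163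
    (.wt 1) (.split 3 116 (.wt 0) (.split 5 (-67) (.splitN 191903 (.wt 6) (.split 3 185 (.wt 0)
    (.split 5 (-121) (.wt 2) (.lin 1)))) (.lin 6)))) (.lin 3)) (.split 5 (-67) (.split 0 (-84)
    (.lin 3) (.split 3 202 (.split 1 241 (.split 5 (-158) (.lin 6) (.split 7 (-60) (.split 2 27
    (.lin 9) (.split 0 (-83) (.splitN 242570 (.wt 1) (.split 1 157 (.wt 0) (.split 5 (-76)
    (.splitN 254208 (.wt 1) (.split 1 190 (.wt 0) (.split 5 (-112) (.splitN 265980 (.wt 1) (.wt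
    0)) (.lin 0)))) (.lin 0)))) (.lin 12))) (.split 5 (-76) (.split 2 19 (.split 0 (-75) (.lin
    12) (.split 3 158 (.split 5 (-113) (.lin 1) (.split 1 187 (.split 3 118 (.wt 2) (.split 5
    (-85) (.split 1 159 (.lin 2) (.split 3 141 (.split 5 (-95) (.lin 1) (.split 1 169 (.split 3
    126 (.wt 2) (.split 5 (-94) (.split 1 168 (.lin 2) (.splitN 357300 (.wt 0) (.wt 0))) (.lin
    1))) (.lin 2))) (.wt 2))) (.lin 1))) (.lin 2))) (.wt 2))) (.lin 9)) (.lin 6)))) (.lin 2))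
    (.split 5 (-148) (.split 1 231 (.lin 2) (.split 5 (-157) (.splitN 259688 (.wt 3) (.split 7
    (-60) (.split 5 (-311) (.lin 6) (.split 2 27 (.lin 9) (.split 0 (-83) (.split 3 234 (.wt 2)
    (.split 5 (-193) (.split 3 251 (.wt 2) (.split 5 (-211) (.split 1 294 (.lin 2) (.split 3 312
    (.split 1 340 (.splitN 345860 .cand (.wt 0)) (.lin 2)) (.wt 2))) (.lin 1))) (.lin 1))) (.lin
    12)))) (.split 2 19 (.split 0 (-75) (.lin 12) (.splitN 618249 (.wt 0) (.wt 1))) (.lin 9))))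
    (.lin 6))) (.lin 1)))) (.lin 0))) (.lin 2))) (.split 5 (-301) (.split 1 393 (.lin 2) (.splitN
    391013 .sq (.split 4 (-29) (.wt 0) (.split 0 (-84) (.lin 3) (.wt 2))))) (.lin 1))) (.lin 6)))
    .sq) (.wt 1))) .sq)) (.wt 1)) (.lin 12))) (.split 5 (-76) (.split 2 10 (.split 0 (-75) (.lin
    12) (.split 3 350 (.split 5 (-320) (.lin 1) (.split 1 385 (.splitN 823379 (.split 3 279
    (.split 5 (-248) (.lin 1) (.split 1 313 (.split 3 263 (.split 1 295 (.split 4 (-25) (.split 0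
    (-74) (.splitN 229634 (.wt 1) (.split 3 115 (.wt 0) (.split 5 (-85) (.split 3 148 (.wt 2)
    (.split 5 (-112) (.split 1 186 (.lin 2) (.splitN 258440 (.wt 1) (.split 3 165 (.wt 2) (.split
    5 (-130) (.split 1 204 (.lin 2) (.split 3 174 (.wt 2) (.split 3 225 (.split 5 (-185) (.lin 1)
    (.split 1 259 (.splitN 308987 .cand (.wt 1)) (.lin 2))) (.wt 2)))) (.lin 1))))) (.lin 1)))
    (.lin 1)))) (.lin 3)) (.split 0 (-66) (.lin 3) (.wt 0))) (.lin 2)) (.wt 2)) (.lin 2))) (.wt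
    2)) (.wt 1)) (.lin 2))) (.wt 2))) (.lin 9)) (.lin 6)))) (.lin 0)))) (.lin 9)) (.lin 6)))

def cert5_82_1 : Cert :=
  (.split 7 (-100) (.split 2 63 (.lin 9) (.split 0 (-119) (.splitN 206837 (.split 1 2276 (.split
    3 2248 (.split 2 1138 (.splitN 180082 (.split 1 1988 (.split 3 1960 (.splitN 168655 (.split 1
    1844 (.split 3 1816 (.split 5 (-923) (.div 5) (.split 0 (-423) (.wt 2) (.split 2 370 (.split
    1 1339 (.split 3 1312 (.split 0 (-378) (.wt 2) (.split 2 325 (.split 7 (-362) (.lin 9)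
    (.split 3 152 (.wt 2) (.split 1 186 (.lin 11) (.splitN 90386 .sq (.split 4 (-37) (.wt 0)
    (.split 5 (-47) (.wt 2) (.split 1 430 (.split 0 (-146) (.split 3 403 (.split 2 90 (.lin 10)
    (.split 7 (-118) (.splitN 105650 .sq (.split 0 (-251) (.wt 0) (.split 3 259 (.wt 2) (.lin
    7)))) (.lin 6))) (.lin 6)) (.lin 4)) (.lin 0)))))))) (.lin 3))) (.lin 7)) (.lin 4)) (.lin
    3)))) (.lin 11)) (.div 1)) (.wt 5)) (.lin 11)) (.div 1)) (.wt 3)) (.div 2)) (.lin 11)) (.div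
    1)) (.wt 0)) (.lin 12))) (.split 2 64 (.split 4 (-48) (.split 0 (-101) (.splitN 296156
    (.split 1 3284 (.split 4 (-3225) (.lin 0) (.split 5 (-3191) (.lin 0) (.split 3 6478 (.split 3
    3301 (.splitN 258816 (.split 1 2852 (.split 3 2869 (.splitN 233430 (.split 1 2564 (.split 3
    2581 (.split 5 (-1283) (.div 5) (.split 0 (-287) (.wt 2) (.split 3 1582 (.split 1 1663
    (.split 0 (-263) (.wt 2) (.split 4 (-219) (.lin 3) (.split 3 147 (.wt 2) (.split 1 177 (.lin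
    11) (.split 5 (-50) (.wt 2) (.split 1 367 (.split 0 (-128) (.split 1 304 (.split 3 277
    (.splitN 125220 (.wt 6) (.split 4 (-85) (.wt 0) (.split 1 232 (.split 3 196 (.split 2 18
    (.lin 10) (.wt 2)) (.lin 6)) (.lin 0)))) (.lin 7)) (.lin 4)) (.lin 4)) (.lin 0))))))) (.lin
    2)) (.lin 1)))) (.lin 2)) (.div 1)) (.wt 5)) (.lin 2)) (.div 1)) (.wt 3)) (.lin 2)) (.lin
    6)))) (.div 1)) (.wt 0)) (.lin 12)) (.split 0 (-138) (.lin 12) (.split 3 112 (.split 5 (-122)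
    (.lin 1) (.split 1 187 (.split 1 142 (.split 5 (-77) (.lin 4) (.split 6 27 (.wt 2) (.split 7
    (-69) (.split 2 36 (.lin 9) (.split 0 (-92) (.splitN 140946 (.wt 6) (.split 0 (-99) (.wt 0)
    (.split 2 37 (.split 4 (-21) (.lin 3) (.split 1 129 (.wt 0) (.split 5 (-40) (.wt 0) (.lin
    0)))) (.lin 3)))) (.lin 12))) (.split 2 28 (.split 4 (-34) (.split 0 (-83) (.splitN 137102
    (.wt 6) (.split 3 82 (.wt 0) (.split 4 (-45) (.wt 0) (.split 7 (-49) (.wt 0) (.split 5 (-40)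
    (.split 2 10 (.wt 0) (.lin 9)) (.lin 6)))))) (.lin 3)) (.split 3 79 (.split 1 115 (.split 5
    (-50) (.lin 0) (.split 7 (-55) (.split 2 18 (.lin 9) (.split 0 (-74) (.split 3 65 (.wt 2)
    (.split 1 105 (.lin 11) (.split 4 (-24) (.wt 2) (.splitN 147838 (.wt 1) (.split 5 (-29) (.wt
    2) (.split 0 (-83) (.split 3 70 (.split 2 27 (.lin 10) (.split 7 (-64) (.wt 0) (.lin 1)))
    (.lin 6)) (.lin 4))))))) (.lin 12))) (.split 2 10 (.split 0 (-75) (.lin 12) (.splitN 145827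
    (.wt 1) (.split 4 (-25) (.split 0 (-74) (.split 3 69 (.wt 0) (.split 5 (-31) (.splitN 151107
    (.wt 1) (.wt 0)) (.lin 1))) (.lin 3)) (.split 0 (-66) (.lin 3) (.splitN 207648 (.wt 3)
    (.split 3 76 (.split 5 (-41) (.lin 1) (.split 1 106 (.splitN 312863 .cand (.wt 3)) (.lin 2)))
    (.wt 2))))))) (.lin 9)))) (.lin 11)) (.split 1 105 (.lin 2) (.split 1 123 (.lin 11) (.split 5
    (-31) (.split 7 (-55) (.split 2 18 (.lin 9) (.split 0 (-74) (.split 4 (-25) (.wt 2) (.split 5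
    (-40) (.split 0 (-82) (.wt 2) (.split 2 19 (.split 5 (-49) (.split 7 (-56) (.lin 9) (.splitN
    284591 (.splitN 273014 (.wt 1) (.split 1 132 (.wt 0) (.split 5 (-58) (.wt 1) (.lin 0)))) (.wt
    0))) (.lin 0)) (.lin 3))) (.lin 0))) (.lin 12))) (.split 5 (-49) (.split 2 10 (.split 0 (-75)
    (.lin 12) (.splitN 455321 (.splitN 212168 (.wt 1) (.split 4 (-25) (.split 0 (-74) (.wt 0)
    (.lin 3)) (.split 0 (-66) (.lin 3) (.wt 0)))) (.wt 1))) (.lin 9)) (.lin 6))) (.lin 0))))))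
    (.lin 9))))) (.lin 11)) (.lin 2))) (.split 1 141 (.lin 11) (.split 6 30 (.split 2 18 (.lin 9)
    (.split 0 (-99) (.wt 2) (.split 5 (-49) (.wt 2) (.lin 4)))) (.split 2 55 (.split 1 150 (.lin
    11) cert5_82_0) (.lin 9))))))) (.lin 9)))

def cert5_82_2 : Cert :=
  (.split 6 26 (.split 3 42 (.lin 6) (.split 2 18 (.lin 9) (.split 5 (-8) (.split 0 (-378) (.wt
    2) (.split 2 334 (.split 3 673 (.split 1 700 (.split 1 385 (.split 3 367 (.split 0 (-162)
    (.wt 2) (.split 2 118 (.split 1 169 (.split 3 151 (.splitN 109342 (.wt 6) (.split 4 (-56)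
    (.wt 0) (.split 6 17 (.wt 0) (.split 3 142 (.splitN 116565 (.wt 6) (.split 7 (-81) (.wt 0)
    (.split 3 106 (.split 1 133 (.split 2 46 (.splitN 205974 (.wt 6) (.split 0 (-98) (.wt 0)
    (.split 3 79 (.wt 2) (.lin 7)))) (.lin 9)) (.lin 8)) (.lin 6)))) (.lin 7))))) (.lin 7)) (.lin
    4)) (.lin 3))) (.lin 7)) (.lin 4)) (.lin 11)) (.lin 1)) (.lin 3))) (.splitN 147387 (.split 0
    (-4071) (.div 0) (.split 1 4075 (.split 0 (-370) .sq (.split 2 325 (.split 4 (-327) (.lin 3)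
    (.split 1 367 (.split 3 349 (.split 7 (-353) (.lin 6) (.split 6 21 (.split 2 27 (.lin 9)
    (.split 3 53 (.wt 2) (.split 0 (-74) (.splitN 122641 (.split 0 (-328) .sq (.split 1 331
    (.split 3 313 (.split 4 (-117) (.wt 2) (.split 7 (-119) (.split 3 132 (.lin 6) (.split 0
    (-146) (.split 1 150 (.lin 8) (.split 2 108 (.lin 9) (.splitN 90521 .sq (.wt 0)))) (.lin 7)))
    (.split 3 214 (.split 1 232 (.split 2 100 (.split 3 61 (.wt 2) (.split 0 (-83) (.split 4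
    (-53) (.wt 2) (.split 1 169 (.split 3 151 (.split 3 70 (.wt 2) (.split 0 (-92) (.split 4
    (-33) (.wt 2) (.split 3 133 (.split 2 45 (.lin 10) (.split 7 (-64) (.splitN 68647 (.wt 6)
    (.split 3 83 (.wt 0) (.split 7 (-73) (.split 0 (-101) (.wt 0) (.lin 7)) (.lin 6)))) (.lin
    6))) (.lin 6))) (.lin 7))) (.lin 6)) (.lin 0))) (.lin 7))) (.lin 9)) (.lin 8)) (.lin 6))))
    (.lin 7)) (.lin 4))) (.wt 1)) (.lin 7)))) (.split 3 113 (.split 4 (-84) (.lin 6) (.split 0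
    (-129) (.lin 7) (.split 7 (-110) (.lin 6) (.splitN 44385 (.split 3 71 (.split 4 (-48) (.lin
    6) (.split 7 (-74) (.lin 6) (.wt 0))) (.wt 0)) (.wt 6))))) (.wt 2)))) (.lin 7)) (.lin 4)))
    (.lin 3))) (.lin 4))) (.wt 1))))) (.splitN 660194 (.split 1 7316 (.split 0 (-7311) (.lin 4)
    (.split 0 (-806) .sq (.split 2 748 (.split 3 1519 (.split 1 1555 (.split 4 (-1506) (.lin 0)
    (.split 4 (-759) (.lin 3) (.split 1 817 (.splitN 558868 (.split 0 (-741) .sq (.split 1 754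
    (.split 3 718 (.split 7 (-731) (.lin 6) (.split 5 (-8) (.split 1 78 (.lin 0) (.split 3 42
    (.lin 6) (.splitN 401394 (.splitN 43699 (.wt 1) (.split 0 (-623) .sq (.split 1 628 (.split 3
    592 (.split 7 (-166) (.split 3 168 (.lin 6) (.split 0 (-191) (.split 1 204 (.lin 8) (.split 2
    135 (.lin 9) (.splitN 156941 .sq (.wt 0)))) (.lin 7))) (.split 2 127 (.splitN 372193 (.split
    1 599 (.split 7 (-87) (.split 3 87 (.lin 6) (.splitN 114191 .cand (.wt 1))) (.split 2 46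
    (.split 4 (-104) (.split 1 168 (.lin 0) (.split 0 (-155) (.split 3 132 (.lin 6) (.splitN
    85985 .sq (.split 7 (-62) (.wt 0) (.split 2 19 (.splitN 110675 (.split 0 (-214) .sq (.split 3
    196 (.split 1 241 (.split 1 223 (.split 7 (-52) (.wt 0) (.split 2 10 (.splitN 97292 (.split 3
    146 (.wt 2) (.split 1 186 (.lin 2) (.split 4 (-128) .sq (.lin 0)))) (.wt 0)) (.lin 9))) (.lin
    4)) (.lin 2)) (.lin 1))) (.wt 1)) (.lin 9))))) (.lin 3))) (.split 1 196 (.split 0 (-183)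
    (.lin 3) (.split 4 (-45) (.split 3 69 (.lin 6) (.splitN 137935 .cand (.wt 1))) (.split 1 133
    (.split 0 (-120) (.lin 3) (.splitN 234641 .cand (.wt 1))) (.lin 0)))) (.lin 0))) (.lin 9)))
    .sq) (.wt 1)) (.lin 9))) (.lin 7)) (.lin 4)))) (.wt 1)))) (.splitN 58564 (.split 2 310
    (.split 7 (-344) (.lin 9) (.splitN 41064 (.split 1 440 (.split 0 (-435) (.lin 4) (.split 2
    220 (.split 7 (-254) (.lin 9) (.splitN 38509 (.split 1 404 (.split 4 (-354) (.lin 0) (.split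
    0 (-399) (.lin 4) (.split 2 202 (.split 7 (-236) (.lin 9) (.split 3 69 (.split 1 97 (.split 4
    (-48) (.lin 0) (.split 7 (-74) (.lin 6) (.wt 0))) (.lin 11)) (.wt 0))) (.div 2)))) (.div 1))
    (.wt 6))) (.div 2))) (.div 1)) (.wt 6))) (.div 2)) (.wt 1)))) (.lin 7)) (.lin 4))) (.wt 1))
    (.lin 4)))) (.lin 11)) (.lin 1)) (.lin 3)))) (.div 1)) (.wt 1)))

def cert5_82_3 : Cert :=
  (.split 6 21 (.split 7 (-20) (.lin 9) (.split 3 67 (.wt 2) (.split 1 87 (.lin 2) (.split 4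
    (-37) (.split 0 (-56) (.wt 2) (.lin 3)) (.split 5 (-40) (.split 0 (-48) (.lin 3) (.split 3
    102 (.wt 2) (.split 5 (-76) (.split 1 123 (.lin 2) (.split 3 145 (.wt 2) (.split 5 (-121)
    (.split 3 175 (.wt 2) (.split 5 (-148) (.split 1 195 (.lin 2) (.splitN 959431 (.wt 1) (.split
    4 (-21) (.split 0 (-47) (.wt 0) (.lin 3)) (.wt 1)))) (.lin 1))) (.lin 1)))) (.lin 1)))) (.lin
    0)))))) (.split 1 69 (.lin 0) (.split 0 (-47) (.split 7 (-28) (.splitN 127917 (.split 1 1412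
    (.split 4 (-1362) (.lin 0) (.split 5 (-1364) (.lin 0) (.split 3 2725 (.split 5 (-707) (.div
    5) (.split 0 (-344) .sq (.split 4 (-309) (.lin 3) (.splitN 119848 (.split 1 333 (.split 5
    (-284) (.lin 0) (.split 3 304 (.split 4 (-75) (.split 1 132 (.lin 0) (.split 0 (-110) (.split
    3 105 (.lin 6) (.splitN 49859 .sq (.splitN 58821 (.split 5 (-41) (.wt 1) (.split 0 (-215)
    (.wt 2) (.split 3 223 (.split 1 250 (.split 4 (-201) (.lin 0) (.split 5 (-36) (.wt 1) (.split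
    0 (-163) (.wt 2) (.split 3 160 (.split 1 187 (.splitN 55106 (.split 0 (-147) (.wt 0) (.split
    4 (-120) (.lin 3) (.wt 1))) (.wt 0)) (.lin 2)) (.lin 1))))) (.lin 2)) (.lin 1)))) (.wt 5))))
    (.lin 3))) (.split 0 (-102) (.lin 3) (.split 3 110 (.split 5 (-86) (.lin 1) (.split 1 133
    (.split 4 (-39) (.split 1 96 (.lin 0) (.split 0 (-74) (.splitN 52760 (.wt 1) (.split 3 72
    (.wt 2) (.split 1 105 (.lin 2) (.split 5 (-36) (.wt 2) (.split 4 (-73) (.wt 3) (.split 1 124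
    (.split 3 97 (.split 4 (-64) (.wt 5) (.split 1 115 (.split 3 88 (.splitN 58957 (.split 5
    (-25) (.wt 1) (.split 3 79 (.split 4 (-56) (.wt 0) (.lin 0)) (.lin 6))) (.wt 0)) (.lin 6))
    (.lin 0))) (.lin 6)) (.lin 0))))))) (.lin 3))) (.split 0 (-66) (.lin 3) (.split 3 74 (.split
    5 (-50) (.lin 1) (.split 1 97 (.split 4 (-29) (.split 1 78 (.lin 0) (.split 0 (-56) (.split 3
    51 (.lin 6) (.split 5 (-41) (.lin 0) (.splitN 68401 (.split 5 (-31) (.split 1 87 (.lin 0)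
    (.split 3 60 (.lin 6) (.splitN 59887 (.wt 1) (.split 4 (-38) (.wt 3) (.split 0 (-57) (.lin 3)
    (.wt 0)))))) (.split 3 61 (.splitN 61261 (.splitN 56359 (.wt 1) (.split 4 (-37) (.wt 1)
    (.split 0 (-57) (.lin 3) (.wt 0)))) (.wt 1)) (.lin 6))) (.wt 3)))) (.lin 3))) (.split 0 (-48)
    (.lin 3) (.splitN 77764 (.split 1 77 (.split 5 (-23) (.lin 0) (.wt 0)) (.wt 0)) (.wt 1))))
    (.lin 2))) (.split 5 (-40) (.split 1 105 (.lin 2) (.splitN 80842 (.split 4 (-23) (.splitN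
    72144 (.split 4 (-34) (.split 0 (-65) (.splitN 68532 (.split 5 (-67) (.wt 1) (.split 3 97
    (.split 3 81 (.wt 2) (.split 5 (-49) (.split 3 90 (.wt 2) (.split 5 (-58) (.split 1 123 (.lin
    2) (.wt 1)) (.lin 1))) (.lin 1))) (.lin 6))) (.wt 0)) (.lin 3)) (.split 0 (-57) (.lin 3) (.wt
    0))) (.wt 1)) (.wt 0)) (.wt 1))) (.lin 1))))) (.lin 2))) (.split 5 (-40) (.split 1 141 (.lin
    2) (.splitN 89959 (.split 1 263 (.split 5 (-212) (.lin 0) (.split 3 232 (.split 0 (-48)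
    (.split 4 (-29) (.splitN 79186 (.splitN 55849 (.wt 1) (.split 1 241 (.split 5 (-185) (.lin 0)
    (.split 3 214 (.split 4 (-52) (.split 0 (-83) (.splitN 65365 (.split 5 (-86) (.wt 1) (.split
    1 187 (.split 3 160 (.splitN 61717 (.split 0 (-99) (.wt 0) (.split 5 (-49) (.split 4 (-66)
    (.lin 3) (.wt 1)) (.lin 1))) (.wt 0)) (.lin 6)) (.lin 0))) (.wt 0)) (.lin 3)) (.split 5 (-67)
    (.split 0 (-75) (.lin 3) (.split 4 (-38) (.split 0 (-65) (.splitN 72288 (.split 3 155 (.split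
    5 (-113) (.lin 1) (.split 1 178 (.split 4 (-43) (.split 0 (-74) (.splitN 65297 (.wt 1) (.wt
    0)) (.lin 3)) (.split 0 (-66) (.lin 3) (.splitN 68095 (.wt 0) (.split 3 150 (.split 5 (-104)
    (.lin 1) (.wt 1)) (.wt 0))))) (.lin 2))) (.split 5 (-112) (.split 1 186 (.lin 2) .sq) (.lin
    1))) (.wt 1)) (.lin 3)) (.split 0 (-57) (.lin 3) (.wt 0)))) (.lin 0))) (.lin 2))) .sq)) (.wt
    1)) (.lin 3)) (.wt 2)) (.lin 2))) .sq) (.wt 1))) (.lin 1))))) (.lin 2))) .sq) (.wt 1)))))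
    (.lin 6)))) (.div 1)) (.wt 1)) (.lin 9)) (.lin 3))))

def cert5_82_4 : Cert :=
  (.split 5 (-8) (.split 1 51 (.lin 0) (.split 3 33 (.lin 10) (.split 2 4 (.split 7 (-29) (.lin
    9) (.split 6 21 (.split 7 (-20) (.lin 9) (.split 0 (-240) (.wt 2) (.split 3 232 (.split 1 250
    (.split 0 (-103) (.wt 2) (.split 3 97 (.split 1 115 (.split 4 (-84) (.lin 0) (.splitN 107322
    (.wt 1) (.split 4 (-69) (.wt 0) (.split 1 97 (.split 3 79 (.splitN 114095 (.wt 1) (.split 4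
    (-46) (.wt 0) (.split 3 52 (.wt 2) (.lin 6)))) (.lin 6)) (.lin 0))))) (.lin 2)) (.lin 1)))
    (.lin 2)) (.lin 1)))) (.split 1 60 (.lin 0) (.split 7 (-28) (.splitN 71890 (.split 0 (-249)
    .sq (.split 3 232 (.split 1 259 (.split 4 (-219) (.lin 0) (.split 3 88 (.split 0 (-102) (.lin
    1) (.split 1 115 (.split 4 (-75) (.lin 0) (.split 3 81 (.split 0 (-93) (.lin 1) (.split 1 106
    (.split 4 (-66) (.lin 0) (.split 3 72 (.split 0 (-84) (.lin 1) (.split 1 97 (.split 4 (-57)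
    (.lin 0) (.split 3 63 (.split 0 (-75) (.lin 1) (.split 1 88 (.split 4 (-48) (.lin 0) (.split
    3 54 (.split 1 79 (.split 4 (-39) (.lin 0) (.split 3 45 (.split 0 (-57) (.lin 1) (.split 1 70
    (.split 4 (-30) (.lin 0) (.splitN 58349 (.split 3 41 (.split 1 61 (.split 4 (-21) (.lin 0)
    (.wt 0)) (.lin 2)) (.wt 0)) (.wt 1))) (.lin 2))) (.wt 2))) (.lin 2)) (.wt 2))) (.lin 2)))
    (.wt 2))) (.lin 2))) (.wt 2))) (.lin 2))) (.wt 2))) (.lin 2))) (.split 0 (-110) (.split 1 123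
    (.lin 2) (.split 4 (-83) (.splitN 49620 (.split 0 (-123) (.split 3 114 (.lin 1) (.split 1 141
    (.lin 2) (.split 4 (-101) .sq (.lin 0)))) (.wt 2)) (.wt 1)) (.lin 0))) (.lin 1)))) (.lin 2))
    (.lin 1))) (.wt 1)) (.lin 9))))) (.split 0 (-47) (.split 7 (-28) (.split 6 17 (.wt 2) (.split
    2 10 (.split 7 (-37) (.split 3 50 (.wt 2) (.split 0 (-65) (.split 1 78 (.lin 2) (.split 4
    (-29) (.split 0 (-282) (.wt 2) (.split 3 268 (.split 1 295 (.split 4 (-246) (.lin 0) (.splitN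
    131728 (.wt 1) (.split 4 (-155) (.wt 0) (.split 1 196 (.split 3 169 (.splitN 140719 (.wt 1)
    (.split 4 (-74) (.wt 0) (.split 3 88 (.wt 2) (.lin 6)))) (.lin 6)) (.lin 0))))) (.lin 2))
    (.lin 1))) (.lin 0))) (.lin 1))) (.lin 9)) (.lin 9))) (.lin 9)) (.lin 3))))) (.split 2 4
    (.split 7 (-29) (.lin 9) (.splitN 74827 (.split 1 800 (.split 4 (-777) (.lin 0) (.split 0
    (-804) (.lin 3) (.split 3 232 (.split 0 (-255) (.lin 1) (.split 1 259 (.split 4 (-237) (.lin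
    0) (.split 3 126 (.split 0 (-147) (.lin 1) (.split 1 151 (.split 4 (-129) (.lin 0) (.split 3
    82 (.split 0 (-102) (.lin 1) (.split 1 106 (.split 4 (-84) (.lin 0) (.split 3 59 (.split 0
    (-75) (.lin 1) (.split 4 (-48) (.lin 10) (.split 3 43 (.split 4 (-39) (.lin 10) (.split 3 37
    (.split 0 (-57) (.lin 1) (.split 4 (-30) (.lin 10) (.split 3 31 (.split 0 (-48) (.lin 1)
    (.split 4 (-21) (.lin 10) (.splitN 39615 (.wt 3) (.wt 6)))) (.wt 2)))) (.wt 2))) (.wt 2))))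
    (.wt 2))) (.lin 2))) (.wt 2))) (.lin 2))) (.wt 2))) (.lin 2))) (.wt 2)))) (.div 1)) (.wt 1)))
    (.split 0 (-47) (.split 7 (-28) (.split 3 33 (.lin 10) (.splitN 905226 (.split 0 (-949) .sq
    (.split 3 943 (.split 1 970 (.split 4 (-939) (.lin 0) (.splitN 762212 (.split 0 (-870) .sq
    (.split 3 862 (.split 6 21 (.split 3 171 (.split 1 196 (.split 3 75 (.split 1 97 (.split 1 88
    (.split 4 (-57) (.lin 0) (.split 4 (-38) (.split 0 (-65) (.split 3 53 (.wt 2) (.split 0 (-74)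
    (.split 1 78 (.lin 11) (.splitN 90938 (.wt 6) (.split 7 (-34) (.wt 0) (.split 4 (-47) (.split
    2 10 (.splitN 108029 (.wt 1) (.split 0 (-81) (.wt 0) (.split 3 61 (.wt 0) (.lin 1)))) (.lin
    9)) (.lin 6))))) (.lin 7))) (.lin 3)) (.split 1 70 (.split 3 52 (.split 7 (-33) (.split 3 42
    (.lin 6) (.split 0 (-56) (.split 1 60 (.lin 8) (.split 2 18 (.lin 9) (.splitN 92252 (.wt 1)
    (.split 4 (-25) (.wt 0) (.split 1 61 (.split 0 (-57) (.lin 3) (.split 3 43 (.splitN 95169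
    (.wt 0) (.wt 0)) (.lin 6))) (.lin 0)))))) (.lin 7))) (.split 3 43 (.split 0 (-57) (.lin 7)
    (.split 1 61 (.split 2 10 (.splitN 179760 .cand (.wt 1)) (.lin 9)) (.lin 8))) (.lin 6)))
    (.lin 6)) (.lin 0)))) (.lin 11)) (.lin 2)) (.split 0 (-83) (.split 0 (-92) (.split 1 96 (.lin
    11) (.split 4 (-56) (.split 7 (-33) (.split 2 18 (.lin 9) (.splitN 77703 (.wt 6) (.split 0
    (-124) (.wt 0) (.split 3 106 (.split 1 124 (.wt 0) (.lin 2)) (.lin 1))))) (.split 4 (-65)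
    (.split 2 10 (.split 3 80 (.wt 2) (.split 0 (-101) (.split 3 92 (.wt 2) (.split 0 (-110)
    (.split 1 114 (.lin 2) (.split 4 (-83) (.split 0 (-179) (.wt 2) (.split 3 160 (.split 1 178
    (.split 0 (-164) (.wt 2) (.split 3 142 (.split 1 160 (.split 4 (-129) (.lin 0) (.splitN 98971
    (.wt 1) (.split 0 (-141) (.wt 2) (.split 3 124 (.split 1 142 (.split 4 (-111) (.lin 0)
    (.split 3 98 (.wt 0) (.split 0 (-119) (.split 1 123 (.lin 2) (.split 4 (-92) (.splitN 103361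
    (.wt 1) (.wt 0)) (.lin 0))) (.lin 1)))) (.lin 2)) (.lin 1))))) (.lin 2)) (.lin 1))) (.lin 2))
    (.lin 1))) (.lin 0))) (.lin 1))) (.lin 1))) (.lin 9)) (.lin 6))) (.lin 0))) (.lin 7)) (.lin
    1))) (.lin 2)) (.split 0 (-182) (.split 1 186 (.lin 2) (.split 4 (-155) (.splitN 124991 .sq
    (.split 0 (-301) (.wt 0) (.split 3 295 (.wt 0) (.lin 1)))) (.lin 6))) (.lin 1))) (.split 1 60
    (.lin 0) (.split 2 10 (.split 7 (-37) (.splitN 74692 (.split 3 118 (.split 0 (-138) (.lin 1)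
    (.split 1 142 (.split 4 (-102) (.lin 0) (.wt 2)) (.lin 2))) (.wt 0)) (.wt 1)) (.lin 9)) (.lin
    9)))) (.lin 1))) (.wt 1))) (.lin 2)) (.lin 1))) (.wt 1))) (.lin 9)) (.lin 3))))

def cert5_82_5 : Cert :=
  (.split 7 (-92) (.lin 9) (.splitN 47439 (.wt 1) (.split 4 (-110) (.split 1 186 (.lin 0) (.split
    0 (-164) (.split 3 105 (.lin 6) (.split 3 141 (.lin 10) (.splitN 99674 .sq (.split 5 (-29)
    (.split 7 (-90) (.wt 0) (.split 6 71 (.split 7 (-82) (.wt 0) (.split 6 62 (.split 7 (-62)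
    (.wt 3) (.split 6 44 (.wt 5) (.lin 9))) (.lin 9))) (.lin 9))) (.wt 1))))) (.lin 3))) (.split
    0 (-192) (.lin 3) (.splitN 393132 (.split 1 615 (.split 5 (-536) (.lin 0) (.split 4 (-45)
    (.split 1 123 (.lin 0) (.split 0 (-101) (.split 3 78 (.lin 10) (.splitN 171211 (.splitN 55161
    (.wt 3) (.split 1 380 (.split 5 (-275) (.lin 0) (.split 3 331 (.split 6 62 (.split 7 (-74)
    (.lin 9) (.split 6 53 (.split 0 (-165) (.lin 3) (.split 7 (-65) (.lin 9) (.splitN 151627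
    (.split 1 354 (.split 5 (-74) (.split 3 132 (.lin 10) (.split 1 329 (.split 3 277 (.split 6
    48 (.split 7 (-56) (.lin 9) .cand) (.split 0 (-110) (.split 7 (-64) (.splitN 138328 .cand
    (.wt 0)) (.lin 9)) (.lin 3))) (.lin 2)) .sq)) (.split 1 232 (.splitN 136726 (.split 6 48
    (.split 7 (-56) (.lin 9) .cand) (.split 7 (-64) .cand (.lin 9))) (.wt 1)) (.lin 0))) .sq)
    (.wt 3)))) (.split 7 (-73) .cand (.lin 9)))) (.split 1 150 (.lin 0) (.split 0 (-128) (.split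
    3 191 (.split 5 (-140) (.lin 1) (.split 3 164 (.split 5 (-113) (.lin 1) (.split 3 152 (.split
    5 (-95) (.lin 10) (.split 3 147 (.split 5 (-86) (.lin 10) (.split 3 141 (.split 5 (-77) (.lin
    10) (.split 5 (-28) (.split 3 87 (.lin 10) (.split 4 (-93) (.lin 10) (.split 3 127 (.split 0
    (-174) (.lin 1) (.split 4 (-84) (.lin 10) (.split 5 (-68) (.lin 10) (.split 3 109 (.split 4
    (-66) (.lin 10) (.split 5 (-50) (.lin 10) (.wt 2))) (.wt 2))))) (.wt 2)))) (.wt 2))) (.wt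
    2))) (.wt 2))) (.wt 2))) (.wt 2))) (.wt 2)) (.lin 3)))) (.lin 2))) .sq)) (.wt 1))) (.lin 3)))
    (.split 0 (-129) (.lin 3) (.splitN 349819 (.split 1 577 (.split 5 (-500) (.lin 0) (.split 6
    62 (.split 0 (-111) (.lin 3) (.split 7 (-74) (.lin 9) (.split 3 165 (.split 5 (-149) (.lin 1)
    (.split 1 223 (.split 5 (-131) (.lin 10) (.split 3 91 (.split 5 (-77) (.lin 1) (.split 1 151
    (.split 5 (-59) (.lin 10) (.splitN 208569 (.split 6 53 (.split 0 (-102) (.lin 3) (.split 7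
    (-65) (.lin 9) (.split 4 (-29) (.split 1 105 (.lin 0) (.split 0 (-83) (.split 3 60 (.lin 10)
    (.split 5 (-50) (.lin 10) (.splitN 145323 (.split 5 (-36) (.split 1 123 (.lin 0) (.split 3 78
    (.lin 10) (.split 6 51 (.split 7 (-56) (.lin 9) (.splitN 112514 (.wt 1) .cand)) (.wt 2))))
    (.split 6 48 (.split 7 (-56) (.lin 9) .cand) (.split 1 114 (.lin 0) (.split 7 (-64) (.splitN
    90945 (.split 0 (-99) (.split 3 69 (.lin 1) (.split 1 123 (.lin 2) (.wt 0))) (.wt 0)) (.wt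
    6)) (.lin 9))))) (.wt 1)))) (.lin 3))) (.split 0 (-84) (.lin 3) (.split 3 65 (.split 5 (-32)
    (.lin 10) (.splitN 136121 (.split 3 56 (.split 5 (-23) (.lin 10) (.wt 2)) (.wt 0)) (.wt 6)))
    (.wt 2)))))) (.split 1 114 (.lin 0) (.split 7 (-73) (.splitN 109905 (.split 4 (-23) (.split 1
    123 (.lin 0) (.split 3 60 (.lin 6) (.split 5 (-50) (.lin 0) (.splitN 90423 (.split 3 68
    (.split 1 124 (.split 4 (-30) (.lin 0) (.split 5 (-23) (.lin 0) (.wt 0))) (.lin 2)) (.wt 0))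
    (.wt 1))))) (.wt 0)) (.wt 1)) (.lin 9)))) (.wt 1))) (.lin 2))) (.split 1 141 (.lin 2)
    (.splitN 210644 (.split 6 55 (.split 0 (-102) (.lin 3) (.split 7 (-65) (.lin 9) (.split 6 51
    (.split 7 (-56) (.lin 9) .cand) (.wt 2)))) (.wt 2)) (.wt 1))))) (.lin 2))) (.split 1 213
    (.lin 2) (.split 6 49 (.split 0 (-93) (.lin 3) (.split 7 (-56) (.lin 9) (.wt 2))) (.wt
    2)))))) (.split 0 (-101) (.split 7 (-82) (.split 3 82 (.split 5 (-59) (.lin 1) (.split 1 160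
    (.split 5 (-50) (.lin 10) (.splitN 94444 (.split 4 (-24) (.split 3 60 (.lin 10) (.split 5
    (-41) (.lin 10) (.wt 2))) (.wt 0)) (.wt 1))) (.lin 2))) (.wt 2)) (.lin 9)) (.lin 3)))) .sq)
    (.wt 1))))) .sq) (.wt 1))))))

def cert5_82_6 : Cert :=
  (.split 4 (-34) (.split 1 123 (.lin 0) (.split 0 (-101) (.split 3 78 (.lin 10) (.split 5 (-131)
    (.lin 10) (.split 6 53 (.split 7 (-91) (.split 2 36 (.lin 9) (.split 0 (-128) (.splitN 116038
    (.split 5 (-50) (.split 6 48 (.wt 2) .cand) (.split 1 223 (.split 3 169 (.split 5 (-36)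
    (.split 6 46 (.wt 2) .cand) (.split 1 205 (.split 3 151 (.split 6 48 (.split 2 45 (.lin 9)
    (.split 0 (-150) (.wt 2) (.split 3 133 (.splitN 83704 (.wt 6) (.split 0 (-131) (.wt 0)
    (.split 2 46 (.split 3 115 (.wt 0) (.lin 1)) (.lin 3)))) (.lin 7)))) .cand) (.lin 6)) (.lin
    0))) (.lin 6)) (.lin 0))) (.wt 0)) (.lin 12))) (.split 2 37 (.split 5 (-54) (.split 3 114
    (.lin 10) (.split 6 48 (.split 1 232 (.split 0 (-118) (.wt 2) (.split 2 28 (.split 3 147 (.wt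
    2) (.split 5 (-85) (.splitN 124975 (.wt 6) (.split 0 (-109) (.wt 0) (.split 2 19 (.split 5
    (-94) (.wt 0) (.lin 1)) (.lin 3)))) (.lin 7))) (.lin 3))) (.lin 11)) (.split 2 28 (.split 7
    (-73) (.splitN 114273 .cand (.wt 1)) (.lin 9)) (.lin 9)))) (.split 1 187 (.split 3 133
    (.split 5 (-36) (.split 6 48 (.splitN 101463 (.wt 6) (.split 7 (-73) (.wt 0) (.split 3 115
    (.wt 2) (.lin 6)))) (.split 0 (-110) (.split 3 124 (.split 2 28 (.split 7 (-73) (.splitN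
    119248 .cand (.wt 0)) (.lin 9)) (.lin 9)) (.lin 6)) (.lin 3))) (.split 3 115 (.split 1 160
    (.splitN 120822 (.split 6 48 (.split 7 (-73) (.split 2 27 (.lin 9) (.split 0 (-110) (.split 3
    93 (.wt 2) (.split 1 141 (.lin 11) (.splitN 81724 (.wt 1) (.split 5 (-27) (.wt 2) (.split 0
    (-119) (.split 3 106 (.split 4 (-47) (.wt 0) (.split 3 97 (.split 2 36 (.lin 10) (.split 7
    (-82) (.wt 0) (.lin 1))) (.lin 6))) (.lin 6)) (.lin 4)))))) (.lin 12))) (.split 3 97 (.split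
    1 142 (.split 2 19 (.split 0 (-111) (.lin 12) (.splitN 90102 (.wt 1) (.split 5 (-28) (.wt 2)
    (.split 3 88 (.split 4 (-45) (.wt 0) (.split 1 124 (.split 3 79 (.splitN 94646 (.wt 0) (.wt
    0)) (.lin 6)) (.lin 0))) (.lin 6))))) (.lin 9)) (.lin 8)) (.lin 6))) .cand) (.wt 1)) (.lin
    8)) (.lin 6))) (.lin 6)) (.lin 0))) (.lin 9))) (.split 2 55 (.split 7 (-82) (.splitN 106751
    .cand (.wt 1)) (.lin 9)) (.lin 9))))) (.lin 3))) (.split 0 (-147) (.lin 12) (.split 6 53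
    (.split 5 (-58) (.split 1 141 (.lin 0) (.split 3 87 (.lin 6) (.split 3 96 (.lin 10) (.split 7
    (-91) (.split 3 114 (.lin 6) (.split 1 168 (.lin 8) (.split 0 (-110) (.split 5 (-140) (.lin
    4) (.split 5 (-131) (.lin 6) (.splitN 169370 (.split 4 (-25) (.split 0 (-119) (.splitN 121615
    (.split 6 48 (.split 2 45 (.lin 3) (.wt 2)) .cand) (.wt 3)) (.lin 12)) (.split 6 50 .cand
    (.wt 2))) (.wt 1)))) (.lin 12)))) (.split 2 37 (.split 0 (-111) (.lin 12) (.split 4 (-25)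
    (.split 1 150 (.lin 0) (.split 0 (-92) (.split 3 105 (.lin 10) (.split 5 (-140) (.lin 10)
    (.splitN 177175 (.split 6 48 (.splitN 105431 (.wt 1) .cand) (.split 2 28 (.wt 2) (.lin 9)))
    (.wt 1)))) (.lin 3))) (.split 0 (-102) (.lin 12) (.split 3 120 (.split 5 (-77) (.lin 10)
    (.splitN 166816 (.split 6 49 (.split 1 160 (.split 7 (-72) (.split 3 105 (.lin 6) (.split 2
    27 (.lin 9) (.split 5 (-68) (.lin 0) (.wt 2)))) (.wt 0)) (.lin 11)) (.wt 0)) (.wt 6))) (.wt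
    2))))) (.lin 9)))))) (.split 1 205 (.split 3 151 (.split 7 (-91) (.split 3 78 (.lin 6)
    (.split 1 132 (.lin 8) (.split 2 36 (.lin 9) (.split 0 (-110) (.splitN 150010 (.split 4 (-25)
    (.split 3 87 (.lin 6) (.split 1 141 (.lin 8) (.split 0 (-119) (.split 5 (-36) (.split 1 150
    (.lin 0) (.split 3 105 (.lin 6) (.split 1 159 (.lin 8) (.split 6 48 (.wt 2) (.split 3 128
    (.split 7 (-110) (.lin 6) (.split 0 (-138) (.lin 7) (.split 2 55 (.split 0 (-124) (.split 3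
    114 (.lin 7) (.wt 2)) (.wt 2)) (.lin 9)))) (.wt 2)))))) (.split 1 187 (.split 3 133 (.splitN
    107560 (.split 6 48 (.splitN 80269 (.wt 1) .cand) (.split 2 64 (.splitN 93743 (.split 7 (-94)
    (.split 3 96 (.lin 6) (.wt 2)) (.wt 0)) (.wt 1)) (.lin 3))) (.wt 3)) (.lin 6)) (.lin 0)))
    (.lin 12)))) (.split 0 (-138) (.lin 12) (.split 6 52 .cand (.wt 2)))) (.wt 1)) (.lin 12)))))
    (.split 1 160 (.split 2 37 (.split 0 (-111) (.lin 12) (.splitN 205241 (.split 3 88 (.split 4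
    (-25) (.split 3 69 (.lin 10) (.split 5 (-41) (.lin 10) (.splitN 143930 (.split 6 48 .cand
    (.split 1 123 (.lin 0) (.split 2 28 (.split 7 (-73) (.splitN 92067 (.wt 0) (.split 5 (-25)
    (.split 3 78 (.lin 6) (.wt 2)) (.wt 1))) (.lin 9)) (.lin 9)))) (.wt 1)))) (.split 6 51 .cand
    (.wt 2))) (.split 1 123 (.lin 2) (.splitN 180408 (.split 6 49 (.split 4 (-25) .cand (.wt 2))
    (.wt 2)) (.wt 1)))) (.wt 1))) (.lin 9)) (.lin 8))) (.lin 6)) (.lin 0))) (.split 1 123 (.lin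
    0) (.split 2 55 (.split 7 (-82) (.split 3 115 (.split 1 178 (.split 5 (-77) (.lin 0) (.split
    3 98 (.split 5 (-59) (.lin 6) (.split 0 (-138) (.lin 7) (.split 3 86 (.split 5 (-41) (.lin 6)
    (.split 0 (-120) (.lin 7) (.split 2 37 (.split 7 (-101) (.lin 6) (.splitN 93757 (.split 3 77
    (.split 5 (-32) (.lin 6) (.split 7 (-92) (.lin 6) (.wt 2))) (.wt 0)) (.wt 6))) (.lin 10))))
    (.wt 2)))) (.wt 2))) (.lin 11)) (.wt 2)) (.lin 9)) (.lin 9))))))

def cert5_82_7 : Cert :=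
  (.split 0 (-291) (.lin 3) (.split 7 (-121) (.split 3 105 (.lin 6) (.split 1 168 (.lin 8)
    (.split 2 63 (.lin 9) (.split 0 (-146) (.splitN 84158 .sq (.splitN 169968 (.split 1 337
    (.split 5 (-203) (.lin 0) (.split 5 (-185) (.lin 4) (.splitN 156715 (.split 1 317 (.split 5
    (-167) (.lin 4) (.split 3 268 (.split 6 53 (.split 3 114 (.lin 6) (.split 2 72 (.lin 9)
    (.splitN 142080 (.split 1 284 (.split 3 232 (.split 4 (-29) (.split 3 123 (.lin 6) (.split 1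
    177 (.lin 8) (.split 0 (-155) (.split 5 (-122) (.lin 4) (.splitN 95804 .sq (.splitN 98533
    (.split 3 128 (.wt 0) .sq) (.wt 3)))) (.lin 12)))) (.split 5 (-54) (.split 1 195 (.lin 0)
    (.split 3 150 (.lin 6) (.splitN 109691 .sq (.split 7 (-196) (.wt 3) (.split 1 262 (.split 0
    (-201) (.lin 4) (.split 5 (-113) (.lin 4) (.split 3 214 (.split 6 52 (.splitN 126117 (.split
    3 174 (.wt 2) (.split 1 222 (.lin 11) .sq)) (.wt 0)) (.wt 6)) (.lin 11)))) .sq))))) (.splitN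
    127171 (.split 1 261 (.split 0 (-237) (.lin 4) (.split 3 214 (.split 5 (-36) (.split 3 132
    (.lin 6) (.split 7 (-209) (.lin 6) (.split 6 52 .cand (.wt 2)))) (.splitN 111562 (.split 6 50
    (.split 2 81 (.lin 3) (.split 3 123 (.lin 6) (.splitN 90926 .sq (.split 0 (-204) .sq (.split
    2 136 (.split 5 (-23) (.split 1 177 (.lin 0) (.split 3 132 (.lin 6) (.splitN 96839 .sq
    (.split 7 (-176) (.wt 1) (.split 2 127 (.split 3 175 (.split 7 (-164) (.lin 6) (.split 0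
    (-183) (.lin 7) (.split 1 214 (.splitN 106740 (.split 3 161 (.split 7 (-155) (.lin 6) (.split
    0 (-152) (.split 2 90 (.lin 3) (.split 3 141 (.lin 7) (.split 7 (-136) .sq (.lin 6)))) (.wt
    2))) (.wt 2)) (.wt 1)) (.lin 8)))) (.wt 6)) (.lin 9)))))) (.wt 6)) (.lin 3)))))) (.wt 2))
    (.wt 1))) (.lin 11))) .sq) (.wt 1)))) (.lin 11)) .sq) (.wt 3)))) (.split 2 163 (.split 5
    (-25) (.split 1 177 (.lin 0) (.split 3 114 (.lin 6) (.splitN 91655 .sq (.split 5 (-40)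
    (.split 3 123 (.lin 6) (.split 5 (-41) (.split 1 195 (.lin 0) (.split 3 132 (.lin 6) (.splitN
    104291 .sq (.split 4 (-23) (.wt 1) (.wt 2))))) (.wt 1))) (.wt 1))))) (.wt 1)) (.lin 9)))
    (.lin 11))) .sq) (.wt 1)))) .sq) (.wt 1))) (.lin 12))))) (.split 2 73 (.split 0 (-165) (.lin
    12) (.splitN 467923 (.splitN 56910 (.wt 3) (.split 1 670 (.split 5 (-581) (.lin 0) (.split 3
    194 (.split 1 286 (.split 1 250 (.split 5 (-149) (.lin 10) cert5_82_6) (.lin 11)) (.lin 2))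
    (.split 1 186 (.lin 2) (.split 1 240 (.lin 11) (.split 5 (-76) (.splitN 115955 .sq (.splitN
    291784 (.split 6 59 (.split 1 480 (.split 5 (-392) (.lin 0) (.split 3 430 (.split 4 (-34)
    (.split 0 (-101) (.split 7 (-109) (.wt 0) (.split 5 (-94) (.split 2 55 (.splitN 123371 .sq
    (.split 7 (-100) (.wt 0) (.split 5 (-103) (.split 2 46 (.split 0 (-138) (.lin 12) (.splitN
    168016 (.split 7 (-85) (.wt 3) (.split 5 (-112) (.split 2 37 (.split 0 (-129) (.lin 12)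
    (.split 1 311 (.split 5 (-203) (.lin 0) (.split 3 259 (.split 7 (-79) (.wt 3) (.split 2 28
    (.split 6 51 (.splitN 145361 (.split 4 (-47) (.wt 0) (.split 5 (-130) (.splitN 131435 .sq
    (.split 7 (-68) (.wt 0) (.split 2 19 (.split 0 (-102) (.lin 12) (.split 3 212 (.wt 0) (.split
    5 (-157) (.split 1 258 (.lin 2) .sq) (.lin 1)))) (.lin 9)))) (.lin 0))) (.wt 0)) (.wt 2))
    (.lin 9))) (.lin 11))) .sq)) (.lin 9)) (.lin 6))) (.wt 1))) (.lin 9)) (.lin 6)))) (.lin 9))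
    (.lin 6))) (.lin 3)) (.split 0 (-156) (.lin 3) (.split 0 (-147) (.lin 12) (.split 5 (-94)
    (.split 7 (-91) (.split 5 (-365) (.lin 8) (.split 0 (-110) (.splitN 129419 .sq (.splitN
    175524 (.split 6 51 (.split 4 (-29) (.wt 5) .cand) (.wt 6)) (.wt 1))) (.lin 12))) (.split 2
    37 (.split 0 (-111) (.lin 12) (.split 4 (-23) (.splitN 179778 .cand (.wt 1)) (.wt 2))) (.lin
    9))) (.lin 4))))) (.lin 11))) .sq) (.wt 6)) (.wt 1))) (.lin 4)))))) .sq)) (.wt 1))) (.lin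
    9))))

def cert5_82_8 : Cert :=
  (.split 6 66 (.split 4 (-49) (.split 0 (-119) (.split 3 78 (.lin 6) (.split 3 96 (.lin 10)
    (.splitN 156043 (.split 1 345 (.split 5 (-221) (.lin 0) (.split 3 295 (.splitN 140177 (.split
    1 326 (.split 3 277 (.split 7 (-121) (.split 3 141 (.lin 6) (.split 1 204 (.lin 8) (.split 2
    63 (.lin 9) (.split 0 (-182) (.splitN 121094 .sq (.wt 0)) (.lin 12))))) (.split 2 73 (.split
    6 53 (.splitN 128912 (.split 1 305 (.split 3 259 (.split 5 (-64) (.split 1 186 (.lin 0)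
    (.split 3 141 (.lin 10) (.splitN 83312 .sq (.split 7 (-105) (.wt 0) (.split 2 55 (.split 6 44
    (.wt 2) (.split 0 (-128) (.split 2 46 (.split 7 (-73) (.splitN 107269 (.split 1 227 (.split 3
    169 (.split 7 (-87) (.wt 0) (.split 2 28 (.split 3 149 (.wt 2) (.split 1 204 (.lin 11)
    (.splitN 97334 .sq (.wt 0)))) (.lin 9))) (.lin 11)) .sq) (.wt 3)) (.lin 9)) (.lin 9)) (.lin
    3))) (.lin 9)))))) (.split 7 (-91) (.split 3 114 (.lin 6) (.split 1 168 (.lin 8) (.split 2 36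
    (.lin 9) (.split 0 (-146) (.splitN 78308 .sq (.split 4 (-102) (.wt 3) (.split 3 232 (.split 4
    (-96) (.wt 3) (.split 1 268 (.split 7 (-112) (.wt 3) (.split 3 214 (.split 2 64 (.split 0
    (-201) (.lin 12) (.split 5 (-54) (.wt 2) (.split 1 250 (.split 4 (-85) (.wt 3) (.split 3 196
    (.split 5 (-49) (.wt 2) (.split 1 232 (.splitN 84218 (.split 6 44 (.wt 0) (.split 3 178
    (.split 2 55 (.split 4 (-83) (.wt 0) (.split 3 169 (.split 7 (-108) (.wt 0) (.split 2 46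
    (.split 5 (-27) (.split 3 123 (.lin 6) .sq) (.wt 1)) (.lin 9))) (.lin 6))) (.lin 9)) (.lin
    6))) (.wt 3)) (.lin 8))) (.lin 6))) (.lin 4)))) (.lin 9)) (.lin 6))) (.lin 8))) (.lin 6))))
    (.lin 12))))) (.split 3 214 (.split 1 259 (.split 2 37 (.split 5 (-40) (.split 6 48 (.wt 2)
    .cand) (.split 1 241 (.split 3 187 (.split 6 48 (.split 7 (-73) (.split 2 27 (.lin 9) (.split
    0 (-128) (.split 0 (-170) (.wt 2) (.split 1 196 (.split 3 151 (.splitN 81922 (.wt 6) (.split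
    0 (-142) (.wt 0) (.split 3 124 (.wt 0) (.lin 7)))) (.lin 7)) (.lin 4))) (.lin 12))) (.split 3
    169 (.split 1 214 (.split 2 19 (.splitN 80479 (.wt 1) (.split 3 107 (.wt 2) (.split 0 (-128)
    (.split 1 159 (.lin 2) (.split 4 (-65) (.split 4 (-113) (.wt 0) (.split 3 160 (.split 4
    (-107) (.wt 0) (.split 1 196 (.split 3 151 (.split 4 (-96) (.wt 0) (.split 3 142 (.split 4
    (-91) (.wt 0) (.split 1 178 (.split 3 133 (.wt 2) (.lin 6)) (.lin 0))) (.lin 6))) (.lin 6))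
    (.lin 0))) (.lin 6))) (.lin 0))) (.lin 1)))) (.lin 9)) (.lin 8)) (.lin 6))) .cand) (.lin 6))
    (.lin 0))) (.lin 9)) (.lin 8)) (.lin 6)))) (.lin 11)) .sq) (.wt 3)) (.split 1 159 (.lin 0)
    (.split 0 (-137) (.split 7 (-82) (.splitN 68327 .sq .cand) (.lin 9)) (.lin 3)))) (.lin 9)))
    (.lin 11)) .sq) (.wt 3)) (.lin 11))) .sq) (.wt 3)))) (.lin 3)) cert5_82_7) (.split 1 132
    (.lin 0) (.split 0 (-110) (.split 2 154 (.split 7 (-91) (.splitN 148826 (.split 0 (-333) .sq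
    (.split 1 340 (.split 5 (-230) (.lin 0) (.splitN 140017 (.split 1 326 (.split 5 (-212) (.lin
    0) (.split 3 250 (.split 4 (-49) (.split 1 168 (.lin 0) (.split 0 (-146) (.split 5 (-176)
    (.lin 0) (.split 3 96 (.lin 10) (.splitN 76589 .sq (.splitN 92498 (.split 5 (-36) (.split 1
    186 (.lin 0) (.split 3 114 (.lin 10) (.splitN 87929 .sq (.split 7 (-183) (.wt 0) (.split 2
    109 (.split 0 (-167) (.split 1 213 (.lin 4) (.split 3 123 (.lin 7) .sq)) (.wt 1)) (.lin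
    9)))))) (.wt 1)) (.wt 1))))) (.lin 3))) (.split 4 (-34) (.split 1 150 (.lin 0) (.split 0
    (-128) (.split 5 (-194) (.lin 0) (.split 3 78 (.lin 10) (.splitN 102085 (.split 0 (-238) .sq
    (.split 2 127 (.split 1 250 (.split 5 (-122) (.lin 0) (.splitN 97542 (.split 0 (-224) .sq
    (.split 7 (-182) (.lin 12) (.split 5 (-23) (.split 1 159 (.lin 0) (.split 3 87 (.lin 10)
    (.splitN 65816 .sq (.split 1 233 (.split 0 (-201) (.lin 4) (.split 5 (-104) (.lin 0) (.split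
    7 (-164) (.lin 8) (.split 5 (-32) (.split 7 (-155) (.lin 8) (.split 3 96 (.lin 10) (.split 6
    86 (.split 7 (-123) (.split 3 123 (.lin 6) (.split 1 204 (.lin 8) (.split 2 45 (.lin 9)
    .sq))) (.split 2 46 (.split 0 (-165) (.lin 12) (.split 3 116 (.split 2 37 (.split 5 (-59)
    (.lin 10) (.wt 2)) (.lin 10)) (.wt 2))) (.lin 9))) (.wt 2)))) (.wt 6))))) .sq)))) (.wt 2))))
    (.wt 1))) .sq) (.lin 3))) (.wt 1)))) (.lin 3))) (.split 0 (-255) (.lin 12) (.split 3 165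
    (.split 0 (-228) (.lin 7) (.split 7 (-209) (.lin 6) (.split 5 (-122) (.lin 10) (.split 3 131
    (.split 0 (-192) (.lin 7) (.split 7 (-173) (.lin 6) (.split 5 (-86) (.lin 10) (.split 3 99
    (.split 0 (-165) (.lin 7) (.split 7 (-146) (.lin 6) (.split 5 (-59) (.lin 10) (.split 3 76
    (.split 2 28 (.split 7 (-119) (.lin 6) (.split 5 (-32) (.lin 10) (.wt 2))) (.lin 10)) (.wt
    2))))) (.wt 2))))) (.wt 2))))) (.wt 2))))) (.lin 11))) .sq) (.wt 1))) .sq)) (.wt 1)) (.lin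
    9)) (.lin 9)) (.lin 3))))

def cert5_82_9 : Cert :=
  (.split 2 10 (.split 2 3 (.splitN 51236 (.split 1 548 (.split 5 (-482) (.lin 0) (.split 0
    (-187) .sq (.splitN 48455 (.split 1 187 (.split 5 (-122) (.lin 0) (.split 6 71 (.split 7
    (-74) (.lin 9) (.split 4 (-49) (.split 1 123 (.lin 0) (.split 0 (-101) (.split 5 (-86) (.lin
    0) (.split 3 78 (.lin 10) (.splitN 39491 .sq (.wt 1)))) (.lin 3))) (.split 0 (-120) (.lin 3)
    (.split 3 94 (.split 5 (-68) (.lin 10) (.split 3 82 (.split 5 (-59) (.lin 10) (.split 3 78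
    (.split 5 (-50) (.lin 10) (.split 6 58 (.split 7 (-56) (.lin 9) (.split 3 55 (.split 4 (-30)
    (.lin 10) (.split 5 (-32) (.lin 10) (.wt 2))) (.wt 2))) (.wt 2))) (.wt 2))) (.wt 2))) (.wt
    2))))) (.split 1 123 (.lin 0) (.split 0 (-101) (.split 7 (-82) (.splitN 41435 .sq (.wt 1))
    (.lin 9)) (.lin 3))))) .sq) (.wt 1)))) (.div 1)) (.wt 1)) (.split 1 96 (.lin 0) (.split 0
    (-74) (.split 7 (-55) (.split 3 51 (.lin 10) (.splitN 592383 (.split 5 (-3281) (.div 5)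
    (.split 0 (-757) .sq (.split 3 3985 (.split 4 (-696) (.lin 3) (.split 6 719 (.split 1 4705
    (.splitN 530787 (.split 1 717 (.split 4 (-633) (.lin 0) (.split 0 (-687) (.lin 4) (.split 5
    (-635) (.lin 0) (.split 3 664 (.splitN 473437 (.split 1 675 (.split 3 628 (.split 6 165
    (.split 7 (-173) (.lin 9) (.splitN 39710 (.wt 3) (.split 6 84 cert5_82_5 (.split 1 141 (.lin
    0) (.split 0 (-119) (.split 7 (-100) (.splitN 55934 .sq (.splitN 101946 (.split 0 (-244) .sq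
    (.split 4 (-138) (.lin 3) (.split 3 242 (.split 5 (-212) (.lin 10) (.split 3 207 (.split 5
    (-176) (.lin 10) (.split 3 168 (.split 5 (-131) (.lin 10) (.split 3 151 (.split 4 (-120)
    (.lin 10) (.split 5 (-122) (.lin 10) (.split 3 144 (.split 5 (-113) (.lin 10) (.split 3 137
    (.split 4 (-102) (.lin 10) (.split 5 (-104) (.lin 10) (.split 3 130 (.split 4 (-93) (.lin 10)
    (.split 5 (-95) (.lin 10) (.split 3 122 (.split 4 (-84) (.lin 10) (.split 4 (-21) (.split 1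
    150 (.lin 0) (.split 3 60 (.lin 10) (.split 5 (-77) (.lin 10) (.split 6 151 (.split 7 (-155)
    (.lin 9) (.split 3 111 (.split 4 (-75) (.lin 10) (.split 5 (-68) (.lin 10) (.split 3 101
    (.split 0 (-219) (.lin 1) (.split 4 (-66) (.lin 10) (.split 5 (-59) (.lin 10) (.split 3 88
    (.split 4 (-57) (.lin 10) (.split 5 (-50) (.lin 10) (.split 3 77 (.split 4 (-39) (.lin 10)
    (.split 5 (-32) (.lin 10) (.wt 2))) (.wt 2)))) (.wt 2))))) (.wt 2)))) (.wt 2))) (.wt 2)))))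
    (.wt 2))) (.wt 6)))) (.wt 6)))) (.wt 6))) (.wt 6)))) (.wt 6))) (.wt 6))) (.wt 2))) (.wt 2))))
    (.wt 1))) (.lin 9)) (.lin 3)))))) (.split 1 222 (.lin 0) (.split 0 (-200) (.split 7 (-181)
    (.splitN 155078 .sq (.wt 1)) (.lin 9)) (.lin 3)))) (.lin 2)) .sq) (.wt 1)) (.lin 2))))) .sq)
    (.wt 1)) (.lin 11)) (.lin 3))) (.lin 1)))) (.wt 1))) (.lin 9)) (.lin 3)))) (.split 1 105
    (.lin 0) (.split 0 (-83) (.split 7 (-64) (.split 3 60 (.lin 10) (.splitN 1082706 (.split 1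
    11996 (.split 2 11908 (.split 5 (-5999) (.div 5) (.split 0 (-1029) .sq (.split 2 964 (.split
    4 (-966) (.lin 3) (.split 1 7027 (.splitN 925147 (.split 0 (-950) .sq (.split 1 951 (.split 5
    (-860) (.lin 0) (.split 3 898 (.splitN 792965 (.split 0 (-877) .sq (.split 2 811 (.split 7
    (-857) (.lin 12) (.split 1 879 (.split 5 (-788) (.lin 0) (.split 6 90 (.splitN 40561 (.wt 1)
    (.split 4 (-128) (.split 1 213 (.lin 0) (.split 0 (-191) (.split 3 168 (.lin 10) (.splitN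
    134099 .sq (.wt 3))) (.lin 3))) (.split 7 (-235) (.split 3 186 (.lin 6) (.split 1 276 (.lin
    8) (.split 2 144 (.lin 9) (.split 0 (-254) (.splitN 255284 .sq (.wt 1)) (.lin 12))))) (.split
    2 181 (.split 0 (-345) (.lin 12) (.splitN 633280 (.split 1 783 (.split 5 (-698) (.lin 0)
    (.split 3 736 cert5_82_8 (.lin 11))) .sq) (.wt 1))) (.lin 9))))) (.split 1 159 (.lin 0)
    (.split 0 (-137) (.split 2 757 (.split 5 (-734) (.lin 0) (.split 7 (-118) (.splitN 72863 .sq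
    (.splitN 112735 (.split 5 (-617) (.div 5) (.split 0 (-239) .sq (.split 2 118 (.split 4 (-120)
    (.lin 3) (.split 7 (-218) (.lin 12) (.splitN 106474 (.split 5 (-581) (.div 5) (.split 3 225
    (.split 1 421 (.split 5 (-185) (.lin 10) (.split 4 (-93) (.wt 1) (.split 3 163 (.split 5
    (-122) (.lin 10) (.split 4 (-72) (.wt 1) (.split 3 121 (.split 2 73 (.split 5 (-77) (.lin 10)
    (.split 4 (-49) (.wt 1) (.split 5 (-23) (.split 3 69 (.lin 10) (.splitN 83236 (.split 4 (-23)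
    (.split 1 177 (.lin 0) (.split 3 78 (.lin 10) .sq)) (.wt 0)) (.wt 6))) (.wt 1)))) (.lin 10))
    (.wt 2)))) (.wt 2)))) (.lin 2)) (.wt 2))) (.wt 1)))) (.lin 3)))) (.wt 1))) (.lin 9))) (.lin
    9)) (.lin 3))))) .sq)) (.lin 3))) (.wt 1)) (.lin 11))) .sq)) (.wt 1)) (.lin 4))) (.lin 3))))
    (.lin 0)) (.div 1)) (.wt 1))) (.lin 9)) (.lin 3))))

def cert5_82_10 : Cert :=
  (.split 2 22 (.splitN 256162 (.split 0 (-494) .sq (.split 4 (-444) (.lin 3) (.split 1 502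
    (.split 5 (-8) (.split 1 78 (.lin 0) (.split 3 33 (.lin 10) (.splitN 194630 (.split 0 (-425)
    .sq (.split 7 (-416) (.lin 1) (.split 4 (-372) (.lin 3) (.split 2 4 (.splitN 38325 (.split 1
    404 (.split 0 (-390) (.lin 4) (.split 7 (-371) (.lin 1) (.split 3 131 (.split 4 (-111) (.lin
    10) (.split 3 104 (.split 4 (-84) (.lin 10) (.split 3 95 (.split 4 (-75) (.lin 10) (.split 6
    83 (.split 0 (-156) (.lin 3) (.split 7 (-83) (.lin 9) (.split 3 46 (.split 0 (-111) (.lin 1)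
    (.split 4 (-30) (.lin 10) (.wt 2))) (.wt 2)))) (.wt 2))) (.wt 2))) (.wt 2))) (.wt 2)))) (.div
    1)) (.wt 1)) (.split 1 87 (.lin 0) (.split 0 (-74) (.split 7 (-55) (.split 3 42 (.lin 10)
    (.splitN 134165 (.split 6 162 (.split 7 (-182) (.lin 9) (.split 6 135 (.split 7 (-155) (.lin
    9) (.split 6 129 (.split 7 (-146) (.lin 9) (.split 0 (-345) .sq (.split 4 (-291) (.lin 3)
    (.split 6 120 (.split 7 (-137) (.lin 9) (.split 1 347 (.split 4 (-273) (.lin 0) (.split 0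
    (-327) (.lin 4) (.split 6 115 (.split 7 (-128) (.lin 9) (.split 6 75 (.split 7 (-92) (.lin 9)
    (.split 4 (-74) (.split 1 141 (.lin 0) (.split 3 96 (.lin 10) (.split 6 54 (.split 7 (-74)
    (.lin 9) (.split 3 206 (.split 0 (-255) (.lin 1) (.split 4 (-183) (.lin 10) (.split 3 159
    (.split 0 (-201) (.lin 1) (.split 4 (-129) (.lin 10) (.split 0 (-138) (.split 1 159 (.lin 4)
    (.split 3 105 (.lin 7) (.splitN 68858 .sq (.wt 6)))) (.wt 2)))) (.wt 2)))) (.wt 2))) (.wt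
    2)))) (.split 0 (-156) (.lin 3) (.split 6 70 (.split 0 (-147) (.lin 3) (.split 7 (-83) (.lin
    9) (.split 4 (-37) (.split 1 105 (.lin 0) (.split 3 60 (.lin 10) (.split 3 94 (.split 6 51
    (.split 0 (-120) (.lin 7) (.split 7 (-65) (.lin 9) (.split 0 (-96) (.split 3 69 (.lin 7) (.wt
    2)) (.wt 2)))) (.wt 2)) (.wt 2)))) (.split 0 (-111) (.lin 3) (.split 3 54 (.split 4 (-21)
    (.split 2 10 (.split 7 (-74) (.lin 6) (.split 3 51 (.lin 10) (.wt 2))) (.lin 10)) (.wt 2))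
    (.wt 2)))))) (.wt 2))))) (.split 1 123 (.lin 0) (.split 7 (-91) (.splitN 69638 (.split 4
    (-24) (.split 1 132 (.lin 0) (.split 0 (-119) (.split 3 51 (.lin 10) (.splitN 50345 .sq (.wt
    6))) (.lin 3))) (.wt 0)) (.wt 1)) (.lin 9))))) (.wt 2)))) .sq)) (.wt 2))))) (.wt 2))) (.wt
    2))) (.wt 2)) (.wt 1))) (.lin 9)) (.lin 3))))))) (.wt 1)))) (.splitN 37300 (.split 1 404
    (.split 0 (-399) (.lin 4) (.split 7 (-398) (.lin 1) (.splitN 36020 (.split 1 368 (.split 0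
    (-363) (.lin 4) (.split 7 (-362) (.lin 1) (.split 0 (-154) (.split 1 159 (.lin 4) .sq) (.wt
    2)))) (.div 1)) (.wt 6)))) (.div 1)) (.wt 6))) (.lin 4)))) (.wt 1)) (.split 1 96 (.lin 0)
    (.split 7 (-73) (.split 3 51 (.lin 10) (.splitN 116006 (.split 5 (-5) (.split 1 105 (.lin 0)
    (.split 3 60 (.lin 10) (.split 0 (-301) .sq (.split 2 235 (.split 1 313 (.splitN 107521
    (.split 0 (-285) .sq (.split 4 (-210) (.lin 3) (.split 1 295 (.split 3 250 (.split 7 (-263)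
    (.lin 8) (.split 4 (-65) (.split 1 150 (.lin 0) (.split 0 (-137) (.split 2 172 (.split 3 105
    (.lin 10) (.splitN 65249 .sq (.split 7 (-111) (.wt 1) (.split 2 64 (.split 7 (-106) (.wt 1)
    (.split 2 55 (.split 6 52 (.split 3 237 (.split 4 (-192) (.lin 6) (.split 0 (-264) (.lin 7)
    (.split 3 219 (.split 4 (-174) (.lin 6) (.split 0 (-246) (.lin 7) (.split 3 201 (.split 4
    (-156) (.lin 6) (.split 0 (-228) (.lin 7) (.split 3 184 (.split 4 (-138) (.lin 6) (.split 0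
    (-210) (.lin 7) (.split 1 223 (.split 7 (-99) (.wt 1) (.split 2 46 (.split 3 177 (.split 4
    (-129) (.lin 6) (.split 3 153 (.split 4 (-111) (.lin 6) (.split 0 (-183) (.lin 7) (.split 3
    144 (.split 4 (-102) (.lin 6) (.split 3 139 (.split 4 (-93) (.lin 6) (.split 0 (-165) (.lin
    7) (.split 3 123 (.split 4 (-75) (.lin 6) (.split 7 (-83) (.lin 6) (.wt 2))) (.wt 2)))) (.wt
    2))) (.wt 2)))) (.wt 6))) (.wt 2)) (.lin 9))) (.lin 11)))) (.wt 6)))) (.wt 6)))) (.wt 6))))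
    (.wt 6)) (.wt 2)) (.lin 9))) (.lin 9))))) (.lin 10)) (.lin 3))) (.split 6 70 (.split 4 (-38)
    (.split 1 123 (.lin 0) (.split 7 (-245) (.lin 8) (.split 3 78 (.lin 10) (.splitN 84327
    (.split 6 59 (.split 0 (-225) .sq (.split 2 136 (.split 7 (-132) (.split 3 132 (.lin 6)
    (.split 1 186 (.lin 8) (.split 2 81 (.lin 9) .sq))) (.split 3 151 (.split 0 (-192) (.lin 7)
    (.split 3 147 (.split 6 51 (.split 0 (-174) (.lin 7) (.split 3 136 (.split 0 (-165) (.lin 7)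
    (.split 3 130 (.split 7 (-119) (.lin 6) (.split 0 (-156) (.lin 7) (.split 2 73 (.split 3 118
    (.split 7 (-110) (.lin 6) (.split 2 64 (.split 3 107 (.split 7 (-101) (.lin 6) (.split 0
    (-138) (.lin 7) (.split 3 96 (.split 4 (-48) (.lin 6) (.split 7 (-83) (.lin 6) (.wt 2))) (.wt
    2)))) (.wt 2)) (.lin 9))) (.wt 2)) (.lin 9)))) (.wt 2))) (.wt 2))) (.wt 2)) (.wt 2))) (.lin
    6))) (.lin 3))) (.wt 2)) (.wt 1))))) (.split 3 139 (.split 7 (-164) (.lin 6) (.split 0 (-183)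
    (.lin 7) (.split 2 118 (.split 3 93 (.split 7 (-119) (.lin 6) (.split 0 (-138) (.lin 7)
    (.split 2 73 (.splitN 86485 (.split 7 (-74) (.split 1 114 (.lin 8) (.split 0 (-108) (.split 1
    123 (.lin 4) (.split 3 68 (.split 0 (-111) (.lin 7) (.split 2 28 (.split 7 (-92) (.lin 1)
    (.split 4 (-21) (.lin 5) (.split 6 61 (.lin 0) (.wt 0)))) (.lin 10))) (.wt 2))) (.wt 2)))
    (.wt 0)) (.wt 6)) (.lin 9)))) (.wt 2)) (.lin 9)))) (.wt 2))) (.wt 2)))) (.lin 7)) (.lin 4))))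
    (.wt 1)) (.lin 4)) (.lin 3))))) (.wt 2)) (.wt 1))) (.lin 9))))

def cert5_82_11 : Cert :=
  (.split 5 (-52) (.split 1 204 (.lin 0) (.split 3 168 (.lin 6) (.splitN 17615533 (.split 5
    (-97853) (.div 5) (.split 0 (-4185) .sq (.split 2 4132 (.split 1 102031 (.splitN 11085043
    (.split 5 (-61583) (.div 5) (.split 1 65761 (.split 0 (-3314) .sq (.split 2 3259 (.splitN
    10042063 (.split 1 3155 (.split 2 3043 (.split 0 (-3090) (.lin 3) (.split 5 (-3002) (.lin 0)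
    (.splitN 6368103 (.split 0 (-2503) .sq (.split 2 2449 (.splitN 5977072 (.split 1 2427 (.split
    2 2314 (.split 0 (-2361) (.lin 3) (.split 5 (-2273) (.lin 0) (.splitN 5312719 (.split 1 2286
    (.split 5 (-2138) (.lin 0) (.split 7 (-549) (.split 3 582 (.lin 6) (.split 1 618 (.lin 8)
    (.split 2 513 (.lin 9) (.split 0 (-560) (.splitN 1608056 .sq (.wt 0)) (.lin 12))))) (.split 2
    505 (.split 0 (-552) (.lin 12) (.splitN 2629412 (.split 1 1595 (.split 5 (-1445) (.lin 0)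
    (.split 3 1555 (.split 7 (-272) (.split 3 312 (.lin 6) (.split 1 348 (.lin 8) (.split 2 243
    (.lin 9) (.split 0 (-290) (.splitN 446516 .sq (.wt 0)) (.lin 12))))) (.split 2 235 (.split 0
    (-282) (.lin 12) (.splitN 1516701 (.split 1 1196 (.split 5 (-1049) (.lin 0) (.split 3 1159
    (.split 7 (-204) (.split 3 240 (.lin 6) (.split 1 276 (.lin 8) (.split 2 171 (.lin 9) (.split
    0 (-218) (.split 5 (-977) (.lin 0) (.splitN 259892 .sq (.splitN 431614 (.split 1 495 (.split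
    3 457 (.split 5 (-184) (.wt 2) (.split 1 457 (.split 3 421 (.split 5 (-156) (.wt 2) (.split 1
    430 (.split 3 394 (.splitN 333846 (.split 1 384 (.split 3 340 (.splitN 314555 .cand (.wt 5))
    (.lin 11)) .sq) (.wt 3)) (.lin 6)) (.lin 0))) (.lin 6)) (.lin 0))) (.lin 11)) .sq) (.wt 3))))
    (.lin 12))))) (.split 2 163 (.split 0 (-210) (.lin 12) (.splitN 1139841 (.splitN 218990 (.wt
    1) (.split 1 1027 (.split 5 (-878) (.lin 0) (.split 3 408 (.split 5 (-356) (.lin 1) (.split 1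
    439 (.split 5 (-293) (.lin 0) (.split 5 (-131) (.split 1 285 (.lin 0) (.split 3 249 (.lin 6)
    (.splitN 261328 (.wt 0) (.split 7 (-168) (.split 3 285 (.lin 6) (.split 2 135 (.lin 9)
    (.split 5 (-257) (.lin 0) (.splitN 452468 .cand (.wt 1))))) (.split 2 127 (.split 0 (-174)
    (.lin 12) (.split 0 (-155) (.split 2 108 (.lin 3) (.split 3 299 (.split 5 (-194) (.lin 1)
    (.split 1 331 (.split 5 (-176) (.lin 0) (.splitN 436334 (.split 0 (-158) (.split 3 267 (.lin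
    7) (.wt 2)) (.wt 0)) (.wt 6))) (.lin 11))) (.wt 2))) (.wt 2))) (.lin 9)))))) (.split 1 340
    (.split 7 (-168) (.split 3 204 (.lin 6) (.splitN 408137 .cand (.wt 1))) (.split 0 (-174)
    (.lin 12) (.split 3 254 (.split 1 286 (.split 5 (-62) (.split 3 177 (.lin 6) (.split 5 (-99)
    (.split 1 249 (.lin 0) (.split 3 213 (.lin 6) (.split 0 (-160) (.split 2 117 (.lin 3) (.split
    5 (-122) (.lin 0) (.split 3 231 (.lin 7) (.wt 2)))) (.wt 2)))) (.split 0 (-147) (.split 2 108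
    (.lin 3) (.split 1 222 (.lin 0) (.split 7 (-145) (.split 3 210 (.split 5 (-86) (.lin 6)
    (.split 1 241 (.split 0 (-156) (.split 2 117 (.lin 3) (.split 5 (-77) (.lin 0) (.split 3 195
    (.lin 7) (.wt 2)))) (.wt 2)) (.lin 11))) (.wt 2)) (.lin 9)))) (.wt 2)))) (.wt 2)) (.lin 11))
    (.wt 2)))) (.lin 0)))) (.lin 11))) (.split 1 384 (.lin 2) (.split 1 447 (.lin 11) (.split 5
    (-238) (.splitN 478250 .sq (.split 7 (-180) (.wt 1) (.split 0 (-183) (.lin 12) (.wt 2))))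
    (.lin 0)))))) .sq)) (.wt 1))) (.lin 9))) (.lin 11))) .sq) (.wt 1))) (.lin 9))) (.lin 11)))
    .sq) (.wt 1))) (.lin 9)))) .sq) (.wt 1)))) (.lin 0)) .sq) (.wt 1)) (.lin 3))) (.wt 1))))
    (.lin 0)) .sq) (.wt 1)) (.lin 3))) (.lin 0))) (.wt 1)) (.lin 0)) (.lin 3)))) (.wt 1))))
    (.splitN 595283 (.split 0 (-720) .sq (.split 2 667 (.split 3 727 (.split 7 (-291) (.split 3
    294 (.lin 6) (.split 0 (-281) (.split 1 330 (.lin 8) (.split 2 261 (.lin 9) (.split 0 (-308)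
    (.splitN 450728 .sq (.wt 0)) (.lin 12)))) (.lin 7))) (.split 3 313 (.split 0 (-327) (.lin 7)
    (.split 1 349 (.split 2 253 (.split 5 (-23) (.split 1 177 (.lin 0) (.split 3 141 (.lin 6)
    (.split 7 (-213) (.split 3 222 (.lin 6) (.split 1 258 (.lin 8) (.split 2 180 (.lin 9) (.split
    0 (-227) (.splitN 250496 .sq (.splitN 254261 (.split 0 (-289) (.split 2 243 (.lin 3) (.split
    3 276 (.lin 1) (.split 7 (-280) .sq (.lin 9)))) (.wt 1)) (.wt 1))) (.lin 12))))) (.split 3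
    232 (.split 0 (-237) (.lin 7) (.split 2 172 (.split 0 (-219) (.lin 12) (.split 3 215 (.split
    1 250 (.split 5 (-32) (.split 3 150 (.lin 6) (.split 0 (-152) (.split 2 108 (.lin 3) (.split
    1 195 (.lin 0) (.split 3 159 (.lin 7) (.split 0 (-165) (.split 2 126 (.lin 3) (.split 1 213
    (.lin 0) (.split 3 177 (.lin 7) (.split 0 (-189) (.split 2 144 (.lin 3) (.split 1 231 (.lin
    0) (.split 3 195 (.lin 7) (.splitN 248071 (.split 0 (-209) (.split 2 162 (.lin 3) (.split 5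
    (-41) (.lin 0) (.split 7 (-199) (.split 3 213 (.lin 6) (.wt 0)) (.lin 1)))) (.wt 0)) (.wt
    6))))) (.wt 2))))) (.wt 2))))) (.wt 2))) (.wt 2)) (.lin 11)) (.wt 2))) (.lin 9))) (.lin
    6))))) (.wt 2)) (.lin 9)) (.lin 8))) (.lin 6))) (.lin 7)) (.lin 3))) (.wt 1)))

def cert5_82_12 : Cert :=
  (.split 6 48 (.split 6 35 (.split 2 27 (.lin 3) (.split 3 60 (.lin 6) (.split 7 (-136) (.split
    3 132 (.lin 6) (.split 1 168 (.lin 8) (.split 2 99 (.lin 9) (.split 0 (-146) (.split 6 30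
    (.splitN 442526 (.split 1 4904 (.split 3 4876 (.wt 2) (.lin 11)) (.div 1)) (.wt 0))
    cert5_82_11) (.lin 12))))) (.split 2 100 (.split 0 (-138) (.lin 12) (.split 6 30 (.split 2 36
    (.lin 3) (.split 5 (-6016) (.wt 1) (.split 3 6118 (.split 5 (-2700) (.wt 1) (.split 3 2806
    (.split 5 (-1636) (.wt 1) (.split 3 1744 (.split 5 (-1133) (.wt 1) (.split 3 1240 (.split 5
    (-852) (.wt 1) (.split 3 961 (.split 5 (-682) (.wt 1) (.split 3 790 (.split 5 (-572) (.wt 1)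
    (.split 3 682 (.split 5 (-501) (.wt 1) (.split 3 610 (.split 5 (-452) (.wt 1) (.split 3 556
    (.split 5 (-415) (.wt 1) (.split 3 520 (.split 5 (-390) (.wt 1) (.split 3 493 (.split 3 86
    (.wt 2) (.split 1 114 (.lin 11) (.split 5 (-232) (.wt 1) (.split 1 367 (.split 3 340 (.split
    5 (-184) (.wt 1) (.split 1 313 (.split 3 286 (.split 3 90 (.wt 2) (.split 1 123 (.lin 11)
    (.split 5 (-142) (.wt 1) (.split 3 250 (.split 5 (-59) (.wt 2) (.split 1 196 (.split 3 169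
    (.split 7 (-66) (.split 2 45 (.lin 9) (.split 0 (-83) (.splitN 491104 (.wt 6) (.split 7
    (-102) (.wt 0) (.split 3 142 (.split 1 169 (.splitN 3767441 (.wt 6) (.split 0 (-94) (.wt 0)
    (.split 2 55 (.split 5 (-31) (.split 3 124 (.wt 0) (.lin 7)) (.lin 0)) (.lin 3)))) (.lin 8))
    (.lin 6)))) (.lin 12))) (.wt 1)) (.lin 6)) (.lin 0))) (.lin 6))))) (.lin 6)) (.lin 0))) (.lin
    6)) (.lin 0))))) (.lin 6))) (.lin 6))) (.lin 6))) (.lin 6))) (.lin 6))) (.lin 6))) (.lin 6)))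
    (.lin 6))) (.lin 6))) (.lin 6))) (.lin 6)))) (.split 2 91 (.split 3 326 (.split 5 (-347)
    (.lin 1) (.split 1 358 (.split 5 (-284) (.lin 0) (.split 3 255 (.split 5 (-212) (.lin 6)
    (.split 3 238 (.split 1 268 (.split 3 118 (.split 1 214 (.split 0 (-129) (.lin 7) (.split 2
    82 (.split 1 151 (.split 5 (-77) (.lin 0) (.split 7 (-119) (.lin 6) (.split 7 (-91) (.split 3
    87 (.lin 6) (.split 1 123 (.lin 8) (.split 2 54 (.lin 9) (.split 5 (-50) (.lin 0) (.splitN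
    298350 (.wt 5) (.split 5 (-23) (.split 0 (-120) (.lin 4) (.split 3 96 (.lin 6) (.split 7
    (-110) (.lin 6) (.wt 2)))) (.wt 1))))))) (.split 0 (-93) (.lin 12) (.split 3 101 (.split 5
    (-59) (.lin 6) (.split 1 133 (.split 7 (-65) (.split 3 69 (.lin 6) (.split 2 36 (.lin 9)
    (.split 5 (-50) (.lin 0) (.wt 2)))) (.wt 0)) (.lin 11))) (.wt 0)))))) (.lin 11)) (.lin 10)))
    (.lin 2)) (.split 1 159 (.lin 11) (.split 7 (-82) (.split 5 (-176) (.lin 6) (.split 7 (-84)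
    (.split 5 (-167) (.lin 6) (.split 0 (-104) (.split 2 63 (.lin 3) (.split 3 169 (.split 1 205
    (.split 5 (-95) (.lin 0) (.split 0 (-118) (.split 2 72 (.lin 3) (.split 5 (-86) (.lin 0)
    (.split 7 (-109) (.splitN 385074 (.wt 5) (.split 5 (-42) (.split 1 168 (.lin 0) (.split 3 132
    (.lin 6) (.splitN 507697 (.split 3 156 (.split 5 (-68) (.lin 6) (.wt 2)) (.wt 0)) (.wt 6))))
    (.wt 1))) (.lin 9)))) (.wt 2))) (.lin 11)) (.wt 2))) (.wt 2))) (.wt 0))) (.wt 0)))) (.lin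
    11)) (.wt 2))) (.wt 2))) (.lin 11))) (.wt 2)) (.lin 3)))) (.lin 9))))) (.split 3 2963 (.split
    5 (-2930) (.lin 6) (.split 0 (-2982) (.lin 7) (.split 7 (-2972) (.lin 6) (.split 3 1016
    (.split 5 (-986) (.lin 6) (.split 0 (-1038) (.lin 7) (.split 7 (-1028) (.lin 6) (.split 3 452
    (.split 5 (-419) (.lin 6) (.split 0 (-471) (.lin 7) (.split 7 (-461) (.lin 6) (.split 3 221
    (.split 5 (-185) (.lin 6) (.split 0 (-237) (.lin 7) (.split 7 (-227) (.lin 6) (.split 3 112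
    (.split 5 (-77) (.lin 6) (.split 0 (-129) (.lin 7) (.split 7 (-119) (.lin 6) (.split 7 (-71)
    (.split 3 60 (.lin 6) (.wt 2)) (.wt 0))))) (.wt 2))))) (.wt 2))))) (.wt 2))))) (.wt 2)))))
    (.wt 2))) (.split 1 105 (.lin 0) (.split 7 (-73) (.split 3 138 (.split 5 (-122) (.lin 6)
    (.split 0 (-183) (.lin 7) (.split 2 100 (.split 1 205 (.split 7 (-173) (.lin 6) (.split 5
    (-104) (.lin 10) (.splitN 201386 (.split 0 (-127) (.split 2 45 (.lin 3) (.split 5 (-95) (.lin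
    0) (.split 3 78 (.lin 7) (.wt 0)))) (.wt 0)) (.wt 6)))) (.lin 11)) (.lin 10)))) (.wt 2))
    (.lin 9))))

def cert5_82_13 : Cert :=
  (.split 5 (-16) (.split 1 60 (.lin 0) (.split 3 33 (.lin 10) (.split 6 219 (.split 6 74 (.split
    7 (-64) (.split 1 96 (.lin 8) (.split 0 (-74) (.split 2 10 (.split 0 (-93) (.lin 3) (.split 6
    52 (.lin 3) (.split 7 (-83) (.lin 9) (.splitN 151660 (.wt 4) (.split 2 1 (.wt 1) (.split 3 42
    (.lin 10) (.wt 2))))))) (.split 3 51 (.lin 10) cert5_82_12)) (.lin 12))) (.split 0 (-66)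
    (.lin 12) (.split 6 47 (.split 2 5 (.split 0 (-57) (.lin 3) (.split 7 (-47) (.lin 9) (.split
    3 56 (.split 5 (-59) (.lin 1) (.split 1 97 (.split 5 (-41) (.lin 10) (.splitN 116261 (.split
    7 (-29) (.split 1 69 (.lin 2) (.split 0 (-47) (.split 6 34 (.lin 3) (.splitN 77122 (.wt 0)
    (.wt 1))) (.lin 12))) (.wt 0)) (.wt 1))) (.lin 2))) (.wt 2)))) (.split 1 69 (.lin 0) (.split
    0 (-47) (.split 3 42 (.lin 10) (.split 3 129 (.split 5 (-122) (.lin 1) (.split 6 37 (.split 7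
    (-39) (.split 1 78 (.lin 8) (.split 0 (-56) (.split 3 83 (.split 6 30 (.split 2 18 (.lin 3)
    (.wt 1)) (.split 0 (-62) (.split 2 18 (.lin 3) (.split 3 51 (.lin 1) (.wt 0))) (.wt 0))) (.wt
    3)) (.lin 12))) (.wt 0)) (.wt 0))) (.wt 0))) (.lin 3)))) (.wt 2)))) (.split 1 114 (.lin 0)
    (.split 3 53 (.split 0 (-246) (.lin 7) (.split 2 19 (.split 7 (-236) (.lin 6) (.split 5 (-41)
    (.lin 10) (.wt 2))) (.lin 10))) (.wt 2)))) (.wt 2)))) (.split 6 60 (.split 3 40 (.split 7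
    (-74) (.lin 6) (.split 0 (-84) (.lin 7) (.split 2 46 (.split 1 88 (.split 5 (-8) (.split 1 51
    (.lin 0) (.split 0 (-75) (.lin 4) (.split 2 10 (.split 7 (-65) (.lin 6) (.split 3 24 (.lin
    10) (.split 6 42 (.split 0 (-57) (.lin 3) (.split 7 (-47) (.lin 6) (.split 2 3 (.split 0
    (-48) (.lin 3) (.split 7 (-38) (.lin 1) (.wt 2))) (.split 1 60 (.lin 0) (.split 3 33 (.lin
    10) (.split 6 30 (.split 0 (-48) (.lin 3) (.split 7 (-38) (.lin 1) (.wt 0))) (.wt 0)))))))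
    (.wt 2)))) (.lin 10)))) (.split 0 (-42) (.split 1 51 (.lin 4) (.split 7 (-37) (.split 3 19
    (.split 6 34 (.lin 6) (.split 0 (-66) (.lin 7) (.split 2 1 (.split 7 (-56) (.lin 1) (.splitN
    42181 (.wt 0) (.wt 1))) (.lin 10)))) (.wt 2)) (.lin 8))) (.wt 2))) (.lin 11)) (.lin 9))))
    (.split 7 (-46) (.split 1 60 (.lin 8) (.split 2 18 (.lin 10) (.split 1 69 (.lin 11) (.split 6
    51 (.split 5 (-8) (.split 7 (-100) (.split 3 78 (.lin 6) (.split 0 (-92) (.split 1 123 (.lin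
    8) (.split 2 54 (.lin 9) (.split 0 (-110) (.splitN 693811 (.split 2 3838 (.split 1 3904
    (.split 0 (-3891) (.lin 3) (.split 6 37 (.split 2 63 (.lin 0) (.split 3 87 (.lin 6) (.splitN
    609513 (.split 0 (-754) .sq (.split 3 736 (.split 7 (-749) (.lin 6) (.split 6 34 (.split 7
    (-259) (.split 3 258 (.lin 6) (.split 0 (-272) (.split 1 285 (.lin 8) (.split 2 234 (.lin 9)
    (.splitN 347696 .sq (.wt 0)))) (.lin 7))) (.split 3 250 (.split 1 277 (.split 2 226 (.split 3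
    98 (.wt 2) (.split 7 (-109) (.split 0 (-119) (.split 2 81 (.lin 9) (.split 3 113 (.wt 2)
    (.split 7 (-118) (.split 0 (-128) (.split 1 141 (.lin 8) (.split 2 90 (.lin 9) (.split 0
    (-244) (.wt 2) (.split 3 223 (.split 0 (-212) (.wt 2) (.split 2 172 (.split 1 223 (.split 3
    196 (.split 0 (-182) (.wt 2) (.split 2 136 (.split 1 187 (.split 3 160 (.split 7 (-164) (.lin
    6) (.splitN 179326 (.wt 1) (.split 7 (-157) (.wt 0) (.split 3 151 (.splitN 200043 (.wt 6)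
    (.split 7 (-138) (.wt 0) (.split 3 133 (.split 1 160 (.wt 2) (.lin 8)) (.lin 6)))) (.lin
    6))))) (.lin 7)) (.lin 0)) (.lin 3))) (.lin 7)) (.lin 0)) (.lin 3))) (.lin 7))))) (.lin 7))
    (.lin 6)))) (.lin 7)) (.lin 6))) (.lin 9)) (.lin 8)) (.lin 6))) (.wt 2))) (.lin 7))) (.wt
    1)))) (.wt 2))) (.lin 0)) (.div 2)) (.wt 1)) (.lin 12)))) (.lin 7))) (.split 3 88 (.split 0
    (-120) (.lin 7) (.split 1 115 (.split 2 64 (.split 6 33 (.split 7 (-69) (.split 3 69 (.lin 6)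
    (.split 0 (-83) (.split 2 45 (.lin 9) (.split 3 70 (.wt 2) (.split 7 (-82) (.split 0 (-92)
    (.split 1 105 (.lin 8) (.split 2 54 (.lin 9) (.splitN 279411 (.wt 1) (.split 7 (-90) (.wt 0)
    (.split 3 79 (.split 0 (-93) (.lin 7) (.split 1 106 (.split 2 55 (.splitN 286145 (.wt 0) (.wt
    0)) (.lin 9)) (.lin 8))) (.lin 6)))))) (.lin 7)) (.lin 6)))) (.lin 7))) (.split 3 61 (.split
    0 (-75) (.lin 7) (.split 1 88 (.split 2 37 (.split 7 (-55) (.split 3 51 (.lin 6) (.split 0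
    (-65) (.split 1 78 (.lin 8) (.split 2 27 (.lin 9) (.split 7 (-60) (.split 3 60 (.lin 6)
    (.split 0 (-74) (.split 1 87 (.lin 8) (.split 2 36 (.lin 9) (.splitN 531282 (.wt 0) (.wt
    0)))) (.lin 7))) (.split 3 52 (.split 0 (-66) (.lin 7) (.split 1 79 (.split 2 28 (.splitN
    1358974 (.wt 0) (.wt 0)) (.lin 9)) (.lin 8))) (.lin 6))))) (.lin 7))) (.split 3 43 (.split 0
    (-57) (.lin 7) (.wt 0)) (.lin 6))) (.lin 9)) (.lin 8))) (.lin 6))) (.wt 2)) (.lin 9)) (.lin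
    8))) (.lin 6))) (.wt 2)) (.wt 2))))) (.lin 6))) (.split 1 78 (.lin 0) (.split 7 (-64)
    (.splitN 743728 (.split 0 (-20631) (.div 0) (.split 1 8252 (.split 7 (-8237) (.lin 8) (.split
    3 33 (.split 2 10 (.splitN 279861 (.split 0 (-515) .sq (.split 7 (-515) (.lin 1) (.split 5
    (-5) (.split 2 1 (.split 3 24 (.lin 10) (.wt 2)) (.lin 10)) (.wt 2)))) (.wt 1)) (.lin 10))
    (.wt 2))) (.div 1))) (.wt 1)) (.lin 9)))))

def cert5_82 : Cert :=
  (.split 4 (-12) (.split 1 33 (.lin 0) (.split 0 (-29) (.split 3 24 (.lin 10) (.split 6 8 (.wt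
    6) (.split 1 42 (.lin 0) (.split 0 (-38) (.split 7 (-19) (.split 6 42 (.split 7 (-46) (.split
    3 33 (.lin 6) (.split 1 69 (.lin 8) (.split 2 9 (.lin 9) (.split 0 (-65) (.split 5 (-16)
    (.split 1 87 (.lin 4) (.split 3 51 (.lin 6) (.split 6 22 (.wt 2) cert5_82_1))) cert5_82_2)
    (.lin 12))))) (.split 2 19 (.split 5 (-16) (.split 1 60 (.lin 0) (.split 3 42 (.lin 10)
    (.splitN 32838 (.wt 1) (.split 6 26 (.split 2 4 (.split 7 (-29) (.lin 9) cert5_82_3) (.split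
    7 (-28) (.split 6 18 (.wt 2) (.split 0 (-56) (.split 2 10 (.split 7 (-37) (.split 4 (-77)
    (.wt 2) (.split 3 89 (.wt 6) (.split 1 123 (.lin 2) (.split 5 (-151) (.wt 6) (.split 1 259
    (.split 3 232 (.splitN 263974 (.wt 1) (.split 4 (-44) (.wt 0) (.split 3 196 (.split 5 (-49)
    (.wt 2) (.lin 0)) (.lin 6)))) (.lin 6)) (.lin 0)))))) (.lin 9)) (.lin 9)) (.lin 3))) (.lin
    9))) (.split 2 1 (.split 7 (-37) (.splitN 65575 .cand (.wt 1)) (.lin 9)) (.lin 9))))))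
    (.split 6 26 cert5_82_4 (.split 1 60 (.lin 0) (.split 2 1 (.split 7 (-37) (.splitN 49845
    (.split 1 548 (.split 4 (-507) (.lin 0) (.split 0 (-543) (.lin 3) (.splitN 26796 (.wt 3)
    (.split 3 84 (.split 0 (-111) (.lin 1) (.split 1 115 (.splitN 45806 (.split 5 (-5) (.split 1
    69 (.lin 0) (.split 0 (-102) (.lin 1) (.split 3 33 (.lin 6) (.split 4 (-66) (.lin 0) (.split
    3 67 (.split 0 (-84) (.lin 1) (.split 1 97 (.split 4 (-48) (.lin 0) (.splitN 37427 (.wt 0)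
    (.wt 6))) (.lin 2))) (.wt 0)))))) (.wt 1)) (.wt 1)) (.lin 2))) (.wt 2))))) (.div 1)) (.wt 1))
    (.lin 9)) (.lin 9))))) (.lin 9))) (.split 1 69 (.lin 0) (.split 0 (-65) (.split 7 (-46)
    (.split 5 (-16) (.split 1 87 (.lin 0) (.split 3 42 (.lin 10) cert5_82_9)) (.splitN 415110
    (.split 2 2290 (.split 0 (-635) .sq (.split 2 568 (.split 1 646 (.split 7 (-623) (.lin 8)
    (.splitN 362491 (.split 0 (-592) .sq (.split 1 601 cert5_82_10 (.lin 4))) (.wt 1))) (.lin 4))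
    (.lin 3))) (.div 2)) (.wt 1))) (.lin 9)) (.lin 3)))) (.lin 9)) (.lin 3))))) (.lin 3)))
    (.split 6 24 (.split 4 (-5) (.split 1 24 (.lin 0) (.split 0 (-20) (.split 3 15 (.lin 10)
    (.split 7 (-28) (.split 3 24 (.lin 6) (.split 1 42 (.lin 8) (.split 2 9 (.lin 9) (.split 0
    (-38) (.split 6 10 (.wt 2) (.split 5 (-16) (.wt 6) (.split 7 (-64) (.split 3 60 (.lin 6)
    (.split 5 (-8) (.wt 2) (.splitN 150462 .cand (.wt 1)))) (.split 3 61 (.split 0 (-75) (.lin 7)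
    (.split 0 (-66) (.lin 12) (.split 5 (-10) (.wt 1) (.split 3 44 (.split 7 (-47) (.lin 6)
    (.split 0 (-57) (.lin 7) (.split 3 36 (.split 7 (-38) (.lin 6) (.split 3 28 (.split 7 (-29)
    (.lin 6) (.split 0 (-39) (.lin 7) (.wt 0))) (.wt 2))) (.wt 2)))) (.wt 2))))) (.lin 6)))))
    (.lin 12))))) (.split 0 (-30) (.lin 12) (.split 7 (-11) (.split 1 33 (.lin 8) (.split 0 (-29)
    (.split 5 (-60) (.wt 1) (.split 3 79 (.split 2 7 (.split 6 16 (.lin 3) (.split 3 39 (.split 5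
    (-19) (.wt 1) (.split 1 43 (.split 3 25 (.splitN 545905 (.split 5 (-12) (.wt 1) (.split 1 34
    (.split 3 16 (.splitN 138684 (.wt 0) (.wt 0)) (.lin 6)) (.lin 0))) (.wt 5)) (.lin 6)) (.lin
    0))) (.wt 0))) (.wt 1)) (.lin 6))) (.lin 12))) (.wt 3))))) (.lin 3))) (.split 3 25 (.split 5
    (-32) (.lin 6) (.split 0 (-39) (.lin 7) (.split 2 19 (.split 7 (-83) (.lin 1) (.wt 3)) (.lin
    10)))) (.wt 0))) (.split 1 33 (.lin 0) (.split 7 (-28) (.split 4 (-5) (.split 1 42 (.lin 0)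
    (.split 0 (-38) (.split 3 15 (.lin 10) cert5_82_13) (.lin 3))) (.wt 0)) (.lin 9)))))

theorem check5_82 :
    check task5 cert5_82
      [(7, ⟨none, some (-11)⟩), (7, ⟨some (16), none⟩), (1, ⟨some (1), none⟩), (7, ⟨some (7), none⟩), (7, ⟨none, some (-2)⟩), (5, ⟨none, some (-4)⟩), (8, ⟨some (8), none⟩), (8, ⟨none, some (-10)⟩)] ⟨some (13680), none⟩ = true := by
  decide +kernel

def cert5_83 : Cert :=
  (.wt 1)

theorem check5_83 :
    check task5 cert5_83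
      [(7, ⟨none, some (-20)⟩), (7, ⟨some (16), none⟩), (1, ⟨none, none⟩), (7, ⟨some (7), none⟩), (7, ⟨none, some (-2)⟩), (5, ⟨some (5), none⟩), (8, ⟨some (8), none⟩), (8, ⟨none, some (-10)⟩)] ⟨some (3960), some (16920)⟩ = true := by
  decide +kernel

def cert5_84 : Cert :=
  (.lin 2)

theorem check5_84 :
    check task5 cert5_84
      [(7, ⟨none, some (-29)⟩), (7, ⟨some (16), some (16)⟩), (1, ⟨none, some (-8)⟩), (7, ⟨some (7), none⟩), (7, ⟨none, some (-2)⟩), (5, ⟨some (5), none⟩), (8, ⟨some (8), none⟩), (8, ⟨none, some (-10)⟩)] ⟨some (20160), none⟩ = true := by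
  decide +kernel

def cert5_85 : Cert :=
  (.wt 1)

theorem check5_85 :
    check task5 cert5_85
      [(7, ⟨none, some (-29)⟩), (7, ⟨some (25), none⟩), (1, ⟨none, some (-8)⟩), (7, ⟨some (7), none⟩), (7, ⟨none, some (-20)⟩), (5, ⟨some (5), none⟩), (8, ⟨some (8), none⟩), (8, ⟨none, some (-10)⟩)] ⟨some (20160), some (33120)⟩ = true := by
  decide +kernel

def cert5_86 : Cert :=
  (.lin 2)

theorem check5_86 :
    check task5 cert5_86
      [(7, ⟨none, some (-38)⟩), (7, ⟨some (25), some (25)⟩), (1, ⟨none, some (-8)⟩), (7, ⟨some (7), none⟩), (7, ⟨none, some (-20)⟩), (5, ⟨some (5), none⟩), (8, ⟨some (8), none⟩), (8, ⟨none, some (-19)⟩)] ⟨some (36360), none⟩ = true := by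
  decide +kernel

def cert5_87 : Cert :=
  (.lin 9)

theorem check5_87 :
    check task5 cert5_87
      [(7, ⟨none, some (-38)⟩), (7, ⟨some (34), none⟩), (1, ⟨none, some (-8)⟩), (7, ⟨some (7), none⟩), (7, ⟨none, some (-20)⟩), (5, ⟨some (5), none⟩), (8, ⟨some (8), some (17)⟩), (8, ⟨none, some (-19)⟩)] ⟨some (36360), none⟩ = true := by
  decide +kernel

def cert5_88 : Cert :=
  (.wt 2)

theorem check5_88 :
    check task5 cert5_88
      [(7, ⟨none, some (-38)⟩), (7, ⟨some (34), none⟩), (1, ⟨none, some (-8)⟩), (7, ⟨some (7), some (7)⟩), (7, ⟨none, some (-20)⟩), (5, ⟨some (5), none⟩), (8, ⟨some (26), none⟩), (8, ⟨none, some (-19)⟩)] ⟨some (36360), none⟩ = true := by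
  decide +kernel

def cert5_89_0 : Cert :=
  (.split 3 94 (.split 6 146 (.wt 2) (.split 4 (-119) (.split 0 (-209) (.split 2 (-62) (.split 1
    195 (.lin 11) (.splitN 127367 .sq (.splitN 928526 (.split 2 (-5153) (.div 2) (.split 0
    (-5340) (.lin 1) (.split 1 5326 (.split 6 5282 (.splitN 821813 (.split 2 (-4559) (.div 2)
    (.split 0 (-4746) (.lin 1) (.split 6 4688 (.splitN 401617 (.split 2 (-2219) (.div 2) (.split
    0 (-2406) (.lin 1) (.split 1 2392 (.split 6 2348 (.split 7 (-74) (.wt 0) (.split 4 (-137)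
    (.split 2 (-80) (.splitN 354019 (.split 2 (-1967) (.div 2) (.split 0 (-2136) (.lin 1) (.split
    6 2078 (.split 7 (-72) (.wt 0) (.split 4 (-146) (.split 2 (-89) (.split 3 58 (.wt 2) (.split
    4 (-164) (.split 0 (-227) (.split 1 213 (.lin 11) (.splitN 161279 .sq (.splitN 317218 (.split
    2 (-1751) (.div 2) (.split 0 (-1911) (.lin 1) (.split 6 1835 (.split 7 (-60) (.wt 0) (.split
    4 (-173) (.split 3 62 (.wt 2) (.split 6 315 (.wt 2) (.split 4 (-353) (.split 2 (-269) .sq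
    (.lin 9)) (.lin 6)))) (.lin 6))) (.lin 7)))) (.wt 3)))) (.lin 7)) (.lin 6))) (.lin 9)) (.lin
    6))) (.lin 7)))) (.wt 3)) (.lin 9)) (.lin 6))) (.lin 7)) (.lin 2)))) (.wt 3)) (.lin 7))))
    (.wt 0)) (.lin 7)) (.lin 2)))) (.wt 0)))) (.lin 9)) (.lin 7)) (.lin 6))) (.split 0 (-191)
    (.split 4 (-101) (.split 4 (-119) (.split 6 90 (.wt 2) (.split 0 (-209) (.split 6 204 (.split
    2 (-153) (.lin 9) (.split 3 105 (.wt 2) (.split 4 (-128) (.split 3 107 (.wt 2) (.split 4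
    (-137) (.split 0 (-227) (.split 1 213 (.lin 11) (.splitN 141299 .sq (.split 7 (-69) (.split 2
    (-126) (.lin 9) (.splitN 241395 (.split 0 (-6681) (.div 0) (.split 3 6586 (.split 1 6802
    (.split 1 2672 (.split 4 (-2712) (.lin 0) (.split 3 2689 (.splitN 228389 (.split 1 2528
    (.split 4 (-2568) (.lin 0) (.split 3 2545 (.splitN 215520 (.split 1 2384 (.split 4 (-2424)
    (.lin 0) (.split 3 2401 (.split 3 140 (.wt 0) (.split 4 (-164) (.split 0 (-254) (.split 1 240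
    (.lin 11) (.splitN 184850 .sq (.splitN 204739 (.split 1 2240 (.split 0 (-2253) (.lin 4)
    (.split 3 2140 (.split 0 (-373) (.wt 0) (.split 3 277 (.split 1 358 (.wt 0) (.lin 4)) (.lin
    1))) (.lin 7))) (.div 1)) (.wt 0)))) (.lin 7)) (.lin 6))) (.lin 6))) (.div 1)) (.wt 3)) (.lin
    6))) (.div 1)) (.wt 0)) (.lin 6))) (.div 1)) (.lin 2)) (.lin 1))) (.wt 0))) (.split 4 (-164)
    (.split 2 (-35) (.splitN 2291603 (.split 1 25460 (.split 4 (-25527) (.lin 0) (.split 3 25477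
    (.splitN 729589 (.split 1 8072 (.split 4 (-8139) (.lin 0) (.split 3 8089 (.split 3 120 (.wt
    2) (.split 4 (-173) (.split 6 101 (.wt 2) (.split 0 (-245) (.split 2 (-44) (.split 1 231
    (.lin 11) (.split 3 126 (.wt 2) (.split 4 (-191) (.splitN 183716 .sq (.splitN 577688 (.split
    7 (-63) (.wt 3) (.split 2 (-53) (.split 0 (-673) .sq (.split 3 556 (.split 1 763 (.split 1
    655 (.split 3 137 (.wt 2) (.split 4 (-209) (.split 0 (-263) (.split 3 146 (.wt 2) (.split 6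
    124 (.wt 2) (.split 4 (-236) (.split 0 (-290) (.split 1 267 (.lin 8) (.split 2 (-71) (.splitN
    257399 .sq (.split 7 (-53) (.wt 0) (.split 2 (-80) (.split 3 159 (.wt 2) (.split 1 285 (.lin
    2) (.split 4 (-254) (.splitN 280349 .sq (.split 3 167 (.wt 0) (.split 0 (-308) (.split 3 173
    (.wt 0) (.split 1 303 (.lin 2) (.split 4 (-272) (.splitN 317285 .sq (.splitN 344617 (.split 3
    219 (.wt 0) (.split 1 348 (.lin 2) (.split 4 (-317) .sq (.lin 6)))) (.wt 3))) (.lin 6))))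
    (.lin 1)))) (.lin 6)))) (.lin 9)))) (.lin 9))) (.lin 7)) (.lin 6)))) (.lin 7)) (.lin 6)))
    (.lin 4)) (.lin 2)) (.lin 1))) (.lin 9))) (.wt 3))) (.lin 6)))) (.lin 9)) (.lin 7))) (.lin
    6))) (.lin 6))) (.div 1)) (.wt 3)) (.lin 6))) (.div 1)) (.wt 1)) (.lin 9)) (.lin 6))))) (.lin
    7)) (.lin 6))) (.lin 6)))) (.split 4 (-227) (.split 0 (-317) (.split 2 (-116) (.split 1 303
    (.lin 11) (.splitN 312047 .sq (.splitN 365682 (.split 0 (-10101) (.div 0) (.split 6 9989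
    (.split 1 4040 (.split 0 (-4053) (.lin 4) (.split 7 (-63) (.wt 0) (.split 4 (-263) (.split 2
    (-152) (.splitN 339335 .sq (.splitN 347003 (.split 1 3824 (.split 0 (-1424) (.split 1 1410
    (.lin 4) (.split 4 (-1370) .sq (.lin 8))) (.wt 1)) (.div 1)) (.wt 1))) (.lin 9)) (.lin 6))))
    (.div 1)) (.lin 7))) (.wt 1)))) (.lin 9)) (.lin 7)) (.lin 6))) (.lin 7))) (.lin 10)) (.lin
    6)) (.lin 7)))

def cert5_89_1 : Cert :=
  (.split 3 130 (.split 1 223 (.split 1 205 (.split 3 64 (.wt 2) (.split 4 (-101) (.split 5 35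
    (.wt 2) (.split 0 (-164) (.split 4 (-119) (.splitN 316270 (.split 5 1750 (.split 0 (-1040)
    (.wt 2) (.split 5 914 (.split 0 (-920) (.wt 2) (.split 5 788 (.split 3 75 (.wt 2) (.split 0
    (-173) (.split 4 (-128) (.split 0 (-759) (.wt 2) (.split 5 626 (.split 0 (-716) (.wt 2)
    (.split 5 581 (.split 3 79 (.wt 2) (.split 4 (-137) (.split 0 (-629) (.wt 2) (.split 5 482
    (.split 5 51 (.wt 2) (.split 0 (-200) (.split 4 (-155) (.split 0 (-514) (.wt 2) (.split 5 365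
    (.split 0 (-475) (.wt 2) (.split 5 329 (.split 3 90 (.wt 2) (.split 4 (-164) (.split 0 (-437)
    (.wt 2) (.split 5 284 (.split 0 (-416) (.wt 2) (.split 5 257 (.split 5 68 (.wt 2) (.split 0
    (-227) (.split 4 (-182) (.split 0 (-372) (.wt 2) (.split 5 221 (.split 0 (-352) (.wt 2)
    (.split 5 194 (.split 0 (-335) (.wt 2) (.split 5 176 (.split 3 105 (.wt 2) (.split 5 167
    (.split 0 (-314) (.wt 2) (.split 5 149 (.split 0 (-298) (.wt 2) (.split 5 131 (.split 4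
    (-246) (.lin 12) (.splitN 136891 (.wt 6) (.split 6 54 (.wt 0) (.split 0 (-245) (.split 1 168
    (.lin 11) (.split 5 122 (.splitN 150359 (.wt 6) (.split 7 (-53) (.wt 0) (.split 4 (-200)
    (.split 2 (-17) (.split 6 69 (.wt 0) (.split 5 113 (.split 2 (-26) (.splitN 160096 (.wt 6)
    (.split 0 (-267) (.wt 0) (.split 3 115 (.split 5 86 (.wt 0) (.lin 1)) (.lin 1)))) (.lin 9))
    (.lin 6))) (.lin 9)) (.lin 6)))) (.lin 4))) (.lin 7))))) (.lin 1))) (.lin 1))) (.lin 1)))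
    (.lin 1))) (.lin 1))) (.lin 1))) (.lin 10)) (.lin 1))) (.lin 1))) (.lin 1))) (.lin 10)))
    (.lin 1))) (.lin 1))) (.lin 10)) (.lin 1))) (.lin 1))) (.lin 10))) (.lin 1))) (.lin 1)))
    (.lin 10)) (.lin 1))) (.lin 1))) (.lin 1))) (.div 5)) (.wt 3)) (.lin 10)) (.lin 1))) (.lin
    10))) (.lin 11)) (.lin 2)) (.split 0 (-209) (.split 1 186 (.lin 2) (.split 4 (-137) (.split 4
    (-164) (.splitN 890851 (.split 1 9872 (.split 3 9817 (.split 0 (-897) .sq (.split 3 817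
    (.split 1 916 (.split 5 707 (.splitN 648114 (.split 0 (-749) .sq (.split 3 664 (.split 1 763
    (.split 5 554 (.split 1 718 (.split 5 112 (.split 6 56 (.wt 2) (.split 5 48 (.split 3 151
    (.wt 2) (.split 0 (-236) (.split 1 213 (.lin 2) (.split 4 (-182) (.splitN 166769 .sq (.split
    7 (-62) (.wt 0) (.split 3 171 (.wt 2) (.split 0 (-254) (.split 4 (-209) (.split 3 188 (.wt 2)
    (.split 0 (-272) (.split 1 249 (.lin 2) (.split 4 (-227) (.splitN 232982 .sq (.split 7 (-53)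
    (.wt 0) (.split 2 (-17) (.splitN 297734 (.split 3 218 (.wt 0) (.split 0 (-308) (.split 1 285
    (.lin 2) (.split 4 (-263) .sq (.lin 6))) (.lin 1))) (.wt 3)) (.lin 9)))) (.lin 6))) (.lin
    1))) (.lin 6)) (.lin 1))))) (.lin 6))) (.lin 1))) (.split 0 (-236) (.split 4 (-182) (.split 3
    628 (.splitN 434856 (.split 0 (-581) .sq (.split 3 475 (.split 1 574 (.split 1 529 (.split 7
    (-55) (.split 2 (-27) (.lin 9) (.split 3 148 (.wt 2) (.split 0 (-263) (.split 1 213 (.lin 2)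
    (.split 4 (-200) (.splitN 187199 .sq (.split 2 (-14) (.wt 0) (.split 6 71 (.wt 0) (.lin 9))))
    (.lin 6))) (.lin 1)))) (.split 4 (-200) (.split 2 (-17) (.splitN 264949 (.split 0 (-403) .sq
    (.split 3 286 (.split 1 367 (.split 6 63 (.wt 2) (.split 0 (-254) (.split 2 (-26) (.split 1
    204 (.lin 11) (.splitN 174563 .sq (.splitN 217269 (.split 0 (-324) .sq (.split 3 196 (.split
    1 277 (.splitN 197831 (.split 0 (-292) .sq (.split 3 169 (.split 1 250 (.split 5 86 (.split 3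
    133 (.wt 0) (.split 4 (-218) (.splitN 184562 .sq (.wt 5)) (.lin 6))) (.lin 1)) (.lin 2))
    (.lin 1))) (.wt 3)) (.lin 2)) (.lin 1))) (.wt 3)))) (.lin 9)) (.lin 7))) (.lin 2)) (.lin 1)))
    (.wt 3)) (.lin 9)) (.lin 6))) (.lin 4)) (.lin 2)) (.lin 1))) (.wt 3)) (.lin 7)) (.lin 6))
    (.lin 1)))) (.split 0 (-299) (.split 3 574 (.split 4 (-254) (.splitN 224333 .sq (.split 6 55
    (.wt 0) (.split 7 (-55) (.wt 0) (.split 2 (-17) (.splitN 237428 (.split 3 167 (.wt 0) (.split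
    4 (-299) .sq (.lin 6))) (.wt 3)) (.lin 9))))) (.lin 10)) (.lin 1)) (.lin 1))) (.lin 4)) (.lin
    1)) (.lin 2)) (.lin 1))) (.wt 3)) (.lin 1)) (.lin 2)) (.lin 1))) (.lin 2)) (.div 1)) (.wt 3))
    (.lin 10)) (.lin 0))) (.lin 1)))

def cert5_89_2 : Cert :=
  (.splitN 493886 (.split 0 (-666) .sq (.split 3 565 (.split 1 691 (.split 3 185 (.split 1 304
    (.split 1 286 (.splitN 315849 (.split 0 (-515) .sq (.split 5 374 (.split 4 (-480) (.lin 3)
    (.split 5 92 (.split 3 119 (.split 1 241 (.split 1 223 (.split 4 (-282) (.lin 0) (.split 3 61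
    (.wt 2) (.split 4 (-119) (.split 1 159 (.lin 11) (.split 5 23 (.wt 2) (.split 0 (-191)
    (.split 4 (-128) (.split 7 (-55) (.split 2 (-54) (.lin 9) (.split 3 77 (.wt 2) (.split 4
    (-137) (.split 1 168 (.lin 11) (.split 5 34 (.wt 2) (.split 0 (-209) (.split 4 (-146) (.split
    3 82 (.wt 2) (.split 4 (-155) (.split 1 177 (.lin 11) (.splitN 120437 .sq (.split 7 (-62)
    (.wt 0) (.split 4 (-164) (.split 2 (-35) (.splitN 123857 .sq (.split 3 91 (.wt 0) (.split 0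
    (-227) (.split 4 (-173) (.splitN 136403 .sq (.wt 3)) (.lin 6)) (.lin 1)))) (.lin 9)) (.lin
    6))))) (.lin 6))) (.lin 6)) (.lin 4)))) (.lin 6)))) (.split 4 (-146) (.split 2 (-44) (.splitN
    131273 (.wt 1) (.split 5 59 (.split 3 72 (.wt 2) (.split 4 (-155) (.split 5 45 (.split 4
    (-219) (.lin 6) (.split 3 84 (.wt 2) (.split 0 (-209) (.split 3 89 (.wt 2) (.split 4 (-173)
    (.split 6 92 (.wt 2) (.split 0 (-227) (.split 2 (-53) (.split 1 195 (.lin 11) (.splitN 187524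
    (.split 5 36 (.splitN 177765 (.wt 1) (.split 3 104 (.wt 0) (.split 4 (-191) (.split 0 (-253)
    (.wt 0) (.split 4 (-201) (.lin 12) (.split 3 108 (.wt 0) (.split 6 98 (.wt 0) (.lin 6)))))
    (.lin 6)))) .cand) (.wt 3))) (.lin 9)) (.lin 7))) (.lin 6))) (.lin 1)))) (.split 0 (-218)
    (.split 4 (-173) (.split 3 97 (.splitN 172466 .cand (.wt 3)) (.split 0 (-245) (.split 1 195
    (.lin 2) (.split 4 (-200) (.splitN 164150 .sq (.split 6 101 (.splitN 172654 (.split 0 (-262)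
    .sq (.split 1 205 (.split 6 89 (.wt 0) (.split 3 106 (.split 2 (-53) (.split 5 50 (.wt 0)
    (.lin 1)) (.lin 9)) (.lin 7))) (.lin 4))) (.wt 3)) (.wt 1))) (.lin 6))) (.lin 1))) (.lin 6))
    (.lin 1))) (.lin 6))) (.split 0 (-227) (.split 4 (-182) (.splitN 178100 .cand (.wt 3)) (.lin
    6)) (.lin 1)))) (.lin 9)) (.lin 6))) (.lin 6)) (.lin 4)))) (.lin 6)))) (.lin 11)) (.lin 2))
    (.split 0 (-218) (.split 0 (-236) (.split 1 213 (.lin 11) (.split 4 (-155) (.split 4 (-173)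
    (.splitN 158039 .sq (.split 7 (-58) (.wt 0) (.split 2 (-35) (.splitN 236583 (.split 7 (-54)
    (.wt 3) (.split 4 (-191) (.split 2 (-44) (.split 0 (-352) .sq (.split 5 42 (.split 0 (-327)
    (.lin 1) (.split 4 (-282) (.lin 6) (.split 5 32 (.split 5 27 (.splitN 204117 (.wt 1) (.split
    3 142 (.wt 0) (.split 0 (-263) (.split 4 (-218) (.wt 2) (.lin 6)) (.lin 1)))) (.splitN 220440
    .cand (.wt 1))) (.split 0 (-254) (.split 4 (-209) (.splitN 183023 .sq (.split 3 163 (.split 1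
    268 (.split 3 153 (.split 6 93 (.split 4 (-237) (.lin 6) (.split 1 241 (.wt 0) (.lin 8)))
    (.wt 1)) (.wt 1)) (.lin 2)) (.wt 1))) (.lin 6)) (.lin 1))))) (.split 0 (-263) (.split 4
    (-218) (.splitN 192338 .sq (.wt 1)) (.lin 6)) (.lin 1)))) (.lin 9)) (.lin 6))) (.wt 3)) (.lin
    9)))) (.lin 6)) (.lin 0))) (.lin 7)) (.lin 1))) (.split 4 (-164) (.split 0 (-227) (.split 0
    (-245) (.split 4 (-182) (.splitN 139409 .sq (.split 7 (-62) (.wt 0) (.split 2 (-35) (.split 3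
    62 (.wt 2) (.split 4 (-200) (.split 1 159 (.lin 11) (.split 5 347 (.splitN 150812 .sq (.split
    7 (-52) (.wt 1) (.split 2 (-44) (.split 3 154 (.split 1 259 (.split 3 70 (.wt 0) (.split 0
    (-263) (.split 1 168 (.lin 2) (.split 4 (-218) (.splitN 172493 .sq (.wt 1)) (.lin 6))) (.lin
    1))) (.lin 2)) (.wt 2)) (.lin 9)))) (.lin 4))) (.lin 6))) (.lin 9)))) (.lin 6)) (.lin 4))
    (.lin 1)) (.lin 0)))) (.lin 1))) (.wt 3)) (.lin 11)) (.lin 2)) (.split 0 (-281) (.split 0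
    (-299) (.split 1 276 (.lin 11) (.split 4 (-236) (.splitN 268037 .sq (.split 7 (-54) (.wt 0)
    (.split 4 (-254) (.split 2 (-44) (.wt 3) (.lin 9)) (.lin 6)))) (.lin 6))) (.lin 7)) (.lin
    1))) (.lin 2)) (.lin 1))) (.wt 3))

def cert5_89_3 : Cert :=
  (.split 7 (-73) (.splitN 105209 .sq (.splitN 173984 (.split 0 (-328) .sq (.split 2 (-171) (.lin
    1) (.split 3 214 (.split 1 484 (.split 1 304 (.split 3 187 (.split 6 242 (.split 7 (-99) (.wt
    3) (.split 4 (-110) (.split 2 (-26) (.splitN 132046 (.split 3 61 (.wt 0) (.split 4 (-119)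
    (.split 5 77 (.split 7 (-90) (.wt 3) (.split 4 (-128) (.split 2 (-35) (.splitN 113507 .sq
    (.split 3 77 (.wt 0) (.split 0 (-218) (.split 1 195 (.lin 11) (.split 4 (-137) .sq (.lin 6)))
    (.lin 7)))) (.lin 9)) (.lin 6))) (.wt 1)) (.lin 6))) (.wt 3)) (.lin 9)) (.lin 6))) (.lin 7))
    (.lin 7)) (.lin 4)) (.lin 2)) (.lin 1)))) (.wt 3))) (.split 4 (-137) (.split 2 (-53) (.splitN
    113084 .sq (.splitN 331511 (.split 0 (-509) .sq (.split 1 484 (.split 3 153 (.split 5 86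
    (.split 6 221 (.split 4 (-408) (.lin 6) (.split 0 (-453) (.lin 7) (.split 1 448 (.split 2
    (-171) (.lin 9) (.split 1 367 (.split 3 106 (.split 1 340 (.split 1 322 (.split 7 (-55)
    (.splitN 161572 (.split 0 (-293) .sq (.split 1 268 (.split 4 (-237) (.lin 12) (.split 5 44
    (.split 6 165 (.split 2 (-108) (.lin 9) (.split 3 65 (.wt 2) (.split 4 (-146) (.splitN 117719
    .sq (.splitN 151261 (.split 7 (-64) (.wt 5) (.split 4 (-155) (.split 2 (-62) (.split 0 (-262)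
    .sq (.split 1 232 (.split 4 (-201) (.lin 12) (.split 5 32 (.split 3 76 (.wt 2) (.split 0
    (-218) (.split 1 195 (.lin 2) (.split 4 (-164) (.split 6 152 (.splitN 139931 .sq (.splitN
    142232 (.split 3 95 (.wt 0) (.split 4 (-182) .sq (.lin 6))) (.wt 3))) (.lin 6)) (.lin 6)))
    (.lin 1))) (.split 0 (-227) (.split 3 97 (.split 4 (-173) (.split 6 143 (.splitN 140048 .sq
    (.wt 0)) (.lin 6)) (.lin 6)) (.lin 6)) (.lin 1)))) (.lin 4))) (.lin 9)) (.lin 6))) (.wt 3)))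
    (.lin 6)))) (.split 4 (-191) (.split 1 204 (.lin 8) (.split 2 (-107) .sq (.lin 9))) (.lin
    6))) (.split 0 (-218) (.split 4 (-164) (.split 6 188 (.splitN 131615 .sq (.splitN 138951
    (.split 3 66 (.wt 0) (.split 0 (-236) (.split 4 (-173) .sq (.lin 6)) (.lin 7))) (.wt 1)))
    (.lin 6)) (.lin 6)) (.lin 1)))) (.lin 4))) (.wt 3)) (.split 4 (-155) (.split 2 (-71) (.splitN
    239839 (.split 0 (-396) .sq (.split 5 44 (.split 6 165 (.split 0 (-309) (.lin 7) (.split 2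
    (-117) (.lin 9) (.split 1 268 (.split 3 83 (.split 1 241 (.split 4 (-237) (.lin 6) (.split 5
    32 (.split 3 64 (.wt 2) (.split 4 (-164) (.split 6 128 (.wt 2) (.split 4 (-182) (.split 0
    (-227) (.split 2 (-89) (.splitN 181673 (.split 5 23 (.wt 1) (.split 6 136 (.wt 2) (.split 4
    (-200) (.split 0 (-245) (.split 1 213 (.lin 8) .sq) (.lin 7)) (.lin 6)))) (.wt 3)) (.lin 9))
    (.lin 7)) (.lin 6))) (.lin 6))) (.split 0 (-218) (.split 4 (-173) (.splitN 174999 .cand (.wt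
    3)) (.lin 6)) (.lin 1)))) (.lin 2)) (.split 0 (-227) (.split 1 204 (.lin 2) (.split 4 (-182)
    (.splitN 155564 .sq (.split 5 32 (.split 6 138 (.split 4 (-228) (.lin 6) (.split 1 250
    (.split 5 27 (.wt 2) (.splitN 186066 .cand (.wt 1))) (.lin 8))) (.split 4 (-209) (.split 0
    (-254) (.split 1 222 (.lin 8) (.split 2 (-98) (.splitN 198368 .sq (.wt 3)) (.lin 9))) (.lin
    7)) (.lin 6))) (.split 0 (-245) (.split 4 (-200) (.splitN 172088 .sq (.wt 1)) (.lin 6)) (.lin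
    1)))) (.lin 6))) (.lin 1))) (.lin 11)))) (.split 4 (-209) (.split 0 (-254) (.split 2 (-125)
    (.split 1 231 (.lin 11) (.splitN 212912 .sq (.wt 1))) (.lin 9)) (.lin 7)) (.lin 6))) (.split
    4 (-182) (.splitN 178212 .cand (.wt 1)) (.lin 6)))) (.wt 3)) (.lin 9)) (.lin 6))) (.lin 11))
    (.lin 2)) (.split 0 (-254) (.split 1 231 (.lin 11) (.split 4 (-191) (.splitN 186956 .sq
    (.splitN 236199 (.split 7 (-60) (.wt 0) (.split 2 (-62) (.split 5 31 (.split 6 170 (.split 7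
    (-53) (.wt 0) .cand) (.wt 1)) (.wt 1)) (.lin 9))) (.wt 1))) (.lin 6))) (.lin 7))) (.lin 11)))
    (.lin 8)))) (.split 4 (-245) (.split 0 (-308) (.split 2 (-161) (.split 1 285 (.lin 11)
    (.splitN 319148 .sq (.wt 1))) (.lin 9)) (.lin 7)) (.lin 6))) (.split 0 (-272) (.split 4
    (-209) (.splitN 180476 .sq (.wt 1)) (.lin 6)) (.lin 4))) (.split 0 (-299) (.split 1 276 (.lin
    11) (.split 4 (-236) (.splitN 266336 .sq (.wt 1)) (.lin 6))) (.lin 7))) (.lin 4))) (.wt 1)))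
    (.lin 9)) (.lin 6)))

def cert5_89_4 : Cert :=
  (.split 3 58 (.split 6 69 (.wt 2) (.split 0 (-119) (.splitN 155813295 (.split 1 1731248 (.split
    6 1731221 (.split 6 74 (.wt 2) (.split 0 (-128) (.split 1 105 (.lin 11) (.splitN 8781187
    (.split 0 (-2960) .sq (.split 1 2932 (.split 6 2906 (.splitN 4432819 (.split 0 (-2099) .sq
    (.split 5 2012 (.split 1 2068 (.split 6 2042 (.splitN 3668209 (.split 0 (-1909) .sq (.split 6
    1853 (.split 7 (-292) (.split 0 (-353) (.split 1 330 (.lin 2) (.split 6 304 (.lin 9) (.splitN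
    420353 .sq (.wt 0)))) (.lin 1)) (.split 7 (-116) (.split 0 (-173) (.split 1 150 (.lin 2)
    (.split 6 124 (.lin 9) (.splitN 86633 .sq (.splitN 122565 (.split 1 1340 (.split 6 1313
    (.split 4 (-1341) (.div 4) (.split 5 1472 (.split 5 670 (.splitN 108174 (.split 2 (-599)
    (.div 2) (.split 6 881 (.split 3 37 (.wt 0) (.split 0 (-191) (.split 1 168 (.lin 2) (.split 4
    (-74) (.splitN 102509 .sq (.wt 0)) (.lin 10))) (.lin 1))) (.lin 9))) (.wt 3)) (.div 5)) (.lin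
    6))) (.lin 11)) (.div 1)) (.wt 0))))) (.lin 1)) (.split 6 385 (.split 1 430 (.split 3 26 (.wt
    2) (.split 0 (-137) (.split 1 114 (.lin 11) (.split 4 (-65) (.split 6 84 (.wt 2) (.split 0
    (-146) (.split 1 123 (.lin 11) (.splitN 647280 (.split 0 (-784) .sq (.split 5 689 (.split 7
    (-78) (.split 3 35 (.wt 2) (.split 0 (-155) (.split 4 (-74) (.split 5 30 (.wt 2) (.split 4
    (-83) (.split 5 33 (.wt 2) (.split 0 (-173) (.split 4 (-92) (.splitN 111483 (.split 6 164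
    (.wt 2) (.split 4 (-146) (.split 2 (-62) (.split 1 213 (.lin 11) .sq) (.lin 9)) (.lin 6)))
    (.wt 3)) (.lin 10)) (.lin 1))) (.lin 10))) (.lin 10)) (.lin 1))) (.split 4 (-74) (.split 2
    (-17) (.split 6 90 (.wt 2) (.split 4 (-83) (.split 0 (-155) (.split 2 (-26) (.split 1 132
    (.lin 11) (.splitN 263573 (.split 0 (-474) .sq (.split 5 365 (.split 5 338 (.split 6 192
    (.split 1 241 (.split 3 36 (.wt 2) (.split 4 (-92) (.split 0 (-164) (.split 5 30 (.wt 2)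
    (.split 4 (-101) (.split 5 33 (.wt 2) (.split 4 (-110) (.split 6 111 (.wt 2) (.split 4 (-128)
    (.split 0 (-200) (.split 2 (-44) (.split 1 159 (.lin 11) (.splitN 103022 .sq (.split 7 (-61)
    (.wt 0) (.split 2 (-62) (.split 5 44 (.wt 2) (.split 4 (-155) (.split 6 125 (.wt 2) (.split 4
    (-173) (.split 0 (-227) (.split 2 (-80) (.split 1 177 (.lin 11) (.splitN 143963 .sq (.wt 3)))
    (.lin 9)) (.lin 7)) (.lin 6))) (.lin 6))) (.lin 9))))) (.lin 9)) (.lin 7)) (.lin 6))) (.lin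
    6))) (.lin 6))) (.lin 7)) (.lin 6))) (.lin 11)) (.split 4 (-182) (.split 0 (-254) (.split 2
    (-125) (.split 1 231 (.lin 11) (.splitN 209699 .sq (.wt 0))) (.lin 9)) (.lin 7)) (.lin 6)))
    (.lin 4)) (.lin 1))) (.wt 3))) (.lin 9)) (.lin 7)) (.lin 6))) (.lin 9)) (.lin 6))) (.lin 1)))
    (.wt 3))) (.lin 7))) (.lin 10))) (.lin 7))) (.lin 11)) (.split 4 (-326) (.split 0 (-434)
    (.split 2 (-278) (.split 1 411 (.lin 11) (.splitN 693926 .sq (.wt 0))) (.lin 9)) (.lin 7))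
    (.lin 6))))) (.lin 7))) (.wt 3)) (.lin 7)) (.lin 4)) (.lin 1))) (.wt 3)) (.lin 7)) (.lin 4)))
    (.wt 3))) (.lin 7))) (.lin 11)) (.div 1)) (.wt 3)) (.lin 7))) (.split 0 (-137) (.split 1 114
    (.lin 2) (.split 4 (-92) (.split 6 114 (.split 2 (-63) (.lin 9) (.split 7 (-101) (.lin 9)
    (.splitN 64283 (.wt 1) (.split 7 (-73) (.split 0 (-164) (.split 1 141 (.lin 2) (.split 2
    (-36) (.lin 9) (.split 6 79 (.lin 9) (.splitN 398085 (.split 0 (-11001) (.div 0) (.split 3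
    10897 (.split 1 11032 (.split 1 4400 (.split 3 4318 (.splitN 210202 (.split 1 2312 (.split 3
    2230 (.split 3 64 (.wt 2) (.split 0 (-173) (.split 4 (-101) (.splitN 197537 (.split 0 (-381)
    .sq (.split 3 277 (.split 1 412 (.split 1 385 (.split 5 230 (.splitN 164883 (.split 3 75 (.wt
    2) (.split 4 (-110) (.split 0 (-327) .sq (.split 3 223 (.split 5 167 (.split 1 304 (.split 3
    80 (.wt 2) (.split 0 (-191) (.split 1 168 (.lin 2) (.split 4 (-119) (.splitN 99269 .sq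
    (.split 5 27 (.wt 2) (.split 4 (-128) (.split 3 90 (.wt 4) (.split 0 (-209) (.split 1 177
    (.lin 2) (.split 4 (-137) (.splitN 116360 .sq (.split 3 106 (.wt 0) (.split 0 (-227) (.split
    1 195 (.lin 2) (.split 4 (-155) (.splitN 140012 .sq (.wt 3)) (.lin 10))) (.lin 1)))) (.lin
    10))) (.lin 1))) (.lin 10)))) (.lin 10))) (.lin 1))) (.lin 4)) (.lin 1)) (.lin 1))) (.lin
    10))) (.wt 3)) (.lin 1)) (.lin 11)) (.lin 2)) (.lin 1))) (.wt 3)) (.lin 10)) (.lin 1))) (.lin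
    2)) (.div 1)) (.wt 3)) (.lin 2)) (.div 1)) (.lin 2)) (.lin 1))) (.wt 0))))) (.lin 1)) (.split
    6 80 (.split 2 (-36) (.lin 9) cert5_89_1) (.split 4 (-110) (.split 0 (-173) (.split 2 (-26)
    (.split 1 150 (.lin 11) (.splitN 828750 (.split 1 9188 (.split 3 9115 (.splitN 644757 (.split
    0 (-770) .sq (.split 3 673 (.split 1 799 (.split 5 635 (.split 1 745 cert5_89_2 (.lin 4))
    (.lin 1)) (.lin 2)) (.lin 1))) (.wt 3)) (.lin 2)) (.div 1)) (.wt 1))) (.lin 9)) (.lin 7))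
    (.lin 6))))))) (.split 0 (-200) (.split 1 177 (.lin 11) (.splitN 100034 .sq (.splitN 15512995
    (.split 7 (-273) (.wt 3) (.split 0 (-3931) .sq (.split 2 (-3798) (.lin 1) (.split 3 3850
    (.split 1 7918 (.split 1 3904 (.split 6 3842 (.splitN 8687990 (.split 7 (-259) (.wt 3)
    (.split 0 (-2938) .sq (.split 1 2914 (.split 6 2852 (.split 7 (-108) (.splitN 109799 .sq
    (.splitN 176143 (.split 1 1952 (.split 3 1834 (.split 2 (-977) (.div 2) (.split 6 1223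
    (.splitN 149331 (.split 1 1628 (.split 3 1510 (.split 2 (-815) (.div 2) (.split 6 1061
    (.split 4 (-1629) (.div 4) (.split 0 (-1875) (.lin 12) (.split 5 165 (.split 3 75 (.wt 3)
    (.split 0 (-218) (.split 1 195 (.lin 2) (.split 4 (-110) (.splitN 130211 .sq (.splitN 139815
    (.split 2 (-761) (.div 2) (.split 6 1007 (.split 3 86 (.wt 0) (.split 4 (-119) (.split 3 89
    (.wt 0) (.split 1 213 (.lin 2) (.split 4 (-128) .sq (.lin 10)))) (.lin 10))) (.lin 9))) (.wt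
    3))) (.lin 10))) (.lin 1))) (.wt 1)))) (.lin 9))) (.lin 2)) (.div 1)) (.wt 3)) (.lin 9)))
    (.lin 2)) (.div 1)) (.wt 1))) (.split 4 (-101) (.split 2 (-17) (.splitN 594705 (.split 0
    (-730) .sq (.split 5 599 (.split 1 700 (.split 3 583 (.splitN 529819 (.split 0 (-684) .sq
    (.split 6 593 cert5_89_3 (.lin 7))) (.wt 1)) (.lin 7)) (.lin 4)) (.lin 1))) (.wt 1)) (.lin
    9)) (.lin 6))) (.lin 7)) (.lin 4)))) (.wt 1)) (.lin 7)) (.lin 4)) (.lin 2)) (.lin 1))))) (.wt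
    1)))) (.lin 7))) (.lin 10))) (.lin 1)))

def cert5_89 : Cert :=
  (.split 0 (-74) (.split 1 69 (.lin 2) (.split 6 52 (.lin 9) (.split 3 18 (.wt 2) (.split 0
    (-83) (.split 5 18 (.split 3 31 (.wt 2) (.split 0 (-92) (.split 1 87 (.lin 2) (.split 4 (-47)
    (.split 3 34 (.wt 2) (.split 4 (-56) (.split 6 63 (.wt 2) (.split 0 (-119) (.split 5 5 (.wt
    6) (.split 4 (-65) (.split 6 71 (.wt 2) (.split 0 (-137) (.split 7 (-100) (.split 0 (-164)
    (.split 6 106 (.lin 9) (.splitN 543336 (.split 1 6020 (.split 0 (-6033) (.lin 4) (.split 3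
    5911 (.split 6 5975 (.splitN 492756 (.split 1 5444 (.split 3 5335 (.split 0 (-5457) (.lin 4)
    (.split 6 5399 (.splitN 225792 (.split 1 2492 (.split 0 (-2505) (.lin 4) (.split 3 2383
    (.split 6 2447 (.split 3 75 (.wt 2) (.split 0 (-200) (.split 1 186 (.lin 2) (.split 4 (-101)
    (.splitN 113120 .sq (.splitN 174281 (.split 1 1916 (.split 3 1807 (.split 0 (-1929) (.lin 4)
    (.split 6 1835 (.split 2 (-959) (.div 2) (.split 3 80 (.wt 0) (.split 4 (-110) (.split 7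
    (-229) (.wt 0) (.split 6 1178 (.split 3 108 (.wt 2) (.split 0 (-236) (.split 1 222 (.lin 2)
    (.split 4 (-137) (.splitN 159128 .sq (.wt 3)) (.lin 10))) (.lin 1))) (.lin 9))) (.lin 10))))
    (.lin 7))) (.lin 2)) (.div 1)) (.wt 3))) (.lin 10))) (.lin 1))) (.lin 7)) (.lin 1))) (.div
    1)) (.wt 3)) (.lin 7))) (.lin 2)) (.div 1)) (.wt 0)) (.lin 7)) (.lin 1))) (.div 1)) (.wt 0)))
    (.lin 1)) cert5_89_0) (.lin 7))) (.lin 10))) (.lin 7))) (.lin 10))) (.lin 10))) (.lin 1)))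
    (.split 0 (-101) (.split 4 (-56) cert5_89_4 (.lin 10)) (.lin 1))) (.lin 1))))) (.lin 1))

theorem check5_89 :
    check task5 cert5_89
      [(7, ⟨none, some (-47)⟩), (7, ⟨some (34), none⟩), (1, ⟨none, some (-8)⟩), (7, ⟨some (16), none⟩), (7, ⟨none, some (-29)⟩), (5, ⟨some (5), none⟩), (8, ⟨some (26), none⟩), (8, ⟨none, some (-46)⟩)] ⟨some (36360), none⟩ = true := by
  decide +kernel

def cert5_90_0 : Cert :=
  (.split 6 456 (.split 4 (-507) (.lin 6) (.split 0 (-534) (.lin 7) (.split 1 511 (.split 2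
    (-423) (.lin 9) (.split 1 484 (.split 5 30 (.wt 1) (.split 0 (-290) (.split 6 244 (.wt 2)
    (.split 4 (-290) (.split 0 (-317) (.split 1 285 (.lin 11) (.split 6 261 (.wt 2) (.split 4
    (-308) (.split 0 (-335) (.split 2 (-242) (.split 1 303 (.lin 11) (.split 5 32 (.wt 1) (.split
    6 359 (.split 4 (-417) (.lin 6) (.split 0 (-444) (.lin 7) (.split 1 403 (.split 2 (-333)
    (.lin 9) (.split 6 314 (.split 4 (-372) (.lin 6) (.split 1 358 (.split 2 (-288) (.lin 9)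
    (.splitN 6332705 (.split 5 41 (.wt 1) (.split 0 (-353) (.split 4 (-326) (.split 6 292 (.wt 2)
    (.split 4 (-353) (.split 0 (-380) (.split 6 307 (.wt 2) (.split 2 (-287) (.split 1 348 (.lin
    11) (.split 0 (-389) (.split 4 (-362) (.split 0 (-394) (.splitN 2523167 (.wt 1) (.wt 0))
    (.lin 1)) (.lin 0)) (.lin 1))) (.lin 9))) (.lin 7)) (.lin 6))) (.lin 6)) (.lin 1))) (.wt 5)))
    (.lin 8))) (.split 4 (-371) (.split 0 (-398) (.split 1 348 (.lin 8) (.split 2 (-296) (.splitN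
    4308298 (.split 5 41 (.wt 1) (.split 6 341 (.split 2 (-315) (.lin 9) (.split 6 332 (.split 4
    (-390) (.lin 6) (.split 0 (-417) (.lin 7) (.split 6 327 (.split 2 (-297) (.lin 9) (.splitN
    2327705 (.wt 1) (.split 0 (-407) (.split 1 362 (.split 4 (-380) (.splitN 2442301 .cand (.wt
    3)) (.lin 3)) (.lin 2)) (.lin 1)))) (.wt 2)))) (.split 4 (-398) (.split 1 375 (.lin 8)
    (.split 2 (-314) (.splitN 2322663 (.wt 0) (.wt 1)) (.lin 9))) (.lin 6)))) (.wt 2))) (.wt 5))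
    (.lin 9))) (.lin 7)) (.lin 6)))) (.lin 8)))) (.split 4 (-416) (.split 0 (-443) (.split 1 393
    (.lin 8) (.split 2 (-341) (.split 5 45 (.split 6 404 (.wt 2) (.split 4 (-461) (.split 0
    (-488) (.split 6 433 (.wt 2) (.split 4 (-488) (.split 0 (-515) (.wt 2) (.lin 7)) (.lin 6)))
    (.lin 7)) (.lin 6))) (.splitN 2237679 (.split 6 401 (.split 4 (-453) (.lin 6) (.split 0
    (-480) (.lin 7) (.wt 0))) (.wt 0)) (.wt 1))) (.lin 9))) (.lin 7)) (.lin 6))))) (.lin 9))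
    (.lin 7)) (.lin 6)))) (.lin 7)) (.lin 6))) (.lin 7))) (.lin 11))) (.lin 8)))) (.split 4
    (-488) (.split 0 (-515) (.split 1 465 (.lin 8) (.split 2 (-431) (.split 1 492 (.lin 11)
    (.split 5 24 (.wt 1) (.split 6 924 (.split 4 (-975) (.lin 6) (.split 0 (-1002) (.lin 7)
    (.split 1 970 (.split 2 (-891) (.lin 9) (.split 5 41 (.split 6 687 (.split 4 (-732) (.lin 6)
    (.split 0 (-759) (.lin 7) (.split 5 36 (.wt 2) (.split 6 577 (.split 4 (-624) (.lin 6)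
    (.split 0 (-651) (.lin 7) (.split 2 (-549) (.lin 9) (.split 6 525 (.split 4 (-570) (.lin 6)
    (.split 0 (-597) (.lin 7) (.split 6 496 (.split 2 (-468) (.lin 9) (.split 6 476 (.split 4
    (-525) (.lin 6) (.split 0 (-552) (.lin 7) (.split 1 511 (.split 6 467 (.split 2 (-441) (.lin
    9) (.split 0 (-533) (.split 6 462 (.split 4 (-506) (.split 1 502 (.wt 2) (.lin 2)) (.lin 0))
    (.split 4 (-515) (.split 1 502 (.split 0 (-547) (.lin 1) (.split 1 497 (.lin 0) (.splitN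
    3268270 (.wt 0) (.wt 1)))) (.lin 2)) (.lin 6))) (.lin 1))) (.split 4 (-524) (.splitN 3240486
    (.wt 0) (.wt 1)) (.lin 6))) (.lin 8)))) (.split 2 (-458) (.split 0 (-578) (.lin 1) (.wt 2))
    (.lin 9)))) (.wt 2)))) (.wt 2))))) (.wt 2))))) (.split 4 (-731) (.split 0 (-758) (.split 1
    717 (.lin 8) (.split 2 (-665) (.splitN 2548502 .sq (.split 5 40 (.splitN 9133192 (.wt 1) (.wt
    0)) (.wt 1))) (.lin 9))) (.lin 7)) (.lin 6))) (.split 4 (-515) (.splitN 1993846 (.split 0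
    (-597) (.split 2 (-494) (.split 1 555 (.lin 2) (.split 6 520 (.lin 7) (.splitN 1739410 (.wt
    0) (.wt 1)))) (.lin 1)) (.wt 0)) (.wt 1)) (.lin 6)))) (.lin 8)))) (.split 4 (-965) (.split 0
    (-992) (.split 1 942 (.lin 8) (.split 2 (-899) (.splitN 4473179 .sq (.split 5 37 (.split 6
    1085 (.wt 2) (.split 4 (-1127) (.split 0 (-1154) (.split 1 1122 (.lin 8) (.split 2 (-1061)
    (.splitN 6175403 .sq (.split 6 8810 (.split 4 (-8850) (.lin 6) (.split 0 (-8877) (.lin 7)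
    (.split 1 8845 (.split 6 5651 (.split 4 (-5691) (.lin 6) (.split 0 (-5718) (.lin 7) (.split 1
    5686 (.split 6 4715 (.split 4 (-4755) (.lin 6) (.split 0 (-4782) (.lin 7) (.split 1 4750
    (.split 6 4320 (.split 4 (-4359) (.lin 6) (.split 1 4354 (.split 6 1306 (.wt 2) (.split 4
    (-1352) (.split 0 (-1379) (.split 1 1347 (.lin 8) (.split 2 (-1286) (.splitN 8927378 .sq
    (.split 6 1437 (.wt 0) (.split 4 (-1478) (.split 0 (-1505) (.split 1 1473 (.lin 8) (.split 2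
    (-1412) (.splitN 10689614 .sq (.split 6 1732 (.wt 0) (.split 4 (-1775) (.split 0 (-1802)
    (.split 1 1770 (.lin 8) (.split 2 (-1709) (.splitN 15471611 .sq (.wt 1)) (.lin 9))) (.lin 7))
    (.lin 6)))) (.lin 9))) (.lin 7)) (.lin 6)))) (.lin 9))) (.lin 7)) (.lin 6))) (.lin 8))) (.wt
    1)) (.lin 8)))) (.wt 1)) (.lin 8)))) (.wt 1)) (.lin 8)))) (.wt 1))) (.lin 9))) (.lin 7))
    (.lin 6))) (.wt 1))) (.lin 9))) (.lin 7)) (.lin 6))))) (.lin 9))) (.lin 7)) (.lin 6)))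

def cert5_90_1 : Cert :=
  (.split 5 126 (.split 0 (-561) (.lin 1) (.split 4 (-534) (.lin 6) (.split 6 363 (.split 4
    (-489) (.lin 6) (.split 0 (-516) (.lin 7) (.split 6 347 (.split 2 (-315) (.lin 9) (.split 6
    282 (.split 4 (-408) (.lin 6) (.split 0 (-435) (.lin 7) (.split 2 (-252) (.lin 9) (.split 1
    313 (.split 5 90 (.split 0 (-399) (.lin 1) (.split 4 (-372) (.lin 6) (.split 6 251 (.split 4
    (-345) (.lin 6) (.split 0 (-372) (.lin 7) (.split 2 (-225) (.lin 9) (.split 1 286 (.split 5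
    72 (.split 4 (-327) (.lin 6) (.split 6 237 (.wt 2) (.split 4 (-308) (.split 0 (-335) (.split
    2 (-215) (.splitN 1949284 (.split 5 60 (.wt 1) (.split 0 (-353) (.split 1 285 (.lin 4)
    (.split 4 (-326) (.splitN 1711116 (.splitN 1648974 (.wt 1) .cand) (.wt 0)) (.lin 8))) (.split
    6 246 (.wt 2) (.lin 7)))) (.wt 5)) (.lin 9)) (.lin 7)) (.lin 6)))) (.split 4 (-308) (.split 0
    (-335) (.split 6 237 (.split 4 (-327) (.lin 6) (.split 2 (-207) (.lin 9) (.split 1 268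
    (.splitN 1567489 (.split 5 81 (.splitN 1424488 (.wt 1) .cand) (.splitN 1472344 (.split 6 228
    (.splitN 1313982 (.wt 1) .cand) (.split 4 (-326) (.split 1 267 (.lin 8) (.splitN 1334404 (.wt
    0) (.wt 1))) (.lin 6))) (.wt 1))) (.wt 3)) (.lin 11)))) (.split 4 (-326) (.split 1 267 (.lin
    8) (.split 2 (-215) (.splitN 1318949 (.wt 0) (.splitN 1457068 (.split 5 82 .cand (.wt 1))
    (.wt 1))) (.lin 9))) (.lin 6))) (.lin 7)) (.lin 6))) (.lin 11))))) (.split 4 (-326) (.split 0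
    (-353) (.split 2 (-233) (.split 1 294 (.lin 11) (.splitN 1429248 (.wt 5) (.split 5 73 (.split
    5 63 (.split 0 (-372) (.lin 1) (.split 4 (-345) (.lin 6) (.split 6 269 (.splitN 1930541 (.wt
    1) (.split 6 264 (.split 4 (-327) (.lin 6) (.split 1 295 (.wt 0) (.lin 8))) (.split 0 (-362)
    (.wt 2) (.split 2 (-234) (.lin 1) (.lin 3))))) (.split 4 (-344) (.split 1 312 (.lin 8)
    (.splitN 2036007 (.wt 0) (.wt 1))) (.lin 6))))) (.splitN 1675593 (.split 0 (-378) (.split 2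
    (-251) (.split 1 312 (.lin 2) (.split 4 (-353) (.split 6 277 (.lin 6) (.wt 0)) (.lin 0)))
    (.lin 1)) (.wt 2)) (.wt 1))) (.wt 1)))) (.lin 9)) (.lin 7)) (.lin 6))))) (.split 4 (-326)
    (.split 6 245 (.split 4 (-372) (.lin 6) (.split 0 (-399) (.lin 7) (.split 2 (-216) (.lin 9)
    (.split 1 277 (.splitN 1313564 (.split 5 112 (.split 6 233 (.split 4 (-345) (.lin 6) (.split
    0 (-372) (.lin 7) (.splitN 1099329 (.wt 0) (.split 5 100 (.split 6 228 (.split 4 (-327) (.lin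
    6) (.split 1 259 (.splitN 1244410 .cand (.wt 1)) (.lin 8))) (.split 1 267 (.lin 11) (.wt 0)))
    (.wt 2))))) (.split 4 (-344) (.split 1 267 (.lin 8) (.splitN 1246705 (.wt 0) (.wt 1))) (.lin
    6))) (.wt 2)) (.wt 1)) (.lin 11))))) (.wt 2)) (.lin 6))) (.lin 11))))) (.split 4 (-353)
    (.split 2 (-260) (.split 1 321 (.lin 11) (.splitN 1197011 (.wt 5) (.split 5 80 (.split 0
    (-453) (.lin 1) (.split 4 (-426) (.lin 6) (.split 5 64 (.split 6 305 (.split 4 (-372) (.lin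
    6) (.split 0 (-399) (.lin 7) (.wt 2))) (.wt 2)) (.wt 2)))) (.wt 1)))) (.lin 9)) (.lin 6))))
    (.wt 2)))) (.wt 2)))) (.split 4 (-362) (.splitN 1541179 (.split 4 (-17109) (.div 4) (.split 5
    17069 (.split 0 (-17508) (.lin 1) (.split 5 8554 (.split 4 (-9138) (.lin 0) (.split 0 (-8985)
    (.lin 1) (.split 6 363 (.split 1 394 (.splitN 1461858 (.split 0 (-1078) .sq (.split 4 (-1047)
    (.lin 12) (.split 6 294 (.split 2 (-261) (.lin 9) (.split 1 322 (.splitN 1212769 (.split 0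
    (-957) .sq (.split 4 (-930) (.lin 12) (.split 6 255 (.split 2 (-225) (.lin 9) (.split 1 286
    (.split 5 304 (.split 4 (-588) (.lin 0) (.split 0 (-588) (.lin 1) (.split 5 237 (.split 4
    (-516) (.lin 0) (.split 0 (-516) (.lin 1) (.split 0 (-414) (.split 4 (-389) (.split 5 176
    (.split 4 (-462) (.lin 0) (.split 0 (-462) (.lin 1) (.split 4 (-435) (.lin 6) (.splitN 987826
    (.split 6 241 (.split 5 148 (.lin 6) (.wt 2)) (.wt 0)) (.wt 1))))) (.wt 2)) (.lin 12)) (.wt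
    2)))) (.wt 2)))) (.split 4 (-497) (.split 0 (-560) (.split 4 (-542) (.splitN 854045 .sq (.wt
    1)) (.lin 6)) (.lin 1)) (.lin 0))) (.lin 11))) (.split 4 (-398) (.split 2 (-233) (.split 1
    294 (.lin 11) (.splitN 909200 (.split 0 (-502) (.split 5 184 (.lin 1) (.wt 2)) (.wt 0)) (.wt
    1))) (.lin 9)) (.lin 6))))) (.wt 1)) (.lin 11))) (.wt 2)))) (.wt 1)) (.lin 11)) (.wt 2))))
    (.div 5))) (.lin 0))) (.wt 1)) (.lin 6)))

def cert5_90_2 : Cert :=
  (.split 6 222 (.split 2 (-189) (.lin 9) (.split 1 250 (.split 3 26 (.wt 2) (.split 4 (-128)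
    (.split 0 (-164) (.split 5 33 (.wt 2) (.split 4 (-146) (.split 6 117 (.wt 2) (.split 0 (-200)
    (.split 2 (-89) (.split 1 159 (.lin 11) (.split 5 43 (.wt 2) (.split 6 128 (.wt 2) (.split 0
    (-218) (.split 1 168 (.lin 11) (.split 7 (-36) (.wt 2) (.split 2 (-107) (.split 4 (-191)
    (.split 5 50 (.wt 2) (.split 6 174 (.split 2 (-144) (.lin 9) (.split 1 205 (.splitN 540167
    (.wt 1) (.splitN 2402240 (.split 5 13342 (.split 0 (-7595) (.wt 0) (.split 5 7421 (.split 5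
    60 (.wt 1) (.split 0 (-236) (.split 4 (-209) (.splitN 1669306 (.split 0 (-2353) (.wt 0)
    (.split 5 2183 (.split 4 (-2397) (.lin 0) (.splitN 574890 (.wt 1) (.split 0 (-1341) (.wt 0)
    (.split 5 1166 (.split 5 75 (.wt 1) (.split 0 (-380) (.wt 2) (.split 5 203 (.split 4 (-345)
    (.lin 12) (.splitN 888157 (.wt 1) (.split 6 139 (.wt 0) (.split 4 (-227) (.split 0 (-254)
    (.split 2 (-116) (.split 1 177 (.lin 11) (.splitN 937693 (.wt 1) (.split 0 (-322) (.wt 0)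
    (.split 5 140 (.wt 2) (.lin 1))))) (.lin 9)) (.lin 7)) (.lin 6))))) (.lin 1)))) (.lin 1)))))
    (.lin 1))) (.wt 5)) (.lin 6)) (.lin 1))) (.lin 1))) (.div 5)) (.wt 5))) (.lin 11))) (.split 4
    (-245) (.split 0 (-272) (.split 2 (-152) (.split 1 213 (.lin 11) (.split 5 69 (.wt 2) (.split
    0 (-290) (.split 4 (-263) (.splitN 1882819 (.split 0 (-1305) .sq (.split 5 1085 (.split 5 289
    (.split 0 (-534) (.lin 1) (.split 4 (-507) (.lin 6) (.split 5 147 (.split 0 (-390) (.lin 1)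
    (.split 4 (-363) (.lin 6) (.split 6 197 (.split 2 (-171) (.lin 9) (.split 1 232 (.splitN
    1401395 (.split 5 89 (.wt 1) (.split 0 (-308) (.split 4 (-281) (.splitN 1281214 (.split 5 98
    (.wt 1) (.split 0 (-338) (.wt 2) (.split 5 122 (.split 4 (-309) (.lin 12) (.splitN 1114222
    (.wt 1) (.split 6 189 (.wt 0) (.split 4 (-308) (.split 2 (-170) (.split 1 231 (.lin 11)
    (.split 5 104 (.wt 0) (.lin 0))) (.lin 9)) (.lin 6))))) (.lin 1)))) (.wt 0)) (.lin 6)) (.lin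
    1))) (.wt 5)) (.lin 11))) (.split 4 (-290) (.split 0 (-317) (.split 2 (-179) (.split 1 240
    (.lin 11) (.splitN 939050 (.wt 3) (.split 5 87 (.wt 2) (.split 0 (-335) (.split 4 (-308)
    (.split 5 96 (.wt 2) (.split 5 122 (.split 0 (-362) (.split 4 (-326) (.splitN 1176449
    (.splitN 997010 (.wt 1) .cand) (.wt 0)) (.lin 3)) (.split 5 113 (.split 4 (-336) (.lin 3)
    (.split 6 210 (.wt 2) (.split 4 (-326) (.split 0 (-353) (.split 5 104 (.splitN 1153907 (.wt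
    1) (.wt 0)) (.lin 7)) (.lin 7)) (.lin 6)))) (.lin 1))) (.split 4 (-335) (.splitN 1085816
    .cand (.wt 1)) (.lin 0)))) (.lin 6)) (.lin 1))))) (.lin 9)) (.lin 7)) (.lin 6))))) (.split 0
    (-362) (.split 4 (-335) (.split 6 197 (.split 1 232 (.split 0 (-439) (.wt 2) (.split 5 221
    (.split 0 (-397) (.wt 2) (.split 5 176 (.wt 2) (.lin 1))) (.lin 1))) (.lin 11)) (.split 4
    (-362) (.split 0 (-389) (.split 2 (-179) (.split 1 240 (.lin 11) (.splitN 683307 (.wt 1)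
    (.splitN 988931 (.split 5 216 (.split 4 (-444) (.lin 0) (.split 0 (-462) (.lin 1) (.splitN
    727517 (.wt 0) (.split 5 180 (.split 4 (-408) (.lin 0) (.split 0 (-426) (.lin 1) (.splitN
    842878 (.wt 3) .cand))) (.split 4 (-389) (.splitN 901108 .cand (.wt 1)) (.lin 0)))))) (.split
    4 (-425) (.splitN 851575 .cand (.wt 1)) (.lin 0))) (.wt 3)))) (.lin 9)) (.lin 7)) (.lin 6)))
    (.lin 6)) (.lin 1))))) (.split 0 (-506) (.split 4 (-479) (.splitN 674207 .sq (.splitN 865511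
    .cand (.wt 0))) (.lin 6)) (.lin 1))) (.lin 1))) (.wt 3)) (.lin 6)) (.lin 1)))) (.lin 9))
    (.lin 7)) (.lin 6)))) (.lin 6)) (.lin 2)))) (.lin 7))))) (.lin 9)) (.lin 7))) (.lin 6)))
    (.lin 7)) (.lin 6))) (.lin 11))) (.split 4 (-236) (.split 0 (-272) (.split 2 (-188) (.split 1
    249 (.lin 11) (.splitN 279638 .sq (.split 7 (-37) (.wt 3) (.split 5 54 (.split 3 25 (.wt 2)
    (.split 4 (-254) cert5_90_0 (.lin 6))) (.split 0 (-299) (.split 4 (-281) (.split 3 29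
    (.splitN 947202 (.split 1 10520 (.split 2 (-10467) (.lin 2) (.split 2 (-5261) (.div 2)
    (.split 1 5308 (.split 6 5282 (.split 5 5260 (.splitN 832220 (.split 2 (-4613) (.div 2)
    (.split 1 4660 (.split 6 4634 (.split 4 (-9225) (.div 4) (.split 5 4612 (.splitN 399760 (.wt
    1) (.splitN 735762 (.split 5 4072 (.split 6 361 (.wt 0) (.split 4 (-425) (.split 0 (-452)
    (.split 2 (-341) (.split 1 393 (.lin 11) .sq) (.lin 9)) (.lin 7)) (.lin 6))) (.div 5)) (.wt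
    5))) (.div 5))) (.lin 9)) (.lin 2))) (.wt 0)) (.div 5)) (.lin 9)) (.lin 2)))) (.div 1)) (.wt
    0)) (.split 0 (-317) (.split 6 738 (.split 2 (-711) (.lin 9) (.split 1 772 (.split 6 406
    (.split 2 (-378) (.lin 9) (.split 1 439 cert5_90_1 (.lin 11))) (.split 4 (-479) (.split 0
    (-506) (.split 2 (-386) (.split 1 447 (.lin 11) (.splitN 1011167 .sq (.split 5 80 (.split 0
    (-849) (.lin 1) (.split 4 (-822) (.lin 6) (.wt 2))) (.wt 1)))) (.lin 9)) (.lin 7)) (.lin 6)))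
    (.lin 11))) (.wt 2)) (.lin 7))) (.lin 6)) (.lin 1)))))) (.lin 9)) (.lin 7)) (.lin 6)))

def cert5_90_3 : Cert :=
  (.split 5 54 (.split 3 97 (.wt 2) (.split 0 (-191) (.split 1 168 (.lin 2) (.split 4 (-155)
    (.split 3 220 (.split 1 286 (.split 4 (-309) (.lin 0) (.splitN 326251 (.wt 1) (.split 3 119
    (.wt 2) (.split 0 (-209) (.split 1 186 (.lin 2) (.split 4 (-173) (.splitN 760113 (.split 5 24
    (.wt 1) (.split 3 129 (.wt 2) (.split 0 (-227) (.split 4 (-191) (.split 3 139 (.wt 2) (.split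
    5 32 (.wt 2) (.split 4 (-209) (.split 3 149 (.wt 2) (.split 6 64 (.wt 2) (.split 4 (-227)
    (.split 0 (-263) (.split 2 (-35) (.splitN 485776 .cand (.wt 3)) (.lin 9)) (.lin 7)) (.lin
    6)))) (.lin 6)))) (.lin 6)) (.lin 1)))) (.wt 5)) (.lin 6))) (.lin 1))))) (.lin 2)) (.split 0
    (-308) (.split 1 285 (.lin 2) (.split 4 (-263) (.splitN 3852152 (.split 0 (-1909) .sq (.split
    3 1816 (.split 1 1888 (.splitN 2194291 (.split 0 (-1410) .sq (.split 3 1321 (.split 1 1393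
    (.splitN 1896237 (.split 0 (-1300) .sq (.split 3 1213 (.split 1 1285 (.split 5 36 (.split 3
    273 (.wt 2) (.split 0 (-362) (.split 1 339 (.lin 2) (.split 4 (-317) (.split 3 337 (.wt 2)
    (.split 0 (-425) (.split 1 402 (.lin 2) (.split 4 (-380) (.splitN 609452 .sq (.split 3 349
    (.wt 0) (.split 4 (-407) (.splitN 643265 .sq (.split 3 397 (.wt 0) (.split 0 (-488) (.split 1
    465 (.lin 2) (.split 4 (-443) (.splitN 820376 .sq (.split 0 (-605) (.wt 0) (.split 3 511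
    (.split 1 583 (.wt 0) (.lin 2)) (.lin 1)))) (.lin 0))) (.lin 1)))) (.lin 6)))) (.lin 0)))
    (.lin 1))) (.lin 0))) (.lin 1))) (.split 4 (-281) (.split 0 (-326) (.splitN 324332 .sq
    (.splitN 1026826 (.split 0 (-899) .sq (.split 3 790 (.split 1 862 (.splitN 890203 (.split 0
    (-819) .sq (.split 3 709 (.split 1 781 (.split 4 (-804) (.lin 0) (.split 6 66 (.split 2 (-27)
    (.lin 9) (.splitN 452572 (.wt 1) (.split 3 278 (.wt 0) (.split 0 (-389) (.split 1 348 (.lin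
    2) (.split 4 (-353) (.splitN 487097 .sq (.split 0 (-563) (.wt 0) (.split 3 457 (.split 1 520
    (.wt 0) (.lin 2)) (.lin 1)))) (.lin 0))) (.lin 1))))) (.split 4 (-299) (.split 2 (-35)
    (.splitN 543552 (.split 0 (-559) .sq (.split 4 (-516) (.lin 3) (.split 1 511 (.splitN 509239
    .cand (.wt 1)) (.lin 8)))) (.wt 1)) (.lin 9)) (.lin 6)))) (.lin 2)) (.lin 1))) (.wt 3)) (.lin
    2)) (.lin 1))) (.wt 3))) (.lin 1)) (.lin 0))) (.lin 2)) (.lin 1))) (.wt 3)) (.lin 2)) (.lin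
    1))) (.wt 3)) (.lin 2)) (.lin 1))) (.wt 3)) (.lin 0))) (.lin 1))) (.lin 6))) (.lin 1)))
    (.split 4 (-173) (.split 0 (-218) (.splitN 2216358 (.splitN 179442 (.wt 1) (.split 0 (-1463)
    .sq (.split 3 333 (.split 1 403 (.splitN 878924 (.split 0 (-897) .sq (.split 5 734 (.split 4
    (-1110) (.lin 0) (.split 3 179 (.split 1 250 (.splitN 210666 (.wt 1) (.split 3 137 (.split 1
    205 (.splitN 418507 (.split 0 (-585) .sq (.split 5 419 (.split 5 157 (.split 3 97 (.wt 2)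
    (.split 4 (-191) (.split 6 63 (.wt 2) (.split 0 (-236) (.split 2 (-35) (.splitN 366108 .cand
    (.wt 3)) (.lin 9)) (.lin 7))) (.lin 6))) (.split 4 (-272) (.split 0 (-317) (.split 3 108 (.wt
    2) (.split 0 (-335) (.split 1 177 (.lin 2) (.split 4 (-290) (.splitN 272087 .sq (.split 6 64
    (.wt 0) (.split 4 (-308) (.split 2 (-35) (.splitN 284684 .sq (.wt 3)) (.lin 9)) (.lin 6))))
    (.lin 0))) (.lin 1))) (.lin 1)) (.lin 0))) (.lin 1))) (.wt 3)) (.lin 2)) (.split 0 (-263)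
    (.split 1 204 (.lin 2) (.split 4 (-218) (.split 5 146 (.split 0 (-390) (.lin 1) (.split 6 66
    (.split 2 (-27) (.lin 9) (.wt 2)) (.split 4 (-236) (.split 2 (-35) (.splitN 396406 .cand (.wt
    1)) (.lin 9)) (.lin 6)))) (.split 4 (-308) (.split 0 (-353) (.splitN 309752 .sq (.split 6 62
    (.wt 0) (.split 2 (-35) (.wt 1) (.lin 9)))) (.lin 1)) (.lin 0))) (.lin 0))) (.lin 1)))) (.lin
    2)) (.split 0 (-308) (.split 1 249 (.lin 2) (.split 4 (-263) (.splitN 574635 (.split 0 (-632)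
    .sq (.split 5 148 (.split 4 (-516) (.lin 0) (.split 0 (-543) (.lin 1) (.split 6 66 (.split 2
    (-27) (.lin 9) (.splitN 315598 (.wt 1) (.splitN 490874 .cand (.wt 3)))) (.split 4 (-281)
    (.split 2 (-35) (.splitN 302272 (.wt 5) (.split 5 113 (.split 3 244 (.split 0 (-426) (.lin 1)
    (.split 1 313 (.split 4 (-390) (.lin 0) (.splitN 320129 (.wt 0) (.split 5 83 (.split 4 (-354)
    (.lin 0) (.split 0 (-390) (.lin 1) (.splitN 340337 (.wt 5) (.split 5 70 (.split 0 (-350)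
    (.split 3 213 (.lin 1) (.split 1 285 (.lin 2) (.split 4 (-308) (.splitN 386040 (.wt 0) (.wt
    1)) (.lin 0)))) (.wt 2)) (.wt 1))))) (.wt 1)))) (.lin 2))) (.wt 2)) (.wt 1))) (.lin 9)) (.lin
    6))))) (.split 4 (-353) (.split 0 (-398) (.splitN 408572 .sq (.wt 1)) (.lin 1)) (.lin 0))))
    (.wt 3)) (.lin 0))) (.lin 1)))) (.lin 1))) (.wt 3)) (.lin 2)) (.split 0 (-461) (.split 1 402
    (.lin 2) (.split 4 (-416) (.splitN 672956 .sq (.wt 1)) (.lin 0))) (.lin 1))))) (.wt 1)) (.lin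
    1)) (.lin 0)))

def cert5_90_4 : Cert :=
  (.split 3 94 (.split 1 169 (.split 1 160 (.split 5 16 (.wt 1) (.split 0 (-128) (.split 4 (-92)
    (.split 3 44 (.wt 2) (.split 4 (-101) (.split 1 114 (.lin 11) (.split 5 23 (.wt 2) (.split 0
    (-146) (.split 5 32 (.wt 6) (.split 0 (-155) (.split 4 (-119) (.split 7 (-33) (.split 2 (-36)
    (.lin 9) (.splitN 434214 (.split 5 2398 (.split 4 (-2523) (.lin 0) (.splitN 213456 (.wt 1)
    (.splitN 379568 (.split 5 2092 (.split 3 56 (.wt 0) (.split 0 (-164) (.split 1 123 (.lin 2)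
    (.split 4 (-128) (.splitN 351220 (.split 0 (-1317) (.wt 0) (.split 5 1193 (.split 5 49 (.wt
    1) (.split 0 (-173) (.split 4 (-137) (.split 0 (-898) (.wt 0) (.split 5 770 (.split 4 (-903)
    (.lin 0) (.splitN 226514 (.wt 1) (.split 0 (-544) (.wt 0) (.split 5 419 (.split 4 (-552)
    (.lin 0) (.split 3 64 (.wt 0) (.split 1 132 (.lin 2) (.split 4 (-146) (.splitN 238254 (.wt 1)
    (.split 0 (-354) (.wt 0) (.split 5 221 (.split 4 (-327) (.lin 3) (.splitN 255795 (.wt 1)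
    (.split 0 (-272) (.wt 0) (.split 5 131 (.wt 2) (.lin 1))))) (.lin 1)))) (.lin 6))))) (.lin
    1))))) (.lin 1))) (.lin 6)) (.lin 1))) (.lin 1))) (.wt 5)) (.lin 6))) (.lin 1))) (.div 5))
    (.wt 5)))) (.div 5)) (.wt 0))) (.split 2 (-35) (.split 5 82 (.wt 1) (.split 0 (-200) (.split
    4 (-173) (.split 5 97 (.wt 1) (.split 0 (-218) (.split 3 57 (.wt 2) (.split 1 123 (.lin 2)
    (.split 5 110 (.wt 1) (.split 0 (-236) (.split 4 (-209) (.split 5 115 (.wt 1) (.split 3 74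
    (.split 1 142 (.splitN 2307927 (.wt 1) (.split 0 (-15282) (.wt 0) (.split 5 15152 (.split 0
    (-14149) (.wt 0) (.split 5 14018 (.split 4 (-14142) (.lin 0) (.split 0 (-2383) (.wt 1)
    (.split 5 2255 (.split 4 (-2379) (.lin 0) (.split 0 (-1003) (.wt 1) (.split 5 878 (.split 4
    (-1002) (.lin 0) (.split 0 (-496) (.wt 1) (.split 5 365 (.split 4 (-489) (.lin 0) (.split 0
    (-237) (.wt 1) (.lin 1))) (.lin 1)))) (.lin 1)))) (.lin 1)))) (.lin 1))) (.lin 1)))) (.lin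
    2)) (.split 1 141 (.lin 2) (.split 6 62 (.wt 1) (.split 2 (-44) (.split 1 150 (.lin 11)
    (.split 0 (-345) (.split 5 193 (.lin 1) (.split 0 (-714) (.split 5 562 (.lin 1) (.split 4
    (-686) (.split 0 (-10540) (.wt 2) (.split 5 10382 (.split 0 (-8475) (.wt 2) (.split 5 8321
    (.split 4 (-8454) (.lin 0) (.split 3 83 (.wt 2) (.split 1 159 (.lin 2) (.split 0 (-892)
    (.split 5 733 (.lin 1) (.split 0 (-1175) (.split 5 1021 (.lin 1) (.split 0 (-1318) (.split 5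
    1165 (.lin 1) (.split 4 (-1298) (.split 0 (-2910) (.wt 2) (.split 5 2750 (.split 4 (-2883)
    (.lin 0) (.split 0 (-1523) (.split 5 1363 (.lin 1) (.split 0 (-1596) (.split 5 1444 (.lin 1)
    (.split 4 (-1577) (.split 0 (-2244) (.wt 2) (.split 5 2084 (.split 4 (-2217) (.lin 0) (.split
    0 (-1715) (.split 5 1561 (.lin 1) (.split 4 (-1694) (.split 0 (-2051) (.wt 2) (.split 5 1886
    (.split 0 (-1883) (.split 5 1723 (.lin 1) (.split 4 (-1856) (.split 0 (-1938) (.wt 2) (.split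
    5 1778 (.split 0 (-1910) (.wt 2) (.split 4 (-1883) (.lin 3) (.split 5 1751 (.split 0 (-1892)
    (.split 5 1737 (.split 0 (-1897) (.lin 1) (.split 4 (-1865) (.split 4 (-1870) (.lin 0)
    (.split 5 1728 (.lin 0) (.wt 2))) (.lin 3))) (.split 0 (-1897) (.split 4 (-1865) (.wt 2)
    (.lin 0)) (.lin 1))) (.wt 2)) (.lin 0)))) (.lin 1))) (.lin 0))) (.split 5 1715 (.split 4
    (-1848) (.lin 0) (.split 0 (-1845) (.split 5 1687 (.lin 1) (.split 4 (-1820) (.splitN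
    11589167 (.wt 0) (.wt 1)) (.lin 0))) (.wt 2))) (.lin 1))) (.lin 1))) (.lin 0))) (.wt 2)))
    (.lin 1))) (.lin 0))) (.wt 2))) (.wt 2))) (.lin 1))) (.lin 0))) (.wt 2))) (.wt 2))) (.wt
    0))))) (.lin 1))) (.lin 1))) (.lin 0))) (.split 5 563 (.split 4 (-696) (.lin 0) (.split 0
    (-481) (.split 3 82 (.wt 1) (.wt 0)) (.wt 0))) (.lin 1)))) (.wt 5))) (.lin 9)))))) (.lin 6))
    (.lin 1))))) (.lin 1))) (.lin 6)) (.lin 1))) (.lin 9))) (.lin 6)) (.lin 4))) (.lin 4))))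
    (.lin 6))) (.lin 6)) (.lin 4))) (.lin 11)) (.lin 2)) (.split 0 (-164) (.split 1 150 (.lin 2)
    (.split 0 (-173) (.split 1 159 (.lin 11) (.split 5 14 (.wt 1) (.split 4 (-146) (.split 7
    (-33) (.split 2 (-36) (.lin 9) cert5_90_3) (.split 3 237 (.split 5 56 (.wt 1) (.split 0
    (-251) (.split 3 157 (.split 5 80 (.wt 1) (.split 0 (-281) (.split 3 123 (.split 6 66 (.split
    2 (-36) (.lin 9) (.wt 1)) (.split 1 168 (.lin 11) (.wt 5))) (.wt 3)) (.wt 0))) (.wt 0)) (.wt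
    0))) (.wt 0))) (.lin 6)))) (.lin 7))) (.lin 1)))

def cert5_90_5 : Cert :=
  (.split 3 65 (.split 1 223 (.split 6 120 (.split 2 (-81) (.lin 9) (.split 1 178 (.splitN 351020
    (.split 0 (-553) .sq (.split 5 428 (.split 3 43 (.wt 2) (.split 0 (-173) (.split 4 (-137)
    (.split 6 82 (.wt 2) (.split 4 (-146) (.split 2 (-53) (.split 1 141 (.lin 11) (.split 5 123
    (.split 0 (-300) (.lin 1) (.split 4 (-264) (.lin 6) (.splitN 192090 (.wt 1) (.split 6 102
    (.split 4 (-246) (.lin 6) (.split 2 (-63) (.lin 9) (.split 1 160 (.splitN 283663 (.splitN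
    220131 (.wt 1) (.split 5 50 (.wt 1) (.split 0 (-200) (.split 4 (-164) (.split 3 55 (.wt 0)
    (.split 4 (-173) (.split 0 (-259) (.wt 0) (.split 5 104 (.wt 2) (.lin 1))) (.lin 6))) (.lin
    6)) (.lin 1)))) (.wt 0)) (.lin 11)))) (.split 4 (-164) (.split 0 (-200) (.split 2 (-71)
    (.split 1 159 (.lin 11) (.split 5 44 (.wt 2) (.split 4 (-173) (.split 5 86 (.split 3 52 (.wt
    2) .cand) (.split 0 (-254) (.split 3 54 (.wt 2) (.split 1 168 (.lin 2) (.split 4 (-227)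
    (.split 6 114 (.split 2 (-72) (.lin 9) (.split 1 169 (.splitN 226874 (.split 5 99 (.wt 1)
    (.split 0 (-272) (.splitN 218146 (.wt 1) (.split 0 (-276) (.wt 0) (.split 5 104 (.wt 0) (.lin
    1)))) (.lin 1))) (.wt 0)) (.lin 11))) (.wt 2)) (.lin 6)))) (.lin 1))) (.lin 6)))) (.lin 9))
    (.lin 7)) (.lin 6)))))) (.split 0 (-272) (.split 4 (-236) (.splitN 231922 (.split 6 97 (.wt
    2) (.split 2 (-62) (.split 1 150 (.lin 11) (.split 0 (-343) .sq (.split 5 185 (.split 3 53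
    (.wt 2) (.split 0 (-290) (.split 1 159 (.lin 2) (.split 4 (-254) (.splitN 209915 .sq (.split
    6 101 (.wt 0) (.split 2 (-71) (.split 1 168 (.lin 11) (.split 6 114 (.split 1 169 (.splitN
    215343 .sq (.wt 0)) (.lin 11)) (.wt 1))) (.lin 9)))) (.lin 6))) (.lin 1))) (.lin 1)))) (.lin
    9))) (.wt 3)) (.lin 6)) (.lin 1)))) (.lin 9)) (.lin 6))) (.lin 6)) (.lin 1))) (.lin 1))) (.wt
    3)) (.lin 11))) (.split 4 (-173) (.split 0 (-209) (.split 2 (-89) (.split 1 168 (.lin 11)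
    (.splitN 321648 (.split 0 (-485) .sq (.split 5 311 (.split 4 (-480) (.lin 3) (.split 4 (-444)
    (.lin 12) (.split 3 52 (.splitN 275929 (.split 0 (-432) .sq (.split 4 (-390) (.lin 12)
    (.split 5 102 (.split 3 47 (.split 1 205 (.wt 2) (.lin 2)) .cand) (.split 0 (-272) (.split 4
    (-236) (.splitN 195821 .sq (.splitN 228638 (.split 3 43 (.wt 5) (.split 1 177 (.lin 2)
    (.split 6 154 (.split 2 (-117) (.lin 9) (.split 0 (-319) .sq (.split 4 (-309) (.lin 3)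
    (.split 6 140 (.split 1 187 (.splitN 212214 (.split 0 (-293) .sq (.split 5 113 (.split 6 128
    (.wt 2) (.split 4 (-254) (.split 2 (-98) .sq (.lin 9)) (.lin 6))) (.lin 1))) (.wt 3)) (.lin
    11)) (.wt 2))))) (.wt 2)))) (.wt 3))) (.lin 6)) (.lin 1))))) (.wt 3)) (.split 0 (-227)
    (.split 1 186 (.lin 2) (.split 4 (-191) (.splitN 196291 (.wt 3) (.split 5 235 (.split 0
    (-453) (.lin 1) (.split 5 98 (.split 0 (-318) (.lin 1) (.split 4 (-282) (.lin 6) (.splitN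
    225200 (.wt 5) (.split 5 77 (.split 0 (-300) (.lin 1) (.split 5 59 (.split 0 (-282) (.lin 1)
    (.split 4 (-246) (.lin 6) (.split 5 55 (.split 6 140 (.split 4 (-210) (.lin 6) (.split 0
    (-246) (.lin 7) (.split 1 205 (.split 2 (-99) (.lin 9) (.splitN 254295 (.wt 3) (.split 5 49
    (.split 6 125 (.wt 2) (.splitN 267928 (.wt 0) (.wt 1))) (.wt 1)))) (.lin 8)))) (.wt 2)) (.wt
    2)))) (.wt 2))) (.wt 1))))) (.wt 2))) (.wt 1))) (.lin 6))) (.lin 1))))) (.lin 1))) (.wt 3)))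
    (.lin 9)) (.lin 7)) (.lin 6))) (.lin 2)) (.split 0 (-191) (.split 1 150 (.lin 2) (.split 4
    (-155) (.splitN 589797 (.splitN 167085 (.wt 3) (.split 0 (-724) .sq (.split 4 (-687) (.lin
    12) (.split 6 160 (.split 2 (-117) (.lin 9) (.split 6 116 (.split 2 (-81) (.lin 9) (.split 1
    205 (.splitN 453540 (.split 0 (-623) .sq (.split 4 (-579) (.lin 12) (.split 6 98 (.split 2
    (-63) (.lin 9) (.split 1 187 (.splitN 396809 (.split 5 131 (.split 0 (-318) (.lin 1) (.split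
    5 73 (.split 0 (-255) (.lin 1) (.split 4 (-219) (.lin 6) (.split 6 89 (.split 2 (-54) (.lin
    9) (.splitN 374535 (.split 3 70 (.wt 2) (.split 1 159 (.lin 2) (.split 5 54 (.split 0 (-228)
    (.lin 1) (.split 4 (-201) (.lin 3) (.splitN 292307 (.wt 1) .cand))) (.split 4 (-173) (.split
    0 (-218) (.split 6 80 (.wt 2) (.split 4 (-191) (.split 2 (-53) (.split 1 168 (.lin 11)
    (.split 3 87 (.split 1 169 (.split 4 (-201) (.lin 0) (.splitN 274395 (.wt 1) (.split 0 (-225)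
    (.wt 0) (.lin 1)))) (.lin 2)) (.wt 2))) (.lin 9)) (.lin 6))) (.lin 1)) (.lin 0))))) (.wt 3)))
    (.split 1 168 (.lin 11) (.splitN 248509 (.wt 3) .cand))))) (.split 0 (-227) (.split 4 (-191)
    (.split 6 89 (.split 2 (-54) (.lin 9) (.splitN 307832 (.split 3 79 (.split 1 169 (.splitN
    278786 (.split 6 81 (.wt 2) .cand) (.wt 3)) (.lin 2)) .cand) (.wt 3))) (.split 4 (-209)
    (.split 2 (-62) (.splitN 259633 .cand (.wt 1)) (.lin 9)) (.lin 6))) (.lin 6)) (.lin 1))))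
    (.split 0 (-290) (.split 4 (-254) (.splitN 276681 (.split 0 (-394) .sq (.split 5 239 (.split
    4 (-372) (.lin 3) (.split 6 89 (.split 2 (-54) (.lin 9) (.split 3 70 (.wt 2) (.split 6 84
    (.split 2 (-45) (.lin 9) (.split 1 169 (.splitN 233045 (.wt 1) (.split 0 (-342) (.wt 0)
    (.split 5 176 (.wt 2) (.lin 1)))) (.lin 11))) (.split 4 (-272) (.split 0 (-308) (.split 2
    (-53) (.split 1 168 (.lin 11) (.splitN 235349 .sq (.splitN 240651 (.split 0 (-321) (.split 5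
    148 (.lin 1) (.split 4 (-290) .sq (.lin 3))) (.wt 1)) (.wt 1)))) (.lin 9)) (.lin 7)) (.lin
    6))))) (.split 4 (-272) (.split 0 (-308) (.split 2 (-62) (.split 1 168 (.lin 11) (.splitN
    236726 .sq (.wt 1))) (.lin 9)) (.lin 7)) (.lin 6)))) (.lin 1))) (.wt 3)) (.lin 6)) (.lin 1)))
    (.wt 3)) (.lin 11))) (.split 4 (-182) (.split 0 (-218) (.split 2 (-71) (.split 1 177 (.lin
    11) (.split 5 182 (.split 4 (-354) (.lin 0) (.split 0 (-381) (.lin 1) (.splitN 215972 (.wt 3)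
    (.split 5 149 (.split 0 (-354) (.lin 1) (.split 5 143 (.split 4 (-309) (.lin 6) (.splitN
    227634 (.wt 5) (.split 5 101 (.split 4 (-273) (.lin 0) (.split 0 (-300) (.lin 1) (.split 3 82
    (.split 4 (-255) (.lin 6) (.splitN 242754 (.wt 5) (.split 5 76 (.split 0 (-264) (.lin 1)
    (.split 4 (-237) (.lin 3) (.splitN 253816 (.wt 5) (.split 5 62 (.split 4 (-219) (.lin 6)
    (.split 3 77 (.split 0 (-246) (.lin 1) (.split 1 187 (.split 5 51 (.split 4 (-201) (.lin 6)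
    (.split 5 49 (.split 0 (-228) (.lin 1) (.split 6 107 (.wt 2) (.split 2 (-80) (.splitN 297668
    (.wt 0) (.wt 1)) (.lin 9)))) (.wt 2))) (.wt 2)) (.lin 2))) (.wt 2))) (.wt 1))))) (.wt 1))))
    (.wt 2)))) (.wt 1)))) (.wt 1))) (.wt 1))))) (.wt 2))) (.lin 9)) (.lin 7)) (.lin 6))))) (.wt
    3)) (.lin 11))) (.split 4 (-200) (.split 2 (-89) (.split 1 195 (.lin 11) (.splitN 211656 (.wt
    5) (.split 5 99 (.split 4 (-336) (.lin 0) (.split 0 (-336) (.lin 1) (.split 4 (-300) (.lin 6)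
    (.splitN 277082 (.split 3 74 (.split 0 (-318) (.lin 1) (.wt 2)) (.wt 0)) (.wt 6))))) (.wt
    1)))) (.lin 9)) (.lin 6)))) (.wt 2))))) (.wt 3)) (.lin 6))) (.lin 1)))

def cert5_90_6 : Cert :=
  (.split 3 52 (.split 1 151 (.split 0 (-354) (.split 5 211 (.lin 1) (.split 4 (-335) (.splitN
    6049755 (.split 5 33592 (.split 0 (-1161) (.wt 2) (.split 5 1031 (.split 4 (-1173) (.lin 0)
    (.splitN 889516 (.wt 1) (.split 3 43 (.wt 0) (.split 0 (-920) (.wt 2) (.split 5 779 (.split 4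
    (-921) (.lin 0) (.split 0 (-861) (.wt 2) (.split 5 725 (.split 4 (-867) (.lin 0) (.split 6 88
    (.wt 2) (.split 2 (-62) (.split 1 141 (.lin 11) (.split 6 93 (.split 2 (-63) (.lin 9) (.split
    1 142 (.splitN 1747337 (.wt 1) (.wt 0)) (.lin 11))) (.split 2 (-71) (.split 1 150 (.lin 11)
    (.split 0 (-388) (.split 5 238 (.lin 1) (.split 0 (-409) (.split 5 265 (.lin 1) (.split 4
    (-389) (.split 0 (-759) (.wt 2) (.split 5 608 (.split 4 (-732) (.lin 0) (.split 0 (-439)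
    (.split 5 292 (.lin 1) (.split 4 (-416) (.split 0 (-697) (.wt 2) (.split 5 545 (.split 4
    (-669) (.lin 0) (.split 0 (-465) (.split 5 319 (.lin 1) (.split 4 (-443) (.split 0 (-655)
    (.wt 2) (.split 5 500 (.split 4 (-624) (.lin 0) (.split 0 (-560) (.split 5 409 (.lin 1)
    (.split 4 (-533) (.splitN 1514124 (.splitN 1365730 (.wt 1) .cand) (.wt 0)) (.lin 0))) (.split
    5 401 (.split 4 (-525) (.lin 0) (.splitN 1479181 (.wt 0) (.split 0 (-513) (.split 5 364 (.lin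
    1) (.split 4 (-488) (.splitN 1585071 .cand (.wt 1)) (.lin 0))) (.wt 2)))) (.lin 1)))) (.lin
    1))) (.lin 0))) (.wt 2))) (.lin 1))) (.lin 0))) (.wt 2))) (.lin 1))) (.lin 0))) (.wt 2)))
    (.wt 2))) (.lin 9)))) (.lin 9)))) (.lin 1)))) (.lin 1)))))) (.lin 1))) (.div 5)) (.wt 3))
    (.lin 12))) (.split 5 230 (.split 4 (-372) (.lin 0) (.split 4 (-327) (.lin 12) (.split 5 64
    (.wt 1) (.split 0 (-191) (.split 6 89 (.split 2 (-63) (.lin 9) (.split 1 142 (.split 5 99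
    (.wt 1) (.split 4 (-191) (.split 0 (-227) (.splitN 2480857 (.wt 1) (.split 3 44 (.wt 0)
    (.split 1 132 (.lin 2) (.split 5 118 (.wt 1) (.split 0 (-254) (.split 4 (-227) (.splitN
    3296511 (.wt 1) (.split 6 80 (.wt 0) (.split 5 212 (.split 2 (-62) (.split 1 141 (.lin 11)
    (.splitN 4370784 (.wt 1) (.split 0 (-333) (.wt 0) (.split 5 185 (.split 4 (-300) (.lin 0)
    (.splitN 6961325 (.wt 1) (.split 0 (-305) (.wt 0) (.split 5 158 (.split 4 (-273) (.lin 0)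
    (.splitN 30381781 (.wt 1) (.split 0 (-275) (.wt 0) (.split 5 131 (.split 4 (-246) (.lin 0)
    (.wt 1)) (.lin 1))))) (.lin 1))))) (.lin 1))))) (.lin 9)) (.lin 6)))) (.lin 6)) (.lin 1))))))
    (.lin 1)) (.lin 0))) (.lin 11))) (.split 4 (-182) (.split 0 (-209) (.split 2 (-71) (.split 1
    141 (.lin 11) (.split 5 212 (.split 5 75 (.wt 1) (.split 3 47 (.split 1 142 (.splitN 2854248
    (.wt 1) (.wt 0)) (.lin 2)) (.split 1 150 (.lin 2) (.split 0 (-276) (.split 5 130 (.lin 1)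
    (.split 4 (-254) (.splitN 7336956 (.wt 0) (.wt 1)) (.lin 0))) (.wt 0))))) (.lin 0))) (.lin
    9)) (.lin 7)) (.lin 6))) (.lin 1))))) (.lin 1))) (.lin 2)) (.split 1 141 (.lin 2) (.split 5
    108 (.split 0 (-264) (.lin 1) (.split 4 (-237) (.lin 6) (.wt 0))) (.split 0 (-254) (.split 6
    89 (.split 2 (-63) (.lin 9) (.split 1 151 (.split 0 (-516) (.split 5 373 (.lin 1) (.split 4
    (-479) (.splitN 6447006 (.split 5 35806 (.split 0 (-10051) (.wt 2) (.split 5 9905 (.split 0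
    (-8546) (.wt 2) (.split 5 8402 (.split 4 (-8535) (.lin 0) (.split 6 80 (.wt 2) (.split 2
    (-62) (.split 1 150 (.lin 11) (.split 0 (-732) (.split 5 589 (.lin 1) (.split 4 (-713)
    (.splitN 1443140 .sq (.splitN 2013851 (.split 0 (-3861) (.wt 0) (.split 5 3704 (.split 4
    (-3828) (.lin 0) (.split 0 (-922) (.split 5 778 (.lin 1) (.split 4 (-902) .sq (.lin 0))) (.wt
    2))) (.lin 1))) (.wt 1))) (.lin 0))) (.wt 2))) (.lin 9)))) (.lin 1))) (.lin 1))) (.div 5))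
    (.wt 3)) (.lin 0))) (.split 5 374 (.split 4 (-507) (.lin 0) (.split 6 84 (.split 2 (-54)
    (.lin 9) (.split 1 142 (.split 5 160 (.wt 1) (.split 4 (-281) (.split 0 (-308) (.splitN
    4245203 (.wt 1) (.split 0 (-490) (.wt 0) (.split 5 347 (.split 4 (-462) (.lin 0) (.splitN
    4994494 (.wt 1) (.split 0 (-465) (.wt 0) (.split 5 320 (.split 4 (-435) (.lin 0) (.split 5
    198 (.wt 1) (.split 4 (-317) (.split 0 (-344) (.splitN 7727427 (.wt 1) (.split 0 (-383) (.wt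
    0) (.split 5 239 (.split 4 (-354) (.lin 0) (.splitN 20584498 (.wt 1) (.wt 0))) (.lin 1))))
    (.lin 1)) (.lin 0)))) (.lin 1))))) (.lin 1)))) (.lin 1)) (.lin 0))) (.lin 11))) (.split 2
    (-62) (.split 1 150 (.lin 11) (.split 0 (-419) (.split 5 274 (.lin 1) (.split 4 (-398)
    (.splitN 105194805 (.wt 0) (.wt 1)) (.lin 0))) (.wt 0))) (.lin 9)))) (.lin 1))) (.lin 11)))
    (.split 2 (-71) (.split 1 159 (.lin 11) (.split 0 (-460) (.split 5 301 (.lin 1) (.split 4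
    (-434) (.splitN 1567814 (.split 5 8698 (.split 4 (-8823) (.lin 0) (.wt 0)) (.div 5)) (.wt 1))
    (.lin 0))) (.wt 0))) (.lin 9))) (.lin 1)))))

def cert5_90_7 : Cert :=
  (.split 6 120 (.split 2 (-90) (.lin 9) (.split 1 178 (.split 6 98 (.split 2 (-72) (.lin 9)
    (.split 1 160 (.split 5 43 (.wt 1) (.split 0 (-173) cert5_90_6 (.lin 1))) (.lin 11))) (.split
    0 (-191) (.split 2 (-80) (.split 1 150 (.lin 11) (.split 5 90 (.split 4 (-246) (.lin 0)
    (.split 0 (-264) (.lin 1) (.split 3 49 (.split 1 160 (.split 4 (-228) (.lin 0) (.split 5 71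
    (.wt 1) (.split 4 (-191) (.split 0 (-227) (.splitN 9742268 (.wt 1) (.split 6 107 (.wt 0)
    (.split 4 (-209) (.split 2 (-89) (.split 1 159 (.lin 11) (.splitN 14331753 (.wt 1) (.split 5
    79 (.wt 1) (.split 0 (-245) (.wt 0) (.lin 1))))) (.lin 9)) (.lin 6)))) (.lin 1)) (.lin 0))))
    (.lin 2)) (.wt 0)))) (.split 4 (-209) (.split 0 (-245) (.split 3 52 (.split 1 169 (.split 0
    (-498) (.split 5 337 (.lin 1) (.split 4 (-479) (.splitN 3839531 (.split 0 (-1858) .sq (.split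
    5 1706 (.splitN 3341190 (.split 0 (-1719) .sq (.split 5 1562 (.split 4 (-1713) (.lin 0)
    (.split 3 47 (.split 1 160 (.splitN 836010 (.wt 1) (.wt 0)) (.lin 2)) (.split 1 159 (.lin 2)
    (.splitN 1336909 (.split 0 (-807) (.split 5 643 (.lin 1) (.split 4 (-767) .sq (.lin 0))) (.wt
    0)) (.wt 1))))) (.lin 1))) (.wt 1)) (.lin 1))) (.wt 3)) (.lin 12))) (.split 5 347 (.split 4
    (-498) (.lin 0) (.split 4 (-471) (.lin 12) (.split 3 47 (.split 1 160 (.split 0 (-469) (.wt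
    2) (.split 5 311 (.split 5 171 (.split 6 111 (.wt 2) (.split 4 (-227) (.split 2 (-89) (.split
    1 159 (.lin 11) (.splitN 7451802 (.split 5 131 (.split 4 (-264) (.lin 0) (.split 5 113
    (.split 4 (-246) (.lin 0) (.splitN 3250447 (.wt 1) (.split 5 104 (.split 0 (-259) (.wt 2)
    (.split 5 95 (.split 4 (-228) (.lin 0) (.wt 1)) (.lin 1))) (.split 4 (-245) (.split 0 (-272)
    (.wt 0) (.lin 1)) (.lin 0))))) (.split 4 (-254) (.split 0 (-281) (.splitN 2744367 (.splitN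
    2618786 (.wt 1) .cand) (.wt 0)) (.lin 1)) (.lin 0)))) (.split 4 (-272) (.split 0 (-299)
    (.splitN 2171217 (.split 0 (-310) (.wt 2) (.split 5 149 (.split 4 (-282) (.lin 0) (.wt 1))
    (.lin 1))) (.wt 0)) (.lin 1)) (.lin 0))) (.wt 3))) (.lin 9)) (.lin 6))) (.split 4 (-290)
    (.split 0 (-326) (.split 0 (-379) (.wt 2) (.split 5 221 (.split 4 (-363) (.lin 0) (.splitN
    1376589 (.wt 1) (.split 6 110 (.wt 0) (.split 4 (-308) (.split 2 (-89) (.split 1 159 (.lin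
    11) (.splitN 1591433 (.split 5 189 (.wt 1) (.split 4 (-326) (.split 0 (-353) (.wt 0) (.lin
    1)) (.lin 0))) (.wt 0))) (.lin 9)) (.lin 6))))) (.lin 1))) (.lin 1)) (.lin 0))) (.lin 1)))
    (.lin 2)) (.split 1 159 (.lin 2) (.splitN 4617851 (.split 0 (-447) (.split 5 283 (.lin 1)
    (.wt 0)) (.wt 0)) (.wt 6)))))) (.lin 1))) (.lin 2)) (.split 1 168 (.lin 2) (.wt 2))) (.lin
    1)) (.lin 0)))) (.lin 9)) (.lin 7))) (.lin 11))) (.split 2 (-98) (.split 1 168 (.lin 11)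
    (.split 5 90 (.split 4 (-318) (.lin 0) (.split 0 (-309) (.lin 1) (.split 4 (-282) (.lin 6)
    (.split 3 47 (.split 0 (-291) (.lin 1) (.split 6 148 (.split 4 (-246) (.lin 6) (.split 0
    (-273) (.lin 7) (.split 2 (-117) (.lin 9) (.split 6 141 (.split 5 54 (.wt 1) (.split 6 132
    (.split 4 (-228) (.lin 6) (.split 0 (-255) (.lin 7) (.wt 5))) (.wt 0))) (.wt 0))))) (.wt 0)))
    (.wt 0))))) (.split 4 (-236) (.split 3 59 (.split 3 47 (.split 1 205 (.split 0 (-534) (.split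
    5 337 (.lin 1) (.split 4 (-515) (.splitN 1456694 (.split 4 (-16173) (.div 4) (.split 5 16061
    (.split 0 (-16266) (.lin 1) (.split 5 8086 (.split 0 (-8283) (.lin 1) (.split 6 150 (.split 5
    355 (.lin 6) (.split 1 187 (.splitN 1325579 (.split 0 (-936) .sq (.splitN 1163136 (.split 6
    135 (.split 2 (-108) (.lin 9) (.split 0 (-844) .sq (.split 5 671 (.split 4 (-840) (.lin 0)
    (.split 6 133 (.split 2 (-99) (.lin 9) (.split 1 169 (.splitN 1046258 (.splitN 849454 (.wt 1)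
    .cand) (.wt 0)) (.lin 11))) (.wt 2))) (.lin 1)))) (.wt 2)) (.wt 1))) (.wt 1)) (.lin 11)))
    (.wt 2))) (.div 5))) (.lin 0))) (.wt 1)) (.lin 12))) (.split 5 365 (.split 4 (-579) (.lin 0)
    (.split 4 (-507) (.lin 12) (.split 5 336 (.split 6 144 (.split 2 (-117) (.lin 9) (.split 1
    187 (.split 5 176 (.split 0 (-363) (.lin 1) (.split 4 (-336) (.lin 6) (.splitN 6150508
    (.splitN 1746404 (.wt 5) (.split 6 142 (.split 2 (-108) (.lin 9) (.split 5 170 (.split 4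
    (-318) (.lin 6) (.splitN 1903684 (.wt 5) (.split 5 155 (.split 0 (-327) (.lin 1) (.split 4
    (-300) (.lin 6) (.splitN 5096629 (.split 6 132 (.split 2 (-99) (.lin 9) (.split 1 169
    (.splitN 4057971 (.split 0 (-284) (.split 5 121 (.lin 1) (.split 4 (-263) (.splitN 2899458
    (.wt 0) (.wt 1)) (.lin 0))) (.wt 0)) (.wt 1)) (.lin 11))) (.wt 0)) (.wt 1)))) (.wt 1)))) (.wt
    1))) (.wt 0))) (.wt 1)))) (.split 4 (-326) (.splitN 1613832 (.split 6 141 (.split 4 (-480)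
    (.lin 6) (.split 0 (-507) (.lin 7) (.split 2 (-108) (.lin 9) (.split 0 (-412) (.split 5 238
    (.lin 1) (.split 4 (-371) (.splitN 1296703 (.split 6 131 (.split 2 (-99) (.lin 9) (.split 1
    169 (.split 0 (-469) (.split 5 301 (.lin 1) (.split 4 (-443) (.splitN 1067243 (.wt 0) (.wt
    1)) (.lin 0))) (.wt 2)) (.lin 11))) (.wt 0)) (.wt 1)) (.lin 0))) (.wt 2))))) (.wt 0)) (.wt
    1)) (.lin 6))) (.lin 11))) (.wt 2)) (.wt 2)))) (.lin 1))) (.lin 2)) (.split 1 177 (.lin 2)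
    (.splitN 4431418 (.split 5 24610 (.split 4 (-24834) (.lin 0) (.split 0 (-24816) (.lin 1)
    (.splitN 1936640 (.split 5 10750 (.split 4 (-10974) (.lin 0) (.split 0 (-10956) (.lin 1)
    (.splitN 1664205 (.split 5 9238 (.split 4 (-9462) (.lin 0) (.split 0 (-1801) (.split 5 1588
    (.lin 1) .sq) (.wt 0))) (.div 5)) (.wt 6)))) (.div 5)) (.wt 6)))) (.div 5)) (.wt 1)))) (.wt
    0)) (.lin 6)))) (.lin 9)))

def cert5_90_8 : Cert :=
  (.split 5 36 (.split 4 (-336) (.lin 0) (.split 0 (-291) (.lin 1) (.split 4 (-255) (.lin 6)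
    (.splitN 202671 (.wt 1) (.split 7 (-33) (.split 2 (-126) (.lin 9) (.split 3 43 (.wt 2)
    (.split 0 (-146) (.split 4 (-110) (.split 6 80 (.wt 2) (.split 4 (-119) (.split 0 (-155)
    (.split 2 (-53) (.split 1 141 (.lin 11) (.split 5 23 (.split 0 (-273) (.lin 1) (.split 4
    (-237) (.lin 6) (.splitN 275190 (.wt 1) (.split 3 54 (.wt 2) (.split 6 100 (.wt 2) (.split 4
    (-146) (.split 0 (-182) (.split 5 14 (.wt 2) (.split 4 (-155) (.split 6 107 (.wt 2) (.split 4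
    (-164) (.split 2 (-80) (.split 3 61 (.wt 2) (.split 4 (-173) (.split 6 138 (.split 4 (-210)
    (.lin 6) (.split 0 (-246) (.lin 7) (.split 1 223 (.split 3 73 (.wt 2) (.split 0 (-218)
    (.split 6 117 (.wt 2) (.split 4 (-191) (.split 2 (-89) (.splitN 451707 .cand (.wt 1)) (.lin
    9)) (.lin 6))) (.lin 1))) (.lin 8)))) (.split 4 (-200) (.split 2 (-107) (.splitN 422885 .cand
    (.wt 1)) (.lin 9)) (.lin 6))) (.lin 6))) (.lin 9)) (.lin 6))) (.lin 6))) (.lin 7)) (.lin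
    6))))))) (.split 0 (-173) (.split 4 (-137) (.split 6 125 (.split 4 (-210) (.lin 6) (.split 0
    (-246) (.lin 7) (.split 2 (-90) (.lin 9) (.split 3 58 (.wt 2) (.split 4 (-146) (.split 6 89
    (.wt 2) (.split 0 (-191) (.split 2 (-62) (.split 3 62 (.wt 2) (.split 1 168 (.lin 2) (.split
    4 (-164) (.split 6 111 (.split 4 (-192) (.lin 6) (.split 1 196 (.split 3 74 (.wt 2) (.split 0
    (-209) (.split 4 (-173) (.splitN 392179 .cand (.wt 3)) (.lin 6)) (.lin 1))) (.lin 8)))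
    (.split 4 (-182) (.split 0 (-218) (.split 1 186 (.lin 8) (.split 2 (-80) (.split 3 77 (.split
    0 (-228) (.lin 1) (.split 1 196 (.split 4 (-192) (.lin 6) (.split 6 119 (.wt 2) (.split 2
    (-89) (.splitN 316532 (.wt 0) (.wt 1)) (.lin 9)))) (.lin 2))) (.wt 2)) (.lin 9))) (.lin 7))
    (.lin 6))) (.lin 6)))) (.lin 9)) (.lin 7))) (.lin 6)))))) (.split 4 (-182) (.split 0 (-218)
    (.split 1 186 (.lin 8) (.split 2 (-98) (.splitN 378129 (.split 3 85 (.split 0 (-273) (.lin 1)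
    (.split 4 (-237) (.lin 6) (.split 3 53 (.wt 2) (.splitN 335289 (.split 3 76 (.split 1 232
    (.split 3 69 (.split 0 (-255) (.lin 1) (.split 4 (-219) (.lin 6) (.split 6 137 (.wt 2)
    (.split 4 (-200) (.split 0 (-236) (.split 1 204 (.lin 8) (.split 6 143 (.wt 2) (.split 2
    (-116) (.splitN 291644 (.split 1 220 (.split 2 (-117) (.lin 2) (.split 0 (-251) (.lin 1) (.wt
    2))) (.wt 0)) (.wt 1)) (.lin 9)))) (.lin 7)) (.lin 6))))) (.wt 2)) (.lin 2)) (.wt 0)) (.wt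
    1))))) (.wt 0)) (.wt 1)) (.lin 9))) (.lin 7)) (.lin 6))) (.lin 6)) (.lin 1)))) (.lin 9))
    (.lin 7)) (.lin 6))) (.lin 6)) (.lin 1)))) (.split 2 (-53) (.split 3 45 (.wt 1) (.split 1 132
    (.lin 2) (.split 5 22 (.wt 1) (.split 3 74 (.split 0 (-264) (.lin 1) (.split 4 (-237) (.lin
    6) (.wt 3))) (.wt 0))))) (.lin 9))))))) (.split 0 (-155) (.split 0 (-164) (.split 4 (-128)
    (.split 7 (-33) (.split 2 (-126) (.lin 9) (.splitN 774030 (.split 0 (-853) .sq (.split 5 725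
    (.split 4 (-894) (.lin 3) cert5_90_5) (.lin 1))) (.wt 3))) (.split 2 (-53) (.split 3 65
    (.split 1 223 cert5_90_7 (.lin 2)) (.split 1 150 (.lin 2) (.split 6 113 (.split 2 (-81) (.lin
    9) (.split 0 (-284) (.split 5 94 (.lin 1) (.split 4 (-263) (.split 6 101 (.split 5 103 (.lin
    6) (.split 2 (-72) (.lin 9) (.split 0 (-302) (.split 5 121 (.lin 1) (.split 0 (-355) (.split
    5 175 (.lin 1) (.split 0 (-452) (.split 5 265 (.lin 1) (.split 3 87 (.split 6 97 (.split 5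
    283 (.lin 7) (.split 2 (-63) (.lin 9) (.split 1 169 (.split 0 (-590) (.split 5 427 (.lin 1)
    (.split 4 (-542) (.splitN 19236641 (.split 5 106870 (.split 0 (-107031) (.lin 1) (.split 0
    (-711) (.split 5 544 (.lin 1) (.split 4 (-659) (.splitN 7928683 (.split 5 44032 (.split 0
    (-44193) (.lin 1) (.split 0 (-781) (.split 5 616 (.lin 1) (.split 4 (-731) (.splitN 1568969
    .sq (.splitN 6262598 (.split 5 34780 (.split 0 (-34941) (.lin 1) (.split 3 76 (.split 1 160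
    (.splitN 5271353 (.split 5 29272 (.split 0 (-29424) (.lin 1) (.split 6 88 (.split 2 (-54)
    (.lin 9) (.split 1 151 (.split 0 (-2388) (.wt 2) (.split 5 2237 (.split 4 (-2361) (.lin 0)
    (.split 0 (-908) (.split 5 760 (.lin 1) (.split 4 (-884) (.splitN 2228192 .sq (.split 0
    (-2041) (.wt 0) (.split 5 1886 (.split 4 (-2010) (.lin 0) (.split 0 (-996) (.split 5 850
    (.lin 1) (.split 4 (-974) (.splitN 2712572 .sq (.split 0 (-1298) (.wt 0) (.wt 1))) (.lin 0)))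
    (.wt 2))) (.lin 1)))) (.lin 0))) (.wt 2))) (.lin 1))) (.lin 11))) (.wt 1))) (.div 5)) (.wt
    1)) (.lin 2)) (.wt 2))) (.div 5)) (.wt 1))) (.lin 0))) (.wt 2))) (.div 5)) (.wt 1)) (.lin
    0))) (.wt 2))) (.div 5)) (.wt 1)) (.lin 0))) (.wt 2)) (.lin 11)))) (.wt 0)) (.wt 0))) (.wt
    2))) (.wt 2))) (.wt 0)))) (.wt 0)) (.lin 12))) (.wt 5))) (.wt 0)))) (.lin 9))) (.lin 6))
    (.lin 4)) (.lin 1)))

def cert5_90_9 : Cert :=
  (.split 5 36 (.split 7 (-33) (.split 3 65 (.splitN 1290337 (.split 2 (-7169) (.div 2) (.split 0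
    (-7293) (.lin 1) (.split 1 7261 (.split 6 7235 (.splitN 1219420 (.split 0 (-1043) .sq (.split
    2 (-945) (.lin 1) (.split 1 1042 (.split 6 980 (.splitN 911226 (.split 0 (-883) .sq (.split 2
    (-783) (.lin 1) (.split 1 880 (.split 6 818 (.split 5 23 (.split 6 372 (.split 4 (-417) (.lin
    6) (.split 1 439 (.split 2 (-333) (.lin 9) (.splitN 241027 (.wt 1) (.split 3 45 (.wt 2)
    (.split 5 14 (.wt 2) (.split 0 (-245) (.split 4 (-209) (.split 6 181 (.wt 2) (.split 4 (-227)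
    (.split 0 (-263) (.split 2 (-152) (.splitN 422481 .cand (.wt 3)) (.lin 9)) (.lin 7)) (.lin
    6))) (.lin 6)) (.lin 1)))))) (.lin 8))) (.split 4 (-398) (.split 0 (-434) (.split 1 411 (.lin
    8) (.split 2 (-341) (.splitN 778328 .sq (.wt 0)) (.lin 9))) (.lin 7)) (.lin 6))) (.split 0
    (-245) (.split 4 (-209) (.splitN 200600 .sq (.splitN 421099 (.split 0 (-528) .sq (.split 2
    (-414) (.lin 1) (.split 1 511 (.splitN 395029 .cand (.wt 1)) (.lin 2)))) (.wt 1))) (.lin 6))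
    (.lin 1))) (.lin 7)) (.lin 2)))) (.wt 3)) (.lin 7)) (.lin 2)))) (.wt 3)) (.lin 7)) (.lin
    2)))) (.wt 3)) (.split 0 (-254) (.split 1 240 (.lin 2) (.split 4 (-218) (.splitN 15491492
    (.split 2 (-86063) (.div 2) (.split 0 (-86214) (.lin 1) (.split 1 86182 (.split 6 86129
    (.splitN 14633368 (.split 0 (-3805) .sq (.split 2 (-3681) (.lin 1) (.split 1 3805 (.split 6
    3716 (.splitN 6607485 (.split 0 (-2540) .sq (.split 2 (-2412) (.lin 1) (.split 1 2536 (.split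
    5 23 (.split 6 603 (.split 4 (-678) (.lin 6) (.split 0 (-714) (.lin 7) (.split 1 700 (.split
    2 (-567) (.lin 9) (.splitN 260518 (.wt 3) (.split 5 18 (.split 6 218 (.wt 2) (.split 4 (-272)
    (.split 0 (-308) (.split 6 250 (.wt 2) (.split 4 (-299) (.split 0 (-335) (.split 6 264 (.wt
    2) (.split 4 (-317) (.split 0 (-353) (.split 2 (-233) (.splitN 923100 (.split 6 435 (.split 4
    (-498) (.lin 6) (.split 1 520 (.split 3 73 (.wt 2) (.split 6 281 (.wt 2) (.split 4 (-344)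
    (.split 0 (-380) (.split 1 366 (.lin 8) (.split 2 (-251) (.splitN 550601 .sq (.splitN 737527
    .cand (.wt 3))) (.lin 9))) (.lin 7)) (.lin 6)))) (.lin 8))) (.split 4 (-488) (.split 1 510
    (.lin 8) (.split 2 (-404) .sq (.lin 9))) (.lin 6))) (.wt 3)) (.lin 9)) (.lin 7)) (.lin 6)))
    (.lin 7)) (.lin 6))) (.lin 7)) (.lin 6))) (.split 6 558 (.split 0 (-669) (.lin 7) (.split 3
    87 (.split 6 236 (.split 4 (-300) (.lin 6) (.split 0 (-336) (.lin 7) (.split 1 313 (.split 2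
    (-198) (.lin 9) (.splitN 372138 (.split 3 78 (.split 6 214 (.split 4 (-264) (.lin 6) (.split
    0 (-300) (.lin 7) (.split 6 192 (.split 4 (-246) (.lin 6) (.split 0 (-282) (.lin 7) (.wt 2)))
    (.wt 0)))) (.wt 0)) (.wt 0)) (.wt 1))) (.lin 8)))) (.wt 2)) (.wt 2))) (.wt 1))))) (.lin 8))))
    (.split 4 (-659) (.split 0 (-695) (.split 1 672 (.lin 8) (.split 2 (-575) (.splitN 2080646
    .sq (.wt 1)) (.lin 9))) (.lin 7)) (.lin 6))) (.split 4 (-236) (.splitN 305374 (.split 2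
    (-1697) (.div 2) (.split 0 (-1848) (.lin 1) (.split 6 1745 (.split 4 (-1830) (.lin 6) (.split
    6 318 (.split 4 (-399) (.lin 6) (.split 0 (-435) (.lin 7) (.split 1 403 (.split 2 (-279)
    (.lin 9) (.splitN 292527 (.wt 0) (.wt 1))) (.lin 8)))) (.wt 0))) (.lin 7)))) (.wt 1)) (.lin
    6))) (.lin 2)))) (.wt 3)) (.lin 7)) (.lin 2)))) (.wt 3)) (.lin 7)) (.lin 2)))) (.wt 3)) (.lin
    6))) (.lin 1))) (.split 3 65 (.split 5 15 (.wt 1) (.split 3 57 (.split 6 751 (.split 4 (-804)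
    (.lin 6) (.split 0 (-831) (.lin 7) (.split 2 (-720) (.lin 9) (.split 3 51 (.split 6 340
    (.split 4 (-381) (.lin 6) (.split 0 (-408) (.lin 7) (.wt 3))) (.wt 0)) (.wt 0))))) (.wt 0))
    (.wt 0))) (.wt 0))) (.split 0 (-245) (.split 4 (-218) (.splitN 204515 .sq (.split 3 72
    (.split 6 2637 (.split 2 (-2610) (.lin 9) (.split 1 2707 (.split 6 1559 (.split 2 (-1530)
    (.lin 9) (.split 1 1627 (.split 7 (-33) (.splitN 353971 (.split 5 1966 (.split 0 (-3594)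
    (.lin 1) (.split 5 707 (.split 0 (-2343) (.lin 1) (.split 3 69 (.split 0 (-457) .sq (.split 2
    (-333) (.lin 1) (.split 1 430 (.split 4 (-615) (.lin 3) (.splitN 310576 (.split 3 59 (.split
    5 80 (.split 6 242 (.split 4 (-336) (.lin 6) (.split 0 (-372) (.lin 7) (.split 2 (-207) (.lin
    9) (.split 1 295 (.split 3 47 (.splitN 234357 (.split 5 43 (.wt 2) (.split 0 (-263) (.splitN
    215063 .sq (.split 6 195 (.wt 0) (.split 4 (-254) (.split 1 240 (.lin 11) .sq) (.lin 6))))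
    (.lin 1))) (.wt 3)) (.split 0 (-263) (.split 5 57 (.split 6 198 (.split 4 (-264) (.lin 6)
    (.split 0 (-300) (.lin 7) (.split 5 47 (.split 6 184 (.split 0 (-273) (.lin 7) (.split 6 175
    (.split 2 (-135) (.lin 9) (.split 1 227 (.wt 2) (.lin 2))) (.wt 2))) (.wt 2)) (.wt 2)))) (.wt
    2)) (.wt 2)) (.lin 1))) (.lin 11))))) (.split 4 (-299) (.split 2 (-215) (.split 1 294 (.lin
    11) .sq) (.lin 9)) (.lin 6))) (.split 0 (-299) (.split 4 (-263) (.splitN 261836 .sq (.wt 1))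
    (.lin 6)) (.lin 1))) (.wt 2)) (.wt 1))) (.lin 2)))) (.wt 2))) (.wt 1))) (.div 5)) (.wt 1))
    (.split 2 (-143) (.splitN 835474 (.wt 5) (.split 3 52 (.split 6 393 (.split 2 (-360) (.lin 9)
    (.split 1 439 (.split 5 822 (.split 4 (-1443) (.lin 0) (.split 0 (-1254) (.lin 1) (.split 4
    (-1227) (.lin 6) (.split 0 (-272) (.split 4 (-245) (.split 3 49 (.split 6 274 (.split 4
    (-1101) (.lin 6) (.split 0 (-1128) (.lin 7) (.split 2 (-243) (.lin 9) (.split 1 313 (.splitN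
    1385009 (.wt 5) (.split 5 109 (.split 0 (-417) (.lin 1) (.split 4 (-390) (.lin 6) (.wt 5)))
    (.wt 1))) (.lin 11))))) (.wt 0)) (.wt 0)) (.lin 12)) (.wt 0))))) (.wt 1)) (.lin 11))) (.wt
    0)) (.wt 0))) (.lin 9))) (.lin 11))) (.wt 6)) (.lin 11))) (.wt 2)) (.wt 2))) (.lin 6)) (.lin
    1)))

def cert5_90_10 : Cert :=
  (.split 6 111 (.split 2 (-72) (.lin 9) (.split 5 18 (.split 6 83 (.wt 1) (.split 2 (-53)
    (.split 0 (-1404) (.wt 2) (.split 3 1294 (.split 1 1402 (.split 4 (-1398) (.lin 0) (.splitN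
    1329659 (.wt 1) (.split 3 226 (.wt 0) (.split 0 (-335) (.split 1 321 (.lin 2) (.split 4
    (-299) (.splitN 1474978 (.wt 1) (.split 3 280 (.wt 0) (.split 0 (-389) (.split 1 375 (.lin 2)
    (.split 4 (-353) (.splitN 1686433 (.wt 1) (.split 3 384 (.wt 0) (.split 0 (-488) (.split 1
    474 (.lin 2) (.split 4 (-434) (.wt 2) (.lin 0))) (.lin 1)))) (.lin 6))) (.lin 1)))) (.lin
    6))) (.lin 1))))) (.lin 2)) (.lin 1))) (.lin 9))) (.splitN 1953824 (.split 0 (-1323) .sq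
    (.split 3 1213 (.split 1 1321 (.splitN 1509835 (.split 0 (-1142) .sq (.split 3 1033 (.split 1
    1141 (.split 4 (-1155) (.lin 0) (.split 6 93 (.split 2 (-54) (.lin 9) (.split 3 460 (.split 1
    547 (.split 3 331 (.split 0 (-444) (.lin 1) (.split 1 421 (.split 4 (-417) (.lin 0) (.split 6
    84 (.split 2 (-45) (.lin 9) (.splitN 730223 (.wt 6) (.split 0 (-324) (.wt 0) (.split 3 214
    (.wt 0) (.lin 1))))) (.split 4 (-281) (.split 0 (-317) (.split 2 (-53) (.split 3 294 (.split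
    0 (-399) (.lin 1) (.split 1 376 (.split 4 (-363) (.lin 0) (.splitN 514670 (.wt 1) (.split 3
    265 (.split 0 (-372) (.lin 1) (.split 1 349 (.splitN 619562 .cand (.wt 1)) (.lin 2))) (.wt
    2)))) (.lin 2))) (.wt 2)) (.lin 9)) (.lin 7)) (.lin 6)))) (.lin 2))) (.split 0 (-443) (.split
    1 420 (.lin 2) (.split 4 (-398) (.splitN 657728 .sq (.split 6 86 (.wt 0) (.wt 1))) (.lin 0)))
    (.lin 1))) (.lin 2)) (.split 0 (-569) (.split 1 546 (.lin 2) (.split 4 (-524) (.splitN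
    1124936 .sq (.wt 1)) (.lin 0))) (.lin 1)))) (.split 4 (-290) (.split 1 303 (.lin 8) (.split 2
    (-62) (.splitN 597864 (.split 3 571 (.split 0 (-696) (.lin 1) (.split 1 673 (.split 4 (-669)
    (.lin 0) (.splitN 559302 (.split 3 331 (.split 0 (-462) (.lin 1) (.split 1 439 (.split 4
    (-435) (.lin 0) (.wt 2)) (.lin 2))) (.wt 0)) (.wt 1))) (.lin 2))) (.wt 0)) (.wt 1)) (.lin
    9))) (.lin 6)))) (.lin 2)) (.lin 1))) (.wt 1)) (.lin 2)) (.lin 1))) (.wt 1)))) (.split 4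
    (-299) (.split 0 (-335) (.split 2 (-80) (.split 5 22 (.split 3 418 (.split 0 (-570) (.lin 1)
    (.split 1 556 (.split 4 (-561) (.lin 0) (.split 6 129 (.split 4 (-516) (.lin 6) (.split 2
    (-90) (.lin 9) (.split 3 256 (.wt 2) (.split 0 (-389) (.split 1 375 (.lin 2) (.split 4 (-344)
    (.split 3 299 (.wt 2) (.split 0 (-434) (.split 1 420 (.lin 2) (.split 4 (-389) (.splitN
    1272977 (.wt 1) (.split 3 337 (.wt 2) (.split 0 (-470) (.split 1 456 (.lin 2) (.split 4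
    (-425) (.split 6 116 (.wt 0) (.split 2 (-89) (.split 3 367 (.wt 2) (.split 0 (-515) (.split 1
    501 (.lin 2) (.split 4 (-479) (.splitN 1404856 (.wt 1) (.split 0 (-541) (.wt 0) (.split 1 520
    (.wt 2) (.lin 4)))) (.lin 0))) (.lin 1))) (.lin 9))) (.lin 0))) (.lin 1)))) (.lin 0))) (.lin
    1))) (.lin 0))) (.lin 1))))) (.split 4 (-317) (.split 0 (-353) (.split 1 339 (.lin 8) (.split
    2 (-98) (.split 3 367 (.split 0 (-525) (.lin 1) (.split 1 511 (.split 4 (-498) (.lin 0)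
    (.split 3 339 (.split 0 (-489) (.lin 1) (.split 1 475 (.split 4 (-462) (.lin 0) (.split 3 318
    (.split 4 (-435) (.lin 6) (.split 3 259 (.split 0 (-417) (.lin 1) (.split 1 403 (.split 4
    (-390) (.lin 0) (.split 3 232 (.split 0 (-390) (.lin 1) (.split 1 376 (.split 4 (-363) (.lin
    0) (.splitN 989464 (.wt 1) (.split 6 138 (.split 2 (-99) (.lin 9) (.splitN 1210568 (.wt 1)
    (.split 3 222 (.wt 0) (.split 1 357 (.lin 2) (.split 4 (-335) (.wt 2) (.lin 0)))))) (.split 2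
    (-107) (.splitN 1163375 .cand (.wt 1)) (.lin 9))))) (.lin 2))) (.split 0 (-389) (.split 1 375
    (.lin 2) (.split 4 (-344) (.splitN 1345794 (.split 6 138 (.split 2 (-99) (.lin 9) (.splitN
    1192240 (.wt 1) .cand)) (.wt 2)) (.wt 1)) (.lin 0))) (.lin 1)))) (.lin 2))) (.split 1 402
    (.lin 2) (.split 4 (-371) (.splitN 1359589 (.splitN 1067917 (.wt 3) (.split 3 300 (.split 0
    (-453) (.lin 1) (.split 6 142 (.split 4 (-408) (.lin 6) (.split 2 (-99) (.lin 9) (.split 3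
    282 (.split 0 (-426) (.lin 1) (.split 1 412 (.splitN 1254112 .cand (.wt 1)) (.lin 2))) (.wt
    2)))) (.wt 0))) (.wt 2))) (.wt 1)) (.lin 0))))) (.wt 2))) (.lin 2))) (.wt 2))) (.lin 2)))
    (.wt 2)) (.lin 9))) (.lin 7)) (.lin 6)))) (.lin 2))) (.split 0 (-551) (.split 1 537 (.lin 2)
    (.split 4 (-488) (.split 4 (-515) (.splitN 12366412 (.split 0 (-3408) .sq (.split 3 3274
    (.split 1 3418 (.splitN 7193149 (.split 0 (-2538) .sq (.split 3 2401 (.split 1 2545 (.split 4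
    (-2550) (.lin 0) (.splitN 6287773 (.split 0 (-2353) .sq (.split 3 2221 (.split 6 129 (.split
    2 (-90) (.lin 9) (.split 3 966 (.split 0 (-1101) (.lin 1) (.split 1 1087 (.split 3 691
    (.split 0 (-831) (.lin 1) (.split 1 817 (.split 6 120 (.wt 2) (.split 2 (-89) (.splitN
    1759298 (.split 3 556 (.split 0 (-696) (.lin 1) (.split 1 682 (.split 3 488 (.split 0 (-624)
    (.lin 1) (.split 1 610 (.split 4 (-588) (.lin 0) (.splitN 1338961 (.wt 1) (.split 3 452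
    (.split 1 574 (.split 3 434 (.wt 2) (.split 0 (-569) (.wt 2) (.lin 1))) (.lin 2)) (.split 1
    582 (.lin 2) (.split 4 (-560) (.splitN 1462942 .cand (.wt 1)) (.lin 0)))))) (.lin 2)))
    (.split 0 (-632) (.split 1 618 (.lin 2) (.split 4 (-596) (.splitN 1405961 .sq (.splitN
    1476899 .cand (.wt 1))) (.lin 0))) (.lin 1))) (.lin 2))) (.split 0 (-704) (.split 1 690 (.lin
    2) (.split 4 (-668) .sq (.lin 0))) (.lin 1))) (.wt 1)) (.lin 9))) (.lin 2))) (.split 0 (-830)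
    (.split 1 816 (.lin 2) (.split 4 (-785) (.splitN 2484035 .sq (.wt 1)) (.lin 0))) (.lin 1)))
    (.lin 2))) (.split 0 (-1100) (.split 1 1086 (.lin 2) (.split 4 (-1055) (.splitN 4466915 .sq
    (.wt 0)) (.lin 0))) (.lin 1)))) (.split 2 (-98) (.split 0 (-667) (.split 3 510 (.lin 1)
    (.split 1 645 (.lin 2) (.split 4 (-614) (.splitN 1530782 .sq (.wt 1)) (.lin 0)))) (.wt 2))
    (.lin 9))) (.lin 1))) (.wt 1))) (.lin 2)) (.lin 1))) (.wt 1)) (.lin 2)) (.lin 1))) (.wt 1))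
    (.lin 6)) (.lin 0))) (.lin 1))) (.wt 2)) (.lin 9)) (.lin 7)) (.lin 6)))

def cert5_90_11 : Cert :=
  (.split 5 23 (.split 3 202 (.split 0 (-363) (.lin 1) (.split 1 340 (.split 4 (-327) (.lin 6)
    (.split 6 111 (.split 4 (-291) (.lin 6) (.split 0 (-327) (.lin 7) (.split 1 313 (.split 2
    (-72) (.lin 9) (.split 5 18 (.wt 2) (.split 0 (-200) (.split 4 (-164) (.split 6 93 (.split 4
    (-273) (.lin 6) (.split 1 286 (.split 2 (-54) (.lin 9) (.splitN 481722 (.wt 1) (.split 3 108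
    (.wt 0) (.split 0 (-218) (.split 1 195 (.lin 2) (.split 4 (-173) (.split 3 116 (.wt 0)
    (.split 4 (-191) (.split 3 149 (.wt 2) (.split 0 (-254) (.split 1 231 (.lin 2) (.split 4
    (-209) (.splitN 542466 (.wt 1) (.split 3 170 (.wt 2) (.split 1 258 (.lin 2) (.split 4 (-236)
    (.split 6 83 (.wt 0) (.split 4 (-254) (.split 2 (-53) (.split 0 (-289) (.wt 2) (.lin 1))
    (.lin 9)) (.lin 6))) (.lin 0))))) (.lin 0))) (.lin 1))) (.lin 6))) (.lin 0))) (.lin 1)))))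
    (.lin 8))) (.split 4 (-182) (.split 0 (-218) (.split 1 195 (.lin 8) (.split 2 (-62) (.split 3
    97 (.wt 2) (.split 3 171 (.split 0 (-300) (.lin 1) (.split 1 277 (.split 4 (-273) (.lin 0)
    (.split 3 161 (.split 4 (-255) (.lin 6) (.split 3 159 (.split 0 (-282) (.lin 1) (.split 3 128
    (.split 0 (-255) (.lin 1) (.split 1 232 (.split 4 (-228) (.lin 0) (.splitN 613586 (.splitN
    422610 (.wt 1) .cand) (.wt 1))) (.lin 2))) (.split 0 (-254) (.split 1 231 (.lin 2) (.split 4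
    (-209) (.split 3 148 (.split 4 (-237) (.lin 6) (.split 6 102 (.split 0 (-264) (.lin 7)
    (.split 1 241 (.split 3 133 (.wt 2) (.wt 2)) (.lin 11))) (.wt 2))) (.wt 2)) (.lin 0))) (.lin
    1)))) (.wt 2))) (.wt 2))) (.lin 2))) (.wt 2))) (.lin 9))) (.lin 7)) (.lin 6))) (.lin 6))
    (.lin 1)))) (.lin 8)))) (.split 4 (-191) (.split 0 (-227) (.split 1 204 (.lin 8) (.split 2
    (-80) (.split 5 18 (.splitN 806056 (.wt 1) (.split 3 110 (.wt 0) (.split 0 (-245) (.split 1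
    231 (.lin 2) (.split 4 (-209) (.splitN 865896 (.wt 1) (.split 3 145 (.wt 2) (.split 0 (-281)
    (.split 1 267 (.lin 2) (.split 4 (-245) (.splitN 955873 (.wt 1) (.split 6 118 (.wt 0) (.split
    2 (-89) (.split 3 163 (.wt 2) (.split 0 (-308) (.split 4 (-272) (.split 6 127 (.wt 0) (.split
    2 (-98) (.split 3 176 (.wt 2) (.split 0 (-326) (.split 1 312 (.lin 2) (.split 4 (-290)
    (.split 6 138 (.wt 2) (.split 2 (-107) (.split 3 187 (.split 4 (-309) (.lin 6) (.splitN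
    1108856 (.wt 1) (.split 0 (-342) (.wt 0) (.split 1 322 (.wt 2) (.lin 4))))) (.split 0 (-353)
    (.split 1 339 (.lin 2) (.split 4 (-317) (.splitN 1093707 (.wt 1) (.wt 0)) (.lin 0))) (.lin
    1))) (.lin 9))) (.lin 6))) (.lin 1))) (.lin 9))) (.lin 6)) (.lin 1))) (.lin 9)))) (.lin 6)))
    (.lin 1)))) (.lin 6))) (.lin 1)))) (.splitN 514291 (.split 3 152 (.split 0 (-318) (.lin 1)
    (.split 4 (-282) (.lin 6) (.split 3 137 (.split 0 (-300) (.lin 1) (.split 1 277 (.split 4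
    (-264) (.lin 6) (.splitN 483659 (.split 3 110 (.split 0 (-273) (.lin 1) (.split 4 (-237)
    (.lin 6) (.split 6 138 (.split 3 105 (.split 4 (-219) (.lin 6) (.split 6 119 (.split 4 (-201)
    (.lin 6) (.split 0 (-237) (.lin 7) (.wt 2))) (.wt 2))) (.wt 2)) (.wt 0)))) (.wt 2)) (.wt 1)))
    (.lin 2))) (.wt 0)))) (.wt 0)) (.wt 1))) (.lin 9))) (.lin 7)) (.lin 6)))) (.lin 2))) (.split
    0 (-299) (.split 1 285 (.lin 2) (.split 4 (-263) cert5_90_10 (.lin 6))) (.lin 1))) (.split 0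
    (-209) (.split 4 (-173) (.splitN 1223895 (.split 1 13580 (.split 4 (-13638) (.lin 0) (.split
    0 (-13737) (.lin 3) (.split 3 1947 (.split 0 (-2118) (.lin 1) (.split 1 2086 (.split 4
    (-2145) (.lin 0) (.split 3 962 (.split 0 (-1137) (.lin 1) (.split 1 1105 (.split 4 (-1164)
    (.lin 0) (.split 3 629 (.split 0 (-804) (.lin 1) (.split 4 (-768) (.lin 6) (.split 3 480
    (.split 0 (-651) (.lin 1) (.split 1 619 (.split 4 (-678) (.lin 0) (.split 3 403 (.split 0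
    (-579) (.lin 1) (.split 4 (-543) (.lin 6) (.split 3 365 (.split 0 (-534) (.lin 1) (.split 4
    (-498) (.lin 6) (.split 3 340 (.split 6 122 (.split 4 (-453) (.lin 6) (.split 0 (-489) (.lin
    7) (.split 2 (-81) (.lin 9) (.split 3 315 (.split 0 (-462) (.lin 1) (.split 1 430 (.split 4
    (-426) (.lin 6) (.split 3 299 (.split 6 98 (.split 4 (-390) (.lin 6) (.split 0 (-426) (.lin
    7) (.split 1 394 (.split 2 (-63) (.lin 9) (.split 3 278 (.split 3 187 (.split 0 (-318) (.lin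
    1) (.split 1 286 (.split 4 (-300) (.lin 0) (.split 3 142 (.split 0 (-273) (.lin 1) (.split 1
    241 (.split 4 (-237) (.lin 6) (.split 6 89 (.split 2 (-54) (.lin 9) (.split 3 101 (.wt 2)
    (.split 3 124 (.split 0 (-246) (.lin 1) (.split 1 214 (.split 4 (-219) (.lin 0) (.splitN
    493163 (.split 6 81 (.wt 2) (.split 4 (-191) (.split 0 (-227) (.split 1 195 (.lin 8) (.split
    2 (-53) (.split 3 119 (.split 4 (-201) (.lin 6) (.splitN 395204 (.wt 1) .cand)) (.wt 2))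
    (.lin 9))) (.lin 7)) (.lin 6))) (.wt 3))) (.lin 2))) (.split 0 (-245) (.split 1 213 (.lin 2)
    (.split 4 (-200) (.split 6 80 (.wt 2) (.split 4 (-218) (.split 2 (-53) (.splitN 418434 (.wt
    0) (.wt 1)) (.lin 9)) (.lin 6))) (.lin 0))) (.lin 1))))) (.split 4 (-191) (.split 1 195 (.lin
    8) (.split 2 (-62) (.splitN 385871 (.split 3 110 (.split 0 (-237) (.lin 1) (.split 1 205
    (.split 4 (-201) (.lin 0) (.splitN 370319 (.wt 0) (.wt 1))) (.lin 2))) (.wt 0)) (.wt 1))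
    (.lin 9))) (.lin 6)))) (.lin 2))) (.split 0 (-263) (.split 1 231 (.lin 2) (.split 4 (-227)
    (.splitN 499812 (.split 6 86 (.split 4 (-264) (.lin 6) (.split 2 (-45) (.lin 9) (.splitN
    427759 (.wt 1) .cand))) (.wt 2)) (.wt 1)) (.lin 6))) (.lin 1)))) (.lin 2))) (.split 1 276
    (.lin 2) (.split 4 (-272) (.splitN 485497 (.split 6 90 (.split 4 (-363) (.lin 6) (.split 0
    (-399) (.lin 7) (.split 6 88 (.split 2 (-45) (.lin 9) (.split 3 263 (.split 0 (-372) (.lin 1)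
    (.split 1 340 (.split 4 (-336) (.lin 0) (.split 3 242 (.split 1 322 (.split 4 (-318) (.lin 0)
    (.split 0 (-329) (.split 3 222 (.lin 1) (.split 1 303 (.lin 2) (.split 4 (-299) (.splitN
    478921 (.wt 0) (.wt 1)) (.lin 0)))) (.wt 2))) (.lin 2)) (.wt 0))) (.lin 2))) (.wt 0))) (.wt
    0)))) (.wt 0)) (.wt 1)) (.lin 6)))) (.wt 2))) (.lin 8)))) (.split 4 (-200) (.split 1 204
    (.lin 8) (.split 2 (-71) (.splitN 379769 (.split 3 132 (.split 0 (-273) (.lin 1) (.split 1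
    241 (.split 4 (-246) (.lin 0) (.splitN 367599 (.wt 0) (.wt 1))) (.lin 2))) (.wt 0)) (.wt 1))
    (.lin 9))) (.lin 6))) (.wt 2))) (.lin 2))) (.wt 2))))) (.wt 2)) (.wt 2)))) (.wt 2)))) (.wt
    2))) (.lin 2))) (.wt 2)))) (.wt 2))) (.lin 2))) (.wt 2))) (.lin 2))) (.wt 2)))) (.div 1))
    (.wt 1)) (.lin 6)) (.lin 1)))

def cert5_90_12 : Cert :=
  (.split 0 (-570) (.lin 1) (.split 1 547 (.split 4 (-525) (.lin 6) (.split 3 252 (.split 5 22
    (.split 0 (-534) (.lin 7) (.split 3 173 (.split 0 (-462) (.lin 1) (.split 1 448 (.split 4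
    (-417) (.lin 6) (.split 6 210 (.split 4 (-354) (.lin 6) (.split 0 (-390) (.lin 7) (.split 1
    376 (.split 2 (-171) (.lin 9) (.split 3 133 (.split 0 (-354) (.lin 1) (.split 1 340 (.split 4
    (-318) (.lin 6) (.split 3 97 (.wt 2) (.split 6 155 (.wt 2) (.split 4 (-245) (.split 0 (-281)
    (.split 1 267 (.lin 8) (.split 6 161 (.wt 2) (.split 2 (-134) (.split 3 119 (.split 1 322
    (.split 4 (-300) (.lin 6) (.splitN 686648 (.wt 1) (.split 6 182 (.wt 2) (.split 4 (-272)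
    (.split 0 (-308) (.split 2 (-152) (.splitN 865228 (.split 3 106 (.wt 2) .cand) (.wt 3)) (.lin
    9)) (.lin 7)) (.lin 6))))) (.lin 2)) (.split 0 (-308) (.split 1 294 (.lin 2) (.split 4 (-272)
    (.split 6 193 (.split 4 (-300) (.lin 6) (.split 0 (-336) (.lin 7) (.split 1 322 (.split 6 179
    (.split 2 (-144) (.lin 9) (.splitN 807232 (.wt 1) (.splitN 968618 .cand (.wt 3)))) (.split 4
    (-290) (.split 1 312 (.lin 8) (.split 2 (-152) (.wt 2) (.lin 9))) (.lin 6))) (.lin 8)))) (.wt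
    2)) (.lin 6))) (.lin 1))) (.lin 9)))) (.lin 7)) (.lin 6))))) (.lin 2))) (.split 0 (-308)
    (.split 1 294 (.lin 2) (.split 4 (-272) (.split 6 180 (.split 4 (-327) (.lin 6) (.split 0
    (-363) (.lin 7) (.split 1 349 (.split 2 (-144) (.lin 9) (.split 6 175 (.split 2 (-135) (.lin
    9) (.split 6 161 (.split 4 (-309) (.lin 6) (.split 1 331 (.split 2 (-126) (.lin 9) (.split 3
    142 (.wt 2) (.split 3 160 (.split 0 (-336) (.lin 1) (.split 6 156 (.split 4 (-291) (.lin 6)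
    (.split 1 313 (.split 2 (-117) (.lin 9) (.splitN 1016721 (.wt 1) (.split 0 (-320) (.wt 0)
    (.split 3 151 (.wt 0) (.lin 1))))) (.lin 8))) (.split 4 (-290) (.split 1 312 (.lin 8) (.split
    2 (-125) (.splitN 895361 (.wt 0) (.splitN 976176 .cand (.wt 1))) (.lin 9))) (.lin 6))))
    (.split 1 321 (.lin 2) (.split 4 (-290) (.splitN 1070442 (.split 6 159 (.split 0 (-336) (.lin
    7) (.split 2 (-117) (.lin 9) (.split 4 (-301) (.lin 3) (.wt 2)))) (.wt 0)) (.wt 1)) (.lin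
    0)))))) (.lin 8))) (.split 4 (-290) (.split 1 312 (.lin 8) (.split 2 (-134) (.splitN 936609
    (.split 3 152 (.split 0 (-336) (.lin 1) (.split 1 322 (.split 4 (-300) (.lin 0) (.splitN
    908581 (.wt 0) (.wt 1))) (.lin 2))) (.wt 0)) (.wt 1)) (.lin 9))) (.lin 6)))) (.wt 2))) (.lin
    8)))) (.wt 2)) (.lin 6))) (.lin 1)))) (.lin 8)))) (.split 4 (-290) (.split 0 (-326) (.split 1
    312 (.lin 8) (.split 2 (-179) (.splitN 941664 (.splitN 524491 (.wt 3) (.split 3 143 (.split 1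
    421 (.split 3 120 (.split 0 (-408) (.lin 1) (.split 1 394 (.split 4 (-363) (.lin 6) (.split 6
    242 (.split 4 (-336) (.lin 6) (.split 0 (-372) (.lin 7) (.split 1 358 (.split 2 (-207) (.lin
    9) (.split 3 113 (.splitN 819527 (.split 6 228 (.split 4 (-309) (.lin 6) (.split 2 (-189)
    (.lin 9) (.splitN 698265 (.wt 1) (.split 3 100 (.wt 0) .cand)))) (.split 4 (-308) (.split 3
    97 (.wt 2) (.wt 2)) (.lin 6))) (.wt 3)) (.wt 2))) (.lin 8)))) (.split 4 (-326) (.split 2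
    (-215) (.splitN 709126 .cand (.wt 1)) (.lin 9)) (.lin 6)))) (.lin 2))) (.wt 2)) (.lin 2))
    (.wt 0))) (.wt 1)) (.lin 9))) (.lin 7)) (.lin 6)))) (.lin 2))) (.split 1 330 (.lin 2) (.split
    4 (-308) (.splitN 1278719 (.split 6 208 (.split 4 (-435) (.lin 6) (.split 0 (-471) (.lin 7)
    (.split 1 457 (.split 2 (-171) (.lin 9) (.splitN 1188336 (.split 6 187 (.split 0 (-444) (.lin
    7) (.split 2 (-144) (.lin 9) (.split 3 202 (.split 0 (-390) (.lin 1) (.split 1 376 (.split 4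
    (-354) (.lin 6) (.splitN 1073050 (.split 6 162 (.split 4 (-336) (.lin 6) (.split 2 (-126)
    (.lin 9) (.split 6 159 (.split 0 (-363) (.lin 7) (.split 2 (-117) (.lin 9) (.splitN 994055
    (.split 1 331 (.split 4 (-309) (.lin 0) (.wt 0)) (.wt 0)) (.wt 6)))) (.wt 0)))) (.wt 0)) (.wt
    1))) (.lin 2))) (.wt 2)))) (.wt 0)) (.wt 1))) (.lin 8)))) (.wt 0)) (.wt 1)) (.lin 6))))) (.wt
    2)) (.wt 2))) (.lin 2)))

def cert5_90_13 : Cert :=
  (.split 6 274 (.split 2 (-243) (.lin 9) (.split 5 36 (.split 6 146 (.split 2 (-117) (.lin 9)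
    (.split 7 (-33) (.split 2 (-108) (.lin 9) cert5_90_11) (.wt 3))) (.split 4 (-227) (.split 0
    (-263) (.split 1 222 (.lin 8) (.split 2 (-116) (.split 1 249 (.lin 11) (.split 7 (-29)
    (.split 3 630 (.split 0 (-939) (.lin 1) (.split 1 907 (.split 4 (-1029) (.lin 0) (.split 4
    (-894) (.lin 6) (.splitN 286071 (.wt 3) (.split 5 30 (.split 3 332 (.split 0 (-633) (.lin 1)
    (.split 1 610 (.split 4 (-723) (.lin 0) (.split 4 (-588) (.lin 6) (.split 3 269 cert5_90_12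
    (.wt 2)))) (.lin 2))) (.wt 2)) (.wt 1))))) (.lin 2))) (.wt 2)) (.wt 0))) (.lin 9))) (.lin 7))
    (.lin 6))) (.split 4 (-182) (.split 3 484 (.split 6 130 (.split 2 (-99) (.lin 9) (.split 1
    610 (.split 7 (-33) (.split 2 (-90) (.lin 9) (.splitN 628246 (.split 5 3478 (.split 4 (-4089)
    (.lin 0) (.split 0 (-4080) (.lin 1) (.split 3 418 (.split 1 538 (.split 0 (-736) .sq (.split
    4 (-741) (.lin 3) (.split 4 (-696) (.lin 12) (.splitN 567588 (.split 3 256 (.split 1 376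
    (.split 6 114 (.split 2 (-72) (.lin 9) (.split 0 (-693) .sq (.split 4 (-651) (.lin 12)
    (.split 5 144 (.split 0 (-498) (.lin 1) (.split 4 (-462) (.lin 6) (.split 3 209 (.split 0
    (-453) (.lin 1) (.split 1 313 (.split 4 (-417) (.lin 6) (.split 6 106 (.split 2 (-63) (.lin
    9) (.split 3 151 (.split 0 (-390) (.lin 1) (.split 1 250 (.split 4 (-372) (.lin 0) (.splitN
    480015 (.split 5 75 (.split 0 (-318) (.lin 1) (.split 4 (-282) (.lin 6) (.split 6 89 (.split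
    2 (-54) (.lin 9) (.split 3 124 (.split 0 (-282) (.lin 1) (.split 1 214 (.split 4 (-255) (.lin
    0) (.split 5 54 (.split 4 (-237) (.lin 0) (.split 0 (-264) (.lin 1) (.splitN 283822 (.wt 3)
    (.split 6 84 .cand (.split 2 (-53) (.splitN 355960 (.split 3 114 (.split 0 (-246) (.lin 1)
    (.split 1 196 (.split 4 (-210) (.lin 0) (.splitN 318268 (.wt 5) (.split 5 45 (.split 3 101
    (.split 0 (-228) (.lin 1) (.split 4 (-192) (.lin 3) (.wt 2))) (.wt 2)) (.wt 1)))) (.lin 2)))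
    (.wt 0)) (.wt 1)) (.lin 9)))))) (.split 4 (-200) (.splitN 338833 (.split 3 115 (.split 4
    (-237) (.lin 6) (.splitN 272950 (.wt 3) .cand)) (.wt 2)) (.wt 1)) (.lin 6)))) (.lin 2)))
    (.split 1 213 (.lin 2) (.split 4 (-209) (.splitN 315333 (.wt 0) (.splitN 397166 (.split 5 57
    (.split 0 (-291) (.lin 1) (.split 4 (-264) (.lin 3) (.split 6 86 (.split 4 (-246) (.lin 6)
    (.split 2 (-45) (.lin 9) (.split 1 232 (.splitN 354861 (.wt 5) (.split 3 150 (.split 0 (-273)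
    (.lin 1) (.split 5 45 (.split 4 (-228) (.lin 6) (.split 3 141 (.split 0 (-255) (.lin 1)
    (.split 1 214 (.splitN 384498 (.wt 0) (.wt 1)) (.lin 2))) (.wt 0))) (.wt 1))) (.wt 0))) (.lin
    11)))) (.wt 0)))) (.wt 1)) (.wt 1))) (.lin 0))))) (.split 2 (-62) (.wt 2) (.lin 9)))))
    (.split 4 (-218) (.splitN 315571 (.split 3 121 (.split 1 214 (.split 4 (-336) (.lin 0)
    (.split 6 86 (.split 2 (-45) (.lin 9) .cand) (.wt 2))) (.lin 2)) (.wt 2)) (.wt 1)) (.lin 6)))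
    (.wt 1))) (.lin 2))) (.split 1 240 (.lin 2) (.split 4 (-245) (.splitN 308318 (.wt 0) (.splitN
    392955 (.split 6 90 (.split 2 (-54) (.lin 9) (.split 1 295 (.split 5 59 (.split 4 (-327)
    (.lin 0) (.split 0 (-354) (.lin 1) (.wt 2))) (.wt 1)) (.lin 11))) (.wt 0)) (.wt 1))) (.lin
    6))))) (.wt 2))) (.lin 2))) (.wt 2)))) (.split 0 (-326) (.split 4 (-290) (.splitN 263375 .sq
    (.splitN 279190 (.split 3 158 (.split 1 259 (.split 6 106 (.split 2 (-63) (.lin 9) (.split 0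
    (-486) (.split 5 238 (.lin 1) (.split 4 (-434) .sq (.lin 3))) (.wt 1))) (.wt 0)) (.lin 2))
    (.wt 0)) (.wt 1))) (.lin 6)) (.lin 1)))))) (.wt 2)) (.lin 2)) (.wt 2)) (.wt 1))))) (.lin 2))
    (.wt 2)))) (.div 5)) (.wt 1))) (.wt 3)) (.lin 11))) (.wt 2)) (.wt 2)) (.lin 6)))) (.split 4
    (-353) (.split 0 (-389) (.split 2 (-242) (.split 1 375 (.lin 11) (.splitN 563543 .sq (.split
    3 481 (.split 1 1429 (.split 7 (-32) (.splitN 872693 (.split 5 4846 (.split 0 (-6267) (.lin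
    1) (.split 4 (-6222) (.lin 6) (.split 3 188 (.split 1 1141 (.split 5 111 (.split 0 (-1245)
    (.lin 1) (.split 4 (-1200) (.lin 6) (.splitN 799971 (.split 3 150 (.split 5 38 (.split 0
    (-1128) (.lin 1) (.split 5 15 (.split 6 466 (.split 4 (-579) (.lin 6) (.split 0 (-615) (.lin
    7) (.split 1 601 (.split 2 (-423) (.lin 9) (.splitN 709015 (.split 3 117 (.split 6 388
    (.split 4 (-480) (.lin 6) (.split 0 (-516) (.lin 7) (.split 1 502 (.split 2 (-351) (.lin 9)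
    (.split 3 109 (.split 6 363 (.split 4 (-444) (.lin 6) (.split 0 (-480) (.lin 7) (.split 1 466
    (.split 2 (-324) (.lin 9) (.splitN 665112 (.split 3 104 (.split 6 329 (.split 4 (-399) (.lin
    6) (.split 0 (-435) (.lin 7) (.split 2 (-288) (.lin 9) (.split 6 299 (.split 4 (-372) (.lin
    6) (.split 0 (-408) (.lin 7) (.split 1 394 (.splitN 657841 (.wt 0) (.wt 1)) (.lin 8)))) (.wt
    0))))) (.wt 0)) (.wt 0)) (.wt 1))) (.lin 8)))) (.wt 1)) (.wt 0))) (.lin 8)))) (.wt 1)) (.wt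
    0)) (.wt 1))) (.lin 8)))) (.wt 1)) (.wt 1))) (.wt 0)) (.wt 0)) (.wt 1)))) (.wt 0)) (.lin 2))
    (.wt 0)))) (.div 5)) (.wt 1)) (.wt 0)) (.lin 2)) (.wt 0)))) (.lin 9)) (.lin 7)) (.lin 6)))

def cert5_90 : Cert :=
  (.split 5 5 (.wt 1) (.split 0 (-56) (.split 4 (-38) (.split 6 26 (.wt 6) (.split 0 (-65)
    (.split 3 40 (.split 6 38 (.wt 2) (.split 1 60 (.lin 11) (.split 7 (-20) (.split 6 56 (.wt 2)
    (.split 4 (-56) (.split 0 (-92) (.split 3 17 (.wt 2) (.split 4 (-65) (.split 6 74 (.wt 2)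
    (.split 4 (-83) (.split 0 (-119) (.split 2 (-44) (.split 6 84 (.wt 2) (.split 4 (-92) (.split
    6 92 (.wt 6) (.split 4 (-101) (.split 2 (-62) (.split 1 123 (.lin 11) (.split 5 14 (.wt 6)
    (.split 0 (-146) (.split 6 98 (.wt 6) (.split 0 (-155) (.split 2 (-71) cert5_90_2 (.lin 9))
    (.lin 7))) (.lin 4)))) (.lin 9)) (.lin 6))) (.lin 6))) (.lin 9)) (.lin 7)) (.lin 6))) (.lin
    6))) (.lin 7)) (.lin 6))) (.wt 1)))) (.split 0 (-83) (.split 1 69 (.lin 2) (.split 1 78 (.lin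
    11) (.split 4 (-56) (.splitN 80362 (.wt 1) (.split 7 (-22) (.split 6 78 (.split 2 (-45) (.lin
    9) (.split 6 53 (.split 2 (-27) (.lin 9) (.split 5 16 (.wt 1) (.split 0 (-101) (.split 4
    (-74) (.split 3 52 (.wt 2) (.split 0 (-119) (.split 4 (-92) (.split 3 70 (.wt 6) (.split 0
    (-137) (.split 4 (-101) (.split 4 (-110) (.split 6 35 (.wt 2) (.split 0 (-146) (.split 3 81
    (.wt 6) (.split 4 (-119) (.split 1 132 (.lin 11) (.split 5 23 (.wt 6) (.split 0 (-164)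
    (.split 3 89 (.wt 6) (.split 4 (-137) (.split 0 (-173) (.split 1 141 (.lin 11) (.split 7
    (-33) (.split 2 (-18) (.lin 9) (.split 3 153 (.wt 2) (.split 0 (-236) (.split 1 204 (.lin 2)
    (.split 4 (-191) (.split 3 232 (.wt 2) (.split 0 (-317) (.split 1 285 (.lin 2) (.split 4
    (-272) (.splitN 13348592 (.split 0 (-370731) (.div 0) (.split 3 370654 (.split 1 370708
    (.split 1 148292 (.split 3 148246 (.split 5 74146 (.split 0 (-2129) (.wt 2) (.split 3 2050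
    (.split 1 2104 (.split 5 1841 (.split 4 (-3918) (.lin 0) (.splitN 3353780 (.split 5 35 (.wt
    1) (.split 4 (-290) (.split 0 (-769) (.wt 2) (.split 3 682 (.split 1 736 (.split 5 482
    (.split 4 (-741) (.lin 3) (.splitN 422043 (.wt 1) (.split 6 44 (.wt 0) (.split 0 (-335)
    (.split 2 (-17) (.splitN 488761 (.wt 6) (.split 0 (-364) (.wt 0) (.split 3 268 (.split 1 322
    (.split 5 68 (.wt 0) (.lin 1)) (.lin 2)) (.lin 1)))) (.lin 9)) (.lin 7))))) (.lin 1)) (.lin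
    2)) (.lin 1))) (.lin 6))) (.wt 5))) (.lin 1)) (.lin 2)) (.lin 1))) (.div 5)) (.lin 2)) (.div
    1)) (.lin 2)) (.lin 1))) (.wt 5)) (.lin 0))) (.lin 1))) (.lin 0))) (.lin 1)))) (.split 2
    (-17) (.split 0 (-189) (.wt 1) (.split 3 106 (.split 5 41 (.split 4 (-165) (.lin 3) (.wt 1))
    (.lin 1)) (.lin 1))) (.lin 9)))) (.lin 7)) (.lin 6))) (.lin 4)))) (.lin 6))) (.lin 7))) (.lin
    10)) (.lin 6)) (.lin 1))) (.lin 10)) (.lin 1))) (.lin 10)) (.lin 1)))) (.split 0 (-119)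
    (.split 2 (-26) (.split 1 105 (.lin 11) cert5_90_4) (.lin 9)) (.lin 7)))) (.split 4 (-101)
    (.split 0 (-137) (.split 2 (-44) (.split 1 123 (.lin 11) (.splitN 117879 (.wt 3) (.split 3 94
    (.split 6 168 (.split 2 (-135) (.lin 9) (.split 1 250 cert5_90_8 (.lin 11))) (.split 4 (-191)
    (.split 0 (-227) (.split 2 (-134) (.split 1 213 (.lin 11) cert5_90_9) (.lin 9)) (.lin 7))
    (.lin 6))) (.split 0 (-182) (.split 1 168 (.lin 2) (.split 1 177 (.lin 11) (.split 4 (-155)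
    (.split 6 948 (.split 2 (-918) (.lin 9) cert5_90_13) (.wt 2)) (.lin 6)))) (.lin 1))))) (.lin
    9)) (.lin 7)) (.lin 6))) (.wt 3))) (.lin 6)))) (.lin 1))) (.lin 7))) (.lin 10)) (.lin 1)))

theorem check5_90 :
    check task5 cert5_90
      [(7, ⟨none, some (-47)⟩), (7, ⟨some (34), none⟩), (1, ⟨none, some (-8)⟩), (7, ⟨some (16), none⟩), (7, ⟨none, some (-29)⟩), (5, ⟨some (5), none⟩), (8, ⟨some (26), none⟩), (8, ⟨some (-37), some (-19)⟩)] ⟨some (36360), none⟩ = true := by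
  decide +kernel

def cert5_91 : Cert :=
  (.lin 10)

theorem check5_91 :
    check task5 cert5_91
      [(7, ⟨none, some (-47)⟩), (7, ⟨some (34), none⟩), (1, ⟨none, some (-8)⟩), (7, ⟨some (16), none⟩), (7, ⟨some (-20), some (-20)⟩), (5, ⟨some (5), none⟩), (8, ⟨some (26), none⟩), (8, ⟨none, some (-19)⟩)] ⟨some (36360), none⟩ = true := by
  decide +kernel

def cert5_92 : Cert :=
  (.lin 1)

theorem check5_92 :
    check task5 cert5_92
      [(7, ⟨some (-38), some (-38)⟩), (7, ⟨some (34), none⟩), (1, ⟨none, some (-8)⟩), (7, ⟨some (16), none⟩), (7, ⟨none, some (-20)⟩), (5, ⟨some (5), none⟩), (8, ⟨some (26), none⟩), (8, ⟨none, some (-19)⟩)] ⟨some (36360), none⟩ = true := by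
  decide +kernel

def cert5_93 : Cert :=
  (.lin 1)

theorem check5_93 :
    check task5 cert5_93
      [(7, ⟨some (-29), some (-29)⟩), (7, ⟨some (25), none⟩), (1, ⟨none, some (-8)⟩), (7, ⟨some (7), none⟩), (7, ⟨none, some (-20)⟩), (5, ⟨some (5), none⟩), (8, ⟨some (8), none⟩), (8, ⟨none, some (-19)⟩)] ⟨some (36360), none⟩ = true := by
  decide +kernel

def cert5_94 : Cert :=
  (.wt 1)

theorem check5_94 :
    check task5 cert5_94
      [(7, ⟨none, some (-29)⟩), (7, ⟨some (25), none⟩), (1, ⟨none, some (-8)⟩), (7, ⟨some (7), none⟩), (7, ⟨none, some (-20)⟩), (5, ⟨some (5), none⟩), (8, ⟨some (8), none⟩), (8, ⟨some (-10), some (-10)⟩)] ⟨some (36360), none⟩ = true := by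
  decide +kernel

def cert5_95 : Cert :=
  (.lin 10)

theorem check5_95 :
    check task5 cert5_95
      [(7, ⟨none, some (-29)⟩), (7, ⟨some (25), none⟩), (1, ⟨none, some (-8)⟩), (7, ⟨some (7), none⟩), (7, ⟨some (-11), some (-2)⟩), (5, ⟨some (5), none⟩), (8, ⟨some (8), none⟩), (8, ⟨none, some (-10)⟩)] ⟨some (20160), none⟩ = true := by
  decide +kernel

def cert5_96 : Cert :=
  (.lin 1)

theorem check5_96 :
    check task5 cert5_96
      [(7, ⟨some (-20), some (-20)⟩), (7, ⟨some (16), none⟩), (1, ⟨none, some (-8)⟩), (7, ⟨some (7), none⟩), (7, ⟨none, some (-2)⟩), (5, ⟨some (5), none⟩), (8, ⟨some (8), none⟩), (8, ⟨none, some (-10)⟩)] ⟨some (20160), none⟩ = true := by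
  decide +kernel

def cert5_97_0 : Cert :=
  (.split 6 132 (.split 3 62 (.wt 2) (.split 0 (-146) (.split 4 (-180) (.wt 2) (.split 4 (-59)
    (.splitN 174328 (.split 1 1916 (.split 2 1801 (.split 2 958 (.split 1 1240 (.split 3 1114
    (.splitN 158783 (.split 2 868 (.split 3 1024 (.splitN 96011 (.wt 6) (.split 3 89 (.wt 0)
    (.split 0 (-173) (.splitN 147972 (.split 2 814 (.split 3 970 (.splitN 112377 (.wt 6) (.split
    3 161 (.wt 0) (.split 0 (-245) (.split 1 231 (.lin 11) .sq) (.lin 7)))) (.lin 10)) (.div 2))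
    (.wt 0)) (.lin 7)))) (.lin 10)) (.div 2)) (.wt 0)) (.lin 10)) (.lin 0)) (.div 2)) (.lin 0))
    (.div 1)) (.wt 0)) (.split 7 (-91) (.split 2 27 (.lin 10) (.splitN 1395773 (.split 0 (-38721)
    (.div 0) (.split 2 38638 (.split 1 15488 (.split 2 15418 (.split 2 7744 (.split 1 7909
    (.split 0 (-7923) (.lin 3) (.split 3 7846 (.splitN 1307397 (.split 2 7258 (.split 1 7423
    (.split 0 (-7437) (.lin 3) (.split 3 7360 (.split 3 75 (.wt 2) (.split 7 (-100) (.split 0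
    (-155) (.splitN 680861 (.split 2 3766 (.split 1 3931 (.split 0 (-3945) (.lin 3) (.split 3
    3868 (.split 3 82 (.wt 2) (.split 7 (-109) (.split 0 (-164) (.split 2 45 (.lin 10) (.splitN
    475286 (.split 2 2632 (.split 1 2797 (.split 0 (-2811) (.lin 3) (.split 3 2734 (.split 3 90
    (.wt 2) (.split 7 (-118) (.split 0 (-173) (.splitN 377856 (.split 2 2092 (.split 1 2257
    (.split 0 (-2271) (.lin 3) (.split 3 2194 (.split 3 98 (.wt 2) (.split 7 (-127) (.split 2 63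
    (.lin 10) (.splitN 326607 (.split 2 1804 (.split 1 1969 (.split 0 (-1983) (.lin 3) (.split 3
    1906 (.split 4 (-47) (.wt 2) (.split 7 (-145) (.split 2 81 (.lin 10) (.splitN 269645 (.split
    2 1498 (.split 1 1645 (.split 0 (-1659) (.lin 3) (.split 3 1582 (.split 3 111 (.wt 2) (.split
    7 (-154) (.split 0 (-191) (.split 2 90 (.lin 10) (.split 1 177 (.lin 11) (.splitN 117827 .sq
    (.splitN 243706 (.split 2 1336 (.split 1 1483 (.split 0 (-1497) (.lin 3) (.split 3 1420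
    (.split 4 (-37) (.wt 0) (.split 7 (-163) (.split 3 1348 (.splitN 229116 (.split 2 1264
    (.split 3 1276 (.split 3 127 (.wt 2) (.split 7 (-181) (.split 0 (-209) (.split 2 117 (.lin
    10) (.split 1 195 (.lin 11) (.splitN 150911 .sq (.splitN 206202 (.split 2 1138 (.split 1 1276
    (.split 3 1150 (.split 4 (-27) (.wt 0) (.split 2 126 (.lin 10) (.split 6 71 (.wt 0) (.split 1
    213 (.lin 0) (.split 0 (-227) (.split 7 (-208) (.splitN 181403 .sq (.splitN 185042 (.split 2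
    1012 (.split 1 1141 (.split 0 (-1155) (.lin 3) (.split 3 1060 (.split 0 (-605) (.wt 0)
    (.split 2 496 (.split 1 583 (.split 3 502 (.wt 3) (.lin 7)) (.lin 4)) (.lin 3))) (.lin 7)))
    (.lin 0)) (.div 2)) (.wt 3))) (.lin 6)) (.lin 3)))))) (.lin 10)) (.lin 0)) (.div 2)) (.wt
    3))))) (.lin 7)) (.lin 6))) (.lin 10)) (.div 2)) (.wt 3)) (.lin 10)) (.lin 6))) (.lin 7)))
    (.lin 0)) (.div 2)) (.wt 3))))) (.lin 7)) (.lin 6))) (.lin 7))) (.lin 0)) (.div 2)) (.wt 3)))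
    (.lin 6))) (.lin 7))) (.lin 0)) (.div 2)) (.wt 3))) (.lin 6))) (.lin 7))) (.lin 0)) (.div 2))
    (.wt 3)) (.lin 7)) (.lin 6))) (.lin 7))) (.lin 0)) (.div 2)) (.wt 3))) (.lin 7)) (.lin 6)))
    (.lin 7))) (.lin 0)) (.div 2)) (.wt 3)) (.lin 7)) (.lin 6))) (.lin 7))) (.lin 0)) (.div 2))
    (.wt 3)) (.lin 7))) (.lin 0)) (.div 2)) (.lin 0)) (.div 1)) (.lin 3))) (.wt 3))) (.lin 6))))
    (.lin 7))) (.split 0 (-173) (.split 0 (-191) (.split 1 177 (.lin 11) (.split 7 (-154)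
    (.splitN 112643 .sq (.splitN 304980 (.split 0 (-8391) (.div 0) (.split 2 8236 (.split 1 8377
    (.split 1 3356 (.split 2 3214 (.split 0 (-3369) (.lin 4) (.split 6 3329 (.split 3 3220
    (.split 2 1678 (.split 4 (-113) (.wt 0) (.split 3 1771 (.split 4 (-108) (.wt 0) (.split 3 44
    (.wt 2) (.splitN 263521 (.split 1 2924 (.split 6 2897 (.split 2 1462 (.split 3 1546 (.split 4
    (-56) (.wt 3) (.split 0 (-432) .sq (.split 2 271 (.split 7 (-632) (.lin 1) (.split 1 664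
    (.split 6 386 (.split 1 412 (.split 3 277 (.split 6 359 (.split 4 (-47) (.wt 0) (.split 3 59
    (.wt 2) (.split 7 (-172) (.split 0 (-209) (.split 2 36 (.lin 10) (.split 1 195 (.lin 11)
    (.splitN 135323 .sq (.split 4 (-34) (.wt 0) (.split 2 45 (.lin 10) (.split 3 63 (.wt 2)
    (.split 7 (-190) (.split 2 54 (.lin 10) (.split 6 341 (.splitN 144674 .sq (.split 3 71 (.wt
    0) (.split 0 (-227) (.split 1 213 (.lin 11) (.splitN 162314 .sq (.split 3 84 (.wt 0) (.split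
    7 (-208) (.splitN 172214 .sq (.wt 1)) (.lin 6))))) (.lin 7)))) (.lin 7))) (.lin 6))))))))
    (.lin 7)) (.lin 6)))) (.lin 7)) (.lin 7)) (.lin 4)) (.lin 3)) (.lin 8))) (.lin 3)))) (.lin
    10)) (.div 2)) (.lin 0)) (.div 1)) (.wt 1)))) (.lin 10))) (.div 2)) (.lin 7)) (.lin 0)))
    (.lin 0)) (.div 1)) (.lin 4)) (.lin 3))) (.wt 1))) (.lin 9))) (.lin 7)) (.lin 3)))

def cert5_97_1 : Cert :=
  (.split 7 (-136) (.split 2 45 (.lin 9) (.split 0 (-155) (.splitN 2116886 (.split 0 (-58791)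
    (.div 0) (.split 5 58703 (.splitN 244217 (.split 2 1354 (.split 3 45 (.wt 2) (.split 1 96
    (.lin 11) (.split 0 (-457) .sq (.split 2 388 (.split 3 682 (.split 1 772 (.split 1 430
    (.split 5 356 (.split 3 385 (.splitN 199315 (.split 6 45 (.wt 2) (.split 1 105 (.lin 11)
    (.split 0 (-401) .sq (.split 2 325 (.split 1 376 (.split 5 293 (.split 3 322 (.split 7 (-380)
    (.lin 12) (.split 4 (-73) (.split 0 (-209) (.splitN 87047 .sq (.wt 0)) (.lin 12)) (.split 4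
    (-37) (.split 0 (-173) (.splitN 104120 (.split 3 83 (.wt 2) (.split 5 257 (.split 1 141 (.lin
    11) (.splitN 83231 .sq (.split 6 55 (.wt 0) (.split 1 150 (.lin 11) (.split 7 (-308) (.wt 0)
    (.split 1 349 (.split 0 (-372) (.lin 12) (.split 5 221 (.split 3 89 (.wt 0) (.split 2 54
    (.lin 10) (.split 1 159 (.lin 11) (.splitN 92276 .sq (.split 3 124 (.wt 0) (.split 2 90 (.lin
    10) (.split 1 195 (.lin 11) (.split 7 (-154) .sq (.lin 6))))))))) (.lin 4))) (.lin 8)))))))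
    (.lin 7))) (.wt 3)) (.lin 12)) (.split 3 129 (.split 1 214 (.splitN 155159 (.split 6 54 (.wt
    2) (.split 1 114 (.lin 11) (.split 0 (-335) .sq (.split 2 244 (.split 5 212 (.split 5 69
    (.split 2 199 (.split 3 58 (.wt 2) (.split 2 54 (.lin 10) (.split 6 75 (.split 7 (-245) (.lin
    6) (.split 1 196 (.split 3 84 (.wt 2) (.split 7 (-145) (.split 0 (-173) (.split 2 72 (.lin 9)
    (.split 2 81 (.lin 10) (.split 1 150 (.lin 11) (.splitN 92996 .sq (.splitN 129372 (.split 4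
    (-27) (.wt 0) (.split 2 90 (.lin 10) (.split 5 23 (.wt 1) (.split 7 (-163) (.splitN 123393
    (.split 3 97 (.wt 2) (.split 7 (-181) (.split 2 117 (.lin 10) (.split 1 168 (.lin 11) .sq))
    (.lin 6))) (.wt 3)) (.lin 6))))) (.wt 5)))))) (.lin 7)) (.lin 6))) (.lin 11))) (.split 0
    (-164) (.split 1 141 (.lin 11) (.split 3 92 (.split 1 178 (.split 3 61 (.wt 2) (.split 7
    (-145) (.split 0 (-173) (.split 1 150 (.lin 11) (.splitN 90080 .sq (.split 4 (-28) (.wt 0)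
    (.split 7 (-154) (.split 5 31 (.wt 2) (.split 7 (-163) (.split 5 33 (.wt 2) (.split 0 (-191)
    (.split 2 90 (.lin 10) (.split 7 (-172) (.splitN 110528 .sq (.splitN 113142 (.split 3 77 (.wt
    0) (.split 2 99 (.lin 10) .sq)) (.wt 3))) (.lin 6))) (.lin 4))) (.lin 6))) (.lin 6))))) (.lin
    7)) (.lin 6))) (.lin 11)) (.split 7 (-172) (.split 0 (-200) (.split 2 81 (.lin 9) (.split 1
    177 (.lin 11) (.splitN 126287 .sq (.splitN 129263 (.split 4 (-22) (.wt 0) (.split 2 99 (.lin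
    10) .sq)) (.wt 3))))) (.lin 7)) (.lin 6)))) (.lin 7))))) (.lin 0)) (.split 0 (-191) (.split 2
    99 (.lin 10) (.split 7 (-163) (.splitN 99152 .sq (.split 3 57 (.wt 0) (.split 7 (-172)
    (.split 2 108 (.lin 10) (.split 1 123 (.lin 11) (.splitN 107216 .sq (.split 3 65 (.wt 0)
    (.split 0 (-209) (.split 2 117 (.lin 10) (.splitN 119951 .sq (.wt 3))) (.lin 7)))))) (.lin
    6)))) (.lin 6))) (.lin 4))) (.lin 4)) (.lin 3))))) (.wt 3)) (.lin 11)) (.split 5 221 (.split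
    0 (-209) (.split 2 126 (.lin 10) (.split 1 186 (.lin 11) (.split 7 (-181) (.splitN 148967 .sq
    (.splitN 150525 (.split 4 (-25) (.wt 0) (.split 2 135 (.lin 10) .sq)) (.wt 3))) (.lin 6))))
    (.lin 7)) (.lin 6)))))) (.lin 7)) (.lin 4)) (.lin 4)) (.lin 3))))) (.wt 3)) (.lin 7)) (.lin
    4)) (.lin 4)) (.lin 11)) (.lin 1)) (.lin 3))))) (.div 2)) (.wt 3)) (.lin 4))) (.wt 0)) (.lin
    12))) (.split 2 82 (.split 4 (-48) (.split 0 (-119) (.splitN 684302 (.split 0 (-18921) (.div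
    0) (.split 3 18916 (.split 5 3784 (.splitN 218638 (.split 1 2420 (.split 3 2437 (.split 3 51
    (.wt 2) (.split 1 96 (.lin 11) (.split 6 44 (.wt 2) (.split 0 (-128) (.split 2 73 (.split 7
    (-73) (.splitN 165806 (.split 3 57 (.wt 2) (.split 0 (-137) (.split 1 114 (.lin 11) (.split 0
    (-366) .sq (.split 3 340 (.split 1 448 (.split 4 (-291) (.lin 3) (.split 1 394 (.split 1 340
    (.split 5 248 (.split 3 286 (.split 3 65 (.wt 2) (.split 0 (-146) (.split 6 55 (.wt 2)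
    (.split 2 64 (.split 1 132 (.lin 11) (.split 5 230 (.split 7 (-82) (.splitN 120659 (.split 3
    74 (.wt 2) (.split 1 141 (.lin 11) (.split 0 (-283) .sq (.split 4 (-201) (.lin 3) (.split 1
    304 (.split 1 259 (.split 5 140 (.split 3 196 (.split 3 83 (.wt 2) (.split 1 150 (.lin 11)
    (.split 5 131 (.split 5 28 (.wt 2) (.split 6 65 (.wt 2) (.split 4 (-65) (.split 0 (-191)
    (.split 2 55 (.split 1 159 (.lin 11) (.split 5 122 (.split 3 178 (.split 7 (-91) (.splitN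
    88757 .sq (.split 0 (-272) (.wt 0) (.split 1 232 (.split 3 160 (.wt 5) (.lin 7)) (.lin 4))))
    (.lin 9)) (.lin 7)) (.lin 4))) (.lin 9)) (.lin 7)) (.lin 6)))) (.lin 4)))) (.lin 7)) (.lin
    4)) (.lin 4)) (.lin 8)))))) (.wt 3)) (.lin 9)) (.lin 4))) (.lin 9))) (.lin 7))) (.lin 7))
    (.lin 4)) (.lin 4)) (.lin 8))) (.lin 2)) (.lin 1)))) (.lin 7))) (.wt 3)) (.lin 9)) (.lin 9))
    (.lin 3))))) (.lin 2)) (.div 1)) (.wt 3)) (.div 5)) (.lin 1))) (.wt 0)) (.lin 3)) (.split 1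
    196 (.split 3 106 (.split 1 151 (.split 0 (-174) (.lin 12) (.split 5 131 (.split 6 47 (.wt 2)
    (.split 3 97 (.split 0 (-119) (.split 2 73 (.split 1 96 (.lin 11) (.split 5 77 (.split 7
    (-73) (.split 6 71 (.split 3 53 (.wt 2) (.split 5 59 (.split 0 (-137) (.split 2 36 (.lin 10)
    (.split 1 114 (.lin 11) (.split 7 (-91) (.splitN 88762 (.wt 1) (.split 4 (-38) (.wt 0)
    (.split 3 79 (.split 1 133 (.split 0 (-156) (.lin 12) (.split 5 41 (.split 7 (-109) (.wt 2)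
    (.lin 6)) (.lin 4))) (.lin 8)) (.lin 6)))) (.lin 6)))) (.lin 7)) (.lin 6))) (.split 3 70
    (.split 0 (-146) (.split 2 46 (.split 1 123 (.lin 11) (.split 5 50 (.split 7 (-100) (.splitN
    83176 (.wt 1) (.split 4 (-36) (.wt 0) (.split 1 142 (.split 3 52 (.split 2 36 (.lin 10)
    (.split 0 (-156) (.lin 12) (.split 5 32 (.split 7 (-118) (.splitN 99708 (.wt 1) (.wt 0))
    (.lin 6)) (.lin 4)))) (.lin 6)) (.lin 0)))) (.lin 6)) (.lin 4))) (.lin 9)) (.lin 7)) (.lin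
    6))) (.lin 6)) (.lin 4))) (.lin 9)) (.lin 7)) (.lin 6))) (.lin 0))) (.lin 8)) (.lin 6)) (.lin
    0))) (.lin 9)))

def cert5_97_2 : Cert :=
  (.split 2 10 (.split 4 (-56) (.splitN 2104659 (.split 1 23372 (.split 0 (-1445) .sq (.split 3
    1384 (.split 6 1385 (.split 1 1420 (.splitN 1191859 (.split 0 (-1083) .sq (.split 3 1024
    (.split 6 1025 (.split 1 1060 (.splitN 1035844 (.split 0 (-1009) .sq (.split 3 943 (.split 6
    944 (.split 2 3 (.split 4 (-65) (.splitN 52810 (.split 0 (-185) .sq (.split 3 115 (.split 7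
    (-119) (.lin 1) (.split 1 232 (.split 6 116 (.split 1 160 (.splitN 47104 (.split 0 (-167) .sq
    (.split 3 97 (.split 5 77 (.split 6 98 (.split 1 142 (.splitN 45670 (.split 0 (-157) .sq
    (.split 3 88 (.split 5 68 (.split 6 89 (.split 1 133 (.split 6 44 (.wt 2) (.split 0 (-119)
    (.split 1 96 (.lin 11) (.split 5 59 (.split 3 79 (.split 7 (-55) (.splitN 36008 .sq (.split 7
    (-85) (.wt 0) (.split 6 80 (.split 7 (-80) (.wt 0) (.split 6 71 (.splitN 39435 (.split 3 45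
    (.wt 0) (.split 1 105 (.lin 2) (.split 4 (-74) .sq (.lin 10)))) (.wt 3)) (.lin 9))) (.lin
    9)))) (.lin 9)) (.lin 7)) (.lin 4))) (.lin 3))) (.lin 4)) (.lin 3)) (.lin 1)) (.lin 1))) (.wt
    3)) (.lin 4)) (.lin 3)) (.lin 1)) (.lin 1))) (.wt 3)) (.lin 4)) (.lin 3)) (.lin 2))) (.lin
    1))) (.wt 1)) (.lin 10)) (.split 7 (-55) (.splitN 306051 (.split 0 (-536) .sq (.split 3 466
    (.split 6 467 (.split 1 511 (.splitN 263748 (.split 0 (-495) .sq (.split 3 421 (.split 6 422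
    (.split 1 466 (.split 6 136 (.splitN 215502 (.split 0 (-443) .sq (.split 3 367 (.split 5 347
    (.split 6 44 (.wt 2) (.split 0 (-119) (.split 7 (-64) (.splitN 153742 (.split 0 (-363) .sq
    (.split 3 286 (.split 5 266 (.split 1 340 (.split 6 93 (.split 3 54 (.wt 2) (.split 0 (-137)
    (.split 5 248 (.split 4 (-74) (.split 3 63 (.wt 2) (.split 4 (-83) (.split 6 55 (.wt 2)
    (.split 0 (-155) (.split 7 (-73) (.split 3 76 (.wt 2) (.split 0 (-164) (.split 4 (-92)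
    (.split 3 80 (.wt 2) (.split 0 (-173) (.split 1 150 (.lin 2) (.split 5 212 (.split 4 (-101)
    (.splitN 80477 .sq (.split 3 93 (.wt 0) (.split 1 159 (.lin 2) (.split 4 (-110) (.splitN
    86840 .sq (.splitN 94538 (.split 3 128 (.wt 0) (.split 1 195 (.lin 2) (.split 4 (-146) .sq
    (.lin 10)))) (.wt 3))) (.lin 10))))) (.lin 10)) (.lin 1))) (.lin 1))) (.lin 10)) (.lin 1)))
    (.lin 9)) (.lin 3))) (.lin 10))) (.lin 10)) (.lin 1)) (.lin 1))) (.split 0 (-164) (.split 1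
    141 (.lin 11) (.split 5 221 (.split 3 241 (.split 7 (-109) (.splitN 74159 .sq (.splitN 87919
    (.split 3 67 (.wt 0) (.split 1 168 (.lin 2) (.split 4 (-83) .sq (.lin 10)))) (.wt 3))) (.lin
    9)) (.lin 7)) (.lin 4))) (.lin 3))) (.lin 4)) (.lin 1)) (.lin 1))) (.wt 3)) (.lin 9)) (.lin
    3))) (.lin 1)) (.lin 1))) (.wt 3)) (.split 0 (-209) (.split 1 186 (.lin 11) (.split 7 (-154)
    (.splitN 128429 .sq (.wt 0)) (.lin 9))) (.lin 3))) (.lin 4)) (.lin 3)) (.lin 1))) (.wt 3))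
    (.lin 4)) (.lin 3)) (.lin 1))) (.wt 3)) (.lin 9))) (.lin 3)) (.lin 1))) (.wt 3)) (.lin 4))
    (.lin 3)) (.lin 1))) (.wt 3)) (.lin 4)) (.lin 3)) (.lin 1))) (.div 1)) (.wt 3)) (.lin 10))
    (.split 7 (-64) (.split 6 96 cert5_97_1 (.split 0 (-137) (.split 0 (-164) (.split 1 141 (.lin
    11) (.split 7 (-118) (.splitN 73727 .sq (.splitN 256201 (.split 1 2816 (.split 5 1408 (.split
    0 (-4215) (.lin 4) (.split 0 (-455) .sq (.split 2 334 (.split 3 646 (.split 5 626 (.split 7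
    (-722) (.lin 1) (.split 1 1348 (.split 1 430 (.splitN 226341 (.split 0 (-422) .sq (.split 2
    298 (.split 1 394 (.split 3 295 (.split 6 350 (.split 4 (-78) (.split 0 (-200) (.split 6 314
    (.splitN 93320 .sq (.splitN 95221 (.split 3 90 (.wt 0) (.split 1 195 (.lin 11) .sq)) (.wt
    3))) (.lin 3)) (.lin 3)) (.split 3 112 (.split 4 (-39) (.splitN 103449 (.split 0 (-230) .sq
    (.split 2 82 (.split 6 161 (.split 1 205 (.split 5 86 (.split 3 52 (.wt 0) (.split 0 (-182)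
    (.split 1 159 (.lin 11) (.split 6 143 (.splitN 89072 .sq (.wt 3)) (.lin 7))) (.lin 7))) (.lin
    4)) (.lin 4)) (.lin 3)) (.lin 3))) (.wt 3)) (.split 7 (-127) (.split 2 27 (.lin 10) (.split 3
    74 (.splitN 175188 (.split 0 (-351) .sq (.split 6 188 (.split 1 259 (.split 4 (-29) (.splitN
    109295 (.split 0 (-241) .sq (.split 2 109 (.split 1 214 (.split 5 95 (.split 6 170 (.split 3
    44 (.wt 2) (.split 7 (-136) (.split 0 (-173) (.split 1 150 (.lin 11) (.split 5 86 (.split 6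
    161 (.splitN 86273 .sq (.splitN 101066 (.split 5 25 (.wt 2) (.split 7 (-145) (.split 6 152
    (.split 3 53 (.wt 0) (.split 7 (-154) (.split 0 (-191) (.split 2 54 (.lin 10) .sq) (.lin 7))
    (.lin 6))) (.lin 7)) (.lin 6))) (.wt 3))) (.lin 7)) (.lin 4))) (.lin 7)) (.lin 6))) (.lin 7))
    (.lin 4)) (.lin 4)) (.lin 3))) (.wt 3)) (.split 7 (-145) (.split 2 45 (.lin 10) (.splitN
    143814 (.split 0 (-296) .sq (.split 2 172 (.split 5 58 (.split 2 100 (.split 6 143 (.split 1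
    241 (.split 1 214 (.split 3 44 (.wt 2) (.split 7 (-154) (.split 2 54 (.lin 10) (.split 1 150
    (.lin 11) (.split 5 36 (.split 2 82 (.split 3 52 (.wt 2) (.split 7 (-163) (.split 2 63 (.lin
    10) (.split 6 104 (.wt 2) (.split 0 (-191) (.split 1 168 (.lin 11) (.split 7 (-172) (.splitN
    114821 .sq (.splitN 120156 (.split 3 61 (.wt 0) (.split 1 177 (.lin 11) .sq)) (.wt 3))) (.lin
    6))) (.lin 3)))) (.lin 6))) (.lin 10)) (.split 0 (-191) (.split 2 72 (.lin 10) (.split 7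
    (-172) (.splitN 108584 .sq (.split 3 53 (.wt 0) (.split 6 112 (.split 1 187 (.wt 3) (.lin 0))
    (.wt 1)))) (.lin 6))) (.lin 4))))) (.lin 6))) (.lin 11)) (.lin 0)) (.split 1 168 (.lin 0)
    (.split 0 (-218) (.split 7 (-199) .sq (.lin 6)) (.lin 3)))) (.lin 10)) (.split 0 (-200)
    (.split 2 81 (.lin 10) (.split 7 (-181) (.splitN 114983 .sq (.wt 3)) (.lin 6))) (.lin 4)))
    (.lin 3))) (.wt 3))) (.lin 6))) (.lin 11)) (.split 1 240 (.lin 11) (.split 7 (-226) .sq (.lin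
    6))))) (.wt 3)) (.split 0 (-200) (.split 2 63 (.lin 10) (.split 1 177 (.lin 11) (.split 7
    (-163) (.splitN 119123 .sq (.split 4 (-32) (.wt 1) (.split 7 (-172) (.split 2 72 (.lin 10)
    (.split 5 37 (.split 2 118 (.split 6 158 (.split 1 277 (.split 0 (-300) (.lin 3) (.split 1
    259 (.split 4 (-26) (.wt 0) (.split 2 81 (.lin 10) (.splitN 124766 .sq (.split 5 28 (.split 2
    109 (.split 6 121 (.split 1 223 (.splitN 131032 (.split 3 87 (.wt 0) (.split 7 (-190) .sq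
    (.lin 6))) (.wt 3)) (.lin 0)) (.wt 1)) (.lin 10)) (.wt 1))))) (.lin 11))) (.lin 0)) (.wt 1))
    (.lin 10)) (.wt 1))) (.lin 6)))) (.lin 6)))) (.lin 7)))) (.lin 6))) (.split 0 (-236) (.split
    2 63 (.lin 10) (.split 1 213 (.lin 11) (.split 7 (-163) (.splitN 155915 .sq (.wt 1)) (.lin
    6)))) (.lin 7)))) (.lin 7)) (.lin 7)) (.lin 4)) (.lin 3))) (.wt 1)) (.lin 4)) (.lin 2)))
    (.lin 1)) (.lin 1)) (.lin 3)))) (.div 5)) (.div 1)) (.wt 1))) (.lin 9))) (.lin 7)) (.lin 3)))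
    (.lin 9)))

def cert5_97_3 : Cert :=
  (.split 3 40 (.split 5 18 (.split 2 28 (.split 3 17 (.wt 2) (.split 6 69 (.wt 2) (.split 0
    (-101) (.split 1 96 (.lin 11) (.split 7 (-73) (.splitN 357205 (.split 0 (-9921) (.div 0)
    (.split 7 (-9920) (.lin 1) (.split 1 9952 (.split 6 9944 (.split 5 6 (.wt 2) (.split 0 (-110)
    (.split 6 118 (.wt 2) (.split 0 (-164) (.split 1 150 (.lin 11) (.split 7 (-127) (.splitN
    82673 .sq (.splitN 111141 (.split 1 1232 (.split 6 1223 (.splitN 106774 (.split 1 1160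
    (.split 6 1151 (.wt 4) (.lin 0)) (.div 1)) (.wt 0)) (.lin 0)) (.div 1)) (.wt 0))) (.lin 9)))
    (.lin 7))) (.lin 4))) (.lin 0)) (.lin 2)))) (.wt 0)) (.lin 9))) (.lin 7)))) (.lin 10))
    (.split 0 (-83) (.split 2 10 (.split 4 (-29) (.splitN 442555 (.split 0 (-12261) (.div 0)
    (.split 5 12209 (.split 7 (-12233) (.lin 1) (.split 1 12265 (.split 6 24443 (.split 1 4904
    (.split 6 48 (.wt 2) (.split 0 (-92) (.split 7 (-55) (.splitN 208301 (.split 1 2312 (.split 7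
    (-2306) (.lin 2) (.split 6 2303 (.split 5 1156 (.split 6 54 (.wt 2) (.split 0 (-101) (.split
    7 (-64) (.splitN 149785 (.split 1 1664 (.split 7 (-1658) (.lin 2) (.split 6 1655 (.split 5
    832 (.split 3 16 (.wt 2) (.split 0 (-110) (.split 4 (-38) (.splitN 119597 (.split 1 1304
    (.split 7 (-1289) (.lin 2) (.split 6 1286 (.split 5 652 (.split 6 68 (.wt 2) (.split 7 (-73)
    (.splitN 102400 (.split 1 1124 (.split 7 (-1109) (.lin 2) (.split 6 1106 (.split 5 562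
    (.split 6 74 (.wt 2) (.split 0 (-128) (.split 7 (-82) (.splitN 92004 (.split 1 1016 (.split 6
    80 (.wt 2) (.split 0 (-137) (.split 1 114 (.lin 11) (.split 7 (-91) (.splitN 50795 .sq
    (.splitN 85034 (.split 1 944 (.split 5 472 (.split 2 1 (.wt 3) (.split 7 (-100) (.splitN
    52613 .sq (.splitN 80557 (.split 1 872 (.split 7 (-857) (.lin 2) (.split 6 845 (.split 4
    (-306) (.wt 0) (.split 5 284 (.split 7 (-374) (.wt 0) (.split 1 394 (.split 6 359 (.splitN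
    64348 (.wt 6) (.split 0 (-404) (.wt 0) (.split 3 28 (.wt 0) (.split 6 341 (.split 4 (-47)
    (.wt 2) (.lin 10)) (.lin 7))))) (.lin 9)) (.lin 2))) (.lin 10))) (.lin 9))) (.div 1)) (.wt
    3))) (.lin 9))) (.div 5)) (.div 1)) (.wt 3))) (.lin 9))) (.lin 7))) (.div 1)) (.wt 3)) (.lin
    9)) (.lin 7))) (.div 5)) (.lin 9))) (.div 1)) (.wt 3)) (.lin 9))) (.div 5)) (.lin 9))) (.div
    1)) (.wt 3)) (.lin 10)) (.lin 7))) (.div 5)) (.lin 9))) (.div 1)) (.wt 3)) (.lin 9)) (.lin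
    7))) (.div 5)) (.lin 9))) (.div 1)) (.wt 3)) (.lin 9)) (.lin 7))) (.div 1)) (.lin 0)) (.lin
    2))) (.lin 1))) (.wt 3)) (.lin 10)) (.split 7 (-64) (.splitN 661367 (.split 0 (-18291) (.div
    0) (.split 2 18226 (.split 7 (-36479) (.lin 1) (.split 1 36493 (.split 1 7316 (.split 6 7298
    (.split 2 3658 (.split 3 18 (.wt 2) (.split 0 (-92) (.splitN 563164 (.split 1 6236 (.split 6
    6209 (.split 5 3118 (.split 6 77 (.wt 2) (.split 0 (-119) (.split 0 (-128) (.split 7 (-100)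
    (.splitN 260592 (.split 1 2888 (.split 6 2861 (.split 5 1444 (.splitN 167179 (.split 1 1844
    (.split 6 1817 (.split 2 922 (.split 6 115 (.wt 2) (.split 0 (-164) (.split 7 (-136) (.splitN
    145691 (.split 1 1592 (.split 6 1565 (.splitN 123784 (.split 5 670 (.split 6 153 (.wt 2)
    (.split 0 (-200) (.split 1 186 (.lin 11) (.split 7 (-172) .sq (.lin 2))) (.lin 3))) (.div 5))
    (.wt 3)) (.lin 11)) (.div 1)) (.wt 0)) (.lin 9)) (.lin 7))) (.div 2)) (.lin 11)) (.div 1))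
    (.wt 3)) (.div 5)) (.lin 11)) (.div 1)) (.wt 0)) (.lin 9)) (.lin 7)) (.lin 3))) (.div 5))
    (.lin 11)) (.div 1)) (.wt 3)) (.lin 7))) (.div 2)) (.lin 11)) (.div 1)) (.lin 2))) (.lin 3)))
    (.wt 3)) (.lin 9))) (.lin 4))) (.split 0 (-92) (.split 1 87 (.lin 11) (.split 5 18 (.split 2
    10 (.split 4 (-38) (.split 2 3 (.split 4 (-47) (.splitN 146033 (.split 0 (-3981) (.div 0)
    (.split 1 3976 (.split 1 1592 (.split 0 (-1605) (.lin 4) (.split 6 1556 (.split 3 1555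
    (.splitN 132128 (.split 1 1448 (.split 6 1412 (.splitN 74701 (.split 0 (-237) .sq (.split 3
    187 (.split 7 (-191) (.lin 1) (.split 1 376 (.split 6 188 (.split 1 232 (.split 6 47 (.wt 2)
    (.split 0 (-101) (.split 7 (-55) (.split 5 5 (.wt 2) (.split 0 (-110) (.split 3 169 (.split 4
    (-56) (.split 6 57 (.wt 2) (.split 1 105 (.lin 0) (.split 7 (-64) (.splitN 38519 .sq (.splitN
    45613 (.split 3 46 (.wt 0) (.split 0 (-128) (.split 1 114 (.lin 2) (.split 4 (-65) .sq (.lin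
    10))) (.lin 1))) (.wt 1))) (.lin 9)))) (.lin 10)) (.lin 1)) (.lin 1))) (.lin 9)) (.lin 3)))
    (.lin 4)) (.lin 3)) (.lin 2))) (.lin 1))) (.wt 3)) (.lin 0)) (.div 1)) (.wt 0)) (.lin 1))
    (.lin 0))) (.div 1)) (.lin 4))) (.wt 0)) (.lin 10)) (.split 6 57 (.wt 2) (.split 0 (-110)
    (.split 7 (-73) (.splitN 828519 (.split 1 9188 (.split 0 (-9201) (.lin 4) (.split 6 9152
    (.split 3 9133 (.splitN 557565 (.split 1 6164 (.split 0 (-6177) (.lin 4) (.split 3 6109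
    (.split 6 70 (.wt 2) (.split 0 (-119) (.split 7 (-82) (.splitN 421931 (.split 1 4688 (.split
    0 (-4701) (.lin 4) (.split 6 4652 (.split 3 4624 (.splitN 324725 (.split 1 3608 (.split 0
    (-3621) (.lin 4) (.split 6 3572 (.split 3 3544 (.split 3 44 (.wt 2) (.split 0 (-128) (.split
    4 (-47) (.splitN 289723 (.split 1 3212 (.split 0 (-3225) (.lin 4) (.split 6 3167 (.split 3
    3148 (.splitN 230293 (.split 1 2528 (.split 0 (-2541) (.lin 4) (.split 6 2483 (.split 3 2464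
    (.split 5 5 (.wt 2) (.split 0 (-137) (.split 4 (-56) (.splitN 152401 (.split 1 1664 (.split 0
    (-1677) (.lin 4) (.split 6 1610 (.split 3 1591 (.split 3 56 (.wt 2) (.split 0 (-146) (.split
    4 (-65) (.splitN 138856 (.split 1 1520 (.split 0 (-1533) (.lin 4) (.split 6 1457 (.split 3
    1447 (.split 3 61 (.wt 2) (.split 4 (-74) (.split 6 108 (.wt 2) (.split 1 186 (.lin 0)
    (.split 0 (-200) (.split 7 (-127) (.splitN 115226 .sq (.wt 0)) (.lin 9)) (.lin 3)))) (.lin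
    10))) (.lin 1)) (.lin 0))) (.div 1)) (.wt 3)) (.lin 10)) (.lin 1))) (.lin 1)) (.lin 0)))
    (.div 1)) (.wt 3)) (.lin 10)) (.lin 1))) (.lin 1)) (.lin 0))) (.div 1)) (.wt 5)) (.lin 1))
    (.lin 0))) (.div 1)) (.wt 3)) (.lin 10)) (.lin 1))) (.lin 1)) (.lin 0))) (.div 1)) (.wt 5))
    (.lin 1)) (.lin 0))) (.div 1)) (.wt 3)) (.lin 9)) (.lin 3))) (.lin 1))) (.div 1)) (.wt 5))
    (.lin 1)) (.lin 0))) (.div 1)) (.wt 3)) (.lin 9)) (.lin 3)))) (.lin 10)) (.split 7 (-64)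
    (.split 6 48 (.wt 2) (.split 0 (-101) (.split 7 (-73) (.split 5 9 (.wt 6) (.split 6 53 (.wt
    2) (.split 0 (-119) (.split 7 (-82) cert5_97_0 (.lin 9)) (.lin 7)))) (.lin 9)) (.lin 7)))
    (.lin 9))) (.split 0 (-110) cert5_97_2 (.lin 4)))) (.lin 7)))

def cert5_97_4 : Cert :=
  (.split 3 166 (.split 1 214 (.split 7 (-424) (.split 2 288 (.lin 2) (.split 0 (-344) (.split 2
    369 (.lin 9) (.split 0 (-434) (.split 5 211 (.lin 0) (.splitN 573650 .sq (.wt 0))) (.lin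
    12))) (.lin 3))) (.split 2 451 (.split 2 370 (.split 0 (-426) (.lin 12) (.split 5 311
    (.splitN 144413 (.wt 1) (.split 6 48 (.split 3 82 (.wt 2) (.split 0 (-173) (.split 2 117
    (.lin 10) (.split 1 132 (.lin 11) (.split 7 (-163) (.split 5 109 (.split 2 262 (.split 3 100
    (.wt 2) (.split 7 (-181) (.split 0 (-191) (.split 3 111 (.wt 2) (.split 5 47 (.wt 2) (.split
    7 (-199) (.split 3 123 (.wt 2) (.split 1 168 (.lin 11) (.split 5 57 (.wt 2) (.split 2 171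
    (.lin 0) (.split 0 (-227) (.split 7 (-217) (.split 3 134 (.wt 2) (.split 7 (-235) (.split 0
    (-245) (.split 2 189 (.lin 9) (.split 1 186 (.lin 11) (.splitN 305281 (.split 0 (-285) (.wt
    2) (.split 2 226 (.split 5 95 (.split 7 (-272) (.lin 9) (.split 5 59 (.wt 1) (.split 0 (-269)
    (.wt 2) (.split 2 208 (.split 1 196 (.split 5 77 (.split 3 151 (.split 7 (-254) (.lin 9)
    (.splitN 274699 (.wt 1) (.wt 0))) (.lin 7)) (.lin 0)) (.lin 0)) (.lin 3))))) (.lin 0)) (.lin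
    3))) (.wt 0)))) (.lin 7)) (.lin 6))) (.lin 6)) (.lin 3)))))) (.lin 6)))) (.lin 7)) (.lin 6)))
    (.lin 0)) (.split 2 189 (.lin 0) (.split 0 (-245) (.split 7 (-235) (.split 3 119 (.wt 2)
    (.split 0 (-281) (.split 2 225 (.lin 10) (.split 1 168 (.lin 11) (.split 7 (-271) (.splitN
    262241 .sq (.wt 3)) (.lin 6)))) (.lin 7))) (.lin 6)) (.lin 3)))) (.lin 6)))) (.lin 7)))
    (.split 1 132 (.lin 11) (.split 7 (-163) (.split 3 119 (.split 1 169 (.split 5 109 (.split 2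
    208 (.split 0 (-273) (.lin 3) (.split 5 72 (.split 2 172 (.split 0 (-237) (.lin 3) (.split 7
    (-227) (.lin 6) (.splitN 228687 (.wt 3) (.split 3 108 (.split 2 163 (.split 3 92 (.split 7
    (-200) (.lin 6) (.split 0 (-210) (.lin 7) (.split 2 145 (.split 1 142 (.splitN 412697 .cand
    (.wt 1)) (.lin 11)) (.lin 9)))) (.split 1 150 (.lin 11) (.split 3 105 (.split 7 (-209) (.lin
    6) (.split 0 (-219) (.lin 7) (.split 1 151 (.splitN 336038 (.split 7 (-191) (.split 2 144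
    (.lin 2) (.split 5 58 (.lin 0) (.splitN 326192 (.wt 0) (.wt 1)))) (.wt 0)) (.wt 6)) (.lin
    11)))) (.wt 2)))) (.lin 10)) (.wt 2))))) (.lin 0)) (.split 7 (-199) (.splitN 273931 .cand
    (.wt 1)) (.lin 6)))) (.lin 0)) (.split 7 (-235) (.splitN 240238 .cand (.wt 1)) (.lin 6)))
    (.lin 11)) (.split 1 177 (.lin 11) (.split 0 (-259) (.split 2 198 (.lin 3) (.split 5 49 (.lin
    0) (.split 7 (-253) (.splitN 269585 (.split 7 (-272) (.split 5 76 (.lin 6) (.split 2 225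
    (.lin 9) (.split 0 (-290) .sq (.lin 12)))) (.wt 0)) (.wt 1)) (.lin 9)))) (.wt 2)))) (.lin
    6))))) (.lin 0))) (.lin 9)) (.lin 2))) (.lin 11)) (.split 7 (-244) (.split 0 (-254) (.split 2
    189 (.lin 9) (.split 1 213 (.lin 11) (.splitN 713084 (.split 0 (-733) .sq (.split 2 676
    (.split 1 700 (.splitN 584212 (.split 0 (-641) .sq (.split 2 577 (.split 1 601 (.split 3 547
    (.split 7 (-632) (.lin 9) (.split 6 48 (.splitN 539069 (.split 0 (-605) .sq (.split 2 541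
    (.split 5 81 (.split 3 293 (.split 7 (-398) (.lin 6) (.split 0 (-408) (.lin 7) (.split 1 367
    (.split 2 352 (.split 1 331 (.split 5 59 (.split 2 334 (.split 3 186 (.wt 2) (.split 7 (-262)
    (.split 0 (-272) (.split 3 203 (.wt 2) (.split 7 (-280) (.split 0 (-290) (.split 2 234 (.lin
    9) (.split 1 249 (.lin 11) (.splitN 325988 .sq (.split 0 (-362) (.wt 0) (.split 2 298 (.split
    1 313 (.split 3 268 (.split 0 (-320) (.wt 0) (.split 2 262 (.split 1 277 (.split 3 232 (.wt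
    0) (.lin 7)) (.lin 0)) (.lin 3))) (.lin 7)) (.lin 0)) (.lin 3)))))) (.lin 7)) (.lin 6)))
    (.lin 7)) (.lin 6))) (.lin 0)) (.split 2 225 (.lin 0) (.split 0 (-281) (.split 7 (-271)
    (.splitN 284516 .sq (.split 7 (-379) (.wt 1) (.split 1 313 (.split 3 178 (.wt 2) (.split 7
    (-289) (.split 0 (-299) (.split 2 243 (.lin 9) (.split 1 231 (.lin 11) (.splitN 327932 .sq
    (.wt 1)))) (.lin 7)) (.lin 6))) (.lin 8)))) (.lin 6)) (.lin 3)))) (.lin 11)) (.lin 9)) (.lin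
    8)))) (.split 7 (-370) (.split 0 (-380) (.split 1 303 (.lin 8) (.split 2 324 (.lin 9) .sq))
    (.lin 7)) (.lin 6))) (.split 0 (-299) (.split 2 243 (.lin 10) (.split 7 (-289) (.splitN
    316268 .sq (.wt 1)) (.lin 6))) (.lin 4))) (.lin 3))) (.wt 3)) (.splitN 248525 (.split 0
    (-296) (.split 2 234 (.lin 3) (.split 7 (-289) .sq (.lin 9))) (.wt 0)) (.wt 6)))) (.lin 7))
    (.lin 0)) (.lin 3))) (.wt 1)) (.lin 0)) (.lin 3))) (.wt 1)))) (.lin 7)) (.lin 6)))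

def cert5_97_5 : Cert :=
  (.split 3 76 (.split 1 124 (.split 3 36 (.wt 2) (.split 7 (-91) (.split 0 (-101) (.split 2 45
    (.lin 10) (.split 1 87 (.lin 11) (.split 5 21 (.wt 2) (.split 0 (-110) (.split 7 (-100)
    (.split 5 24 (.wt 2) (.split 0 (-119) (.split 2 63 (.lin 10) (.split 7 (-109) (.splitN
    1901342 (.split 2 10552 (.split 5 10526 (.split 0 (-2928) (.wt 2) (.split 2 2872 (.split 5
    2849 (.split 0 (-2482) (.wt 2) (.split 2 2422 (.split 5 2399 (.split 3 43 (.wt 2) (.split 7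
    (-118) (.split 0 (-128) (.split 2 72 (.lin 10) (.split 1 96 (.lin 11) (.split 0 (-1098) (.wt
    2) (.split 2 1036 (.split 5 1004 (.split 0 (-953) (.wt 2) (.split 2 892 (.split 5 860 (.split
    5 33 (.wt 2) (.split 2 81 (.lin 10) (.split 7 (-127) (.split 0 (-663) (.wt 2) (.split 2 604
    (.split 5 572 (.split 0 (-606) (.wt 2) (.split 2 550 (.split 5 518 (.split 6 44 (.wt 2)
    (.split 0 (-146) (.split 1 105 (.lin 11) (.split 7 (-136) (.split 0 (-490) (.wt 2) (.split 2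
    424 (.split 5 383 (.split 0 (-454) (.wt 2) (.split 2 388 (.split 5 347 (.split 3 52 (.wt 2)
    (.split 7 (-145) (.split 0 (-155) (.split 2 90 (.lin 9) (.split 1 114 (.lin 11) (.split 0
    (-386) (.wt 2) (.split 2 316 (.split 5 266 (.split 0 (-357) (.wt 2) (.split 2 289 (.split 5
    239 (.split 5 51 (.wt 2) (.split 2 108 (.lin 0) (.split 0 (-173) (.split 7 (-163) (.split 0
    (-292) (.wt 2) (.split 2 226 (.split 5 176 (.split 0 (-264) (.wt 2) (.split 2 199 (.split 5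
    149 (.split 0 (-248) (.wt 2) (.split 2 181 (.split 5 131 (.split 0 (-235) (.wt 2) (.split 2
    163 (.split 5 113 (.split 3 63 (.wt 2) (.split 7 (-172) (.split 2 117 (.lin 9) (.split 1 123
    (.lin 11) (.split 5 104 (.split 0 (-202) (.wt 2) (.split 2 136 (.split 5 77 (.splitN 274960
    (.wt 6) (.split 0 (-175) (.wt 0) (.lin 3))) (.lin 0)) (.lin 3))) (.lin 0)))) (.lin 6))) (.lin
    0)) (.lin 3))) (.lin 0)) (.lin 3))) (.lin 0)) (.lin 3))) (.lin 0)) (.lin 3))) (.lin 6)) (.lin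
    3)))) (.lin 0)) (.lin 3))) (.lin 0)) (.lin 3))))) (.lin 7)) (.lin 6))) (.lin 0)) (.lin 3)))
    (.lin 0)) (.lin 3))) (.lin 6))) (.lin 3))) (.lin 0)) (.lin 3))) (.lin 0)) (.lin 3))) (.lin
    6)))) (.lin 0)) (.lin 3))) (.lin 0)) (.lin 3))))) (.lin 7)) (.lin 6))) (.lin 0)) (.lin 3)))
    (.lin 0)) (.lin 3))) (.lin 0)) (.div 2)) (.wt 3)) (.lin 6))) (.lin 4))) (.lin 6)) (.lin
    4))))) (.lin 7)) (.lin 6))) (.lin 11)) (.split 7 (-127) (.split 0 (-137) (.split 2 72 (.lin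
    9) (.split 2 81 (.lin 10) (.split 1 123 (.lin 11) (.split 5 36 (.split 3 166 (.split 7 (-236)
    (.lin 6) (.split 0 (-246) (.lin 7) (.split 1 232 (.split 2 190 (.split 1 214 (.split 5 14
    (.wt 2) (.split 0 (-146) (.split 2 90 (.lin 10) (.split 7 (-136) (.split 6 48 (.splitN 914543
    (.wt 6) (.split 0 (-188) (.wt 0) (.split 3 115 (.wt 0) (.lin 7)))) (.split 0 (-155) (.split 7
    (-145) (.split 3 79 (.wt 2) (.split 7 (-154) (.split 0 (-164) (.split 2 99 (.lin 9) (.split 1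
    141 (.lin 11) (.split 3 124 (.split 7 (-200) (.lin 6) (.split 0 (-210) (.lin 7) (.split 1 187
    (.split 2 145 (.split 5 27 (.splitN 513127 (.wt 1) (.split 3 90 (.wt 0) (.split 7 (-163)
    (.split 0 (-173) (.split 2 108 (.lin 9) (.splitN 791595 (.wt 6) (.split 0 (-176) (.wt 0)
    (.split 2 109 (.split 3 97 (.wt 0) (.lin 1)) (.lin 3))))) (.lin 7)) (.lin 6)))) (.split 2 108
    (.lin 0) (.split 0 (-173) (.split 7 (-163) (.split 3 89 (.wt 2) (.split 7 (-172) (.split 2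
    117 (.lin 9) (.split 3 113 (.split 7 (-182) (.lin 6) (.split 0 (-192) (.lin 7) (.split 2 127
    (.split 3 103 (.split 2 118 (.split 1 151 (.splitN 415717 (.wt 6) (.split 0 (-181) (.wt 0)
    (.lin 1))) (.lin 11)) (.lin 10)) (.wt 2)) (.lin 9)))) (.wt 2))) (.lin 6))) (.lin 6)) (.lin
    3)))) (.lin 9)) (.lin 8)))) (.split 7 (-199) (.split 0 (-209) (.split 1 177 (.lin 8) (.split
    5 30 (.split 0 (-222) (.wt 2) (.split 2 154 (.split 1 196 (.split 7 (-218) (.lin 1) (.split 3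
    142 (.splitN 500428 (.wt 1) (.wt 0)) (.lin 7))) (.lin 0)) (.lin 3))) (.wt 2))) (.lin 7))
    (.lin 6))))) (.lin 7)) (.lin 6))) (.lin 6)) (.lin 3))) (.lin 6))) (.lin 4))) (.lin 11)) (.lin
    9)) (.lin 8)))) (.split 7 (-217) (.split 0 (-227) (.split 1 195 (.lin 8) (.split 2 162 (.lin
    9) (.split 2 171 (.lin 10) (.split 1 213 (.lin 11) (.split 5 23 (.split 5 18 (.splitN 2249219
    (.wt 6) (.split 0 (-761) (.wt 0) (.split 3 700 (.wt 2) (.lin 7)))) (.split 7 (-442) (.split 3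
    375 (.lin 6) (.split 0 (-443) (.split 1 429 (.lin 8) (.split 2 387 (.lin 9) (.splitN 871019
    .sq (.splitN 972593 (.split 1 10772 (.split 2 10738 (.split 2 5386 (.split 1 5425 (.split 0
    (-5448) (.lin 3) (.split 3 5380 (.wt 0) (.lin 7))) (.lin 0)) (.div 2)) (.lin 0)) (.div 1))
    (.wt 0))))) (.lin 7))) (.split 3 376 (.split 1 421 (.split 2 388 (.splitN 307292 (.wt 1)
    (.split 6 46 (.wt 2) (.split 7 (-235) (.split 0 (-245) (.split 3 272 (.split 7 (-335) (.lin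
    6) (.split 0 (-345) (.lin 7) (.split 1 322 (.split 2 280 (.splitN 357322 (.wt 1) (.split 3
    171 (.wt 2) (.split 7 (-285) (.split 3 222 (.lin 6) (.splitN 456053 .cand (.wt 1))) (.split 3
    214 (.split 0 (-291) (.lin 7) (.split 1 268 (.split 2 226 (.splitN 540289 .cand (.wt 1))
    (.lin 9)) (.lin 8))) (.lin 6))))) (.lin 9)) (.lin 8)))) (.split 7 (-343) (.split 0 (-353)
    (.split 1 330 (.lin 8) (.split 2 288 (.lin 9) (.splitN 515528 .sq (.wt 0)))) (.lin 7)) (.lin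
    6))) (.lin 7)) (.lin 6)))) (.lin 9)) (.lin 8)) (.lin 6)))) (.split 2 189 (.lin 10) (.split 7
    (-235) (.splitN 1373172 (.split 0 (-1097) .sq (.split 2 1036 (.split 1 1069 (.splitN 1071808
    (.split 0 (-950) .sq (.split 3 871 (.split 7 (-947) (.lin 6) (.split 6 48 (.split 0 (-409)
    (.wt 2) (.split 2 352 (.split 1 376 (.split 3 331 (.wt 2) (.lin 7)) (.lin 0)) (.lin 3)))
    (.split 3 332 (.split 7 (-407) (.lin 6) (.split 0 (-417) (.lin 7) (.split 2 352 (.splitN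
    348654 (.split 7 (-258) (.split 3 186 (.lin 6) (.split 1 240 (.lin 8) (.wt 2))) (.wt 0)) (.wt
    6)) (.lin 9)))) (.wt 2)))) (.lin 7))) (.wt 1)) (.lin 0)) (.lin 3))) (.wt 1)) (.lin 6))))))))
    (.lin 7)) (.lin 6))) (.split 2 99 (.lin 0) (.split 0 (-155) (.split 0 (-164) (.split 2 108
    (.lin 10) (.split 7 (-154) cert5_97_4 (.lin 6))) (.lin 4)) (.lin 3))))))) (.lin 7)) (.lin
    6)))

def cert5_97_6 : Cert :=
  (.split 6 132 (.split 1 160 (.split 5 16 (.wt 2) (.split 0 (-119) (.split 2 45 (.lin 10)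
    (.split 7 (-109) (.splitN 874771 (.split 2 4846 (.split 5 4883 (.split 6 65 (.wt 2) (.split 0
    (-128) (.split 1 105 (.lin 11) (.split 7 (-118) (.split 5 120 (.split 2 190 (.split 6 74 (.wt
    2) (.split 1 114 (.lin 11) (.split 7 (-127) (.split 5 50 (.split 2 73 (.split 6 88 (.wt 2)
    (.split 1 123 (.lin 11) (.split 7 (-136) (.split 5 24 (.wt 2) (.split 0 (-155) (.split 2 54
    (.lin 10) (.split 7 (-145) (.split 6 96 (.wt 2) (.split 1 132 (.lin 11) (.split 7 (-154)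
    (.split 6 100 (.wt 2) (.split 0 (-173) (.split 1 141 (.lin 11) (.split 7 (-163) (.splitN
    248727 .cand (.wt 3)) (.lin 2))) (.lin 3))) (.lin 2)))) (.lin 2))) (.lin 4))) (.lin 2))))
    (.lin 10)) (.split 0 (-173) (.split 2 81 (.lin 10) (.split 7 (-163) (.split 6 89 (.wt 2)
    (.split 0 (-191) (.split 1 132 (.lin 11) (.split 7 (-181) (.splitN 214986 .cand (.wt 3))
    (.lin 2))) (.lin 3))) (.lin 2))) (.lin 4))) (.lin 2)))) (.lin 0)) (.split 0 (-227) (.split 2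
    144 (.lin 10) (.split 7 (-217) (.splitN 152081 .sq (.split 6 83 (.wt 0) (.split 0 (-245)
    (.split 1 123 (.lin 11) (.split 7 (-235) (.splitN 175733 .sq (.wt 3)) (.lin 2))) (.lin 3))))
    (.lin 2))) (.lin 4))) (.lin 2))) (.lin 3))) (.lin 0)) (.div 2)) (.wt 3)) (.lin 2))) (.lin
    4))) (.lin 11)) (.split 0 (-182) (.split 1 168 (.lin 11) (.split 7 (-172) (.splitN 998486
    (.split 0 (-958) .sq (.split 2 811 (.split 6 908 (.split 1 943 (.splitN 726543 (.split 0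
    (-805) .sq (.split 6 755 (.split 1 790 (.split 5 82 (.split 2 100 (.splitN 622953 (.split 0
    (-738) .sq (.split 6 683 (.split 1 718 (.split 7 (-722) (.lin 12) (.split 5 32 (.split 2 55
    (.splitN 556445 (.split 0 (-690) .sq (.split 6 638 (.split 1 673 (.split 5 23 (.split 2 46
    (.split 6 143 (.wt 2) (.split 1 177 (.lin 0) (.split 0 (-200) (.split 7 (-190) (.splitN
    428561 (.split 6 154 (.wt 2) (.split 1 195 (.lin 11) (.split 0 (-571) .sq (.split 7 (-569)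
    (.lin 1) (.split 1 565 (.split 6 539 (.split 5 18 (.split 2 37 (.splitN 246060 (.wt 6)
    (.split 6 185 (.wt 0) (.split 0 (-236) (.split 7 (-226) (.wt 2) (.lin 1)) (.lin 3)))) (.lin
    10)) (.split 0 (-218) (.split 2 45 (.lin 10) (.split 7 (-208) (.split 6 409 (.split 1 439
    (.split 0 (-462) (.lin 3) (.split 7 (-452) (.lin 1) (.split 6 170 (.wt 2) (.split 1 213 (.lin
    0) (.split 0 (-236) (.split 7 (-226) (.split 6 340 (.split 0 (-390) (.lin 3) (.split 7 (-380)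
    (.lin 1) (.split 6 299 (.split 0 (-354) (.lin 3) (.split 7 (-344) (.lin 1) (.split 6 277
    (.split 1 304 (.split 0 (-327) (.lin 3) (.split 6 188 (.wt 2) (.split 1 231 (.lin 0) (.split
    0 (-254) (.split 7 (-244) (.splitN 220607 .sq (.splitN 224070 (.split 6 206 (.wt 0) (.split 1
    249 (.lin 0) (.split 0 (-272) (.split 7 (-262) .sq (.lin 1)) (.lin 3)))) (.wt 1))) (.lin 1))
    (.lin 3))))) (.lin 0)) (.wt 2)))) (.wt 2)))) (.wt 2)) (.lin 1)) (.lin 3)))))) (.lin 0)) (.wt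
    2)) (.lin 1))) (.lin 4))) (.lin 0)) (.lin 2)))))) (.wt 3)) (.lin 6)) (.lin 3)))) (.lin 10))
    (.split 0 (-200) (.split 2 54 (.lin 10) (.split 7 (-190) (.split 6 270 (.split 0 (-336) (.lin
    3) (.split 7 (-326) (.lin 1) (.split 6 191 (.split 0 (-255) (.lin 3) (.split 7 (-245) (.lin
    1) (.split 6 162 (.split 1 196 (.split 0 (-228) (.lin 3) (.split 7 (-218) (.lin 1) (.split 6
    134 (.wt 2) (.split 1 177 (.lin 0) (.split 6 149 (.split 1 178 (.split 0 (-210) (.lin 3)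
    (.split 7 (-200) (.lin 1) (.splitN 213000 (.wt 0) (.wt 1)))) (.lin 0)) (.wt 2)))))) (.lin 0))
    (.wt 2)))) (.wt 2)))) (.wt 2)) (.lin 1))) (.lin 4))) (.lin 11)) (.lin 3))) (.wt 3)) (.lin
    10)) (.split 2 63 (.lin 10) (.split 7 (-199) (.split 6 221 (.split 0 (-327) (.lin 3) (.split
    1 250 (.split 7 (-317) (.lin 2) (.split 5 64 (.split 2 82 (.split 7 (-299) (.lin 2) (.split 6
    156 (.split 1 205 (.split 0 (-246) (.lin 3) (.split 1 187 (.split 7 (-236) (.lin 2) (.splitN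
    178104 (.wt 0) (.split 5 57 (.split 2 73 (.split 0 (-224) (.split 6 142 (.lin 3) (.split 7
    (-217) (.splitN 188363 (.wt 0) (.wt 1)) (.lin 12))) (.wt 2)) (.lin 10)) (.wt 1)))) (.lin
    11))) (.lin 0)) (.wt 2))) (.lin 10)) (.wt 2))) (.lin 11))) (.wt 2)) (.lin 2))))) (.lin 11))
    (.lin 3))) (.wt 3)) (.lin 10)) (.split 0 (-254) (.split 2 108 (.lin 10) (.split 7 (-244)
    (.splitN 191123 .sq (.wt 1)) (.lin 2))) (.lin 4))) (.lin 11)) (.lin 3))) (.wt 3)) (.lin 11))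
    (.lin 3)) (.lin 3))) (.wt 3)) (.lin 2))) (.lin 3)))

def cert5_97_7 : Cert :=
  (.split 3 94 (.split 7 (-218) (.lin 6) (.split 0 (-228) (.lin 7) (.split 1 214 (.split 2 154
    (.split 2 91 (.split 6 63 (.wt 6) (.split 0 (-128) (.split 7 (-118) (.split 3 65 (.split 7
    (-191) (.lin 6) (.split 0 (-201) (.lin 7) (.split 1 187 (.split 2 64 (.split 6 80 (.wt 2)
    (.split 0 (-146) (.split 7 (-136) (.split 3 44 (.wt 2) (.split 7 (-145) (.split 1 141 (.lin
    8) (.split 2 54 (.lin 10) (.split 6 91 (.wt 2) (.split 0 (-164) (.split 7 (-154) (.split 6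
    111 (.split 1 169 (.split 0 (-183) (.lin 3) (.split 7 (-173) (.lin 6) (.split 3 54 (.wt 2)
    (.split 7 (-163) (.split 2 63 (.lin 10) (.split 6 98 (.wt 2) (.split 1 168 (.lin 0) (.split 7
    (-172) (.splitN 815535 (.wt 0) (.wt 1)) (.lin 2))))) (.lin 6))))) (.lin 0)) (.split 1 168
    (.lin 0) (.split 0 (-182) (.split 7 (-172) (.splitN 433055 (.wt 1) (.split 3 57 (.split 2 55
    (.split 6 121 (.wt 2) (.splitN 606538 .cand (.wt 1))) (.lin 10)) (.wt 2))) (.lin 6)) (.lin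
    3)))) (.lin 6)) (.lin 3))))) (.lin 6))) (.lin 6)) (.lin 3))) (.lin 10)) (.lin 8)))) (.split 7
    (-145) (.split 0 (-155) (.split 1 141 (.lin 8) (.split 2 72 (.lin 10) (.split 6 71 (.wt 2)
    (.split 1 150 (.lin 0) (.split 0 (-164) (.split 7 (-154) (.split 6 103 (.split 1 187 (.split
    0 (-201) (.lin 3) (.split 7 (-191) (.lin 6) (.split 6 97 (.split 3 79 (.split 7 (-173) (.lin
    6) (.split 0 (-183) (.lin 7) (.split 1 169 (.split 2 82 (.split 6 84 (.split 1 160 (.wt 2)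
    (.lin 0)) (.split 1 159 (.lin 0) (.split 0 (-173) (.split 7 (-163) (.splitN 1131793 (.split 3
    77 (.split 7 (-164) (.lin 6) (.split 1 160 (.split 2 73 (.splitN 960811 (.wt 1) (.wt 0))
    (.lin 9)) (.lin 8))) (.wt 0)) (.wt 1)) (.lin 6)) (.lin 3)))) (.lin 10)) (.lin 8)))) (.split 7
    (-172) (.split 0 (-182) (.split 1 168 (.lin 8) (.split 2 90 (.lin 10) (.splitN 1298671
    (.split 6 88 (.split 1 169 (.split 0 (-183) (.lin 3) (.split 7 (-173) (.lin 1) (.splitN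
    1295740 (.wt 0) (.wt 0)))) (.lin 0)) (.wt 0)) (.wt 1)))) (.lin 7)) (.lin 6))) (.wt 2))))
    (.lin 0)) (.wt 2)) (.lin 6)) (.lin 3)))))) (.lin 7)) (.lin 6))) (.lin 6)) (.lin 3))) (.lin
    10)) (.lin 9)) (.lin 8)))) (.split 7 (-163) (.split 0 (-173) (.split 1 159 (.lin 8) (.split 2
    99 (.lin 10) (.split 6 93 (.split 3 202 (.split 7 (-290) (.lin 6) (.split 0 (-300) (.lin 7)
    (.split 1 286 (.split 2 226 (.split 2 199 (.split 6 75 (.split 0 (-282) (.lin 3) (.split 7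
    (-272) (.lin 6) (.split 3 98 (.wt 2) (.split 7 (-172) (.split 1 168 (.lin 8) (.split 2 108
    (.lin 10) (.split 3 151 (.split 7 (-227) (.lin 6) (.split 0 (-237) (.lin 7) (.split 1 223
    (.split 2 154 (.split 6 62 (.wt 2) (.split 0 (-191) (.split 3 109 (.wt 2) (.split 7 (-190)
    (.split 3 148 (.split 2 145 (.split 3 128 (.split 7 (-200) (.lin 6) (.split 1 196 (.split 3
    117 (.wt 2) (.split 0 (-209) (.wt 2) (.lin 7))) (.lin 8))) (.split 7 (-208) (.split 0 (-218)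
    (.split 1 204 (.lin 8) (.split 2 135 (.lin 9) (.split 7 (-217) (.split 3 141 (.lin 6) (.split
    0 (-231) (.lin 3) (.wt 2))) (.split 3 133 (.split 0 (-219) (.lin 7) (.split 1 205 (.split 2
    136 (.splitN 1130495 (.wt 0) (.wt 0)) (.lin 9)) (.lin 8))) (.lin 6))))) (.lin 7)) (.lin 6)))
    (.lin 10)) (.wt 2)) (.lin 6))) (.lin 3))) (.lin 10)) (.lin 8)))) (.split 7 (-226) (.split 0
    (-236) (.split 1 222 (.lin 8) (.split 6 64 (.wt 2) (.split 0 (-255) (.split 2 180 (.lin 3)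
    (.split 1 249 (.lin 0) (.split 3 177 (.lin 7) (.split 7 (-253) (.splitN 857994 (.wt 0) (.wt
    1)) (.lin 6))))) (.wt 2)))) (.lin 7)) (.lin 6))))) (.lin 6))))) (.split 1 177 (.lin 0)
    (.split 7 (-181) (.split 3 127 (.split 7 (-218) (.lin 6) (.split 0 (-228) (.lin 7) (.split 1
    214 (.split 2 136 (.split 2 127 (.splitN 1219551 (.split 3 121 (.split 2 118 (.split 0 (-201)
    (.split 2 108 (.lin 3) (.split 1 195 (.lin 4) (.split 3 105 (.lin 7) (.split 7 (-199)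
    (.splitN 870675 (.wt 0) (.wt 1)) (.lin 8))))) (.wt 2)) (.lin 10)) (.wt 0)) (.wt 1)) (.lin
    10)) (.lin 9)) (.lin 8)))) (.wt 2)) (.lin 6)))) (.lin 10)) (.lin 9)) (.lin 8)))) (.split 7
    (-271) (.split 0 (-281) (.split 1 267 (.lin 8) (.split 2 180 (.lin 9) (.split 2 207 (.lin 10)
    (.split 6 88 (.split 6 71 (.split 7 (-550) (.split 3 474 (.lin 6) (.split 0 (-551) (.split 1
    546 (.lin 8) (.split 2 477 (.lin 9) (.splitN 1363580 .sq (.wt 1)))) (.lin 7))) (.split 3 475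
    (.split 0 (-561) (.lin 7) (.split 1 538 (.split 6 66 (.split 0 (-413) (.wt 2) (.split 2 334
    (.split 1 394 (.split 3 331 (.splitN 1237172 (.wt 6) (.split 0 (-289) (.wt 0) (.split 2 208
    (.split 1 268 (.split 3 205 (.wt 0) (.lin 1)) (.lin 0)) (.lin 3)))) (.lin 7)) (.lin 0)) (.lin
    3))) (.split 3 323 (.split 7 (-398) (.lin 6) (.split 0 (-408) (.lin 7) (.split 0 (-321)
    (.split 3 240 (.lin 7) (.wt 2)) (.wt 2)))) (.wt 2))) (.lin 8))) (.lin 6))) (.split 1 285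
    (.lin 0) (.split 7 (-289) (.splitN 795064 (.split 2 4414 (.split 0 (-4503) (.lin 3) (.split 3
    4408 (.split 7 (-4493) (.lin 6) (.split 0 (-527) (.split 2 441 (.lin 3) (.split 1 519 (.lin
    0) (.split 3 438 (.lin 7) (.split 7 (-523) .sq (.lin 6))))) (.wt 2))) (.lin 7))) (.div 2))
    (.wt 1)) (.lin 6)))) (.wt 2))))) (.lin 7)) (.lin 6))) (.split 1 195 (.lin 0) (.split 7 (-199)
    (.splitN 1283822 (.split 2 7132 (.split 1 7252 (.split 0 (-7266) (.lin 3) (.split 0 (-251)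
    (.split 2 117 (.lin 3) (.split 1 240 (.lin 4) (.split 3 114 (.lin 7) (.split 7 (-244)
    (.splitN 716429 (.split 2 3964 (.split 0 (-4098) (.lin 3) (.split 3 3985 (.split 7 (-4115)
    (.lin 6) (.split 3 1291 (.split 7 (-1415) (.lin 6) (.split 0 (-1425) (.lin 7) (.split 2 1315
    (.splitN 473079 (.split 3 247 (.split 7 (-371) (.lin 6) (.split 0 (-381) (.lin 7) (.wt 0)))
    (.wt 0)) (.wt 6)) (.lin 9)))) (.wt 0))) (.lin 7))) (.div 2)) (.wt 1)) (.lin 8))))) (.wt 2)))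
    (.lin 0)) (.div 2)) (.wt 1)) (.lin 6)))))) (.lin 7)) (.lin 6)))

def cert5_97_8 : Cert :=
  (.split 5 56 (.split 2 118 (.split 0 (-210) (.lin 3) (.split 0 (-192) (.lin 4) (.split 2 100
    (.split 7 (-182) (.lin 6) (.split 3 52 (.split 2 91 (.split 1 133 (.split 5 36 (.split 0
    (-165) (.lin 4) (.split 2 73 (.split 7 (-155) (.lin 6) (.split 6 62 (.wt 2) (.split 0 (-137)
    (.split 1 114 (.lin 11) (.split 7 (-127) (.split 3 47 (.split 7 (-146) (.lin 6) (.split 2 64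
    (.split 1 124 (.splitN 410586 (.split 5 23 (.wt 1) (.split 0 (-146) (.split 2 63 (.lin 10)
    (.split 7 (-136) (.wt 2) (.lin 1))) (.lin 4))) (.wt 0)) (.lin 11)) (.lin 10))) (.split 7
    (-136) (.split 2 63 (.lin 10) (.split 1 123 (.lin 11) (.split 5 27 (.split 0 (-156) (.lin 4)
    (.split 2 64 (.split 7 (-146) (.lin 1) (.split 6 75 (.wt 2) (.split 1 132 (.lin 0) (.split 0
    (-155) (.split 7 (-145) (.splitN 453194 (.wt 0) (.wt 0)) (.lin 1)) (.lin 3))))) (.lin 10)))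
    (.split 0 (-155) (.split 2 72 (.lin 10) (.split 7 (-145) (.splitN 359475 (.split 6 74 (.split
    0 (-156) (.lin 3) (.split 7 (-146) (.lin 1) (.wt 0))) (.wt 0)) (.wt 1)) (.lin 1))) (.lin
    4))))) (.lin 6))) (.lin 6))) (.lin 3)))) (.lin 10))) (.split 0 (-146) (.split 2 72 (.lin 10)
    (.split 7 (-136) (.split 6 71 (.split 0 (-174) (.lin 3) (.split 1 124 (.split 7 (-164) (.lin
    6) (.split 3 47 (.wt 2) (.split 7 (-145) (.split 2 81 (.lin 10) (.split 6 62 (.wt 2) (.split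
    1 123 (.lin 11) (.split 7 (-154) (.splitN 300439 (.wt 0) (.wt 1)) (.lin 2))))) (.lin 6))))
    (.lin 11))) (.split 0 (-164) (.split 1 123 (.lin 11) (.split 7 (-154) (.splitN 283689 (.split
    3 50 (.split 7 (-164) (.lin 6) (.split 0 (-174) (.lin 7) (.split 1 124 (.split 5 45 (.split 2
    73 (.split 0 (-165) (.lin 3) (.split 7 (-155) (.lin 1) (.splitN 268608 (.wt 0) (.wt 0))))
    (.lin 0)) (.wt 2)) (.lin 11)))) (.wt 0)) (.wt 1)) (.lin 6))) (.lin 3))) (.lin 6))) (.lin 4)))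
    (.lin 11)) (.lin 10)) (.split 7 (-136) (.split 0 (-146) (.split 2 72 (.lin 10) (.split 1 123
    (.lin 11) (.split 5 48 (.split 2 91 (.split 6 77 (.split 0 (-174) (.lin 3) (.split 1 133
    (.split 7 (-164) (.lin 2) (.split 5 40 (.split 0 (-165) (.lin 4) (.split 2 82 (.split 7
    (-155) (.lin 2) (.split 6 66 (.split 1 124 (.split 7 (-146) (.lin 2) (.splitN 475543 (.splitN
    399271 (.wt 1) (.split 5 26 (.wt 1) (.split 2 81 (.lin 0) (.split 0 (-155) (.split 7 (-145)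
    (.wt 0) (.lin 1)) (.lin 3))))) (.wt 0))) (.lin 11)) (.split 1 132 (.lin 11) (.split 7 (-145)
    (.splitN 504263 (.split 5 30 (.split 2 73 (.split 0 (-156) (.lin 3) (.split 7 (-146) (.lin 1)
    (.wt 0))) (.lin 0)) (.wt 0)) (.wt 1)) (.lin 2))))) (.lin 10))) (.wt 2))) (.lin 11))) (.wt 2))
    (.lin 10)) (.wt 2)))) (.lin 7)) (.lin 6)))) (.lin 10)))) (.lin 0)) (.split 2 72 (.lin 0)
    (.split 0 (-146) (.split 0 (-164) (.split 2 90 (.lin 10) (.split 7 (-154) (.split 3 52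
    (.split 6 71 (.split 1 124 (.split 3 47 (.split 1 115 (.split 0 (-205) (.wt 2) (.split 2 127
    (.split 7 (-200) (.lin 2) (.split 5 95 (.splitN 196075 (.wt 1) (.split 7 (-188) (.wt 0)
    (.split 2 118 (.split 5 86 (.splitN 224592 (.wt 6) (.split 0 (-180) (.wt 0) (.split 5 68
    (.split 7 (-164) (.lin 12) (.splitN 232276 (.wt 1) (.wt 0))) (.lin 4)))) (.lin 6)) (.lin
    2)))) (.lin 4))) (.lin 3))) (.lin 11)) (.split 0 (-173) (.split 2 99 (.lin 10) (.split 1 114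
    (.lin 11) (.split 7 (-163) (.splitN 285575 .cand (.wt 3)) (.lin 2)))) (.lin 7))) (.lin 11))
    (.split 1 123 (.lin 11) (.split 7 (-172) (.split 3 46 (.split 1 124 (.split 5 106 (.split 2
    136 (.split 0 (-228) (.lin 3) (.split 7 (-218) (.lin 2) (.split 5 84 (.split 2 109 (.split 0
    (-201) (.lin 3) (.split 7 (-191) (.lin 2) (.splitN 207283 (.wt 0) (.split 5 76 (.split 2 100
    (.split 0 (-193) (.lin 3) (.wt 2)) (.lin 0)) (.wt 1))))) (.lin 0)) (.wt 2)))) (.lin 0)) (.wt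
    2)) (.lin 11)) (.wt 2)) (.lin 6)))) (.split 2 108 (.lin 10) (.split 1 123 (.lin 11) (.split 7
    (-172) (.splitN 272198 (.split 6 74 (.split 1 133 (.split 5 82 (.split 2 136 (.split 0 (-219)
    (.lin 3) (.split 2 127 (.split 7 (-200) (.lin 2) (.splitN 244740 (.split 0 (-197) (.split 5
    67 (.lin 4) (.wt 2)) (.wt 0)) (.wt 6))) (.lin 10))) (.lin 0)) (.wt 2)) (.lin 11)) (.wt 0))
    (.wt 1)) (.lin 2))))) (.lin 6))) (.lin 4)) (.lin 3))))

def cert5_97_9 : Cert :=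
  (.split 6 98 (.split 1 178 (.split 7 (-244) (.split 2 108 (.lin 2) (.split 0 (-182) (.split 2
    144 (.lin 9) (.split 0 (-254) (.split 5 76 (.lin 4) (.splitN 168056 .sq (.splitN 301251
    (.split 0 (-442) .sq (.split 2 361 (.split 5 365 (.split 7 (-497) (.lin 2) (.split 7 (-425)
    (.lin 12) (.split 3 78 (.split 5 85 (.lin 6) (.split 1 169 (.split 6 94 (.split 2 153 (.lin
    3) (.split 1 160 (.split 5 94 (.lin 4) (.splitN 255932 (.split 0 (-380) .sq (.split 2 298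
    (.split 5 266 (.split 7 (-362) (.lin 12) (.split 6 75 (.split 2 171 (.lin 3) (.split 1 142
    (.split 5 112 (.lin 4) (.splitN 183455 .sq (.split 3 45 (.wt 0) (.split 1 114 (.lin 11)
    (.split 3 68 (.split 5 121 (.lin 6) (.split 1 133 (.split 6 70 (.split 5 130 (.lin 6) (.split
    1 124 (.split 3 54 (.wt 0) (.split 5 248 (.split 1 123 (.lin 11) (.split 7 (-306) (.wt 0)
    (.split 2 235 (.split 0 (-309) (.lin 3) (.split 7 (-271) (.wt 1) (.split 2 199 (.split 0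
    (-273) (.lin 3) (.wt 2)) (.lin 2)))) (.lin 2)))) (.lin 6))) (.lin 11))) (.wt 1)) (.lin 11)))
    (.wt 2)))))) (.lin 11))) (.split 1 123 (.lin 11) (.splitN 180539 .sq (.splitN 190542 (.split
    3 55 (.split 5 112 (.lin 6) (.split 1 142 (.split 0 (-343) (.split 2 243 (.lin 3) (.split 7
    (-334) .sq (.lin 12))) (.wt 1)) (.lin 11))) (.wt 0)) (.wt 1)))))) (.lin 4)) (.lin 3))) (.wt
    1))) (.lin 11))) (.wt 6)) (.lin 11))) (.wt 2)))) (.lin 0)) (.lin 3))) (.wt 1)))) (.lin 12)))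
    (.lin 3))) (.split 2 208 (.split 0 (-318) (.lin 3) (.split 2 172 (.split 0 (-246) (.lin 12)
    (.split 5 140 (.split 6 80 (.split 1 160 (.split 3 61 (.split 1 142 cert5_97_8 (.lin 11))
    (.split 0 (-155) (.split 1 132 (.lin 11) (.split 7 (-145) (.split 5 46 (.split 2 127 (.split
    0 (-219) (.lin 3) (.split 0 (-201) (.lin 4) (.split 2 109 (.split 7 (-218) (.lin 1) (.split 5
    35 (.split 7 (-182) (.lin 6) (.split 2 100 (.split 6 70 (.split 0 (-174) (.lin 3) (.split 1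
    142 (.split 7 (-164) (.lin 6) (.split 5 29 (.split 2 91 (.split 0 (-165) (.lin 3) (.split 7
    (-155) (.lin 6) (.split 3 73 (.wt 2) (.split 7 (-154) (.split 0 (-164) (.split 1 141 (.lin 8)
    (.split 2 90 (.lin 9) (.splitN 580941 (.wt 0) (.wt 0)))) (.lin 7)) (.lin 6))))) (.lin 0))
    (.wt 2))) (.lin 11))) (.wt 2)) (.lin 10))) (.wt 2))) (.lin 10)))) (.lin 0)) (.wt 2)) (.lin
    6))) (.lin 7))) (.lin 11)) (.split 0 (-155) (.split 1 132 (.lin 11) (.split 7 (-145) (.split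
    3 57 (.split 1 151 (.split 5 52 (.split 2 100 (.split 0 (-210) (.lin 3) (.split 2 91 (.split
    7 (-200) (.lin 2) (.split 5 40 (.split 2 82 (.split 0 (-192) (.lin 3) (.split 2 73 (.split 7
    (-182) (.lin 2) (.split 3 51 (.split 7 (-164) (.lin 6) (.split 0 (-174) (.lin 7) (.split 2 64
    (.split 1 142 (.split 5 31 (.split 0 (-165) (.lin 4) (.split 2 55 (.split 7 (-155) (.lin 1)
    (.splitN 339637 (.wt 1) (.split 6 90 (.wt 0) (.split 0 (-164) (.split 7 (-154) (.wt 0) (.lin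
    1)) (.lin 3))))) (.lin 10))) (.wt 2)) (.lin 11)) (.lin 10)))) (.wt 2))) (.lin 10))) (.lin 0))
    (.wt 2))) (.lin 10))) (.lin 0)) (.wt 2)) (.lin 11)) (.wt 2)) (.lin 6))) (.lin 3))) (.lin 4)))
    (.lin 9))) (.lin 2))) (.lin 11)) (.split 1 150 (.lin 11) (.split 7 (-163) (.splitN 489706
    (.split 0 (-13521) (.div 0) (.split 2 13402 (.split 7 (-26858) (.lin 1) (.split 2 2704
    (.split 0 (-2847) (.lin 3) (.split 7 (-2873) (.lin 2) (.split 3 68 (.split 1 196 (.split 5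
    142 (.split 2 217 (.split 0 (-363) (.lin 3) (.split 0 (-336) (.lin 4) (.split 2 190 (.split 7
    (-344) (.lin 2) (.split 7 (-326) (.lin 6) (.splitN 172922 (.wt 5) (.split 5 132 (.split 3 52
    (.split 7 (-308) (.lin 6) (.split 0 (-318) (.lin 7) (.split 2 172 (.split 5 126 (.split 2 163
    (.split 3 51 (.split 7 (-290) (.lin 6) (.split 1 178 (.splitN 184242 (.wt 5) (.split 5 81
    (.split 0 (-255) (.lin 4) (.split 2 109 (.split 7 (-245) (.lin 2) (.splitN 206717 (.wt 5)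
    (.split 5 49 (.split 0 (-219) (.lin 4) (.split 2 73 (.split 7 (-209) (.lin 2) (.splitN 340950
    (.split 5 26 (.split 0 (-201) (.lin 4) (.split 2 55 (.split 7 (-191) (.lin 1) (.split 6 133
    (.split 1 169 (.splitN 322193 (.split 6 111 (.split 0 (-174) (.lin 3) (.split 7 (-164) (.lin
    1) (.wt 0))) (.wt 2)) (.wt 1)) (.lin 0)) (.wt 0))) (.lin 10))) (.wt 2)) (.wt 1))) (.lin 10)))
    (.wt 1)))) (.lin 10))) (.wt 1))) (.lin 11))) (.wt 2)) (.lin 10)) (.wt 1)) (.lin 10)))) (.wt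
    2)) (.wt 1))))) (.lin 10)))) (.lin 0)) (.wt 2)) (.lin 11)) (.wt 2)))) (.div 2))) (.lin 3)))
    (.wt 1)) (.lin 6))))

def cert5_97_10 : Cert :=
  (.split 5 18 (.split 5 9 (.wt 1) (.split 2 45 (.lin 10) (.split 6 132 cert5_97_7 (.split 1 177
    (.lin 0) (.split 0 (-191) (.split 7 (-181) (.splitN 10154466 (.split 1 112796 (.split 0
    (-112809) (.lin 4) (.splitN 141498 (.wt 3) (.split 3 92 (.split 2 91 (.splitN 2919858 (.split
    1 32408 (.split 6 32363 (.split 0 (-32466) (.lin 3) (.split 7 (-32501) (.lin 1) (.split 6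
    4009 (.split 0 (-4107) (.lin 3) (.split 7 (-4142) (.lin 1) (.split 6 2191 (.split 0 (-2289)
    (.lin 3) (.split 7 (-2324) (.lin 1) (.split 3 86 (.split 2 82 (.split 6 1531 (.split 0
    (-1623) (.lin 3) (.split 7 (-1649) (.lin 1) (.split 6 1209 (.split 0 (-1299) (.lin 3) (.split
    7 (-1325) (.lin 1) (.split 6 1025 (.split 0 (-1119) (.lin 3) (.split 7 (-1145) (.lin 1)
    (.split 6 913 (.split 0 (-1002) (.lin 3) (.split 7 (-1028) (.lin 1) (.split 6 837 (.split 0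
    (-930) (.lin 3) (.split 7 (-956) (.lin 1) (.split 3 78 (.split 2 73 (.split 6 312 (.split 1
    376 (.split 0 (-390) (.lin 3) (.split 7 (-407) (.lin 1) (.split 7 (-380) (.lin 6) (.split 3
    65 (.split 2 64 (.split 6 219 (.split 1 277 (.split 0 (-291) (.lin 3) (.split 7 (-299) (.lin
    1) (.split 7 (-281) (.lin 6) (.split 3 59 (.split 2 55 (.split 6 174 (.split 1 223 (.split 0
    (-237) (.lin 3) (.split 7 (-236) (.lin 1) (.split 3 47 (.wt 2) (.split 2 54 (.lin 10) (.split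
    6 147 (.split 0 (-210) (.lin 3) (.split 7 (-200) (.lin 1) (.splitN 486769 (.split 6 141
    (.split 0 (-204) (.lin 3) (.wt 2)) (.wt 0)) (.wt 6)))) (.wt 2)))))) (.lin 0)) (.split 1 222
    (.lin 0) (.split 0 (-236) (.split 7 (-217) (.split 3 49 (.split 7 (-263) (.lin 6) (.split 1
    259 (.splitN 313946 (.wt 1) (.split 6 202 (.wt 2) (.split 0 (-263) (.split 7 (-253) (.wt 0)
    (.lin 1)) (.lin 3)))) (.lin 8))) (.wt 2)) (.lin 1)) (.lin 3)))) (.lin 10)) (.wt 2))))) (.lin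
    0)) (.split 1 267 (.lin 0) (.split 7 (-271) (.splitN 353673 (.split 3 53 (.split 2 55 (.split
    3 47 (.split 7 (-353) (.lin 6) (.split 0 (-363) (.lin 7) (.split 1 349 (.split 2 46 (.splitN
    333161 .cand (.wt 1)) (.lin 10)) (.lin 8)))) (.wt 2)) (.lin 10)) (.wt 0)) (.wt 1)) (.lin
    6)))) (.lin 10)) (.wt 2))))) (.lin 0)) (.split 1 357 (.lin 0) (.split 0 (-371) (.split 7
    (-334) (.split 7 (-361) (.splitN 499004 .sq (.wt 1)) (.lin 6)) (.lin 1)) (.lin 3)))) (.lin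
    10)) (.wt 2)))) (.wt 2)))) (.wt 2)))) (.wt 2)))) (.wt 2)))) (.wt 2)) (.lin 10)) (.wt 2))))
    (.wt 2)))) (.wt 2)))) (.lin 0)) (.div 1)) (.wt 1)) (.lin 10)) (.wt 2)))) (.div 1)) (.wt 1))
    (.lin 6)) (.lin 3)))))) (.split 0 (-128) (.split 2 54 (.lin 10) (.split 7 (-118) (.split 3
    692 (.split 6 298 (.split 1 988 (.split 6 135 (.split 1 826 (.split 3 172 (.split 1 304
    (.split 3 85 (.split 1 214 cert5_97_9 (.lin 11)) (.split 7 (-163) (.split 2 99 (.lin 10)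
    (.split 1 150 (.lin 11) (.splitN 1192993 (.split 2 6610 (.split 0 (-6753) (.lin 3) (.split 7
    (-13250) (.lin 1) (.split 5 144 (.split 2 370 (.split 0 (-516) (.lin 3) (.split 0 (-444)
    (.lin 4) (.split 7 (-434) (.lin 6) (.split 3 161 (.split 5 45 (.split 0 (-345) (.lin 4)
    (.split 2 190 (.split 7 (-326) (.lin 6) (.splitN 784517 (.split 6 115 (.split 0 (-309) (.lin
    3) (.split 7 (-299) (.lin 6) (.split 6 105 (.split 3 126 (.split 7 (-254) (.lin 6) (.split 0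
    (-264) (.lin 7) (.split 1 241 (.split 2 154 (.split 1 223 (.splitN 664070 (.split 6 89
    (.split 3 112 (.split 7 (-227) (.lin 6) (.split 0 (-237) (.lin 7) (.split 2 136 (.split 1 196
    (.splitN 614542 (.split 6 79 (.split 0 (-219) (.lin 3) (.split 7 (-209) (.lin 6) (.splitN
    334828 (.wt 0) (.split 5 34 (.split 3 97 (.split 7 (-191) (.lin 6) (.split 0 (-201) (.lin 7)
    (.split 2 118 (.split 1 169 (.splitN 403896 (.wt 0) (.split 6 68 (.split 1 160 (.splitN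
    544282 (.split 7 (-164) (.splitN 505353 (.split 5 26 (.split 0 (-183) (.lin 4) (.split 3 96
    (.lin 6) (.split 2 109 (.split 7 (-173) (.lin 1) (.wt 0)) (.lin 10)))) (.wt 1)) (.wt 1)) (.wt
    0)) (.wt 1)) (.lin 11)) (.wt 0))) (.lin 11)) (.lin 10)))) (.wt 2)) (.wt 1))))) (.wt 0)) (.wt
    1)) (.lin 11)) (.lin 10)))) (.wt 2)) (.wt 0)) (.wt 1)) (.lin 11)) (.lin 10)) (.lin 8)))) (.wt
    2)) (.wt 0)))) (.wt 0)) (.wt 1))) (.lin 10))) (.wt 2)) (.wt 2))))) (.lin 0)) (.wt 2)))) (.div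
    2)) (.wt 1)))) (.lin 6))) (.lin 11)) (.split 7 (-253) (.split 0 (-263) (.split 2 117 (.lin 9)
    (.split 2 189 (.lin 10) (.split 1 240 (.lin 11) (.splitN 263537 .sq (.splitN 444339 (.split 2
    2452 (.split 0 (-2595) (.lin 3) (.split 7 (-2585) (.lin 9) (.split 6 96 (.split 1 781 (.split
    5 36 (.split 2 739 (.split 0 (-840) (.lin 3) (.split 7 (-803) (.lin 6) (.splitN 301602
    (.split 0 (-306) (.split 1 276 (.lin 4) (.split 7 (-289) .sq (.lin 8))) (.wt 0)) (.wt 6))))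
    (.lin 0)) (.wt 1)) (.lin 11)) (.wt 0)))) (.div 2)) (.wt 1)))))) (.lin 7)) (.lin 6))) (.lin
    11)) (.split 0 (-209) (.split 1 186 (.lin 11) (.split 7 (-199) (.splitN 144224 .sq (.splitN
    329113 (.split 2 1822 (.split 0 (-2127) (.lin 3) (.split 7 (-2117) (.lin 9) (.split 3 91
    (.split 1 385 (.splitN 308432 (.split 2 1696 (.split 0 (-2001) (.lin 3) (.split 3 86 (.split
    5 345 (.split 2 568 (.split 0 (-876) (.lin 3) (.split 0 (-723) (.lin 4) (.split 2 406 (.split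
    7 (-704) (.lin 6) (.splitN 155729 (.wt 5) (.split 3 69 (.split 1 358 (.split 5 105 (.split 2
    307 (.split 0 (-615) (.lin 3) (.split 0 (-462) (.lin 4) (.split 2 154 (.split 7 (-470) (.lin
    2) (.splitN 170306 (.wt 0) (.splitN 279503 (.split 3 57 (.split 5 54 (.split 0 (-408) (.lin
    4) (.split 2 91 (.split 7 (-407) (.lin 2) (.splitN 236033 (.split 3 49 (.split 7 (-380) (.lin
    6) (.split 2 82 (.split 6 209 (.split 1 250 (.split 7 (-290) (.lin 2) (.wt 2)) (.lin 11))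
    (.wt 0)) (.lin 10))) (.wt 0)) (.wt 6))) (.lin 10))) (.wt 1)) (.wt 0)) (.wt 1)))) (.lin 10))))
    (.lin 0)) (.wt 1)) (.lin 11)) (.wt 0)))) (.lin 10)))) (.lin 0)) (.wt 1)) (.wt 0))) (.div 2))
    (.wt 1)) (.lin 11)) (.wt 0)))) (.div 2)) (.wt 1))) (.lin 6))) (.lin 3))) (.lin 11)) (.wt 2))
    (.wt 2)) (.lin 6))) (.lin 4)))

def cert5_97_11 : Cert :=
  (.split 4 (-12) (.split 6 10 (.wt 2) (.split 0 (-38) (.split 7 (-19) (.split 3 8 (.wt 2)
    (.split 1 33 (.lin 11) (.split 6 42 (.split 3 17 (.wt 2) (.split 0 (-47) (.split 1 42 (.lin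
    11) (.split 7 (-46) (.split 2 9 (.lin 9) (.split 0 (-65) (.split 0 (-278) (.wt 2) (.split 2
    235 (.split 3 457 (.split 1 493 (.split 5 437 (.split 1 268 (.split 5 230 (.split 3 250
    (.split 4 (-228) (.lin 12) (.splitN 121146 (.wt 6) (.split 3 29 (.wt 0) (.split 6 18 (.wt 0)
    (.split 5 212 (.split 1 60 (.lin 11) (.split 7 (-132) (.wt 0) (.split 2 100 (.split 5 5 (.wt
    1) (.split 0 (-74) (.split 3 232 (.splitN 193558 (.wt 6) (.split 3 43 (.wt 0) (.split 0 (-92)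
    (.split 1 78 (.lin 11) (.split 5 194 (.splitN 700578 (.wt 6) (.split 0 (-204) (.wt 0) (.split
    1 187 (.split 5 122 (.split 3 160 (.wt 2) (.lin 7)) (.lin 4)) (.lin 4)))) (.lin 4))) (.lin
    7)))) (.lin 7)) (.lin 4))) (.lin 9)))) (.lin 7)))))) (.lin 7)) (.lin 4)) (.lin 4)) (.lin 1))
    (.lin 11)) (.lin 1)) (.lin 3))) (.lin 12))) (.split 5 18 (.split 3 29 (.wt 2) (.split 0 (-56)
    (.split 1 51 (.lin 11) (.split 2 8 (.split 4 (-38) (.split 3 44 (.wt 2) (.split 0 (-74)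
    (.split 4 (-56) (.splitN 53915 (.wt 1) (.split 3 65 (.wt 2) (.split 0 (-92) (.split 4 (-74)
    (.split 7 (-36) (.wt 0) (.split 6 26 (.wt 2) (.lin 9))) (.lin 10)) (.lin 1)))) (.lin 10))
    (.lin 1))) (.lin 10)) (.wt 1))) (.lin 7))) (.split 0 (-65) (.split 4 (-29) (.split 6 18 (.wt
    2) (.split 2 10 (.split 7 (-28) (.split 3 41 (.wt 2) (.split 0 (-92) (.split 4 (-56) (.split
    3 53 (.wt 2) (.split 0 (-101) (.split 0 (-110) (.split 4 (-74) (.split 3 65 (.wt 2) (.split 4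
    (-83) (.split 0 (-119) (.split 3 70 (.wt 2) (.split 4 (-92) (.split 1 105 (.lin 11) (.split 6
    26 (.wt 2) (.split 4 (-101) (.split 0 (-137) (.split 2 1 (.split 1 114 (.lin 11) (.split 7
    (-37) (.splitN 51560 .sq (.splitN 53026 (.split 1 584 (.split 3 547 (.split 4 (-585) (.div 4)
    (.split 5 500 (.wt 0) (.lin 0))) (.lin 2)) (.div 1)) (.wt 0))) (.lin 9))) (.lin 9)) (.lin 7))
    (.lin 6)))) (.lin 6))) (.lin 7)) (.lin 6))) (.lin 6)) (.lin 7)) (.lin 1))) (.lin 6)) (.lin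
    7))) (.lin 9)) (.lin 9))) (.lin 6)) (.lin 4))))) (.lin 7))) (.split 0 (-65) (.split 1 60
    (.lin 11) (.split 7 (-46) cert5_97_3 (.lin 9))) (.lin 3))))) (.lin 9)) (.lin 3))) (.split 6
    24 (.split 7 (-16) (.split 4 (-5) (.split 0 (-29) (.split 0 (-105) (.wt 2) (.split 2 82
    (.split 1 106 (.split 5 95 (.split 3 160 (.split 1 97 (.split 5 86 (.split 3 88 (.split 7
    (-92) (.lin 12) (.splitN 261024 (.wt 6) (.split 3 10 (.wt 0) (.split 2 9 (.lin 10) (.wt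
    1))))) (.lin 7)) (.lin 4)) (.lin 4)) (.lin 1)) (.lin 0)) (.lin 0)) (.lin 3))) (.lin 12)) (.wt
    1)) (.wt 1)) (.split 0 (-29) (.split 7 (-28) (.split 4 (-5) (.split 3 8 (.wt 2) (.split 0
    (-47) (.split 2 9 (.lin 10) (.split 1 42 (.lin 11) (.split 6 60 (.split 5 5 (.wt 1) (.split 2
    18 (.lin 10) (.split 7 (-46) (.split 3 22 (.wt 2) (.split 7 (-55) (.split 0 (-65) (.split 2
    27 (.lin 10) (.split 3 25 (.wt 2) (.split 7 (-64) (.split 0 (-74) (.split 2 36 (.lin 10)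
    (.split 6 39 (.split 3 54 (.wt 2) (.split 7 (-91) (.split 0 (-101) (.split 1 87 (.lin 11)
    (.split 3 89 (.wt 2) (.split 7 (-127) (.split 0 (-137) (.split 2 90 (.lin 9) (.split 1 123
    (.lin 11) (.split 5 14 (.wt 1) (.split 2 108 (.lin 10) (.split 7 (-136) (.split 0 (-762) (.wt
    2) (.split 2 721 (.split 1 745 (.split 5 644 (.split 3 709 (.split 0 (-284) (.wt 2) (.split 5
    158 (.split 3 232 (.wt 2) (.lin 7)) (.lin 4))) (.lin 7)) (.lin 0)) (.lin 0)) (.lin 3))) (.lin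
    6)))))) (.lin 7)) (.lin 6)))) (.lin 7)) (.lin 6))) (.split 0 (-92) (.split 7 (-82) cert5_97_5
    (.lin 6)) (.lin 3)))) (.lin 7)) (.lin 6)))) (.lin 7)) (.lin 6))) (.lin 6)))) (.split 0 (-83)
    (.split 1 78 (.lin 11) (.split 7 (-73) (.splitN 53538 (.wt 1) (.split 3 40 (.split 5 5 (.wt
    2) (.split 2 18 (.lin 10) (.split 7 (-82) (.split 3 25 (.split 6 76 (.wt 2) (.split 0 (-110)
    (.split 7 (-100) (.split 6 89 (.wt 2) (.split 0 (-128) (.split 7 (-118) (.splitN 1230989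
    (.split 0 (-34131) (.div 0) (.split 2 34021 (.split 1 13652 (.split 6 13634 (.split 2 6826
    (.split 5 6818 (.splitN 1058087 (.split 1 11744 (.split 6 11726 (.split 2 5872 (.split 3 16
    (.wt 2) (.split 7 (-127) (.split 0 (-137) (.split 2 27 (.lin 10) (.split 1 123 (.lin 11)
    (.splitN 758682 (.split 1 8396 (.split 6 8369 (.splitN 661074 (.split 1 7316 (.split 6 7289
    (.split 5 14 (.wt 2) (.split 0 (-146) (.split 2 36 (.lin 10) (.split 7 (-136) (.splitN 443043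
    (.split 1 4904 (.split 6 4877 (.split 6 117 (.wt 2) (.split 0 (-173) (.split 1 150 (.lin 11)
    (.split 7 (-163) (.splitN 307725 (.split 1 3392 (.split 6 3365 (.split 2 1696 (.split 5 1679
    (.split 6 136 (.wt 2) (.split 0 (-191) (.split 1 168 (.lin 11) (.split 7 (-181) (.splitN
    265292 (.split 6 148 (.wt 2) (.split 1 177 (.lin 11) (.split 0 (-416) .sq (.split 2 244
    (.split 5 446 (.split 6 359 (.split 1 385 (.split 5 38 (.wt 2) (.split 0 (-218) (.split 2 54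
    (.lin 10) (.split 7 (-208) (.split 6 341 (.splitN 151028 .sq (.splitN 180053 (.split 6 177
    (.wt 0) (.split 1 204 (.lin 11) (.split 7 (-235) .sq (.lin 2)))) (.wt 3))) (.lin 3)) (.lin
    2))) (.lin 4))) (.lin 11)) (.lin 3)) (.lin 1)) (.lin 3))))) (.wt 3)) (.lin 2))) (.lin 3)))
    (.lin 10)) (.div 2)) (.lin 11)) (.div 1)) (.wt 3)) (.lin 2))) (.lin 3))) (.lin 11)) (.div 1))
    (.wt 3)) (.lin 2))) (.lin 4))) (.lin 11)) (.div 1)) (.wt 5)) (.lin 11)) (.div 1)) (.wt 3))))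
    (.lin 7)) (.lin 6))) (.div 2)) (.lin 11)) (.div 1)) (.wt 5)) (.lin 10)) (.div 2)) (.lin 11))
    (.div 1)) (.lin 3))) (.wt 3)) (.lin 6)) (.lin 3))) (.lin 6)) (.lin 3))) (.split 7 (-100)
    (.split 0 (-110) (.split 2 36 (.lin 10) (.split 1 96 (.lin 11) cert5_97_6)) (.lin 7)) (.lin
    6))) (.lin 6)))) (.split 7 (-100) (.split 0 (-110) (.split 2 36 (.lin 10) (.split 1 105 (.lin
    11) (.splitN 95980 (.wt 3) cert5_97_10))) (.lin 7)) (.lin 6)))) (.lin 6))) (.lin 3))))) (.lin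
    7))) (.split 2 9 (.lin 10) (.wt 0))) (.lin 6)) (.lin 3))))

def cert5_97 : Cert :=
  cert5_97_11

theorem check5_97 :
    check task5 cert5_97
      [(7, ⟨none, some (-20)⟩), (7, ⟨some (16), none⟩), (1, ⟨some (1), none⟩), (7, ⟨some (7), none⟩), (7, ⟨none, some (-2)⟩), (5, ⟨some (5), none⟩), (8, ⟨some (8), none⟩), (8, ⟨none, some (-10)⟩)] ⟨some (20160), none⟩ = true := by
  decide +kernel

def cert5_98 : Cert :=
  (.lin 4)

theorem check5_98 :
    check task5 cert5_98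
      [(7, ⟨some (-11), some (-11)⟩), (7, ⟨some (16), none⟩), (1, ⟨none, none⟩), (7, ⟨some (7), none⟩), (7, ⟨none, some (-2)⟩), (5, ⟨some (5), none⟩), (8, ⟨some (8), none⟩), (8, ⟨none, some (-10)⟩)] ⟨some (3960), none⟩ = true := by
  decide +kernel

def cert5_99 : Cert :=
  (.lin 12)

theorem check5_99 :
    check task5 cert5_99
      [(7, ⟨some (-2), some (-2)⟩), (7, ⟨some (16), none⟩), (1, ⟨none, none⟩), (7, ⟨some (7), none⟩), (7, ⟨none, some (-2)⟩), (5, ⟨none, none⟩), (8, ⟨some (8), none⟩), (8, ⟨none, some (-10)⟩)] ⟨some (3960), none⟩ = true := by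
  decide +kernel

def cert5_100_0 : Cert :=
  (.split 7 (-46) (.split 6 52 (.lin 9) (.split 3 11 (.splitN 65071 (.split 1 692 (.split 2
    (-639) (.lin 2) (.split 4 664 (.split 6 1970 (.wt 2) (.lin 0)) (.lin 5))) (.div 1)) (.wt 0))
    (.split 5 (-31) (.split 1 69 (.lin 2) (.split 0 (-38) (.wt 2) (.split 5 (-40) (.split 0 (-20)
    (.splitN 1282076 (.split 5 (-7115) (.div 5) (.split 1 7144 (.split 4 7099 (.split 6 7127
    (.splitN 1088636 (.split 5 (-6035) (.div 5) (.split 1 6064 (.split 4 6019 (.split 6 6047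
    (.splitN 225804 (.split 1 2492 (.split 2 (-2430) (.lin 2) (.split 5 (-1247) (.div 5) (.split
    1 1276 (.split 4 1231 (.split 6 1259 (.splitN 210031 (.split 6 81 (.wt 2) (.split 5 (-76)
    (.split 4 18 (.wt 2) (.split 6 94 (.wt 2) (.split 5 (-85) (.split 1 114 (.lin 11) (.split 1
    433 (.split 5 (-410) (.lin 4) (.split 4 385 (.split 6 422 (.split 0 (-27) (.wt 2) (.split 5
    (-94) (.split 6 103 (.wt 2) (.split 5 (-103) (.split 7 (-268) (.wt 2) (.split 4 241 (.split 6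
    108 (.wt 2) (.split 5 (-112) (.splitN 164668 (.split 7 (-210) (.wt 2) (.split 4 187 (.split 7
    (-188) (.wt 2) (.split 4 160 (.split 1 365 (.split 5 (-338) (.lin 4) (.split 6 341 (.split 4
    26 (.wt 2) (.split 7 (-55) (.split 6 139 (.wt 2) (.split 5 (-139) (.split 1 159 (.lin 11)
    (.splitN 70271 .sq (.split 7 (-98) (.wt 0) (.split 2 (-53) (.split 4 70 (.split 4 39 (.wt 0)
    (.split 7 (-64) (.splitN 74904 .sq (.wt 0)) (.lin 12))) (.lin 12)) (.lin 1))))) (.lin 7)))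
    (.lin 12))) (.lin 7))) .sq) (.lin 12))) (.lin 12))) (.wt 1)) (.lin 7))) (.lin 12))) (.lin
    7))) (.lin 4))) (.lin 7)) (.lin 5))) .sq)) (.lin 7)))) (.lin 7))) (.wt 3)) (.lin 7)) (.lin
    5)) (.lin 4)))) (.div 1)) (.wt 3)) (.lin 7)) (.lin 5)) (.lin 4))) (.wt 0)) (.lin 7)) (.lin
    5)) (.lin 4))) (.wt 0)) (.split 4 33 (.lin 12) (.splitN 161783 (.split 1 1772 (.split 2
    (-1710) (.lin 2) (.split 5 (-887) (.div 5) (.split 2 (-837) (.lin 1) (.split 7 (-875) (.lin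
    1) (.splitN 77392 (.split 5 (-419) (.div 5) (.split 2 (-369) (.lin 1) (.split 7 (-407) (.lin
    1) (.splitN 71851 (.split 5 (-383) (.div 5) (.split 7 (-371) (.lin 1) (.split 6 330 (.split 1
    340 (.split 7 (-317) (.lin 2) (.split 5 (-329) (.lin 4) (.split 6 263 (.split 2 (-216) (.lin
    3) (.split 1 277 (.split 7 (-254) (.lin 2) (.split 5 (-266) (.lin 4) (.split 6 195 (.split 1
    205 (.split 7 (-182) (.lin 2) (.split 5 (-194) (.lin 4) (.splitN 61824 (.split 4 59 (.split 7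
    (-65) (.lin 12) (.wt 0)) (.wt 0)) (.wt 6)))) (.lin 11)) (.wt 0)))) (.lin 11))) (.wt 0))))
    (.lin 11)) (.wt 0)))) (.wt 6))))) (.wt 6)))))) (.div 1)) (.wt 1)))) (.lin 1)))) (.lin 1))))
    (.split 0 (-30) (.lin 12) (.split 4 25 (.split 3 11 (.wt 2) (.split 1 42 (.lin 2) (.split 5
    (-31) (.split 6 60 (.split 2 (-36) (.lin 3) (.split 1 70 (.split 5 (-59) (.lin 4) (.split 0
    (-18) (.wt 2) (.split 4 13 (.split 7 (-20) (.lin 12) (.splitN 82107 (.wt 1) (.split 6 40 (.wt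
    0) (.split 2 (-26) (.split 1 60 (.lin 11) (.split 5 (-40) (.splitN 92973 (.wt 1) (.wt 0))
    (.lin 0))) (.lin 3))))) (.split 7 (-28) (.split 6 47 (.split 2 (-18) (.lin 3) (.split 1 61
    (.split 5 (-50) (.lin 4) (.split 7 (-33) (.split 2 (-9) (.lin 1) (.split 1 60 (.lin 2)
    (.split 5 (-49) (.split 4 24 (.lin 5) (.split 6 43 (.lin 0) (.splitN 161125 (.wt 0) (.wt
    0)))) (.lin 1)))) (.split 4 16 (.splitN 165869 (.split 6 36 (.wt 2) (.split 1 60 (.lin 11)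
    (.wt 0))) (.wt 3)) (.lin 12)))) (.lin 11))) (.wt 2)) (.lin 12))))) (.lin 11))) (.split 5
    (-49) (.split 2 (-26) (.split 1 78 (.lin 11) (.split 0 (-20) (.split 4 16 (.split 7 (-28)
    (.splitN 144802 (.split 1 1592 (.split 2 (-1548) (.lin 2) (.split 2 (-797) (.div 2) (.split 1
    844 (.split 6 836 (.splitN 113126 (.split 2 (-617) (.div 2) (.split 6 656 (.splitN 50577 (.wt
    6) (.split 4 8 (.wt 0) (.split 5 (-58) (.split 0 (-21) (.lin 12) (.split 7 (-37) (.splitN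
    67424 (.split 2 (-365) (.div 2) (.split 6 395 (.split 5 (-365) (.div 5) (.split 2 (-333)
    (.lin 1) (.split 6 368 (.splitN 62993 (.wt 1) (.wt 0)) (.lin 3)))) (.lin 3))) (.wt 0)) (.lin
    12))) (.lin 6)))) (.lin 3))) (.wt 3)) (.lin 3)) (.lin 2)))) (.div 1)) (.wt 0)) (.lin 12))
    (.lin 12)) (.split 4 11 (.split 2 (-44) (.split 7 (-20) (.lin 12) (.splitN 119353 (.split 1
    1304 (.split 2 (-1269) (.lin 2) (.split 2 (-653) (.div 2) (.split 5 (-671) (.lin 1) (.splitN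
    109622 (.split 1 108 (.split 2 (-72) (.lin 2) (.split 5 (-122) (.lin 0) (.split 5 (-95) (.lin
    1) (.splitN 103314 (.wt 0) (.wt 1))))) (.wt 0)) (.wt 6))))) (.div 1)) (.wt 1))) (.lin 3))
    (.wt 2)))) (.lin 9)) (.lin 6))) (.lin 10)))) (.lin 12))))

def cert5_100_1 : Cert :=
  (.split 4 46 (.split 6 102 (.split 2 (-36) (.lin 3) (.split 1 196 (.split 5 (-158) (.lin 4)
    (.split 0 (-52) (.split 2 (-18) (.lin 3) (.split 4 34 (.split 6 88 (.lin 3) (.split 7 (-82)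
    (.split 3 76 (.wt 2) (.split 1 168 (.lin 2) (.split 5 (-112) (.splitN 65816 .sq (.wt 3))
    (.lin 10)))) (.lin 12))) (.lin 3))) (.splitN 93279 (.split 3 74 (.split 1 169 (.split 5
    (-131) (.lin 4) (.split 4 34 (.split 6 84 (.split 2 (-18) (.lin 3) (.split 1 151 (.split 5
    (-113) (.lin 4) (.split 7 (-74) (.lin 9) (.split 0 (-47) (.wt 2) (.split 4 29 (.split 7 (-65)
    (.lin 12) (.split 3 62 (.wt 2) (.split 5 (-103) (.split 6 75 (.wt 2) (.split 2 (-17) (.split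
    1 150 (.lin 11) (.splitN 65634 (.wt 0) (.wt 0))) (.lin 3))) (.lin 1)))) (.split 2 (-9) (.lin
    3) (.split 6 79 (.lin 3) (.split 1 132 (.lin 11) (.split 5 (-94) (.split 7 (-73) (.splitN
    65721 (.wt 0) (.splitN 73600 (.split 3 53 (.wt 0) (.split 1 141 (.lin 2) (.split 3 62 (.split
    5 (-104) (.lin 1) (.wt 2)) (.wt 0)))) (.wt 1))) (.lin 9)) (.lin 0))))))))) (.lin 11)))
    (.split 5 (-94) (.split 1 141 (.lin 11) (.split 7 (-73) (.split 2 (-27) (.lin 9) (.split 4 29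
    (.split 2 (-17) (.split 0 (-47) (.split 7 (-74) (.lin 12) (.splitN 57785 (.wt 1) (.wt 0)))
    (.lin 12)) (.lin 3)) .cand)) (.split 2 (-26) (.split 0 (-39) (.lin 12) (.split 4 25 (.splitN
    63076 (.splitN 59628 (.wt 3) (.split 3 60 (.wt 0) (.wt 0))) (.wt 1)) (.lin 12))) (.lin 9))))
    (.lin 7))) .cand)) (.lin 11)) (.split 1 150 (.lin 2) (.split 5 (-112) (.split 4 34 (.split 7
    (-83) (.lin 12) (.split 6 84 (.split 1 178 (.split 5 (-140) (.lin 4) (.split 7 (-74) (.lin 9)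
    (.split 4 29 (.split 0 (-43) (.split 2 (-9) (.lin 3) (.split 6 79 (.lin 3) (.split 7 (-73)
    (.splitN 63040 (.wt 1) (.wt 0)) (.lin 9)))) (.split 7 (-65) (.lin 12) (.splitN 73555 (.split
    6 75 (.split 2 (-9) (.lin 3) (.splitN 69494 (.wt 0) (.split 3 84 (.wt 0) (.split 1 159 (.lin
    2) (.wt 0))))) (.wt 2)) (.wt 1)))) (.split 0 (-39) (.lin 3) (.split 2 (-9) (.lin 3) (.split 6
    79 (.lin 3) (.split 7 (-73) (.splitN 80513 (.wt 0) (.wt 1)) (.lin 9)))))))) (.lin 11))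
    (.split 5 (-121) (.split 1 168 (.lin 11) (.splitN 63593 .sq (.split 0 (-39) (.split 5 (-149)
    (.lin 4) (.split 7 (-73) (.split 2 (-17) (.wt 1) (.split 5 (-140) (.lin 1) (.split 7 (-82)
    (.splitN 68598 .sq (.wt 1)) (.lin 9)))) (.lin 12))) (.wt 2)))) (.lin 7)))) (.split 6 88 (.lin
    3) (.split 1 168 (.lin 11) (.split 5 (-130) (.split 7 (-82) (.splitN 69704 .sq (.wt 1)) (.lin
    12)) (.lin 10))))) (.lin 10)))) (.wt 1)))) (.lin 11))) (.split 5 (-94) (.split 1 159 (.lin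
    11) (.split 0 (-52) (.split 5 (-176) (.lin 4) (.split 7 (-82) (.splitN 59138 .sq (.splitN
    76177 (.split 1 204 (.split 3 88 (.split 4 25 (.wt 3) (.split 7 (-91) (.splitN 70986 (.split
    3 54 (.wt 4) (.split 5 (-103) (.split 1 168 (.lin 11) (.splitN 66977 .sq (.split 3 63 (.wt 0)
    (.split 5 (-112) (.split 1 177 (.lin 11) .sq) (.lin 7))))) (.lin 7))) (.wt 3)) (.lin 12)))
    (.lin 11)) .sq) (.wt 1))) (.lin 12))) (.split 2 (-17) (.split 5 (-112) (.split 7 (-92) (.lin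
    12) (.splitN 58751 .sq (.splitN 73118 (.split 3 85 (.split 5 (-176) (.lin 7) (.split 3 78
    (.split 5 (-167) (.lin 7) (.split 1 197 (.split 5 (-158) (.lin 4) (.split 4 34 (.split 2
    (-26) (.splitN 59138 .sq (.split 7 (-78) (.wt 1) (.split 2 (-35) (.split 0 (-39) (.split 4 25
    (.split 7 (-73) (.wt 0) (.lin 12)) (.lin 12)) (.wt 6)) (.lin 9)))) (.lin 3)) (.split 7 (-82)
    (.splitN 62603 .sq (.wt 1)) (.lin 12)))) .sq)) (.wt 6))) (.wt 2)) (.wt 1)))) (.lin 4)) (.lin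
    3)))) (.lin 7))) (.split 6 97 (.lin 3) (.split 1 150 (.lin 11) (.split 5 (-112) (.split 7
    (-91) (.splitN 81561 (.split 1 202 (.split 5 (-158) (.lin 4) (.split 0 (-52) (.split 4 70
    (.split 6 115 (.lin 3) (.split 1 168 (.lin 11) (.split 5 (-140) (.lin 4) (.split 7 (-109)
    (.splitN 75050 .sq (.wt 1)) (.lin 12))))) (.lin 3)) (.split 2 (-19) (.split 1 168 (.lin 2)
    (.split 4 70 (.split 6 115 (.lin 3) (.split 5 (-130) (.splitN 74726 .sq (.wt 1)) (.lin 10)))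
    (.lin 3))) (.split 0 (-43) (.split 4 79 (.split 6 106 (.lin 3) (.split 1 159 (.lin 11)
    (.split 5 (-149) (.lin 4) (.split 7 (-100) (.splitN 67274 .sq (.splitN 71572 (.split 2 (-11)
    (.wt 1) (.split 4 52 (.wt 1) (.split 6 115 (.lin 3) (.split 1 168 (.lin 11) (.split 5 (-121)
    (.split 7 (-109) .sq (.lin 9)) (.lin 4)))))) (.wt 1))) (.lin 12))))) (.lin 3)) (.splitN 63918
    (.split 3 59 (.split 5 (-149) (.lin 7) (.wt 4)) (.wt 0)) (.wt 6)))))) .sq) (.wt 1)) (.lin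
    12)) (.lin 10)))))

def cert5_100_2 : Cert :=
  (.split 3 49 (.splitN 150950 (.split 1 366 (.split 5 (-320) (.lin 4) (.split 4 286 (.split 6
    332 (.split 0 (-107) (.split 6 142 (.lin 3) (.split 1 168 (.lin 11) (.split 7 (-136) (.splitN
    84284 .sq (.wt 0)) (.lin 12)))) (.split 6 153 (.split 2 (-90) (.lin 3) (.split 1 196 (.split
    4 106 (.split 5 (-158) (.lin 4) (.splitN 109746 (.split 3 25 (.wt 2) (.split 5 (-67) (.split
    4 51 (.split 0 (-62) (.wt 2) (.split 6 116 (.split 2 (-54) (.lin 3) (.split 1 160 (.split 5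
    (-122) (.lin 4) (.split 0 (-50) (.wt 2) (.split 6 81 (.wt 2) (.split 5 (-76) (.split 1 123
    (.lin 11) (.split 4 34 (.split 0 (-45) (.wt 2) (.split 7 (-74) (.lin 12) (.split 3 36 (.wt 2)
    (.split 5 (-94) (.split 1 132 (.lin 11) (.split 6 95 (.wt 2) (.split 2 (-26) (.split 1 141
    (.lin 11) (.split 5 (-103) (.split 4 25 (.wt 2) (.split 2 (-45) (.lin 3) (.split 7 (-73)
    (.splitN 59269 (.wt 1) (.wt 3)) (.lin 12)))) (.lin 4))) (.lin 3)))) (.lin 7))))) (.split 2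
    (-36) (.lin 3) (.split 5 (-85) (.split 7 (-82) (.split 0 (-43) (.wt 2) (.split 7 (-83) (.lin
    12) (.split 3 37 (.wt 2) (.split 5 (-94) (.split 1 132 (.lin 2) (.split 6 97 (.wt 2) (.split
    2 (-17) (.split 5 (-103) (.splitN 64764 (.split 6 111 (.split 2 (-27) (.lin 3) (.split 5
    (-113) (.lin 1) (.split 2 (-18) (.split 1 150 (.lin 2) (.split 6 106 (.lin 0) (.wt 0))) (.wt
    1)))) (.wt 0)) (.wt 1)) (.lin 1)) (.lin 3)))) (.lin 1))))) (.lin 12)) (.lin 10))))) (.lin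
    7))))) (.lin 11))) (.split 2 (-26) (.split 1 159 (.lin 11) (.split 5 (-103) (.splitN 59831
    .sq (.split 7 (-90) (.wt 3) (.split 2 (-44) (.split 4 25 (.wt 3) (.split 0 (-48) (.lin 12)
    (.split 5 (-112) (.split 7 (-73) (.splitN 67346 (.split 0 (-47) .sq (.split 5 (-121) .sq
    (.lin 4))) (.wt 1)) (.lin 12)) (.lin 4)))) (.lin 9)))) (.lin 4))) (.lin 3)))) (.split 2 (-63)
    (.lin 3) (.split 5 (-94) (.split 7 (-91) (.split 0 (-47) (.split 4 97 (.split 7 (-100)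
    (.splitN 75321 (.split 3 35 (.wt 2) (.split 5 (-103) (.split 6 111 (.wt 2) (.split 1 159
    (.lin 11) (.splitN 66491 .sq (.split 0 (-56) (.wt 0) (.split 4 64 (.wt 0) (.split 6 124 (.lin
    3) (.split 1 168 (.lin 11) (.split 5 (-121) (.split 7 (-118) .sq (.lin 12)) (.lin 4)))))))))
    (.lin 10))) (.wt 0)) (.lin 12)) (.lin 3)) (.split 6 125 (.split 2 (-36) (.lin 3) (.split 1
    169 (.split 4 79 (.split 3 38 (.split 1 160 (.splitN 62654 (.wt 6) (.wt 4)) (.lin 11)) .cand)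
    (.lin 3)) (.lin 11))) (.split 5 (-130) (.split 1 168 (.lin 11) (.splitN 77066 .sq (.wt 1)))
    (.lin 7)))) (.lin 12)) (.lin 10)))) (.lin 10))) (.wt 3))) (.lin 3)) (.lin 11))) (.split 5
    (-85) (.split 1 186 (.lin 11) (.splitN 74969 .sq (.split 4 25 (.wt 3) (.split 7 (-73) (.split
    7 (-173) (.wt 3) (.split 4 133 (.split 7 (-145) (.wt 3) (.split 2 (-26) (.split 4 97 (.split
    0 (-90) (.wt 0) (.split 5 (-103) (.splitN 80729 .sq (.split 0 (-72) (.wt 0) (.split 3 27 (.wt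
    0) (.split 5 (-130) (.splitN 87551 .sq (.wt 1)) (.lin 7))))) (.lin 4))) (.lin 12)) (.lin 9)))
    (.lin 12))) (.lin 12))))) (.lin 7)))) (.lin 11)) (.lin 5))) .sq) (.wt 3)) (.split 1 123 (.lin
    2) (.split 4 367 (.split 5 (-85) (.splitN 160283 (.split 1 371 (.split 5 (-329) (.lin 4)
    (.split 4 268 (.split 6 314 (.split 0 (-104) (.split 6 142 (.lin 3) (.split 1 195 (.lin 11)
    (.split 7 (-136) (.splitN 100079 .sq (.wt 0)) (.lin 12)))) (.splitN 138075 (.split 1 340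
    (.split 5 (-302) (.lin 4) (.split 6 142 (.split 1 232 (.split 4 88 (.split 5 (-194) (.lin 4)
    (.split 7 (-128) (.lin 9) (.splitN 121310 (.splitN 44107 (.wt 1) (.split 0 (-70) (.split 4 52
    (.split 6 106 (.lin 3) (.split 1 159 (.lin 11) (.split 7 (-100) (.splitN 63143 .sq (.splitN
    73069 (.split 3 68 (.wt 0) (.split 1 177 (.lin 2) (.split 5 (-103) .sq (.lin 10)))) (.wt 0)))
    (.lin 12)))) (.lin 3)) cert5_100_1)) (.wt 1)))) (.lin 3)) (.lin 11)) (.split 5 (-94) (.split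
    1 195 (.lin 11) (.splitN 76634 .sq (.split 4 25 (.wt 1) (.split 7 (-73) (.split 2 (-33) (.wt
    1) (.split 7 (-118) (.splitN 86993 .sq (.wt 1)) (.lin 9))) (.lin 12))))) (.lin 7)))) .sq)
    (.wt 1))) (.lin 11)) (.lin 5))) .sq) (.wt 1)) (.lin 10)) (.lin 5))))

def cert5_100_3 : Cert :=
  (.split 4 22 (.splitN 808504 (.split 1 8972 (.split 5 (-8933) (.lin 4) (.split 6 8945 (.splitN
    238128 (.split 1 2636 (.split 3 2581 (.split 6 2609 (.split 5 (-1319) (.div 5) (.splitN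
    112118 (.split 1 1232 (.split 5 (-617) (.div 5) (.split 3 601 (.split 3 25 (.wt 2) (.split 1
    87 (.lin 2) (.split 2 (-576) (.lin 10) (.split 5 (-49) (.split 0 (-308) .sq (.split 6 890
    (.split 1 916 (.splitN 107130 (.split 1 307 (.split 3 250 (.split 5 (-266) (.lin 4) (.split 6
    269 (.splitN 94577 (.split 1 285 (.split 3 223 (.split 5 (-239) (.lin 4) (.split 6 242
    (.split 4 11 (.splitN 38637 (.split 5 (-203) (.div 5) (.split 3 187 (.wt 2) (.lin 10))) (.wt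
    0)) (.split 6 61 (.lin 3) (.split 5 (-58) (.split 7 (-55) (.splitN 76640 (.split 3 35 (.wt 2)
    (.split 1 105 (.lin 2) (.split 5 (-67) (.split 1 245 (.split 3 178 (.split 6 197 (.split 6
    110 (.split 2 (-54) (.lin 9) (.splitN 70809 (.split 3 55 (.wt 2) (.split 5 (-85) (.split 1
    221 (.split 3 151 (.split 6 64 (.wt 2) (.split 3 101 (.split 0 (-51) (.wt 2) (.split 6 74
    (.wt 2) (.split 2 (-17) (.split 1 141 (.lin 11) (.split 5 (-94) (.splitN 61386 (.split 1 187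
    (.split 3 79 (.split 0 (-45) (.wt 2) (.split 2 (-26) (.split 5 (-103) (.split 7 (-56) (.lin
    12) (.splitN 53160 (.wt 1) (.splitN 58064 (.split 3 61 (.wt 0) (.split 6 82 (.wt 0) (.split 2
    (-35) (.split 1 159 (.lin 11) (.split 5 (-121) .sq (.lin 1))) (.lin 3)))) (.wt 3)))) (.lin
    1)) (.lin 3))) (.split 1 168 (.lin 11) (.split 5 (-121) .sq (.lin 4)))) .sq) (.wt 3)) (.lin
    4))) (.lin 3)))) (.split 1 177 (.lin 11) (.split 5 (-130) .sq (.lin 10))))) (.lin 2)) .sq)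
    (.lin 10))) (.wt 3))) (.split 1 159 (.lin 11) (.split 3 124 (.splitN 50183 .sq (.split 7
    (-99) (.wt 3) (.split 5 (-85) (.split 2 (-26) (.split 0 (-75) (.lin 12) (.splitN 53531 .sq
    (.split 3 43 (.wt 0) (.split 1 168 (.lin 11) (.split 5 (-94) (.splitN 58958 .sq (.split 0
    (-69) (.wt 0) (.split 2 (-35) (.split 5 (-103) (.splitN 61280 .sq (.wt 1)) (.lin 4)) (.lin
    3)))) (.lin 4)))))) (.lin 9)) (.lin 6)))) (.lin 11)))) (.lin 11)) (.lin 2)) .sq) (.lin 10))))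
    (.wt 3)) (.lin 12)) (.lin 10)))) (.lin 11))) (.lin 2)) .sq) (.wt 3)) (.lin 11))) (.lin 2))
    .sq) (.wt 3)) (.lin 4)) (.lin 3))) (.lin 10))))) (.lin 10))) (.div 1)) (.wt 3))) (.lin 11))
    (.lin 2)) (.div 1)) (.wt 1)) (.lin 11))) (.div 1)) (.wt 0)) (.split 6 70 (.lin 3) (.split 1
    96 (.lin 11) (.split 5 (-58) (.split 7 (-64) (.splitN 330740 (.split 1 3644 (.split 5 (-1823)
    (.div 5) (.split 4 1789 (.split 0 (-553) .sq (.split 1 2374 (.splitN 297764 (.split 1 529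
    (.split 2 (-441) (.lin 2) (.split 5 (-491) (.lin 4) (.split 4 457 (.split 6 503 (.splitN
    263321 (.split 1 497 (.split 4 421 (.split 6 467 (.split 3 102 (.splitN 238000 (.split 1 471
    (.split 5 (-428) (.lin 4) (.split 6 440 cert5_100_2 (.lin 11))) .sq) (.wt 3)) (.split 1 177
    (.lin 2) (.split 0 (-354) (.lin 5) (.split 4 340 (.split 5 (-139) (.splitN 73511 .sq (.splitN
    136286 (.split 1 302 (.split 0 (-156) (.lin 4) (.split 5 (-257) (.lin 4) (.split 4 142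
    (.splitN 119497 (.split 1 274 (.split 7 (-155) (.lin 2) (.split 5 (-230) (.lin 4) (.split 6
    161 (.split 0 (-70) (.split 4 79 (.split 6 106 (.lin 3) (.split 1 213 (.lin 11) (.split 3 160
    (.split 7 (-100) (.splitN 103967 .sq (.wt 0)) (.lin 12)) (.lin 5)))) (.lin 3)) (.split 6 128
    (.split 4 79 (.splitN 100817 (.split 1 236 (.split 5 (-194) (.lin 4) (.split 4 44 (.splitN
    91104 (.split 7 (-97) (.wt 1) (.split 1 215 (.split 3 142 (.split 5 (-176) (.lin 4) (.split 6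
    107 (.split 0 (-52) (.split 6 88 (.lin 3) (.split 1 195 (.lin 11) (.split 4 34 (.split 7
    (-82) (.splitN 87443 .sq (.wt 0)) (.lin 12)) (.lin 12)))) (.split 7 (-84) (.wt 1) (.split 6
    92 (.split 0 (-39) (.split 4 34 (.split 6 79 (.lin 3) (.split 5 (-167) (.lin 4) (.split 7
    (-73) (.wt 1) (.lin 12)))) (.lin 3)) (.wt 6)) (.wt 2)))) (.lin 11))) (.lin 2)) .sq)) (.wt 1))
    (.split 6 97 (.lin 3) (.split 1 204 (.lin 11) (.split 5 (-166) (.split 7 (-91) .sq (.lin 12))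
    (.lin 10)))))) .sq) (.wt 1)) (.lin 3)) (.wt 6))) (.lin 11)))) .sq) (.wt 1)) (.lin 5)))) .sq)
    (.wt 1))) (.lin 10)) (.lin 5))))) (.lin 11)) (.lin 5)) .sq) (.wt 1)) (.lin 11)) (.lin 5))))
    .sq) (.wt 1)) (.lin 4))) (.lin 10))) (.div 1)) (.wt 1)) (.lin 12)) (.lin 10)))))

def cert5_100_4 : Cert :=
  (.split 3 51 (.split 5 (-194) (.lin 7) (.split 1 214 (.split 4 47 (.split 7 (-74) (.lin 12)
    (.split 6 94 (.split 2 (-54) (.lin 3) (.split 2 (-45) (.lin 9) (.split 1 133 (.split 5 (-140)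
    (.lin 1) (.split 5 (-113) (.lin 4) (.splitN 43635 (.wt 1) (.split 4 29 (.split 3 34 (.split 5
    (-104) (.lin 6) (.split 0 (-25) (.split 3 29 (.wt 2) (.split 4 20 (.wt 2) (.split 6 61 (.lin
    3) (.split 1 96 (.lin 11) (.split 5 (-67) (.split 7 (-55) (.wt 2) (.lin 12)) (.lin 4))))))
    (.split 5 (-58) (.split 4 24 (.lin 12) (.split 7 (-47) (.lin 12) (.split 3 33 (.split 5 (-95)
    (.lin 1) (.split 6 64 (.wt 2) (.split 2 (-26) (.split 1 96 (.lin 11) (.splitN 77046 (.split 1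
    105 (.split 2 (-27) (.lin 2) (.wt 0)) (.wt 0)) (.wt 1))) (.lin 3)))) (.wt 2)))) (.lin 1))))
    (.splitN 107935 .cand (.wt 1))) (.split 6 61 (.lin 3) (.split 1 87 (.lin 11) (.split 5 (-58)
    (.split 5 (-67) (.split 7 (-55) (.split 3 34 (.split 5 (-104) (.lin 7) (.split 1 124 (.split
    0 (-25) (.split 7 (-64) (.splitN 81223 (.split 3 30 (.wt 2) .cand) (.wt 0)) (.lin 12))
    (.split 7 (-65) (.lin 12) (.split 3 29 (.split 6 79 (.split 2 (-18) (.lin 3) (.split 1 97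
    (.split 5 (-86) (.lin 1) (.split 5 (-77) (.lin 4) (.split 7 (-60) (.split 2 (-9) (.lin 1)
    (.split 1 96 (.lin 2) (.split 4 42 (.lin 5) (.split 6 70 (.lin 0) (.splitN 80478 (.wt 0) (.wt
    0)))))) (.split 4 34 (.split 6 65 (.wt 2) (.split 2 (-17) (.splitN 76958 (.wt 0) (.wt 0))
    (.lin 3))) (.lin 12))))) (.lin 11))) (.wt 2)) (.wt 2)))) (.lin 11))) (.split 5 (-76) (.split
    5 (-85) (.split 0 (-24) (.split 2 (-27) (.lin 3) (.split 6 70 (.lin 3) (.split 1 114 (.lin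
    11) (.split 5 (-104) (.lin 4) (.split 7 (-64) (.split 4 42 (.split 7 (-65) (.lin 12) (.splitN
    68890 (.wt 0) (.split 2 (-14) (.wt 1) (.split 1 115 (.split 6 71 (.splitN 76237 (.wt 0) (.wt
    0)) (.lin 0)) (.lin 2))))) (.wt 2)) (.lin 12)))))) (.wt 2)) (.lin 10)) (.lin 1))) (.lin 12))
    (.lin 10)) (.lin 4)))))))) (.lin 11)))) (.split 2 (-26) (.split 1 123 (.lin 11) (.splitN
    96852 (.split 4 29 (.split 2 (-44) (.splitN 82315 (.split 0 (-25) .cand (.split 4 24 (.lin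
    12) (.split 7 (-47) (.lin 12) (.wt 0)))) (.wt 1)) (.lin 3)) (.split 0 (-21) .cand (.wt 2)))
    (.wt 1))) (.lin 3)))) (.split 2 (-99) (.lin 3) (.split 6 79 (.lin 3) (.split 1 105 (.lin 11)
    (.split 7 (-73) (.splitN 102851 (.split 0 (-25) .cand (.split 3 27 (.split 5 (-176) (.lin 7)
    (.split 4 115 (.split 7 (-137) (.lin 12) (.split 4 89 (.split 7 (-110) (.lin 12) (.splitN
    75225 (.split 2 (-43) (.wt 2) (.split 5 (-149) (.lin 1) (.split 7 (-75) (.split 5 (-94)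
    (.split 6 88 (.lin 7) (.wt 2)) (.lin 1)) (.wt 0)))) (.wt 6))) (.wt 2))) (.wt 2))) (.wt 2)))
    (.wt 1)) (.lin 12)))))) (.lin 11))) (.split 5 (-76) (.split 1 105 (.lin 2) (.split 4 47
    (.split 7 (-74) (.lin 12) (.split 6 122 (.split 2 (-72) (.lin 9) (.split 1 223 (.split 5
    (-230) (.lin 1) (.split 5 (-203) (.lin 4) (.split 4 29 (.split 7 (-56) (.lin 12) (.splitN
    110009 (.split 6 99 (.split 1 205 (.split 5 (-185) (.lin 4) (.split 6 75 (.split 1 178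
    (.split 5 (-158) (.lin 4) (.split 0 (-25) (.split 5 (-149) (.lin 4) (.split 4 20 (.split 7
    (-47) (.lin 12) (.splitN 95844 .cand (.wt 0))) (.split 2 (-18) (.lin 3) (.split 6 61 (.lin 3)
    (.split 1 114 (.lin 11) (.split 5 (-85) (.split 7 (-55) (.splitN 69487 (.wt 0) (.splitN 84147
    (.split 3 73 (.split 1 142 (.split 3 57 (.split 5 (-95) (.lin 1) (.split 1 124 (.split 2
    (-17) (.wt 1) (.split 1 115 (.split 6 62 (.splitN 75671 (.wt 0) (.wt 0)) (.lin 0)) (.lin 2)))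
    (.lin 2))) (.wt 2)) (.lin 2)) (.wt 0)) (.wt 1))) (.lin 12)) (.lin 4))))))) (.split 4 24 (.lin
    12) (.split 7 (-47) (.lin 12) (.wt 0))))) (.lin 11)) (.split 2 (-26) (.split 1 132 (.lin 11)
    (.splitN 75066 (.split 4 22 (.split 2 (-35) (.split 7 (-47) (.lin 12) (.splitN 63385 (.wt 0)
    (.wt 1))) (.lin 3)) (.wt 0)) (.wt 1))) (.lin 3)))) (.lin 11)) (.wt 2)) (.wt 1))) (.split 6 61
    (.lin 3) (.split 0 (-27) (.split 6 70 (.lin 3) (.wt 2)) (.wt 2)))))) (.lin 11))) (.wt 2)))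
    (.split 6 79 (.lin 3) (.wt 2)))) (.lin 1)))

def cert5_100_5 : Cert :=
  (.split 7 (-46) (.split 5 (-49) (.split 1 78 (.lin 2) (.split 6 52 (.lin 9) (.split 4 15 (.lin
    12) (.splitN 409596 (.split 1 4544 (.split 5 (-4532) (.lin 4) (.split 5 (-2273) (.div 5)
    (.split 1 2302 (.split 1 632 (.split 2 (-558) (.lin 2) (.split 5 (-617) (.lin 4) (.split 4
    583 (.splitN 347676 (.split 0 (-12) (.split 1 582 (.split 5 (-554) (.lin 4) (.split 4 520
    (.split 3 114 (.split 6 171 (.split 2 (-135) (.lin 3) (.split 2 (-126) (.lin 9) (.split 1 277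
    (.split 7 (-245) (.lin 2) (.split 5 (-455) (.lin 1) (.split 4 142 (.split 5 (-257) (.lin 4)
    (.split 7 (-164) (.lin 9) (.splitN 33346 (.wt 1) cert5_100_4))) (.lin 3)))) (.lin 11))))
    (.split 5 (-175) (.split 1 204 (.lin 11) (.splitN 108152 .sq (.splitN 131426 (.split 2 (-17)
    (.wt 1) (.split 7 (-172) .sq (.lin 9))) (.wt 1)))) (.lin 7))) (.split 1 168 (.lin 2) (.split
    5 (-139) (.split 4 430 (.splitN 66752 .sq (.split 7 (-304) (.wt 1) (.split 4 277 (.split 7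
    (-282) (.wt 1) (.split 4 51 (.split 7 (-74) (.lin 12) (.split 0 (-24) (.split 4 24 (.split 7
    (-47) (.lin 12) (.splitN 85348 (.split 5 (-473) (.div 5) (.split 6 78 (.split 2 (-27) (.lin
    3) (.split 3 141 (.split 5 (-176) (.lin 1) (.split 1 205 (.splitN 81053 (.split 6 62 (.split
    2 (-18) (.lin 3) (.split 6 59 (.split 2 (-9) (.lin 3) (.wt 1)) (.wt 0))) (.wt 0)) (.wt 1))
    (.lin 2))) (.wt 2))) (.wt 0))) (.wt 1))) (.wt 2)) (.wt 2))) (.wt 2))) (.lin 12)))) (.lin 5))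
    (.lin 1)))) (.lin 5))) .sq) (.wt 2)) (.wt 1)) (.lin 5)))) .sq) (.lin 4)))) (.div 1)) (.wt
    1))))) (.lin 1)) (.splitN 27286 (.wt 1) (.split 6 60 (.split 0 (-20) (.split 2 (-27) (.lin 3)
    (.split 6 34 (.lin 3) (.split 4 16 (.split 7 (-28) (.split 3 58 (.split 1 115 (.split 1 106
    (.split 3 25 (.wt 2) (.split 4 7 (.wt 2) (.split 0 (-21) (.lin 12) (.split 6 43 (.lin 3)
    (.split 1 78 (.lin 11) (.split 5 (-58) (.split 7 (-37) (.splitN 136521 .cand (.wt 0)) (.lin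
    12)) (.lin 4))))))) (.lin 11)) (.lin 2)) (.split 5 (-67) (.split 1 96 (.lin 2) (.split 5
    (-76) (.splitN 1030534 (.split 1 1007 (.split 5 (-1013) (.lin 0) (.split 3 1006 (.split 4 11
    (.splitN 86772 (.split 5 (-473) (.div 5) (.split 1 511 (.split 3 466 (.splitN 73669 (.split 5
    (-401) (.div 5) (.split 3 394 (.split 0 (-25) (.wt 2) (.split 7 (-29) (.lin 12) (.split 3 88
    (.wt 2) (.split 5 (-112) (.split 3 97 (.wt 2) (.split 6 42 (.wt 2) (.split 2 (-17) (.split 1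
    150 (.lin 11) (.split 5 (-130) (.splitN 55905 (.wt 1) (.splitN 67060 (.split 1 184 (.split 5
    (-167) (.lin 0) (.split 3 142 (.splitN 61281 (.split 3 108 (.wt 0) (.split 5 (-139) (.split 1
    159 (.lin 2) .sq) (.lin 1))) (.wt 0)) (.lin 6))) .sq) (.wt 3))) (.lin 1))) (.lin 3)))) (.lin
    1))))) (.lin 6))) (.wt 3)) (.lin 6)) (.lin 0))) (.wt 0)) (.split 0 (-21) (.lin 12) (.split 6
    43 (.lin 3) (.wt 2)))) (.lin 6))) .sq) (.wt 1)) (.lin 10))) (.lin 1))) (.lin 12)) (.lin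
    12)))) (.split 4 13 (.split 7 (-20) (.lin 12) (.split 3 45 (.split 6 35 (.split 2 (-18) (.lin
    3) (.split 1 79 (.split 5 (-77) (.lin 0) (.split 3 42 (.split 6 34 (.split 2 (-9) (.lin 3)
    (.split 1 61 (.splitN 149046 (.wt 1) (.wt 0)) (.lin 11))) (.wt 2)) (.wt 2))) (.lin 11))) (.wt
    2)) (.wt 2))) (.split 6 34 (.lin 3) (.wt 2)))) (.split 5 (-58) (.split 2 (-26) (.split 1 87
    (.lin 11) (.split 0 (-20) (.split 4 16 (.split 7 (-28) (.splitN 214366 (.split 2 (-1175)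
    (.div 2) (.split 1 448 (.split 2 (-396) (.lin 2) (.split 3 394 (.split 6 440 (.split 5 (-428)
    (.lin 4) (.split 4 11 (.splitN 77759 (.split 1 255 (.split 2 (-198) (.lin 2) (.split 6 233
    (.split 5 (-230) (.lin 4) (.split 3 26 (.wt 2) (.split 6 215 (.split 3 75 (.splitN 63207
    (.split 6 110 (.split 0 (-27) (.wt 2) (.split 7 (-29) (.lin 12) .cand)) (.split 2 (-80)
    (.split 1 150 (.lin 11) (.split 5 (-121) (.splitN 59687 .sq (.wt 1)) (.lin 4))) (.lin 3)))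
    (.wt 3)) (.split 1 141 (.lin 11) (.split 5 (-112) (.splitN 44702 .sq (.splitN 64255 .cand
    (.wt 1))) (.lin 4)))) (.lin 11)))) (.lin 3))) .sq) (.wt 3)) (.split 5 (-67) (.split 0 (-21)
    (.lin 12) (.split 7 (-37) (.splitN 94259 (.splitN 66033 (.wt 3) (.split 3 40 (.split 6 236
    (.split 2 (-198) (.lin 3) (.split 1 268 (.split 5 (-248) (.lin 1) (.split 6 173 (.split 2
    (-135) (.lin 3) (.split 1 205 (.split 5 (-185) (.lin 1) (.split 6 156 (.split 2 (-117) (.lin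
    3) (.split 1 187 (.split 5 (-167) (.lin 1) (.split 6 149 (.split 2 (-108) (.lin 3) (.split 3
    32 (.split 5 (-149) (.lin 1) (.splitN 83144 (.split 6 135 (.split 2 (-99) (.lin 3) (.split 5
    (-140) (.lin 1) (.split 6 73 (.wt 2) (.split 2 (-44) (.split 1 105 (.lin 11) (.split 5 (-85)
    (.splitN 76815 (.split 6 95 (.split 2 (-54) (.lin 3) (.split 1 115 (.split 5 (-104) (.lin 0)
    (.split 6 82 (.split 1 106 (.splitN 71734 (.wt 0) (.wt 0)) (.lin 11)) (.wt 2))) (.lin 11)))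
    (.wt 0)) (.wt 1)) (.lin 1))) (.lin 3))))) (.wt 0)) (.wt 3))) (.wt 2))) (.wt 1))) (.lin 11)))
    (.wt 1))) (.lin 11))) (.wt 1))) (.lin 11))) (.wt 0)) (.wt 0))) (.wt 1)) (.lin 12))) (.lin
    6)))) (.lin 3)) (.lin 2))) .sq)) (.wt 1)) (.lin 12)) (.lin 12)) (.wt 2))) (.lin 9)) (.lin
    6)))))

def cert5_100 : Cert :=
  (.split 1 24 (.lin 2) (.split 6 16 (.lin 3) (.split 5 (-22) (.splitN 11539 (.wt 3) (.split 0
    (-3) (.split 6 25 (.lin 3) (.split 1 33 (.lin 11) (.split 7 (-19) (.split 3 22 (.split 0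
    (-43) (.split 7 (-55) (.wt 2) (.lin 12)) cert5_100_0) (.split 1 51 (.lin 2) (.split 5 (-40)
    (.splitN 20591 (.wt 1) (.split 0 (-30) (.split 6 52 (.lin 3) (.split 1 78 (.lin 11) (.split 7
    (-46) cert5_100_3 (.lin 12)))) cert5_100_5)) (.lin 10)))) (.lin 12)))) (.wt 2))) (.lin 10))))

theorem check5_100 :
    check task5 cert5_100
      [(7, ⟨none, some (-2)⟩), (7, ⟨some (16), none⟩), (1, ⟨none, some (-8)⟩), (7, ⟨some (7), none⟩), (7, ⟨some (7), none⟩), (5, ⟨none, some (-4)⟩), (8, ⟨some (8), none⟩), (8, ⟨none, some (-10)⟩)] ⟨some (3960), none⟩ = true := by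
  decide +kernel

end Cfsg.Agent.EightLocal
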