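import Cfsg.Agent.Lib.EightLocal.Task5

/-!
# Search trees of family 5, part 6
-/

set_option autoImplicit false
set_option maxRecDepth 20000
set_option Elab.async false

namespace Cfsg.Agent.EightLocal

open Cfsg.Agent.SelfNine

def cert5_101_0 : Cert :=
  (.split 5 (-347) (.lin 4) (.split 6 359 (.splitN 129047 (.split 2 346 (.split 4 682 (.split 4
    346 (.splitN 122705 (.split 1 340 (.split 5 (-320) (.lin 4) (.split 6 332 (.split 7 (-340)
    .sq (.split 4 313 (.split 3 11 (.splitN 22823 (.split 1 224 (.split 6 215 (.wt 2) (.lin 11))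
    (.div 1)) (.wt 4)) (.split 1 60 (.lin 11) (.split 5 (-36) (.split 0 (-45) (.wt 2) (.split 6
    51 (.wt 2) (.split 7 (-55) (.split 1 69 (.lin 11) (.split 6 55 (.wt 2) (.split 1 78 (.lin 11)
    (.split 7 (-64) (.splitN 82159 (.split 0 (-38) (.wt 2) (.split 5 (-49) (.split 1 263 (.split
    5 (-239) (.lin 4) (.split 6 251 (.split 4 253 (.split 6 62 (.wt 2) (.split 4 42 (.lin 3)
    (.split 1 87 (.lin 11) (.split 7 (-73) (.split 5 (-58) (.splitN 76149 (.split 1 242 (.split 5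
    (-221) (.lin 4) (.split 6 233 (.splitN 71483 (.split 1 229 (.split 5 (-203) (.lin 4) (.split
    6 215 (.split 4 215 (.split 7 (-224) .sq (.split 4 196 (.split 2 12 (.split 2 3 (.splitN
    34189 (.split 5 (-185) (.div 5) (.splitN 31855 (.split 5 (-167) (.div 5) (.split 7 (-182)
    (.lin 1) (.split 1 196 (.split 4 160 (.split 6 179 (.split 0 (-28) (.wt 2) (.split 5 (-67)
    (.split 6 72 (.wt 2) (.split 4 60 (.lin 3) (.split 1 96 (.lin 11) (.split 7 (-82) (.split 5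
    (-76) .sq (.lin 1)) (.lin 2))))) (.lin 1))) (.lin 7)) (.lin 5)) (.lin 2)))) (.wt 1))) (.wt
    0)) (.split 7 (-82) (.splitN 44497 (.wt 6) (.split 0 (-28) (.wt 0) (.split 5 (-67) (.splitN
    46340 (.wt 6) (.split 6 81 (.wt 0) (.split 4 78 (.lin 3) (.split 1 105 (.lin 11) (.split 7
    (-100) (.split 5 (-85) (.splitN 54399 (.splitN 51247 (.wt 6) (.split 1 140 (.wt 0) (.split 7
    (-136) (.split 5 (-121) (.split 4 114 (.lin 5) (.split 6 124 (.lin 3) .sq)) (.lin 1)) (.lin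
    2)))) (.wt 0)) (.lin 1)) (.lin 2)))))) (.lin 1)))) (.lin 2))) (.split 7 (-91) (.split 6 197
    (.splitN 52271 (.wt 6) (.split 0 (-24) (.wt 0) (.split 5 (-67) (.splitN 54832 (.wt 6) (.split
    1 89 (.wt 0) (.split 7 (-100) (.split 5 (-76) (.wt 2) (.lin 4)) (.lin 2)))) (.lin 4)))) (.lin
    9)) (.lin 2))) (.lin 12))) .sq) (.lin 7))) .sq) (.wt 3)) (.lin 7))) .sq) (.wt 0)) (.lin 4))
    (.lin 2))))) .sq) (.lin 7))) .sq) (.lin 4))) (.wt 3)) (.lin 2))))) (.lin 9)))) (.split 0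
    (-29) (.splitN 85998 (.split 0 (-278) .sq (.split 1 304 (.split 6 287 (.split 1 282 (.split 6
    260 (.split 2 275 (.split 7 (-280) .sq (.split 2 226 (.split 4 41 (.split 2 46 (.splitN 58954
    (.split 0 (-219) .sq (.split 6 233 (.split 1 224 (.split 6 206 (.splitN 55182 (.split 7
    (-214) .sq (.split 5 (-12) (.split 0 (-46) (.wt 2) (.split 5 (-22) (.split 6 53 (.wt 2) (.lin
    7)) (.lin 4))) (.split 0 (-56) (.split 1 205 (.split 2 18 (.lin 10) (.split 7 (-64) (.split 4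
    9 (.wt 2) (.split 6 61 (.wt 2) (.split 7 (-91) (.split 0 (-74) (.splitN 32549 (.split 6 79
    (.wt 2) (.split 7 (-109) (.split 1 96 (.lin 11) .sq) (.lin 6))) (.wt 1)) (.lin 7)) (.lin
    6)))) (.lin 1))) (.lin 8)) (.lin 4)))) (.wt 5)) (.lin 11)) .sq) (.lin 7))) (.wt 3)) (.lin
    10)) (.split 2 27 (.lin 10) (.split 7 (-73) (.split 5 (-17) (.wt 2) (.split 0 (-47) (.split 1
    241 (.split 2 45 (.lin 10) (.split 7 (-82) (.split 4 223 (.split 5 (-8) (.wt 2) (.split 0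
    (-56) (.split 2 54 (.lin 10) (.split 7 (-100) (.splitN 38283 (.split 2 202 (.split 4 187
    (.split 6 51 (.wt 2) (.split 7 (-109) (.split 0 (-65) (.splitN 35796 (.split 2 184 (.split 4
    169 (.split 6 57 (.wt 2) (.split 7 (-118) (.split 1 78 (.lin 11) .sq) (.lin 6))) (.lin 10))
    (.div 2)) (.wt 1)) (.lin 7)) (.lin 6))) (.lin 10)) (.div 2)) (.wt 1)) (.lin 1))) (.lin 4)))
    (.lin 6)) (.lin 1))) (.lin 8)) (.lin 4))) (.lin 2)))) (.lin 9))) .sq) (.lin 11)) .sq) (.lin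
    7)) (.lin 4))) (.wt 3)) (.lin 4))))) (.lin 12))) (.lin 11))) .sq) (.wt 3)) .sq) (.lin 3))
    .sq) (.wt 3)) (.lin 11)))

def cert5_101_1 : Cert :=
  (.split 7 (-100) (.split 2 63 (.lin 9) (.split 4 51 (.lin 3) (.split 4 60 (.lin 12) (.splitN
    524832 (.split 2 2902 (.split 4 2914 (.split 5 (-2903) (.div 5) (.split 1 2941 (.split 3 2914
    (.splitN 452131 (.split 2 2506 (.splitN 189490 (.split 2 1048 (.split 4 1060 (.split 5
    (-1049) (.div 5) (.split 3 1060 (.splitN 134818 (.split 2 742 (.split 4 754 (.split 5 (-743)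
    (.div 5) (.split 1 781 (.split 1 329 (.split 5 (-302) (.lin 4) (.split 3 313 (.split 3 295
    (.splitN 119359 (.split 0 (-36) (.wt 2) (.split 5 (-58) (.split 4 69 (.lin 12) (.split 1 300
    (.split 5 (-275) (.lin 4) (.split 3 277 (.split 2 294 (.split 4 511 (.split 4 304 (.splitN
    112736 (.split 4 284 (.split 7 (-294) .sq (.split 2 262 (.split 6 30 (.split 2 72 (.lin 9)
    (.splitN 99332 (.splitN 66084 (.wt 6) (.split 0 (-27) (.wt 0) (.split 5 (-67) (.split 3 65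
    (.wt 0) (.split 5 (-76) (.splitN 73764 (.wt 6) (.split 3 84 (.wt 0) (.split 5 (-94) (.splitN
    79462 (.wt 6) (.split 3 113 (.wt 0) (.split 5 (-121) (.split 1 141 (.lin 11) (.splitN 85698
    (.wt 6) (.split 3 160 (.wt 0) (.split 5 (-175) .sq (.lin 7))))) (.lin 7)))) (.lin 7)))) (.lin
    7))) (.lin 4)))) (.wt 0))) (.split 5 (-67) (.split 1 96 (.lin 11) (.splitN 94556 (.split 1
    250 (.split 5 (-230) (.lin 4) (.split 3 223 (.split 2 239 (.split 4 250 (.split 7 (-252) .sq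
    (.split 2 208 (.split 4 223 (.split 0 (-25) (.splitN 83609 (.splitN 61953 (.wt 6) (.split 3
    65 (.wt 0) (.split 5 (-76) (.split 7 (-210) (.wt 0) (.split 2 172 (.split 4 178 (.splitN
    66183 (.wt 6) (.split 3 96 (.wt 0) (.split 5 (-103) (.split 1 132 (.lin 11) (.splitN 72575
    (.wt 6) (.split 3 147 (.wt 0) (.split 5 (-157) .sq (.lin 7))))) (.lin 7)))) (.lin 3)) (.lin
    9))) (.lin 7)))) (.wt 0)) (.split 4 78 (.lin 3) (.split 5 (-76) (.split 3 90 (.split 5 (-104)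
    (.lin 7) (.split 3 80 (.split 5 (-95) (.lin 7) (.split 7 (-101) (.split 2 72 (.lin 9) (.split
    4 87 (.lin 3) (.split 3 77 (.split 5 (-86) (.lin 7) (.split 1 106 (.split 7 (-113) (.split 2
    81 (.lin 9) (.split 4 96 (.lin 3) (.split 7 (-120) (.split 2 90 (.lin 9) (.split 4 105 (.lin
    3) (.splitN 68629 (.split 7 (-128) (.split 2 99 (.lin 9) (.split 4 114 (.lin 3) (.splitN
    62252 .sq (.split 7 (-222) (.wt 1) (.split 3 69 (.split 5 (-77) (.lin 7) (.split 1 97 (.split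
    7 (-143) (.split 2 108 (.lin 1) (.split 4 123 (.lin 0) .sq)) (.wt 2)) (.lin 11))) (.wt
    2)))))) (.wt 0)) (.wt 1)))) (.wt 2)))) (.wt 2)) (.lin 11))) (.wt 2)))) (.wt 2))) (.wt 2)))
    (.wt 2)) (.lin 4)))) (.lin 3)) (.lin 9))) (.lin 3)) .sq) (.lin 7))) .sq) (.wt 1))) (.lin 7)))
    (.lin 9))) .sq) (.wt 3)) (.lin 3)) (.lin 0)) .sq) (.lin 7))) .sq)) (.lin 4))) (.wt 3)) (.lin
    11)) (.lin 7))) .sq) (.lin 4))) (.lin 3)) (.div 2)) (.wt 3)) (.lin 7))) (.lin 3)) (.div 2))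
    (.wt 1)) (.div 2)) (.wt 0)) (.lin 7)) (.lin 4))) (.lin 3)) (.div 2)) (.wt 0))))) (.split 2 64
    (.split 4 70 (.splitN 628176 (.split 5 (-3479) (.div 5) (.split 1 3553 (.split 3 3517
    (.splitN 416868 (.split 1 636 (.split 5 (-662) (.lin 0) (.split 3 700 (.split 3 646 (.split 3
    601 (.splitN 343408 (.split 1 575 (.split 5 (-554) (.lin 4) (.split 3 565 (.split 0 (-29)
    (.split 2 18 (.lin 3) (.split 4 61 (.split 7 (-55) (.split 3 90 (.wt 2) (.split 1 123 (.lin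
    11) (.split 5 (-85) (.split 0 (-37) (.wt 2) (.split 5 (-94) (.split 3 114 (.wt 2) (.split 5
    (-112) (.split 3 120 (.wt 2) (.split 5 (-121) (.split 4 26 (.wt 2) (.split 2 27 (.lin 3)
    (.split 7 (-64) (.splitN 99538 (.split 3 162 (.wt 2) (.split 1 195 (.lin 11) (.split 5 (-166)
    .sq (.lin 4)))) (.wt 3)) (.lin 12)))) (.lin 7))) (.lin 7))) (.lin 4))) (.lin 4)))) (.lin 12))
    (.lin 12))) (.split 5 (-67) (.splitN 221449 (.split 1 457 (.split 5 (-491) (.lin 0) (.split 3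
    529 (.split 5 (-437) (.lin 4) (.split 3 430 (.split 6 30 (.split 2 18 (.lin 3) (.split 3 88
    (.wt 2) (.split 5 (-103) (.split 3 99 (.wt 2) (.split 5 (-112) (.split 4 25 (.wt 2) (.split 2
    27 (.lin 3) (.split 7 (-55) (.split 3 138 (.wt 2) (.split 5 (-148) (.split 3 149 (.wt 2)
    (.split 5 (-157) (.split 1 177 (.lin 11) (.splitN 85175 .sq (.split 7 (-88) (.wt 0) (.split 2
    55 (.split 4 61 (.split 3 169 (.wt 2) (.split 5 (-184) (.split 1 204 (.lin 11) (.splitN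
    113606 .sq (.split 4 39 (.wt 0) (.split 2 36 (.lin 3) (.split 7 (-64) (.splitN 115246 .sq
    (.wt 0)) (.lin 9)))))) (.lin 7))) (.lin 3)) (.lin 9))))) (.lin 7))) (.lin 7))) (.lin 9))))
    (.lin 7))) (.lin 7)))) (.split 2 55 (.splitN 122808 .cand (.wt 1)) (.lin 3))) (.lin 7)))
    (.lin 6))) .sq) (.wt 1)) (.lin 4))) (.lin 7))) .sq) (.wt 3)) (.lin 11)) (.lin 2)) (.lin 6)))
    .sq) (.wt 3)) (.lin 6)) (.lin 0))) (.wt 1)) (.lin 12)) (.lin 9)))

def cert5_101_2 : Cert :=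
  (.split 1 1166 (.split 3 1141 (.split 7 (-1167) .sq (.split 4 1132 (.split 4 89 (.splitN 375659
    (.split 0 (-608) .sq (.split 2 676 (.split 1 718 (.split 1 619 (.split 3 601 (.splitN 338686
    (.split 0 (-578) .sq (.split 3 565 (.split 4 24 (.splitN 81439 (.split 0 (-272) .sq (.split 2
    262 (.split 1 304 (.split 3 259 (.split 6 26 (.split 5 (-10) (.wt 2) (.split 0 (-38) (.split
    2 27 (.lin 10) (.split 7 (-46) (.splitN 44520 (.split 2 238 (.split 3 232 (.split 3 35 (.wt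
    2) (.split 7 (-64) (.split 0 (-56) (.split 2 36 (.lin 9) (.split 2 45 (.lin 10) (.splitN
    38643 (.split 2 202 (.split 0 (-219) (.lin 3) (.split 3 205 (.splitN 35400 (.split 2 184
    (.split 1 205 (.split 0 (-201) (.lin 3) (.split 3 187 (.split 0 (-118) (.wt 2) (.split 2 109
    (.split 1 133 (.split 3 97 (.splitN 28450 (.wt 6) (.split 3 47 (.wt 0) (.split 7 (-73)
    (.split 0 (-65) (.wt 2) (.lin 7)) (.lin 6)))) (.lin 7)) (.lin 0)) (.lin 3))) (.lin 7))) (.lin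
    0)) (.div 2)) (.wt 3)) (.lin 7))) (.div 2)) (.wt 0)))) (.lin 7)) (.lin 6))) (.lin 10)) (.div
    2)) (.wt 3)) (.lin 6))) (.lin 4))) (.split 0 (-38) (.split 0 (-47) (.split 7 (-55) (.split 3
    25 (.wt 2) (.split 7 (-64) (.split 2 27 (.lin 9) (.split 1 69 (.lin 11) (.split 5 (-8) (.wt
    2) (.split 2 36 (.lin 0) (.split 0 (-65) (.split 7 (-73) (.splitN 32118 (.split 2 166 (.split
    0 (-192) (.lin 3) (.split 3 160 (.split 7 (-209) (.lin 6) (.split 3 34 (.wt 2) (.split 7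
    (-82) (.split 0 (-74) (.split 2 45 (.lin 9) (.split 1 78 (.lin 11) (.splitN 23696 .sq (.split
    4 8 (.wt 0) (.split 7 (-91) (.split 3 110 (.split 7 (-155) (.lin 6) (.split 0 (-138) (.lin 7)
    (.split 1 142 (.split 2 118 (.splitN 29648 (.split 3 82 (.split 7 (-128) (.lin 6) (.split 0
    (-111) (.lin 7) (.split 3 59 (.split 7 (-101) (.lin 6) (.split 0 (-84) (.lin 7) (.wt 0)))
    (.wt 0)))) (.wt 0)) (.wt 1)) (.lin 9)) (.lin 8)))) (.wt 2)) (.lin 6)))))) (.lin 7)) (.lin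
    6)))) (.lin 7))) (.div 2)) (.wt 1)) (.lin 6)) (.lin 4)))))) (.lin 6))) (.lin 6)) (.lin 7))
    (.lin 3))) (.lin 7)) (.lin 0)) (.lin 3))) (.wt 3)) (.split 7 (-55) (.split 2 36 (.lin 10)
    (.splitN 116067 (.split 0 (-327) .sq (.split 2 397 (.split 1 421 (.split 1 340 (.split 3 322
    (.split 7 (-416) (.lin 12) (.splitN 23483 (.wt 1) (.splitN 109956 (.split 7 (-320) .sq
    (.split 3 286 (.split 1 304 (.split 6 26 (.splitN 93629 (.split 1 290 (.split 3 268 (.split 7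
    (-293) .sq (.split 2 271 (.split 5 (-8) (.splitN 54688 (.wt 6) (.split 0 (-74) (.wt 0)
    (.split 3 61 (.wt 2) (.lin 7)))) (.split 0 (-38) (.split 3 250 (.split 2 45 (.lin 10) (.split
    7 (-64) (.splitN 58452 (.split 7 (-221) .sq (.split 3 178 (.split 6 21 (.wt 2) .cand) (.lin
    6))) (.wt 3)) (.lin 6))) (.lin 6)) (.lin 4))) (.lin 9))) (.lin 11)) .sq) (.wt 3)) (.split 3
    268 (.split 0 (-47) (.split 7 (-73) (.splitN 68790 .cand (.wt 3)) (.lin 6)) (.lin 7)) (.lin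
    6))) (.lin 8)) (.lin 6))) (.wt 3)))) (.lin 7)) (.lin 4)) (.lin 0)) (.lin 3))) (.wt 3))) (.lin
    6))) (.lin 7))) (.wt 3)) (.lin 7)) (.lin 4)) (.lin 0)) (.lin 3))) (.wt 3)) (.split 2 108
    (.lin 10) (.split 7 (-127) (.splitN 41039 .sq (.splitN 77214 (.split 2 418 (.split 1 367
    (.split 4 421 (.split 3 331 (.splitN 71653 (.split 0 (-170) .sq (.split 1 178 (.split 2 199
    (.split 3 115 (.split 4 187 (.splitN 61421 (.split 1 140 (.split 2 172 (.split 3 88 (.split 4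
    160 (.split 6 17 (.wt 0) (.split 7 (-136) (.split 0 (-38) (.splitN 45251 .sq (.splitN 52242
    (.split 3 30 (.wt 0) (.split 7 (-145) (.split 2 117 (.lin 10) (.split 1 60 (.lin 11) .sq))
    (.lin 6))) (.wt 5))) (.lin 7)) (.lin 6))) (.lin 10)) (.lin 10)) .sq) .sq) (.wt 3)) (.lin 10))
    (.lin 10)) .sq) (.lin 4))) (.wt 3)) (.lin 10)) (.lin 0)) (.lin 0)) (.div 2)) (.wt 3))) (.lin
    6)))) (.lin 6))) (.lin 11)) .sq)

def cert5_101_3 : Cert :=
  (.split 5 (-16) (.split 4 22 (.splitN 531809 (.split 1 5876 (.split 2 5851 (.split 5 (-5873)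
    (.lin 0) (.split 3 11698 (.split 5 (-2939) (.div 5) (.split 0 (-132) (.wt 2) (.split 2 127
    (.split 1 3094 (.split 3 3166 (.split 7 (-146) (.lin 12) (.splitN 466086 (.split 5 (-2579)
    (.div 5) (.split 1 2734 (.split 3 2698 (.split 0 (-128) (.wt 2) (.split 2 118 (.split 7
    (-137) (.lin 12) (.split 6 17 (.wt 2) (.split 1 678 (.split 5 (-662) (.lin 0) (.split 3 763
    (.split 3 646 (.splitN 380924 (.split 1 613 (.split 5 (-599) (.lin 0) (.split 3 583 (.split 2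
    9 (.split 0 (-30) (.lin 3) (.split 7 (-38) (.lin 9) (.split 5 (-31) (.splitN 73372 (.split 5
    (-401) (.div 5) (.split 3 403 (.splitN 49734 (.split 5 (-275) (.div 5) (.split 1 304 (.splitN
    49277 (.split 3 25 (.wt 2) (.split 1 60 (.lin 2) (.split 5 (-40) (.split 1 203 (.split 4 11
    (.splitN 27646 (.split 5 (-149) (.div 5) (.split 3 142 (.splitN 23686 (.wt 6) (.split 0 (-21)
    (.wt 0) (.split 6 26 (.wt 0) (.lin 3)))) (.lin 10))) (.wt 0)) (.split 0 (-21) (.lin 3)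
    (.split 6 34 (.lin 3) (.split 7 (-37) (.splitN 28597 (.wt 0) (.splitN 32460 (.split 3 38
    (.split 1 70 (.wt 0) (.lin 2)) (.wt 0)) (.wt 1))) (.lin 9))))) .sq) (.lin 10)))) (.wt 1))
    (.lin 0))) (.wt 1)) (.lin 6))) (.wt 0)) (.lin 10)))) (.split 7 (-37) (.split 0 (-37) (.wt 2)
    (.split 2 19 (.split 7 (-47) (.lin 12) (.splitN 111166 (.split 3 40 (.wt 2) (.split 5 (-31)
    (.split 3 50 (.wt 2) (.split 5 (-49) (.split 3 53 (.wt 2) (.split 5 (-58) (.split 4 7 (.wt 2)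
    (.split 1 317 (.split 5 (-293) (.lin 0) (.split 3 295 (.split 0 (-28) (.wt 2) (.split 2 10
    (.split 5 (-67) (.split 6 26 (.split 7 (-38) (.lin 9) (.splitN 77564 (.wt 1) (.wt 0))) (.lin
    3)) (.lin 1)) (.lin 3))) (.lin 6))) .sq)) (.lin 7))) (.lin 7))) (.lin 1))) (.wt 3))) (.lin
    3))) (.lin 9))) (.lin 11))) .sq) (.wt 3)) (.lin 11)) (.lin 6))) .sq))) (.lin 3))) (.lin 6))
    (.lin 0))) (.wt 3))) (.lin 1)) (.lin 0)) (.lin 3)))) (.lin 2))) (.lin 0)) (.div 1)) (.wt 3))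
    (.split 2 9 (.lin 3) (.split 7 (-46) (.split 0 (-116) (.wt 2) (.split 6 17 (.wt 2) (.split 1
    51 (.lin 11) (.split 0 (-47) (.split 2 36 (.lin 3) (.split 7 (-73) (.splitN 106837 (.split 1
    1160 (.split 5 (-1112) (.lin 4) (.split 3 1195 (.split 2 580 (.split 4 565 (.split 5 (-581)
    (.div 5) (.split 1 691 (.split 3 664 (.splitN 92918 (.split 2 508 (.split 4 493 (.split 5
    (-509) (.div 5) (.split 3 592 (.splitN 58064 (.wt 6) (.split 3 57 (.wt 0) (.split 1 87 (.lin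
    11) (.split 4 37 (.wt 0) (.split 2 54 (.lin 3) (.split 7 (-91) (.splitN 76729 (.split 2 418
    (.split 4 403 (.split 5 (-419) (.div 5) (.split 1 529 (.split 3 502 (.splitN 65780 (.wt 6)
    (.split 0 (-56) (.wt 0) (.split 5 (-40) (.wt 2) (.lin 4)))) (.lin 7)) (.lin 4))) (.lin 3))
    (.div 2)) (.wt 0)) (.lin 12))))))) (.lin 7))) (.lin 3)) (.div 2)) (.wt 0)) (.lin 7)) (.lin
    4))) (.lin 3)) (.div 2)) (.lin 7))) (.div 1)) (.wt 0)) (.lin 12))) (.split 3 58 (.split 5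
    (-68) (.lin 7) (.split 1 88 (.splitN 434884 (.split 2 2416 (.split 4 2464 (.splitN 187959
    (.split 2 1030 (.split 4 1078 (.split 0 (-32) (.wt 2) (.split 3 25 (.wt 2) (.split 5 (-31)
    (.split 1 60 (.lin 11) (.split 0 (-29) (.wt 2) (.split 5 (-40) (.split 6 26 (.wt 2) .cand)
    (.lin 4)))) (.lin 7)))) (.lin 0)) (.div 2)) (.wt 3)) (.lin 0)) (.div 2)) (.wt 0)) (.lin 11)))
    (.split 5 (-49) (.split 1 87 (.lin 11) cert5_101_1) (.lin 7))))))) (.lin 12)))) (.split 0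
    (-29) (.split 2 18 (.lin 10) (.split 7 (-37) (.splitN 3741847 (.split 2 20776 (.split 1 20815
    (.split 0 (-20802) (.lin 3) (.split 4 20779 (.split 3 20797 (.splitN 3398007 (.split 2 18868
    (.split 4 18871 (.split 0 (-1842) .sq (.split 1 1852 (.split 3 1834 (.splitN 2105947 (.split
    2 11686 (.split 4 11689 (.split 0 (-1449) .sq (.split 1 1456 (.split 3 1438 (.splitN 1868195
    (.split 0 (-1365) .sq (.split 1 1375 (.split 3 1357 (.split 2 1364 (.split 4 1366 (.splitN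
    1472058 (.split 0 (-1212) .sq (.split 1 1222 (.split 3 1204 (.split 2 1211 (.split 4 1213
    (.splitN 1367394 cert5_101_2 (.wt 3)) (.lin 0)) .sq) (.lin 7)) (.lin 4))) (.wt 3)) (.lin 0))
    .sq) (.lin 7)) (.lin 4))) (.wt 3)) (.lin 7)) (.lin 4))) (.lin 0)) (.div 2)) (.wt 3)) (.lin
    7)) (.lin 4))) (.lin 0)) (.div 2)) (.wt 3)) (.lin 7)) (.lin 0))) (.lin 0)) (.div 2)) (.wt 3))
    (.lin 6))) (.lin 4)))

def cert5_101_4 : Cert :=
  (.split 0 (-41) (.split 6 61 (.lin 3) (.split 1 150 (.lin 4) (.split 7 (-73) (.split 7 (-82)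
    (.split 3 28 (.wt 2) (.splitN 87344 (.split 1 243 (.split 5 (-194) (.lin 4) (.split 3 77
    (.split 7 (-91) (.split 6 79 (.lin 7) (.split 4 42 (.lin 10) (.split 5 (-176) (.lin 10)
    (.splitN 73129 (.split 1 203 (.split 7 (-182) (.lin 2) (.split 5 (-149) (.lin 4) (.split 6
    170 (.split 3 52 (.split 7 (-109) (.split 6 97 (.lin 7) (.split 4 60 (.lin 10) (.splitN 62081
    .sq (.wt 3)))) (.lin 1)) (.splitN 55970 .sq (.split 6 125 (.split 4 97 (.split 6 121 (.split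
    5 (-140) (.lin 7) (.split 7 (-128) (.wt 1) (.split 4 79 (.split 0 (-83) (.wt 0) (.split 6 106
    (.split 4 70 (.split 1 169 (.split 5 (-122) (.lin 4) (.splitN 61159 (.split 0 (-48) (.split 7
    (-100) (.split 1 159 (.lin 4) (.split 6 88 (.lin 7) .sq)) (.lin 1)) (.wt 1)) (.wt 1))) (.lin
    11)) (.lin 3)) (.wt 1))) (.lin 12)))) (.wt 1)) (.lin 3)) (.wt 1)))) (.lin 9)))) .sq) (.wt
    1))))) (.lin 1)) (.splitN 53684 .sq (.splitN 73194 (.split 1 202 (.split 5 (-149) (.lin 4)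
    (.split 6 89 (.split 4 61 (.splitN 67909 (.split 1 186 (.split 3 115 (.split 5 (-131) (.lin
    4) (.split 6 75 (.split 4 43 (.splitN 60587 (.split 1 167 (.split 3 97 (.split 5 (-113) (.lin
    4) (.split 0 (-54) (.wt 2) (.split 6 63 (.wt 2) (.split 3 88 (.splitN 58993 (.split 4 35 (.wt
    0) (.split 2 18 (.lin 3) (.split 7 (-91) .sq (.lin 9)))) (.wt 0)) (.lin 7))))) (.lin 2)) .sq)
    (.wt 3)) (.lin 3)) (.split 7 (-91) (.split 1 159 (.lin 11) (.splitN 60596 .sq (.wt 1))) (.lin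
    9)))) (.lin 2)) .sq) (.wt 1)) (.lin 3)) (.split 7 (-109) (.split 1 177 (.lin 11) .sq) (.lin
    9)))) .sq) (.wt 1))))) .sq) (.wt 1))) (.lin 12)) (.lin 9)))) (.split 6 143 (.split 7 (-164)
    (.lin 9) (.split 7 (-155) (.lin 12) (.splitN 145545 (.split 1 354 (.split 5 (-329) (.lin 4)
    (.split 3 88 (.split 5 (-212) (.lin 1) (.split 1 232 (.split 6 79 (.split 4 70 (.split 1 160
    (.split 5 (-176) (.lin 0) (.split 5 (-140) (.lin 4) (.split 3 51 (.lin 7) (.split 7 (-92)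
    (.lin 9) (.split 0 (-21) (.split 4 61 (.split 3 60 (.lin 7) (.split 7 (-64) (.split 6 57
    (.split 1 142 (.split 5 (-113) (.lin 4) (.split 3 78 (.lin 7) (.split 7 (-74) (.lin 9)
    (.splitN 54895 (.wt 1) (.split 0 (-34) (.split 2 18 (.lin 3) (.split 3 87 (.lin 1) (.split 5
    (-104) (.lin 1) (.split 7 (-73) (.split 1 141 (.lin 2) (.split 4 34 (.wt 0) (.lin 0))) (.lin
    1))))) (.split 6 48 (.split 2 18 (.lin 3) (.split 1 133 (.split 4 34 (.split 3 87 (.lin 6)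
    (.split 5 (-104) (.lin 0) (.split 7 (-65) (.lin 1) (.splitN 65313 (.wt 0) (.wt 0))))) (.lin
    3)) (.lin 11))) (.wt 2))))))) (.lin 11)) (.split 7 (-73) (.splitN 65592 (.split 0 (-30) .cand
    (.wt 2)) (.wt 1)) (.lin 9))) (.lin 12))) (.lin 3)) (.wt 2)))))) (.lin 11)) (.lin 3)) (.split
    4 51 (.lin 3) (.split 3 63 (.split 1 205 (.split 5 (-167) (.lin 10) (.split 0 (-29) (.split 1
    132 (.lin 4) (.split 3 43 (.split 1 187 (.split 7 (-100) (.split 4 60 (.lin 5) (.split 6 88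
    (.lin 7) (.split 4 69 (.lin 10) (.split 5 (-149) (.lin 10) (.splitN 52685 .sq (.split 3 34
    (.split 7 (-109) (.split 6 97 (.lin 7) (.split 4 78 (.lin 10) (.splitN 57590 .sq (.split 0
    (-38) (.wt 0) (.split 6 134 (.split 3 26 (.wt 0) (.wt 1)) (.lin 3)))))) (.lin 1)) (.splitN
    58805 (.split 6 115 (.split 1 151 (.split 7 (-128) (.lin 2) (.split 5 (-131) (.lin 1) (.split
    0 (-30) (.split 7 (-109) (.split 6 97 (.lin 7) .sq) (.lin 1)) (.wt 0)))) (.lin 11)) (.wt 1))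
    (.wt 1)))))))) (.lin 1)) (.lin 2)) (.split 0 (-34) (.split 1 141 (.lin 4) (.split 4 96
    (.split 6 116 (.split 1 178 (.split 5 (-140) (.lin 4) (.split 7 (-128) (.lin 12) (.splitN
    58761 (.split 3 56 (.split 7 (-100) (.split 4 60 (.lin 5) (.split 6 88 (.lin 7) .sq)) (.lin
    1)) (.wt 2)) (.wt 6)))) (.lin 11)) (.lin 3)) (.wt 2))) (.wt 2)))) (.split 4 69 (.lin 3)
    (.split 7 (-137) (.lin 12) (.wt 2))))) (.lin 2)) (.wt 2)))) (.lin 2))) (.split 1 132 (.lin 2)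
    (.split 1 141 (.lin 11) (.split 5 (-112) (.split 0 (-24) (.split 7 (-64) (.split 6 72 (.split
    7 (-92) (.lin 9) (.split 6 64 (.split 4 52 (.split 7 (-83) (.lin 9) (.splitN 81421 (.split 1
    219 (.split 3 169 (.split 5 (-185) (.lin 4) (.split 6 61 (.split 7 (-74) (.lin 9) (.split 0
    (-34) (.split 2 18 (.lin 3) (.split 4 34 (.split 6 52 (.lin 3) (.split 3 160 (.split 7 (-73)
    (.splitN 64973 (.splitN 59924 (.wt 1) (.split 3 124 (.wt 0) (.split 5 (-148) .sq (.lin 1))))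
    (.wt 0)) (.lin 9)) (.lin 5))) (.lin 3))) (.split 3 117 (.split 5 (-149) (.lin 1) (.split 1
    169 (.split 5 (-140) (.lin 4) (.split 3 112 (.split 5 (-131) (.lin 7) (.split 4 39 (.split 7
    (-65) (.lin 12) (.wt 2)) (.wt 2))) (.wt 2))) (.lin 11))) (.wt 2)))) (.wt 2))) (.lin 2)) .sq)
    (.wt 1))) (.lin 3)) (.wt 2))) (.wt 2)) (.lin 12)) (.wt 2)) (.lin 10)))))) .sq) (.wt 1))))
    (.lin 3)))

def cert5_101_5 : Cert :=
  (.split 3 88 (.split 5 (-230) (.lin 1) (.split 1 250 (.split 2 100 (.split 4 42 (.lin 10)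
    (.split 5 (-176) (.lin 10) (.split 0 (-39) (.split 7 (-91) (.split 1 150 (.lin 4) (.split 6
    61 (.lin 7) (.splitN 51002 .sq (.splitN 77729 (.split 3 26 (.wt 0) (.split 1 215 (.split 7
    (-179) .sq (.split 6 143 (.split 3 34 (.wt 2) (.split 6 102 (.split 3 51 (.lin 7) (.split 1
    187 (.split 5 (-140) (.lin 4) (.split 6 80 (.split 0 (-66) (.lin 7) (.split 1 169 (.split 5
    (-122) (.lin 4) (.split 3 69 (.lin 7) (.splitN 70556 (.split 7 (-148) .sq (.split 2 82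
    (.split 4 97 (.split 6 71 (.split 1 160 (.split 5 (-113) (.lin 4) (.split 3 78 (.lin 7)
    (.splitN 56618 .sq (.split 4 44 (.wt 0) (.split 7 (-100) (.splitN 59192 .sq (.splitN 64780
    (.split 4 64 (.wt 0) (.split 7 (-118) .sq (.lin 12))) (.wt 3))) (.lin 12)))))) (.lin 11))
    (.split 2 64 (.split 7 (-109) (.splitN 61433 .sq (.wt 1)) (.lin 9)) (.lin 9))) (.lin 12))
    (.lin 1))) (.wt 3)))) (.lin 11))) (.split 7 (-118) (.splitN 62801 .sq (.wt 1)) (.lin 9))))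
    (.lin 11))) (.split 4 60 (.lin 3) (.split 7 (-136) (.splitN 71918 .sq (.wt 1)) (.lin 9)))))
    (.lin 9))) .sq)) (.wt 3))))) (.lin 1)) (.split 6 125 (.split 1 214 (.split 7 (-155) (.lin 12)
    (.splitN 39959 (.wt 1) (.split 3 46 (.split 2 55 (.split 7 (-109) (.split 6 79 (.lin 7)
    (.split 4 87 (.lin 10) (.split 5 (-131) (.lin 10) (.splitN 53819 .sq (.split 0 (-21) (.split
    7 (-118) (.split 1 132 (.lin 4) (.split 6 88 (.lin 7) (.splitN 60137 .sq (.split 3 28 (.wt 0)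
    (.wt 1))))) (.lin 1)) (.wt 6)))))) (.lin 1)) (.lin 10)) (.split 6 105 (.split 5 (-167) (.lin
    7) (.split 1 187 (.split 0 (-29) (.split 1 132 (.lin 4) (.split 6 71 (.split 3 60 (.lin 7)
    (.split 1 160 (.split 5 (-131) (.lin 4) (.split 6 57 (.split 3 78 (.lin 7) (.split 1 142
    (.split 5 (-113) (.lin 4) (.split 7 (-114) (.split 2 63 (.lin 9) (.split 4 69 (.lin 0)
    (.splitN 61577 .sq (.split 0 (-38) (.wt 0) (.split 4 87 (.lin 12) (.split 6 50 (.split 2 72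
    (.lin 3) (.split 3 87 (.lin 7) (.splitN 65816 .sq (.wt 0)))) (.wt 1))))))) (.split 2 64
    (.split 4 79 (.split 0 (-34) (.split 2 55 (.split 7 (-82) (.split 4 70 (.split 1 141 (.lin 4)
    (.split 5 (-104) (.lin 4) (.splitN 64814 (.wt 6) (.split 4 61 (.wt 0) (.split 2 54 (.lin 0)
    (.split 7 (-109) (.wt 0) (.lin 1))))))) (.lin 3)) (.lin 1)) (.lin 1)) (.split 6 50 (.split 3
    87 (.lin 7) (.split 1 133 (.split 5 (-104) (.lin 4) (.split 4 43 (.wt 2) (.split 2 36 (.lin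
    0) (.split 7 (-82) (.splitN 70520 .cand (.wt 1)) (.lin 1))))) (.lin 11))) (.wt 2))) (.lin
    12)) (.lin 1)))) (.lin 11))) (.split 4 51 (.lin 3) (.split 7 (-91) (.split 0 (-30) (.split 1
    141 (.lin 4) (.split 5 (-122) (.lin 4) (.split 3 69 (.lin 7) (.splitN 52730 .sq (.split 6 70
    (.split 3 78 (.lin 7) (.split 1 151 (.split 5 (-113) (.lin 4) (.split 4 83 (.split 2 64
    (.split 2 55 (.split 7 (-119) (.lin 9) (.splitN 60591 (.split 4 74 (.split 2 46 (.split 7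
    (-110) (.lin 9) (.split 4 63 (.split 2 37 (.split 7 (-101) (.lin 9) (.wt 2)) (.lin 3)) (.wt
    0))) (.lin 3)) (.wt 0)) (.wt 6))) (.lin 3)) (.lin 0)) (.wt 2))) (.lin 11))) (.wt 6)))))) (.wt
    2)) (.lin 9))))) (.lin 11))) (.split 2 73 (.split 4 69 (.lin 3) (.split 7 (-109) (.splitN
    55808 .sq (.splitN 60699 (.split 0 (-30) (.split 1 141 (.lin 4) (.split 5 (-149) (.lin 4)
    (.split 3 78 (.split 5 (-131) (.lin 7) (.split 2 35 (.wt 1) (.split 4 78 (.lin 3) (.split 7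
    (-118) .sq (.lin 9))))) (.wt 0)))) (.wt 0)) (.wt 1))) (.lin 9))) (.lin 3)))) (.split 4 51
    (.lin 3) (.split 7 (-137) (.lin 12) (.wt 2)))) (.lin 11))) (.wt 2))))) (.lin 11)) (.lin
    3))))) (.lin 10)) (.lin 2))) (.split 1 141 (.lin 11) (.splitN 102362 (.split 0 (-23) (.split
    1 266 (.split 5 (-230) (.lin 4) (.split 3 214 (.split 6 79 (.split 0 (-52) (.split 1 159
    (.lin 4) (.split 7 (-91) (.splitN 60911 .sq (.splitN 75078 (.split 4 37 (.wt 0) (.split 7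
    (-100) (.split 6 45 (.wt 0) (.split 2 136 (.split 4 48 (.wt 3) (.split 2 36 (.lin 3) (.split
    7 (-109) (.splitN 67517 .sq (.split 0 (-71) (.wt 0) (.split 3 119 (.wt 0) (.split 5 (-112)
    .sq (.lin 7))))) (.lin 12)))) (.lin 3))) (.lin 12))) (.wt 3))) (.lin 12))) (.split 2 118
    (.splitN 91935 (.split 1 247 (.split 5 (-212) (.lin 4) (.split 3 196 (.split 6 57 (.split 0
    (-38) (.split 7 (-118) (.split 2 63 (.lin 9) (.split 4 69 (.lin 12) (.splitN 66482 .sq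
    (.splitN 70267 (.split 0 (-45) (.wt 0) (.split 4 78 (.lin 12) (.split 3 110 (.wt 0) (.split 5
    (-121) .sq (.lin 7))))) (.wt 3))))) (.split 2 64 (.split 4 70 (.split 4 52 (.split 2 55
    (.splitN 76919 (.split 1 211 (.split 3 160 (.split 6 44 (.wt 2) .cand) (.lin 11)) .sq) (.wt
    3)) (.lin 3)) (.split 2 45 (.lin 3) (.split 7 (-100) (.splitN 59399 .sq (.splitN 74948
    (.split 1 181 (.split 3 133 (.splitN 68317 (.split 0 (-45) (.wt 0) (.split 6 44 (.wt 0)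
    (.split 1 150 (.lin 11) (.split 5 (-112) (.split 3 97 (.wt 2) (.split 5 (-121) .sq (.lin 7)))
    (.lin 4))))) (.wt 0)) (.lin 11)) .sq) (.wt 0))) (.lin 12)))) (.lin 12)) (.lin 9))) .cand)
    (.split 2 100 (.split 1 159 (.lin 11) (.split 4 42 (.lin 3) (.split 5 (-112) (.split 7 (-91)
    (.splitN 63152 .sq (.splitN 69006 (.split 0 (-35) (.split 4 56 (.wt 1) (.split 7 (-100)
    (.split 0 (-41) (.split 2 36 (.lin 3) (.split 7 (-109) .sq (.lin 12))) (.wt 1)) (.lin 12)))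
    (.wt 1)) (.wt 1))) (.lin 9)) (.lin 4)))) (.lin 3))) (.lin 11))) .sq) (.wt 1)) (.lin 3)))
    (.split 1 177 (.lin 11) (.split 7 (-109) (.splitN 72764 .sq (.wt 1)) (.lin 9)))) (.lin 11)))
    .sq) (.wt 2)) (.wt 1))))

def cert5_101_6 : Cert :=
  (.split 0 (-1017) .sq (.split 2 1081 (.splitN 989831 (.split 1 986 (.split 0 (-876) (.lin 4)
    (.split 5 (-1049) (.lin 0) (.split 5 (-959) (.lin 4) (.splitN 882610 (.split 1 930 (.split 5
    (-905) (.lin 4) (.split 4 28 (.split 2 802 (.split 3 78 (.lin 10) (.splitN 36728 .sq (.splitN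
    144287 (.split 0 (-328) .sq (.split 2 307 (.split 6 350 (.split 7 (-353) (.lin 12) (.split 1
    349 (.split 2 226 (.split 5 (-329) (.lin 0) (.split 3 628 (.split 3 529 (.split 3 304
    (.splitN 130804 (.split 1 330 (.split 3 277 (.split 2 14 (.splitN 101491 (.split 1 282
    (.split 5 (-257) (.lin 0) (.split 0 (-174) (.lin 4) (.split 3 241 (.split 4 13 (.split 1 141
    (.lin 0) (.split 0 (-38) (.split 3 96 (.lin 10) (.splitN 45728 .sq (.wt 0))) (.lin 3)))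
    (.split 2 3 (.wt 1) (.split 0 (-29) (.split 7 (-55) (.split 3 87 (.lin 10) (.splitN 84805
    (.split 1 239 (.split 5 (-203) (.lin 0) (.split 6 143 (.split 3 187 (.split 6 79 (.split 0
    (-47) (.split 6 52 (.lin 3) (.split 1 150 (.lin 4) (.split 7 (-64) (.splitN 50624 .sq (.split
    4 18 (.wt 0) (.split 6 61 (.lin 3) (.split 3 169 (.split 7 (-73) (.splitN 53261 .sq (.wt 0))
    (.lin 9)) (.lin 5))))) (.lin 9)))) (.split 6 53 (.split 7 (-65) (.lin 9) (.splitN 70377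
    (.splitN 47737 (.wt 1) (.split 4 20 (.split 0 (-38) (.split 6 44 (.wt 0) (.lin 3)) (.lin 3))
    .cand)) (.wt 1))) (.lin 3))) (.split 1 168 (.lin 0) (.split 0 (-65) (.split 7 (-91) (.splitN
    66176 .sq (.wt 0)) (.lin 9)) (.lin 3)))) (.lin 2)) (.lin 0))) .sq) (.wt 1))) (.lin 9)) (.lin
    3)))) (.lin 2)))) .sq) (.wt 1)) (.split 1 141 (.lin 0) (.split 0 (-38) (.split 6 224 (.split
    7 (-64) (.split 3 96 (.lin 10) (.splitN 48068 .sq (.split 4 9 (.wt 0) (.split 6 46 (.wt 2)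
    (.split 1 150 (.lin 0) (.split 0 (-47) (.split 7 (-73) (.splitN 53783 .sq (.split 7 (-233)
    (.wt 0) (.split 6 206 (.split 6 57 (.wt 2) (.split 1 159 (.lin 0) (.split 0 (-56) (.split 2
    163 (.split 5 (-266) (.lin 0) (.split 7 (-82) (.split 3 259 (.splitN 59939 .sq (.wt 3)) (.lin
    11)) (.lin 9))) (.lin 9)) (.lin 3)))) (.lin 9)))) (.lin 9)) (.lin 3))))))) (.lin 9)) (.lin
    0)) (.lin 3)))) (.lin 11)) .sq) (.wt 1)) (.lin 11)) (.lin 2)) (.lin 6))) (.lin 0)) .sq))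
    (.lin 3)) (.lin 3))) (.wt 1)))) (.lin 0)) (.split 7 (-55) (.splitN 33128 .sq (.splitN 367385
    (.split 0 (-579) .sq (.split 2 649 (.split 1 590 (.split 2 550 (.split 0 (-480) (.lin 4)
    (.split 5 (-563) (.lin 4) (.splitN 339160 (.split 7 (-555) .sq (.split 2 505 (.split 2 22
    (.splitN 245780 (.split 1 475 (.split 5 (-455) (.lin 4) (.split 2 4 (.split 6 52 (.lin 3)
    (.splitN 37801 (.split 1 404 (.split 5 (-203) (.div 5) (.split 0 (-103) (.split 6 142 (.lin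
    3) (.split 7 (-145) .sq (.lin 9))) (.wt 1))) (.div 1)) (.wt 1))) (.split 0 (-87) (.split 6
    106 (.lin 3) (.split 1 195 (.lin 4) (.split 7 (-118) (.split 7 (-127) (.splitN 86948 .sq (.wt
    1)) (.lin 12)) (.lin 9)))) (.split 6 188 (.split 7 (-209) (.lin 9) (.splitN 190901 (.split 1
    413 (.split 5 (-392) (.lin 4) cert5_101_4) .sq) (.wt 1))) (.lin 3))))) .sq) (.wt 1)) (.split
    7 (-73) (.splitN 202891 (.split 1 425 (.split 2 388 (.split 5 (-464) (.lin 0) (.split 6 404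
    (.split 5 (-401) (.lin 4) (.split 3 376 (.split 7 (-414) .sq (.split 6 377 (.split 0 (-80)
    (.split 1 186 (.lin 4) (.split 5 (-338) (.lin 4) (.split 7 (-118) (.splitN 70892 .sq (.splitN
    73718 (.split 3 64 (.wt 0) .sq) (.wt 3))) (.lin 12)))) (.split 2 145 (.split 6 161 (.split 7
    (-191) (.lin 12) (.splitN 155803 (.split 1 363 (.split 5 (-338) (.lin 4) cert5_101_5) .sq)
    (.wt 1))) (.lin 3)) (.lin 3))) (.lin 9))) (.lin 11))) (.lin 0))) (.lin 0)) .sq) (.wt 1))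
    (.lin 9))) (.lin 9))) (.wt 1)))) (.lin 0)) .sq) (.lin 3))) (.wt 1))) (.lin 12)))) .sq) (.wt
    1))))) .sq) (.wt 1)) (.lin 3)))

def cert5_101_7 : Cert :=
  (.split 0 (-43) (.split 6 52 (.lin 3) (.split 1 78 (.lin 11) (.split 7 (-64) (.split 7 (-73)
    (.split 3 27 (.wt 2) (.split 5 (-40) (.split 6 102 (.split 3 35 (.wt 2) (.split 5 (-49)
    (.split 6 75 (.split 1 160 (.split 4 43 (.split 7 (-92) (.lin 9) (.split 3 60 (.wt 2) (.split
    5 (-67) (.split 3 65 (.wt 2) (.split 5 (-76) (.split 0 (-56) (.wt 2) (.split 1 142 (.split 4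
    29 (.wt 2) (.split 6 61 (.lin 3) (.split 1 132 (.lin 11) (.split 5 (-85) (.split 3 79 (.split
    7 (-82) (.splitN 50809 (.wt 1) (.split 2 16 (.split 3 70 (.split 1 141 (.lin 2) (.split 4 34
    (.split 5 (-94) (.wt 0) (.lin 0)) (.lin 0))) (.lin 1)) (.wt 2))) (.lin 12)) (.lin 5)) (.lin
    4))))) (.lin 4))) (.lin 10))) (.lin 10)))) (.lin 3)) (.lin 0)) (.split 7 (-91) (.split 4 47
    (.split 3 45 (.wt 2) (.split 5 (-58) (.split 1 132 (.lin 11) (.split 0 (-65) (.splitN 54745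
    (.split 3 65 (.wt 2) (.split 1 150 (.lin 11) (.split 5 (-76) .sq (.lin 10)))) (.wt 3))
    (.split 6 89 (.split 1 151 (.split 5 (-76) (.split 3 70 (.split 0 (-56) (.wt 2) (.split 2 10
    (.split 3 61 (.split 4 42 (.lin 3) (.split 6 80 (.split 7 (-92) (.lin 9) (.splitN 50243 (.wt
    1) (.wt 0))) (.lin 3))) (.lin 1)) (.lin 3))) (.lin 7)) (.lin 4)) (.lin 4)) (.lin 3)))) (.lin
    10))) (.split 1 160 (.split 3 61 (.split 5 (-76) (.split 7 (-100) (.splitN 57891 (.split 0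
    (-63) (.wt 2) (.split 3 45 (.wt 2) (.split 4 61 (.split 5 (-85) (.split 6 89 (.split 0 (-54)
    (.wt 2) (.split 1 142 (.splitN 55710 (.split 3 52 (.wt 2) (.split 2 18 (.lin 1) (.split 1 141
    (.lin 2) (.split 5 (-94) .sq (.lin 1))))) (.wt 3)) (.lin 4))) (.split 7 (-109) (.split 1 150
    (.lin 11) (.split 5 (-94) .sq (.lin 4))) (.lin 6))) (.lin 10)) (.lin 10)))) (.wt 3)) (.lin
    12)) (.lin 10)) (.lin 10)) (.lin 0))) (.lin 9))) (.lin 10))) (.split 1 141 (.lin 11) (.split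
    5 (-49) (.split 7 (-118) (.splitN 52028 .sq (.split 3 37 (.wt 0) (.split 1 150 (.lin 11)
    (.split 5 (-58) (.splitN 57248 .sq (.wt 1)) (.lin 4))))) (.lin 9)) (.lin 4)))) (.lin 10)))
    (.lin 12)) (.lin 9)))) (.split 7 (-128) (.lin 1) (.split 6 98 (.split 1 133 (.split 7 (-110)
    (.lin 12) (.split 3 46 (.split 0 (-29) (.splitN 89661 (.split 6 71 (.split 4 61 (.split 3 26
    (.wt 2) (.split 5 (-40) (.split 6 46 (.wt 2) (.split 5 (-49) (.split 1 87 (.lin 11) (.split 7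
    (-64) (.split 4 43 (.split 5 (-77) (.lin 10) (.split 0 (-37) (.wt 2) (.split 6 62 (.split 1
    106 (.split 5 (-58) (.split 7 (-74) (.lin 12) (.split 3 37 (.wt 2) (.split 5 (-67) (.split 1
    96 (.lin 11) (.split 6 56 (.wt 2) (.split 2 10 (.split 1 105 (.lin 11) (.split 7 (-73)
    (.split 5 (-76) (.split 4 42 (.lin 0) (.splitN 56483 (.wt 0) (.wt 0))) (.lin 1)) (.lin 2)))
    (.lin 3)))) (.lin 7)))) (.lin 4)) (.lin 11)) (.lin 3)))) (.split 5 (-67) (.split 7 (-82)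
    (.split 0 (-35) (.wt 2) .cand) (.lin 12)) (.lin 10))) (.lin 9))) (.lin 7))) (.lin 7))) (.lin
    3)) (.split 4 51 (.lin 3) (.split 1 105 (.lin 11) (.split 7 (-73) (.split 5 (-67) (.split 7
    (-91) (.splitN 65341 (.splitN 46109 (.wt 1) (.split 3 27 (.wt 2) (.split 5 (-76) (.split 0
    (-34) (.split 3 35 (.wt 2) (.split 6 89 (.splitN 49940 (.wt 1) (.split 6 80 (.wt 2) (.split 1
    132 (.lin 11) (.split 7 (-100) (.split 5 (-94) (.splitN 55704 (.split 2 13 (.split 4 61 (.wt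
    0) (.lin 0)) (.wt 1)) (.wt 0)) (.lin 4)) (.lin 2))))) (.lin 7))) (.split 4 60 (.lin 3)
    (.split 7 (-101) (.lin 12) (.split 6 84 .cand (.wt 2))))) (.lin 7)))) (.wt 1)) (.lin 9))
    (.lin 4)) (.lin 2))))) (.wt 3)) (.split 4 33 (.lin 3) (.split 1 115 (.split 5 (-49) (.split 7
    (-92) (.lin 12) (.split 6 62 (.split 4 61 (.split 1 106 (.split 5 (-86) (.lin 4) (.split 7
    (-83) (.lin 9) (.split 3 34 (.split 5 (-77) (.lin 7) (.split 1 97 (.split 6 53 (.split 4 52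
    (.split 1 88 (.split 7 (-74) (.lin 9) (.split 3 29 (.wt 2) (.split 5 (-58) (.split 1 78 (.lin
    11) (.split 6 50 (.split 4 43 (.split 1 79 (.split 7 (-65) (.lin 2) (.split 5 (-59) (.lin 4)
    (.split 4 35 (.wt 2) (.split 2 18 (.lin 0) (.split 7 (-64) (.splitN 63275 (.wt 0) (.wt 0))
    (.lin 1)))))) (.lin 11)) (.lin 3)) (.wt 2))) (.lin 7)))) (.lin 11)) (.lin 3)) (.split 4 51
    (.lin 3) (.split 1 87 (.lin 11) (.split 5 (-67) (.split 7 (-73) (.splitN 62134 (.split 3 28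
    (.split 5 (-68) (.lin 7) (.split 1 88 (.split 7 (-82) (.wt 2) (.split 2 10 (.split 4 52
    (.splitN 56799 (.wt 0) (.wt 0)) (.lin 0)) (.lin 1))) (.lin 11))) (.wt 0)) (.wt 1)) (.lin 9))
    (.lin 4))))) (.lin 11))) (.split 1 87 (.lin 11) (.splitN 56933 (.wt 4) (.wt 6)))))) (.lin
    11)) (.lin 3)) (.split 4 60 (.lin 3) (.wt 2)))) (.lin 4)) (.lin 4)))) (.split 5 (-49) (.split
    1 96 (.lin 11) (.split 5 (-58) (.split 4 61 (.splitN 90905 (.split 0 (-29) (.split 6 62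
    (.split 7 (-83) (.lin 9) (.split 6 53 (.split 0 (-34) (.split 4 34 (.split 7 (-64) (.splitN
    57728 (.wt 6) (.split 1 98 (.wt 0) (.split 5 (-67) (.wt 2) (.lin 4)))) (.lin 12)) (.lin 3))
    .cand) (.split 4 33 (.lin 3) (.split 1 114 (.lin 11) (.split 5 (-67) (.split 3 70 (.split 7
    (-73) (.split 0 (-34) (.split 4 43 (.split 3 61 (.wt 2) (.split 1 132 (.lin 11) (.split 5
    (-94) (.split 4 36 (.wt 2) (.split 2 18 (.lin 0) (.split 7 (-82) (.splitN 57377 (.wt 0) (.wt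
    0)) (.lin 1)))) (.lin 4)))) (.lin 3)) (.split 4 42 (.lin 3) (.wt 2))) (.lin 9)) (.lin 7))
    (.lin 0)))))) (.split 4 42 (.lin 3) (.split 7 (-82) (.splitN 59920 (.split 0 (-33) .cand (.wt
    2)) (.wt 1)) (.lin 9)))) (.split 4 33 (.lin 3) (.wt 2))) (.wt 1)) (.lin 10)) (.lin 4))) (.lin
    1)))) (.lin 4)) (.lin 3))))

def cert5_101_8 : Cert :=
  (.split 0 (-41) (.split 3 27 (.wt 2) (.split 6 84 (.split 3 35 (.wt 2) (.split 1 87 (.lin 11)
    (.split 6 62 (.split 3 46 (.wt 2) (.split 1 96 (.lin 11) (.split 4 47 (.split 7 (-128) (.lin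
    12) (.split 3 53 (.wt 2) (.split 1 105 (.lin 11) (.split 6 53 (.split 0 (-67) (.wt 2) (.split
    1 160 (.split 5 (-40) (.split 3 115 (.wt 2) (.lin 7)) (.lin 4)) (.lin 4))) (.split 1 123
    (.lin 11) (.split 5 (-40) (.split 3 115 (.split 7 (-91) (.splitN 46507 (.wt 1) (.split 4 25
    (.wt 0) (.split 0 (-55) (.wt 2) (.split 2 28 (.split 1 151 (.split 5 (-67) (.split 3 79
    (.split 4 42 (.lin 3) (.split 7 (-92) (.lin 9) (.splitN 52032 (.wt 1) (.wt 0)))) (.lin 1))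
    (.lin 0)) (.lin 0)) (.lin 3))))) (.lin 9)) (.lin 7)) (.lin 4))))))) (.split 2 36 (.lin 3)
    (.split 7 (-100) (.split 3 52 (.wt 2) (.split 1 105 (.lin 11) (.split 6 53 (.split 2 45 (.lin
    3) (.split 0 (-68) (.wt 2) (.split 2 91 (.split 5 (-40) (.split 3 115 (.splitN 58876 (.wt 6)
    (.split 0 (-49) (.wt 0) (.split 3 97 (.wt 0) (.lin 7)))) (.lin 7)) (.lin 4)) (.lin 3))))
    (.split 1 123 (.lin 11) (.split 5 (-40) (.split 3 115 (.split 0 (-62) (.wt 2) (.split 5 (-67)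
    (.split 3 88 (.wt 2) (.lin 7)) (.lin 4))) (.lin 7)) (.lin 4)))))) (.lin 12)))))) (.split 2 82
    (.split 1 114 (.lin 11) (.split 5 (-31) (.split 3 106 (.split 7 (-100) (.splitN 64538 (.split
    3 44 (.wt 2) (.split 5 (-40) (.split 1 123 (.lin 11) (.split 4 47 (.split 0 (-56) (.split 0
    (-74) (.wt 2) (.split 4 33 (.lin 3) (.split 5 (-58) (.split 3 88 (.split 7 (-110) (.lin 12)
    (.splitN 50200 (.wt 1) (.split 0 (-61) (.wt 0) (.split 2 28 (.split 3 79 (.split 6 71 (.wt 0)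
    (.lin 3)) (.lin 1)) (.lin 3))))) (.lin 7)) (.lin 4)))) (.lin 3)) (.split 3 79 (.splitN 61748
    (.split 0 (-71) (.wt 2) (.split 5 (-58) (.split 0 (-63) (.wt 2) (.split 5 (-67) (.split 3 56
    (.wt 2) (.split 1 132 (.lin 11) (.split 3 70 (.split 0 (-54) (.wt 2) (.split 5 (-85) (.split
    6 71 (.wt 2) (.split 2 37 (.split 1 141 (.lin 11) (.split 4 60 (.lin 3) (.split 5 (-94)
    (.split 7 (-109) (.split 3 61 (.splitN 57716 .sq (.wt 0)) (.lin 7)) (.lin 6)) (.lin 4))))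
    (.lin 3))) (.lin 4))) (.split 7 (-109) (.split 2 36 (.lin 10) (.split 1 150 (.lin 11) (.split
    5 (-94) .sq (.lin 4)))) (.lin 6))))) (.lin 4))) (.lin 4))) (.wt 3)) (.split 2 45 (.lin 10)
    (.split 1 159 (.lin 11) (.split 5 (-76) (.split 7 (-118) .sq (.lin 6)) (.lin 4))))))) (.lin
    7))) (.wt 3)) (.lin 9)) (.lin 7)) (.lin 4))) (.lin 3))))) (.split 1 123 (.lin 11) (.split 4
    33 (.lin 3) (.split 5 (-40) (.split 3 88 (.split 7 (-118) (.splitN 61641 (.split 3 36 (.wt 2)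
    (.split 5 (-49) (.split 1 132 (.lin 11) (.split 3 61 (.splitN 58171 (.split 0 (-83) (.wt 2)
    (.split 6 116 (.split 5 (-58) (.split 0 (-72) (.wt 2) (.split 6 107 (.split 5 (-67) (.split 0
    (-63) (.wt 2) (.split 4 60 (.lin 3) (.split 6 98 (.split 5 (-76) (.splitN 53873 .sq (.split 0
    (-52) (.wt 0) (.split 2 28 (.split 5 (-85) (.split 4 69 (.lin 3) .sq) (.lin 1)) (.lin 3))))
    (.lin 4)) (.lin 3)))) (.lin 4)) (.lin 3))) (.lin 4)) (.lin 3))) (.wt 3)) (.split 1 159 (.lin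
    11) (.split 5 (-76) .sq (.lin 4))))) (.lin 7))) (.wt 3)) (.lin 9)) (.lin 7)) (.lin 4))))))
    (.split 2 64 (.split 6 80 (.split 1 133 (.split 5 (-31) (.split 3 88 (.split 7 (-110) (.lin
    12) (.splitN 103240 (.split 3 46 (.split 1 124 (.split 5 (-86) (.lin 10) (.split 0 (-29)
    (.split 3 26 (.wt 2) (.split 6 50 (.wt 2) (.split 1 87 (.lin 11) (.split 5 (-49) (.split 7
    (-82) (.split 6 54 (.wt 2) (.split 2 46 (.split 1 96 (.lin 11) (.split 5 (-58) (.split 7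
    (-91) (.split 0 (-38) (.wt 2) (.split 2 37 (.split 4 60 (.lin 3) (.split 6 71 (.split 1 115
    (.split 7 (-101) (.lin 12) (.splitN 62279 (.split 3 34 (.wt 2) (.split 5 (-76) (.split 1 105
    (.lin 11) (.splitN 55819 (.wt 0) (.split 6 70 (.split 5 (-77) (.lin 7) (.split 1 106 (.split
    7 (-97) (.wt 0) (.split 2 28 (.split 4 61 (.wt 0) (.lin 0)) (.lin 1))) (.lin 11))) (.wt 0))))
    (.lin 7))) (.wt 3))) (.lin 11)) (.lin 3))) (.lin 3))) (.lin 9)) (.lin 4))) (.lin 3))) (.lin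
    9)) (.lin 4))))) (.split 2 46 (.split 4 51 (.lin 3) (.split 6 62 (.split 1 106 (.split 5
    (-49) (.split 7 (-92) (.lin 12) (.split 3 41 (.split 5 (-77) (.lin 1) (.split 1 97 (.split 6
    53 (.split 1 88 (.split 3 25 (.wt 2) (.split 5 (-58) (.split 1 78 (.lin 11) (.split 6 48
    (.split 5 (-59) (.lin 7) (.splitN 60338 (.wt 1) (.split 7 (-85) (.wt 0) (.split 2 37 (.split
    4 61 (.wt 2) (.lin 0)) (.lin 1))))) (.wt 2))) (.lin 7))) (.lin 11)) (.split 2 28 (.split 1 87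
    (.lin 11) (.split 4 69 (.lin 3) (.split 5 (-67) (.split 7 (-91) (.splitN 57018 (.wt 0)
    (.splitN 59772 (.split 3 26 (.wt 0) (.wt 0)) (.wt 1))) (.lin 9)) (.lin 0)))) (.lin 3))) (.lin
    2))) (.wt 2))) (.lin 4)) (.lin 11)) (.lin 3))) (.lin 3)))) (.lin 2)) (.split 5 (-58) (.split
    1 96 (.lin 11) (.split 0 (-29) (.split 6 62 (.split 6 53 (.split 0 (-34) (.split 3 69 (.wt 2)
    (.split 5 (-76) (.splitN 58165 (.wt 6) (.split 4 35 (.wt 0) (.split 7 (-82) (.splitN 60196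
    (.wt 6) (.split 4 50 (.wt 0) (.split 2 36 (.lin 3) (.split 7 (-91) (.wt 2) (.lin 12)))))
    (.lin 12)))) (.lin 7))) .cand) (.split 2 46 (.split 1 114 (.lin 11) (.split 4 51 (.lin 3)
    (.split 5 (-76) (.split 3 70 (.split 7 (-91) (.split 0 (-34) (.split 3 61 (.wt 2) (.split 5
    (-94) (.split 1 132 (.lin 11) (.splitN 56427 (.wt 1) (.split 7 (-108) (.wt 0) (.split 2 37
    (.split 4 61 (.split 7 (-99) (.wt 0) (.split 2 28 (.split 4 52 (.wt 0) (.lin 0)) (.lin 1)))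
    (.lin 0)) (.lin 1))))) (.lin 7))) (.split 2 37 (.split 4 60 (.lin 3) (.split 7 (-101) (.lin
    9) (.splitN 61673 (.wt 0) (.wt 1)))) (.lin 3))) (.lin 9)) (.lin 7)) (.lin 4)))) (.lin 3)))
    (.split 2 37 (.split 1 123 (.lin 11) (.split 4 60 (.lin 3) (.split 5 (-85) (.split 7 (-100)
    (.splitN 59149 (.split 0 (-32) (.split 3 59 (.splitN 58917 (.split 6 71 (.wt 1) (.split 2 28
    (.split 1 132 (.lin 11) (.split 7 (-109) (.split 5 (-94) (.split 4 69 (.lin 0) (.wt 0)) (.lin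
    1)) (.lin 2))) (.lin 3))) (.wt 3)) (.wt 2)) (.wt 0)) (.wt 1)) (.lin 9)) (.lin 4)))) (.lin
    3))) (.split 4 51 (.lin 3) (.split 7 (-92) (.lin 12) (.splitN 72347 (.wt 0) (.wt 1))))))
    (.lin 7))) (.wt 1))) (.lin 7)) (.lin 4)) (.lin 4)) (.lin 3)) (.lin 3)))

def cert5_101_9 : Cert :=
  (.split 4 22 (.split 0 (-29) (.splitN 95172 (.split 0 (-291) .sq (.split 2 262 (.split 6 305
    (.split 1 385 (.split 3 340 (.splitN 89506 (.split 1 286 (.split 3 241 (.split 6 260 (.split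
    2 15 (.split 3 97 (.splitN 68956 (.split 1 250 (.split 6 224 (.split 2 3 (.split 5 (-31)
    (.splitN 32036 (.split 0 (-139) .sq (.split 6 152 (.split 7 (-155) (.lin 9) (.splitN 17194
    (.wt 1) (.split 1 152 (.split 7 (-128) (.lin 2) (.split 6 125 (.split 4 11 (.split 0 (-45)
    (.wt 0) (.split 6 44 (.wt 0) (.lin 3))) (.split 5 (-40) (.splitN 20333 (.wt 1) .cand) (.lin
    10))) (.lin 9))) .sq))) (.lin 3))) (.wt 3)) (.lin 10)) (.split 0 (-38) (.split 7 (-55)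
    (.split 3 27 (.wt 2) (.split 5 (-31) (.split 6 57 (.wt 2) (.split 0 (-56) (.split 7 (-73)
    (.split 0 (-131) (.wt 2) (.split 6 134 (.splitN 31934 (.wt 6) (.split 4 9 (.wt 0) (.split 3
    88 (.split 5 (-40) (.splitN 36914 (.wt 6) (.split 0 (-78) (.wt 0) (.split 6 80 (.wt 0) (.lin
    3)))) (.lin 10)) (.lin 10)))) (.lin 3))) (.lin 9)) (.lin 3))) (.lin 10))) (.lin 9)) (.lin
    3))) (.lin 11)) .sq) (.wt 3)) (.lin 10)) (.split 0 (-47) (.split 7 (-64) (.split 3 33 (.wt 2)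
    (.split 6 53 (.wt 2) (.split 0 (-65) (.split 7 (-82) (.split 3 223 (.split 3 47 (.wt 2)
    (.split 1 114 (.lin 11) (.split 6 233 (.splitN 31616 .sq (.split 4 8 (.wt 0) (.split 6 73
    (.wt 2) (.split 0 (-83) (.split 1 132 (.lin 11) (.split 7 (-100) (.split 3 205 (.splitN 44783
    .sq (.wt 0)) (.lin 11)) (.lin 9))) (.lin 3))))) (.lin 11)))) (.lin 11)) (.lin 9)) (.lin 3))))
    (.lin 9)) (.lin 3))) (.lin 11)) (.lin 11)) .sq) (.wt 3)) (.lin 7)) (.lin 4)) (.lin 3)) (.lin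
    3))) (.wt 3)) (.lin 3)) (.split 2 24 (.split 3 88 (.split 5 (-31) (.splitN 268585 (.split 1
    509 (.split 0 (-97) (.split 6 106 (.lin 3) (.split 1 132 (.lin 11) (.split 7 (-127) (.splitN
    57680 .sq (.wt 3)) (.lin 12)))) (.split 7 (-182) (.lin 1) (.split 1 268 (.split 1 250 (.split
    6 161 (.split 1 187 (.split 2 4 (.split 5 (-49) (.splitN 38538 (.split 0 (-43) (.split 6 70
    (.lin 3) (.split 1 96 (.lin 11) (.split 7 (-73) (.splitN 25640 .sq (.splitN 30654 (.split 1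
    116 (.split 3 43 (.split 7 (-92) (.lin 2) (.split 4 43 (.split 6 89 (.splitN 29528 (.split 3
    29 (.wt 0) (.split 1 105 (.lin 2) (.split 5 (-58) .sq (.lin 10)))) (.wt 0)) (.lin 9)) (.lin
    5))) (.lin 2)) .sq) (.wt 1))) (.lin 9)))) (.split 1 133 (.split 3 47 (.split 6 75 (.split 4
    52 (.split 7 (-74) (.lin 9) (.splitN 23464 (.wt 1) (.split 0 (-29) (.split 5 (-86) (.lin 1)
    (.split 4 43 (.split 6 52 (.lin 3) (.split 1 78 (.lin 11) (.split 7 (-55) (.split 3 34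
    (.split 3 29 (.split 1 97 (.splitN 29782 (.split 4 41 (.split 5 (-59) (.lin 10) (.split 0
    (-36) (.wt 0) (.split 7 (-65) (.lin 1) (.split 6 62 (.wt 1) (.lin 3))))) (.wt 1)) (.wt 0))
    (.lin 2)) .cand) (.split 1 96 (.lin 2) (.split 5 (-67) (.splitN 29751 (.split 7 (-57) (.split
    1 105 (.lin 2) (.split 6 61 (.lin 9) .sq)) (.wt 0)) (.wt 1)) (.lin 10)))) (.lin 9)))) (.lin
    3))) (.splitN 32265 (.split 3 31 (.split 1 97 (.split 6 54 (.split 1 79 (.split 7 (-56) (.lin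
    2) (.split 5 (-59) (.lin 1) (.splitN 26974 (.wt 0) (.split 4 26 (.wt 1) (.split 6 52 (.lin 3)
    (.wt 0)))))) (.lin 11)) (.wt 2)) (.lin 2)) (.wt 2)) (.wt 1))))) (.lin 3)) (.split 4 42 (.lin
    3) (.split 1 105 (.lin 11) (.split 5 (-67) (.split 7 (-82) (.splitN 31724 .sq (.wt 1)) (.lin
    9)) (.lin 4))))) (.split 7 (-83) (.lin 1) (.split 4 43 (.split 5 (-76) (.split 0 (-27)
    (.split 6 52 (.lin 3) (.split 1 105 (.lin 11) (.split 7 (-55) (.splitN 27017 .sq (.wt 1))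
    (.lin 9)))) (.wt 2)) (.lin 10)) (.lin 10)))) (.lin 4))) (.wt 1)) (.lin 10)) (.split 6 152
    (.split 7 (-55) cert5_101_7 (.lin 9)) (.lin 3))) (.lin 4)) (.lin 3)) (.lin 8)) (.lin 2))))
    .sq) (.wt 1)) (.lin 10)) (.lin 10)) (.split 7 (-73) (.splitN 162986 (.split 0 (-385) .sq
    (.split 1 475 (.split 1 390 (.split 3 340 (.split 6 359 (.split 7 (-392) .sq (.split 2 343
    (.split 0 (-88) (.split 1 114 (.lin 4) (.split 7 (-118) (.splitN 66459 (.split 6 50 (.wt 2)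
    (.split 0 (-181) .sq (.split 6 215 (.split 1 268 (.split 3 214 (.split 3 35 (.wt 2) (.split 6
    54 (.wt 2) (.splitN 43199 .sq (.split 1 188 (.split 3 124 (.split 6 143 (.splitN 58343
    (.split 6 62 (.wt 2) (.split 3 115 (.split 4 25 (.wt 5) (.split 7 (-127) (.splitN 47132 .sq
    (.split 3 46 (.wt 0) (.split 1 123 (.lin 11) (.split 6 134 (.splitN 50138 .sq (.split 3 57
    (.wt 0) (.split 1 132 (.lin 11) (.split 6 125 (.splitN 53468 .sq (.split 3 72 (.wt 0) .sq))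
    (.lin 11))))) (.lin 11))))) (.lin 12))) (.lin 11))) (.wt 3)) (.lin 11)) (.lin 11)) .sq))))
    (.lin 7)) (.lin 4)) (.lin 3)))) (.wt 3)) (.lin 12))) (.split 2 109 (.split 7 (-263) (.lin 1)
    (.split 1 331 (.split 6 125 (.split 1 304 (.split 1 178 (.split 3 133 cert5_101_8 (.lin 7))
    (.lin 4)) (.lin 0)) (.lin 3)) (.lin 8))) (.lin 3))) (.lin 9))) (.lin 11)) (.lin 11)) .sq)
    (.lin 4))) (.wt 1)) (.lin 9))))

def cert5_101_10 : Cert :=
  (.split 3 53 (.splitN 67237 (.split 6 48 (.wt 2) (.split 7 (-219) .sq (.split 2 163 (.split 4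
    178 (.split 6 93 (.split 2 27 (.lin 3) (.split 1 142 (.split 3 28 (.wt 2) (.split 1 87 (.lin
    11) (.split 6 71 (.split 2 45 (.lin 3) (.split 1 124 (.split 0 (-58) (.wt 2) (.split 5 (-31)
    (.split 0 (-49) (.wt 2) (.split 5 (-40) (.split 0 (-45) (.wt 2) (.split 5 (-49) (.splitN
    49445 (.wt 1) (.split 3 35 (.wt 0) (.split 5 (-58) (.split 3 45 (.wt 2) (.split 5 (-67)
    (.splitN 52592 (.wt 6) (.split 6 55 (.wt 0) (.split 1 114 (.lin 11) (.split 5 (-76) (.split 7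
    (-161) (.wt 0) (.split 2 91 (.split 4 124 (.split 4 115 (.splitN 58765 (.wt 6) (.wt 0)) (.lin
    12)) (.lin 3)) (.lin 1))) (.lin 4))))) (.lin 7))) (.lin 7)))) (.lin 4))) (.lin 4))) (.lin
    4))) (.lin 11))) (.split 5 (-49) (.split 2 136 (.split 1 114 (.lin 11) (.split 0 (-56) (.wt
    2) (.split 5 (-67) (.split 3 37 (.wt 2) (.split 5 (-76) (.split 1 123 (.lin 11) (.split 2 120
    (.split 4 141 (.splitN 62017 (.split 2 89 (.split 7 (-146) .sq (.split 2 64 (.split 4 106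
    (.split 0 (-43) (.split 2 36 (.lin 3) (.split 4 97 (.split 7 (-127) (.splitN 55349 .sq (.wt
    0)) (.lin 12)) (.lin 12))) (.split 5 (-85) (.splitN 53243 .sq (.splitN 58772 (.split 3 51
    (.split 4 83 (.wt 0) (.split 2 36 (.lin 3) (.split 7 (-127) .sq (.lin 12)))) (.wt 6)) (.wt
    1))) (.lin 4))) (.lin 12)) (.lin 9))) .sq) (.wt 1)) .sq) .sq)) (.lin 7))) (.lin 4)))) (.lin
    9)) (.lin 7))))) (.lin 11))) (.split 1 123 (.lin 11) (.split 5 (-58) (.splitN 50678 .sq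
    (.split 3 26 (.wt 0) (.split 5 (-67) (.split 1 132 (.lin 11) (.split 6 125 (.split 7 (-157)
    .sq (.split 2 55 (.split 4 115 (.split 0 (-52) (.split 4 97 (.split 7 (-136) (.splitN 61172
    .sq (.wt 0)) (.lin 12)) (.lin 12)) (.split 1 142 (.split 5 (-85) (.split 3 43 (.split 6 107
    (.splitN 57644 .sq (.wt 3)) (.lin 7)) (.lin 7)) (.lin 4)) (.lin 4))) (.lin 6)) (.lin 9)))
    (.lin 7))) (.lin 7)))) (.lin 4)))) (.lin 12)) (.lin 9)))) (.wt 3)) (.split 2 18 (.lin 1)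
    (.split 2 45 (.lin 10) (.split 1 105 (.lin 11) (.split 5 (-40) (.split 6 98 (.splitN 74861
    (.split 2 178 (.split 7 (-210) .sq (.split 4 169 (.split 6 71 (.split 6 57 (.split 2 63 (.lin
    3) (.split 0 (-52) (.wt 2) (.split 1 142 (.split 5 (-58) (.split 3 97 (.split 0 (-43) (.wt 2)
    (.split 5 (-67) (.split 3 88 (.splitN 56604 (.wt 6) (.split 3 64 (.wt 0) (.split 5 (-76)
    (.split 4 82 (.wt 0) (.split 7 (-127) (.splitN 59956 (.wt 6) (.split 1 122 (.wt 0) (.split 5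
    (-85) (.split 1 125 (.wt 0) (.split 5 (-94) (.wt 2) (.lin 4))) (.lin 4)))) (.lin 12))) (.lin
    7)))) (.lin 7)) (.lin 4))) (.lin 7)) (.lin 4)) (.lin 4)))) (.split 3 97 (.split 2 145 (.split
    1 123 (.lin 11) (.split 5 (-58) (.splitN 68157 (.split 7 (-172) .sq (.split 2 100 (.split 4
    124 (.split 0 (-65) (.wt 2) (.split 1 151 (.split 5 (-67) (.split 3 88 (.split 0 (-47)
    (.split 2 54 (.lin 3) (.split 4 115 (.split 7 (-127) (.splitN 60409 (.split 0 (-56) (.wt 2)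
    (.split 5 (-76) (.splitN 56321 .sq (.split 3 73 (.wt 0) (.split 1 141 (.lin 11) (.split 5
    (-94) .sq (.lin 4))))) (.lin 4))) (.wt 3)) (.lin 12)) (.lin 12))) (.split 1 133 (.split 5
    (-85) (.split 3 70 (.splitN 53891 .sq (.splitN 61551 (.split 4 106 (.split 7 (-146) (.lin 12)
    (.split 6 70 (.split 2 54 (.lin 3) (.splitN 55842 (.wt 1) (.split 3 61 (.wt 0) (.split 5
    (-94) (.split 1 132 (.lin 11) .sq) (.lin 7))))) (.wt 6))) .sq) (.wt 1))) (.lin 7)) (.lin 4))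
    (.lin 4))) (.lin 7)) (.lin 4)) (.lin 4))) (.lin 12)) (.lin 9))) (.wt 1)) (.lin 4))) (.lin 9))
    (.lin 7))) (.split 0 (-47) (.split 1 141 (.lin 11) (.split 5 (-76) (.split 7 (-127) (.splitN
    62756 .sq (.wt 1)) (.lin 6)) (.lin 4))) (.lin 7))) (.lin 12))) .sq) (.wt 3)) (.lin 7)) (.lin
    4))))))

def cert5_101_11 : Cert :=
  (.split 4 232 (.split 4 40 (.splitN 77601 (.split 0 (-252) .sq (.split 3 214 (.split 6 233
    (.splitN 71591 (.split 1 241 (.split 3 196 (.split 6 215 (.split 7 (-241) .sq (.split 2 190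
    (.split 0 (-228) (.lin 12) (.split 4 15 (.splitN 28761 (.split 2 148 (.split 3 151 (.split 5
    (-13) (.wt 2) (.split 0 (-65) (.split 2 27 (.lin 10) (.split 7 (-73) (.splitN 25492 (.split 0
    (-99) .sq (.split 2 55 (.split 7 (-128) (.lin 1) (.split 1 124 (.split 6 71 (.split 1 97
    (.split 3 52 (.split 7 (-101) (.lin 8) (.splitN 22891 (.wt 1) (.wt 0))) (.lin 7)) (.lin 4))
    (.lin 3)) (.lin 8))) (.lin 3))) (.wt 1)) (.lin 6))) (.lin 4))) (.lin 10)) (.div 2)) (.wt 3))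
    (.split 7 (-73) (.split 2 27 (.lin 10) (.splitN 64952 (.split 1 224 (.split 6 197 (.split 7
    (-226) .sq (.split 0 (-201) (.lin 12) (.split 5 (-8) (.splitN 29514 (.wt 1) .cand) (.split 0
    (-65) (.split 2 36 (.lin 10) (.split 7 (-82) (.split 3 55 (.split 2 82 (.split 6 100 (.split
    0 (-165) (.lin 3) (.split 0 (-147) (.lin 7) (.split 1 151 (.split 7 (-182) (.lin 6) (.splitN
    32797 (.split 3 48 (.split 6 85 (.split 7 (-155) (.lin 6) (.split 0 (-120) (.lin 7) (.splitN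
    23788 (.wt 3) (.split 6 78 (.split 0 (-111) (.lin 7) (.split 3 41 (.split 7 (-137) (.lin 6)
    (.split 1 106 (.split 6 67 (.split 7 (-128) (.lin 6) (.split 4 25 (.split 6 53 (.split 7
    (-110) (.lin 6) (.split 0 (-84) (.lin 7) (.split 4 20 (.split 7 (-101) (.lin 6) (.split 2 46
    (.splitN 28893 (.split 3 33 (.split 7 (-92) (.lin 6) (.wt 1)) (.wt 0)) (.wt 1)) (.lin 10)))
    (.split 7 (-91) (.split 2 45 (.lin 10) (.splitN 27484 (.wt 0) (.split 3 30 (.split 7 (-101)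
    (.lin 6) (.split 0 (-75) (.lin 7) (.split 2 46 (.split 6 51 (.split 1 70 (.wt 0) (.lin 0))
    (.wt 0)) (.lin 10)))) (.wt 0)))) (.lin 6))))) (.split 0 (-83) (.split 1 87 (.lin 11) (.split
    7 (-100) .sq (.lin 6))) (.lin 7))) (.split 2 54 (.lin 10) (.split 3 28 (.split 7 (-119) (.lin
    6) (.split 2 55 (.split 0 (-70) (.split 7 (-109) (.split 1 78 (.lin 2) (.split 6 52 (.lin 0)
    .sq)) (.lin 1)) (.wt 0)) (.lin 10))) (.wt 0))))) (.wt 6)) (.lin 11))) (.wt 2))) (.wt 2)))))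
    (.wt 2)) (.wt 2)) (.wt 1))) (.lin 11)))) (.wt 2)) (.lin 10)) (.wt 2)) (.lin 6))) (.lin 4)))))
    (.lin 11)) .sq) (.wt 3))) (.lin 6)))) (.lin 9))) (.lin 11)) (.lin 11)) .sq) (.wt 3)) (.lin
    7)) (.lin 7))) (.wt 1)) (.split 2 54 (.lin 10) (.split 7 (-100) (.splitN 75443 (.split 2 229
    (.split 4 214 (.split 7 (-245) .sq (.split 1 214 (.split 2 199 (.split 4 187 (.split 6 188
    (.split 5 (-8) (.split 3 65 (.split 6 45 (.wt 2) (.split 7 (-109) (.split 0 (-65) (.split 1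
    78 (.lin 11) (.splitN 60282 (.split 0 (-181) .sq (.split 1 187 (.split 6 161 (.split 2 176
    (.split 4 160 (.splitN 58759 (.split 1 176 (.split 0 (-156) (.lin 4) (.split 6 143 (.split 3
    25 (.wt 2) (.split 7 (-118) (.split 0 (-74) (.split 2 63 (.lin 10) (.split 6 134 (.split 4
    151 (.split 6 54 (.wt 2) (.split 7 (-127) (.split 0 (-83) (.split 1 96 (.lin 11) (.splitN
    43541 .sq (.split 4 43 (.wt 3) (.split 7 (-136) (.split 2 72 (.lin 10) (.splitN 47996 .sq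
    (.splitN 52261 (.split 3 35 (.wt 0) (.split 7 (-145) (.split 2 81 (.lin 10) (.split 1 105
    (.lin 11) .sq)) (.lin 6))) (.wt 3)))) (.lin 6))))) (.lin 7)) (.lin 6))) (.lin 10)) (.lin 7)))
    (.lin 7)) (.lin 6))) (.lin 7))) .sq) (.wt 3)) (.lin 10)) .sq) (.lin 7)) (.lin 4))) (.wt 3)))
    (.lin 7)) (.lin 6))) (.split 0 (-101) (.split 2 99 (.lin 10) (.split 1 114 (.lin 11) (.split
    7 (-145) (.splitN 63305 .sq (.wt 1)) (.lin 6)))) (.lin 7))) (.split 2 63 (.lin 10) (.split 7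
    (-109) (.splitN 34286 (.split 0 (-68) (.split 1 78 (.lin 4) (.split 7 (-118) .sq (.lin 8)))
    (.wt 2)) (.wt 1)) (.lin 6)))) (.lin 6)) (.lin 6)) (.lin 9)) (.lin 8))) (.lin 10)) .sq) (.wt
    1)) (.lin 6)))) (.lin 6))

def cert5_101_12 : Cert :=
  (.split 5 (-95) (.split 1 123 (.lin 4) (.splitN 31112 .sq (.split 4 123 (.splitN 1063615
    cert5_101_6 (.wt 1)) (.split 7 (-145) (.splitN 65348 .sq (.splitN 147872 (.split 4 1628
    (.split 5 (-815) (.div 5) (.split 0 (-286) .sq (.splitN 138091 (.split 1 294 (.split 0 (-183)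
    (.lin 4) (.split 5 (-266) (.lin 4) (.split 6 260 (.splitN 125889 (.split 1 271 (.split 5
    (-248) (.lin 4) (.split 6 242 (.split 2 241 (.split 4 601 (.split 4 271 (.split 0 (-47)
    (.split 1 150 (.lin 4) (.split 7 (-172) (.splitN 83240 .sq (.wt 3)) (.lin 12))) (.splitN
    94042 (.split 1 198 (.split 5 (-176) (.lin 4) (.split 6 96 (.split 2 54 (.lin 3) (.split 3 33
    (.lin 7) (.splitN 68903 .sq (.split 0 (-23) (.split 2 63 (.lin 3) (.split 1 132 (.lin 4)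
    (.split 5 (-167) (.lin 4) (.split 3 42 (.lin 7) (.split 7 (-154) (.splitN 76112 .sq (.wt 1))
    (.lin 12)))))) (.wt 1))))) (.wt 1))) .sq) (.wt 1))) .sq) (.lin 0)) .sq) (.lin 11))) .sq) (.wt
    1)) (.lin 11)))) .sq) (.wt 1)))) (.div 4)) (.wt 1))) (.lin 12))))) (.splitN 899054 (.split 0
    (-943) .sq (.split 1 1033 (.splitN 815372 (.split 1 899 (.split 2 896 (.split 4 961 (.splitN
    766216 (.split 0 (-870) .sq (.split 4 869 (.split 7 (-871) .sq (.split 2 820 (.split 5 (-20)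
    (.splitN 15054 (.wt 1) (.split 4 77 (.splitN 402409 (.split 0 (-624) .sq (.split 2 649
    (.split 1 718 (.split 1 627 (.split 3 574 (.split 6 593 (.split 7 (-626) .sq (.split 2 577
    cert5_101_9 (.lin 9))) (.lin 11)) (.lin 11)) .sq) (.lin 4)) (.lin 3))) (.wt 1)) (.split 2 9
    (.lin 10) (.split 7 (-100) (.splitN 153451 (.split 0 (-359) .sq (.split 1 448 (.split 6 422
    (.split 1 364 (.split 3 313 (.split 6 332 (.splitN 145911 (.split 2 344 (.split 4 700 (.split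
    4 412 (.split 4 353 (.split 7 (-359) .sq (.split 0 (-74) (.split 1 96 (.lin 4) (.split 4 277
    (.split 7 (-154) (.splitN 47987 .sq (.splitN 71387 (.split 3 27 (.wt 0) (.split 2 18 (.lin
    10) (.split 6 44 (.wt 2) (.splitN 49652 .sq (.split 0 (-157) .sq (.split 1 250 (.split 6 215
    (.split 3 34 (.wt 0) (.split 1 165 (.split 3 106 (.split 6 116 (.splitN 60228 (.split 3 44
    (.wt 0) (.split 2 45 (.lin 2) (.split 1 105 (.lin 11) (.split 6 107 (.splitN 54782 .sq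
    (.split 3 53 (.wt 0) (.split 2 54 (.lin 2) (.split 1 114 (.lin 11) (.split 6 98 (.splitN
    58697 .sq (.split 3 67 (.wt 0) .sq)) (.lin 11)))))) (.lin 11))))) (.wt 3)) (.lin 11)) (.lin
    11)) .sq)) (.lin 7)) (.lin 4))))))) (.wt 3))) (.lin 12)) (.lin 12))) (.split 1 160 (.split 3
    115 (.split 6 134 (.splitN 114493 (.split 4 309 (.split 7 (-316) .sq (.split 0 (-37) (.split
    4 268 (.split 7 (-118) (.splitN 78555 (.split 2 221 (.split 7 (-251) .sq (.split 2 199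
    (.split 4 205 cert5_101_10 (.lin 12)) (.lin 9))) .sq) (.wt 3)) (.lin 12)) (.lin 12)) (.split
    1 124 (.split 5 (-40) (.split 6 98 (.splitN 90468 (.split 4 261 (.split 7 (-270) .sq (.split
    4 241 (.split 3 44 (.split 6 71 (.split 2 27 (.lin 3) (.split 1 115 (.splitN 42174 (.wt 1)
    (.split 3 34 (.split 5 (-86) (.lin 7) (.split 1 106 (.splitN 77686 (.split 7 (-243) .sq
    (.split 4 214 (.split 6 57 (.split 2 45 (.lin 3) (.split 1 88 (.split 5 (-68) (.lin 4)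
    (.split 0 (-25) (.wt 2) (.split 5 (-49) (.split 3 25 (.wt 2) (.split 5 (-58) (.split 1 78
    (.lin 11) (.split 6 52 (.split 1 79 (.split 5 (-59) (.lin 4) (.splitN 62010 (.wt 6) (.split 4
    102 (.wt 0) (.split 2 81 (.lin 0) (.split 7 (-127) (.wt 0) (.lin 1)))))) (.lin 11)) (.wt 2)))
    (.lin 7))) (.lin 4)))) (.lin 11))) (.split 1 87 (.lin 11) (.split 5 (-58) (.split 0 (-25)
    (.split 2 36 (.lin 3) (.split 7 (-109) (.splitN 57040 (.wt 6) (.split 3 31 (.wt 0) (.split 5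
    (-67) (.wt 2) (.lin 7)))) (.lin 12))) (.splitN 64712 (.split 3 29 .cand (.wt 2)) (.wt 1)))
    (.lin 4)))) (.lin 12))) (.wt 3)) (.lin 11))) .cand)) (.lin 11))) (.split 1 105 (.lin 11)
    (.split 5 (-76) (.split 3 40 (.split 0 (-25) (.split 7 (-109) (.splitN 43100 .sq (.split 3 26
    (.wt 2) .cand)) (.lin 12)) (.wt 2)) (.wt 2)) (.lin 4)))) (.split 0 (-21) .cand (.wt 2)))
    (.lin 12))) .sq) (.wt 1)) (.lin 7)) (.lin 4)) (.lin 4)))) .sq) (.wt 1)) (.lin 7)) (.lin 7))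
    (.lin 4)))) .sq) (.lin 10)) (.lin 0)) .sq) (.wt 1)) (.lin 11)) (.lin 11)) .sq) (.lin 7))
    (.lin 4))) (.wt 1)) (.lin 12))))) (.split 0 (-56) (.split 2 18 (.lin 10) (.split 7 (-64)
    (.splitN 101261 (.split 2 562 (.split 0 (-299) .sq (.split 1 304 (.split 3 259 (.split 6 278
    (.splitN 96294 (.split 1 290 (.split 2 282 (.split 7 (-290) .sq cert5_101_11) .sq) .sq) (.wt
    1)) (.lin 7)) (.lin 7)) (.lin 4))) (.div 2)) (.wt 1)) (.lin 6))) (.lin 4))) (.lin 9))) .sq))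
    (.wt 1)) (.lin 10)) .sq) .sq) (.wt 1)) (.lin 4))) (.wt 1)))

def cert5_101_13 : Cert :=
  (.split 7 (-46) (.split 2 27 (.lin 9) (.split 4 33 (.lin 3) (.split 3 32 (.wt 2) (.split 5
    (-40) (.split 3 39 (.wt 2) (.split 5 (-49) (.split 7 (-100) (.splitN 941764 (.split 1 10448
    (.split 2 5224 (.split 4 5227 (.split 5 (-5225) (.div 5) (.split 1 5236 (.split 3 5218
    (.splitN 810963 (.split 2 4504 (.split 4 4507 (.split 5 (-4505) (.div 5) (.splitN 226834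
    (.split 2 1246 (.split 4 1249 (.split 5 (-1247) (.div 5) (.split 3 65 (.wt 2) (.splitN 179761
    .cand (.wt 1)))) (.lin 3)) (.div 2)) (.wt 1))) (.lin 3)) (.div 2)) (.wt 0)) (.lin 7)) (.lin
    4))) (.lin 3)) (.div 2)) (.div 1)) (.wt 0)) (.split 2 73 (.split 4 79 (.splitN 1703022
    (.split 5 (-9455) (.div 5) (.split 1 9511 (.split 3 49 (.wt 2) (.split 5 (-58) (.splitN
    952861 (.split 5 (-5279) (.div 5) (.split 1 5335 (.split 3 52 (.wt 2) (.split 5 (-67)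
    (.splitN 726306 (.split 1 842 (.split 5 (-869) (.lin 0) (.split 5 (-824) (.lin 4) (.split 7
    (-69) (.splitN 195550 .cand (.wt 1)) (.split 2 46 (.split 4 52 (.split 3 62 (.wt 2) (.split 5
    (-76) (.split 1 87 (.lin 11) (.split 3 550 (.split 5 (-572) (.lin 1) (.split 3 518 (.split 5
    (-536) (.lin 1) (.split 3 189 (.split 5 (-212) (.lin 1) (.split 1 223 (.split 1 205 (.split 5
    (-194) (.lin 4) (.split 7 (-55) (.split 3 83 (.wt 2) (.splitN 195676 .cand (.wt 1))) (.split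
    2 28 (.split 4 34 (.split 3 92 (.wt 2) (.split 5 (-103) (.split 1 114 (.lin 2) (.splitN
    205587 (.split 3 157 (.split 5 (-158) (.lin 1) (.split 1 169 (.split 3 100 (.wt 2) (.split 5
    (-112) (.split 1 123 (.lin 2) (.splitN 193911 (.split 3 129 (.split 5 (-131) (.lin 1) (.split
    1 142 (.split 3 106 (.wt 2) (.split 1 132 (.lin 2) (.splitN 184466 (.wt 0) (.wt 1)))) (.lin
    2))) (.wt 0)) (.wt 1))) (.lin 1))) (.lin 2))) (.wt 0)) (.wt 1))) (.lin 1))) (.lin 3)) (.lin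
    9)))) (.lin 11)) (.lin 2))) (.split 1 195 (.lin 2) (.split 1 213 (.lin 11) (.splitN 159467
    (.split 4 45 (.split 2 37 (.split 7 (-56) (.lin 9) (.wt 0)) (.lin 3)) (.wt 0)) (.wt 6))))))
    (.wt 2))) (.wt 2))) (.lin 7))) (.lin 3)) (.lin 9))))) .sq) (.wt 1)) (.lin 7))) (.lin 0)))
    (.wt 1)) (.lin 7))) (.lin 0))) (.wt 1)) (.lin 3)) (.lin 9))) (.lin 7))) (.lin 7))))) (.split
    2 19 (.split 4 25 (.split 3 18 (.wt 2) (.split 5 (-31) (.split 1 42 (.lin 11) (.split 4 13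
    (.split 2 1 (.split 7 (-20) (.lin 9) (.splitN 54034 (.split 1 584 (.split 5 (-572) (.lin 0)
    (.split 3 565 (.split 5 (-293) (.div 5) (.split 3 286 (.splitN 48384 (.split 5 (-257) (.div
    5) (.split 1 268 (.split 3 250 (.splitN 36751 (.wt 1) (.splitN 44810 (.split 1 47 (.wt 0)
    (.split 3 68 (.wt 0) (.split 5 (-76) (.splitN 40912 (.wt 1) (.split 1 94 (.wt 0) (.split 5
    (-85) (.split 3 78 (.lin 6) (.split 3 118 (.wt 0) (.split 5 (-130) (.split 1 141 (.lin 2)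
    .sq) (.lin 1)))) (.lin 0)))) (.lin 1)))) (.wt 3))) (.lin 6)) (.lin 0))) (.wt 0)) (.lin 6)))
    (.lin 6))) (.div 1)) (.wt 0))) (.lin 3)) (.split 2 9 (.lin 3) (.split 7 (-28) (.split 3 40
    (.wt 2) (.split 5 (-40) (.split 1 60 (.lin 11) (.split 5 (-49) (.split 3 46 (.wt 2) (.split 5
    (-58) (.split 3 112 (.split 1 133 (.split 1 124 (.split 3 55 (.wt 2) (.split 5 (-67) (.split
    1 78 (.lin 11) (.split 7 (-33) (.split 2 18 (.lin 9) (.split 4 24 (.lin 3) (.splitN 182441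
    (.wt 1) (.split 3 83 (.wt 0) (.split 5 (-94) (.split 1 105 (.lin 2) (.splitN 207518 (.wt 1)
    (.split 3 98 (.wt 0) (.split 5 (-112) (.split 1 123 (.lin 2) (.splitN 219909 (.wt 1) (.wt
    0))) (.lin 1))))) (.lin 1)))))) (.split 2 10 (.split 4 16 (.splitN 213709 (.wt 1) (.split 1
    91 (.wt 0) (.split 5 (-85) (.wt 2) (.lin 0)))) (.lin 3)) (.lin 9)))) (.lin 7))) (.lin 11))
    (.lin 2)) (.split 5 (-112) (.split 1 132 (.lin 11) (.split 3 6097 (.split 5 (-6107) (.lin 1)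
    (.split 1 6118 (.split 7 (-33) (.split 2 18 (.lin 9) (.split 4 24 (.lin 3) (.splitN 315879
    (.split 5 (-1751) (.div 5) (.split 1 414 (.split 5 (-401) (.lin 0) (.splitN 280542 (.split 1
    233 (.split 5 (-221) (.lin 0) (.splitN 255691 (.split 1 165 (.split 5 (-149) (.lin 0)
    (.splitN 233807 (.wt 0) (.wt 1))) (.wt 0)) (.wt 1))) (.wt 0)) (.wt 1))) (.wt 0))) (.wt 1))))
    (.split 2 10 (.split 4 16 (.splitN 423043 (.split 5 (-2345) (.div 5) (.splitN 266205 (.wt 3)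
    (.split 1 1218 (.split 5 (-1202) (.lin 0) (.split 3 224 (.split 5 (-230) (.lin 1) (.split 1
    241 (.splitN 324772 (.split 3 152 (.split 5 (-158) (.lin 1) (.split 1 169 (.splitN 293121
    (.split 3 131 (.split 5 (-131) (.lin 1) (.split 1 142 (.splitN 275675 (.split 3 119 (.split 1
    133 (.wt 0) (.lin 2)) (.wt 0)) (.wt 1)) (.lin 2))) (.wt 0)) (.wt 1)) (.lin 2))) (.wt 0)) (.wt
    1)) (.lin 2))) (.wt 0))) (.wt 0)))) (.wt 1)) (.lin 3)) (.lin 9))) (.lin 2))) (.wt 2))) (.lin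
    1))) (.lin 7))) (.lin 4))) (.lin 1))) (.lin 9))))) (.lin 7))) (.lin 3)) (.lin 9)))

def cert5_101_14 : Cert :=
  (.split 3 13 (.splitN 153527 (.split 1 1700 (.split 5 (-1688) (.lin 4) (.split 6 1691 (.split 2
    850 (.split 4 4192 (.split 4 1700 (.split 5 (-851) (.div 5) (.split 1 862 (.split 6 854
    (.splitN 132595 (.split 5 (-725) (.div 5) (.split 6 728 (.splitN 63776 (.split 1 692 (.split
    5 (-680) (.lin 4) (.split 6 683 (.split 2 346 (.split 4 1015 (.split 5 (-347) (.div 5)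
    (.split 1 358 (.split 6 350 (.splitN 48320 (.split 4 512 (.split 5 (-257) (.div 5) (.split 1
    268 (.split 6 260 (.splitN 41613 (.split 5 (-221) (.div 5) (.split 6 224 (.wt 2) (.lin 7)))
    (.wt 4)) (.lin 7)) (.lin 4))) (.div 4)) (.wt 4)) (.lin 7)) (.lin 4))) (.lin 3)) (.div 2))
    (.lin 7))) (.div 1)) (.wt 4)) (.lin 7))) (.wt 0)) (.lin 7)) (.lin 4))) (.div 4)) (.lin 0))
    (.div 2)) (.lin 7))) (.div 1)) (.wt 0)) (.split 5 (-31) (.split 1 42 (.lin 11) (.split 6 119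
    (.split 5 (-131) (.lin 7) (.split 1 142 (.split 6 105 (.split 5 (-113) (.lin 7) (.split 1 124
    (.split 7 (-64) (.split 4 51 (.lin 12) (.splitN 160775 (.split 2 886 (.split 7 (-992) (.lin
    1) (.split 6 55 (.split 2 9 (.lin 3) (.split 1 79 (.split 5 (-68) (.lin 4) (.splitN 137559
    (.split 2 760 (.split 7 (-821) (.lin 1) (.split 6 52 (.split 2 18 (.lin 3) (.split 1 70
    (.split 5 (-59) (.lin 4) (.split 2 355 (.split 4 412 (.splitN 128318 (.split 2 341 (.split 4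
    344 (.split 7 (-353) (.lin 12) (.split 6 35 (.split 2 27 (.lin 3) (.split 1 61 (.split 5
    (-50) (.lin 4) (.splitN 120598 (.split 4 329 (.split 3 20 (.split 5 (-41) (.lin 7) (.split 1
    52 (.splitN 51674 (.wt 6) (.split 7 (-188) (.wt 0) (.split 2 154 (.split 4 187 (.splitN 54100
    (.wt 6) (.split 7 (-130) (.wt 0) (.split 2 100 (.split 4 133 (.split 4 124 (.splitN 56732
    (.wt 6) (.split 7 (-101) (.wt 0) (.split 2 73 (.split 4 97 (.split 4 88 (.splitN 59512 (.wt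
    6) (.split 6 28 (.wt 0) (.split 1 51 (.lin 11) (.split 5 (-40) (.splitN 71413 (.wt 6) (.split
    4 77 (.wt 0) (.split 2 54 (.lin 0) (.split 7 (-91) (.wt 0) (.lin 1))))) (.lin 4))))) (.lin
    12)) (.lin 3)) (.lin 1)))) (.lin 3)) (.lin 0)) (.lin 1)))) (.lin 0)) (.lin 1)))) (.lin 11)))
    (.split 5 (-40) (.split 1 51 (.lin 11) (.split 6 28 (.split 2 36 (.lin 3) (.split 1 52
    (.split 5 (-41) (.lin 4) (.split 7 (-86) (.split 2 63 (.lin 1) (.split 4 78 (.lin 0) (.splitN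
    74119 (.split 7 (-93) (.split 2 72 (.lin 1) (.split 4 87 (.lin 0) (.split 7 (-129) (.split 2
    108 (.lin 1) (.split 4 123 (.lin 0) (.splitN 66247 (.split 7 (-137) (.split 2 117 (.lin 1)
    (.split 4 132 (.lin 0) (.split 7 (-170) (.split 2 144 (.lin 1) (.split 4 159 (.lin 0) .sq))
    (.wt 2)))) (.wt 0)) (.wt 1)))) (.wt 2)))) (.wt 0)) (.wt 1)))) (.wt 2))) (.lin 11))) (.wt 2)))
    (.lin 7))) .sq) (.wt 1))) (.lin 11))) (.split 1 60 (.lin 11) (.split 5 (-49) (.splitN 56488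
    (.split 3 19 (.split 5 (-50) (.lin 7) (.split 1 61 (.splitN 52841 (.split 2 292 (.split 7
    (-335) (.lin 1) (.split 4 175 (.split 2 136 (.split 7 (-182) (.lin 1) (.wt 2)) (.lin 0)) (.wt
    0))) (.div 2)) (.wt 6)) (.lin 11))) (.wt 0)) (.wt 6)) (.lin 4))))) .sq) .sq) (.wt 1)) (.lin
    0)) .sq)) (.lin 11))) (.wt 2))) (.div 2)) (.wt 1))) (.lin 11))) (.wt 2))) (.div 2)) (.wt 1)))
    (.split 2 37 (.split 1 79 (.split 2 28 (.split 5 (-68) (.lin 1) (.split 4 79 (.split 4 43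
    (.split 2 5 (.split 3 24 (.split 6 38 (.split 4 25 (.split 1 52 (.split 5 (-50) (.lin 0)
    (.split 7 (-38) (.lin 2) (.split 5 (-41) (.lin 1) (.split 6 33 (.split 4 16 (.split 1 43
    (.split 5 (-32) (.lin 0) (.split 7 (-29) (.lin 1) (.splitN 31727 (.wt 0) (.wt 0)))) (.lin
    11)) (.lin 3)) (.wt 2))))) (.lin 11)) (.lin 3)) (.wt 2)) (.wt 2)) (.split 5 (-59) (.lin 1)
    (.split 4 24 (.lin 3) (.split 7 (-37) (.split 6 35 (.split 5 (-50) (.lin 7) (.split 3 20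
    (.split 5 (-41) (.lin 7) (.split 1 52 (.split 6 29 (.wt 2) (.split 1 51 (.lin 11) (.split 7
    (-46) (.split 5 (-40) (.split 4 35 (.wt 2) (.split 2 18 (.lin 0) (.split 7 (-55) (.splitN
    66299 (.wt 0) (.wt 0)) (.lin 1)))) (.lin 4)) (.lin 2)))) (.lin 11))) (.split 1 51 (.lin 11)
    (.splitN 96700 (.split 7 (-39) (.split 4 33 (.lin 12) (.wt 2)) (.wt 0)) (.wt 6))))) (.split 1
    60 (.lin 11) (.split 4 42 (.lin 3) (.split 7 (-55) (.splitN 80211 (.wt 0) (.wt 1)) (.lin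
    9))))) (.lin 9))))) (.lin 12)) (.lin 5))) (.lin 9)) (.lin 2)) (.lin 1))) (.lin 11))) (.wt 2))
    (.lin 11))) (.wt 2))) (.lin 7)))

def cert5_101 : Cert :=
  (.split 0 (-12) (.split 1 24 (.lin 4) (.split 7 (-28) (.splitN 11392 (.wt 1) (.split 6 9 (.wt
    2) (.split 3 22 (.split 6 42 (.split 1 52 (.split 5 (-32) (.lin 4) (.splitN 260489 (.split 2
    1444 (.split 4 1483 (.split 3 8 (.wt 2) (.split 1 33 (.lin 11) (.split 5 (-14) (.wt 2)
    (.split 2 9 (.lin 10) (.split 4 9 (.wt 2) (.split 7 (-37) (.split 0 (-39) (.wt 2) (.split 5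
    (-7) (.wt 2) (.split 0 (-29) (.split 6 26 (.wt 2) (.lin 7)) (.lin 4)))) (.lin 6))))))) (.lin
    0)) (.div 2)) (.wt 0))) (.lin 11)) (.split 7 (-46) (.split 1 51 (.lin 11) (.splitN 151264
    (.split 0 (-4161) (.div 0) (.split 1 1664 (.split 0 (-1659) (.lin 4) (.split 5 (-1643) (.lin
    4) (.split 6 1655 (.split 2 832 (.split 4 2464 (.split 4 1664 (.split 5 (-833) (.div 5)
    (.split 0 (-379) .sq (.split 1 1204 (.split 6 1196 (.splitN 142125 (.split 4 1556 (.split 1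
    368 cert5_101_0 .sq) (.div 4)) (.wt 3)) (.lin 7)) (.lin 4)))) (.div 4)) (.lin 3)) (.div 2))
    (.lin 11)))) (.div 1))) (.wt 3))) (.lin 9))) (.split 1 42 (.lin 11) (.split 6 42 cert5_101_3
    (.split 7 (-46) (.split 1 69 (.lin 11) (.splitN 28708860 (.split 2 159484 (.split 4 318968
    (.split 5 (-159485) (.div 5) (.split 0 (-5358) .sq (.split 1 164842 (.splitN 17581395 (.split
    2 97672 (.split 4 195344 (.split 5 (-97673) (.div 5) (.split 1 103030 (.split 0 (-4192) .sq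
    (.splitN 15739070 (.split 2 87430 (.split 0 (-3966) .sq (.split 1 3966 (.split 5 (-3938)
    (.lin 4) (.split 4 91339 (.split 6 3932 (.splitN 9217638 (.split 2 51196 (.split 4 55105
    (.split 0 (-3035) .sq (.splitN 8480089 (.split 2 47110 (.split 4 51019 (.split 1 2911 (.split
    5 (-2885) (.lin 4) (.split 6 2879 (.splitN 7444608 (.split 2 41350 (.split 4 44206 (.split 0
    (-2727) .sq (.split 1 2727 (.split 5 (-2705) (.lin 4) (.split 6 2699 (.splitN 7002161 (.split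
    2 2643 (.split 4 5317 (.splitN 6052034 (.split 0 (-2458) .sq (.split 1 2458 (.split 5 (-2435)
    (.lin 4) (.split 4 5047 (.splitN 5625697 (.split 2 2369 (.split 4 2369 (.splitN 5037201
    (.split 0 (-2242) .sq (.split 1 2242 (.split 5 (-2219) (.lin 4) (.splitN 4764705 (.split 2
    2180 (.split 4 2180 cert5_101_12 .sq) .sq) (.wt 1))) .sq)) (.wt 1)) .sq) .sq) (.wt 1)) (.lin
    5))) .sq)) (.wt 1)) (.lin 3)) .sq) (.wt 1)) (.lin 11))) .sq)) (.lin 3)) (.div 2)) (.wt 1))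
    (.lin 11))) .sq) (.lin 3)) (.div 2)) (.wt 1))) (.lin 3)) (.div 2)) (.wt 1)) (.lin 11)) (.lin
    5))) .sq)) (.div 2)) (.wt 1))) (.lin 4))) (.div 4)) (.div 2)) (.wt 1)) (.lin 4)))) (.div 4))
    (.div 2)) (.wt 1))) (.lin 9))))))) (.lin 12))) (.split 0 (-5) (.split 7 (-19) (.split 6 24
    (.split 3 7 (.wt 2) (.split 5 (-13) (.split 6 8 (.wt 2) (.split 5 (-22) cert5_101_13 (.lin
    7))) (.lin 7))) (.split 4 15 (.lin 3) (.split 1 33 (.lin 11) (.split 5 (-22) (.split 7 (-28)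
    (.split 3 27 cert5_101_14 (.split 1 60 (.lin 11) (.splitN 434032 (.split 4 4796 (.split 7
    (-4808) (.lin 12) (.split 3 73 (.split 4 75 (.split 6 80 (.split 1 151 (.split 5 (-194) (.lin
    0) (.split 7 (-83) (.lin 12) (.split 2 1 (.wt 2) (.split 4 24 (.lin 3) (.wt 2))))) (.lin 11))
    (.lin 3)) (.wt 2)) (.wt 2))) (.div 4)) (.wt 6)))) (.lin 9)) (.lin 4))))) (.lin 12)) (.wt 2)))

theorem check5_101 :
    check task5 cert5_101
      [(7, ⟨none, some (-2)⟩), (7, ⟨some (16), none⟩), (1, ⟨some (1), none⟩), (7, ⟨some (7), none⟩), (7, ⟨some (7), none⟩), (5, ⟨none, some (-4)⟩), (8, ⟨some (8), none⟩), (8, ⟨none, some (-10)⟩)] ⟨some (3960), none⟩ = true := by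
  decide +kernel

def cert5_102 : Cert :=
  (.split 0 (-20) (.split 2 18 (.lin 10) (.split 7 (-28) (.split 3 10 (.wt 2) (.split 7 (-37)
    (.split 0 (-29) (.split 2 27 (.lin 10) (.split 6 24 (.wt 2) (.split 7 (-55) (.split 0 (-47)
    (.split 3 20 (.wt 2) (.split 7 (-64) (.split 0 (-56) (.split 2 36 (.lin 10) (.splitN 738798
    (.split 0 (-20451) (.div 0) (.split 6 20420 (.split 1 8180 (.split 6 8153 (.split 2 4090
    (.split 3 4075 (.split 4 4057 (.splitN 672367 (.split 1 7460 (.split 6 7433 (.split 2 3730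
    (.split 3 3715 (.split 4 3697 (.splitN 492338 (.split 1 5444 (.split 6 5417 (.split 2 2722
    (.split 4 2689 (.split 6 40 (.wt 2) (.split 7 (-82) (.split 0 (-74) (.split 1 69 (.lin 11)
    (.splitN 221090 (.split 1 2456 (.split 6 2429 (.split 2 1228 (.split 3 1213 (.split 4 1195
    (.splitN 209565 (.split 1 2312 (.split 6 2285 (.split 2 1156 (.split 7 (-3440) (.lin 2)
    (.split 3 1141 (.split 4 1123 (.split 5 1121 (.splitN 26644 (.wt 1) (.splitN 168367 (.split 2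
    922 (.split 3 907 (.split 4 889 (.split 3 28 (.wt 2) (.split 7 (-91) (.split 0 (-83) (.split
    1 78 (.lin 11) (.splitN 136850 (.split 1 1520 (.split 6 1484 (.split 2 760 (.split 3 745
    (.split 4 718 (.split 4 7 (.wt 0) (.split 7 (-100) (.splitN 122488 (.split 1 1340 (.split 6
    1304 (.split 2 670 (.split 3 646 (.split 4 628 (.split 5 7 (.wt 2) (.split 0 (-92) (.split 7
    (-109) (.splitN 101012 (.split 1 1088 (.split 6 1052 (.split 2 544 (.split 3 511 (.split 4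
    493 (.split 5 491 (.split 3 35 (.wt 2) (.split 7 (-118) (.split 0 (-101) (.split 2 72 (.lin
    10) (.splitN 93126 (.split 1 1016 (.split 6 971 (.split 2 508 (.split 3 475 (.split 4 448
    (.split 6 66 (.wt 2) (.split 7 (-145) (.split 0 (-128) (.split 1 114 (.lin 11) (.splitN 63305
    .sq (.splitN 81902 (.split 1 908 (.split 6 863 (.split 2 454 (.split 4 394 (.split 5 392
    (.split 3 57 (.wt 0) (.split 0 (-146) (.split 2 90 (.lin 10) (.split 1 132 (.lin 11) (.split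
    7 (-163) .sq (.lin 6)))) (.lin 7))) (.lin 10)) (.lin 10)) (.div 2)) (.lin 11)) (.div 1)) (.wt
    3)))) (.lin 7)) (.lin 6))) (.lin 10)) (.lin 10)) (.div 2)) (.lin 11)) (.div 1)) (.wt 3)))
    (.lin 7)) (.lin 6))) (.lin 10)) (.lin 10)) (.lin 10)) (.div 2)) (.lin 11)) (.div 1)) (.wt 3))
    (.lin 6)) (.lin 4))) (.lin 10)) (.lin 10)) (.div 2)) (.lin 11)) (.div 1)) (.wt 5)) (.lin 6)))
    (.lin 10)) (.lin 10)) (.div 2)) (.lin 11)) (.div 1)) (.wt 5))) (.lin 7)) (.lin 6))) (.lin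
    10)) (.lin 10)) (.div 2)) (.wt 5))) (.lin 10)) (.lin 10)) (.lin 10))) (.div 2)) (.lin 11))
    (.div 1)) (.wt 3)) (.lin 10)) (.lin 10)) (.div 2)) (.lin 11)) (.div 1)) (.wt 3))) (.lin 7))
    (.lin 6))) (.lin 10)) (.div 2)) (.lin 11)) (.div 1)) (.wt 5)) (.lin 10)) (.lin 10)) (.div 2))
    (.lin 11)) (.div 1)) (.wt 3)) (.lin 10)) (.lin 10)) (.div 2)) (.lin 11)) (.div 1)) (.lin 7)))
    (.wt 3))) (.lin 7)) (.lin 6))) (.lin 7)) (.lin 6)))) (.lin 7)) (.lin 6))) (.lin 6))) (.lin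
    4))

theorem check5_102 :
    check task5 cert5_102
      [(7, ⟨none, some (-2)⟩), (7, ⟨some (16), none⟩), (1, ⟨none, none⟩), (7, ⟨some (7), none⟩), (7, ⟨some (7), none⟩), (5, ⟨some (5), none⟩), (8, ⟨some (8), none⟩), (8, ⟨none, some (-10)⟩)] ⟨some (3960), none⟩ = true := by
  decide +kernel

def cert5_103 : Cert :=
  (.wt 3)

theorem check5_103 :
    check task5 cert5_103
      [(7, ⟨none, some (-2)⟩), (7, ⟨some (16), none⟩), (1, ⟨none, none⟩), (7, ⟨some (7), none⟩), (7, ⟨none, none⟩), (5, ⟨none, none⟩), (8, ⟨some (8), none⟩), (8, ⟨some (-1), some (-1)⟩)] ⟨some (3960), none⟩ = true := by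
  decide +kernel

def cert5_104 : Cert :=
  (.lin 12)

theorem check5_104 :
    check task5 cert5_104
      [(7, ⟨some (7), none⟩), (7, ⟨none, none⟩), (1, ⟨none, none⟩), (7, ⟨none, none⟩), (7, ⟨none, some (-2)⟩), (5, ⟨none, none⟩), (8, ⟨some (8), none⟩), (8, ⟨none, some (-1)⟩)] ⟨some (3960), none⟩ = true := by
  decide +kernel

def cert5_105 : Cert :=
  (.lin 12)

theorem check5_105 :
    check task5 cert5_105
      [(7, ⟨some (7), none⟩), (7, ⟨none, none⟩), (1, ⟨none, none⟩), (7, ⟨none, some (-2)⟩), (7, ⟨some (7), some (7)⟩), (5, ⟨none, none⟩), (8, ⟨some (8), none⟩), (8, ⟨none, some (-10)⟩)] ⟨some (3960), none⟩ = true := by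
  decide +kernel

def cert5_106 : Cert :=
  (.wt 1)

theorem check5_106 :
    check task5 cert5_106
      [(7, ⟨some (7), none⟩), (7, ⟨none, some (-2)⟩), (1, ⟨none, none⟩), (7, ⟨none, some (-11)⟩), (7, ⟨some (16), none⟩), (5, ⟨none, some (-4)⟩), (8, ⟨some (8), none⟩), (8, ⟨none, some (-10)⟩)] ⟨some (3960), some (10440)⟩ = true := by
  decide +kernel

def cert5_107_0 : Cert :=
  (.split 5 (-69) (.split 0 87 (.lin 1) (.split 0 132 (.lin 4) (.split 1 (-228) (.lin 4) (.split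
    3 (-309) (.lin 7) (.split 4 177 (.lin 8) (.split 6 66 (.split 3 (-291) (.lin 7) (.split 2
    (-18) (.lin 9) (.split 7 (-56) (.lin 9) (.split 1 (-113) (.split 4 231 (.lin 0) (.split 0 177
    (.lin 3) (.split 0 195 (.lin 4) (.split 3 (-173) (.split 5 (-185) (.lin 4) (.splitN 147095
    .sq (.split 7 (-51) (.split 4 249 (.lin 8) (.split 2 (-9) (.lin 9) (.split 6 61 (.lin 9)
    (.splitN 157715 .sq (.splitN 186061 (.split 0 257 (.split 3 (-237) (.lin 1) (.split 4 304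
    (.split 5 (-131) (.lin 0) (.splitN 174942 (.split 0 230 (.split 3 (-210) (.lin 1) (.split 4
    277 (.split 5 (-104) (.lin 0) (.split 5 (-77) (.split 1 (-138) (.lin 0) (.split 3 (-183)
    (.split 1 (-128) (.split 4 267 (.lin 0) .sq) (.lin 2)) (.wt 2))) (.wt 1))) (.lin 3))) .sq)
    (.wt 1))) (.lin 3))) .sq) (.wt 1)))))) (.split 4 349 (.split 6 57 (.splitN 301931 .cand (.wt
    0)) (.split 2 (-17) (.splitN 189280 (.split 1 (-126) (.split 4 249 (.lin 0) (.split 1 (-131)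
    (.split 5 (-167) (.lin 0) (.split 0 213 (.lin 4) (.splitN 176414 (.split 0 242 (.split 3
    (-228) (.lin 1) (.split 1 (-165) (.lin 2) (.wt 0))) (.wt 0)) (.wt 6)))) (.wt 0))) (.wt 0))
    (.wt 1)) (.lin 9))) (.lin 12))))) (.lin 2))))) (.split 3 (-183) (.lin 2) (.split 7 (-51)
    (.split 6 61 (.lin 9) (.splitN 225288 .cand (.wt 1))) (.split 4 349 (.splitN 146091 (.wt 0)
    (.split 6 57 (.split 2 (-9) (.lin 9) (.split 3 (-165) (.lin 2) (.splitN 178854 (.wt 0)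
    (.split 0 218 (.split 5 (-158) (.lin 1) (.split 4 259 (.split 1 (-83) (.split 4 204 (.lin 0)
    (.split 0 159 (.lin 3) (.split 5 (-131) (.lin 0) (.splitN 334545 .cand (.wt 1))))) (.split 3
    (-129) (.lin 2) (.split 0 171 (.split 5 (-113) (.lin 1) (.split 4 214 (.splitN 369459 (.split
    1 (-57) (.split 5 (-104) (.lin 0) (.split 0 141 (.lin 4) (.splitN 328300 (.split 0 150
    (.split 3 (-120) (.lin 1) (.split 1 (-66) (.lin 2) (.wt 0))) (.wt 2)) (.wt 1)))) (.wt 0))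
    (.wt 1)) (.lin 3))) (.wt 2)))) (.lin 3))) (.split 5 (-112) (.split 4 213 (.lin 0) (.split 4
    267 (.lin 3) (.splitN 430425 (.split 1 (-63) (.splitN 393497 (.split 1 (-67) (.splitN 369507
    .cand (.wt 1)) (.wt 0)) (.wt 1)) (.wt 0)) (.wt 1)))) (.lin 1)))))) (.split 2 (-17) (.split 3
    (-119) (.splitN 198418 (.split 0 157 (.split 3 (-138) (.lin 1) (.split 1 (-75) (.lin 2)
    (.split 5 (-95) (.lin 1) (.wt 0)))) (.wt 0)) (.wt 6)) (.lin 2)) (.lin 9)))) (.lin 12))))))))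
    (.split 3 (-128) (.split 7 (-55) (.split 2 (-27) (.lin 9) (.split 1 (-113) (.split 4 240
    (.lin 0) (.split 0 195 (.lin 4) (.split 3 (-182) (.split 5 (-185) (.lin 4) (.splitN 157688
    .sq (.split 1 (-163) (.wt 1) (.split 3 (-246) (.lin 2) (.wt 6))))) (.lin 2)))) (.split 3
    (-201) (.lin 2) (.split 0 188 (.split 5 (-131) (.lin 4) (.split 0 166 (.split 5 (-104) (.lin
    4) (.split 3 (-165) (.lin 7) (.wt 2))) (.wt 2))) (.wt 2))))) (.split 2 (-26) (.splitN 156437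
    (.split 0 165 (.split 3 (-165) (.lin 1) (.split 1 (-93) (.lin 2) (.split 5 (-113) (.lin 1)
    (.wt 0)))) (.wt 0)) (.wt 6)) (.lin 9))) (.lin 11)))))))) (.split 6 66 (.split 3 (-345) (.lin
    7) (.split 2 (-18) (.lin 9) (.split 7 (-56) (.lin 9) (.split 0 154 (.split 3 (-201) (.lin 1)
    (.split 1 (-147) (.lin 2) (.split 4 205 (.split 1 (-129) (.lin 4) (.split 5 (-39) (.split 4
    132 (.lin 0) (.split 0 96 (.lin 4) (.split 3 (-183) (.lin 6) (.split 1 (-111) (.lin 4)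
    (.split 4 141 (.lin 8) (.splitN 371684 (.split 7 (-51) (.split 6 61 (.lin 9) (.splitN 191386
    .cand (.wt 1))) (.split 6 57 (.split 2 (-9) (.lin 9) (.splitN 187065 (.wt 1) .cand)) (.split
    2 (-17) (.splitN 195486 (.split 1 (-66) (.split 4 159 (.lin 0) (.split 0 114 (.lin 3) (.wt
    2))) (.wt 0)) (.wt 1)) (.lin 9)))) (.wt 1))))))) (.split 0 115 (.split 4 169 (.split 1 (-102)
    (.lin 8) (.split 1 (-93) (.lin 4) (.split 3 (-156) (.lin 7) (.split 7 (-51) (.split 3 (-119)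
    (.split 2 (-9) (.lin 9) (.split 4 132 (.lin 6) (.split 6 61 (.lin 9) (.splitN 149439 (.split
    0 104 (.split 3 (-138) (.lin 1) (.split 1 (-75) (.lin 2) (.wt 2))) (.wt 0)) (.wt 1))))) (.lin
    2)) (.split 0 110 (.split 3 (-147) (.lin 1) (.split 0 101 (.split 3 (-138) (.lin 1) (.split 1
    (-75) (.lin 4) (.split 0 93 (.split 3 (-129) (.lin 1) (.split 1 (-66) (.lin 4) (.split 0 84
    (.split 3 (-120) (.lin 1) (.split 1 (-57) (.lin 4) (.split 5 (-23) (.lin 4) (.split 4 124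
    (.splitN 204560 (.wt 0) (.wt 1)) (.lin 8))))) (.wt 2)))) (.wt 2)))) (.wt 2))) (.wt 2))))))
    (.lin 3)) (.split 1 (-92) (.split 4 168 (.lin 12) (.splitN 198884 (.split 6 58 (.split 3
    (-183) (.lin 7) (.split 2 (-9) (.lin 9) (.split 7 (-47) (.lin 9) (.split 0 149 (.split 4 187
    (.split 1 (-120) (.lin 8) (.split 0 141 (.split 3 (-165) (.lin 1) (.split 1 (-111) (.lin 2)
    (.wt 0))) (.wt 0))) (.lin 3)) (.wt 0))))) (.wt 2)) (.wt 1))) (.lin 4))))) (.lin 3)))) (.split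
    4 195 (.lin 3) (.split 1 (-92) (.splitN 305508 (.split 5 (-39) (.split 1 (-264) (.lin 4)
    (.split 3 (-327) (.lin 7) (.split 7 (-51) (.split 6 61 (.lin 9) (.splitN 171658 .cand (.wt
    1))) (.splitN 122610 (.wt 0) (.split 6 57 .cand (.split 2 (-17) (.splitN 174395 (.split 0 274
    (.split 3 (-291) (.lin 1) (.split 1 (-228) (.lin 2) (.wt 2))) (.wt 0)) (.wt 1)) (.lin
    9))))))) (.split 1 (-110) (.split 6 61 (.split 2 (-9) (.lin 9) (.split 7 (-47) (.lin 9)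
    (.split 0 243 (.split 3 (-273) (.lin 1) (.split 1 (-219) (.lin 2) (.split 4 295 (.splitN
    162048 (.wt 0) (.split 5 (-23) (.split 0 191 (.split 3 (-210) (.lin 1) (.split 1 (-156) (.lin
    2) (.splitN 189283 (.wt 0) (.wt 1)))) (.wt 2)) (.wt 1))) (.lin 0)))) (.wt 2)))) (.wt 2))
    (.lin 0))) (.wt 1)) (.lin 4))))))) (.split 7 (-55) (.split 4 132 (.lin 8) (.split 2 (-27)
    (.lin 9) (.split 0 154 (.split 3 (-219) (.lin 1) (.split 1 (-156) (.lin 2) (.split 5 (-24)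
    (.split 1 (-120) (.lin 4) (.split 3 (-201) (.lin 7) (.split 4 141 (.lin 8) (.split 0 141
    (.split 3 (-183) (.lin 7) (.split 0 124 (.split 1 (-93) (.lin 4) (.split 0 119 (.split 5
    (-59) (.lin 4) (.split 3 (-165) (.lin 7) (.split 0 101 (.split 1 (-66) (.lin 4) (.split 5
    (-41) (.lin 4) (.wt 2))) (.wt 2)))) (.wt 2))) (.wt 2))) (.wt 2))))) (.wt 2)))) (.split 3
    (-155) (.split 1 (-65) (.split 4 204 (.lin 3) (.split 1 (-92) (.split 3 (-164) (.splitN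
    111599 .sq (.split 5 (-24) (.split 3 (-354) (.lin 7) (.split 0 247 (.split 3 (-300) (.lin 1)
    (.split 1 (-210) (.lin 4) (.split 0 202 (.split 3 (-255) (.lin 1) (.split 1 (-192) (.lin 2)
    (.split 1 (-165) (.lin 4) (.split 0 167 (.split 3 (-219) (.lin 1) (.wt 2)) (.wt 2))))) (.wt
    2)))) (.wt 2))) (.wt 1))) (.lin 7)) (.lin 4))) (.lin 2)) (.lin 1))))) (.split 2 (-26) (.split
    0 124 (.split 3 (-183) (.lin 1) (.split 1 (-111) (.lin 2) (.wt 2))) (.wt 2)) (.lin 9)))))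

def cert5_107_1 : Cert :=
  (.split 7 (-73) (.split 3 (-137) (.split 2 (-36) (.lin 9) (.split 4 150 (.lin 8) (.split 6 79
    (.lin 9) (.splitN 166674 (.split 0 330 (.split 3 (-435) (.lin 1) (.split 4 421 (.split 1
    (-300) (.lin 4) (.split 5 (-266) (.lin 4) (.split 3 (-408) (.lin 7) (.splitN 149611 (.split 0
    299 (.split 4 394 (.split 3 (-320) .sq (.split 1 (-237) (.lin 2) (.split 4 325 (.split 0 250
    (.split 5 (-194) (.lin 4) (.split 5 (-66) (.split 0 123 (.lin 4) (.split 3 (-291) (.lin 6)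
    (.split 4 168 (.lin 0) (.split 4 195 (.lin 8) (.splitN 91979 .sq (.splitN 133544 (.split 0
    231 (.split 5 (-167) (.lin 4) (.split 3 (-264) (.lin 7) (.split 6 102 (.split 7 (-92) (.lin
    9) (.split 3 (-239) .sq (.split 4 277 (.split 1 (-138) (.lin 8) (.split 0 205 (.split 5
    (-149) (.lin 4) (.split 6 97 (.split 2 (-18) (.lin 9) (.split 7 (-83) (.lin 9) (.split 1
    (-59) (.split 5 (-140) (.lin 4) (.split 0 194 (.split 3 (-219) (.lin 1) (.split 1 (-120)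
    (.lin 4) (.split 5 (-122) (.lin 4) (.split 0 164 (.split 3 (-192) (.lin 1) (.split 1 (-93)
    (.lin 4) (.split 5 (-95) (.lin 4) (.wt 2)))) (.wt 2))))) (.wt 2))) (.wt 2)))) (.wt 2))) (.lin
    12))) .sq))) (.wt 6)))) .sq) (.wt 1))))))) (.splitN 124798 (.split 3 (-282) .sq (.split 4 288
    (.split 5 (-40) (.split 0 96 (.lin 4) (.split 1 (-174) (.lin 8) (.split 4 168 (.lin 8)
    (.splitN 119748 (.split 3 (-251) .sq (.split 1 (-165) (.lin 2) (.split 6 103 (.split 7 (-92)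
    (.lin 9) (.split 0 161 (.split 1 (-120) (.lin 4) (.split 3 (-219) (.lin 7) (.split 0 139
    (.split 1 (-93) (.lin 4) (.split 3 (-192) (.lin 7) (.split 0 116 (.split 1 (-75) (.lin 4)
    (.split 3 (-174) (.lin 7) (.splitN 99861 (.split 7 (-76) (.split 6 88 (.lin 9) (.wt 2)) (.wt
    0)) (.wt 6)))) (.wt 2)))) (.wt 2)))) (.wt 2))) (.wt 2)))) (.wt 1))))) (.split 0 128 (.split 1
    (-102) (.lin 4) (.split 3 (-210) (.lin 7) (.split 0 94 (.split 1 (-66) (.lin 4) (.split 3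
    (-174) (.lin 7) (.wt 2))) (.wt 2)))) (.wt 2))) .sq)) (.wt 1)))) (.lin 12)) .sq))) (.lin 3))
    .sq) (.wt 1))))) (.lin 3))) .sq) (.wt 1))))) (.lin 2)) (.split 6 80 (.split 2 (-36) (.lin 9)
    (.split 5 (-219) (.split 0 231 (.lin 1) (.split 0 276 (.lin 4) (.split 3 (-2028) (.lin 6)
    (.split 4 294 (.lin 0) (.split 4 321 (.lin 8) (.splitN 249038 .sq (.splitN 825147 (.split 6
    79 (.split 2 (-27) (.lin 9) (.split 0 807 (.split 3 (-669) (.lin 1) (.split 5 (-779) (.lin 1)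
    (.split 4 862 (.splitN 686066 (.split 7 (-63) (.wt 1) (.split 0 715 (.split 5 (-680) (.lin 1)
    (.split 4 772 (.split 4 734 (.split 5 (-644) (.lin 0) (.split 6 62 (.split 2 (-18) (.lin 9)
    (.split 1 (-161) (.split 4 420 (.lin 0) (.split 0 366 (.lin 3) (.split 3 (-218) (.splitN
    439739 .sq (.wt 1)) (.lin 2)))) (.split 3 (-228) (.lin 2) (.splitN 549165 (.split 0 613
    (.split 4 664 (.split 4 634 (.split 5 (-536) (.lin 0) (.split 7 (-51) (.split 6 61 (.lin 9)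
    (.wt 1)) (.split 3 (-122) (.split 6 59 (.split 0 294 (.lin 7) (.split 2 (-9) (.lin 9) (.split
    1 (-74) (.split 5 (-509) (.lin 0) (.split 3 (-210) (.lin 2) (.splitN 429989 .cand (.wt 1))))
    (.lin 11)))) (.wt 2)) (.wt 2)))) .sq) (.lin 3)) .sq) (.wt 1))))) (.split 2 (-17) (.wt 1)
    (.lin 9)))) .sq) (.lin 3))) .sq)) (.wt 1)) (.lin 3)))) .sq)) (.wt 6)) (.wt 1)))))))) (.splitN
    1707895 (.split 0 1291 (.split 3 (-1362) (.lin 1) (.split 1 (-1308) (.lin 2) (.split 4 1591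
    (.split 4 1357 (.splitN 1554169 (.split 3 (-1234) .sq (.split 4 1235 (.split 0 309 (.split 3
    (-381) (.lin 1) (.split 1 (-327) (.lin 2) (.split 4 376 (.split 1 (-309) (.lin 8) (.split 1
    (-282) (.lin 4) cert5_107_0)) (.lin 3)))) (.split 3 (-155) (.split 1 (-101) (.split 4 357
    (.lin 12) (.splitN 265832 .sq (.splitN 416013 (.split 2 (-16) (.wt 1) (.split 7 (-54) (.wt 1)
    (.split 6 53 .cand (.lin 9)))) (.wt 1)))) (.lin 4)) (.lin 1))) .sq)) (.wt 1)) (.lin 3)) (.lin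
    0)))) .sq) (.wt 1)))) (.split 2 (-26) (.splitN 207978 (.split 5 (-1139) (.div 5) (.split 0
    440 (.split 3 (-543) (.lin 1) (.split 1 (-417) (.lin 4) (.split 5 (-383) (.lin 4) (.split 0
    211 (.split 3 (-309) (.lin 1) (.split 1 (-183) (.lin 4) (.split 5 (-149) (.lin 4) (.split 0
    120 (.split 3 (-219) (.lin 1) (.split 1 (-147) (.lin 2) (.split 5 (-59) (.lin 4) (.split 3
    (-201) (.lin 7) (.wt 2))))) (.wt 2))))) (.wt 2))))) (.wt 2))) (.wt 1)) (.lin 9))))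

def cert5_107_2 : Cert :=
  (.split 6 114 (.split 2 (-63) (.lin 9) (.split 7 (-101) (.lin 9) (.split 1 (-48) (.split 3
    (-110) (.split 0 78 (.lin 4) (.split 4 123 (.lin 8) (.splitN 12568578 (.split 0 3539 (.split
    3 (-3675) (.lin 1) (.split 1 (-3621) (.lin 2) (.split 5 (-3587) (.lin 1) (.split 4 3634
    (.splitN 6314031 (.split 0 2505 (.split 3 (-2640) (.lin 1) (.split 1 (-2586) (.lin 2) (.split
    5 (-2552) (.lin 1) (.split 4 2599 (.splitN 5268292 (.split 0 2286 (.split 5 (-2336) (.lin 1)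
    (.split 4 2383 (.split 3 (-2289) .sq (.splitN 4938486 (.split 4 2216 (.split 5 (-2165) (.lin
    0) cert5_107_1) .sq) (.wt 1))) (.lin 3))) .sq) (.wt 1)) (.lin 3))))) .sq) (.wt 1)) (.lin
    3))))) .sq) (.wt 1)))) (.lin 2)) (.split 3 (-156) (.lin 11) (.split 0 94 (.split 5 (-68)
    (.lin 4) (.split 7 (-73) (.split 2 (-36) (.lin 9) (.split 4 114 (.lin 8) (.split 6 79 (.lin
    9) (.split 1 (-34) (.split 0 60 (.lin 4) (.split 5 (-50) (.lin 4) (.split 4 132 (.lin 8)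
    (.split 0 78 (.split 5 (-32) (.lin 4) (.splitN 99816 (.split 7 (-74) (.split 6 88 (.lin 9)
    (.wt 2)) (.wt 0)) (.wt 6))) (.wt 2))))) (.split 3 (-138) (.lin 11) (.split 0 61 (.split 5
    (-41) (.lin 4) (.split 0 53 (.split 5 (-32) (.lin 4) (.split 0 49 (.split 5 (-23) (.lin 4)
    (.wt 2)) (.wt 2))) (.wt 2))) (.wt 2))))))) (.split 4 151 (.split 6 80 (.split 3 (-147) (.lin
    7) (.split 2 (-36) (.lin 9) (.split 3 (-129) (.lin 11) (.split 1 (-34) (.split 3 (-92)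
    (.split 0 60 (.lin 4) (.split 5 (-50) (.lin 4) (.split 4 105 (.lin 8) (.split 6 76 (.split 3
    (-120) (.lin 11) (.split 7 (-55) (.split 6 61 (.lin 9) (.split 0 84 (.split 5 (-41) (.lin 4)
    (.split 0 77 (.split 5 (-32) (.lin 4) (.split 0 67 (.split 5 (-23) (.lin 4) (.wt 2)) (.wt
    2))) (.wt 2))) (.wt 2))) (.split 4 133 (.split 5 (-23) (.split 0 69 (.lin 4) (.split 4 114
    (.lin 8) (.split 6 58 (.split 3 (-111) (.lin 6) (.split 2 (-9) (.lin 9) (.split 3 (-102)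
    (.lin 2) (.splitN 369236 (.split 0 78 (.split 3 (-93) (.lin 1) (.split 1 (-39) (.lin 2)
    (.split 5 (-32) (.lin 1) (.wt 0)))) (.wt 2)) (.wt 1))))) (.wt 2)))) (.wt 2)) (.lin 12))))
    (.wt 2))))) (.lin 2)) (.split 3 (-111) (.lin 11) (.split 0 65 (.split 5 (-41) (.lin 4)
    (.split 6 66 (.split 3 (-102) (.lin 7) (.split 7 (-56) (.lin 9) (.split 1 (-25) (.split 0 51
    (.lin 4) (.split 5 (-32) (.lin 4) (.split 4 96 (.lin 8) (.split 0 55 (.split 5 (-23) (.lin 4)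
    (.wt 2)) (.wt 2))))) (.split 0 45 (.split 5 (-23) (.lin 4) (.wt 2)) (.wt 2))))) (.split 0 48
    (.split 5 (-23) (.lin 4) (.wt 2)) (.wt 2)))) (.split 5 (-40) (.split 4 105 (.lin 8) (.split 4
    114 (.lin 12) (.split 1 (-22) (.split 5 (-59) (.lin 4) (.splitN 649131 (.split 6 58 (.split 2
    (-9) (.lin 9) (.split 7 (-47) (.lin 9) (.split 3 (-84) (.lin 2) (.wt 0)))) (.wt 2)) (.wt 1)))
    (.wt 2)))) (.lin 4)))))))) (.split 2 (-26) (.split 0 57 (.split 1 (-30) (.lin 4) (.split 5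
    (-32) (.lin 4) (.wt 2))) (.wt 2)) (.lin 9))) (.lin 12)))) (.split 5 (-49) (.split 4 114 (.lin
    8) (.split 4 141 (.lin 12) (.split 6 89 (.split 7 (-83) (.lin 9) (.split 3 (-138) (.lin 11)
    (.split 6 79 (.split 2 (-27) (.lin 9) (.split 7 (-65) (.lin 9) (.split 3 (-120) (.lin 11)
    (.split 0 352 (.split 5 (-365) (.lin 1) (.split 5 (-329) (.lin 4) (.split 0 279 (.split 5
    (-293) (.lin 1) (.split 5 (-257) (.lin 4) (.split 0 264 (.split 5 (-239) (.lin 4) (.split 1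
    (-24) (.split 6 66 (.split 7 (-56) (.lin 9) (.split 3 (-111) (.lin 11) (.split 0 160 (.split
    5 (-131) (.lin 4) (.split 0 141 (.split 5 (-104) (.lin 4) (.split 0 132 (.split 1 (-34)
    (.split 5 (-86) (.lin 4) (.split 6 56 (.split 7 (-47) (.lin 9) (.wt 2)) (.wt 2))) (.wt 2))
    (.wt 2))) (.wt 2))) (.wt 2)))) (.wt 2)) (.wt 2))) (.wt 2)))) (.wt 2)))) (.wt 2))))) (.wt
    2)))) (.wt 2)))) (.lin 4))))))) (.split 3 (-137) (.split 7 (-100) (.split 4 141 (.lin 8)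
    (.splitN 205445 (.split 4 2276 (.split 0 376 (.split 5 (-356) (.lin 4) (.splitN 192784
    (.split 2 (-1067) (.div 2) (.split 4 2132 (.split 3 (-3171) (.lin 10) (.split 3 (-382) .sq
    (.split 7 (-353) (.lin 2) (.split 4 727 (.split 6 359 (.splitN 180923 (.split 0 339 (.split 4
    682 (.split 4 365 (.split 0 259 (.split 5 (-239) (.lin 4) (.split 7 (-317) (.lin 8) (.split 1
    (-69) (.split 0 96 (.lin 4) (.split 3 (-182) (.split 5 (-185) (.lin 4) (.split 4 195 (.lin 8)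
    (.splitN 110429 .sq (.wt 1)))) (.lin 2))) (.split 0 186 (.split 5 (-158) (.lin 4) (.splitN
    167630 (.split 0 169 (.split 5 (-149) (.lin 4) (.split 3 (-346) .sq (.split 0 157 (.split 5
    (-131) (.lin 4) (.split 4 347 (.split 7 (-299) (.lin 8) (.split 0 80 (.split 1 (-57) (.lin 4)
    (.split 5 (-59) (.lin 4) (.splitN 143521 (.split 3 (-312) .sq (.split 4 313 (.split 1 (-38)
    (.split 0 60 (.lin 4) (.split 5 (-41) (.lin 4) (.split 4 159 (.lin 8) (.split 3 (-155)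
    (.splitN 78794 .sq (.split 2 (-21) (.wt 1) (.split 7 (-162) (.wt 1) (.split 3 (-228) (.lin 1)
    (.splitN 83215 (.split 7 (-102) (.split 4 168 (.lin 8) .sq) (.wt 0)) (.wt 6)))))) (.lin
    11))))) (.split 0 64 (.split 5 (-41) (.lin 4) (.split 0 57 (.split 5 (-32) (.lin 4) (.split 1
    (-21) (.split 0 51 (.lin 4) (.split 5 (-23) (.lin 4) (.split 4 150 (.lin 8) (.split 7 (-263)
    (.lin 8) (.wt 2))))) (.wt 2))) (.wt 2))) (.wt 2))) .sq)) (.wt 1)))) (.split 4 186 (.lin 12)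
    (.split 7 (-254) (.lin 12) (.splitN 85886 .sq (.split 0 132 (.split 5 (-104) (.lin 4)
    (.splitN 106143 (.split 1 (-21) (.split 5 (-95) (.lin 4) (.split 2 (-46) (.wt 1) (.split 7
    (-207) (.wt 1) (.split 3 (-309) (.lin 2) (.split 0 107 (.split 5 (-77) (.lin 4) (.wt 6)) (.wt
    2)))))) (.wt 0)) (.wt 6))) (.wt 2))))))) .sq)) (.wt 2)))) (.wt 2)) (.wt 1))) (.wt 2)))))
    (.lin 12)) .sq) (.lin 3)) .sq) (.wt 1)) (.lin 11)) (.lin 5))))) (.div 4))) (.wt 1))) .sq)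
    (.div 4)) (.wt 1))) (.split 2 (-26) (.splitN 625284 (.split 1 (-6921) (.div 1) (.split 2
    (-3461) (.div 2) (.split 3 (-10461) (.lin 2) (.split 5 (-3461) (.div 5) (.split 0 497 (.split
    3 (-4017) (.lin 1) (.split 1 (-471) (.lin 4) (.split 5 (-473) (.lin 4) (.split 0 304 (.split
    1 (-282) (.lin 4) (.split 5 (-284) (.lin 4) (.split 4 394 (.splitN 460970 (.split 2 (-2561)
    (.div 2) (.split 3 (-2928) (.lin 1) (.split 0 242 (.split 1 (-219) (.lin 4) (.split 5 (-221)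
    (.lin 4) (.split 0 211 (.split 1 (-183) (.lin 4) (.split 5 (-185) (.lin 4) (.split 0 191
    (.split 1 (-165) (.lin 4) (.split 5 (-167) (.lin 4) (.split 4 277 (.splitN 401668 (.split 2
    (-596) .sq (.split 6 827 (.split 3 (-1038) (.lin 6) (.split 3 (-849) (.lin 1) (.split 0 156
    (.split 1 (-129) (.lin 4) (.split 5 (-131) (.lin 4) (.split 0 136 (.split 3 (-795) (.lin 1)
    (.split 1 (-111) (.lin 4) (.split 5 (-113) (.lin 4) (.split 0 123 (.split 1 (-93) (.lin 4)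
    (.split 5 (-95) (.lin 4) (.split 0 110 (.split 1 (-84) (.lin 4) (.split 5 (-86) (.lin 4)
    (.split 0 102 (.split 1 (-75) (.lin 4) (.split 5 (-77) (.lin 4) (.split 0 94 (.split 3 (-750)
    (.lin 1) (.split 1 (-66) (.lin 4) (.split 5 (-68) (.lin 4) (.split 0 85 (.split 1 (-57) (.lin
    4) (.split 5 (-59) (.lin 4) (.split 0 77 (.split 1 (-48) (.lin 4) (.split 5 (-50) (.lin 4)
    (.split 0 67 (.split 1 (-39) (.lin 4) (.split 5 (-41) (.lin 4) (.split 0 56 (.split 1 (-30)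
    (.lin 4) (.split 5 (-32) (.lin 4) (.splitN 99688 (.split 1 (-22) (.split 5 (-23) (.lin 4)
    (.split 4 96 (.lin 8) (.wt 2))) (.wt 0)) (.wt 6)))) (.wt 2)))) (.wt 2)))) (.wt 2)))) (.wt
    2))))) (.wt 2)))) (.wt 2)))) (.wt 2)))) (.wt 2))))) (.wt 2)))) (.wt 2)))) (.lin 0))) (.wt 1))
    (.lin 12)))) (.wt 2)))) (.wt 2)))) (.wt 2)))) (.wt 1)) (.lin 12)))) (.wt 2))))) (.wt 2))))))
    (.wt 1)) (.lin 9))) (.lin 11)))

def cert5_107_3 : Cert :=
  (.split 0 166 (.split 3 (-183) (.lin 1) (.split 1 (-138) (.lin 2) (.split 4 223 (.split 4 196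
    (.split 5 (-36) (.split 4 132 (.lin 0) (.split 1 (-88) (.split 3 (-137) (.wt 2) (.lin 2))
    (.split 4 169 (.split 0 133 (.split 0 115 (.split 3 (-120) (.lin 1) (.split 1 (-75) (.lin 2)
    (.split 4 160 (.split 4 151 (.split 1 (-65) (.split 4 141 (.lin 0) (.split 3 (-110) (.splitN
    966813 (.wt 1) (.splitN 1051180 (.wt 6) (.split 0 108 (.wt 0) (.split 4 150 (.lin 3) (.split
    1 (-68) (.wt 0) (.split 5 (-49) (.split 3 (-111) (.lin 6) (.splitN 1079514 (.wt 0) (.wt 0)))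
    (.lin 0))))))) (.lin 2))) (.split 4 142 (.split 0 106 (.split 3 (-102) (.lin 2) (.splitN
    1426056 (.wt 1) (.splitN 2983667 (.split 5 (-48) (.wt 1) (.split 4 133 (.split 0 97 (.wt 0)
    (.lin 1)) (.lin 0))) (.wt 3)))) (.lin 3)) (.lin 0))) (.lin 3)) (.lin 0)))) (.split 3 (-119)
    (.split 1 (-74) (.split 4 159 (.lin 3) (.splitN 871369 (.wt 1) (.split 1 (-81) (.wt 0)
    (.split 4 160 (.split 0 124 (.split 5 (-49) (.wt 0) (.lin 0)) (.lin 3)) (.lin 0))))) (.lin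
    2)) (.lin 1))) (.lin 3)) (.lin 0)))) (.split 0 119 (.split 3 (-138) (.lin 1) (.split 1 (-93)
    (.lin 2) (.split 4 160 (.split 4 151 (.split 0 97 (.split 3 (-120) (.lin 1) (.split 1 (-75)
    (.lin 2) (.split 4 133 (.split 5 (-27) (.split 1 (-66) (.lin 0) (.split 0 87 (.lin 1) (.split
    3 (-111) (.lin 6) (.split 4 123 (.lin 0) (.splitN 962342 (.split 1 (-61) (.split 4 132 (.lin
    0) (.split 0 96 (.lin 3) (.split 3 (-110) (.splitN 712033 (.wt 0) (.wt 0)) (.lin 6))))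
    (.split 4 124 (.split 3 (-102) (.lin 6) (.wt 0)) (.lin 0))) (.wt 1)))))) (.splitN 503944
    (.split 1 (-57) (.split 4 123 (.lin 0) (.split 0 87 (.lin 3) (.splitN 441305 (.wt 0) (.wt
    1)))) (.wt 0)) (.wt 1))) (.lin 3)))) (.split 3 (-119) (.split 1 (-74) (.split 4 141 (.lin 3)
    (.split 5 (-23) (.split 1 (-84) (.lin 0) (.splitN 578763 (.wt 1) (.split 0 107 (.wt 2)
    (.split 3 (-128) (.split 1 (-83) (.wt 0) (.lin 2)) (.lin 1))))) (.wt 2))) (.lin 2)) (.lin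
    1))) (.lin 3)) (.lin 0)))) (.split 3 (-137) (.split 1 (-92) (.split 4 159 (.lin 3) (.split 5
    (-27) (.split 1 (-129) (.lin 0) (.split 0 127 (.wt 2) (.split 3 (-146) (.split 0 141 (.wt 2)
    (.split 3 (-155) (.split 1 (-110) (.split 4 177 (.lin 0) (.splitN 492572 (.wt 1) (.split 0
    145 (.wt 0) (.split 3 (-164) (.split 1 (-119) (.wt 0) (.lin 2)) (.lin 1))))) (.lin 2)) (.lin
    1))) (.lin 1)))) (.split 1 (-101) (.splitN 376141 (.split 0 149 (.split 3 (-165) (.lin 1)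
    (.split 1 (-120) (.lin 2) (.split 4 178 (.splitN 370849 (.wt 0) (.wt 1)) (.lin 0)))) (.wt 0))
    (.wt 1)) (.lin 0)))) (.lin 2)) (.lin 1)))) (.lin 3)) (.lin 0)))) (.split 3 (-164) (.split 1
    (-119) (.split 4 204 (.lin 3) (.split 5 (-36) (.split 0 174 (.wt 2) (.split 3 (-173) (.split
    1 (-128) (.split 0 192 (.wt 2) (.split 3 (-191) (.split 1 (-146) (.splitN 5280920 (.split 1
    (-58653) (.div 1) (.split 4 58732 (.split 0 58696 (.split 0 230 (.wt 2) (.split 3 (-227)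
    (.split 1 (-182) (.splitN 1687474 (.split 1 (-18729) (.div 1) (.split 4 18808 (.split 0 18772
    (.split 0 327 (.wt 2) (.split 3 (-326) (.split 1 (-281) (.split 4 357 (.lin 0) (.splitN
    932736 (.split 1 (-10341) (.div 1) (.split 4 10420 (.split 0 10384 (.splitN 470207 (.wt 1)
    (.splitN 822826 (.split 1 (-9117) (.div 1) (.split 4 9196 (.split 0 9160 (.split 0 362 (.wt
    0) (.split 3 (-362) (.split 1 (-317) (.split 4 393 (.lin 0) (.splitN 526427 .sq (.splitN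
    754778 (.split 1 (-8361) (.div 1) (.split 4 8440 (.split 0 8404 (.splitN 715849 (.split 1
    (-7929) (.div 1) (.split 4 8008 (.split 0 637 (.wt 0) (.split 3 (-641) (.split 1 (-596)
    (.split 4 672 (.lin 0) .sq) (.lin 2)) (.lin 1))) (.lin 0))) (.wt 5)) (.lin 3)) (.lin 0)))
    (.wt 0)))) (.lin 2)) (.lin 1))) (.lin 3)) (.lin 0))) (.wt 3))) (.lin 3)) (.lin 0))) (.wt 0)))
    (.lin 2)) (.lin 1))) (.lin 3)) (.lin 0))) (.wt 3)) (.lin 2)) (.lin 1))) (.lin 3)) (.lin 0)))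
    (.wt 3)) (.lin 2)) (.lin 1))) (.lin 2)) (.lin 1))) (.split 1 (-137) (.split 3 (-182) (.split
    0 389 (.split 3 (-408) (.lin 1) (.split 1 (-363) (.lin 2) (.split 4 430 (.split 5 (-27)
    (.split 0 173 (.wt 2) (.split 1 (-146) (.split 3 (-295) (.split 1 (-254) (.wt 2) (.lin 2))
    (.split 0 277 (.split 1 (-246) (.lin 2) (.split 4 313 (.split 0 187 (.wt 2) (.split 3 (-209)
    (.split 1 (-164) (.split 0 228 (.wt 2) (.split 3 (-245) (.split 1 (-200) (.split 4 267 (.lin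
    0) (.splitN 444651 (.wt 1) (.wt 0))) (.lin 2)) (.lin 1))) (.lin 2)) (.lin 1))) (.lin 0)))
    (.lin 1))) (.lin 4))) (.split 0 278 (.split 3 (-300) (.lin 1) (.split 1 (-255) (.lin 2)
    (.split 0 206 (.split 3 (-228) (.lin 1) (.split 1 (-183) (.lin 2) (.split 4 241 (.splitN
    344778 (.wt 0) (.wt 1)) (.lin 0)))) (.wt 2)))) (.wt 2))) (.lin 0)))) (.split 3 (-407) (.split
    1 (-362) (.split 4 420 (.lin 0) (.splitN 633023 .sq (.wt 1))) (.lin 2)) (.lin 1))) (.lin 6))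
    (.lin 0)))) (.lin 2)) (.lin 1)))

def cert5_107_4 : Cert :=
  (.split 6 44 (.split 2 (-18) (.lin 9) (.split 7 (-33) (.split 3 (-101) (.split 2 (-9) (.lin 9)
    (.split 4 114 (.lin 6) (.split 6 43 (.lin 9) (.split 5 (-52) (.split 4 150 (.lin 0) (.split 3
    (-210) (.split 1 (-173) (.split 4 267 (.lin 0) (.splitN 6988783 (.split 4 77624 (.split 0
    77587 (.splitN 6612244 (.split 4 73448 (.splitN 585063 (.wt 1) (.splitN 2952861 (.split 4
    32804 (.split 0 32767 (.split 5 (-16403) (.div 5) (.split 0 247 (.wt 0) (.split 4 285 (.lin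
    3) (.split 3 (-1685) (.wt 0) (.split 0 18034 (.split 1 (-1632) (.lin 2) (.split 4 18070
    (.splitN 2793281 (.split 3 (-1577) (.wt 0) (.split 1 (-1524) (.lin 2) (.split 5 (-351) (.wt
    1) (.split 4 1906 (.split 0 1870 (.splitN 635169 (.wt 1) (.split 1 (-741) (.wt 0) (.split 4
    1123 (.split 0 1087 (.splitN 846699 (.wt 6) (.split 0 472 (.wt 0) (.split 4 510 (.lin 3)
    (.split 1 (-256) (.wt 0) (.split 4 637 (.split 5 (-220) (.wt 0) (.lin 0)) (.lin 0)))))) (.lin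
    3)) (.lin 0)))) (.lin 1)) (.lin 0))))) (.wt 5)) (.lin 0))) (.lin 1)))))) (.lin 3)) (.div 4))
    (.wt 5))) (.div 4)) (.wt 0)) (.lin 3)) (.div 4)) (.wt 0))) (.lin 2)) (.split 1 (-165) (.lin
    2) (.split 0 238 (.split 5 (-176) (.lin 1) (.split 4 376 (.split 4 268 (.split 1 (-110)
    (.split 3 (-155) (.splitN 839922 (.wt 1) (.wt 0)) (.lin 2)) (.split 3 (-147) (.lin 2) (.split
    0 173 (.split 4 205 (.split 3 (-146) (.wt 6) (.split 1 (-93) (.lin 2) (.split 1 (-74) (.split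
    4 168 (.lin 0) (.split 3 (-119) (.splitN 1399438 (.wt 1) (.split 0 139 (.wt 0) (.split 4 177
    (.lin 3) (.split 1 (-86) (.wt 0) (.split 3 (-129) (.lin 2) (.splitN 1711568 (.wt 1) (.split 0
    146 (.wt 0) (.split 5 (-67) (.wt 2) (.lin 1))))))))) (.lin 2))) (.split 3 (-111) (.lin 2)
    (.split 5 (-91) (.wt 1) (.split 4 187 (.split 0 151 (.split 5 (-84) (.wt 1) (.split 0 142
    (.split 0 128 (.split 4 160 (.splitN 3257216 (.wt 1) (.split 1 (-64) (.wt 0) (.split 3 (-102)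
    (.lin 2) (.splitN 11238850 (.wt 1) (.split 0 121 (.split 5 (-59) (.lin 1) (.split 4 151 (.wt
    0) (.lin 0))) (.wt 0)))))) (.lin 3)) (.split 5 (-67) (.split 4 159 (.lin 0) (.split 1 (-57)
    (.split 3 (-110) (.splitN 6998595 (.wt 1) (.wt 0)) (.lin 2)) (.wt 0))) (.lin 1))) (.lin 1)))
    (.lin 1)) (.lin 0))))))) (.lin 3)) (.split 5 (-76) (.split 4 213 (.lin 3) (.split 1 (-57)
    (.split 3 (-110) (.split 1 (-83) (.split 3 (-128) (.splitN 2261554 (.wt 1) (.split 0 187 (.wt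
    0) (.split 5 (-94) (.wt 2) (.lin 1)))) (.lin 2)) (.split 5 (-103) (.wt 1) (.lin 0))) (.lin
    2)) (.wt 1))) (.lin 1))))) (.lin 3)) (.lin 0))) (.split 5 (-76) (.split 4 168 (.lin 0)
    (.split 4 276 (.lin 3) (.split 1 (-65) (.split 3 (-110) (.split 1 (-115) (.split 3 (-164)
    (.split 5 (-464) (.wt 1) (.split 4 664 (.split 0 628 (.splitN 1258811 (.wt 1) (.split 0 278
    (.wt 0) (.split 5 (-121) (.wt 2) (.lin 1)))) (.lin 1)) (.lin 0))) (.lin 2)) (.split 5 (-130)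
    (.split 3 (-156) (.lin 2) (.split 5 (-709) (.wt 1) (.split 0 817 (.split 1 (-72) (.split 3
    (-119) (.split 1 (-77) (.split 3 (-128) (.split 0 265 (.wt 1) (.split 5 (-157) (.split 4 303
    (.lin 3) (.split 0 410 (.wt 1) (.split 5 (-301) (.split 4 420 (.lin 0) (.wt 1)) (.lin 1))))
    (.lin 1))) (.lin 2)) (.wt 1)) (.lin 2)) (.wt 1)) (.lin 1)))) (.lin 0))) (.lin 2)) (.wt 3))))
    (.lin 1)))))) cert5_107_3)))) (.lin 2)) (.split 5 (-90) (.wt 1) (.split 0 166 (.split 3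
    (-183) (.lin 1) (.split 1 (-147) (.lin 2) (.split 1 (-138) (.lin 4) (.split 5 (-39) (.wt 1)
    (.split 6 35 (.wt 1) (.split 2 (-17) (.split 3 (-101) (.split 0 87 (.split 3 (-102) (.lin 1)
    (.split 1 (-57) (.lin 2) (.split 5 (-23) (.lin 1) (.wt 0)))) (.wt 0)) (.lin 2)) (.lin
    9))))))) (.split 3 (-119) (.split 4 186 (.lin 3) (.split 5 (-55) (.wt 1) (.split 3 (-155)
    (.split 5 (-49) (.wt 1) (.split 6 39 (.split 2 (-9) (.lin 9) (.wt 1)) (.split 0 305 (.split 3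
    (-327) (.lin 1) (.wt 0)) (.wt 0)))) (.lin 1)))) (.lin 1)))))) (.split 2 (-17) (.split 3
    (-110) (.split 7 (-33) (.split 4 114 (.lin 6) (.split 2 (-18) (.lin 9) (.split 5 (-52)
    (.split 4 150 (.lin 0) (.split 0 114 (.lin 1) (.split 3 (-228) (.split 0 240 (.lin 1) (.split
    1 (-182) (.split 4 276 (.lin 0) (.splitN 809681 (.split 0 796 (.split 3 (-786) (.lin 1)
    (.split 5 (-608) (.lin 1) (.split 4 826 (.splitN 614450 (.split 0 663 (.split 3 (-651) (.lin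
    1) (.split 5 (-473) (.lin 1) (.split 4 691 (.splitN 581717 (.split 4 652 (.split 3 (-606)
    (.lin 6) (.split 5 (-428) (.lin 0) (.split 5 (-158) (.split 1 (-444) (.lin 0) (.split 0 348
    (.lin 1) (.split 3 (-498) (.lin 6) (.split 4 384 (.lin 0) (.splitN 515103 (.split 3 (-247)
    (.split 1 (-200) (.split 0 477 (.split 3 (-363) (.lin 1) (.split 1 (-309) (.lin 2) (.split 5
    (-275) (.lin 1) (.split 4 511 (.splitN 450634 (.split 0 452 (.split 3 (-336) (.lin 1) (.split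
    1 (-282) (.lin 2) (.split 5 (-248) (.lin 1) (.split 0 380 (.split 3 (-264) (.lin 1) (.split 5
    (-176) (.lin 1) (.wt 0))) (.wt 2))))) (.wt 2)) (.wt 1)) (.lin 3))))) .sq) (.lin 2)) (.wt 2))
    (.wt 1)))))) (.splitN 472726 (.split 0 545 (.split 3 (-534) (.lin 1) (.split 1 (-480) (.lin
    2) (.splitN 273521 (.wt 3) .cand))) .sq) (.wt 1))))) .sq) (.wt 1)) (.lin 3)))) .sq) (.wt 1))
    (.lin 3)))) .sq) (.wt 1))) (.lin 2))) (.split 1 (-174) (.lin 2) (.split 0 398 (.split 5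
    (-338) (.lin 1) (.split 0 311 (.split 5 (-248) (.lin 1) (.split 0 287 (.split 5 (-230) (.lin
    1) (.split 4 322 (.split 1 (-99) (.split 4 195 (.lin 0) (.split 0 159 (.lin 3) (.split 5
    (-185) (.lin 0) (.split 3 (-155) (.split 0 232 (.split 5 (-131) (.lin 1) (.split 0 206
    (.split 3 (-201) (.lin 1) (.split 1 (-147) (.lin 2) (.split 5 (-104) (.lin 1) (.wt 2)))) (.wt
    2))) (.wt 2)) (.lin 2))))) (.split 3 (-147) (.lin 2) (.splitN 945492 (.split 0 203 (.split 5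
    (-140) (.lin 1) (.split 4 232 (.splitN 573540 (.split 0 144 (.split 3 (-138) (.lin 1) (.split
    1 (-84) (.lin 2) (.split 5 (-86) (.lin 1) (.splitN 548353 (.wt 0) (.wt 1))))) (.wt 0)) (.wt
    6)) (.lin 3))) (.wt 0)) (.wt 1)))) (.lin 3))) (.wt 2))) (.wt 2))) (.wt 2)))))) (.splitN
    993451 (.split 1 (-11025) (.div 1) (.split 4 11104 (.split 3 (-11100) (.lin 6) (.split 0 1665
    (.split 3 (-1695) (.lin 1) (.split 1 (-1641) (.lin 2) (.split 0 789 (.split 3 (-813) (.lin 1)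
    (.split 1 (-759) (.lin 2) (.split 0 468 (.split 3 (-498) (.lin 1) (.split 1 (-444) (.lin 2)
    (.split 0 310 (.split 3 (-336) (.lin 1) (.split 1 (-282) (.lin 2) (.split 0 217 (.split 3
    (-246) (.lin 1) (.split 1 (-192) (.lin 2) (.split 0 160 (.split 3 (-192) (.lin 1) (.split 1
    (-138) (.lin 2) (.split 4 196 (.split 0 124 (.split 3 (-156) (.lin 1) (.split 1 (-102) (.lin
    2) (.split 4 160 (.splitN 242375 (.wt 5) (.split 5 (-24) (.split 1 (-93) (.lin 0) (.split 0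
    87 (.lin 1) (.split 3 (-147) (.lin 6) (.split 4 123 (.lin 0) (.splitN 357931 (.split 0 102
    (.split 3 (-120) (.lin 1) (.split 1 (-66) (.lin 2) (.split 5 (-41) (.lin 1) (.wt 0)))) (.wt
    0)) (.wt 6)))))) (.wt 1))) (.lin 3)))) (.wt 2)) (.lin 3)))) (.wt 2)))) (.wt 2)))) (.wt 2))))
    (.wt 2)))) (.wt 2)))) (.wt 2))) (.lin 0))) (.wt 1))))) (.split 2 (-26) (.split 0 359 (.split
    3 (-390) (.lin 1) (.split 1 (-336) (.lin 2) (.split 5 (-302) (.lin 1) (.split 0 132 (.split 3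
    (-156) (.lin 1) (.split 1 (-102) (.lin 2) (.wt 0))) (.wt 0))))) (.wt 0)) (.lin 9))) (.lin
    11)) (.lin 9)))

def cert5_107_5 : Cert :=
  (.split 6 79 (.split 2 (-45) (.lin 9) (.split 6 53 (.split 2 (-27) (.lin 9) (.split 1 (-48)
    (.split 4 87 (.lin 0) (.split 0 78 (.lin 4) (.split 3 (-92) (.split 4 105 (.lin 8)
    cert5_107_4) (.lin 2)))) (.split 3 (-111) (.lin 2) (.split 3 (-102) (.lin 11) (.split 0 94
    (.split 5 (-95) (.lin 1) (.split 4 133 (.split 4 124 (.split 6 44 (.split 2 (-18) (.lin 9)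
    (.split 3 (-93) (.lin 11) (.split 1 (-34) (.split 0 60 (.lin 4) (.split 5 (-50) (.lin 4)
    (.split 4 87 (.lin 8) (.split 7 (-29) (.split 3 (-83) (.split 2 (-9) (.lin 9) (.split 4 96
    (.lin 6) (.split 6 43 (.lin 9) (.split 5 (-36) (.split 4 114 (.lin 0) (.split 0 78 (.lin 1)
    (.split 1 (-40) (.split 4 123 (.lin 0) (.split 0 87 (.lin 3) (.split 5 (-41) (.lin 0)
    (.splitN 34431455 (.wt 0) (.wt 1))))) (.wt 0)))) (.split 4 115 (.splitN 25905197 (.split 0 76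
    (.split 4 106 (.split 5 (-27) (.split 1 (-39) (.lin 0) (.split 0 69 (.lin 1) (.split 4 105
    (.lin 0) (.wt 0)))) (.splitN 653406 (.split 0 64 (.split 3 (-84) (.lin 1) (.wt 0)) (.wt 0))
    (.wt 6))) (.lin 3)) (.wt 2)) (.wt 1)) (.lin 0)))))) (.lin 2)) (.wt 3))))) (.split 3 (-84)
    (.lin 2) (.split 3 (-75) (.lin 11) (.split 7 (-31) (.split 3 (-65) (.split 2 (-9) (.lin 9)
    (.split 4 78 (.lin 6) (.split 6 43 (.lin 9) (.split 0 53 (.split 5 (-32) (.lin 1) (.split 0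
    49 (.split 3 (-66) (.lin 1) (.split 1 (-21) (.lin 2) (.split 5 (-23) (.lin 1) (.wt 0)))) (.wt
    0))) (.wt 0))))) (.lin 2)) (.wt 3))))))) (.split 2 (-17) (.split 1 (-21) (.split 4 78 (.lin
    0) (.split 0 51 (.lin 4) (.split 5 (-59) (.lin 4) (.split 3 (-83) (.split 7 (-30) (.split 4
    87 (.lin 6) (.split 2 (-18) (.lin 9) (.split 0 64 (.split 3 (-93) (.lin 1) (.split 1 (-39)
    (.lin 2) (.split 5 (-32) (.lin 1) (.split 4 97 (.splitN 655326 (.wt 0) (.wt 1)) (.lin 3)))))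
    (.wt 2)))) (.wt 0)) (.lin 11))))) (.wt 0)) (.lin 9))) (.lin 12)) (.lin 3))) (.split 4 105
    (.lin 3) (.split 4 123 (.lin 12) (.split 1 (-24) (.split 7 (-29) (.split 3 (-74) (.split 2
    (-18) (.lin 9) (.split 6 43 (.lin 9) (.split 4 132 (.lin 12) (.split 0 166 (.split 5 (-140)
    (.lin 1) (.split 5 (-131) (.lin 4) (.split 0 150 (.split 5 (-113) (.lin 4) (.split 6 50
    (.split 2 (-9) (.lin 9) (.split 3 (-93) (.lin 2) (.wt 0))) (.wt 0))) (.wt 0)))) (.wt 0)))))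
    (.lin 2)) (.wt 0)) (.wt 0))))))))) (.split 2 (-26) (.split 3 (-83) (.split 1 (-48) (.split 0
    78 (.lin 4) (.split 4 105 (.lin 8) (.split 3 (-119) (.split 0 3415 (.split 3 (-3468) (.lin 1)
    (.split 1 (-3414) (.lin 2) (.split 5 (-3371) (.lin 1) (.split 0 1340 (.split 3 (-1398) (.lin
    1) (.split 1 (-1344) (.lin 2) (.split 5 (-1301) (.lin 1) (.split 0 698 (.split 3 (-750) (.lin
    1) (.split 1 (-696) (.lin 2) (.split 5 (-653) (.lin 1) (.split 0 407 (.split 3 (-462) (.lin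
    1) (.split 1 (-408) (.lin 2) (.split 5 (-365) (.lin 1) (.split 1 (-381) (.lin 4) (.split 0
    252 (.split 3 (-309) (.lin 1) (.split 1 (-255) (.lin 2) (.split 5 (-212) (.lin 1) (.split 0
    161 (.split 3 (-219) (.lin 1) (.split 4 205 (.split 1 (-138) (.lin 4) (.split 5 (-104) (.lin
    4) (.splitN 193792 (.wt 5) (.split 7 (-29) (.split 2 (-36) (.lin 9) (.split 5 (-24) (.split 3
    (-201) (.lin 1) (.split 0 87 (.lin 4) (.split 1 (-129) (.lin 4) (.split 4 123 (.lin 8)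
    (.splitN 360545 (.split 0 135 (.split 3 (-174) (.lin 1) (.split 1 (-102) (.lin 4) (.split 5
    (-77) (.lin 4) (.wt 2)))) (.wt 0)) (.wt 6)))))) (.wt 1))) (.wt 0))))) (.lin 3))) (.wt 2)))))
    (.wt 2)))))) (.wt 2))))) (.wt 2))))) (.wt 2))))) (.wt 2)) (.lin 11)))) (.split 3 (-129) (.lin
    2) (.split 3 (-120) (.lin 11) (.split 0 138 (.split 5 (-131) (.lin 1) (.split 1 (-22) (.split
    0 51 (.lin 4) (.split 4 78 (.lin 8) (.split 0 110 (.split 5 (-77) (.lin 4) (.splitN 1227679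
    (.split 0 87 (.split 5 (-50) (.lin 4) (.wt 2)) (.wt 0)) (.wt 6))) (.wt 0)))) (.wt 0))) (.wt
    0))))) (.lin 11)) (.lin 9)))) (.split 2 (-44) (.split 0 194 (.split 3 (-354) (.lin 1) (.split
    1 (-165) (.lin 4) (.split 5 (-167) (.lin 4) (.split 0 87 (.split 3 (-246) (.lin 1) (.split 1
    (-57) (.lin 4) (.split 5 (-59) (.lin 4) (.split 1 (-22) (.split 0 51 (.lin 4) (.split 5 (-50)
    (.lin 4) (.wt 2))) (.wt 0))))) (.wt 2))))) (.wt 2)) (.lin 9)))

def cert5_107_6 : Cert :=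
  (.split 7 (-46) (.split 3 (-74) (.split 4 69 (.lin 8) (.split 6 52 (.lin 9) (.splitN 28336 (.wt
    3) (.split 5 (-16) (.split 0 42 (.lin 4) (.split 4 87 (.lin 8) cert5_107_2)) (.splitN 985615
    (.split 0 983 (.split 1 (-975) (.lin 4) (.split 3 (-986) .sq (.split 4 988 (.splitN 822394
    (.split 3 (-900) .sq (.split 4 898 (.split 5 (-8) (.split 0 33 (.lin 4) (.split 4 78 (.lin 8)
    (.splitN 416085 (.split 3 (-635) .sq (.split 7 (-605) (.lin 1) (.split 4 637 (.split 6 179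
    (.split 7 (-173) (.lin 9) (.split 0 141 (.split 1 (-120) (.lin 4) (.split 3 (-300) (.lin 7)
    (.split 7 (-89) (.split 4 123 (.lin 8) (.split 6 97 (.lin 9) (.split 0 49 (.split 1 (-30)
    (.lin 4) (.split 3 (-210) (.lin 7) (.wt 2))) (.wt 2)))) (.split 0 124 (.split 1 (-111) (.lin
    4) (.split 0 121 (.split 1 (-102) (.lin 4) (.split 3 (-282) (.lin 7) (.split 0 114 (.split 1
    (-93) (.lin 4) (.split 6 144 (.split 3 (-237) (.lin 7) (.split 0 102 (.split 1 (-84) (.lin 4)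
    (.split 6 132 (.split 3 (-210) (.lin 7) (.split 0 93 (.split 1 (-75) (.lin 4) (.split 6 122
    (.split 3 (-192) (.lin 7) (.split 0 86 (.split 1 (-66) (.lin 4) (.split 6 114 (.split 3
    (-174) (.lin 7) (.split 0 78 (.split 1 (-57) (.lin 4) (.split 3 (-165) (.lin 7) (.split 6 75
    (.split 4 133 (.split 3 (-147) (.lin 6) (.split 3 (-129) (.lin 7) (.split 7 (-65) (.lin 9)
    (.split 0 56 (.split 1 (-39) (.lin 4) (.split 3 (-111) (.lin 7) (.split 0 45 (.split 1 (-30)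
    (.lin 4) (.split 3 (-102) (.lin 7) (.split 0 39 (.split 1 (-21) (.lin 4) (.wt 2)) (.wt 2))))
    (.wt 2)))) (.wt 2))))) (.lin 0)) (.split 0 39 (.split 1 (-21) (.lin 4) (.wt 2)) (.wt 2)))))
    (.wt 2))) (.wt 2))) (.wt 2))) (.wt 2))) (.wt 2))) (.wt 2))) (.wt 2))) (.wt 2))) (.wt 2))))
    (.wt 2))) (.wt 2))))) (.split 3 (-182) (.split 1 (-128) (.split 4 186 (.lin 8) (.splitN
    109799 .sq (.wt 6))) (.lin 4)) (.lin 1)))) (.split 3 (-209) (.splitN 89171 .sq (.split 1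
    (-119) (.wt 1) (.wt 6))) (.lin 7))) (.lin 10)))) (.wt 1)))) (.splitN 60610 (.split 4 656
    (.split 7 (-632) (.lin 8) (.splitN 35928 (.split 4 368 (.split 7 (-344) (.lin 8) (.split 0 28
    (.split 1 (-21) (.lin 4) (.wt 0)) (.wt 0))) (.div 4)) (.wt 6))) (.div 4)) (.wt 1))) (.lin
    10))) (.wt 1)) (.lin 10)))) .sq) (.wt 1)))))) (.lin 2)) (.split 5 (-16) (.split 0 42 (.lin 4)
    (.split 4 60 (.lin 8) (.split 7 (-20) (.split 3 (-56) (.split 4 69 (.lin 8) (.split 6 34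
    (.lin 9) (.split 6 918 (.split 2 (-891) (.lin 9) (.split 6 179 (.split 2 (-153) (.lin 9)
    cert5_107_5) (.split 2 (-152) (.split 1 (-25) (.split 0 51 (.lin 4) (.split 4 78 (.lin 8)
    (.splitN 174050 (.split 0 4790 (.split 3 (-5691) (.lin 1) (.split 1 (-5511) (.lin 2) (.split
    1 (-1917) (.div 1) (.split 3 (-2838) (.lin 2) (.split 5 (-959) (.div 5) (.splitN 147369
    (.split 0 56 (.split 1 (-30) (.lin 4) (.split 5 (-23) (.lin 4) (.wt 0))) (.wt 0)) (.wt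
    6))))))) (.div 0)) (.wt 6)))) (.wt 0)) (.lin 9)))) (.wt 2)))) (.lin 2)) (.wt 3)))) (.split 6
    250 (.split 2 (-225) (.lin 9) (.split 6 79 (.split 2 (-54) (.lin 9) (.split 5 (-8) (.split 0
    33 (.lin 4) (.split 4 51 (.lin 8) (.split 6 48 (.split 2 (-27) (.lin 9) (.split 7 (-28)
    (.split 2 (-18) (.lin 9) (.split 4 60 (.lin 8) (.split 6 34 (.lin 9) (.split 0 76 (.split 3
    (-111) (.lin 1) (.split 1 (-75) (.lin 2) (.split 1 (-57) (.lin 4) (.split 3 (-102) (.lin 7)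
    (.split 1 (-38) (.split 0 51 (.lin 4) (.split 4 78 (.lin 8) (.split 6 42 (.split 2 (-9) (.lin
    9) (.split 7 (-29) (.lin 9) (.wt 0))) (.wt 2)))) (.split 0 43 (.split 3 (-75) (.lin 7)
    (.split 7 (-33) (.split 3 (-65) (.split 2 (-9) (.lin 9) (.split 4 69 (.lin 6) (.split 6 43
    (.lin 9) (.splitN 398217 (.split 0 34 (.split 3 (-66) (.lin 1) (.split 1 (-21) (.lin 2) (.wt
    0))) (.wt 0)) (.wt 6))))) (.lin 1)) (.wt 3))) (.lin 4))))))) (.split 4 96 (.lin 3) (.split 1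
    (-65) (.split 4 105 (.lin 8) (.split 7 (-33) (.split 3 (-110) (.split 2 (-9) (.lin 9) (.split
    4 114 (.lin 6) (.split 6 43 (.lin 9) (.splitN 295153 (.split 0 8120 (.split 3 (-8148) (.lin
    1) (.split 0 143 (.split 3 (-174) (.lin 1) (.split 1 (-129) (.lin 2) (.split 4 178 (.splitN
    228849 (.wt 0) (.wt 1)) (.lin 0)))) (.wt 2))) (.div 0)) (.wt 1))))) (.lin 1)) (.split 0 463
    (.split 3 (-489) (.lin 1) (.split 1 (-453) (.lin 2) (.split 0 203 (.split 3 (-228) (.lin 1)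
    (.split 1 (-192) (.lin 2) (.split 0 121 (.split 3 (-147) (.lin 1) (.split 1 (-102) (.lin 4)
    (.split 0 95 (.split 3 (-120) (.lin 1) (.split 1 (-84) (.lin 2) (.wt 0))) (.wt 0)))) (.wt
    2)))) (.wt 2)))) (.wt 2)))) (.lin 4))))))) (.wt 3))) (.split 2 (-17) (.split 7 (-20) (.split
    4 60 (.lin 8) (.split 2 (-45) (.lin 9) (.split 0 86 (.split 3 (-147) (.lin 1) (.split 1 (-66)
    (.lin 4) (.split 0 42 (.split 1 (-21) (.lin 4) (.wt 2)) (.wt 2)))) (.wt 2)))) (.wt 0)) (.lin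
    9))))) (.split 0 60 (.split 3 (-138) (.lin 1) (.split 1 (-111) (.lin 2) (.split 1 (-48) (.lin
    4) (.split 3 (-120) (.lin 7) (.splitN 417976 (.split 7 (-21) (.split 6 34 (.lin 9) (.wt 2))
    (.wt 0)) (.wt 6)))))) (.wt 2)))) (.split 0 48 (.split 3 (-300) (.lin 1) (.split 1 (-39) (.lin
    4) (.splitN 86122 (.wt 0) (.split 7 (-23) (.split 5 (-5) (.split 0 33 (.lin 4) (.split 4 60
    (.lin 8) (.wt 2))) (.wt 1)) (.wt 0))))) (.wt 2)))) (.split 2 (-215) (.split 3 (-263) (.splitN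
    181646 .sq (.wt 6)) (.lin 7)) (.lin 9)))))

def cert5_107 : Cert :=
  (.split 3 (-20) (.split 6 16 (.lin 9) (.split 1 (-12) (.split 0 24 (.lin 4) (.split 4 33 (.lin
    8) (.split 7 (-11) (.split 4 42 (.lin 8) (.split 6 25 (.lin 9) cert5_107_6)) (.wt 0))))
    (.split 7 (-12) (.split 4 24 (.lin 8) (.split 6 25 (.lin 9) (.split 1 (-5) (.split 0 15 (.lin
    4) (.split 4 33 (.lin 8) (.split 7 (-22) (.split 4 42 (.lin 8) (.split 6 34 (.lin 9) (.split
    5 (-16) (.split 0 33 (.lin 4) (.split 4 60 (.lin 8) (.split 7 (-34) (.split 6 43 (.lin 9)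
    (.split 7 (-40) (.split 4 78 (.lin 8) (.split 6 52 (.lin 9) (.split 0 221 (.split 5 (-203)
    (.lin 4) (.split 0 175 (.split 5 (-158) (.lin 4) (.split 0 165 (.split 5 (-149) (.lin 4)
    (.split 6 191 (.split 2 (-270) (.lin 0) (.split 2 (-144) (.lin 9) (.split 4 340 (.split 3
    (-462) (.lin 6) (.split 7 (-182) (.lin 9) (.split 3 (-201) (.lin 11) (.split 7 (-53) (.split
    4 87 (.lin 8) (.split 6 61 (.lin 9) (.split 0 139 (.split 5 (-122) (.lin 4) (.split 7 (-60)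
    (.split 4 96 (.lin 8) (.split 6 70 (.lin 9) (.split 0 94 (.split 5 (-77) (.lin 4) (.split 7
    (-67) (.split 4 105 (.lin 8) (.split 6 79 (.lin 9) (.splitN 437734 (.split 0 51 (.split 5
    (-32) (.lin 4) (.wt 2)) (.wt 0)) (.wt 6)))) (.wt 0))) (.wt 0)))) (.wt 0))) (.wt 0)))) (.wt
    0))))) (.lin 0)))) (.wt 2))) (.wt 2))) (.wt 2))) (.wt 2)))) (.wt 0))) (.wt 0)))) (.split 0 25
    (.split 7 (-64) (.split 4 78 (.lin 8) (.split 6 70 (.lin 9) (.split 5 (-8) (.split 0 24 (.lin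
    4) (.split 4 87 (.lin 8) (.split 3 (-119) (.split 6 106 (.lin 7) (.splitN 286716 (.split 2
    (-1589) (.div 2) (.split 4 3176 (.split 3 (-4746) (.lin 5) (.split 7 (-3152) (.lin 8) (.wt
    2))) (.div 4))) (.wt 1))) (.wt 2)))) (.splitN 68622 (.split 2 (-365) (.div 2) (.split 4 728
    (.split 3 (-1083) (.lin 5) (.split 7 (-1064) (.lin 1) (.wt 2))) (.div 4))) (.wt 1)))))
    (.split 4 79 (.split 6 1220 (.split 2 (-1197) (.lin 0) (.split 3 (-1263) (.lin 6) (.split 6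
    778 (.split 3 (-822) (.lin 6) (.split 6 652 (.split 3 (-660) (.lin 11) (.split 6 585 (.split
    3 (-606) (.lin 7) (.split 5 (-8) (.split 0 24 (.lin 4) (.split 4 51 (.lin 8) (.split 6 126
    (.split 2 (-99) (.lin 0) (.split 3 (-138) (.lin 7) (.split 6 79 (.split 3 (-84) (.lin 7)
    (.split 6 59 (.split 3 (-66) (.lin 7) (.split 7 (-47) (.lin 1) (.split 3 (-51) (.split 6 43
    (.lin 7) (.wt 0)) (.wt 0)))) (.wt 0))) (.wt 0)))) (.wt 0)))) (.split 4 70 (.splitN 185378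
    (.split 6 97 (.split 3 (-129) (.lin 6) (.wt 2)) (.wt 0)) (.wt 6)) (.lin 8)))) (.wt 2))) (.wt
    2))) (.wt 2)))) (.wt 2)) (.lin 8))) (.lin 4))))) (.wt 3)))) (.wt 0)))) (.wt 3)))) (.lin 2))

theorem check5_107 :
    check task5 cert5_107
      [(7, ⟨some (7), none⟩), (7, ⟨none, some (-2)⟩), (1, ⟨none, some (-8)⟩), (7, ⟨none, some (-11)⟩), (7, ⟨some (16), none⟩), (5, ⟨none, some (-4)⟩), (8, ⟨some (8), none⟩), (8, ⟨none, some (-10)⟩)] ⟨some (13680), none⟩ = true := by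
  decide +kernel

def cert5_108_0 : Cert :=
  (.split 7 (-69) (.split 2 36 (.lin 9) (.split 4 168 (.lin 3) (.splitN 473694 (.split 0 654
    (.split 5 (-644) (.lin 1) (.split 4 781 (.split 4 736 (.splitN 422299 (.split 4 631 (.split 5
    (-536) (.lin 0) (.split 1 (-34) (.split 3 (-74) (.wt 2) (.lin 11)) (.split 5 (-67) (.split 3
    (-66) (.lin 11) (.splitN 359184 (.split 4 575 (.split 5 (-482) (.lin 0) (.split 0 220 (.split
    5 (-212) (.lin 1) (.split 4 331 (.split 4 304 (.split 5 (-194) (.lin 4) (.split 1 (-25)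
    (.split 3 (-65) (.wt 2) (.lin 11)) (.split 5 (-76) (.split 3 (-57) (.lin 11) (.split 0 98
    (.wt 2) (.split 4 177 (.lin 3) (.split 5 (-85) (.split 0 183 (.split 5 (-176) (.lin 1)
    (.split 4 286 (.split 4 268 (.split 5 (-158) (.lin 4) (.split 0 174 (.split 5 (-149) (.lin 4)
    (.split 7 (-82) (.split 2 45 (.lin 2) (.split 0 116 (.wt 2) (.split 5 (-94) (.split 4 195
    (.lin 0) (.split 5 (-103) (.split 0 124 (.wt 2) (.split 4 213 (.lin 3) (.split 5 (-112)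
    (.splitN 175185 (.wt 1) (.split 0 163 (.split 4 250 (.split 5 (-140) (.lin 4) (.splitN 212357
    (.split 7 (-87) (.split 2 54 (.lin 2) (.splitN 191162 (.split 0 133 (.wt 0) (.split 5 (-121)
    (.split 4 231 (.lin 0) (.split 0 148 (.wt 2) (.split 5 (-130) (.splitN 183415 (.wt 1) (.split
    0 151 (.wt 0) (.split 5 (-139) (.split 4 249 (.lin 0) (.wt 0)) (.lin 1)))) (.lin 1)))) (.lin
    1))) (.wt 0))) (.split 2 46 (.split 0 150 (.split 5 (-122) (.lin 1) (.split 4 223 (.split 0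
    136 (.splitN 201431 (.wt 0) (.wt 0)) (.wt 2)) (.lin 0))) (.wt 0)) (.lin 2))) (.wt 1))) (.lin
    3)) (.wt 2))) (.lin 4)))) (.lin 4))) (.lin 1)))) (.split 2 37 (.split 4 241 (.splitN 249710
    .cand (.wt 1)) (.lin 0)) (.lin 2)))) (.wt 2))) (.lin 3)) (.lin 0))) (.wt 2)) (.lin 4)))))
    (.lin 4)))) (.lin 3)) (.lin 0))) (.split 4 294 (.lin 3) (.split 5 (-193) (.splitN 185462 .sq
    (.splitN 289193 (.split 0 391 (.split 5 (-383) (.lin 1) (.split 4 502 (.split 1 (-29) (.wt 3)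
    (.split 3 (-57) (.lin 11) (.wt 2))) (.lin 0))) .sq) (.wt 1))) (.lin 4))))) .sq) (.wt 1)))
    (.lin 4)))) .sq) (.wt 1)) (.lin 3)) (.lin 0))) .sq) (.wt 1)))) (.split 2 28 (.split 1 (-34)
    (.split 3 (-74) (.splitN 1023147 (.split 0 28370 (.split 5 (-28346) (.lin 1) (.split 4 28456
    (.split 4 11348 (.split 5 (-11264) (.lin 0) (.split 5 (-5675) (.div 5) (.split 4 5785 (.split
    0 5740 (.splitN 919749 (.split 5 (-5099) (.div 5) (.split 4 5209 (.splitN 504520 (.split 5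
    (-2795) (.div 5) (.split 4 2905 (.split 0 2860 (.split 0 139 (.wt 2) (.split 5 (-94) (.split
    0 208 (.wt 2) (.split 5 (-148) (.split 5 (-166) (.split 0 271 (.wt 2) (.split 4 321 (.lin 3)
    (.split 5 (-229) (.splitN 243215 .sq (.split 7 (-54) (.wt 0) (.split 2 10 (.splitN 372518
    (.split 5 (-2057) (.div 5) (.split 4 2149 (.splitN 304828 (.split 5 (-1679) (.div 5) (.split
    0 311 (.wt 2) (.split 5 (-265) (.split 4 348 (.lin 0) (.splitN 300356 .sq (.wt 1))) (.lin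
    1)))) (.wt 1)) (.lin 0))) (.wt 0)) (.lin 9)))) (.lin 4)))) (.lin 4)) (.lin 1))) (.lin 4)))
    (.lin 1)) (.lin 0))) (.wt 3)) (.lin 0))) (.wt 0)) (.lin 1)) (.lin 0)))) (.div 4)) (.lin 0)))
    (.div 0)) (.wt 0)) (.lin 11)) (.split 5 (-67) (.split 3 (-66) (.lin 11) (.splitN 122732 (.wt
    1) (.split 0 202 (.split 5 (-194) (.lin 1) (.split 4 286 (.split 4 259 (.split 5 (-176) (.lin
    4) (.split 7 (-55) (.split 2 18 (.lin 9) (.split 4 150 (.lin 3) (.split 1 (-25) (.split 3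
    (-65) (.split 0 161 (.wt 2) (.split 5 (-139) (.wt 2) (.lin 4))) (.lin 11)) (.split 5 (-76)
    (.split 3 (-57) (.lin 11) (.split 0 116 (.split 5 (-104) (.lin 1) (.split 4 187 (.split 5
    (-95) (.lin 4) (.splitN 320126 (.split 7 (-58) (.split 2 27 (.lin 2) (.split 4 159 (.lin 0)
    (.splitN 270399 (.split 0 104 (.split 5 (-77) (.lin 1) (.split 4 160 (.splitN 255384 (.wt 0)
    (.wt 0)) (.lin 0))) (.wt 0)) (.wt 1)))) (.wt 0)) (.wt 6))) (.lin 0))) (.wt 2))) (.lin 4)))))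
    (.split 2 10 (.split 4 241 (.split 0 168 (.split 5 (-140) (.lin 1) (.split 0 158 (.split 5
    (-131) (.lin 1) (.split 4 196 (.split 1 (-21) (.split 5 (-122) (.lin 0) (.split 3 (-65)
    (.splitN 224744 (.wt 1) (.split 0 102 (.wt 0) (.split 5 (-76) (.split 4 150 (.lin 0) (.split
    0 118 (.wt 2) (.split 5 (-94) (.split 4 168 (.lin 0) (.split 0 128 (.wt 2) (.split 5 (-103)
    (.split 4 177 (.lin 0) (.split 0 142 (.split 5 (-113) (.lin 1) (.split 0 139 (.split 5 (-104)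
    (.lin 1) (.split 4 178 (.splitN 259797 (.wt 0) (.wt 0)) (.lin 0))) (.wt 2))) (.wt 2))) (.lin
    1)))) (.lin 1)))) (.lin 1)))) (.lin 2))) (.wt 2)) (.lin 3))) (.wt 2))) (.wt 2)) (.lin 3))
    (.lin 9)))) (.lin 3)) (.lin 0))) (.split 5 (-157) (.split 4 222 (.lin 0) (.split 4 249 (.lin
    3) (.split 5 (-175) (.split 0 1657 (.split 5 (-1652) (.lin 1) (.split 0 1335 (.split 5
    (-1328) (.lin 1) (.split 4 1420 (.split 1 (-21) (.split 3 (-65) (.splitN 706344 (.split 0 775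
    (.split 5 (-761) (.lin 1) (.split 4 853 (.splitN 663740 (.split 4 761 (.split 5 (-680) (.lin
    0) (.split 7 (-55) (.split 2 18 (.lin 2) (.splitN 322319 (.split 0 467 (.split 5 (-446) (.lin
    1) (.split 4 538 (.split 0 216 (.wt 2) (.splitN 306641 .cand (.wt 1))) (.lin 0))) .sq) (.wt
    1))) (.split 2 10 (.splitN 372418 (.wt 0) (.wt 1)) (.lin 2)))) .sq) (.wt 1)) (.lin 0))) .sq)
    (.wt 1)) (.lin 11)) (.wt 2)) (.lin 0))) (.wt 2))) (.wt 2)) (.lin 4)))) (.lin 1))))) (.lin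
    4))) (.lin 9)))

def cert5_108_1 : Cert :=
  (.split 7 (-100) (.split 2 63 (.lin 9) (.split 4 141 (.lin 8) (.splitN 332197 (.split 2 1840
    (.split 0 50 (.wt 2) (.split 4 150 (.lin 12) (.split 0 539 (.split 4 2410 (.split 5 (-518)
    (.lin 4) (.splitN 288348 (.split 0 495 (.split 5 (-473) (.lin 4) (.split 3 (-262) (.wt 2)
    (.split 1 (-228) (.lin 11) (.split 2 496 (.split 4 1231 (.split 4 515 (.split 2 442 (.split 0
    421 (.split 5 (-401) (.lin 0) (.splitN 257517 (.split 4 485 (.split 5 (-374) (.lin 0) (.split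
    6 30 (.wt 2) (.split 3 (-56) (.splitN 219327 (.split 0 63 (.wt 2) (.split 4 439 (.split 5
    (-320) (.lin 0) (.split 0 340 (.split 1 (-38) (.split 3 (-74) (.splitN 95652 (.splitN 85281
    (.wt 6) (.split 0 190 (.wt 0) (.split 4 294 (.lin 3) .sq))) (.wt 0)) (.lin 11)) (.split 5
    (-40) (.split 0 93 (.wt 2) (.split 5 (-67) (.split 0 121 (.wt 2) (.split 4 222 (.lin 3)
    (.split 5 (-94) (.splitN 92798 .sq (.split 0 139 (.wt 2) (.split 2 262 (.split 4 240 (.lin 3)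
    (.split 5 (-112) (.split 0 147 (.wt 2) (.split 5 (-121) (.splitN 114380 .sq (.split 7 (-235)
    (.wt 0) (.split 2 199 (.split 0 151 (.wt 2) (.split 4 258 (.lin 3) (.split 5 (-130) (.splitN
    128438 .sq (.split 1 (-29) (.wt 0) (.split 3 (-57) (.lin 11) (.splitN 199325 .cand (.wt
    1))))) (.lin 4)))) (.lin 2)))) (.lin 4))) (.lin 4))) (.lin 3)))) (.lin 4)))) (.lin 4))) (.lin
    4))) (.lin 3))) .sq)) (.wt 3)) (.lin 11)))) .sq) (.wt 3))) (.lin 3)) (.lin 0)) .sq) (.lin 0))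
    .sq)))) .sq) (.wt 3))) (.lin 3)) .sq))) (.div 2)) (.wt 3)))) (.split 2 64 (.splitN 59941 (.wt
    1) (.split 1 (-48) (.split 3 (-83) (.splitN 392434 (.split 4 4328 (.split 0 4291 (.splitN
    290850 (.split 4 3212 (.split 0 3175 (.splitN 269184 (.split 5 (-1481) (.div 5) (.split 3
    (-292) (.wt 2) (.split 0 1789 (.split 1 (-264) (.lin 11) (.split 4 1843 (.split 3 (-270) (.wt
    2) (.split 1 (-237) (.lin 11) (.split 5 (-94) (.wt 2) (.split 4 421 (.split 0 367 (.split 3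
    (-147) (.wt 2) (.split 0 205 (.split 1 (-120) (.lin 11) (.split 4 304 (.split 0 125 (.wt 2)
    (.split 3 (-111) (.wt 2) (.split 1 (-84) (.lin 11) (.split 5 (-49) (.wt 2) (.lin 4))))) (.lin
    0))) (.lin 7))) (.lin 1)) (.lin 0))))) (.lin 0))) (.lin 1)))) (.wt 5)) (.lin 3)) (.div 4))
    (.wt 3)) (.lin 3)) (.div 4)) (.wt 0)) (.lin 11)) (.split 3 (-84) (.lin 11) (.split 0 94
    (.split 5 (-122) (.lin 1) (.split 4 268 (.split 4 187 (.split 5 (-68) (.lin 4) (.split 6 30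
    (.wt 2) (.split 3 (-56) (.split 7 (-69) (.split 2 36 (.lin 9) (.split 0 57 (.wt 2) (.split 1
    (-32) (.wt 2) (.split 5 (-31) (.split 0 70 (.wt 2) (.split 5 (-49) (.wt 2) (.lin 4))) (.lin
    4))))) (.split 2 28 (.split 4 151 (.split 1 (-34) (.split 3 (-74) (.wt 2) (.lin 11)) (.split
    3 (-66) (.lin 11) (.split 0 65 (.split 4 124 (.split 5 (-41) (.lin 4) (.split 0 43 (.wt 2)
    (.split 4 96 (.lin 3) (.split 7 (-55) (.split 2 18 (.lin 9) (.split 1 (-25) (.wt 2) (.split 5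
    (-31) (.splitN 225048 (.wt 6) (.split 0 57 (.wt 0) (.split 5 (-40) (.wt 2) (.lin 4)))) (.lin
    4)))) (.split 2 10 (.split 4 106 (.splitN 150937 (.wt 1) (.splitN 319483 .cand (.wt 3)))
    (.lin 3)) (.lin 9)))))) (.lin 3)) (.split 4 114 (.lin 3) (.split 5 (-40) (.split 7 (-55)
    (.split 2 18 (.lin 9) (.splitN 382140 (.split 1 (-27) (.wt 2) (.split 5 (-49) (.split 3 (-57)
    (.lin 11) (.split 0 70 (.wt 2) (.split 4 132 (.lin 3) (.split 5 (-58) (.splitN 211468 (.wt 1)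
    .cand) (.lin 4))))) (.lin 4))) (.wt 3))) (.split 2 10 (.split 4 142 (.split 4 133 (.splitN
    438922 (.splitN 191073 (.wt 1) (.split 1 (-25) (.split 3 (-65) (.wt 0) (.lin 2)) (.split 3
    (-57) (.lin 2) (.wt 0)))) (.wt 1)) (.lin 3)) (.lin 0)) (.lin 9))) (.lin 4)))))) (.lin 3))
    (.lin 9))) (.lin 11)))) (.lin 3)) (.lin 0))) (.split 4 132 (.lin 3) (.split 5 (-49) (.split 4
    141 (.lin 12) (.split 6 30 (.split 2 18 (.lin 9) (.split 3 (-75) (.lin 11) (.split 0 196 (.wt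
    2) (.split 5 (-112) (.split 4 249 (.lin 3) (.split 5 (-157) (.splitN 1537184 (.wt 6) (.split
    1 (-28) (.wt 0) (.split 5 (-184) (.split 3 (-48) (.lin 11) (.splitN 3449101 (.wt 6) (.split 7
    (-57) (.wt 0) (.split 2 28 (.split 0 280 (.wt 1) (.split 5 (-256) (.wt 6) (.lin 1))) (.lin
    2))))) (.lin 4)))) (.lin 4))) (.lin 1))))) (.split 2 55 (.split 3 (-56) cert5_108_0 (.lin
    11)) (.lin 9)))) (.lin 4))))))) (.lin 9)))

def cert5_108_2 : Cert :=
  (.split 6 26 (.split 2 18 (.lin 9) (.split 5 (-8) (.split 0 41 (.wt 2) (.split 1 (-29) (.split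
    3 (-47) (.splitN 832640 (.split 1 (-9225) (.div 1) (.split 2 4612 (.split 4 13867 (.split 0
    72 (.wt 2) (.split 1 (-65) (.split 3 (-83) (.wt 2) (.lin 7)) (.lin 4))) (.lin 0)) (.div 2)))
    (.wt 3)) (.lin 7)) (.lin 4))) (.splitN 202463 (.split 4 2240 (.split 0 438 (.split 1 (-426)
    (.lin 4) (.split 3 (-453) (.lin 7) (.splitN 190158 (.split 2 1048 (.split 7 (-1073) (.lin 9)
    (.split 2 422 (.split 7 (-443) (.lin 9) (.split 4 428 (.split 7 (-407) (.lin 6) (.split 6 21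
    (.split 2 27 (.lin 9) (.split 0 32 (.wt 2) (.split 1 (-29) (.split 3 (-47) (.split 0 50 (.wt
    2) (.split 1 (-47) (.split 3 (-65) (.split 0 106 (.wt 2) (.split 4 159 (.lin 3) (.split 1
    (-110) (.split 3 (-128) (.splitN 70514 .sq (.wt 0)) (.lin 7)) (.lin 4)))) (.lin 7)) (.lin
    4))) (.lin 7)) (.lin 4)))) (.split 3 (-47) (.split 0 124 (.split 1 (-120) (.lin 4) (.split 3
    (-147) (.lin 7) (.split 0 69 (.split 1 (-57) (.lin 4) (.split 3 (-84) (.lin 7) (.split 0 44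
    (.split 3 (-66) (.lin 7) (.split 0 34 (.split 1 (-30) (.lin 4) (.split 3 (-57) (.lin 7)
    (.splitN 57306 (.split 2 310 (.split 7 (-344) (.lin 1) (.split 7 (-58) (.split 2 36 (.lin 9)
    (.split 4 87 (.lin 0) (.splitN 53907 (.split 7 (-70) (.split 4 96 (.lin 6) (.split 0 28
    (.split 1 (-21) (.lin 4) (.wt 2)) (.wt 2))) (.wt 0)) (.wt 6)))) (.wt 0))) (.div 2)) (.wt
    6)))) (.wt 2))) (.wt 2)))) (.wt 2)))) (.wt 2)) (.lin 7)))) .sq)) .sq)) (.div 2)) (.wt 1))))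
    .sq) (.div 4)) (.wt 1)))) (.split 3 (-47) (.split 3 (-56) (.splitN 2877077 (.split 2 15970
    (.split 0 1691 (.split 4 17692 (.split 3 (-1722) (.lin 7) (.splitN 2392531 (.split 0 1542
    (.split 1 (-1533) (.lin 4) (.split 3 (-1569) (.lin 7) (.split 2 1542 (.split 4 3121 (.splitN
    2171997 (.split 4 1471 (.split 5 (-8) (.split 0 33 (.lin 4) (.splitN 600389 (.split 4 769
    (.split 3 (-741) (.lin 6) (.split 7 (-184) (.split 2 153 (.lin 9) (.split 4 222 (.lin 0)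
    (.splitN 115631 .sq (.wt 1)))) (.split 2 145 (.splitN 517802 (.split 4 712 (.split 3 (-687)
    (.lin 6) (.split 0 150 (.split 3 (-300) (.lin 1) (.split 1 (-264) (.lin 11) (.split 4 457
    (.split 4 322 (.split 3 (-165) (.lin 7) (.split 7 (-92) (.split 2 63 (.lin 9) (.split 0 42
    (.wt 2) (.split 1 (-29) (.split 3 (-65) (.split 0 64 (.wt 2) (.split 1 (-56) (.split 3 (-92)
    (.wt 2) (.lin 7)) (.lin 4))) (.lin 7)) (.lin 4)))) (.split 4 232 (.split 2 55 (.split 0 69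
    (.split 4 151 (.split 1 (-48) (.lin 4) (.split 3 (-84) (.lin 7) (.splitN 261263 (.splitN
    64466 (.wt 1) .cand) (.wt 1)))) (.lin 3)) (.split 1 (-56) (.split 3 (-92) (.split 0 70 (.wt
    2) (.split 1 (-65) (.split 3 (-101) (.split 0 80 (.wt 2) (.split 1 (-74) (.split 3 (-110)
    (.split 0 90 (.wt 2) (.split 1 (-83) (.split 3 (-119) (.splitN 70512 (.wt 6) (.split 7 (-70)
    (.wt 0) (.split 4 205 (.split 2 28 (.split 0 103 (.wt 2) (.split 1 (-92) (.split 3 (-128)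
    (.splitN 77850 (.wt 6) (.split 7 (-59) (.wt 0) (.split 2 19 (.split 0 115 (.wt 2) (.split 3
    (-137) (.split 1 (-101) (.split 1 (-110) (.split 3 (-146) (.splitN 91290 (.wt 6) (.wt 4))
    (.lin 7)) (.lin 4)) (.lin 11)) (.lin 1))) (.lin 9)))) (.lin 7)) (.lin 4))) (.lin 9)) (.lin
    6)))) (.lin 7)) (.lin 4))) (.lin 7)) (.lin 4))) (.lin 7)) (.lin 4))) (.lin 7)) (.lin 4)))
    (.lin 9)) (.lin 6)))) (.lin 3)) (.lin 0)))) (.split 4 195 (.lin 3) (.split 1 (-137) (.split 3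
    (-173) (.splitN 113525 .sq (.splitN 121517 (.split 0 197 (.wt 0) (.split 4 249 (.lin 3)
    (.split 3 (-227) .sq (.lin 7)))) (.wt 1))) (.lin 7)) (.lin 4))))) .sq) (.wt 1)) (.lin 9))))
    .sq) (.wt 1))) (.splitN 63447 (.split 2 346 (.split 7 (-380) (.lin 9) (.split 4 692 (.split 3
    (-678) (.lin 6) (.split 0 42 (.split 1 (-30) (.lin 4) (.split 3 (-66) (.lin 7) (.wt 2))) (.wt
    2))) (.div 4))) (.div 2)) (.wt 1))) .sq) (.wt 1)) (.lin 0)) .sq))) .sq) (.wt 1))) (.lin 3))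
    .sq) (.div 2)) (.wt 1)) (.lin 11)) (.lin 7)))

def cert5_108_3 : Cert :=
  (.split 0 342 (.split 3 (-345) (.lin 1) (.split 1 (-318) (.lin 2) (.split 5 (-320) (.lin 1)
    (.split 4 664 (.split 4 367 (.splitN 115708 (.split 4 328 (.split 1 (-273) (.lin 0) (.split 0
    295 (.split 5 (-275) (.lin 0) (.split 1 (-74) (.split 4 123 (.lin 0) (.split 5 (-221) (.lin
    0) (.split 3 (-101) (.splitN 61676 (.split 5 (-84) (.wt 1) (.split 0 110 (.wt 2) (.split 4
    141 (.lin 3) (.split 3 (-232) (.wt 2) (.split 0 277 (.split 1 (-201) (.lin 2) (.split 4 304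
    (.split 5 (-69) (.wt 1) (.split 3 (-218) (.wt 2) (.split 0 250 (.split 1 (-183) (.lin 2)
    (.split 4 277 (.split 5 (-65) (.wt 1) (.split 3 (-197) (.wt 2) (.split 0 223 (.split 1 (-165)
    (.lin 2) (.split 4 250 (.splitN 58825 (.split 5 (-36) (.wt 1) (.split 1 (-83) (.split 3
    (-110) (.splitN 54323 .sq (.split 0 159 (.wt 0) (.split 3 (-155) (.split 1 (-128) (.split 4
    177 (.lin 0) .sq) (.lin 2)) (.lin 1)))) (.lin 6)) (.lin 0))) (.wt 5)) (.lin 0))) (.lin 1))))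
    (.lin 0))) (.lin 1)))) (.lin 0))) (.lin 1)))))) (.wt 3)) (.lin 2)))) (.split 3 (-93) (.lin 2)
    (.splitN 104176 (.split 4 307 (.split 5 (-257) (.lin 0) (.split 0 277 (.split 0 109 (.split 5
    (-86) (.lin 1) (.split 4 178 (.split 4 133 (.split 1 (-37) (.split 4 87 (.lin 0) (.split 0 60
    (.lin 3) (.split 5 (-68) (.lin 0) (.split 3 (-65) (.split 5 (-39) (.split 4 105 (.lin 0)
    (.splitN 58432 (.wt 1) (.split 1 (-60) (.wt 0) (.splitN 59186 (.wt 1) (.split 1 (-50) (.wt 0)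
    (.split 3 (-75) (.lin 2) (.split 0 80 (.wt 2) (.split 4 114 (.lin 3) (.split 5 (-54) (.split
    1 (-47) (.wt 0) (.split 3 (-66) (.lin 2) (.split 0 103 (.split 5 (-59) (.lin 1) (.split 4 124
    (.splitN 65344 (.wt 0) (.wt 0)) (.lin 0))) (.wt 2)))) (.split 4 124 (.split 0 97 (.splitN
    65196 (.split 1 (-45) (.wt 0) (.split 4 115 (.split 5 (-49) (.split 3 (-66) (.lin 6) (.wt 0))
    (.lin 0)) (.lin 0))) (.wt 3)) (.lin 1)) (.lin 0))))))))))) (.splitN 64917 .cand (.wt 1)))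
    (.lin 2))))) (.split 3 (-57) (.lin 2) (.split 0 83 (.split 5 (-59) (.lin 1) (.split 4 115
    (.split 0 75 (.split 5 (-50) (.lin 1) (.split 4 97 (.splitN 80112 (.split 0 56 (.split 5
    (-32) (.lin 1) (.split 4 79 (.splitN 72809 (.split 1 (-25) (.split 4 78 (.lin 0) (.split 0 51
    (.lin 3) (.split 5 (-23) (.lin 0) (.split 3 (-56) (.splitN 62350 (.wt 0) (.wt 0)) (.lin
    6))))) (.split 3 (-48) (.lin 2) (.wt 0))) (.wt 1)) (.lin 3))) (.split 5 (-31) (.split 4 78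
    (.lin 0) (.split 4 87 (.lin 3) (.splitN 64946 (.wt 0) (.split 1 (-22) (.split 5 (-41) (.lin
    0) (.split 3 (-56) (.splitN 71643 (.split 0 68 (.split 5 (-32) (.lin 1) (.wt 1)) (.wt 0))
    (.wt 0)) (.lin 2))) (.wt 0))))) (.lin 1))) (.wt 1)) (.lin 3))) (.wt 2)) (.lin 0))) (.wt 2))))
    (.lin 3)) (.lin 0))) (.split 5 (-49) (.split 4 96 (.lin 0) (.split 4 141 (.lin 3) (.splitN
    88944 (.split 1 (-21) (.split 3 (-56) (.splitN 79294 (.split 0 224 (.split 5 (-194) (.lin 1)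
    (.split 4 250 (.split 4 239 (.split 5 (-176) (.lin 0) (.split 1 (-47) (.split 3 (-74)
    (.splitN 70673 (.splitN 59545 (.wt 1) (.split 0 192 (.split 4 214 (.split 0 115 (.wt 2)
    (.split 5 (-58) (.split 0 127 (.wt 2) (.split 5 (-67) (.split 0 137 (.wt 2) (.split 5 (-76)
    (.split 4 168 (.lin 3) (.split 1 (-65) (.wt 0) (.split 5 (-85) (.split 3 (-84) (.lin 2)
    (.split 0 153 (.wt 2) (.split 5 (-103) (.split 4 177 (.lin 0) .sq) (.lin 1)))) (.lin 0))))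
    (.lin 1))) (.lin 1))) (.lin 1))) (.lin 3)) .sq)) (.wt 0)) (.lin 2)) (.split 3 (-66) (.lin 2)
    (.splitN 67638 (.wt 0) (.splitN 74859 (.split 0 156 (.split 1 (-33) (.split 3 (-65) (.split 5
    (-113) (.lin 1) (.split 0 150 (.split 5 (-104) (.lin 1) (.split 4 169 (.wt 1) (.lin 0))) (.wt
    0))) (.lin 2)) (.wt 0)) (.wt 0)) (.wt 1)))))) .sq) (.lin 3))) .sq) (.wt 1)) (.lin 2)) (.wt
    0)) (.wt 1)))) (.lin 1))) (.lin 3))) .sq) (.wt 1))))) (.lin 3))) .sq) (.wt 1)) (.lin 3))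
    (.lin 0))))) .sq)

def cert5_108_4 : Cert :=
  (.split 5 (-8) (.split 4 51 (.lin 0) (.split 0 33 (.lin 4) (.split 2 4 (.split 7 (-29) (.lin 9)
    (.split 6 21 (.split 7 (-20) (.lin 9) (.split 0 44 (.wt 2) (.split 3 (-56) (.split 1 (-38)
    (.split 4 69 (.lin 0) (.splitN 282421 (.split 0 7760 (.split 1 (-3105) (.div 1) (.split 4
    3130 (.split 0 3112 (.splitN 99165 (.wt 1) (.split 0 60 (.wt 0) (.split 3 (-65) (.split 1
    (-47) (.splitN 166126 (.split 1 (-1845) (.div 1) (.split 4 1870 (.splitN 157578 (.split 1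
    (-1737) (.div 1) (.split 4 1762 (.split 0 1744 (.splitN 120609 (.wt 6) (.split 0 174 (.wt 0)
    (.split 3 (-182) (.wt 0) (.lin 1)))) (.lin 3)) (.lin 0))) (.wt 3)) (.lin 0))) (.wt 0)) (.lin
    2)) (.lin 1)))) (.lin 3)) (.lin 0))) (.div 0)) (.wt 0))) (.lin 2)) (.lin 1)))) (.split 4 60
    (.lin 0) (.split 7 (-28) (.splitN 71890 (.split 4 251 (.split 1 (-210) (.lin 0) (.split 3
    (-237) (.lin 6) (.split 0 87 (.split 3 (-93) (.lin 1) (.split 1 (-66) (.lin 2) (.split 0 72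
    (.split 3 (-84) (.lin 1) (.split 0 63 (.split 3 (-75) (.lin 1) (.split 1 (-48) (.lin 2)
    (.split 0 54 (.split 3 (-66) (.lin 1) (.split 1 (-39) (.lin 2) (.split 4 79 (.split 0 45
    (.split 3 (-57) (.lin 1) (.split 1 (-30) (.lin 2) (.splitN 58349 (.split 0 41 (.split 3 (-48)
    (.lin 1) (.split 1 (-21) (.lin 2) (.wt 0))) (.wt 0)) (.wt 1)))) (.wt 2)) (.lin 0)))) (.wt
    2)))) (.wt 2))) (.wt 2)))) (.split 3 (-101) (.split 1 (-74) (.split 4 114 (.lin 0) (.split 0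
    159 (.split 3 (-165) (.lin 1) (.split 1 (-138) (.lin 2) (.split 4 178 (.splitN 49298 (.split
    0 101 (.split 3 (-111) (.lin 1) (.wt 0)) (.wt 0)) (.wt 1)) (.lin 0)))) (.wt 2))) (.lin 2))
    (.lin 1))))) .sq) (.wt 1)) (.lin 9))))) (.split 6 17 (.wt 6) (.split 2 10 (.split 7 (-37)
    (.split 0 42 (.wt 2) (.split 3 (-56) (.split 1 (-29) (.split 0 68 (.wt 2) (.split 3 (-83)
    (.split 1 (-56) (.split 4 105 (.lin 0) (.splitN 270370 (.split 0 7490 (.split 1 (-2997) (.div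
    1) (.split 4 3040 (.split 0 3004 (.splitN 130816 (.wt 1) (.split 0 103 (.wt 0) (.split 3
    (-119) (.split 1 (-92) (.split 4 141 (.lin 0) (.splitN 141448 (.wt 1) (.wt 0))) (.lin 2))
    (.lin 1)))) (.lin 3)) (.lin 0))) (.div 0)) (.wt 0))) (.lin 2)) (.lin 1))) (.lin 2)) (.lin
    1))) (.lin 9)) (.lin 9)))))) (.split 2 4 (.split 7 (-29) (.lin 9) (.splitN 74827 (.split 1
    (-801) (.div 1) (.split 4 826 (.split 3 (-831) (.lin 6) (.split 0 235 (.split 3 (-255) (.lin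
    1) (.split 1 (-237) (.lin 2) (.split 0 126 (.split 3 (-147) (.lin 1) (.split 1 (-129) (.lin
    2) (.split 0 82 (.split 3 (-102) (.lin 1) (.split 1 (-84) (.lin 2) (.split 0 59 (.split 3
    (-75) (.lin 1) (.split 1 (-57) (.lin 2) (.split 0 43 (.split 3 (-66) (.lin 1) (.split 0 37
    (.split 3 (-57) (.lin 1) (.split 1 (-30) (.lin 4) (.split 0 31 (.split 3 (-48) (.lin 1)
    (.split 1 (-21) (.lin 4) (.splitN 39615 (.wt 3) (.wt 6)))) (.wt 2)))) (.wt 2))) (.wt 2))))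
    (.wt 2)))) (.wt 2)))) (.wt 2)))) (.wt 2))) (.lin 0))) (.wt 1))) (.split 4 51 (.lin 0) (.split
    7 (-28) (.split 0 58 (.split 3 (-75) (.lin 1) (.split 1 (-57) (.lin 11) (.split 4 106 (.split
    1 (-48) (.lin 4) (.split 4 88 (.split 6 25 (.split 0 26 (.wt 2) (.split 4 60 (.lin 3) (.split
    1 (-29) (.split 3 (-47) (.split 0 36 (.wt 2) (.split 1 (-38) (.split 3 (-56) (.splitN 98189
    (.wt 6) (.split 7 (-32) (.wt 0) (.split 2 10 (.splitN 110712 (.wt 1) (.split 0 44 (.wt 0)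
    (.split 3 (-65) (.split 1 (-47) (.wt 0) (.lin 2)) (.lin 1)))) (.lin 9)))) (.lin 7)) (.lin
    4))) (.lin 7)) (.lin 4)))) (.wt 2)) (.lin 8))) (.lin 0)))) (.split 3 (-65) (.split 1 (-38)
    (.split 4 87 (.lin 3) (.split 1 (-47) (.split 1 (-56) (.split 3 (-74) (.splitN 186076 (.split
    6 23 (.split 0 409 (.split 3 (-426) (.lin 1) (.split 1 (-417) (.lin 2) (.split 4 457 (.splitN
    171631 (.split 4 394 (.split 0 149 (.split 3 (-165) (.lin 1) (.split 1 (-156) (.lin 2)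
    (.split 1 (-147) (.lin 11) (.split 4 187 (.split 0 63 (.wt 2) (.split 4 96 (.lin 3) (.split 1
    (-65) (.split 3 (-83) (.splitN 69214 (.wt 1) (.split 0 73 (.wt 2) (.split 3 (-92) (.split 0
    85 (.wt 2) (.split 4 114 (.lin 3) (.split 1 (-83) (.split 3 (-101) (.split 7 (-37) (.wt 0)
    (.split 2 10 (.splitN 97670 (.wt 1) (.split 0 99 (.wt 2) (.split 3 (-119) (.split 1 (-101)
    (.split 0 127 (.wt 2) (.split 3 (-146) (.split 1 (-128) (.wt 0) (.lin 2)) (.lin 1))) (.lin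
    2)) (.lin 1)))) (.lin 9))) (.lin 7)) (.lin 4)))) (.lin 7)))) (.lin 7)) (.lin 4)))) (.lin
    0))))) (.split 3 (-155) (.split 1 (-128) (.split 1 (-137) (.split 4 177 (.lin 3) (.split 1
    (-146) (.split 3 (-164) (.splitN 103886 .sq (.split 7 (-31) (.wt 0) (.split 2 10 (.splitN
    111520 (.split 0 170 (.wt 0) (.split 3 (-191) (.split 1 (-173) (.split 4 204 (.lin 0) .sq)
    (.lin 2)) (.lin 1))) (.wt 1)) (.lin 9)))) (.lin 7)) (.lin 4))) (.lin 11)) (.lin 2)) (.lin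
    1))) .sq) (.wt 1)) (.lin 0)))) .sq) (.wt 2)) (.wt 1)) (.lin 7)) (.lin 4)) (.lin 8))) (.lin
    2)) (.lin 1))) (.lin 9)))))

def cert5_108_5 : Cert :=
  (.split 1 (-49) (.split 4 132 (.lin 0) (.split 0 78 (.lin 4) (.split 3 (-101) (.split 5 (-104)
    (.lin 4) (.splitN 142713 (.splitN 54513 (.wt 3) (.split 6 62 (.split 4 232 (.split 7 (-74)
    (.lin 9) (.split 6 53 (.split 7 (-65) (.lin 9) (.split 5 (-48) (.split 4 159 (.lin 0) (.split
    1 (-111) (.lin 4) (.split 6 48 (.split 4 214 (.split 7 (-56) (.lin 9) (.splitN 112668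
    (.splitN 98340 (.wt 1) (.split 1 (-73) (.wt 0) (.split 3 (-111) (.lin 2) (.split 5 (-72) (.wt
    1) (.split 0 133 (.splitN 104913 (.wt 1) (.wt 0)) (.lin 1)))))) (.wt 0))) (.lin 3)) (.split 7
    (-64) .cand (.lin 9))))) (.split 6 48 (.split 7 (-56) (.lin 9) (.splitN 79681 (.wt 1)
    (.splitN 109699 .cand (.wt 3)))) (.split 7 (-64) .cand (.lin 9))))) (.split 7 (-73) .cand
    (.lin 9)))) (.lin 3)) (.split 4 159 (.lin 0) (.split 7 (-82) (.split 3 (-128) (.splitN 63710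
    .sq (.split 5 (-25) (.split 0 87 (.lin 4) (.split 5 (-34) (.split 4 177 (.lin 0) (.split 0 96
    (.lin 4) (.splitN 74078 .sq (.split 0 137 (.split 4 223 (.split 5 (-77) (.lin 4) (.wt 1))
    (.lin 3)) (.wt 1))))) (.wt 6))) (.wt 1))) (.lin 2)) (.lin 9))))) (.wt 1))) (.lin 2))))
    (.split 3 (-129) (.lin 2) (.split 6 62 (.split 4 232 (.split 7 (-74) (.lin 9) (.split 3
    (-111) (.lin 2) (.split 0 82 (.split 5 (-77) (.lin 1) (.split 4 151 (.split 5 (-59) (.lin 4)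
    (.split 1 (-34) (.split 4 114 (.lin 0) (.split 0 60 (.lin 4) (.split 3 (-83) (.split 5 (-41)
    (.lin 4) (.splitN 204878 (.split 6 53 (.split 7 (-65) (.lin 9) (.split 3 (-102) (.lin 2)
    (.split 6 48 (.split 7 (-56) (.lin 9) .cand) (.split 7 (-64) (.split 3 (-92) (.split 0 76
    (.split 5 (-32) (.lin 1) (.split 4 133 (.splitN 89468 (.split 0 67 (.split 3 (-93) (.lin 1)
    (.split 1 (-39) (.lin 2) (.split 5 (-23) (.lin 1) (.wt 0)))) (.wt 2)) (.wt 1)) (.lin 3)))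
    (.wt 2)) (.lin 2)) (.lin 9))))) (.split 4 132 (.lin 0) (.split 7 (-73) (.split 3 (-101)
    (.splitN 82073 (.split 0 69 (.split 3 (-102) (.lin 1) (.split 5 (-23) (.lin 1) (.wt 0))) (.wt
    0)) (.wt 1)) (.lin 2)) (.lin 9)))) (.wt 0))) (.lin 2)))) (.split 3 (-93) (.lin 2) (.split 6
    53 (.split 7 (-65) (.lin 9) (.split 3 (-84) (.lin 2) (.split 0 61 (.split 4 124 (.split 5
    (-41) (.lin 4) (.split 1 (-25) (.split 4 105 (.lin 0) (.split 0 51 (.lin 4) (.split 3 (-74)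
    (.split 5 (-32) (.lin 4) (.splitN 125940 (.split 6 50 (.split 4 115 (.split 7 (-56) (.lin 9)
    (.split 3 (-75) (.lin 2) (.splitN 108757 (.wt 0) (.split 5 (-23) (.split 4 114 (.lin 0)
    (.split 0 60 (.lin 1) (.wt 0))) (.wt 1))))) (.lin 0)) (.wt 2)) (.wt 1))) (.lin 2)))) (.split
    3 (-75) (.lin 2) (.split 0 54 (.split 5 (-32) (.lin 4) (.split 0 49 (.split 5 (-23) (.lin 4)
    (.wt 2)) (.wt 2))) (.wt 2))))) (.lin 3)) (.split 4 123 (.lin 3) (.split 1 (-22) (.split 5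
    (-50) (.lin 4) (.splitN 136050 (.split 6 47 (.split 7 (-56) (.lin 9) (.split 3 (-75) (.lin 2)
    (.wt 0))) (.wt 2)) (.wt 1))) (.wt 2)))))) (.split 4 114 (.lin 0) (.split 7 (-73) (.split 3
    (-83) (.splitN 112980 (.split 0 67 (.split 5 (-41) (.lin 1) (.split 4 133 (.splitN 104011
    (.split 0 56 (.split 5 (-32) (.lin 1) (.splitN 86376 (.split 0 43 (.split 5 (-23) (.lin 1)
    (.wt 0)) (.wt 0)) (.wt 6))) (.wt 0)) (.wt 1)) (.lin 3))) (.wt 0)) (.wt 1)) (.lin 2)) (.lin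
    9))))))) (.lin 3))) (.split 4 141 (.lin 3) (.split 6 61 (.split 7 (-65) (.lin 9) (.split 3
    (-102) (.lin 2) (.split 1 (-34) (.split 3 (-83) (.split 5 (-131) (.lin 1) (.split 5 (-122)
    (.lin 4) (.splitN 146112 (.split 6 48 (.split 7 (-56) (.lin 9) .cand) (.split 4 150 (.lin 3)
    (.split 7 (-64) (.split 3 (-92) (.splitN 91512 (.wt 0) (.splitN 107149 (.split 0 127 (.split
    5 (-86) (.lin 1) (.split 0 122 (.split 5 (-77) (.lin 1) (.split 5 (-47) (.split 0 94 (.split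
    3 (-93) (.lin 1) (.split 1 (-39) (.lin 2) (.split 5 (-50) (.lin 1) (.wt 0)))) (.wt 2)) (.wt
    1))) (.wt 0))) (.wt 0)) (.wt 1))) (.lin 2)) (.lin 9)))) (.wt 1)))) (.lin 2)) (.split 3 (-84)
    (.lin 2) (.split 0 112 (.split 5 (-95) (.lin 1) (.split 4 187 (.split 5 (-86) (.lin 4)
    (.splitN 159182 (.split 1 (-22) (.split 5 (-77) (.lin 4) (.splitN 144222 (.split 6 51 (.split
    7 (-56) (.lin 9) (.wt 0)) (.wt 0)) (.wt 1))) (.wt 0)) (.wt 6))) (.lin 0))) (.wt 2)))))) (.wt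
    2)))))) (.lin 3)) (.split 4 123 (.lin 0) (.split 7 (-82) (.split 0 85 (.split 5 (-59) (.lin
    4) (.split 0 70 (.split 5 (-50) (.lin 4) (.split 0 67 (.split 4 151 (.split 1 (-39) (.lin 4)
    (.split 5 (-41) (.lin 4) (.splitN 93918 (.split 1 (-21) (.split 0 51 (.lin 4) (.split 5 (-32)
    (.lin 4) (.wt 2))) (.wt 0)) (.wt 1)))) (.lin 3)) (.wt 2))) (.wt 2))) (.wt 2)) (.lin 9))))))

def cert5_108_6 : Cert :=
  (.split 2 3 (.splitN 51236 (.split 3 (-1371) (.div 3) (.split 4 548 (.split 1 (-480) (.lin 0)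
    (.split 7 (-506) (.lin 8) (.split 3 (-525) (.lin 10) (.split 5 (-275) (.div 5) (.split 6 375
    (.split 7 (-371) (.lin 9) (.split 6 339 (.split 7 (-335) (.lin 9) (.split 0 180 (.split 3
    (-489) (.lin 1) (.split 5 (-158) (.lin 4) (.splitN 48834 (.split 4 187 (.split 5 (-122) (.lin
    0) (.split 6 71 (.split 7 (-74) (.lin 9) (.split 1 (-49) (.split 4 123 (.lin 0) (.split 0 78
    (.lin 4) (.split 5 (-86) (.lin 0) (.split 3 (-101) (.splitN 39491 .sq (.wt 1)) (.lin 2)))))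
    (.split 3 (-120) (.lin 2) (.split 0 94 (.split 5 (-68) (.lin 4) (.split 0 82 (.split 5 (-59)
    (.lin 4) (.split 0 78 (.split 5 (-50) (.lin 4) (.split 6 58 (.split 7 (-56) (.lin 9) (.split
    0 55 (.split 3 (-84) (.lin 1) (.split 1 (-39) (.lin 2) (.split 5 (-32) (.lin 4) (.wt 2))))
    (.wt 2))) (.wt 2))) (.wt 2))) (.wt 2))) (.wt 2))))) (.split 4 123 (.lin 0) (.split 7 (-82)
    (.split 3 (-101) (.splitN 41435 .sq (.wt 1)) (.lin 2)) (.lin 9))))) .sq) (.wt 1)))) .sq))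
    (.wt 2))) (.wt 2)))))) (.div 4))) (.wt 1)) (.split 4 96 (.lin 0) (.split 7 (-55) (.splitN
    803599 (.split 4 8900 (.split 3 (-8868) (.lin 10) (.split 0 883 (.split 5 (-860) (.lin 4)
    (.splitN 730270 (.split 0 842 (.split 5 (-815) (.lin 4) (.split 3 (-845) .sq (.split 4 1663
    (.splitN 650565 (.split 0 793 (.split 5 (-770) (.lin 4) (.split 3 (-795) .sq (.split 4 797
    (.split 5 (-716) (.lin 0) (.split 6 184 (.split 7 (-191) (.lin 9) (.split 6 88 (.split 7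
    (-92) (.lin 9) (.splitN 46869 (.wt 1) (.split 1 (-120) (.split 4 204 (.lin 0) (.split 0 114
    (.lin 3) (.split 0 150 (.lin 4) (.split 3 (-173) (.splitN 116684 .sq (.split 6 46 (.wt 0)
    (.split 7 (-64) (.wt 1) (.lin 9)))) (.lin 2))))) (.split 3 (-201) (.lin 2) (.splitN 492492
    (.split 0 685 (.split 5 (-662) (.lin 4) (.split 4 691 (.split 5 (-617) (.lin 0) (.split 0 165
    (.split 5 (-176) (.lin 1) (.split 4 250 (.split 5 (-140) (.lin 4) cert5_108_5) (.lin 3)))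
    (.split 4 222 (.lin 3) (.split 5 (-49) (.splitN 90377 .sq (.splitN 251411 (.split 6 75
    (.split 7 (-83) (.lin 9) (.split 6 67 (.split 7 (-74) (.lin 9) (.split 0 434 (.split 5 (-428)
    (.lin 1) (.split 4 502 (.split 4 457 (.split 5 (-383) (.lin 0) (.split 1 (-49) (.split 5
    (-347) (.lin 0) (.split 3 (-101) (.splitN 99089 .sq (.splitN 141974 (.split 0 263 (.split 5
    (-221) (.lin 1) (.split 4 331 (.split 7 (-73) (.wt 3) (.split 6 53 (.split 4 301 (.split 0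
    241 (.splitN 131825 (.split 4 284 (.split 0 223 (.split 6 48 (.split 7 (-56) (.lin 9) (.split
    1 (-101) (.wt 0) (.split 5 (-76) (.splitN 106253 (.wt 1) (.split 1 (-76) (.wt 0) (.split 5
    (-94) (.splitN 111655 (.wt 1) (.split 0 169 (.wt 0) (.split 1 (-64) (.wt 0) (.split 5 (-112)
    (.split 3 (-102) (.lin 2) (.split 5 (-121) (.splitN 119563 (.wt 1) (.wt 0)) (.lin 1))) (.lin
    0))))) (.lin 0)))) (.lin 0)))) (.split 5 (-158) (.lin 0) (.split 7 (-64) (.wt 1) (.lin 9))))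
    (.lin 3)) .sq) (.wt 3)) (.lin 3)) .sq) (.lin 9))) (.lin 3))) .sq) (.wt 1))) (.lin 2)))
    (.split 3 (-111) (.lin 2) (.split 1 (-25) (.splitN 168071 (.split 6 51 (.split 7 (-56) (.lin
    9) (.split 3 (-93) (.lin 2) (.splitN 124504 (.wt 0) (.split 1 (-34) (.split 3 (-83) (.splitN
    145643 (.split 0 313 (.split 5 (-275) (.lin 1) (.split 1 (-39) (.split 3 (-92) (.splitN
    134353 (.split 0 217 (.split 5 (-167) (.lin 1) (.split 4 268 (.split 5 (-134) (.split 0 186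
    (.lin 1) (.wt 2)) (.wt 1)) (.lin 0))) (.wt 0)) (.wt 1)) (.lin 2)) (.wt 0))) (.wt 0)) (.wt 1))
    (.lin 2)) (.wt 0))))) (.wt 2)) (.wt 1)) (.wt 2))))) .sq) (.lin 3))) .sq)) (.wt 6))) (.wt 2))
    (.wt 1))) (.lin 4))))) .sq)) .sq) (.wt 1)))))) (.split 4 141 (.lin 0) (.split 7 (-100)
    (.split 3 (-110) (.splitN 107673 (.split 0 237 (.split 3 (-390) (.lin 1) (.split 4 421
    (.split 5 (-212) (.lin 4) (.splitN 101874 (.split 3 (-246) .sq (.split 4 261 (.split 5 (-140)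
    (.lin 0) (.split 3 (-228) (.lin 10) (.splitN 96471 (.split 4 248 (.split 5 (-122) (.lin 0)
    (.split 3 (-210) (.lin 10) (.split 1 (-49) (.split 4 177 (.lin 0) (.split 0 78 (.lin 4)
    (.split 3 (-146) (.splitN 80882 .sq (.wt 1)) (.lin 2)))) (.split 0 96 (.split 5 (-68) (.lin
    4) (.split 0 83 (.split 5 (-59) (.lin 4) (.split 1 (-34) (.split 4 159 (.lin 0) (.split 0 60
    (.lin 4) (.split 3 (-128) (.split 5 (-41) (.lin 4) (.splitN 65654 .sq (.wt 1))) (.lin 2))))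
    (.split 0 59 (.split 5 (-32) (.lin 4) (.split 0 49 (.split 1 (-21) (.lin 4) (.split 5 (-23)
    (.lin 4) (.splitN 73641 (.wt 0) (.wt 1)))) (.wt 2))) (.wt 2)))) (.wt 2))) (.wt 2))))) .sq)
    (.wt 1)))) .sq)) (.wt 1))) (.lin 3))) .sq) (.wt 1)) (.lin 2)) (.lin 9))))) (.split 4 240
    (.lin 0) (.split 7 (-199) (.split 3 (-209) (.splitN 179540 .sq (.wt 1)) (.lin 2)) (.lin
    9))))) .sq))) .sq) (.wt 1)) (.lin 5)))) .sq) (.wt 1))) .sq)) (.div 4)) (.wt 1)) (.lin 9))))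

def cert5_108_7 : Cert :=
  (.split 6 57 (.split 3 (-111) (.lin 11) (.split 1 (-38) (.split 4 123 (.lin 0) (.split 5 (-50)
    (.lin 4) (.split 3 (-83) (.splitN 170344 (.splitN 133238 (.split 7 (-96) (.split 6 48 (.split
    2 54 (.lin 9) (.wt 2)) .cand) (.split 2 46 (.split 4 187 (.split 5 (-36) (.split 6 44 (.wt 2)
    .cand) (.split 7 (-78) (.split 2 27 (.lin 9) (.split 6 48 (.splitN 77459 (.wt 1) (.split 1
    (-55) (.wt 0) (.split 4 169 (.split 0 79 (.wt 2) (.lin 4)) (.lin 0)))) .cand)) (.split 4 169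
    (.split 2 28 (.split 6 48 (.split 0 65 (.wt 2) (.split 1 (-47) (.split 3 (-92) (.split 0 80
    (.wt 2) (.split 4 150 (.lin 3) (.split 1 (-56) (.split 5 (-31) (.split 3 (-101) (.splitN
    84367 (.wt 1) (.wt 0)) (.lin 7)) (.lin 4)) (.lin 4)))) (.lin 11)) (.split 4 142 (.split 0 70
    (.split 5 (-31) (.splitN 97476 (.wt 1) (.wt 0)) (.lin 4)) (.lin 4)) (.lin 0)))) (.split 7
    (-73) .cand (.lin 9))) (.lin 9)) (.lin 6)))) (.lin 3)) (.lin 9))) (.wt 3)) (.wt 0)) (.lin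
    11)))) (.split 3 (-84) (.lin 11) (.split 7 (-96) (.split 2 45 (.lin 9) (.split 4 132 (.lin 0)
    (.splitN 167435 (.split 0 65 (.split 4 196 (.split 5 (-41) (.lin 4) (.split 1 (-25) (.split 3
    (-74) (.splitN 103355 (.split 6 44 (.wt 2) .cand) (.wt 0)) (.lin 11)) (.split 3 (-75) (.lin
    11) (.split 6 48 (.split 3 (-66) (.lin 11) .cand) (.split 0 50 (.split 5 (-23) (.lin 4) (.wt
    2)) (.wt 2)))))) (.lin 3)) (.split 4 159 (.lin 3) (.split 5 (-40) (.split 4 168 (.lin 12)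
    (.split 1 (-25) (.split 3 (-74) (.splitN 121062 (.split 6 48 (.wt 2) .cand) (.wt 0)) (.lin
    11)) (.split 6 47 (.split 3 (-66) (.lin 11) (.split 0 76 (.split 5 (-50) (.lin 4) (.wt 2))
    (.wt 2))) (.wt 2)))) (.lin 4)))) (.wt 1)))) (.split 2 55 (.split 2 46 (.split 4 196 (.split 4
    178 (.split 0 65 (.split 4 160 (.split 5 (-41) (.lin 4) (.split 4 151 (.split 1 (-25) (.split
    0 51 (.lin 4) (.split 5 (-32) (.lin 4) (.split 3 (-74) (.split 7 (-78) (.splitN 104257 .cand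
    (.wt 3)) (.split 6 48 (.split 0 52 (.wt 2) (.split 5 (-31) (.wt 2) (.lin 4))) (.split 2 19
    (.split 7 (-73) (.split 3 (-83) (.splitN 98175 (.split 0 52 (.split 5 (-23) (.lin 1) (.wt 0))
    (.wt 0)) (.wt 1)) (.lin 2)) (.lin 9)) (.lin 9)))) (.lin 11)))) (.split 3 (-75) (.lin 11)
    (.split 7 (-78) (.split 2 27 (.lin 2) (.split 4 114 (.lin 0) (.splitN 155355 (.split 6 48
    (.split 3 (-66) (.lin 11) .cand) (.split 2 37 (.splitN 126346 (.split 0 50 (.split 5 (-23)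
    (.lin 4) (.splitN 113341 (.wt 0) (.wt 1))) (.wt 0)) (.wt 1)) (.lin 9))) (.wt 1)))) (.split 2
    28 (.split 0 60 (.split 5 (-32) (.lin 4) (.split 6 50 (.split 3 (-66) (.lin 11) (.split 0 49
    (.split 5 (-23) (.lin 4) (.wt 2)) (.wt 2))) (.wt 2))) (.wt 2)) (.lin 2))))) (.lin 12))) (.lin
    3)) (.split 4 132 (.lin 3) (.split 5 (-40) (.split 1 (-25) (.split 5 (-59) (.lin 4) (.split 3
    (-74) (.splitN 157545 (.split 7 (-78) (.split 2 27 (.lin 2) (.split 4 141 (.lin 0) (.split 4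
    150 (.lin 8) (.split 6 48 (.split 2 36 (.lin 9) (.splitN 102410 (.wt 1) (.split 0 74 (.wt 0)
    (.split 5 (-49) (.wt 2) (.lin 4))))) (.split 2 37 (.splitN 107094 (.split 0 80 (.split 5
    (-50) (.lin 4) (.wt 2)) (.wt 0)) (.wt 1)) (.lin 9)))))) (.split 6 50 (.splitN 108537 (.wt 1)
    .cand) (.wt 2))) (.wt 1)) (.lin 11))) (.split 5 (-49) (.split 3 (-75) (.lin 11) (.splitN
    186264 (.split 7 (-67) (.split 4 141 (.lin 8) (.split 0 76 (.split 5 (-50) (.lin 4) (.wt 2))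
    (.wt 2))) (.wt 0)) (.wt 6))) (.lin 4))) (.lin 4)))) (.lin 12)) (.lin 0)) (.lin 9)) (.lin
    2)))))) (.split 4 123 (.lin 0) (.split 2 64 (.split 7 (-82) (.split 3 (-83) (.splitN 144077
    (.split 1 (-38) (.split 4 141 (.lin 0) (.split 0 60 (.lin 4) (.split 5 (-50) (.lin 4) (.split
    3 (-101) (.splitN 56625 (.wt 1) (.split 5 (-36) (.split 4 159 (.lin 0) (.split 0 78 (.lin 4)
    (.split 1 (-48) (.lin 4) (.split 3 (-120) (.lin 7) (.split 6 70 .cand (.wt 2)))))) (.split 7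
    (-105) (.split 4 159 (.lin 6) (.split 2 36 (.lin 9) (.split 4 168 (.lin 8) (.split 0 74
    (.split 3 (-120) (.lin 7) (.split 4 196 (.split 5 (-27) (.split 0 69 (.lin 4) (.split 1 (-39)
    (.lin 4) (.split 3 (-111) (.lin 7) (.wt 2)))) (.splitN 71876 (.split 0 64 (.split 1 (-39)
    (.lin 4) (.split 3 (-111) (.lin 7) (.wt 0))) (.wt 2)) (.wt 1))) (.lin 12))) (.split 4 177
    (.lin 3) (.split 1 (-47) (.split 3 (-110) (.splitN 69812 .sq (.splitN 74062 (.split 5 (-27)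
    (.split 6 66 (.split 3 (-120) (.lin 7) (.split 7 (-119) (.wt 1) (.split 2 55 (.split 1 (-55)
    (.wt 1) (.split 0 79 (.split 3 (-111) (.lin 7) (.wt 0)) (.lin 4))) (.lin 9)))) (.wt 1)) (.wt
    1)) (.wt 1))) (.lin 7)) (.lin 4))))))) (.split 2 55 (.split 2 37 (.split 0 84 (.split 4 178
    (.split 1 (-47) (.split 0 69 (.lin 4) (.split 5 (-23) (.split 4 159 (.lin 0) (.split 0 78
    (.lin 4) (.split 3 (-120) (.lin 7) (.wt 2)))) (.wt 2))) (.split 3 (-120) (.lin 2) (.split 4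
    169 (.split 3 (-111) (.lin 11) (.splitN 73767 (.wt 0) (.splitN 84629 (.split 7 (-85) (.split
    4 150 (.lin 8) (.split 5 (-23) (.split 0 69 (.lin 4) (.splitN 79698 (.wt 0) (.wt 1))) (.wt
    1))) (.wt 0)) (.wt 1)))) (.lin 8)))) (.lin 12)) (.wt 2)) (.lin 9)) (.lin 2))))) (.lin 11)))))
    (.split 3 (-102) (.lin 11) (.split 0 75 (.split 5 (-50) (.lin 4) (.split 0 68 (.split 5 (-41)
    (.lin 4) (.split 1 (-25) (.split 0 51 (.lin 4) (.split 5 (-32) (.lin 4) (.split 0 57 (.split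
    5 (-23) (.lin 4) (.wt 2)) (.wt 2)))) (.split 0 46 (.split 5 (-23) (.lin 4) (.wt 2)) (.wt
    2)))) (.wt 2))) (.wt 2)))) (.wt 1)) (.lin 11)) (.lin 9)) (.lin 9))))

def cert5_108_8 : Cert :=
  (.split 6 57 (.split 3 (-111) (.lin 11) (.split 1 (-38) (.split 5 (-167) (.lin 4) (.split 3
    (-83) (.splitN 173872 (.split 7 (-96) (.split 2 45 (.lin 9) (.splitN 126070 (.splitN 107052
    (.split 4 266 (.split 0 160 (.split 6 48 (.split 2 54 (.lin 9) (.splitN 94566 (.splitN 87504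
    (.wt 6) (.split 0 120 (.wt 0) (.split 4 222 (.lin 3) (.split 5 (-67) .sq (.lin 4))))) (.wt
    0))) .cand) (.lin 12)) .sq) (.wt 3)) (.wt 0))) (.split 2 46 (.split 4 304 (.split 7 (-78)
    (.split 2 27 (.lin 9) (.splitN 133374 (.split 6 48 (.split 2 36 (.lin 9) (.splitN 114562
    (.split 0 117 (.wt 2) (.split 4 204 (.lin 3) (.split 5 (-67) (.splitN 93093 (.wt 1) (.split 1
    (-54) (.wt 0) (.split 5 (-76) (.splitN 99241 (.wt 6) (.split 0 125 (.wt 0) (.split 5 (-85)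
    (.splitN 104832 (.wt 6) (.split 0 159 (.wt 0) (.split 4 240 (.lin 3) (.split 5 (-112) .sq
    (.lin 4))))) (.lin 4)))) (.lin 4)))) (.lin 4)))) (.wt 3))) .cand) (.wt 1))) (.split 2 28
    (.split 6 48 (.split 3 (-102) (.lin 11) (.split 5 (-82) (.split 1 (-47) (.split 3 (-92)
    (.splitN 115750 (.wt 6) (.split 0 165 (.wt 0) (.split 5 (-112) (.wt 2) (.lin 4)))) (.lin 11))
    (.split 3 (-84) (.lin 11) .cand)) (.split 4 205 (.split 0 142 (.split 0 133 (.split 1 (-47)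
    (.split 3 (-92) (.splitN 102530 (.wt 6) (.split 0 111 (.wt 0) (.split 5 (-58) (.wt 2) (.lin
    4)))) (.lin 11)) (.split 4 187 (.split 0 115 (.split 5 (-58) (.wt 2) (.lin 4)) (.lin 4))
    (.lin 0))) (.lin 4)) (.lin 1)) (.lin 0)))) (.split 7 (-73) .cand (.lin 9))) (.lin 9))) (.lin
    3)) (.lin 9))) (.wt 1)) (.lin 11))) (.split 5 (-67) (.split 3 (-84) (.lin 11) (.split 7 (-96)
    (.split 2 36 (.lin 2) (.split 2 45 (.lin 9) (.split 4 177 (.lin 0) (.split 4 195 (.lin 12)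
    (.splitN 155836 (.split 1 (-25) (.split 3 (-74) (.splitN 128446 (.split 4 304 (.split 6 48
    (.split 2 54 (.lin 9) (.split 3 (-75) (.lin 11) (.split 0 116 (.wt 2) (.split 5 (-94) (.split
    0 132 (.wt 2) (.split 5 (-103) (.split 0 136 (.wt 2) (.split 4 240 (.lin 3) (.split 5 (-112)
    (.splitN 112067 .sq (.split 7 (-114) (.wt 0) (.split 2 64 (.split 7 (-109) (.wt 1) (.split 2
    55 (.split 5 (-113) (.split 0 167 (.split 5 (-131) (.lin 1) (.split 4 259 (.splitN 116256 .sq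
    (.wt 0)) (.lin 0))) (.wt 2)) (.wt 1)) (.lin 2))) (.lin 2)))) (.lin 4)))) (.lin 4))) (.lin
    4))))) (.split 2 73 (.splitN 108655 (.split 0 164 (.split 5 (-131) (.lin 4) (.splitN 100574
    (.split 0 115 (.split 5 (-86) (.lin 4) (.wt 2)) (.wt 0)) (.wt 6))) (.wt 0)) (.wt 1)) (.lin
    9))) .sq) (.wt 1)) (.lin 11)) (.split 3 (-75) (.lin 11) (.split 6 52 (.split 3 (-66) (.lin
    11) (.wt 2)) (.wt 0)))) (.wt 1)))))) (.split 2 55 (.split 2 46 (.split 6 51 (.split 3 (-75)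
    (.lin 11) (.split 0 166 (.split 4 250 (.split 5 (-140) (.lin 4) (.split 0 155 (.split 1 (-21)
    (.split 5 (-122) (.lin 4) (.splitN 166307 .cand (.wt 1))) (.wt 2)) (.wt 2))) (.lin 3)) (.wt
    2))) (.wt 2)) (.lin 9)) (.lin 2)))) (.lin 4)))) (.split 4 177 (.lin 3) (.split 2 64 (.split 7
    (-82) (.split 3 (-83) (.splitN 135405 (.split 1 (-27) (.splitN 114238 (.split 4 287 (.split 1
    (-43) (.split 5 (-158) (.lin 0) (.split 3 (-110) (.splitN 99576 (.split 4 248 (.split 5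
    (-113) (.lin 0) (.split 7 (-105) (.split 2 36 (.lin 9) (.split 0 133 (.split 4 195 (.lin 3)
    (.split 5 (-86) (.lin 4) (.splitN 80828 .sq (.splitN 83978 (.split 5 (-64) (.split 4 213
    (.lin 0) .sq) (.wt 1)) (.wt 1))))) (.lin 12))) (.split 2 46 (.split 0 149 (.split 5 (-95)
    (.lin 4) (.split 0 140 (.split 5 (-86) (.lin 4) (.split 6 69 .cand (.wt 2))) (.wt 2))) (.wt
    2)) (.lin 2)))) .sq) (.wt 1)) (.lin 11))) (.split 5 (-58) (.split 3 (-111) (.lin 11) (.split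
    0 120 (.split 5 (-86) (.lin 4) (.splitN 85631 (.split 1 (-31) (.split 5 (-77) (.lin 4)
    (.splitN 78638 (.wt 4) (.split 7 (-104) (.split 2 36 (.lin 2) (.split 4 195 (.lin 0) (.wt
    6))) (.wt 0)))) (.wt 0)) (.wt 6))) (.wt 2))) (.lin 4))) .sq) (.wt 1)) (.wt 2)) (.wt 1)) (.lin
    11)) (.lin 9)) (.lin 9))))

def cert5_108_9 : Cert :=
  (.split 0 93 (.split 4 376 (.split 5 (-68) (.lin 4) (.split 4 349 (.split 7 (-130) (.split 2 63
    (.lin 9) (.split 4 150 (.lin 0) (.split 4 177 (.lin 8) (.splitN 157578 (.split 6 57 (.split 2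
    81 (.lin 9) (.splitN 137163 (.split 4 320 (.split 1 (-38) (.split 4 195 (.lin 8) (.split 3
    (-83) (.splitN 78110 .sq (.splitN 84953 (.split 0 71 (.wt 0) (.split 4 213 (.lin 12) .sq))
    (.wt 0))) (.lin 11))) (.split 3 (-84) (.lin 11) (.split 0 65 (.split 5 (-41) (.lin 4)
    (.splitN 118392 (.split 4 288 (.split 2 199 (.split 7 (-245) (.lin 8) (.split 1 (-25) (.split
    5 (-32) (.lin 4) (.split 6 45 (.wt 2) (.split 3 (-83) (.splitN 70631 .sq (.split 7 (-217)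
    (.wt 0) (.split 2 154 (.split 4 268 (.split 5 (-29) (.wt 2) (.split 0 52 (.wt 2) (.lin 4)))
    (.lin 0)) (.lin 9)))) (.lin 11)))) (.split 3 (-75) (.lin 11) (.split 6 48 (.split 0 47 (.wt
    2) (.split 5 (-31) (.splitN 88619 (.wt 1) (.split 7 (-209) (.wt 0) (.split 2 163 (.split 4
    268 (.split 0 56 (.wt 2) (.split 5 (-40) (.wt 2) (.lin 4))) (.lin 0)) (.lin 9)))) (.lin 4)))
    (.split 0 56 (.split 5 (-32) (.lin 4) (.split 0 51 (.split 5 (-23) (.lin 4) (.splitN 90148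
    (.splitN 84408 (.split 7 (-188) (.split 2 135 (.lin 1) (.split 4 231 (.lin 0) .sq)) (.wt 0))
    (.wt 6)) (.wt 1))) (.wt 2))) (.wt 2)))))) (.lin 0)) .sq) (.wt 3))) (.split 5 (-40) (.splitN
    127551 (.split 4 297 (.split 1 (-25) (.split 5 (-59) (.lin 4) (.split 3 (-74) (.splitN 94327
    (.split 6 45 (.wt 2) (.split 3 (-83) (.split 4 221 (.split 2 91 (.split 0 79 (.split 7 (-146)
    (.lin 2) (.splitN 88114 (.splitN 82202 (.wt 1) (.split 0 71 (.wt 0) (.split 2 82 (.split 5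
    (-49) (.split 4 213 (.lin 0) .sq) (.lin 1)) (.lin 3)))) (.wt 0))) (.lin 3)) (.lin 0)) .sq)
    (.lin 11))) (.wt 3)) (.lin 11))) (.split 3 (-75) (.lin 11) (.split 6 50 (.split 3 (-66) (.lin
    11) .cand) (.wt 2)))) .sq) (.wt 1)) (.lin 4))))) .sq) (.wt 3))) (.split 3 (-83) (.splitN
    115172 (.split 4 279 (.split 7 (-245) (.lin 6) (.split 1 (-38) (.split 5 (-50) (.lin 4)
    (.split 4 195 (.lin 8) (.split 3 (-101) (.splitN 80702 .sq (.split 1 (-54) (.wt 0) (.split 3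
    (-120) (.lin 11) (.split 7 (-203) (.wt 0) (.split 0 62 (.split 1 (-39) (.lin 4) (.split 5
    (-23) (.lin 4) (.split 4 259 (.wt 0) (.lin 8)))) (.wt 1)))))) (.lin 11)))) (.split 3 (-102)
    (.lin 11) (.split 0 65 (.split 5 (-41) (.lin 4) (.splitN 101170 (.split 4 255 (.split 2 145
    (.split 7 (-227) (.lin 2) (.split 7 (-209) (.lin 8) (.split 1 (-25) (.split 0 51 (.lin 4)
    (.split 5 (-32) (.lin 4) (.split 6 70 (.split 3 (-93) (.lin 11) (.split 0 58 (.split 5 (-23)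
    (.lin 4) (.wt 2)) (.wt 2))) (.wt 2)))) (.split 3 (-93) (.lin 11) (.split 0 49 (.split 5 (-23)
    (.lin 4) (.wt 2)) (.wt 2)))))) (.lin 0)) .sq) (.wt 1))) (.split 4 195 (.lin 3) (.split 5
    (-40) (.split 7 (-209) (.lin 12) (.split 0 83 (.split 5 (-59) (.lin 4) (.splitN 93673 (.split
    1 (-21) (.split 5 (-50) (.lin 4) (.splitN 84314 (.split 7 (-148) (.split 2 81 (.lin 9)
    (.split 4 213 (.lin 0) .sq)) (.wt 0)) (.wt 1))) (.wt 0)) (.wt 6))) (.wt 2))) (.lin 4)))))))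
    .sq) (.wt 1)) (.lin 11))) (.wt 1))))) (.split 2 127 (.split 2 82 (.split 4 277 (.split 4 241
    (.split 4 214 (.splitN 54126 (.wt 1) cert5_108_7) (.lin 12)) (.lin 3)) (.lin 0)) (.lin 9))
    (.lin 1))) (.lin 12))) (.lin 3)) (.split 4 159 (.lin 3) (.split 5 (-40) (.splitN 52925 (.wt
    1) (.split 7 (-130) (.split 2 63 (.lin 9) (.split 4 204 (.lin 3) (.split 4 231 (.lin 12)
    (.splitN 93986 .sq (.splitN 145501 (.split 4 319 (.split 0 178 (.split 2 172 (.split 5 (-158)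
    (.lin 4) (.split 7 (-218) (.lin 12) (.split 1 (-46) (.wt 3) (.split 5 (-58) (.split 3 (-111)
    (.lin 11) (.split 6 65 (.split 2 72 (.lin 9) (.split 3 (-102) (.lin 11) (.split 6 53 (.split
    2 81 (.lin 9) (.split 3 (-93) (.lin 11) (.splitN 98378 .sq (.splitN 134930 (.split 1 (-34)
    (.wt 3) (.split 5 (-67) (.split 4 296 (.split 0 160 (.split 5 (-140) (.lin 4) (.split 7
    (-200) (.lin 12) (.split 1 (-25) (.split 3 (-74) (.split 6 44 (.wt 0) (.wt 1)) (.lin 11))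
    (.split 3 (-75) (.lin 11) (.split 0 127 (.split 5 (-104) (.lin 4) (.split 0 118 (.split 5
    (-95) (.lin 4) (.split 6 45 (.split 3 (-66) (.lin 11) (.wt 2)) (.wt 2))) (.wt 2))) (.wt
    2)))))) (.lin 12)) .sq) (.lin 4))) (.wt 1))))) (.split 3 (-83) (.splitN 101555 .sq (.wt 1))
    (.lin 11))))) (.wt 6))) (.lin 4))))) (.lin 3)) (.lin 12)) .sq) (.wt 1)))))) (.split 2 118
    (.split 2 82 (.split 4 394 (.split 4 358 (.split 4 331 (.splitN 58460 (.wt 1) cert5_108_8)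
    (.lin 12)) (.lin 3)) (.lin 0)) (.lin 9)) (.lin 2)))) (.lin 4))))

def cert5_108_10 : Cert :=
  (.split 0 207 (.split 4 493 (.split 5 (-185) (.lin 4) (.split 4 466 (.split 1 (-59) (.split 0
    87 (.lin 4) (.split 5 (-140) (.lin 4) (.split 3 (-110) (.splitN 136645 (.split 4 320 (.split
    2 181 (.split 7 (-121) (.split 4 213 (.lin 8) (.splitN 91439 .sq (.wt 3))) (.split 2 73
    (.split 6 57 (.splitN 119496 (.split 4 293 (.split 7 (-91) (.split 2 36 (.lin 9) (.split 4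
    177 (.lin 8) (.splitN 67823 .sq (.splitN 87887 (.split 0 157 (.split 5 (-49) (.wt 2) (.split
    4 220 (.split 0 133 (.splitN 80099 (.split 6 45 (.wt 2) (.split 3 (-119) (.split 4 198
    (.split 0 106 (.split 3 (-138) (.lin 6) (.split 5 (-27) (.wt 2) (.splitN 73531 (.split 0 94
    (.split 1 (-66) (.lin 4) (.split 7 (-101) (.wt 0) (.split 2 46 (.split 7 (-100) (.wt 0)
    (.split 2 37 (.split 4 178 (.wt 2) (.lin 0)) (.lin 1))) (.lin 1)))) .sq) (.wt 1)))) (.lin 3))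
    .sq) (.lin 11))) (.wt 3)) (.lin 3)) .sq)) .sq) (.wt 3))))) (.split 2 37 (.split 5 (-36)
    (.split 6 48 (.wt 2) .cand) (.split 6 48 (.split 0 104 (.wt 2) (.split 1 (-74) (.split 3
    (-119) (.split 0 121 (.wt 2) (.split 4 186 (.lin 3) (.split 1 (-92) (.split 3 (-137) (.splitN
    84455 .sq (.splitN 92092 (.split 0 137 (.wt 0) (.split 4 204 (.lin 3) (.split 1 (-110)
    (.split 3 (-155) .sq (.lin 7)) (.lin 4)))) (.wt 0))) (.lin 7)) (.lin 4)))) (.lin 7)) (.lin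
    4))) .cand)) (.lin 9))) .sq) (.wt 3)) (.split 4 168 (.lin 0) (.split 2 55 (.split 7 (-82)
    (.split 3 (-128) (.splitN 68327 .sq (.splitN 98647 (.split 3 (-215) .sq (.split 4 241 (.split
    5 (-95) (.lin 0) (.splitN 94317 (.split 3 (-199) .sq (.split 1 (-129) (.lin 11) (.split 4 227
    (.split 5 (-77) (.lin 0) (.split 5 (-41) (.split 0 114 (.lin 4) (.split 3 (-165) (.lin 6)
    (.split 2 46 (.split 4 195 (.lin 0) (.splitN 85580 .sq (.wt 1))) (.lin 10)))) (.splitN 83694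
    (.split 3 (-173) .sq (.split 4 204 (.split 2 46 (.split 7 (-110) (.lin 8) (.split 3 (-156)
    (.lin 10) (.split 5 (-23) (.split 1 (-84) (.lin 0) (.split 0 96 (.lin 4) (.split 2 37 (.split
    4 177 (.lin 0) (.split 3 (-147) (.lin 10) (.splitN 73592 .sq (.split 7 (-97) (.wt 1) (.split
    2 28 (.split 6 69 (.split 0 112 (.split 1 (-75) (.lin 4) (.split 3 (-138) (.lin 7) (.split 0
    105 (.split 5 (-32) (.lin 4) (.split 3 (-129) (.lin 7) (.wt 1))) (.wt 2)))) (.wt 6)) (.wt 1))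
    (.lin 9)))))) (.lin 10)))) (.wt 6)))) (.lin 10)) .sq)) (.wt 1)))) .sq))) (.wt 1))) .sq)) (.wt
    1))) (.lin 11)) (.lin 9)) (.lin 9)))) (.lin 9))) (.lin 0)) .sq) (.wt 3)) (.lin 11)))) (.split
    3 (-129) (.lin 11) cert5_108_9)) (.lin 12))) (.lin 3)) (.split 4 276 (.lin 3) (.split 5 (-40)
    (.splitN 135143 .sq (.splitN 340068 (.split 7 (-175) (.wt 1) (.split 2 127 (.split 7 (-171)
    (.wt 1) (.split 2 118 (.split 0 498 (.split 5 (-572) (.lin 1) (.split 4 682 (.split 5 (-473)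
    (.lin 4) (.splitN 315615 (.split 7 (-161) (.wt 1) (.split 2 109 (.split 4 646 (.split 6 70
    (.split 1 (-138) (.wt 3) (.split 5 (-76) (.split 3 (-201) (.lin 11) (.split 7 (-154) (.wt 1)
    (.split 2 100 (.split 1 (-136) (.wt 3) (.split 5 (-85) (.split 0 469 (.split 5 (-446) (.lin
    4) (.split 4 610 (.splitN 300311 (.split 4 484 (.split 5 (-401) (.lin 0) (.split 0 421
    (.split 1 (-122) (.wt 3) (.split 5 (-94) (.split 1 (-49) (.split 5 (-365) (.lin 0) (.split 3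
    (-101) (.splitN 151091 .sq (.wt 3)) (.lin 11))) (.split 5 (-166) (.split 3 (-111) (.lin 11)
    (.splitN 161099 .sq (.split 1 (-42) (.wt 1) (.split 3 (-102) (.lin 11) (.split 6 60 (.split 3
    (-93) (.lin 11) (.split 7 (-93) (.wt 1) (.split 2 64 (.split 2 46 (.split 1 (-35) (.wt 1)
    (.split 3 (-84) (.lin 11) (.wt 2))) (.lin 9)) (.lin 2)))) (.wt 1)))))) (.lin 4))) (.lin 4)))
    (.lin 3))) .sq) (.wt 1)) (.lin 12))) .sq) (.lin 4))) (.lin 9)))) (.lin 4))) (.wt 6)) (.lin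
    12)) (.lin 9))) (.wt 1))) (.lin 3))) .sq) (.lin 9))) (.lin 9))) (.wt 1))) (.lin 4))))

def cert5_108_11 : Cert :=
  (.splitN 33638 (.wt 1) (.split 0 2441 (.split 1 (-2415) (.lin 4) (.split 5 (-2417) (.lin 4)
    (.splitN 4823992 (.split 4 53576 (.split 3 (-55929) (.lin 5) (.split 0 2190 (.split 5 (-2165)
    (.lin 4) (.split 2 2190 (.splitN 4512983 (.split 3 (-2120) .sq (.split 4 6469 (.split 6 2096
    (.splitN 3525297 (.split 0 1870 (.split 5 (-1850) (.lin 4) (.split 2 1870 (.split 4 5830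
    (.split 3 (-1872) .sq (.splitN 3323563 (.split 4 1818 (.split 2 1729 (.split 5 (-1733) (.lin
    0) (.splitN 2954663 (.split 4 1714 (.split 2 1621 (.split 5 (-1625) (.lin 0) (.split 6 272
    (.split 6 108 (.split 6 75 (.split 1 (-181) (.split 0 204 (.lin 4) (.split 4 267 (.lin 0)
    (.split 3 (-227) (.splitN 205379 .sq (.wt 0)) (.lin 11)))) (.split 3 (-246) (.lin 11)
    (.splitN 1357636 (.split 0 1154 (.split 5 (-1130) (.lin 4) (.split 2 1153 (.split 4 1158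
    (.split 5 (-1067) (.lin 0) (.split 7 (-270) (.split 2 198 (.lin 9) (.split 4 312 (.lin 8)
    (.splitN 219905 .sq (.wt 1)))) (.split 2 370 (.split 2 217 (.splitN 1138868 (.split 4 1060
    (.split 5 (-977) (.lin 0) cert5_108_10) .sq) (.wt 1)) (.lin 9)) (.lin 2)))) .sq) .sq)) .sq)
    (.wt 1)))) (.split 4 141 (.lin 0) (.split 7 (-100) (.split 3 (-101) (.splitN 155310 (.split 0
    324 (.split 5 (-302) (.lin 4) (.split 3 (-408) (.lin 7) (.splitN 144639 (.split 2 306 (.split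
    4 337 (.split 5 (-212) (.lin 0) (.split 7 (-290) (.lin 8) (.split 1 (-65) (.split 0 87 (.lin
    4) (.split 4 186 (.lin 0) (.split 5 (-167) (.lin 0) (.split 3 (-146) (.splitN 85499 .sq (.wt
    1)) (.lin 11))))) (.split 3 (-165) (.lin 11) (.split 0 197 (.split 5 (-176) (.lin 4) (.split
    0 91 (.split 5 (-68) (.lin 4) (.splitN 116069 (.split 4 290 (.split 7 (-272) (.lin 6) (.split
    7 (-245) (.lin 8) (.split 1 (-38) (.split 2 145 (.split 0 60 (.lin 4) (.split 4 159 (.lin 0)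
    (.split 5 (-50) (.lin 4) (.split 3 (-119) (.splitN 62171 .sq (.split 5 (-23) (.split 0 69
    (.lin 4) (.split 4 168 (.lin 0) (.splitN 66788 .sq (.split 7 (-207) (.wt 1) (.split 6 98
    (.split 3 (-156) (.lin 7) (.split 6 96 (.split 0 83 (.split 1 (-48) (.lin 4) (.split 5 (-41)
    (.lin 4) (.split 3 (-138) (.lin 7) (.wt 6)))) (.wt 6)) (.wt 2))) (.wt 2)))))) (.wt 6))) (.lin
    11))))) (.lin 0)) (.split 3 (-138) (.lin 11) (.split 0 69 (.split 5 (-41) (.lin 4) (.split 0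
    59 (.split 5 (-32) (.lin 4) (.split 1 (-21) (.split 0 51 (.lin 4) (.split 5 (-23) (.lin 4)
    (.wt 2))) (.wt 2))) (.wt 2))) (.wt 2)))))) .sq) (.wt 1))) (.split 2 154 (.split 4 195 (.lin
    3) (.split 5 (-40) (.split 7 (-236) (.lin 12) (.splitN 76787 .sq (.splitN 99380 (.split 1
    (-21) (.split 5 (-167) (.lin 4) (.split 7 (-190) (.wt 1) (.split 2 100 (.split 0 134 (.split
    5 (-104) (.lin 4) (.split 7 (-161) (.wt 1) (.split 2 73 (.wt 6) (.lin 9)))) (.wt 2)) (.lin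
    9)))) (.wt 0)) (.wt 6)))) (.lin 4))) (.lin 3)))) (.wt 2)))))) .sq) .sq) (.wt 1)))) .sq) (.wt
    1)) (.lin 11)) (.lin 9)))) (.split 4 177 (.lin 0) (.split 7 (-136) (.split 3 (-137) (.splitN
    85499 .sq (.splitN 111430 (.split 2 616 (.split 4 1232 (.split 3 (-1191) (.lin 10) (.split 5
    (-617) (.div 5) (.split 0 306 (.split 5 (-284) (.lin 4) (.split 3 (-552) (.lin 7) (.splitN
    106275 (.split 2 580 (.split 4 1150 (.split 0 171 (.split 4 1015 (.split 5 (-149) (.lin 4)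
    (.split 3 (-417) (.lin 7) (.split 0 110 (.split 5 (-86) (.lin 4) (.split 3 (-354) (.lin 7)
    (.split 0 73 (.split 5 (-50) (.lin 4) (.split 0 47 (.split 5 (-23) (.lin 4) (.wt 1)) (.wt
    1))) (.wt 1)))) (.wt 1)))) (.lin 3)) (.wt 1)) (.lin 3)) (.div 2)) (.wt 1)))) (.wt 1)))) (.div
    4)) (.div 2)) (.wt 1))) (.lin 11)) (.lin 9)))) (.split 4 339 (.lin 0) (.split 7 (-298)
    (.split 3 (-299) (.splitN 374183 .sq (.wt 1)) (.lin 11)) (.lin 9))))) (.lin 10)) .sq) (.wt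
    1))) (.lin 10)) .sq) (.wt 1))) (.lin 3)) .sq)) .sq) (.wt 1)) (.lin 11)) (.lin 5))) (.wt 1))
    .sq)) .sq)) (.div 4)) (.wt 1)))) .sq))

def cert5_108_12 : Cert :=
  (.split 2 22 (.splitN 256201 (.split 0 489 (.split 1 (-480) (.lin 4) (.split 3 (-494) .sq
    (.split 4 520 (.split 5 (-8) (.split 4 78 (.lin 0) (.split 0 33 (.lin 4) (.splitN 194509
    (.split 3 (-425) .sq (.split 4 426 (.split 7 (-389) (.lin 8) (.split 2 4 (.split 0 137
    (.split 1 (-120) (.lin 4) (.split 0 109 (.split 1 (-93) (.lin 4) (.split 0 101 (.split 6 86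
    (.split 3 (-165) (.lin 7) (.split 7 (-83) (.lin 9) (.split 0 49 (.split 3 (-111) (.lin 1)
    (.split 1 (-30) (.lin 4) (.wt 2))) (.wt 2)))) (.wt 2)) (.wt 2))) (.wt 2))) (.wt 2)) (.split 4
    87 (.lin 0) (.split 7 (-55) (.splitN 147507 (.split 3 (-364) .sq (.split 4 368 (.split 1
    (-300) (.lin 0) (.split 6 119 (.split 7 (-137) (.lin 9) (.split 0 103 (.split 3 (-210) (.lin
    1) (.split 4 232 (.split 1 (-84) (.lin 4) (.split 6 80 (.split 3 (-165) (.lin 7) (.split 7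
    (-101) (.lin 9) (.split 0 65 (.split 3 (-138) (.lin 1) (.split 4 160 (.split 1 (-48) (.lin 4)
    (.split 3 (-129) (.lin 7) (.split 6 62 (.split 7 (-83) (.lin 9) (.split 1 (-34) (.split 4 105
    (.lin 0) (.split 0 51 (.lin 4) (.split 3 (-83) (.split 6 49 (.split 4 124 (.split 3 (-102)
    (.lin 6) (.split 3 (-93) (.lin 7) (.split 7 (-65) (.lin 9) (.splitN 79591 (.split 7 (-57)
    (.split 4 114 (.lin 6) (.split 2 18 (.lin 9) (.splitN 76007 (.wt 0) (.wt 6)))) (.wt 0)) (.wt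
    6))))) (.lin 0)) (.wt 2)) (.lin 7)))) (.split 0 43 (.split 3 (-102) (.lin 1) (.split 3 (-93)
    (.lin 7) (.split 6 57 (.split 3 (-84) (.lin 7) (.split 7 (-74) (.lin 9) (.split 1 (-25)
    (.split 4 96 (.lin 0) (.split 0 42 (.lin 4) (.split 3 (-74) (.splitN 84866 (.split 6 50
    (.split 4 106 (.split 7 (-65) (.lin 6) (.wt 0)) (.lin 0)) (.wt 0)) (.wt 6)) (.lin 7))))
    (.split 0 34 (.split 3 (-75) (.lin 7) (.splitN 100875 (.split 6 51 (.split 4 97 (.split 7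
    (-65) (.lin 6) (.split 3 (-66) (.lin 7) (.wt 0))) (.lin 0)) (.wt 0)) (.wt 6))) (.lin 4)))))
    (.wt 2)))) (.lin 4)))) (.split 4 114 (.lin 0) (.split 7 (-82) (.splitN 74596 (.split 1 (-23)
    (.split 0 42 (.lin 4) (.wt 2)) (.wt 0)) (.wt 1)) (.lin 9)))))) (.lin 3))) (.split 4 123 (.lin
    3) (.split 6 52 (.split 4 160 (.split 3 (-138) (.lin 6) (.split 7 (-65) (.lin 9) (.split 0 75
    (.split 3 (-102) (.lin 7) (.wt 2)) (.wt 2)))) (.lin 0)) (.wt 2)))))) (.split 4 132 (.lin 0)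
    (.split 7 (-100) (.splitN 67234 (.split 1 (-23) (.split 0 42 (.lin 4) (.wt 2)) (.wt 0)) (.wt
    1)) (.lin 9))))) (.lin 3))) (.split 4 159 (.lin 3) (.split 1 (-92) (.split 3 (-137) (.splitN
    69299 .sq (.split 7 (-67) (.wt 1) (.split 0 167 (.split 3 (-201) (.lin 1) (.split 1 (-165)
    (.lin 2) (.wt 6))) (.wt 2)))) (.lin 7)) (.lin 4))))) (.split 4 168 (.lin 0) (.split 3 (-146)
    (.split 7 (-136) (.splitN 85823 .sq (.wt 1)) (.lin 9)) (.lin 7))))) .sq)) (.wt 1)) (.lin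
    9))))) .sq)) (.wt 1)))) (.split 0 27 (.split 1 (-21) (.lin 4) (.wt 2)) (.wt 2))) (.lin 10))))
    .sq) (.wt 1)) (.split 1 (-516) (.lin 0) (.split 4 96 (.lin 0) (.split 7 (-73) (.splitN 157676
    (.split 3 (-372) .sq (.split 4 378 (.split 2 307 (.split 7 (-353) (.lin 8) (.split 3 (-345)
    (.lin 10) (.split 5 (-8) (.split 4 105 (.lin 0) (.split 0 33 (.lin 4) (.splitN 129064 (.split
    4 336 (.split 7 (-299) (.lin 8) (.split 3 (-291) (.lin 10) (.split 6 108 (.split 0 93 (.split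
    1 (-75) (.lin 4) (.split 3 (-183) (.lin 7) (.split 6 75 (.split 3 (-147) (.lin 7) (.split 0
    61 (.split 1 (-48) (.lin 4) (.split 7 (-148) (.split 2 81 (.lin 9) (.split 4 186 (.lin 8)
    (.splitN 73295 .sq (.split 1 (-33) (.wt 1) (.split 0 43 (.split 6 54 (.split 3 (-84) (.lin 7)
    (.split 1 (-29) (.wt 1) (.split 0 34 (.split 3 (-75) (.lin 7) (.split 6 50 (.wt 2) (.wt 1)))
    (.lin 4)))) (.wt 1)) (.lin 4)))))) (.split 2 100 (.split 6 57 (.split 3 (-102) (.lin 7)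
    (.split 1 (-34) (.split 4 123 (.lin 0) (.split 0 51 (.lin 4) (.split 3 (-83) (.split 7 (-109)
    (.split 2 45 (.lin 1) (.split 2 54 (.lin 9) (.split 4 150 (.lin 0) (.split 4 159 (.lin 8)
    (.split 6 48 (.split 0 53 (.wt 2) (.split 1 (-47) (.split 3 (-92) (.wt 2) (.lin 7)) (.lin
    4))) (.splitN 59544 (.split 0 54 (.split 3 (-93) (.lin 7) (.wt 0)) (.wt 0)) (.wt 6)))))))
    (.split 6 50 .cand (.wt 2))) (.lin 7)))) (.split 0 43 (.split 3 (-84) (.lin 7) (.split 4 187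
    (.split 7 (-109) (.split 2 54 (.lin 9) (.split 4 132 (.lin 0) (.split 4 141 (.lin 8) (.split
    1 (-25) (.split 0 42 (.lin 4) (.split 3 (-74) (.split 6 44 (.wt 2) (.splitN 67661 (.wt 0)
    (.wt 1))) (.lin 7))) (.split 0 34 (.split 6 49 (.wt 2) (.wt 2)) (.lin 4)))))) (.split 2 64
    (.split 2 55 (.split 4 151 (.split 4 142 (.split 1 (-25) (.split 4 114 (.lin 0) (.split 0 42
    (.lin 4) (.split 3 (-74) (.split 6 47 (.split 3 (-75) (.lin 7) (.splitN 72239 (.wt 1) (.split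
    7 (-94) (.wt 0) (.split 2 46 (.split 4 133 (.split 7 (-81) (.split 2 36 (.lin 1) (.split 4
    123 (.lin 0) (.splitN 81249 (.split 7 (-83) (.wt 2) (.wt 0)) (.wt 0)))) (.wt 2)) (.lin 0))
    (.lin 1))))) (.wt 2)) (.lin 7)))) (.split 0 34 (.split 3 (-75) (.lin 7) (.split 4 133 (.split
    6 47 (.split 3 (-66) (.lin 7) (.splitN 97281 (.split 7 (-79) (.split 2 36 (.lin 1) (.split 7
    (-88) (.split 2 45 (.lin 1) (.split 4 123 (.lin 0) (.splitN 90866 (.split 7 (-92) (.wt 2)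
    (.wt 0)) (.wt 0)))) (.wt 2))) (.wt 0)) (.wt 6))) (.wt 2)) (.lin 8))) (.lin 4))) (.lin 8))
    (.lin 0)) (.lin 9)) (.lin 1))) (.lin 8))) (.lin 4)))) (.split 4 123 (.lin 0) (.split 2 82
    (.split 0 46 (.split 1 (-30) (.lin 4) (.split 3 (-102) (.lin 7) (.splitN 74784 (.split 0 36
    (.split 1 (-21) (.lin 4) (.wt 0)) (.wt 2)) (.wt 6)))) (.wt 2)) (.lin 9)))) (.lin 9))))
    (.split 2 217 (.split 4 141 (.lin 3) (.split 1 (-56) (.split 3 (-101) (.split 7 (-263) (.lin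
    8) (.splitN 78455 (.split 6 58 (.split 4 220 (.split 7 (-109) (.split 2 54 (.lin 9) (.split 4
    177 (.lin 8) (.splitN 66932 .sq (.wt 1)))) (.split 6 49 .cand (.wt 2))) .sq) (.wt 2)) (.wt
    1))) (.lin 7)) (.lin 4))) (.lin 3)))) (.split 4 141 (.lin 0) (.split 0 49 (.split 1 (-30)
    (.lin 4) (.split 3 (-138) (.lin 7) (.splitN 57221 (.split 0 37 (.split 1 (-21) (.lin 4) (.wt
    0)) (.wt 0)) (.wt 6)))) (.wt 2)))))) (.split 4 168 (.lin 3) (.split 1 (-83) (.split 3 (-128)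
    (.splitN 69461 .sq (.splitN 74983 (.split 2 33 (.wt 1) (.split 4 177 (.lin 0) (.split 7 (-82)
    .sq (.lin 9)))) (.wt 1))) (.lin 7)) (.lin 4)))) (.split 4 177 (.lin 0) (.split 3 (-137)
    (.split 7 (-145) (.splitN 87443 .sq (.wt 1)) (.lin 9)) (.lin 7)))))) .sq) (.wt 1)))) (.splitN
    45780 (.split 2 238 (.splitN 35794 (.split 0 31 (.split 1 (-21) (.lin 4) (.wt 0)) (.wt 0))
    (.wt 6)) (.div 2)) (.wt 1))))) (.lin 10)) .sq)) (.wt 1)) (.lin 9)))))

def cert5_108_13 : Cert :=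
  (.split 7 (-208) (.split 2 180 (.lin 2) (.split 4 285 (.lin 0) (.splitN 394434782 (.split 2
    2191288 (.split 4 2191894 (.split 0 99 (.wt 2) (.split 4 312 (.lin 3) (.split 5 (-94)
    (.splitN 2793447 (.split 2 15502 (.split 4 16108 (.split 7 (-16004) (.lin 1) (.split 0 111
    (.wt 2) (.split 5 (-103) (.splitN 2241106 (.split 2 12442 (.split 4 13048 (.split 0 392
    (.split 5 (-374) (.lin 4) (.splitN 1887483 (.split 0 359 (.split 5 (-347) (.lin 4) (.split 2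
    1311 (.split 4 1690 (.split 7 (-1334) (.lin 2) (.split 0 116 (.wt 2) (.split 4 330 (.lin 3)
    (.split 5 (-112) (.split 0 299 (.split 5 (-284) (.lin 4) (.splitN 1360364 (.split 2 1084
    (.split 7 (-1109) (.lin 2) (.split 0 278 (.split 5 (-266) (.lin 4) (.split 7 (-455) (.split 2
    432 (.lin 9) (.split 4 582 (.lin 0) (.splitN 769139 .sq (.wt 0)))) (.split 2 577 (.split 2
    424 (.split 4 727 (.split 0 219 (.split 4 664 (.split 5 (-203) (.lin 4) (.split 7 (-330)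
    (.split 2 306 (.lin 9) (.split 4 456 (.lin 0) (.splitN 444815 .sq (.split 0 148 (.wt 0)
    (.split 4 483 (.lin 3) (.split 5 (-139) (.splitN 484424 .sq (.split 0 162 (.wt 0) (.split 0
    179 (.split 5 (-167) (.lin 4) (.wt 1)) (.wt 1)))) (.lin 4))))))) (.split 2 298 (.split 4 538
    (.splitN 374931 (.wt 1) (.split 0 125 (.wt 2) (.split 5 (-121) (.split 0 184 (.split 4 502
    (.split 5 (-167) (.lin 4) (.split 0 176 (.split 5 (-158) (.lin 4) (.split 7 (-267) (.split 0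
    142 (.wt 2) (.splitN 550204 .cand (.wt 1))) (.split 2 235 (.split 4 430 (.splitN 466153 (.wt
    1) (.split 0 159 (.split 5 (-140) (.lin 4) (.split 7 (-235) (.splitN 628359 .cand (.wt 1))
    (.split 2 199 (.split 4 376 (.splitN 520318 (.wt 0) (.split 0 145 (.split 5 (-131) (.lin 4)
    (.splitN 695278 .cand (.wt 1))) (.wt 2))) (.lin 0)) (.lin 9)))) (.wt 2))) (.lin 0)) (.lin
    9)))) (.wt 2))) (.lin 3)) (.wt 2)) (.lin 4)))) (.lin 0)) (.lin 9)))) (.lin 3)) (.wt 2)) (.lin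
    0)) (.lin 9)) (.lin 1)))) (.wt 2))) .sq) (.wt 1))) (.wt 2)) (.lin 4))))) (.lin 0)) .sq)) (.wt
    2)) (.wt 1))) (.wt 2)) (.lin 0)) (.div 2)) (.wt 1)) (.lin 4)))) (.lin 0)) (.div 2)) (.wt 1))
    (.lin 4)))) (.lin 0)) (.div 2)) (.wt 1)))) (.split 2 172 (.split 0 194 (.split 4 385 (.split
    5 (-176) (.lin 4) (.split 0 163 (.split 4 358 (.split 5 (-149) (.lin 4) (.split 0 157 (.split
    5 (-140) (.lin 4) (.split 0 80 (.wt 6) (.split 5 (-76) (.split 7 (-101) (.split 2 81 (.lin 2)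
    (.split 4 195 (.lin 0) (.split 7 (-154) (.split 2 126 (.lin 2) (.split 4 240 (.lin 0) (.split
    0 101 (.wt 2) (.split 4 258 (.lin 3) (.split 5 (-94) (.split 0 107 (.wt 2) (.split 5 (-103)
    (.split 0 142 (.split 4 340 (.split 5 (-131) (.lin 4) (.split 0 140 (.split 5 (-122) (.lin 4)
    (.split 7 (-177) (.split 2 135 (.lin 1) (.split 2 153 (.lin 9) (.split 4 294 (.lin 0)
    (.splitN 618379 (.wt 1) (.split 0 120 (.wt 2) (.split 5 (-112) (.splitN 866161 (.split 7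
    (-190) (.splitN 787458 (.split 0 125 (.wt 2) (.split 5 (-121) .cand (.lin 4))) (.wt 1))
    (.split 2 154 (.split 4 313 (.split 0 132 (.splitN 776522 (.wt 1) (.wt 0)) (.wt 0)) (.lin 0))
    (.lin 9))) (.wt 1)) (.lin 4))))))) (.split 2 145 (.split 4 304 (.split 0 127 (.split 5 (-113)
    (.lin 4) (.split 7 (-163) (.split 2 135 (.lin 2) (.split 4 276 (.lin 0) (.split 0 115 (.wt 2)
    (.split 5 (-112) (.splitN 865009 (.split 4 283 (.lin 0) (.wt 0)) (.wt 6)) (.lin 4)))))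
    (.split 2 127 (.split 4 277 (.splitN 1218241 (.split 0 120 (.split 5 (-104) (.lin 1) (.splitN
    1096552 (.wt 1) (.split 4 268 (.wt 0) (.lin 0)))) (.wt 0)) (.wt 1)) (.lin 0)) (.lin 9))))
    (.wt 2)) (.lin 0)) (.lin 9)))) (.wt 2))) (.lin 3)) (.wt 2)) (.lin 4))) (.lin 4)))))) (.split
    2 118 (.split 4 295 (.split 0 126 (.split 4 268 (.split 5 (-113) (.lin 4) (.split 0 120
    (.split 5 (-104) (.lin 4) (.split 0 88 (.wt 6) (.split 5 (-85) (.split 7 (-110) (.split 2 90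
    (.lin 2) (.split 4 213 (.lin 0) (.split 7 (-132) (.split 2 108 (.lin 2) (.split 4 231 (.lin
    0) (.split 0 101 (.wt 2) (.split 5 (-94) (.split 0 114 (.split 4 250 (.wt 2) (.lin 3)) (.wt
    2)) (.lin 4))))) (.split 2 100 (.split 0 107 (.split 5 (-95) (.lin 4) (.split 0 104 (.split 4
    223 (.wt 2) (.lin 3)) (.wt 2))) (.wt 2)) (.lin 2))))) (.wt 0)) (.lin 4)))) (.wt 2))) (.lin
    3)) (.wt 2)) (.lin 0)) (.lin 2))))) (.wt 0)) (.lin 4)))) (.wt 2))) (.lin 3)) (.wt 2))) (.lin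
    3)) (.wt 2)) (.lin 9)))

def cert5_108_14 : Cert :=
  (.split 3 (-102) (.lin 11) (.split 6 87 (.split 3 (-93) (.lin 11) (.split 2 10 (.split 7 (-92)
    (.lin 2) (.split 6 52 (.lin 9) (.splitN 1550027 (.splitN 118274 (.wt 4) (.split 2 1 (.wt 1)
    (.split 0 55 (.split 5 (-41) (.lin 4) (.wt 2)) (.wt 0)))) (.wt 1)))) (.split 6 45 (.split 3
    (-57) (.lin 11) (.split 0 76 (.split 5 (-59) (.lin 4) (.split 6 35 (.split 3 (-48) (.lin 11)
    (.split 7 (-136) (.split 2 63 (.lin 1) (.split 2 99 (.lin 9) (.split 4 159 (.lin 0) (.split 4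
    168 (.lin 8) (.split 6 30 (.split 0 51 (.wt 2) (.split 5 (-40) (.wt 2) (.lin 4))) (.split 3
    (-47) (.splitN 750384 (.split 2 4162 (.split 4 4264 (.split 0 57 (.split 5 (-41) (.lin 4)
    (.splitN 489521 (.split 2 2704 (.split 4 2788 (.split 7 (-2756) (.lin 1) (.split 0 51 (.split
    5 (-32) (.lin 4) (.splitN 370830 (.split 2 563 (.split 4 637 (.split 7 (-269) (.split 2 225
    (.lin 1) (.split 4 294 (.lin 0) (.splitN 216737 .sq (.wt 3)))) (.split 2 235 (.split 4 313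
    (.split 0 42 (.split 5 (-23) (.lin 4) (.splitN 207476 (.wt 6) (.split 7 (-157) (.wt 0)
    (.split 2 118 (.split 4 187 (.wt 2) (.lin 0)) (.lin 1))))) (.wt 2)) (.lin 0)) (.lin 1)))
    (.lin 0)) .sq) (.wt 1))) (.wt 2))) (.lin 0)) (.div 2)) (.wt 1))) (.wt 2)) (.lin 0)) (.div 2))
    (.wt 1)) (.lin 11))))))) (.split 2 136 (.split 2 100 (.split 4 205 (.split 6 30 (.split 2 36
    (.lin 9) (.split 3 (-39) (.lin 11) (.split 0 42 (.wt 2) (.split 5 (-31) (.split 7 (-72)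
    (.split 2 45 (.lin 2) (.split 4 114 (.lin 0) (.split 7 (-74) (.split 0 55 (.wt 2) (.split 5
    (-49) (.wt 6) (.lin 4))) (.wt 1)))) (.wt 1)) (.lin 4))))) (.split 2 91 (.split 3 (-47)
    (.split 0 47 (.split 5 (-32) (.lin 4) (.split 0 40 (.split 4 160 (.split 5 (-23) (.lin 4)
    (.splitN 342101 (.split 7 (-85) (.split 2 54 (.lin 1) (.split 4 123 (.lin 0) (.splitN 276553
    (.split 7 (-103) (.split 2 72 (.lin 1) (.split 4 141 (.lin 0) (.splitN 262404 (.split 7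
    (-111) (.split 2 81 (.lin 1) (.split 4 150 (.lin 0) (.splitN 242751 (.splitN 225030 (.wt 1)
    (.split 7 (-126) (.wt 0) (.wt 0))) (.wt 1)))) (.wt 0)) (.wt 1)))) (.wt 0)) (.wt 6)))) (.wt
    0)) (.wt 6))) (.lin 3)) (.wt 2))) (.wt 2)) (.lin 11)) (.lin 9))) (.lin 0)) (.lin 9)) (.lin
    1)))) (.split 3 (-56) (.split 7 (-67) (.split 2 27 (.lin 2) (.split 4 105 (.lin 0) (.split 0
    44 (.split 5 (-32) (.lin 4) (.splitN 646089 (.split 2 3586 (.split 7 (-3638) (.lin 1)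
    (.splitN 218826 (.split 2 1210 (.split 7 (-1262) (.lin 1) (.split 7 (-129) (.split 2 81 (.lin
    1) (.split 2 90 (.lin 9) (.split 4 168 (.lin 0) (.splitN 170174 (.split 7 (-227) (.split 2
    180 (.lin 1) (.split 4 258 (.lin 0) (.splitN 161900 .sq (.wt 6)))) (.wt 0)) (.wt 6))))) (.wt
    0))) (.div 2)) (.wt 6))) (.div 2)) (.wt 1))) (.wt 2)))) (.wt 0)) (.lin 11)))) (.split 5 (-67)
    (.split 4 141 (.lin 8) (.split 6 37 (.split 2 27 (.lin 9) (.split 3 (-48) (.lin 11) (.split 7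
    (-70) (.split 2 36 (.lin 2) (.split 6 34 (.split 2 45 (.lin 9) (.split 3 (-39) (.lin 11)
    (.split 7 (-88) (.split 2 63 (.lin 2) (.split 4 168 (.lin 0) (.split 0 829 (.split 5 (-815)
    (.lin 4) (.split 7 (-92) (.split 2 72 (.lin 2) (.split 4 177 (.lin 0) (.split 0 626 (.split 5
    (-608) (.lin 4) (.split 0 589 (.split 5 (-572) (.lin 4) cert5_108_13) (.wt 2))) (.wt 2))))
    (.wt 0))) (.wt 2)))) (.wt 0)))) (.wt 2))) (.wt 0)))) (.wt 2))) (.lin 4)))) (.split 4 105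
    (.lin 0) (.split 7 (-73) (.split 0 55 (.split 5 (-41) (.lin 4) (.splitN 669115 (.split 2 3712
    (.split 7 (-3809) (.lin 1) (.splitN 538105 (.split 2 2974 (.split 4 3103 (.split 7 (-77)
    (.splitN 455943 (.split 2 2524 (.split 4 2653 (.split 0 40 (.split 5 (-23) (.lin 4) (.splitN
    249804 (.split 2 1372 (.split 7 (-1451) (.lin 1) (.wt 2)) (.div 2)) (.wt 1))) (.wt 2)) (.lin
    0)) (.div 2)) (.wt 1)) (.wt 0)) (.lin 0)) (.div 2)) (.wt 6))) (.div 2)) (.wt 1))) (.wt 2))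
    (.lin 9)))))) (.wt 2)))

def cert5_108_15 : Cert :=
  (.split 1 (-5) (.split 4 42 (.lin 0) (.split 0 15 (.lin 4) (.split 3 (-38) (.split 5 (-16)
    (.split 4 60 (.lin 0) (.split 0 33 (.lin 4) (.split 6 219 (.split 3 (-228) (.lin 11) (.split
    6 140 (.split 3 (-147) (.lin 11) (.split 6 116 (.split 3 (-129) (.lin 11) (.split 7 (-64)
    (.split 4 96 (.lin 8) (.split 6 90 cert5_108_14 (.wt 2))) (.split 2 28 (.split 3 (-66) (.lin
    2) (.split 6 47 (.split 3 (-57) (.lin 11) (.split 0 502 (.split 5 (-491) (.lin 4) (.split 0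
    402 (.split 5 (-410) (.lin 1) (.split 6 43 (.split 3 (-48) (.lin 11) (.split 0 165 (.split 5
    (-176) (.lin 1) (.split 0 106 (.split 5 (-95) (.lin 4) (.split 0 101 (.split 5 (-86) (.lin 4)
    (.split 2 5 (.split 7 (-38) (.lin 2) (.splitN 109012 (.split 0 53 (.split 5 (-41) (.lin 4)
    (.wt 2)) (.wt 0)) (.wt 6))) (.split 4 69 (.lin 0) (.split 0 69 (.split 7 (-39) (.split 4 78
    (.lin 8) (.split 0 56 (.split 5 (-41) (.lin 4) (.split 6 34 (.split 2 18 (.lin 9) (.wt 1))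
    (.wt 2))) (.wt 3))) (.wt 0)) (.wt 0))))) (.wt 4))) (.wt 4))) (.wt 2))) (.wt 2))) (.wt 2)))
    (.wt 2))) (.wt 2))) (.lin 2)))) (.wt 2))) (.wt 2))) (.wt 2)))) (.split 0 25 (.split 6 60
    (.split 3 (-75) (.lin 7) (.split 3 (-66) (.lin 11) (.split 7 (-64) (.split 2 9 (.lin 2)
    (.split 4 78 (.lin 8) (.split 5 (-8) (.split 0 24 (.lin 4) (.split 4 87 (.lin 8) (.split 6 27
    (.wt 2) (.split 3 (-47) (.splitN 883607 (.split 2 4900 (.split 4 4975 (.split 6 52 (.split 3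
    (-57) (.lin 7) (.splitN 701027 (.split 2 827 (.split 4 889 (.splitN 653461 (.split 4 801
    (.split 7 (-225) (.split 2 180 (.lin 1) (.split 4 240 (.lin 0) (.splitN 146267 .sq (.wt 3))))
    (.split 7 (-118) (.split 2 72 (.lin 1) (.split 4 132 (.lin 0) (.split 6 35 (.wt 2) (.wt 2))))
    (.split 2 73 (.split 4 133 (.split 6 41 (.split 2 27 (.lin 0) (.split 3 (-48) (.lin 7)
    (.splitN 179465 (.wt 6) (.split 7 (-91) (.wt 0) (.split 2 46 (.split 4 106 (.splitN 196733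
    (.wt 1) (.split 7 (-81) (.wt 0) (.split 2 37 (.split 4 97 (.split 7 (-67) (.split 2 36 (.lin
    1) (.split 4 96 (.lin 0) (.splitN 230588 (.wt 0) (.wt 0)))) (.wt 2)) (.lin 0)) (.lin 1))))
    (.lin 0)) (.lin 1)))))) (.wt 2)) (.lin 8)) (.lin 1)))) .sq) (.wt 1)) (.lin 0)) .sq) (.wt 1)))
    (.wt 2)) (.lin 0)) (.div 2)) (.wt 1)) (.lin 7))))) (.split 0 16 (.splitN 95918 (.split 2 526
    (.split 4 592 (.split 6 32 (.split 2 36 (.lin 0) (.split 3 (-39) (.lin 7) (.splitN 84591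
    (.split 2 454 (.split 7 (-479) (.lin 1) (.splitN 61544 (.split 7 (-159) (.split 2 135 (.lin
    1) (.split 4 177 (.lin 0) .sq)) (.wt 0)) (.wt 6))) (.div 2)) (.wt 1)))) (.wt 2)) (.lin 0))
    (.div 2)) (.wt 1)) (.lin 4))))) (.split 2 28 (.split 4 106 (.split 5 (-8) (.split 0 24 (.lin
    4) (.split 6 39 (.split 3 (-48) (.lin 7) (.split 2 5 (.split 7 (-38) (.lin 1) (.wt 2))
    (.split 4 60 (.lin 0) (.split 7 (-37) (.split 6 26 (.wt 2) (.wt 2)) (.lin 1))))) (.wt 2)))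
    (.split 0 16 (.split 2 1 (.wt 2) (.split 4 51 (.lin 0) (.split 3 (-57) (.lin 1) (.splitN
    97108 (.split 6 31 (.split 3 (-39) (.lin 7) (.wt 0)) (.wt 0)) (.wt 6))))) (.lin 4))) (.lin
    0)) (.lin 9))))) (.split 4 78 (.lin 0) (.split 3 (-65) (.split 7 (-46) (.split 7 (-64)
    (.splitN 743728 (.split 2 850 (.split 3 (-854) .sq (.split 4 1708 (.splitN 644254 (.split 3
    (-793) .sq (.split 4 792 (.split 7 (-776) (.lin 8) (.split 2 26 (.splitN 362726 (.split 4 588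
    (.split 7 (-569) (.lin 8) (.split 5 (-8) (.split 4 87 (.lin 0) (.split 0 24 (.lin 4) (.split
    3 (-119) (.split 6 106 (.lin 7) (.wt 2)) (.wt 2)))) (.wt 2))) .sq) (.wt 1)) (.split 4 105
    (.lin 0) (.split 5 (-5) (.split 0 24 (.lin 4) (.split 3 (-117) (.split 6 106 (.lin 7) (.wt
    2)) (.wt 2))) (.wt 2))))) .sq)) (.wt 1)) (.lin 5))) .sq) (.wt 1)) (.lin 9)) (.lin 1)) (.lin
    7)))) (.lin 4))) (.lin 11)))) (.wt 0))

def cert5_108_16 : Cert :=
  (.split 1 (-12) (.split 4 33 (.lin 0) (.split 0 24 (.lin 4) (.split 3 (-29) (.split 6 8 (.wt 6)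
    (.split 4 42 (.lin 0) (.split 7 (-19) (.split 3 (-38) (.split 6 42 (.split 7 (-46) (.split 4
    51 (.lin 6) (.split 2 9 (.lin 9) (.split 4 69 (.lin 8) (.split 5 (-16) (.split 0 42 (.lin 4)
    (.split 4 87 (.lin 8) (.split 6 19 (.wt 2) (.split 3 (-47) cert5_108_1 (.lin 11)))))
    cert5_108_2)))) (.split 2 19 (.splitN 20368 (.wt 1) (.split 5 (-16) (.split 4 60 (.lin 0)
    (.split 0 42 (.lin 4) (.splitN 32838 (.wt 1) (.split 6 26 (.split 2 4 (.split 7 (-29) (.lin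
    9) (.split 6 21 (.split 7 (-20) (.lin 9) (.split 0 67 (.wt 2) (.split 4 87 (.lin 3) (.split 1
    (-37) (.split 3 (-56) (.wt 2) (.lin 2)) (.split 5 (-40) (.split 3 (-48) (.lin 2) (.split 0
    102 (.wt 2) (.split 5 (-76) (.split 4 114 (.lin 0) (.split 0 145 (.wt 2) (.split 5 (-121)
    (.split 0 175 (.wt 2) (.split 5 (-148) (.split 4 186 (.lin 0) (.splitN 939908 (.wt 1) (.split
    1 (-21) (.split 3 (-47) (.wt 0) (.lin 2)) (.wt 1)))) (.lin 1))) (.lin 1)))) (.lin 1)))) (.lin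
    0)))))) (.split 4 69 (.lin 0) (.split 7 (-28) (.split 3 (-47) (.splitN 127917 cert5_108_3
    (.wt 1)) (.lin 2)) (.lin 9))))) (.split 7 (-28) (.split 6 17 (.wt 2) (.split 2 10 (.split 7
    (-37) (.split 3 (-47) (.split 0 64 (.wt 2) (.split 4 105 (.lin 3) (.split 3 (-148) (.wt 6)
    (.split 1 (-120) (.lin 2) (.split 1 (-49) (.split 3 (-83) (.splitN 214863 (.split 5 (-1193)
    (.div 5) (.split 4 1348 (.split 0 1312 (.splitN 194881 (.wt 1) (.wt 0)) (.lin 1)) (.lin 0)))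
    (.wt 0)) (.lin 2)) (.split 3 (-75) (.lin 2) (.split 0 148 (.split 5 (-122) (.lin 1) (.split 4
    205 (.splitN 303012 (.wt 1) (.split 1 (-39) (.wt 0) (.split 5 (-31) (.splitN 590978 (.wt 1)
    (.split 1 (-30) (.wt 0) (.split 5 (-40) (.split 3 (-57) (.lin 2) (.splitN 3013352 (.wt 1)
    (.split 0 73 (.wt 0) (.split 5 (-49) (.wt 1) (.lin 1))))) (.lin 0)))) (.lin 0)))) (.lin 0)))
    (.split 5 (-103) (.split 4 186 (.lin 3) (.splitN 1773329 (.wt 1) (.split 1 (-41) (.wt 0)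
    (.split 5 (-112) (.splitN 19704604 (.wt 1) (.split 1 (-38) (.wt 0) (.split 5 (-121) (.wt 1)
    (.lin 0)))) (.lin 0))))) (.lin 1))))))))) (.lin 2)) (.lin 9)) (.lin 9))) (.lin 9))) (.split 2
    1 (.split 7 (-37) (.splitN 65578 .cand (.wt 1)) (.lin 9)) (.lin 9)))))) (.split 6 26
    cert5_108_4 (.split 4 60 (.lin 0) (.split 2 1 (.split 7 (-37) (.split 3 (-56) (.splitN 49845
    (.split 1 (-549) (.div 1) (.split 4 592 (.split 3 (-588) (.lin 6) (.splitN 26796 (.wt 3)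
    (.split 0 84 (.split 3 (-111) (.lin 1) (.split 1 (-75) (.lin 2) (.split 4 124 (.split 4 115
    (.splitN 45806 (.split 5 (-5) (.split 1 (-66) (.lin 0) (.split 0 33 (.lin 1) (.split 3 (-102)
    (.lin 6) (.split 4 69 (.lin 0) (.split 0 67 (.split 3 (-84) (.lin 1) (.split 1 (-48) (.lin 2)
    (.splitN 37427 (.wt 0) (.wt 6)))) (.wt 0)))))) (.wt 1)) (.wt 1)) (.lin 3)) (.lin 0)))) (.wt
    2)))) (.lin 0))) (.wt 1)) (.lin 2)) (.lin 9)) (.lin 9)))))) (.lin 9))) (.split 4 69 (.lin 0)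
    (.split 7 (-46) (.split 3 (-65) (.split 5 (-16) (.split 4 87 (.lin 0) (.split 0 42 (.lin 4)
    (.split 2 10 cert5_108_6 (.split 4 105 (.lin 0) (.split 7 (-64) (.splitN 5981801 (.split 2
    33232 (.split 4 66464 (.split 3 (-66423) (.lin 10) cert5_108_11) (.div 4)) (.div 2)) (.wt 1))
    (.lin 9)))))) (.splitN 415110 (.split 3 (-11451) (.div 3) (.split 4 4580 (.split 3 (-4575)
    (.lin 10) (.split 2 630 (.split 3 (-635) .sq (.split 4 1267 (.splitN 371964 (.split 3 (-601)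
    .sq (.split 4 600 cert5_108_12 .sq)) (.wt 1)) (.lin 10))) .sq)) (.div 4))) (.wt 1))) (.lin
    11)) (.lin 9)))) (.lin 11)) (.lin 9)))) (.lin 11)))) (.split 6 24 (.split 3 (-30) (.lin 11)
    (.split 1 (-5) (.split 4 24 (.lin 0) (.split 0 15 (.lin 4) (.split 3 (-20) (.split 7 (-11)
    (.split 6 12 (.wt 2) (.split 3 (-29) (.split 7 (-46) (.split 2 27 (.lin 2) (.split 4 60 (.lin
    0) (.split 5 (-129) (.wt 1) (.split 0 133 (.split 5 (-59) (.wt 1) (.split 0 70 (.split 0 18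
    (.wt 2) (.split 5 (-13) (.wt 2) (.lin 4))) (.lin 4))) (.lin 4))))) (.split 2 19 (.split 5
    (-16) (.split 4 51 (.lin 0) (.split 0 33 (.lin 4) (.split 2 2 (.split 7 (-20) (.lin 2) (.wt
    0)) (.wt 1)))) (.split 4 61 (.split 0 25 (.split 5 (-12) (.wt 2) (.split 4 52 (.split 0 16
    (.split 7 (-36) (.wt 2) (.split 2 10 (.split 4 43 (.split 7 (-21) (.split 2 9 (.lin 1)
    (.split 4 42 (.lin 0) (.splitN 205966 (.wt 0) (.wt 0)))) (.wt 4)) (.lin 0)) (.lin 1))) (.lin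
    4)) (.lin 0))) (.lin 4)) (.lin 0))) (.lin 2))) (.lin 11))) (.wt 3)) (.lin 11)))) (.wt 3)))
    (.split 4 33 (.lin 0) (.split 3 (-29) cert5_108_15 (.lin 11)))))

def cert5_108 : Cert :=
  cert5_108_16

theorem check5_108 :
    check task5 cert5_108
      [(7, ⟨some (7), none⟩), (7, ⟨none, some (-2)⟩), (1, ⟨some (1), none⟩), (7, ⟨none, some (-11)⟩), (7, ⟨some (16), none⟩), (5, ⟨none, some (-4)⟩), (8, ⟨some (8), none⟩), (8, ⟨none, some (-10)⟩)] ⟨some (13680), none⟩ = true := by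
  decide +kernel

def cert5_109 : Cert :=
  (.wt 1)

theorem check5_109 :
    check task5 cert5_109
      [(7, ⟨some (7), none⟩), (7, ⟨none, some (-11)⟩), (1, ⟨none, none⟩), (7, ⟨none, some (-20)⟩), (7, ⟨some (16), none⟩), (5, ⟨some (5), none⟩), (8, ⟨some (8), none⟩), (8, ⟨none, some (-10)⟩)] ⟨some (3960), some (16920)⟩ = true := by
  decide +kernel

def cert5_110 : Cert :=
  (.wt 2)

theorem check5_110 :
    check task5 cert5_110
      [(7, ⟨some (7), none⟩), (7, ⟨none, some (-11)⟩), (1, ⟨none, none⟩), (7, ⟨none, some (-20)⟩), (7, ⟨some (16), none⟩), (5, ⟨some (5), none⟩), (8, ⟨some (8), some (8)⟩), (8, ⟨none, some (-10)⟩)] ⟨some (20160), none⟩ = true := by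
  decide +kernel

def cert5_111 : Cert :=
  (.lin 12)

theorem check5_111 :
    check task5 cert5_111
      [(7, ⟨some (7), none⟩), (7, ⟨none, some (-11)⟩), (1, ⟨none, some (-8)⟩), (7, ⟨none, some (-29)⟩), (7, ⟨some (16), some (16)⟩), (5, ⟨some (5), none⟩), (8, ⟨some (17), none⟩), (8, ⟨none, some (-19)⟩)] ⟨some (20160), none⟩ = true := by
  decide +kernel

def cert5_112 : Cert :=
  (.wt 2)

theorem check5_112 :
    check task5 cert5_112
      [(7, ⟨some (7), some (7)⟩), (7, ⟨none, some (-11)⟩), (1, ⟨none, some (-8)⟩), (7, ⟨none, some (-29)⟩), (7, ⟨some (25), none⟩), (5, ⟨some (5), none⟩), (8, ⟨some (17), none⟩), (8, ⟨none, some (-19)⟩)] ⟨some (20160), none⟩ = true := by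
  decide +kernel

def cert5_113 : Cert :=
  (.lin 12)

theorem check5_113 :
    check task5 cert5_113
      [(7, ⟨some (16), none⟩), (7, ⟨none, some (-20)⟩), (1, ⟨none, some (-8)⟩), (7, ⟨none, some (-29)⟩), (7, ⟨some (25), some (25)⟩), (5, ⟨some (5), none⟩), (8, ⟨some (17), none⟩), (8, ⟨none, some (-19)⟩)] ⟨some (20160), none⟩ = true := by
  decide +kernel

def cert5_114_0 : Cert :=
  (.split 4 10537 (.splitN 56558603 (.split 2 (-314213) (.div 2) (.split 6 324692 (.split 3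
    (-335199) (.lin 6) (.split 0 7514 (.split 1 (-7527) (.lin 4) (.split 4 7603 (.splitN 47497382
    (.split 0 6885 (.split 1 (-6897) (.lin 4) (.split 4 6973 (.split 2 (-6886) .sq (.split 3
    (-13872) (.lin 1) (.splitN 33649851 (.split 0 5793 (.split 3 (-12774) (.lin 1) (.split 1
    (-5799) (.lin 4) (.split 4 5875 (.splitN 30524899 (.split 3 (-5521) .sq (.split 4 5443
    (.splitN 22083739 (.split 0 4689 (.split 1 (-4701) (.lin 4) (.split 4 4777 (.split 3 (-4695)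
    .sq (.splitN 19577039 (.split 3 (-4420) .sq (.split 0 478 (.split 1 (-489) (.lin 4) (.split 4
    565 (.splitN 5257911 (.split 2 (-2274) .sq (.split 3 (-2847) (.lin 1) (.split 6 2357 (.splitN
    4903783 (.split 3 (-2204) .sq (.split 6 2177 (.split 0 157 (.split 1 (-165) (.lin 4) (.split
    4 241 (.split 0 53 (.wt 2) (.split 1 (-74) (.split 3 (-227) (.splitN 657467 (.split 2 (-747)
    .sq (.split 6 926 (.split 6 836 (.split 0 61 (.wt 2) (.split 1 (-83) (.split 4 114 (.lin 8)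
    (.split 6 154 (.wt 2) (.split 3 (-245) (.split 2 (-71) (.splitN 118313 .sq (.split 7 (-89)
    (.wt 0) (.split 2 (-80) (.splitN 495368 (.split 3 (-659) .sq (.split 6 602 (.split 6 566
    (.split 7 (-64) (.split 4 132 (.lin 8) (.splitN 126116 .sq (.split 0 74 (.wt 0) (.split 1
    (-92) (.split 7 (-79) (.wt 0) (.split 4 223 (.split 2 (-89) (.splitN 159121 (.split 0 80 (.wt
    0) (.split 1 (-101) (.split 3 (-263) (.split 4 150 (.lin 8) (.splitN 148049 .sq (.split 0 119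
    (.wt 0) (.split 3 (-290) (.split 1 (-137) (.split 4 186 (.lin 8) .sq) (.lin 4)) (.lin 1)))))
    (.lin 7)) (.lin 4))) (.wt 3)) (.lin 9)) (.lin 8))) (.lin 4))))) (.split 4 205 (.split 2
    (-107) (.split 0 70 (.wt 2) (.split 1 (-92) (.split 4 123 (.lin 8) (.splitN 399183 (.split 6
    169 (.wt 2) (.split 3 (-263) (.split 6 173 (.wt 2) (.split 2 (-125) (.split 3 (-563) .sq
    (.split 6 327 (.split 0 89 (.wt 2) (.split 3 (-281) (.split 1 (-110) (.split 4 141 (.lin 8)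
    (.split 6 190 (.wt 2) (.split 3 (-299) (.split 2 (-143) (.splitN 192644 .sq (.split 7 (-55)
    (.wt 0) (.split 2 (-152) (.split 0 98 (.wt 2) (.split 3 (-317) (.split 1 (-119) (.split 4 150
    (.lin 8) (.splitN 297224 (.split 3 (-428) .sq (.split 6 305 (.split 0 106 (.wt 2) (.split 1
    (-128) (.split 4 159 (.lin 8) (.split 6 209 (.wt 2) (.split 3 (-344) (.split 2 (-170)
    (.splitN 250982 .sq (.splitN 281224 (.split 2 (-240) .sq (.split 6 278 (.split 0 117 (.wt 0)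
    (.split 1 (-137) (.split 4 168 (.lin 8) (.split 2 (-224) .sq (.split 6 260 (.split 0 127 (.wt
    0) (.split 1 (-146) (.split 4 177 (.lin 8) (.splitN 266462 .sq (.wt 3))) (.lin 4))) (.lin
    9)))) (.lin 4))) (.lin 9))) (.wt 3))) (.lin 9)) (.lin 6)))) (.lin 4))) (.lin 6))) (.wt 3)))
    (.lin 4)) (.lin 1))) (.lin 9)))) (.lin 9)) (.lin 6)))) (.lin 4)) (.lin 1))) (.split 2 (-206)
    (.split 3 (-416) (.split 2 (-278) (.splitN 392957 .sq (.wt 1)) (.lin 9)) (.lin 6)) (.lin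
    0)))) (.lin 9))) (.lin 7))) (.wt 3))) (.lin 4))) (.lin 9)) (.lin 8))) (.lin 7)) (.lin 6)))
    (.wt 3)) (.lin 9)))) (.lin 9)) (.lin 7)))) (.lin 4))) (.lin 9)) (.lin 0))) (.wt 3)) (.lin 7))
    (.lin 4))) (.lin 8))) (.split 3 (-281) (.split 1 (-173) (.split 3 (-326) (.split 6 2024
    (.split 4 204 (.lin 8) (.splitN 233090 .sq (.splitN 401100 (.split 7 (-65) (.wt 0) (.split 2
    (-89) (.split 7 (-64) (.wt 0) (.split 4 529 (.split 2 (-98) (.split 6 517 (.split 7 (-54)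
    (.wt 3) .cand) (.wt 1)) (.lin 9)) (.lin 8))) (.lin 9))) (.wt 1)))) (.lin 7)) (.lin 7)) (.lin
    4)) (.lin 1))) (.lin 6))) (.wt 1)) (.lin 9)))) (.wt 1)) (.lin 8))) (.split 1 (-497) (.split 3
    (-650) (.split 4 528 (.lin 8) (.splitN 1212866 .sq (.wt 1))) (.lin 7)) (.lin 4)))) (.wt 1)))
    (.lin 8))) .sq) (.wt 1)) (.lin 6))) (.wt 1)) (.lin 8)))) .sq) (.wt 1)))) (.lin 8))) .sq) (.wt
    1)) (.lin 8))) .sq)) (.lin 0))) (.wt 1)) (.lin 8))

def cert5_114_1 : Cert :=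
  (.split 7 (-100) (.split 3 (-155) (.split 6 106 (.lin 9) (.splitN 183023 (.split 1 (-2025)
    (.div 1) (.split 5 1994 (.split 2 (-1013) (.div 2) (.split 3 (-5061) (.div 3) (.split 4 5056
    (.split 6 6038 (.split 4 2024 (.split 6 3005 (.split 5 1012 (.splitN 172984 (.split 2 (-959)
    (.div 2) (.split 4 1916 (.split 6 2843 (.splitN 136140 (.split 2 (-743) (.div 2) (.split 4
    1484 (.split 6 2195 (.split 5 742 (.split 0 30 (.wt 2) (.split 3 (-164) (.split 1 (-56)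
    (.split 4 132 (.lin 12) (.splitN 70919 .sq (.splitN 123867 (.split 2 (-689) (.div 2) (.split
    4 1376 (.split 6 2024 (.split 5 688 (.split 7 (-1042) (.wt 0) (.split 6 1718 (.split 4 1087
    (.split 7 (-928) (.wt 0) (.split 6 1601 (.split 4 970 (.split 6 142 (.wt 2) (.split 3 (-200)
    (.splitN 93023 .sq (.splitN 119592 (.split 5 652 (.split 0 35 (.wt 0) (.split 1 (-65) (.split
    1 (-186) (.wt 0) (.split 5 140 (.split 1 (-165) (.wt 0) (.split 5 122 (.split 6 192 (.wt 0)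
    (.split 3 (-263) .sq (.lin 7))) (.lin 4))) (.lin 4))) (.lin 4))) (.div 5)) (.wt 3))) (.lin
    7))) (.lin 12)) (.lin 9))) (.lin 12)) (.lin 9))) (.div 5)) (.lin 3)) (.div 4))) (.wt 3))))
    (.lin 4)) (.lin 1))) (.div 5)) (.lin 3)) (.div 4))) (.wt 3)) (.lin 3)) (.div 4))) (.wt 0))
    (.div 5)) (.lin 3)) (.div 4)) (.lin 3)) (.lin 5)))) (.lin 4))) (.wt 0))) (.lin 1)) (.split 4
    142 (.splitN 1505679 (.split 2 (-8357) (.div 2) (.split 6 8468 (.split 6 78 (.wt 2) (.split 3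
    (-128) (.splitN 1268101 (.split 2 (-7043) (.div 2) (.split 6 7154 (.split 6 80 (.wt 2)
    (.split 3 (-137) (.splitN 1130066 (.split 1 (-1046) .sq (.split 5 1013 (.split 2 (-1045) .sq
    (.split 6 2150 (.split 6 1160 (.split 0 25 (.wt 2) (.split 1 (-56) (.split 3 (-146) (.split 4
    78 (.lin 12) (.splitN 590904 (.split 6 90 (.wt 2) (.split 3 (-155) (.split 1 (-740) .sq
    (.split 5 698 (.split 2 (-738) .sq (.split 6 845 (.splitN 552122 (.split 3 (-728) .sq (.split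
    2 (-621) (.lin 1) (.split 6 728 (.split 6 665 (.split 7 (-69) (.split 4 105 (.lin 12) (.split
    6 133 (.wt 2) (.split 3 (-173) (.split 2 (-44) (.split 3 (-191) (.split 0 34 (.wt 2) (.split
    4 114 (.lin 12) (.split 5 27 (.wt 2) (.split 1 (-74) (.split 3 (-209) (.splitN 90476 .sq
    (.split 1 (-147) (.wt 0) (.split 5 104 (.split 1 (-129) (.wt 0) (.split 5 86 (.split 0 43
    (.wt 0) (.split 1 (-83) (.split 4 123 (.lin 12) (.splitN 94895 .sq (.wt 3))) (.lin 4))) (.lin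
    4))) (.lin 4)))) (.lin 7)) (.lin 4))))) (.lin 7)) (.lin 9)) (.lin 6)))) (.split 2 (-35)
    (.split 4 115 (.splitN 255845 (.split 1 (-457) .sq (.split 5 419 (.split 3 (-479) .sq (.split
    5 356 (.split 6 413 (.split 6 98 (.wt 2) (.split 3 (-164) (.split 2 (-44) (.split 6 210
    (.split 0 35 (.wt 2) (.split 1 (-65) (.split 3 (-173) (.split 4 87 (.lin 12) (.split 5 28
    (.wt 2) (.split 1 (-74) (.split 6 112 (.wt 2) (.split 3 (-191) (.split 2 (-53) (.split 5 33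
    (.wt 2) (.split 1 (-83) (.splitN 161462 (.split 6 120 (.wt 2) (.split 3 (-209) (.split 2
    (-62) (.split 1 (-288) .sq (.split 5 239 (.split 6 126 (.wt 2) (.split 2 (-71) (.split 3
    (-341) .sq (.split 5 176 (.split 1 (-201) (.lin 11) (.split 5 158 (.split 7 (-55) (.split 0
    45 (.wt 2) (.split 1 (-92) (.split 5 149 (.split 3 (-227) (.split 4 105 (.lin 12) (.splitN
    101636 .sq (.split 1 (-119) (.wt 0) (.split 5 59 (.wt 2) (.lin 4))))) (.lin 7)) (.lin 4))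
    (.lin 4))) (.split 2 (-89) (.split 4 97 (.split 5 42 (.wt 2) (.split 3 (-227) (.split 0 43
    (.wt 2) (.split 5 149 (.split 1 (-101) (.split 4 96 (.lin 12) (.split 5 52 (.wt 2) (.split 3
    (-245) (.split 1 (-110) (.splitN 115712 .sq (.split 5 60 (.wt 2) (.split 1 (-119) (.split 6
    139 (.wt 0) (.split 2 (-98) (.split 3 (-263) (.splitN 132236 .sq (.wt 0)) (.lin 6)) (.lin
    3))) (.lin 4)))) (.lin 8)) (.lin 1)))) (.lin 4)) (.lin 1))) (.lin 1))) (.lin 12)) (.lin 9)))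
    (.lin 4))) (.lin 1))) (.lin 9))) (.lin 4))) (.lin 9)) (.lin 7))) (.wt 3)) (.lin 4))) (.lin
    9)) (.lin 7))) (.lin 4)))) (.lin 7)) (.lin 4))) (.split 2 (-134) (.split 3 (-254) (.split 2
    (-152) (.split 1 (-255) (.lin 11) (.split 5 221 (.split 3 (-272) (.splitN 156491 .sq (.split
    0 37 (.wt 0) (.split 1 (-65) (.split 1 (-140) (.wt 0) (.split 5 95 (.split 1 (-127) (.wt 0)
    (.split 5 77 (.split 7 (-52) (.wt 0) (.split 2 (-170) (.split 4 97 (.splitN 175454 (.split 1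
    (-102) (.wt 0) (.split 5 59 (.split 0 43 (.wt 0) (.split 3 (-290) (.split 4 96 (.lin 12) .sq)
    (.lin 1))) (.lin 4))) (.wt 3)) (.lin 12)) (.lin 9))) (.lin 4))) (.lin 4))) (.lin 4)))) (.lin
    7)) (.lin 4))) (.lin 9)) (.lin 6)) (.lin 3))) (.lin 9)) (.lin 7))) (.lin 7)) (.lin 1))) (.lin
    4))) (.wt 3)) (.lin 12)) (.lin 9))) (.lin 7)) (.lin 3)))) (.wt 3)) (.lin 3))) (.lin 4)))
    (.lin 7))) (.wt 3))) (.lin 7)) (.lin 4))) (.lin 3)) (.lin 0))) (.lin 4))) (.wt 3)) (.lin 7)))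
    (.lin 3))) (.wt 3)) (.lin 7))) (.lin 3))) (.wt 3)) (.lin 12)))

def cert5_114_2 : Cert :=
  (.split 0 130 (.split 4 196 (.split 0 63 (.wt 2) (.split 3 (-146) (.split 1 (-92) (.split 5 34
    (.wt 2) (.split 3 (-164) (.split 1 (-110) (.split 0 73 (.wt 2) (.split 3 (-173) (.split 1
    (-119) (.splitN 291482 (.split 5 1606 (.split 3 (-956) (.wt 2) (.split 5 815 (.split 3 (-840)
    (.wt 2) (.split 5 707 (.split 5 48 (.wt 2) (.split 1 (-128) (.split 0 79 (.wt 2) (.split 3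
    (-191) (.split 1 (-137) (.split 3 (-630) (.wt 2) (.split 5 482 (.split 3 (-573) (.wt 2)
    (.split 5 428 (.split 5 59 (.wt 2) (.split 3 (-209) (.split 1 (-155) (.split 0 91 (.wt 2)
    (.split 1 (-164) (.split 4 141 (.lin 12) (.split 3 (-456) (.wt 2) (.split 5 302 (.split 3
    (-412) (.wt 2) (.split 5 257 (.split 5 75 (.wt 2) (.split 3 (-227) (.split 1 (-173) (.splitN
    121949 .sq (.split 7 (-60) (.wt 0) (.split 4 178 (.split 0 102 (.wt 2) (.split 3 (-353) (.wt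
    2) (.split 5 185 (.split 0 106 (.wt 2) (.split 3 (-245) (.split 1 (-191) (.split 4 159 (.lin
    12) (.splitN 146249 .sq (.split 6 58 (.wt 0) (.split 5 167 (.split 7 (-53) (.wt 0) (.split 2
    (-17) (.split 4 169 (.split 6 67 (.wt 0) (.split 3 (-263) (.split 2 (-26) (.split 5 158
    (.splitN 158237 .sq (.splitN 160119 (.split 0 122 (.wt 0) (.split 4 168 (.lin 12) .sq)) (.wt
    0))) (.lin 1)) (.lin 9)) (.lin 6))) (.lin 12)) (.lin 9))) (.lin 7))))) (.lin 4)) (.lin 1)))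
    (.lin 1)))) (.lin 12)))) (.lin 4)) (.lin 1))) (.lin 1))) (.lin 1)))) (.lin 4))) (.lin 4))
    (.lin 1))) (.lin 1))) (.lin 1))) (.lin 4)) (.lin 1))) (.lin 4))) (.lin 1))) (.lin 1))) (.div
    5)) (.wt 5)) (.lin 4)) (.lin 1))) (.lin 4)) (.lin 1))) (.lin 4)) (.lin 1))) (.lin 3)) (.split
    3 (-209) (.split 1 (-128) (.split 1 (-155) (.split 4 177 (.lin 12) (.splitN 944962 (.split 0
    915 (.split 4 979 (.splitN 692590 (.split 0 765 (.split 4 835 (.splitN 646030 (.split 1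
    (-740) .sq (.split 4 781 (.split 0 709 (.split 5 626 (.split 3 (-753) .sq (.split 0 673
    (.split 4 736 (.split 5 113 (.split 6 55 (.wt 2) (.split 5 50 (.split 7 (-55) (.split 2 (-27)
    (.lin 9) (.split 0 190 (.wt 2) (.split 3 (-281) (.split 1 (-191) (.split 1 (-218) (.split 4
    249 (.lin 12) (.splitN 234863 .sq (.wt 0))) (.lin 4)) (.lin 2)) (.lin 1)))) (.split 2 (-17)
    (.splitN 360214 (.split 0 500 (.split 3 (-624) (.lin 1) (.split 1 (-561) (.lin 2) (.split 4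
    601 (.split 4 556 (.split 6 62 (.wt 2) (.split 3 (-227) (.split 2 (-26) (.split 0 137 (.wt 2)
    (.split 1 (-164) (.split 5 23 (.wt 2) (.split 3 (-245) (.split 1 (-173) (.splitN 263456
    (.split 0 148 (.wt 2) (.split 4 195 (.lin 12) (.split 0 354 (.split 3 (-480) (.lin 1) (.split
    1 (-408) (.lin 2) (.split 4 430 (.split 4 403 (.splitN 245602 (.split 0 154 (.wt 2) (.split 3
    (-263) (.split 1 (-191) (.split 0 165 (.wt 2) (.split 4 213 (.lin 12) (.split 0 288 (.split 4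
    340 (.splitN 226280 (.split 0 169 (.wt 2) (.split 3 (-281) (.split 1 (-209) (.splitN 208979
    .sq (.split 0 225 (.wt 0) (.split 3 (-335) (.split 4 267 (.lin 3) .sq) (.lin 1)))) (.lin 4))
    (.lin 1))) (.wt 3)) (.lin 3)) .sq))) (.lin 4)) (.lin 1))) (.wt 3)) (.lin 3)) (.lin 0))))
    .sq))) (.wt 3)) (.lin 4)) (.lin 1))) (.lin 4))) (.lin 9)) (.lin 6))) (.lin 3)) (.lin 0))))
    .sq) (.wt 3)) (.lin 9))) (.split 1 (-173) (.split 1 (-191) (.split 4 691 (.split 3 (-254)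
    (.splitN 159875 .sq (.splitN 406124 (.split 7 (-63) (.wt 3) (.split 0 513 (.split 1 (-532)
    .sq (.split 4 538 (.split 0 466 (.splitN 378558 (.split 3 (-531) .sq (.split 0 412 (.split 1
    (-471) (.lin 2) (.split 4 484 (.split 4 457 (.split 6 71 (.split 2 (-27) (.lin 9) (.split 0
    163 (.wt 2) (.split 3 (-281) (.split 4 204 (.lin 3) (.split 1 (-227) (.splitN 210581 .sq
    (.split 7 (-52) (.wt 0) (.split 2 (-17) (.splitN 227091 (.split 0 229 (.wt 0) (.split 3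
    (-353) (.split 4 267 (.lin 3) .sq) (.lin 1))) (.wt 3)) (.lin 9)))) (.lin 4))) (.lin 1))))
    (.split 2 (-26) (.split 3 (-272) (.splitN 172511 .sq (.splitN 207394 (.split 7 (-54) (.wt 0)
    (.split 4 430 (.split 2 (-35) (.split 5 103 (.split 0 222 (.split 3 (-390) (.lin 1) (.split 4
    259 (.splitN 190102 (.split 5 79 (.split 0 144 (.wt 0) (.split 3 (-290) (.split 4 195 (.lin
    3) .sq) (.lin 1))) (.wt 1)) (.wt 1)) (.lin 3))) .sq) (.wt 1)) (.lin 9)) (.lin 6))) (.wt 1)))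
    (.lin 7)) (.lin 9))) (.lin 6)) (.lin 0))) (.lin 1))) (.wt 3)) (.lin 4)) (.lin 0))) .sq)) (.wt
    3))) (.lin 7)) (.lin 6)) (.lin 4)) (.lin 8)))) (.split 1 (-227) (.split 0 574 (.split 3
    (-290) (.split 4 682 (.split 3 (-308) (.split 4 646 (.split 1 (-254) (.splitN 228626 .sq
    (.split 6 55 (.wt 0) (.split 7 (-55) (.wt 0) (.split 2 (-17) (.splitN 235299 (.split 0 176
    (.wt 0) (.split 3 (-362) .sq (.lin 1))) (.wt 3)) (.lin 9))))) (.lin 4)) (.lin 3)) (.lin 1))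
    (.lin 0)) (.lin 6)) (.lin 1)) (.lin 0))) (.lin 6)) (.lin 1))) (.lin 0)) (.lin 4)) (.lin 0)))
    (.wt 5)) (.lin 3)) .sq) (.wt 3)) (.lin 3)) .sq) (.wt 3))) (.lin 4)) (.lin 11)) (.lin 1)))

def cert5_114_3 : Cert :=
  (.split 0 111 (.split 3 (-327) (.lin 1) (.split 4 187 (.split 1 (-201) (.lin 4) (.split 4 169
    (.split 5 23 (.wt 2) (.split 1 (-92) (.split 7 (-55) (.split 0 69 (.wt 2) (.split 3 (-191)
    (.split 0 74 (.wt 2) (.split 1 (-110) (.split 5 38 (.wt 2) (.split 3 (-209) (.split 0 80 (.wt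
    2) (.split 1 (-128) (.split 4 141 (.lin 12) (.split 5 45 (.wt 2) (.split 1 (-137) (.split 3
    (-227) (.splitN 112328 .sq (.split 7 (-62) (.wt 0) (.split 2 (-35) (.split 4 160 (.split 5 51
    (.wt 2) (.split 1 (-146) (.splitN 125991 (.split 6 94 (.wt 2) (.split 3 (-245) (.split 2
    (-44) .sq (.lin 9)) (.lin 6))) (.wt 3)) (.lin 4))) (.lin 12)) (.lin 9)))) (.lin 7)) (.lin
    4)))) (.lin 4))) (.lin 7))) (.lin 4))) (.lin 7))) (.split 2 (-44) (.split 4 151 (.splitN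
    127086 (.wt 1) (.split 0 83 (.split 1 (-174) (.lin 4) (.split 4 124 (.split 0 62 (.wt 2)
    (.split 3 (-191) (.split 1 (-101) (.split 4 114 (.lin 12) (.splitN 174425 (.split 5 35 (.wt
    1) (.split 1 (-110) (.split 5 51 (.wt 2) (.split 3 (-218) (.split 1 (-128) (.splitN 137973
    (.wt 1) (.split 6 91 (.wt 0) (.split 2 (-53) (.split 0 72 (.wt 2) (.split 3 (-236) (.split 1
    (-137) (.split 4 123 (.lin 12) (.split 1 (-172) (.wt 2) (.split 5 86 (.split 6 98 (.wt 0)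
    (.split 2 (-62) (.splitN 146042 (.split 1 (-150) (.split 5 76 (.lin 0) (.split 3 (-263) (.wt
    0) (.lin 6))) (.wt 1)) (.wt 5)) (.lin 3))) (.lin 4)))) (.lin 4)) (.lin 1))) (.lin 9)))) (.lin
    8)) (.lin 1))) (.lin 4))) (.wt 3))) (.lin 4)) (.lin 1))) (.lin 12))) (.split 3 (-209) (.split
    1 (-119) (.split 4 132 (.lin 12) (.split 5 63 (.split 3 (-273) (.lin 6) (.split 5 45 (.split
    3 (-255) (.lin 1) (.split 1 (-147) (.lin 8) (.split 0 88 (.wt 2) (.split 1 (-128) (.split 4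
    141 (.lin 12) (.split 6 96 (.wt 2) (.split 3 (-227) (.split 5 33 (.wt 2) (.split 6 99 (.wt 2)
    (.split 3 (-245) (.split 2 (-62) (.splitN 169618 (.split 0 97 (.wt 2) (.split 4 150 (.lin 3)
    (.wt 0))) (.wt 1)) (.lin 9)) (.lin 6)))) (.lin 6)))) (.lin 4))))) (.split 3 (-227) (.split 1
    (-137) (.splitN 175031 .cand (.wt 3)) (.lin 8)) (.lin 1)))) (.split 1 (-155) (.splitN 171827
    .cand (.wt 1)) (.lin 8)))) (.lin 4)) (.lin 1)))) (.lin 12)) (.lin 9))) (.lin 4))) (.lin 12)))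
    (.lin 3))) (.split 3 (-209) (.split 1 (-137) (.split 3 (-227) (.split 4 159 (.lin 12)
    (.splitN 120365 .sq (.split 5 46 (.split 3 (-372) (.lin 6) (.split 7 (-55) (.split 4 168
    (.lin 12) (.splitN 124235 .sq (.split 5 23 (.wt 2) (.split 1 (-146) (.splitN 160941 (.split 3
    (-290) .sq (.split 0 169 (.split 4 223 (.split 7 (-62) (.wt 0) (.split 2 (-35) (.split 0 115
    (.wt 2) (.split 3 (-245) (.split 1 (-155) (.split 4 177 (.lin 12) (.splitN 144305 .sq (.wt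
    3))) (.lin 4)) (.lin 1))) (.lin 9))) (.lin 6)) (.lin 1))) (.wt 3)) (.lin 4))))) (.split 2
    (-44) (.split 4 250 (.split 5 32 (.split 3 (-345) (.lin 1) (.split 0 160 (.split 1 (-192)
    (.lin 4) (.split 4 205 (.split 5 27 (.splitN 205733 (.wt 1) (.split 0 134 (.wt 0) (.split 3
    (-254) (.split 1 (-164) (.wt 0) (.lin 4)) (.lin 1)))) (.split 1 (-146) (.splitN 212950 .cand
    (.wt 3)) (.lin 4))) (.lin 12))) (.split 3 (-281) (.split 1 (-173) (.split 1 (-191) (.split 4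
    213 (.lin 12) (.splitN 202301 .sq (.split 6 90 (.wt 0) (.split 2 (-53) (.split 5 28 (.split 0
    171 (.wt 0) (.split 3 (-299) (.splitN 218420 .sq (.wt 0)) (.lin 1))) (.wt 1)) (.lin 9)))))
    (.lin 4)) (.lin 2)) (.lin 1)))) (.split 1 (-155) (.splitN 201293 .cand (.wt 1)) (.lin 8)))
    (.lin 12)) (.lin 9)))) (.split 1 (-164) (.split 3 (-254) (.splitN 143450 .sq (.splitN 200887
    (.split 7 (-61) (.wt 0) (.split 2 (-35) (.split 3 (-345) .sq (.split 1 (-264) (.lin 2)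
    (.split 7 (-55) (.wt 1) (.split 4 250 (.split 2 (-44) (.splitN 184858 (.split 0 176 (.split 4
    214 (.split 6 105 (.split 2 (-54) (.lin 9) (.split 3 (-320) .sq (.split 1 (-228) (.lin 2)
    (.split 5 72 (.split 0 137 (.split 3 (-300) (.lin 1) (.split 4 187 (.split 6 93 (.splitN
    175075 .cand (.wt 3)) (.split 2 (-53) (.splitN 165956 (.split 0 126 (.split 4 169 (.split 1
    (-192) (.lin 8) (.split 0 122 (.split 3 (-282) (.lin 1) (.split 4 160 (.split 1 (-176)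
    (.split 5 67 (.lin 0) (.split 3 (-281) .sq (.lin 6))) (.wt 0)) (.lin 3))) (.wt 0))) (.lin 3))
    (.wt 0)) (.wt 1)) (.lin 9))) (.lin 3))) (.split 3 (-281) (.split 1 (-182) (.split 4 177 (.lin
    3) (.splitN 178406 .sq (.wt 1))) (.lin 2)) (.lin 1))) (.split 1 (-182) (.split 3 (-281)
    (.split 4 196 (.splitN 168812 .sq (.wt 1)) (.lin 6)) (.lin 6)) (.lin 0)))))) (.wt 2)) (.lin
    12)) (.wt 2)) (.wt 1)) (.lin 9)) (.lin 6))))) (.lin 9))) (.wt 1))) (.lin 7)) (.lin 4)))))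
    (.lin 7)) (.lin 4)) (.lin 1)))

def cert5_114_4 : Cert :=
  (.split 6 174 (.split 2 (-171) (.lin 3) (.split 3 (-318) (.lin 6) (.split 2 (-126) (.lin 9)
    (.split 0 83 (.split 3 (-291) (.lin 1) (.split 1 (-120) (.lin 4) (.split 4 124 (.split 5 32
    (.split 1 (-111) (.lin 4) (.split 6 122 (.wt 2) (.split 2 (-80) (.split 6 147 (.split 3
    (-255) (.lin 6) (.split 2 (-99) (.lin 9) (.splitN 161304 (.wt 1) (.split 0 61 (.wt 0) (.split
    3 (-218) (.split 1 (-92) (.split 4 114 (.lin 12) (.splitN 188529 (.split 5 24 (.wt 1) (.split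
    1 (-101) (.splitN 175599 (.split 6 126 (.wt 1) (.split 3 (-236) (.split 0 71 (.wt 0) (.split
    1 (-110) (.split 4 123 (.lin 8) (.split 6 140 (.wt 2) (.split 2 (-98) (.split 3 (-254)
    (.splitN 165847 (.wt 0) (.wt 0)) (.lin 6)) (.lin 0)))) (.lin 4))) (.lin 6))) (.wt 3)) (.lin
    4))) (.wt 0))) (.lin 4)) (.lin 1)))))) (.split 3 (-236) (.split 2 (-107) (.split 0 62 (.wt 2)
    (.split 1 (-92) (.split 4 114 (.lin 12) (.split 5 27 (.split 1 (-102) (.lin 8) (.splitN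
    187233 (.wt 1) (.wt 0))) (.split 1 (-101) (.splitN 171770 .cand (.wt 1)) (.lin 8)))) (.lin
    4))) (.lin 9)) (.lin 6))) (.lin 9)))) (.split 3 (-218) (.split 1 (-101) (.splitN 177644 .cand
    (.wt 3)) (.lin 8)) (.lin 1))) (.lin 12)))) (.split 3 (-227) (.split 1 (-110) (.split 4 132
    (.lin 12) (.splitN 151114 (.wt 3) (.split 5 32 (.split 1 (-138) (.lin 4) (.split 6 143
    (.split 2 (-117) (.lin 3) (.split 3 (-282) (.lin 6) (.split 5 27 (.split 1 (-129) (.lin 4)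
    (.splitN 186745 (.wt 1) (.split 6 116 (.wt 0) (.split 2 (-80) (.split 0 94 (.wt 2) (.split 3
    (-245) (.split 1 (-119) (.split 6 126 (.wt 0) (.split 2 (-89) (.split 0 99 (.wt 2) (.split 3
    (-263) (.split 1 (-128) (.split 6 136 (.wt 0) (.split 2 (-98) (.split 3 (-268) (.wt 2) (.lin
    1)) (.lin 0))) (.lin 4)) (.lin 1))) (.lin 9))) (.lin 4)) (.lin 1))) (.lin 9))))) (.split 1
    (-119) (.splitN 187399 .cand (.wt 1)) (.lin 4))))) (.split 2 (-80) (.split 3 (-263) (.split 2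
    (-107) (.splitN 163539 (.wt 3) (.split 5 31 (.split 3 (-300) (.lin 1) (.split 1 (-129) (.lin
    8) (.split 0 105 (.split 1 (-120) (.lin 4) (.split 4 142 (.split 6 161 (.split 3 (-282) (.lin
    6) (.split 0 88 (.wt 2) (.split 1 (-119) (.split 4 141 (.lin 8) (.split 6 155 (.wt 2) (.wt
    2))) (.lin 4)))) (.split 2 (-116) (.split 3 (-281) (.split 2 (-125) (.splitN 188299 (.split 0
    93 (.split 3 (-282) (.lin 1) (.split 1 (-111) (.lin 2) (.split 4 133 (.splitN 185032 (.wt 0)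
    (.wt 0)) (.lin 0)))) (.wt 0)) (.wt 1)) (.lin 9)) (.lin 6)) (.lin 0))) (.lin 8))) (.wt 2))))
    (.wt 1))) (.lin 9)) (.lin 6)) (.lin 0)))) (.split 3 (-245) (.split 1 (-128) (.splitN 168104
    (.split 6 144 (.split 2 (-117) (.lin 0) (.split 3 (-291) (.lin 6) (.split 0 104 (.split 1
    (-138) (.lin 4) (.split 4 142 (.split 6 134 (.split 3 (-273) (.lin 6) (.split 6 131 (.split 2
    (-81) (.lin 9) (.split 0 93 (.split 3 (-255) (.lin 1) (.split 1 (-129) (.lin 4) (.split 4 133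
    (.splitN 159545 (.wt 0) (.split 6 116 (.wt 0) (.wt 0))) (.lin 8)))) (.wt 2))) (.wt 0))) (.wt
    0)) (.lin 8))) (.wt 0)))) (.wt 0)) (.wt 1)) (.lin 8)) (.lin 1))))) (.lin 4)) (.lin 1))))))
    (.split 2 (-89) (.split 3 (-263) (.split 2 (-134) (.split 0 104 (.split 4 142 (.split 0 79
    (.split 3 (-354) (.lin 1) (.split 4 124 (.split 5 32 (.split 0 70 (.split 1 (-102) (.lin 4)
    (.split 4 115 (.split 5 27 (.splitN 175027 (.wt 1) (.split 0 63 (.wt 0) (.split 1 (-92)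
    (.split 3 (-300) (.wt 0) (.split 2 (-162) (.lin 1) (.split 6 206 (.wt 0) (.lin 0)))) (.lin
    4)))) (.split 1 (-92) (.splitN 169488 .cand (.wt 1)) (.lin 4))) (.lin 12))) (.split 3 (-281)
    (.split 1 (-101) (.split 4 123 (.lin 12) (.splitN 163421 .sq (.split 5 28 (.split 3 (-336)
    (.lin 1) (.split 1 (-102) (.lin 8) (.splitN 175752 (.wt 3) (.split 6 214 (.split 6 193 (.wt
    2) (.split 2 (-152) (.split 3 (-299) (.splitN 185777 .sq (.wt 0)) (.lin 6)) (.lin 0))) (.wt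
    1))))) (.wt 1)))) (.lin 4)) (.lin 1))) (.split 3 (-281) (.split 1 (-101) (.splitN 157913 .sq
    (.wt 1)) (.lin 8)) (.lin 1))) (.lin 12))) (.split 3 (-290) (.split 1 (-110) (.split 4 132
    (.lin 12) (.splitN 174275 .sq (.splitN 186976 (.split 5 25 (.split 3 (-354) (.lin 1) (.split
    1 (-120) (.lin 8) (.split 0 95 (.split 1 (-111) (.lin 4) (.split 3 (-301) (.split 2 (-152)
    (.split 6 196 (.lin 0) .sq) (.lin 1)) (.wt 0))) (.wt 0)))) (.wt 1)) (.wt 1)))) (.lin 4))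
    (.lin 1))) (.lin 12)) (.wt 2)) (.lin 9)) (.lin 6)) (.lin 3)))

def cert5_114_5 : Cert :=
  (.split 0 110 (.split 3 (-444) (.lin 1) (.split 1 (-192) (.lin 4) (.split 4 169 (.split 7 (-55)
    (.split 4 114 (.lin 12) (.splitN 172852 (.split 3 (-359) .sq (.split 5 44 (.split 6 174
    (.split 2 (-117) (.lin 9) (.split 0 83 (.split 4 142 (.split 0 61 (.wt 2) (.split 1 (-92)
    (.split 4 123 (.lin 12) (.split 5 26 (.wt 2) (.split 1 (-101) (.split 3 (-218) (.splitN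
    133462 (.split 6 137 (.wt 2) (.split 3 (-236) (.split 2 (-80) (.splitN 117071 .sq (.split 7
    (-60) (.wt 0) (.split 4 133 (.split 6 143 (.wt 2) (.split 3 (-254) (.split 2 (-98) .sq (.lin
    9)) (.lin 6))) (.lin 12)))) (.lin 9)) (.lin 6))) (.wt 3)) (.lin 7)) (.lin 4)))) (.lin 4)))
    (.lin 12)) (.split 1 (-110) (.split 4 141 (.lin 12) (.splitN 150872 (.split 3 (-300) .sq
    (.split 5 32 (.split 6 120 (.wt 2) (.split 3 (-236) (.split 2 (-62) (.splitN 118727 .sq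
    (.split 7 (-64) (.wt 3) (.split 2 (-71) (.split 4 160 (.split 6 147 (.splitN 142852 (.split 5
    23 (.wt 1) (.split 1 (-119) (.split 0 91 (.wt 2) (.split 3 (-254) (.split 1 (-128) (.split 4
    150 (.lin 8) (.splitN 137825 .sq (.wt 0))) (.lin 4)) (.lin 1))) (.lin 4))) (.wt 3)) (.split 3
    (-263) (.split 2 (-98) (.splitN 145439 .sq (.wt 3)) (.lin 9)) (.lin 6))) (.lin 12)) (.lin
    9)))) (.lin 9)) (.lin 7))) (.split 3 (-236) (.split 1 (-119) (.split 1 (-128) (.splitN 120959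
    .sq (.splitN 135677 (.split 7 (-63) (.wt 0) (.split 2 (-62) (.split 3 (-260) .sq (.split 0 97
    (.split 1 (-138) (.lin 2) (.split 2 (-72) (.lin 10) (.split 4 151 (.split 6 125 (.splitN
    126484 (.wt 1) (.wt 0)) (.lin 6)) (.lin 6)))) (.lin 1))) (.lin 9))) (.wt 1))) (.lin 4)) (.lin
    8)) (.lin 1)))) (.wt 3))) (.lin 4)))) (.split 3 (-254) (.split 2 (-116) (.splitN 137402 .sq
    (.split 0 62 (.wt 0) (.split 1 (-92) (.split 3 (-272) (.split 4 123 (.lin 12) (.splitN 151775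
    .sq (.split 0 75 (.wt 0) (.split 1 (-101) (.wt 1) (.lin 4))))) (.lin 7)) (.lin 4)))) (.lin
    9)) (.lin 6))) (.split 3 (-218) (.split 1 (-101) (.split 1 (-110) (.splitN 142166 (.split 3
    (-299) .sq (.split 6 188 (.split 0 83 (.split 4 142 (.splitN 128828 (.split 3 (-277) .sq
    (.split 6 161 (.split 6 138 (.split 0 65 (.wt 2) (.split 1 (-119) (.split 3 (-236) (.split 4
    123 (.lin 12) (.splitN 111923 .sq (.split 7 (-58) (.wt 0) (.split 2 (-62) (.split 4 133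
    (.split 0 70 (.wt 0) (.split 1 (-128) (.split 4 132 (.lin 12) (.splitN 118835 .sq (.wt 0)))
    (.lin 4))) (.lin 12)) (.lin 9))))) (.lin 7)) (.lin 4))) (.split 3 (-245) (.split 2 (-80)
    (.splitN 121445 .sq (.wt 3)) (.lin 9)) (.lin 6))) (.lin 7))) (.wt 3)) (.lin 12)) (.split 3
    (-245) (.split 1 (-137) (.split 4 141 (.lin 12) (.splitN 128492 .sq (.wt 1))) (.lin 4)) (.lin
    1))) (.lin 6))) (.wt 1)) (.lin 4)) (.lin 8)) (.lin 1)))) (.wt 3))) (.split 2 (-71) (.split 4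
    151 (.splitN 116081 (.wt 3) (.split 5 44 (.split 3 (-381) (.lin 1) (.split 1 (-147) (.lin 8)
    cert5_114_4)) (.split 1 (-110) (.splitN 179541 .cand (.wt 1)) (.lin 8)))) (.lin 12)) (.lin
    9))) (.lin 12)))) (.split 3 (-236) (.split 1 (-137) (.split 3 (-254) (.split 4 159 (.lin 12)
    (.splitN 141020 .sq (.splitN 238959 (.split 5 84 (.split 3 (-471) (.lin 7) (.split 7 (-61)
    (.wt 3) (.split 2 (-62) (.split 5 73 (.split 1 (-228) (.lin 4) (.split 6 223 (.split 3 (-444)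
    (.lin 7) (.split 2 (-171) (.lin 9) (.split 5 51 (.split 1 (-210) (.lin 4) (.split 6 204
    (.split 3 (-408) (.lin 7) (.split 5 49 (.split 6 156 (.split 3 (-372) (.lin 6) (.split 2
    (-108) (.lin 9) (.split 5 32 (.split 1 (-192) (.lin 4) (.split 3 (-345) (.lin 7) (.split 7
    (-51) (.split 5 31 (.split 0 116 (.wt 2) (.split 1 (-146) (.split 4 177 (.lin 8) (.splitN
    153746 .sq (.wt 3))) (.lin 4))) (.wt 1)) (.split 2 (-71) (.split 4 205 (.split 6 134 (.split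
    3 (-327) (.lin 6) (.split 2 (-90) (.lin 9) (.split 5 27 (.split 0 137 (.split 3 (-291) (.lin
    1) (.split 1 (-156) (.lin 4) (.split 4 178 (.split 6 119 (.wt 2) (.split 2 (-80) (.split 0
    124 (.split 1 (-147) (.lin 4) (.splitN 190880 (.wt 1) .cand)) (.split 3 (-281) (.split 1
    (-146) (.split 1 (-155) (.split 4 177 (.lin 8) (.splitN 199723 (.split 6 128 (.split 2 (-81)
    (.lin 0) (.wt 1)) (.wt 0)) (.wt 1))) (.lin 4)) (.lin 2)) (.lin 1))) (.lin 9))) (.lin 8))))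
    (.split 3 (-281) (.split 1 (-164) (.split 4 186 (.lin 8) (.split 6 129 (.split 2 (-81) (.lin
    9) (.splitN 190750 (.wt 1) .cand)) (.wt 2))) (.lin 4)) (.lin 1))) (.splitN 179877 (.split 0
    137 (.split 3 (-300) (.lin 1) (.split 1 (-165) (.lin 4) (.wt 2))) (.wt 0)) (.wt 1)))))
    (.split 2 (-98) (.splitN 196723 (.split 0 143 (.split 3 (-327) (.lin 1) (.split 0 133 (.split
    1 (-165) (.lin 4) (.split 0 130 (.split 3 (-309) (.lin 1) (.split 1 (-156) (.lin 4) (.split 0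
    123 (.split 1 (-147) (.lin 4) (.wt 2)) (.wt 0)))) (.wt 0))) (.wt 0))) (.wt 0)) (.wt 1)) (.lin
    9))) (.lin 12)) (.lin 9))))) (.split 1 (-155) (.split 3 (-272) (.splitN 157931 .sq (.split 0
    143 (.split 3 (-345) (.lin 1) (.split 1 (-183) (.lin 4) (.split 4 196 (.split 0 130 (.split 3
    (-327) (.lin 1) (.wt 6)) (.wt 1)) (.lin 8)))) (.wt 1))) (.lin 7)) (.lin 4))))) (.split 3
    (-290) (.split 2 (-107) (.splitN 181709 .sq (.split 0 144 (.split 3 (-381) (.lin 7) (.split 4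
    196 (.split 0 131 (.split 4 178 (.split 7 (-54) (.wt 0) (.wt 2)) (.lin 12)) (.wt 1)) (.lin
    12))) (.wt 1))) (.lin 9)) (.lin 6))) (.wt 6))) (.wt 6))) (.wt 6)))) (.wt 2))) (.wt 2)) (.lin
    9)))) (.wt 1)) (.wt 1)))) (.lin 7)) (.lin 4)) (.lin 1)))

def cert5_114_6 : Cert :=
  (.split 7 (-100) (.split 4 159 (.lin 12) (.splitN 100259 .sq (.splitN 1132312 (.split 1
    (-12573) (.div 1) (.split 0 12544 (.split 2 (-6287) (.div 2) (.split 4 12572 (.split 6 18791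
    (.split 5 6286 (.splitN 1036600 (.split 4 11492 (.splitN 194217 (.split 0 5330 (.split 1
    (-2133) (.div 1) (.split 0 2104 (.split 5 2066 (.split 2 (-1067) (.div 2) (.split 6 14534
    (.split 4 2132 (.split 6 3131 (.splitN 170505 (.split 2 (-941) (.div 2) (.split 4 1880
    (.split 7 (-269) (.wt 3) (.split 6 1196 (.split 0 269 (.split 4 529 (.splitN 147294 (.split 2
    (-815) (.div 2) (.split 6 1070 (.split 7 (-195) (.wt 3) (.split 6 998 (.split 0 223 (.split 4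
    412 (.split 7 (-181) (.wt 3) (.split 1 (-231) .sq (.split 0 205 (.split 4 376 (.splitN 139644
    (.split 1 (-209) .sq (.split 0 178 (.split 5 140 (.split 4 349 (.split 7 (-167) (.wt 3)
    (.split 2 (-192) .sq (.split 6 350 (.split 7 (-157) (.wt 3) (.split 4 331 (.split 0 61 (.wt
    5) (.split 1 (-92) (.split 4 168 (.lin 12) (.splitN 105974 .sq (.split 0 72 (.wt 3) (.split 1
    (-101) (.split 3 (-218) (.split 4 177 (.lin 12) (.splitN 119699 .sq (.splitN 123529 (.split 0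
    88 (.wt 0) (.split 3 (-236) (.split 4 195 (.lin 12) .sq) (.lin 7))) (.wt 3)))) (.lin 7))
    (.lin 4))))) (.lin 4))) (.lin 8))) (.lin 9)))) (.lin 8)) (.lin 4)) (.lin 4))) (.wt 3)) (.lin
    8)) (.lin 4)))) (.lin 12)) .sq) (.lin 9))) (.lin 9))) (.wt 3)) (.lin 12)) .sq) (.lin 9)))
    (.div 4))) (.wt 3)) (.lin 3)) (.div 4)) (.lin 0))) (.lin 4)) (.lin 4))) (.div 0)) (.wt 1))
    (.div 4)) (.wt 0)) (.div 5)) (.lin 3)) (.div 4))) (.lin 4))) (.wt 0)))) (.split 2 (-26)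
    (.splitN 535233 (.split 1 (-5913) (.div 1) (.split 0 5884 (.split 5 5846 (.split 2 (-2957)
    (.div 2) (.split 3 (-14772) (.lin 1) (.split 0 676 (.split 4 763 (.splitN 499889 (.split 1
    (-655) .sq (.split 5 590 (.split 4 718 (.split 2 (-650) .sq (.split 6 737 (.split 3 (-680)
    .sq (.split 4 628 (.splitN 460498 (.split 3 (-648) .sq (.split 4 592 (.split 7 (-69) (.split
    4 132 (.lin 12) (.splitN 174385 (.split 0 296 (.split 4 385 (.splitN 160883 (.split 1 (-280)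
    .sq (.split 0 250 (.split 4 340 (.split 2 (-269) .sq (.split 6 350 (.splitN 152832 (.split 3
    (-319) .sq (.split 0 178 (.split 4 268 (.split 6 251 (.splitN 139107 (.split 3 (-298) .sq
    (.split 6 206 (.split 5 50 (.split 0 106 (.split 1 (-156) (.lin 4) (.split 4 223 (.split 4
    196 (.splitN 121772 (.split 3 (-269) .sq (.split 6 179 (.split 0 64 (.wt 2) (.split 1 (-92)
    (.split 6 170 (.split 4 141 (.lin 12) (.split 5 23 (.wt 2) (.split 1 (-101) (.split 3 (-218)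
    (.split 6 161 (.splitN 103274 .sq (.splitN 109939 (.split 0 83 (.wt 0) (.split 3 (-236)
    (.split 4 159 (.lin 12) .sq) (.lin 7))) (.wt 3))) (.lin 7)) (.lin 7)) (.lin 4)))) (.lin 7))
    (.lin 4))) (.lin 7))) (.wt 3)) (.lin 12)) (.lin 8))) (.split 1 (-137) (.split 3 (-254)
    (.split 4 186 (.lin 12) .sq) (.lin 7)) (.lin 4))) (.split 1 (-119) (.split 4 205 (.split 3
    (-236) (.splitN 114209 .sq (.wt 1)) (.lin 7)) (.lin 6)) (.lin 4))) (.lin 7))) (.wt 3)) (.lin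
    6)) (.lin 6)) (.lin 7))) (.wt 3)) (.lin 9))) (.lin 8)) (.lin 4))) (.wt 3)) (.lin 12)) .sq)
    (.wt 1))) (.split 2 (-53) (.splitN 381503 (.split 3 (-583) .sq (.split 2 (-450) (.lin 10)
    (.split 4 502 (.split 0 166 (.split 4 223 (.splitN 346447 (.split 3 (-551) .sq (.split 6 234
    (.split 2 (-288) (.lin 3) (.split 2 (-189) (.lin 9) (.split 5 93 (.split 3 (-498) (.lin 6)
    (.split 1 (-264) (.lin 8) (.split 1 (-246) (.lin 4) cert5_114_5))) (.split 3 (-254) (.split 1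
    (-137) (.split 1 (-155) (.split 3 (-272) (.splitN 140372 .sq (.split 0 97 (.split 4 160
    (.split 7 (-60) (.wt 0) (.split 2 (-62) (.split 4 151 (.split 0 80 (.split 4 133 (.split 7
    (-55) (.wt 0) (.split 2 (-71) (.split 4 124 (.splitN 148817 (.split 0 71 (.split 4 115
    (.split 6 128 (.wt 0) (.split 3 (-290) .sq (.lin 6))) (.lin 12)) (.wt 1)) (.wt 1)) (.lin 12))
    (.lin 9))) (.lin 12)) (.wt 1)) (.lin 12)) (.lin 9))) (.lin 12)) (.wt 1))) (.lin 7)) (.lin 4))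
    (.lin 8)) (.lin 1))))) (.split 2 (-179) (.split 3 (-326) (.splitN 221372 .sq (.wt 1)) (.lin
    7)) (.lin 9)))) (.wt 1)) (.lin 12)) (.split 1 (-191) (.split 3 (-308) (.split 4 213 (.lin 12)
    (.splitN 224612 .sq (.wt 1))) (.lin 7)) (.lin 4))) (.lin 6)))) (.wt 1)) (.lin 9))) (.lin 6)))
    (.wt 1)) (.lin 6))) (.lin 9))) (.lin 8)) (.lin 4))) (.wt 1)) (.lin 12)) .sq))) (.lin 4))
    (.lin 4))) (.wt 1)) (.lin 9)))

def cert5_114_7 : Cert :=
  (.split 5 18 (.split 0 28 (.wt 2) (.split 3 (-92) (.split 1 (-38) (.split 4 78 (.lin 12)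
    (.split 6 55 (.wt 2) (.split 3 (-101) (.split 5 9 (.wt 2) (.split 1 (-47) (.split 0 36 (.wt
    2) (.split 1 (-56) (.split 3 (-119) (.split 4 87 (.lin 8) (.split 6 67 (.wt 2) (.split 3
    (-128) (.split 7 (-100) (.split 3 (-164) (.split 6 106 (.lin 9) (.splitN 813028 (.split 1
    (-9009) (.div 1) (.split 0 8989 (.split 2 (-4505) (.div 2) (.split 3 (-22521) (.div 3)
    (.split 4 31444 (.split 4 9008 (.split 6 13463 (.splitN 253725 (.split 2 (-1409) (.div 2)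
    (.split 4 2816 (.split 6 4175 (.split 0 69 (.wt 2) (.split 3 (-191) (.split 1 (-83) (.split 4
    168 (.lin 8) (.splitN 98540 .sq (.splitN 190078 (.split 1 (-2097) (.div 1) (.split 0 2077
    (.split 2 (-1049) (.div 2) (.split 4 2096 (.split 6 3068 (.split 7 (-598) (.wt 0) (.split 6
    1637 (.split 7 (-539) (.wt 0) (.split 0 92 (.wt 2) (.split 3 (-218) (.split 1 (-110) (.split
    4 195 (.lin 8) (.splitN 129158 .sq (.splitN 166272 (.split 2 (-923) (.div 2) (.split 6 1448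
    (.split 0 118 (.wt 0) (.split 3 (-245) (.split 1 (-137) (.split 4 222 (.lin 8) (.splitN
    165608 .sq (.wt 3))) (.lin 4)) (.lin 1))) (.lin 9))) (.wt 3)))) (.lin 4)) (.lin 1)))) (.lin
    9))) (.lin 0)) (.div 4))) (.lin 4))) (.wt 3)))) (.lin 4)) (.lin 1))) (.lin 0)) (.div 4)))
    (.wt 3)) (.lin 0)) (.div 4)) (.lin 5)))) (.lin 4))) (.wt 0))) (.lin 1)) (.split 6 150 (.split
    2 (-99) (.lin 9) (.split 0 81 (.wt 2) (.split 1 (-101) (.split 3 (-173) (.split 0 131 (.wt 2)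
    (.split 1 (-146) (.split 3 (-218) (.split 0 184 (.wt 2) (.split 1 (-200) (.split 3 (-272)
    (.split 4 231 (.lin 8) (.splitN 210194 .sq (.splitN 4636363 (.split 1 (-51489) (.div 1)
    (.split 4 51604 (.split 0 51631 (.split 7 (-66) (.wt 0) (.split 0 256 (.wt 2) (.split 1
    (-272) (.split 3 (-344) (.split 4 303 (.lin 8) (.splitN 359234 .sq (.splitN 2703266 (.split 1
    (-30033) (.div 1) (.split 4 30148 (.split 0 30175 (.splitN 1645529 (.split 1 (-18261) (.div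
    1) (.split 4 18376 (.split 0 18403 (.split 6 83 (.wt 0) (.split 2 (-26) (.splitN 578866
    (.split 1 (-6417) (.div 1) (.split 4 6514 (.split 0 6523 (.splitN 449941 (.split 0 372 (.wt
    0) (.split 3 (-461) (.split 1 (-389) (.split 4 420 (.lin 8) .sq) (.lin 4)) (.lin 1))) (.wt
    3)) (.lin 3)) (.lin 0))) (.wt 0)) (.lin 9))) (.lin 3)) (.lin 0))) (.wt 3)) (.lin 3)) (.lin
    0))) (.wt 0)))) (.lin 7)) (.lin 4)))) (.lin 3)) (.lin 0))) (.wt 3)))) (.lin 7)) (.lin 4)))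
    (.lin 7)) (.lin 4))) (.lin 7)) (.lin 4)))) (.split 2 (-62) (.split 3 (-209) (.split 0 46 (.wt
    2) (.split 1 (-65) (.split 4 96 (.lin 8) (.splitN 109301204 (.split 2 (-607217) (.div 2)
    (.split 0 10450 (.split 3 (-617763) (.lin 1) (.split 1 (-10461) (.lin 4) cert5_114_0)) .sq))
    (.wt 1))) (.lin 4))) (.lin 7)) (.lin 9)))) (.lin 7)))) (.lin 7)) (.lin 4))) (.lin 4))) (.lin
    7)))) (.lin 4)) (.lin 1))) (.split 3 (-101) (.split 1 (-47) (.split 0 58 (.split 6 66 (.wt 2)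
    (.split 3 (-119) cert5_114_1 (.lin 7))) (.split 3 (-137) (.split 1 (-83) (.split 4 105 (.lin
    12) (.split 6 114 (.split 2 (-63) (.lin 9) (.split 7 (-73) (.split 3 (-164) (.split 2 (-36)
    (.lin 9) (.split 6 79 (.lin 9) (.split 4 132 (.lin 12) (.splitN 450247 (.split 0 12440
    (.split 1 (-4977) (.div 1) (.split 4 5047 (.split 0 5002 (.split 5 2488 (.splitN 220673
    (.split 1 (-2421) (.div 1) (.split 4 2491 (.split 0 62 (.wt 2) (.split 3 (-173) (.split 1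
    (-92) (.split 4 141 (.lin 12) (.splitN 205187 (.split 0 366 (.split 4 457 (.splitN 177591
    (.split 0 323 (.split 4 421 (.split 1 (-330) .sq (.split 0 304 (.split 5 257 (.split 0 71
    (.wt 2) (.split 1 (-101) (.split 4 150 (.lin 12) (.splitN 168611 (.split 1 (-308) .sq (.split
    0 277 (.split 3 (-339) .sq (.split 0 232 (.split 1 (-255) (.lin 2) (.split 4 331 (.split 5
    176 (.split 4 304 (.split 5 23 (.wt 2) (.split 3 (-191) (.split 1 (-110) (.splitN 148146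
    (.split 0 83 (.wt 2) (.split 1 (-119) (.split 4 159 (.lin 12) (.split 3 (-294) .sq (.split 0
    178 (.split 1 (-210) (.lin 2) (.split 4 277 (.split 5 122 (.split 4 250 (.split 0 91 (.wt 2)
    (.split 3 (-209) (.split 5 113 (.split 1 (-128) (.split 0 98 (.wt 2) (.split 1 (-137) (.split
    4 177 (.lin 12) (.splitN 118187 .sq (.splitN 129745 (.split 0 123 (.wt 0) (.split 3 (-236)
    (.split 1 (-155) (.split 4 195 (.lin 12) .sq) (.lin 4)) (.lin 1))) (.wt 5)))) (.lin 4)))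
    (.lin 4)) (.lin 1)) (.lin 1))) (.lin 10)) (.lin 1)) (.lin 0))) (.lin 1)))) (.lin 4))) (.wt
    3)) (.lin 4)) (.lin 1))) (.lin 10)) (.lin 1)) (.lin 0))) (.lin 1))) (.lin 4))) (.wt 3)))
    (.lin 4))) (.lin 4)) (.lin 4))) (.lin 3)) .sq) (.wt 3)) (.lin 3)) .sq) (.wt 3))) (.lin 4))
    (.lin 1))) (.lin 0))) (.wt 3)) (.div 5)) (.lin 3)) (.lin 0))) (.div 0)) (.wt 0))))) (.lin 1))
    (.split 6 80 (.split 2 (-36) (.lin 9) cert5_114_2) (.split 3 (-155) (.split 2 (-26) (.split 3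
    (-173) (.splitN 1057244 (.split 1 (-11745) (.div 1) (.split 4 11797 (.split 0 11770 (.splitN
    994816 (.split 0 965 (.split 4 1042 (.splitN 747638 (.split 1 (-831) .sq (.split 5 806
    (.split 3 (-957) (.lin 2) (.split 3 (-845) .sq (.split 1 (-768) (.lin 2) (.split 4 826
    (.split 0 213 (.split 4 286 (.split 4 268 (.splitN 394095 (.split 3 (-600) .sq (.split 5 464
    (.split 5 103 (.split 1 (-336) (.lin 0) (.split 3 (-426) (.lin 6) (.split 1 (-300) (.lin 4)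
    cert5_114_3))) (.split 1 (-128) (.split 1 (-164) (.split 3 (-254) (.splitN 127898 .sq (.split
    0 62 (.wt 2) (.split 1 (-173) (.split 4 114 (.lin 12) (.split 7 (-62) (.wt 1) (.split 2 (-35)
    (.splitN 183517 (.split 3 (-335) .sq (.split 0 142 (.split 4 187 (.splitN 174071 (.split 7
    (-55) (.wt 3) .cand) (.wt 1)) (.lin 6)) (.lin 1))) (.wt 1)) (.lin 9)))) (.lin 4)))) (.lin 7))
    (.lin 4)) (.lin 0))) (.lin 1))) (.wt 3)) (.lin 12)) (.lin 3)) (.split 3 (-308) (.split 1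
    (-236) (.split 3 (-326) (.split 4 258 (.lin 12) (.splitN 286091 .sq (.split 7 (-53) (.wt 0)
    (.split 2 (-44) (.wt 1) (.lin 9))))) (.lin 7)) (.lin 4)) (.lin 1))) (.lin 0))))) (.lin 0)))
    (.wt 3)) (.lin 3)) .sq) (.wt 3)) (.lin 3)) (.lin 0))) (.wt 1)) (.lin 7)) (.lin 9)) (.lin
    6))))) (.split 3 (-200) cert5_114_6 (.lin 7)))) (.lin 4)) (.lin 1))) (.lin 4)) (.lin 1)))

def cert5_114 : Cert :=
  (.split 3 (-74) (.split 6 52 (.lin 9) (.split 4 60 (.lin 12) (.split 0 16 (.wt 2) (.split 3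
    (-83) (.split 1 (-29) (.split 4 69 (.lin 12) cert5_114_7) (.lin 4)) (.lin 1))))) (.lin 1))

theorem check5_114 :
    check task5 cert5_114
      [(7, ⟨some (16), none⟩), (7, ⟨none, some (-20)⟩), (1, ⟨none, some (-8)⟩), (7, ⟨none, some (-29)⟩), (7, ⟨some (34), none⟩), (5, ⟨some (5), none⟩), (8, ⟨some (17), none⟩), (8, ⟨none, some (-46)⟩)] ⟨some (20160), none⟩ = true := by
  decide +kernel

end Cfsg.Agent.EightLocal
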