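import Cfsg.Agent.Lib.EightLocal.Task5

/-!
# Search trees of family 5, part 7
-/

set_option autoImplicit false
set_option maxRecDepth 20000
set_option Elab.async false

namespace Cfsg.Agent.EightLocal

open Cfsg.Agent.SelfNine

def cert5_115_0 : Cert :=
  (.split 6 258 (.split 2 (-234) (.lin 3) (.split 0 26 (.wt 2) (.split 1 (-74) (.split 3 (-200)
    (.split 4 60 (.lin 12) (.split 5 41 (.wt 2) (.split 1 (-83) (.splitN 3215599 (.split 1
    (-35721) (.div 1) (.split 5 35816 (.split 6 141 (.wt 2) (.split 2 (-107) (.split 3 (-218)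
    (.split 6 147 (.wt 2) (.split 2 (-116) (.split 3 (-236) (.split 5 53 (.wt 2) (.split 1 (-92)
    (.splitN 1304981 (.split 5 7240 (.split 3 (-3970) (.wt 2) (.split 5 3785 (.split 3 (-3545)
    (.wt 2) (.split 5 3362 (.split 6 157 (.wt 2) (.split 3 (-254) (.splitN 147310 (.wt 6) (.split
    7 (-37) (.wt 0) (.split 2 (-134) (.split 4 61 (.splitN 295477 (.wt 1) (.split 1 (-1080) (.wt
    0) (.split 5 1040 (.split 1 (-991) (.wt 0) (.split 5 950 (.split 1 (-466) (.wt 2) (.split 5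
    428 (.splitN 329029 (.wt 1) (.split 1 (-377) (.wt 0) (.split 5 338 (.split 1 (-280) (.wt 2)
    (.split 5 239 (.splitN 364513 (.wt 1) (.split 1 (-246) (.wt 0) (.split 5 212 (.split 1 (-205)
    (.wt 2) (.split 5 167 (.splitN 405256 (.wt 1) (.split 1 (-187) (.wt 0) (.split 5 149 (.split
    1 (-157) (.wt 2) (.split 5 122 (.splitN 466239 (.wt 1) (.split 1 (-144) (.wt 0) (.split 5 104
    (.splitN 514151 (.wt 1) (.split 1 (-126) (.wt 0) (.split 5 86 (.splitN 598756 (.wt 1) (.split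
    1 (-108) (.wt 0) (.split 5 68 (.splitN 728319 (.wt 1) (.wt 0)) (.lin 4)))) (.lin 4)))) (.lin
    4)))) (.lin 4))) (.lin 4)))) (.lin 4))) (.lin 4)))) (.lin 4))) (.lin 4)))) (.lin 4))) (.lin
    4))) (.lin 4)))) (.lin 12)) (.lin 9)))) (.lin 7))) (.lin 1))) (.lin 1))) (.div 5)) (.wt 3))
    (.lin 4))) (.lin 7)) (.lin 3))) (.lin 6)) (.lin 3))) (.lin 0))) (.wt 3)) (.lin 4)))) (.lin
    7)) (.lin 4)))) (.split 2 (-215) (.split 3 (-317) (.splitN 224333 .sq (.split 7 (-36) (.wt 3)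
    (.split 2 (-233) (.split 4 61 (.split 0 29 (.split 4 52 (.splitN 336333 (.split 2 (-1859)
    (.div 2) (.split 6 1880 (.wt 2) (.lin 3))) (.wt 0)) (.lin 12)) (.split 3 (-335) (.split 1
    (-74) (.split 4 60 (.lin 12) (.splitN 3829654 (.split 2 (-1907) .sq (.split 6 1925 (.splitN
    2971194 (.split 1 (-1652) .sq (.split 5 1616 (.split 3 (-1684) .sq (.split 2 (-1575) (.lin 1)
    (.split 6 1601 (.split 5 238 (.split 1 (-264) (.lin 4) (.splitN 290123 (.wt 3) (.split 6 645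
    (.split 2 (-612) (.lin 9) (.split 5 97 (.split 3 (-768) (.lin 1) (.split 1 (-129) (.lin 8)
    (.split 6 449 (.split 2 (-477) (.lin 0) (.split 2 (-423) (.lin 9) (.split 5 68 (.split 1
    (-102) (.lin 4) (.split 6 272 (.wt 2) (.split 3 (-353) (.split 5 54 (.split 1 (-84) (.lin 8)
    (.split 6 353 (.wt 2) (.split 2 (-323) (.split 3 (-434) (.splitN 915309 (.wt 1) (.splitN
    1291990 (.split 5 41 (.wt 1) (.split 1 (-83) (.split 3 (-442) (.wt 0) (.split 2 (-324) (.lin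
    1) (.lin 3))) (.lin 4))) (.wt 5))) (.lin 6)) (.lin 0)))) (.split 1 (-92) (.split 6 324 (.wt
    2) (.split 2 (-296) (.split 3 (-425) (.splitN 751278 (.split 6 357 (.wt 2) (.split 3 (-452)
    (.split 6 404 (.split 2 (-387) (.lin 0) (.splitN 607440 (.wt 1) (.split 5 60 (.wt 2) (.split
    1 (-101) (.split 3 (-475) (.wt 0) (.split 2 (-342) (.lin 1) (.split 6 368 (.wt 0) (.lin 0))))
    (.lin 4))))) (.split 2 (-377) (.split 3 (-506) (.splitN 586340 .sq .cand) (.lin 6)) (.lin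
    0))) (.lin 6))) (.wt 3)) (.lin 6)) (.lin 0))) (.lin 4))) (.lin 6)))) (.split 3 (-371) (.split
    1 (-110) (.splitN 607109 (.split 6 307 (.wt 2) (.split 3 (-425) (.splitN 433494 (.wt 1)
    .cand) (.lin 6))) (.wt 3)) (.lin 8)) (.lin 1))))) (.split 2 (-377) (.split 3 (-533) (.split 2
    (-431) (.splitN 692432 .sq (.split 1 (-101) (.wt 5) (.split 5 59 (.split 5 50 (.split 3
    (-723) (.lin 1) (.split 5 45 (.split 1 (-75) (.lin 4) (.splitN 1285568 (.wt 1) (.split 3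
    (-597) (.wt 0) (.split 2 (-495) (.lin 1) (.split 6 521 (.wt 0) (.lin 0)))))) (.split 1 (-83)
    (.split 6 501 (.wt 2) (.split 2 (-476) (.split 3 (-587) (.splitN 839204 .sq (.split 6 595
    (.split 3 (-678) (.lin 6) (.split 6 528 (.wt 2) (.split 2 (-503) (.splitN 893528 .sq (.wt 1))
    (.lin 0)))) (.wt 1))) (.lin 6)) (.lin 0))) (.lin 4)))) (.split 1 (-92) (.splitN 729096 .cand
    (.wt 1)) (.lin 4))) (.lin 4)))) (.lin 9)) (.lin 6)) (.lin 0))))) (.split 3 (-398) (.split 1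
    (-137) (.splitN 507350 (.split 6 271 (.wt 2) (.split 2 (-251) (.split 3 (-576) .sq (.split 2
    (-405) (.lin 1) (.split 6 431 (.splitN 479400 .cand (.wt 3)) (.lin 3)))) (.lin 3))) (.wt 3))
    (.lin 8)) (.lin 1)))) (.split 2 (-431) (.split 3 (-722) (.split 2 (-620) (.splitN 1337111 .sq
    (.splitN 1447245 (.split 1 (-81) (.wt 1) (.split 5 41 (.split 6 794 (.wt 0) (.split 3 (-875)
    .sq (.lin 6))) (.lin 4))) (.wt 3))) (.lin 9)) (.lin 6)) (.lin 0))))) (.split 2 (-1377) (.lin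
    1) (.split 3 (-533) (.split 1 (-272) (.split 6 1403 (.splitN 542744 .sq (.wt 0)) (.lin 3))
    (.lin 8)) (.lin 6)))) (.lin 3)))) (.lin 4))) (.wt 3)) (.lin 3))) (.wt 3))) (.lin 4)) (.lin
    1))) (.lin 12)) (.lin 9)))) (.lin 6)) (.lin 3)))

def cert5_115_1 : Cert :=
  (.split 6 75 (.split 2 (-45) (.lin 9) (.split 5 77 (.wt 1) (.split 3 (-218) (.split 5 87 (.wt
    1) (.split 1 (-164) (.split 3 (-444) (.split 5 292 (.lin 1) (.split 1 (-380) (.split 0 75
    (.wt 2) (.split 4 105 (.lin 12) (.split 3 (-1993) (.wt 2) (.split 5 1850 (.split 6 62 (.wt 1)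
    (.split 2 (-44) (.split 3 (-1584) (.wt 2) (.split 5 1427 (.split 3 (-1493) (.wt 2) (.split 5
    1337 (.split 1 (-1416) (.lin 2) (.split 3 (-820) (.split 1 (-749) (.splitN 2409177 (.wt 1)
    (.split 0 83 (.wt 0) (.split 4 114 (.lin 3) (.splitN 2857322 (.wt 1) (.split 1 (-1155) (.wt
    0) (.split 5 1067 (.splitN 3133029 (.wt 1) (.split 1 (-987) (.wt 0) (.split 5 896 (.splitN
    3447070 (.wt 1) (.split 1 (-867) (.wt 0) (.split 5 779 (.wt 2) (.lin 0)))) (.lin 0)))) (.lin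
    0))))))) (.lin 2)) (.split 5 662 (.split 1 (-741) (.lin 2) (.split 0 83 (.split 4 106 (.wt 2)
    (.lin 3)) (.split 4 114 (.lin 3) (.split 3 (-493) (.split 5 337 (.lin 1) (.split 3 (-616)
    (.split 5 463 (.lin 1) (.split 3 (-699) (.split 5 544 (.lin 1) (.split 1 (-632) (.split 3
    (-758) (.split 5 598 (.lin 1) (.split 1 (-686) (.split 3 (-785) (.split 1 (-713) (.splitN
    4559206 (.split 3 (-799) (.wt 2) (.split 1 (-727) (.lin 2) (.split 5 648 (.splitN 4438356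
    (.wt 1) .cand) (.lin 0)))) (.wt 0)) (.split 5 617 (.lin 1) (.lin 0))) (.split 5 617 (.split 1
    (-713) (.lin 0) (.splitN 4667915 (.wt 0) (.split 3 (-772) (.split 5 608 (.lin 1) (.wt 1))
    (.wt 2)))) (.lin 1))) (.lin 2))) (.split 1 (-678) (.lin 2) (.splitN 5335089 (.wt 0) (.wt
    1)))) (.lin 2))) (.wt 2))) (.wt 2))) (.wt 0))))) (.lin 1)))) (.lin 1))) (.lin 1))) (.lin 9)))
    (.lin 1))))) (.lin 2))) (.split 5 311 (.split 1 (-381) (.lin 2) (.split 5 115 (.wt 1) (.split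
    3 (-254) (.split 5 127 (.wt 1) (.split 6 64 (.wt 1) (.split 3 (-272) (.split 2 (-44) (.split
    0 79 (.split 4 106 (.split 5 169 (.wt 1) (.split 1 (-245) (.split 3 (-317) (.split 5 191 (.wt
    1) (.split 3 (-335) (.splitN 6368997 (.wt 1) (.split 0 71 (.wt 0) (.split 5 293 (.split 4 105
    (.lin 3) (.split 1 (-299) (.split 5 220 (.lin 0) (.split 3 (-371) (.splitN 32821997 (.wt 1)
    (.split 1 (-340) (.wt 0) (.split 5 257 (.wt 1) (.lin 0)))) (.lin 6))) (.wt 1))) (.lin 1))))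
    (.lin 6))) (.lin 6)) (.lin 0))) (.lin 3)) (.split 4 114 (.lin 3) (.wt 0))) (.lin 9)) (.lin
    6)))) (.lin 6)))) (.lin 1))) (.lin 4))) (.lin 6)))) (.split 2 (-53) (.split 5 90 (.split 1
    (-183) (.lin 0) (.split 3 (-264) (.lin 6) (.wt 0))) (.split 3 (-498) (.split 5 328 (.lin 1)
    (.split 1 (-416) (.splitN 5384615 (.split 5 29902 (.split 3 (-30072) (.lin 6) (.split 0 86
    (.split 4 106 (.splitN 3929654 (.split 1 (-1882) .sq (.split 5 1814 (.split 3 (-1983) (.lin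
    6) (.splitN 3263544 (.split 6 88 (.split 5 346 (.lin 6) (.split 2 (-54) (.lin 9) (.split 1
    (-1692) .sq (.split 5 1616 (.split 3 (-1776) (.lin 6) (.splitN 3059902 (.split 3 (-1656) .sq
    (.split 5 1499 (.split 1 (-1569) (.lin 2) (.split 0 74 (.split 4 97 (.splitN 1097746 (.wt 1)
    (.splitN 1811961 (.split 3 (-1168) (.wt 0) (.split 5 1013 (.split 1 (-1083) (.lin 2) (.splitN
    1166186 (.wt 1) (.split 3 (-981) (.wt 0) (.split 5 824 (.split 3 (-646) (.wt 2) (.split 5 491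
    (.split 3 (-573) (.wt 2) (.split 5 419 (.split 1 (-489) (.lin 2) (.splitN 1575109 (.wt 1)
    (.split 3 (-538) (.split 1 (-461) (.wt 0) (.lin 2)) (.split 5 383 (.split 1 (-453) (.lin 2)
    (.splitN 1664709 (.wt 1) .cand)) (.lin 1))))) (.lin 1))) (.lin 1))) (.lin 1))))) (.lin 1)))
    (.wt 3))) (.lin 3)) (.split 4 105 (.lin 3) (.splitN 1499340 (.wt 0) (.wt 6))))) (.lin 1)))
    (.wt 1))) (.lin 0))))) (.wt 2)) (.wt 1))) (.lin 0))) (.wt 1)) (.lin 12)) (.wt 2))) (.div 5))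
    (.wt 1)) (.lin 2))) (.split 1 (-417) (.lin 2) (.split 0 82 (.split 1 (-175) (.split 5 103
    (.lin 4) (.split 0 78 (.split 5 112 (.lin 4) (.split 4 97 (.split 3 (-295) (.split 5 139
    (.lin 1) (.split 3 (-336) (.split 5 184 (.lin 1) (.split 1 (-254) (.splitN 4854971 (.split 6
    86 (.split 2 (-54) (.lin 3) (.split 3 (-391) (.split 5 247 (.lin 1) (.split 3 (-449) (.split
    5 301 (.lin 1) (.split 1 (-395) (.split 5 328 (.lin 0) (.splitN 1851126 (.wt 0) (.wt 1)))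
    (.wt 2))) (.wt 2))) (.wt 2))) (.wt 0)) (.wt 1)) (.lin 2))) (.wt 2))) (.wt 2)) (.lin 12)))
    (.wt 2))) (.wt 0)) (.wt 0))))) (.lin 9)))

def cert5_115_2 : Cert :=
  (.split 5 90 (.split 1 (-174) (.lin 0) (.split 3 (-273) (.lin 6) (.split 1 (-147) (.lin 8)
    (.split 0 52 (.split 1 (-138) (.lin 4) (.split 4 79 (.split 6 111 (.split 2 (-90) (.lin 3)
    (.split 3 (-246) (.lin 6) (.split 5 46 (.wt 1) (.split 3 (-191) (.split 1 (-92) (.split 0 47
    (.split 4 70 (.splitN 2340955 (.wt 1) (.wt 0)) (.lin 12)) (.split 4 78 (.lin 12) (.split 1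
    (-106) (.split 3 (-209) (.split 5 58 (.lin 4) (.split 1 (-111) (.split 5 67 (.lin 4) (.split
    6 105 (.split 2 (-72) (.lin 3) (.split 5 68 (.wt 1) (.split 1 (-128) (.split 3 (-227)
    (.splitN 43318914 (.split 5 81 (.split 1 (-129) (.lin 0) (.split 3 (-228) (.lin 6) (.wt 0)))
    (.split 3 (-238) (.lin 1) (.wt 2))) (.wt 3)) (.lin 6)) (.lin 0)))) (.wt 0))) (.wt 0))) (.lin
    2)) (.wt 0)))) (.lin 8)) (.lin 1))))) (.split 3 (-200) (.split 2 (-89) (.split 0 47 (.split 1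
    (-129) (.lin 4) (.split 4 70 (.split 5 58 (.wt 2) (.split 3 (-218) (.split 1 (-101) (.splitN
    1352011 (.wt 1) (.splitN 2798733 (.split 1 (-124) (.wt 0) (.split 5 77 (.splitN 1761553 (.wt
    1) (.split 1 (-112) (.wt 0) (.split 5 68 (.wt 1) (.lin 4)))) (.lin 4))) (.wt 5))) (.lin 8))
    (.lin 1))) (.lin 12))) (.split 4 78 (.lin 12) (.wt 5))) (.lin 9)) (.lin 6))) (.lin 12)))
    (.split 4 87 (.lin 12) (.wt 0)))))) (.split 3 (-236) (.split 1 (-137) (.split 0 52 (.split 4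
    79 (.split 3 (-480) (.split 5 310 (.lin 1) (.split 1 (-362) (.splitN 816332 (.split 0 44 (.wt
    2) (.split 4 78 (.lin 12) (.split 6 101 (.wt 2) (.split 2 (-80) (.split 1 (-672) .sq (.split
    5 635 (.split 3 (-813) (.lin 6) (.splitN 750943 (.split 6 116 (.split 2 (-90) (.lin 3)
    (.split 1 (-622) .sq (.split 5 572 (.split 3 (-741) (.lin 6) (.split 6 115 (.split 2 (-81)
    (.lin 3) (.split 5 328 (.lin 1) (.splitN 605591 (.wt 1) (.split 1 (-541) (.wt 0) (.split 5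
    482 (.split 1 (-455) (.wt 2) (.split 5 401 (.splitN 651864 (.wt 1) (.split 1 (-416) (.wt 0)
    (.split 5 356 (.split 1 (-364) (.wt 2) (.lin 0)) (.lin 0)))) (.lin 0))) (.lin 0)))))) (.wt
    2))) (.lin 0)))) (.wt 2)) (.wt 1))) (.lin 0))) (.lin 3))))) (.wt 3)) (.lin 2))) (.split 5 338
    (.split 1 (-381) (.lin 2) (.split 6 111 (.split 2 (-90) (.lin 3) (.split 2 (-81) (.lin 9)
    (.split 0 47 (.split 4 70 (.splitN 701101 (.wt 1) (.wt 0)) (.lin 12)) (.split 1 (-146)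
    (.split 4 78 (.lin 12) (.splitN 626813 (.wt 3) (.split 5 179 (.split 1 (-237) (.lin 0)
    (.split 3 (-336) (.lin 6) (.split 6 102 (.split 2 (-72) (.lin 3) (.split 5 135 (.split 5 113
    (.split 1 (-165) (.lin 0) (.splitN 1870901 (.wt 1) (.split 5 104 (.split 1 (-156) (.lin 0)
    (.split 3 (-250) (.split 1 (-155) (.splitN 2347145 (.wt 1) (.wt 0)) (.lin 2)) (.split 1
    (-147) (.lin 2) (.splitN 3330078 (.wt 0) (.wt 1))))) (.split 1 (-164) (.split 3 (-263) (.wt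
    0) (.lin 6)) (.lin 0))))) (.split 1 (-173) (.split 3 (-272) (.wt 2) (.lin 6)) (.lin 0)))
    (.split 1 (-191) (.split 3 (-290) (.splitN 1210423 (.wt 6) (.split 1 (-196) (.wt 0) (.split 5
    140 (.wt 0) (.lin 0)))) (.lin 6)) (.lin 0)))) (.split 2 (-80) (.splitN 1923664 (.split 1
    (-165) (.split 5 121 (.lin 0) (.wt 2)) (.wt 0)) (.wt 1)) (.lin 3))))) (.split 1 (-227)
    (.split 3 (-335) (.split 6 102 (.wt 2) (.split 2 (-80) (.split 3 (-368) (.split 5 211 (.lin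
    1) (.split 3 (-392) (.split 5 238 (.lin 1) (.split 1 (-290) (.splitN 781180 .cand (.wt 1))
    (.lin 2))) (.wt 2))) (.wt 2)) (.lin 3))) (.lin 6)) (.lin 0))))) (.lin 4))))) (.split 2 (-80)
    (.split 3 (-254) (.split 2 (-89) (.split 5 320 (.split 0 47 (.split 4 70 (.splitN 533427 (.wt
    1) (.split 1 (-287) (.wt 0) (.split 5 248 (.splitN 583798 (.wt 1) (.split 1 (-237) (.wt 0)
    (.split 5 203 (.splitN 635222 (.wt 1) (.split 1 (-204) (.wt 0) (.split 5 167 (.split 5 158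
    (.splitN 722926 (.wt 1) (.split 1 (-171) (.wt 0) (.split 5 122 (.wt 2) (.lin 4)))) (.lin 4))
    (.lin 0)))) (.lin 0)))) (.lin 0)))) (.lin 12)) (.split 1 (-146) (.split 4 78 (.lin 12)
    (.splitN 1419362 (.split 1 (-185) (.split 5 130 (.lin 0) (.wt 2)) (.wt 0)) (.wt 1))) (.lin
    4))) (.lin 1)) (.lin 9)) (.lin 6)) (.lin 3)))) (.lin 1))) (.lin 12)) (.split 1 (-155) (.split
    4 87 (.lin 12) (.splitN 11524390 (.split 5 64012 (.split 3 (-64191) (.lin 6) (.split 3 (-332)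
    (.split 5 148 (.lin 1) (.split 1 (-209) (.splitN 1748583 (.split 1 (-19413) (.div 1) (.split
    5 9706 (.split 3 (-9885) (.lin 6) (.split 3 (-483) (.split 5 301 (.lin 1) (.split 1 (-362)
    (.splitN 943859 (.split 5 5242 (.split 1 (-5322) (.lin 0) (.split 6 116 (.split 2 (-90) (.lin
    3) (.split 3 (-816) (.split 5 643 (.lin 1) .sq) (.wt 2))) (.wt 0))) (.div 5)) (.wt 1)) (.lin
    2))) (.wt 2))) (.div 5))) (.wt 1)) (.lin 2))) (.wt 2))) (.div 5)) (.wt 1))) (.lin 4))) (.lin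
    8)) (.lin 6)))

def cert5_115_3 : Cert :=
  (.split 7 (-33) (.split 2 (-90) (.lin 9) (.split 4 78 (.lin 12) (.splitN 588905 (.split 1
    (-730) .sq (.split 5 707 (.split 3 (-746) .sq (.split 1 (-642) (.lin 2) (.split 0 65 (.split
    4 97 (.splitN 331258 (.split 1 (-527) .sq (.split 5 509 (.split 3 (-548) .sq (.split 5 401
    (.split 1 (-444) (.lin 2) (.split 0 52 (.split 4 88 (.split 3 (-485) (.wt 2) (.split 5 338
    (.split 3 (-461) (.wt 2) (.split 5 311 (.split 5 54 (.wt 2) (.split 3 (-200) (.split 0 45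
    (.wt 2) (.split 1 (-110) (.split 4 87 (.lin 12) (.splitN 167791 (.wt 1) (.split 1 (-323) (.wt
    0) (.split 5 266 (.split 1 (-263) (.wt 2) (.split 5 203 (.split 1 (-214) (.wt 2) (.split 5
    158 (.splitN 181387 (.wt 1) (.split 1 (-193) (.wt 0) (.split 5 140 (.split 6 100 (.wt 0)
    (.split 2 (-71) (.split 3 (-218) (.splitN 210868 (.split 1 (-165) (.wt 0) (.split 5 113
    (.splitN 194950 (.wt 1) (.split 1 (-129) (.wt 0) (.split 5 77 (.wt 1) (.lin 4)))) (.lin 4)))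
    (.wt 0)) (.lin 6)) (.lin 3))) (.lin 4)))) (.lin 4))) (.lin 4))) (.lin 4))))) (.lin 4))) (.lin
    1))) (.lin 1))) (.lin 1))) (.lin 12)) (.split 3 (-200) (.split 1 (-101) (.split 4 96 (.lin
    12) (.splitN 281666 .cand (.wt 3))) (.lin 4)) (.lin 1)))) (.lin 1))) (.lin 0))) (.wt 3))
    (.lin 12)) (.split 3 (-209) (.split 1 (-110) (.split 4 105 (.lin 12) (.splitN 398863 (.splitN
    166471 (.wt 3) (.split 3 (-593) .sq (.split 5 131 (.split 3 (-345) (.lin 6) (.split 5 73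
    (.split 1 (-183) (.lin 0) (.split 3 (-282) (.lin 6) (.split 1 (-156) (.lin 8) (.split 6 111
    (.split 3 (-264) (.lin 6) (.split 2 (-72) (.lin 9) (.split 0 79 (.split 1 (-147) (.lin 4)
    (.split 4 115 (.split 5 54 (.split 1 (-138) (.lin 0) (.split 3 (-237) (.lin 6) (.split 0 74
    (.split 1 (-120) (.lin 4) (.split 4 106 (.split 5 41 (.wt 2) (.split 1 (-119) (.splitN 278173
    (.split 6 100 (.wt 1) (.split 2 (-71) (.splitN 268508 (.wt 0) (.wt 1)) (.lin 0))) (.wt 3))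
    (.lin 4))) (.lin 12))) (.split 1 (-119) (.split 4 114 (.lin 12) (.splitN 320420 (.split 5 47
    (.split 1 (-120) (.lin 4) (.split 6 104 (.split 2 (-63) (.lin 0) (.splitN 314325 (.wt 1) (.wt
    0))) (.wt 0))) (.wt 2)) (.wt 1))) (.lin 4))))) (.split 1 (-119) (.split 3 (-227) (.split 1
    (-128) (.split 0 74 (.split 3 (-246) (.lin 1) (.split 1 (-138) (.lin 4) (.split 4 106 (.split
    6 98 (.wt 2) (.splitN 252347 (.wt 0) (.wt 1))) (.lin 12)))) (.split 4 114 (.lin 12) (.splitN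
    263483 (.wt 0) (.wt 1)))) (.lin 8)) (.lin 6)) (.lin 0))) (.lin 12))) (.split 1 (-128) (.split
    4 123 (.lin 12) (.splitN 288360 (.wt 0) (.splitN 311320 (.split 1 (-135) (.split 5 49 (.lin
    4) (.wt 1)) (.wt 0)) (.wt 1)))) (.lin 4))))) (.split 2 (-80) (.splitN 295074 (.splitN 235209
    (.wt 3) (.split 0 83 (.split 4 115 (.split 5 63 (.split 3 (-264) (.lin 1) (.split 1 (-138)
    (.lin 8) (.splitN 250871 (.wt 0) (.split 0 77 (.split 4 106 (.split 5 50 (.split 3 (-246)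
    (.lin 1) (.split 1 (-120) (.lin 8) (.wt 2))) (.wt 1)) (.lin 12)) (.wt 0))))) (.wt 1)) (.lin
    12)) (.wt 0))) (.wt 1)) (.lin 9)))))) (.split 1 (-146) (.splitN 257611 .cand (.wt 1)) (.lin
    8)))) (.split 3 (-308) (.split 1 (-209) (.splitN 189098 .sq (.splitN 224890 (.split 6 124
    (.split 2 (-81) (.lin 9) (.split 1 (-281) .sq (.split 3 (-390) (.lin 2) (.split 0 78 (.split
    4 106 (.splitN 214456 (.split 6 115 (.split 2 (-72) (.lin 3) (.split 1 (-257) .sq (.split 3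
    (-363) (.lin 2) (.split 5 185 (.split 6 105 (.wt 2) (.wt 2)) (.lin 4))))) (.wt 1)) (.wt 1))
    (.lin 12)) (.wt 2))))) (.wt 1)) (.wt 1))) (.lin 8)) (.lin 6))))) (.wt 1))) (.lin 4)) (.lin
    1))))) (.lin 0))) (.wt 3)))) (.split 2 (-71) (.split 4 115 (.split 0 65 (.split 4 88
    cert5_115_2 (.lin 12)) (.split 4 96 (.lin 12) (.split 1 (-157) (.split 5 76 (.lin 4) (.split
    1 (-203) (.split 5 121 (.lin 4) (.splitN 2292066 (.split 5 12730 (.split 3 (-12936) (.lin 6)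
    (.wt 2)) (.div 5)) (.wt 1))) (.wt 0))) (.wt 0)))) (.lin 12)) (.lin 9)))

def cert5_115_4 : Cert :=
  (.split 6 93 (.split 2 (-63) (.lin 9) (.splitN 152149 (.wt 1) (.split 7 (-33) (.split 2 (-54)
    (.lin 9) (.splitN 637540 (.split 5 3532 (.split 0 49 (.wt 2) (.split 3 (-155) (.split 1 (-92)
    (.split 4 87 (.lin 12) (.split 6 62 (.wt 2) (.split 3 (-164) (.split 2 (-35) (.split 0 52
    (.wt 2) (.split 3 (-173) (.split 1 (-101) (.split 4 96 (.lin 12) (.splitN 428814 (.split 1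
    (-614) .sq (.split 5 563 (.splitN 174176 (.wt 1) (.split 5 141 (.split 6 80 (.split 2 (-45)
    (.lin 9) (.split 0 68 (.wt 2) (.split 4 105 (.lin 12) (.split 5 52 (.wt 2) (.split 1 (-119)
    (.split 3 (-200) (.split 0 76 (.wt 2) (.split 1 (-137) (.split 3 (-278) (.wt 2) (.split 5 122
    (.split 3 (-260) (.wt 2) (.split 5 104 (.split 0 81 (.wt 2) (.split 3 (-218) (.split 5 95
    (.split 1 (-146) (.splitN 271743 (.wt 6) (.split 1 (-157) (.wt 0) (.split 5 68 (.wt 0) (.lin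
    4)))) (.lin 4)) (.lin 1)) (.lin 1))) (.lin 1))) (.lin 1))) (.lin 4))) (.lin 6)) (.lin 0))))))
    (.split 3 (-191) (.split 2 (-53) (.split 0 61 (.wt 2) (.split 4 105 (.lin 3) (.split 1 (-110)
    (.splitN 363089 .cand (.wt 3)) (.lin 8)))) (.lin 9)) (.lin 6))) (.split 3 (-281) (.split 1
    (-209) (.splitN 250928 .cand (.wt 3)) (.lin 8)) (.lin 6)))) (.lin 0))) (.wt 3))) (.lin 4))
    (.lin 1))) (.lin 9)) (.lin 6)))) (.lin 4)) (.lin 1))) (.div 5)) (.wt 3))) (.split 2 (-35)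
    (.split 4 115 (.split 0 65 (.split 4 88 (.split 6 62 (.wt 6) (.split 3 (-155) (.split 2 (-44)
    (.split 5 90 (.split 1 (-165) (.lin 0) (.split 3 (-237) (.lin 6) (.split 0 46 (.wt 1) (.split
    3 (-164) (.split 4 78 (.lin 12) (.split 5 65 (.wt 1) (.split 3 (-191) (.split 0 52 (.wt 1)
    (.split 4 87 (.lin 12) (.split 6 80 (.wt 1) (.wt 0)))) (.lin 1)))) (.lin 1))))) (.split 1
    (-119) (.split 3 (-209) (.split 1 (-137) (.split 0 46 (.wt 2) (.split 1 (-146) (.split 4 78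
    (.lin 12) (.split 3 (-11597) (.wt 2) (.split 5 11471 (.split 3 (-9333) (.wt 2) (.split 5 9203
    (.split 6 80 (.split 2 (-54) (.lin 9) (.split 3 (-434) (.wt 2) (.split 5 302 (.split 1 (-354)
    (.lin 2) (.split 0 54 (.wt 2) (.split 3 (-227) (.split 4 87 (.lin 12) (.split 5 96 (.wt 1)
    (.split 1 (-164) (.split 3 (-302) (.wt 2) (.split 5 167 (.split 1 (-228) (.lin 2) (.splitN
    4203892 (.wt 1) (.split 6 73 (.wt 0) (.split 2 (-53) (.split 3 (-245) (.split 5 158 (.splitN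
    13326478 (.wt 6) (.split 1 (-173) (.wt 0) (.split 5 104 (.wt 0) (.lin 0)))) (.lin 1)) (.lin
    6)) (.lin 3))))) (.lin 1))) (.lin 4)))) (.lin 1)))) (.lin 1)))) (.split 2 (-53) (.split 3
    (-236) (.split 2 (-62) (.split 3 (-1484) (.split 5 1336 (.lin 1) (.split 1 (-1397) (.splitN
    5971841 .sq (.wt 0)) (.lin 2))) (.split 5 1337 (.split 3 (-591) (.split 1 (-506) (.wt 2)
    (.lin 2)) (.split 5 446 (.split 1 (-498) (.lin 2) (.split 0 56 (.split 4 79 (.splitN 935991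
    (.wt 1) (.split 1 (-228) (.wt 0) (.split 5 176 (.splitN 1758718 (.wt 1) (.wt 0)) (.lin 0))))
    (.lin 3)) (.split 4 87 (.lin 3) (.split 3 (-412) (.split 5 265 (.lin 1) (.split 1 (-326)
    (.split 3 (-546) (.wt 2) (.split 5 392 (.split 1 (-453) (.lin 2) (.split 3 (-479) (.split 1
    (-389) (.splitN 1059931 (.splitN 1015105 (.wt 1) (.split 1 (-415) (.wt 0) (.split 5 347 (.wt
    1) (.lin 0)))) (.wt 0)) (.lin 2)) (.split 1 (-381) (.lin 2) (.splitN 1052170 (.wt 0) (.splitN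
    1238532 .cand (.wt 1)))))) (.lin 1))) (.lin 2))) (.split 1 (-318) (.lin 2) (.split 3 (-263)
    (.split 5 112 (.lin 1) (.split 3 (-294) (.split 5 148 (.lin 1) (.split 1 (-223) (.split 5 166
    (.lin 0) (.splitN 1889685 (.split 1 (-243) (.split 5 184 (.lin 0) (.splitN 1641693 (.split 1
    (-270) (.split 5 211 (.lin 0) (.wt 2)) (.wt 0)) (.wt 1))) (.wt 0)) (.wt 1))) (.wt 2))) (.wt
    2))) (.wt 2))))))) (.lin 1))) (.lin 1))) (.lin 9)) (.lin 6)) (.lin 3))) (.lin 1))) (.lin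
    1)))) (.lin 4))) (.lin 8)) (.lin 6)) (.lin 0))) (.lin 9)) (.lin 6))) (.lin 12)) (.split 3
    (-173) (.split 4 96 (.lin 12) cert5_115_1) (.lin 1))) (.lin 12)) (.lin 9))))) (.split 3
    (-173) (.split 2 (-62) cert5_115_3 (.lin 9)) (.lin 6)))

def cert5_115_5 : Cert :=
  (.split 5 23 (.split 0 97 (.wt 2) (.split 1 (-119) (.split 0 220 (.split 3 (-327) (.lin 1)
    (.split 1 (-264) (.lin 2) (.split 4 313 (.split 4 277 (.split 1 (-237) (.lin 4) (.split 4 259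
    (.split 0 113 (.wt 2) (.split 3 (-191) (.split 1 (-128) (.split 0 124 (.wt 2) (.split 3
    (-209) (.split 1 (-146) (.split 4 168 (.lin 12) (.splitN 481605 (.wt 1) (.split 6 64 (.wt 0)
    (.split 2 (-35) (.splitN 1789798 (.split 5 15 (.wt 1) (.split 3 (-227) (.split 1 (-155)
    (.split 0 147 (.wt 2) (.split 3 (-245) (.split 1 (-173) (.split 4 186 (.lin 8) (.splitN
    513168 (.wt 1) (.split 6 72 (.wt 0) (.split 2 (-44) (.split 0 160 (.wt 2) (.split 3 (-272)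
    (.split 1 (-191) (.split 0 177 (.wt 2) (.split 6 83 (.wt 2) (.split 2 (-53) (.splitN 660752
    .cand (.wt 1)) (.lin 9)))) (.lin 4)) (.lin 1))) (.lin 9))))) (.lin 4)) (.lin 1))) (.lin 8))
    (.lin 1))) (.wt 5)) (.lin 9))))) (.lin 4)) (.lin 1))) (.lin 4)) (.lin 1))) (.lin 8))) (.lin
    3)) (.lin 0)))) (.split 3 (-299) (.split 1 (-209) (.split 1 (-236) (.split 4 249 (.lin 8)
    (.split 6 66 (.wt 2) (.split 2 (-35) (.split 5 18 (.wt 2) (.split 3 (-317) (.split 6 80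
    (.split 2 (-45) (.lin 9) (.splitN 6812615 (.split 1 (-75681) (.div 1) (.split 4 75697 (.split
    0 75670 (.split 0 263 (.wt 2) (.split 3 (-362) (.split 1 (-281) (.splitN 2890428 (.split 1
    (-32085) (.div 1) (.split 4 32101 (.split 0 32074 (.split 0 314 (.wt 2) (.split 3 (-416)
    (.split 1 (-335) (.splitN 1916659 (.split 1 (-21285) (.div 1) (.split 4 21301 (.split 0 21274
    (.split 0 380 (.wt 2) (.split 3 (-479) (.split 1 (-398) (.splitN 1491066 (.split 1 (-16533)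
    (.div 1) (.split 4 16549 (.split 0 16522 (.split 0 463 (.wt 2) (.split 3 (-560) (.split 1
    (-479) (.split 4 483 (.lin 0) (.splitN 1002617 .sq (.splitN 1238351 (.split 1 (-13725) (.div
    1) (.split 4 13741 (.split 0 727 (.wt 0) (.split 3 (-830) (.split 1 (-749) (.split 4 753
    (.lin 0) .sq) (.lin 2)) (.lin 1))) (.lin 0))) (.wt 3)))) (.lin 2)) (.lin 1))) (.lin 3)) (.lin
    0))) (.wt 3)) (.lin 2)) (.lin 1))) (.lin 3)) (.lin 0))) (.wt 3)) (.lin 2)) (.lin 1))) (.lin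
    3)) (.lin 0))) (.wt 3)) (.lin 2)) (.lin 1))) (.lin 3)) (.lin 0))) (.wt 3))) (.split 3 (-335)
    (.split 2 (-53) (.splitN 954364 (.split 1 (-10593) (.div 1) (.split 4 10600 (.split 3
    (-10677) (.lin 6) (.split 0 3004 (.split 3 (-3117) (.lin 1) (.split 1 (-3027) (.lin 2)
    (.split 0 1573 (.split 3 (-1686) (.lin 1) (.split 1 (-1596) (.lin 2) (.split 0 996 (.split 3
    (-1101) (.lin 1) (.split 1 (-1011) (.lin 2) (.split 0 696 (.split 3 (-804) (.lin 1) (.split 1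
    (-714) (.lin 2) (.split 0 525 (.split 3 (-633) (.lin 1) (.split 1 (-543) (.lin 2) (.split 4
    556 (.splitN 724207 (.split 0 419 (.split 3 (-525) (.lin 1) (.split 1 (-435) (.lin 2) (.split
    0 350 (.split 3 (-462) (.lin 1) (.split 1 (-372) (.lin 2) (.split 0 308 (.split 3 (-417)
    (.lin 1) (.split 1 (-327) (.lin 2) (.split 0 278 (.split 3 (-390) (.lin 1) (.split 0 259
    (.split 4 295 (.split 1 (-282) (.lin 8) (.splitN 538129 (.wt 1) .cand)) (.lin 3)) (.wt 2)))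
    (.wt 2)))) (.wt 2)))) (.wt 2)))) (.wt 2)) (.wt 1)) (.lin 0)))) (.wt 2)))) (.wt 2)))) (.wt
    2)))) (.wt 2)))) (.wt 2))) (.lin 0))) (.wt 1)) (.lin 9)) (.lin 7))) (.lin 1))) (.lin 9))))
    (.lin 4)) (.lin 2)) (.lin 1))) (.lin 4))) (.split 3 (-191) (.split 1 (-128) (.split 0 202
    (.split 3 (-318) (.lin 1) (.split 1 (-255) (.lin 2) (.split 4 286 (.split 1 (-228) (.lin 4)
    (.split 4 232 (.split 6 67 (.wt 2) (.split 2 (-35) (.split 6 80 (.split 2 (-45) (.lin 9)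
    (.splitN 363295 (.wt 1) (.split 0 115 (.wt 2) (.split 3 (-227) (.split 1 (-146) (.split 1
    (-155) (.split 0 135 (.wt 2) (.split 3 (-245) (.split 1 (-173) (.split 0 146 (.wt 2) (.split
    6 73 (.wt 2) (.split 2 (-44) (.splitN 512490 .cand (.wt 1)) (.lin 9)))) (.lin 4)) (.lin 1)))
    (.lin 4)) (.lin 2)) (.lin 1))))) (.split 3 (-218) (.split 2 (-53) (.split 0 97 (.wt 2)
    (.split 4 141 (.lin 3) (.split 0 148 (.split 3 (-264) (.lin 1) (.split 1 (-174) (.lin 2)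
    (.split 0 127 (.split 3 (-246) (.lin 1) (.split 0 120 (.split 4 151 (.split 1 (-147) (.lin 8)
    (.split 0 107 (.wt 2) (.split 3 (-236) (.split 1 (-146) (.split 4 150 (.lin 0) (.splitN
    405593 (.wt 1) (.wt 1))) (.lin 2)) (.lin 1)))) (.lin 3)) (.wt 2))) (.wt 2)))) (.wt 2))))
    (.lin 9)) (.lin 6))) (.lin 9))) (.lin 8))) (.lin 0)))) (.split 3 (-299) (.split 1 (-236)
    (.split 4 240 (.lin 8) (.split 6 75 (.split 2 (-36) (.lin 9) (.splitN 2598113 (.split 1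
    (-28845) (.div 1) (.split 4 28852 (.split 0 28825 (.split 0 241 (.wt 2) (.split 3 (-344)
    (.split 1 (-272) (.splitN 1727945 (.split 1 (-19197) (.div 1) (.split 4 19204 (.split 0 19177
    (.split 0 284 (.wt 2) (.split 3 (-380) (.split 1 (-308) (.splitN 1402400 (.split 1 (-15561)
    (.div 1) (.split 4 15568 (.split 0 15541 (.split 0 323 (.wt 2) (.split 3 (-425) (.split 1
    (-353) (.splitN 1185931 (.split 1 (-13149) (.div 1) (.split 4 13156 (.split 0 13129 (.split 0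
    373 (.wt 2) (.split 3 (-470) (.split 1 (-398) (.splitN 1056457 (.split 1 (-11709) (.div 1)
    (.split 4 11716 (.split 0 426 (.wt 2) (.split 3 (-524) (.split 1 (-452) (.split 4 447 (.lin
    0) (.splitN 871397 .sq (.splitN 957596 (.split 0 768 (.wt 0) (.split 3 (-866) .sq (.lin 1)))
    (.wt 3)))) (.lin 2)) (.lin 1))) (.lin 0))) (.wt 3)) (.lin 2)) (.lin 1))) (.lin 3)) (.lin 0)))
    (.wt 3)) (.lin 2)) (.lin 1))) (.lin 3)) (.lin 0))) (.wt 3)) (.lin 2)) (.lin 1))) (.lin 3))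
    (.lin 0))) (.wt 3)) (.lin 2)) (.lin 1))) (.lin 3)) (.lin 0))) (.wt 3))) (.split 2 (-44)
    (.splitN 644409 (.split 1 (-7137) (.div 1) (.split 4 7144 (.split 3 (-7230) (.lin 6) (.split
    0 934 (.split 3 (-1056) (.lin 1) (.split 1 (-975) (.lin 2) (.split 0 462 (.split 3 (-579)
    (.lin 1) (.split 1 (-498) (.lin 2) (.split 0 306 (.split 3 (-426) (.lin 1) (.split 1 (-345)
    (.lin 2) (.split 4 340 (.splitN 482974 (.split 6 88 (.split 2 (-45) (.lin 9) (.split 0 292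
    (.split 3 (-399) (.lin 1) (.split 1 (-318) (.lin 2) (.split 0 267 (.split 3 (-372) (.lin 1)
    (.split 1 (-291) (.lin 2) (.split 0 210 (.split 3 (-318) (.lin 1) (.split 1 (-237) (.lin 2)
    (.wt 0))) (.wt 2)))) (.wt 0)))) (.wt 0))) (.wt 0)) (.wt 1)) (.lin 12)))) (.wt 2)))) (.wt
    2)))) (.wt 2))) (.lin 0))) (.wt 1)) (.lin 9)))) (.lin 4)) (.lin 1))) (.lin 8)) (.lin 1)))

def cert5_115_6 : Cert :=
  (.split 0 202 (.split 3 (-345) (.lin 1) (.split 1 (-246) (.lin 2) (.split 4 259 (.split 1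
    (-219) (.lin 4) (.split 4 241 (.split 5 18 (.splitN 991930 (.wt 1) (.split 0 104 (.wt 0)
    (.split 3 (-218) (.split 1 (-119) (.split 4 141 (.lin 8) (.splitN 1086232 (.wt 1) (.split 0
    117 (.wt 0) (.split 3 (-236) (.split 1 (-137) (.split 4 159 (.lin 8) (.splitN 1231270 (.wt 1)
    (.split 0 139 (.wt 0) (.split 3 (-254) (.split 1 (-155) (.wt 2) (.lin 4)) (.lin 1))))) (.lin
    4)) (.lin 1))))) (.lin 4)) (.lin 1)))) (.split 3 (-218) (.split 1 (-119) (.split 0 146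
    (.split 3 (-291) (.lin 1) (.split 1 (-192) (.lin 2) (.split 1 (-165) (.lin 4) (.split 4 178
    (.split 6 111 (.split 3 (-273) (.lin 6) (.split 2 (-72) (.lin 9) (.split 0 119 (.split 3
    (-246) (.lin 1) (.split 1 (-147) (.lin 2) (.split 1 (-138) (.lin 4) (.split 4 151 (.split 0
    99 (.wt 2) (.split 1 (-128) (.split 4 141 (.lin 8) (.split 6 99 (.wt 2) (.split 3 (-236)
    (.split 2 (-71) (.split 0 111 (.split 4 142 (.split 1 (-129) (.lin 8) (.splitN 468967 (.wt 1)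
    (.wt 0))) (.lin 3)) (.wt 2)) (.lin 9)) (.lin 6)))) (.lin 4))) (.lin 8))))) (.split 3 (-245)
    (.split 1 (-137) (.split 1 (-146) (.split 4 159 (.lin 8) (.splitN 421017 (.wt 1) (.split 6
    104 (.split 2 (-63) (.lin 9) (.split 0 127 (.wt 2) (.split 4 168 (.lin 3) (.split 1 (-155)
    (.splitN 542577 .cand (.wt 1)) (.lin 8))))) (.wt 2)))) (.lin 4)) (.lin 2)) (.lin 1)))))
    (.split 3 (-236) (.split 2 (-80) (.splitN 505888 (.split 0 130 (.split 3 (-273) (.lin 1)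
    (.split 1 (-156) (.lin 2) (.split 0 119 (.split 1 (-138) (.lin 4) (.split 4 151 (.splitN
    478359 (.split 0 111 (.split 3 (-255) (.lin 1) (.split 1 (-129) (.lin 4) (.split 0 104
    (.split 1 (-120) (.lin 4) (.split 4 133 (.split 6 120 (.split 2 (-81) (.lin 0) (.split 3
    (-237) (.lin 6) (.splitN 474318 (.wt 0) (.wt 0)))) (.wt 0)) (.lin 8))) (.wt 0)))) (.wt 0))
    (.wt 1)) (.lin 8))) (.wt 0)))) (.wt 0)) (.wt 1)) (.lin 9)) (.lin 6))) (.lin 8))))) (.split 1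
    (-173) (.split 4 186 (.lin 8) (.splitN 559689 (.split 6 111 (.split 3 (-327) (.lin 7) (.split
    2 (-72) (.lin 9) (.split 0 163 (.split 3 (-291) (.lin 1) (.split 1 (-192) (.lin 2) (.wt 2)))
    (.wt 2)))) (.wt 0)) (.wt 1))) (.lin 4))) (.lin 8)) (.lin 1))) (.lin 8))) (.lin 3)))) (.split
    3 (-317) (.split 1 (-218) (.split 4 231 (.lin 8) (.split 5 18 (.split 0 418 (.split 3 (-552)
    (.lin 1) (.split 1 (-453) (.lin 2) (.split 4 502 (.split 4 475 (.split 1 (-426) (.lin 4)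
    (.split 4 448 (.split 0 230 (.wt 2) (.split 3 (-344) (.split 1 (-245) (.split 0 255 (.wt 2)
    (.split 3 (-371) (.split 1 (-272) (.split 4 294 (.lin 8) (.splitN 1133914 (.wt 1) (.split 6
    101 (.wt 0) (.split 2 (-71) (.split 0 279 (.wt 2) (.split 3 (-407) (.split 1 (-299) (.split 4
    321 (.lin 8) (.splitN 1204013 (.wt 1) (.split 6 107 (.wt 0) (.split 2 (-80) (.split 0 309
    (.wt 2) (.split 3 (-443) (.split 1 (-317) (.split 0 337 (.wt 2) (.split 3 (-470) (.split 1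
    (-344) (.split 4 357 (.lin 0) (.splitN 1304272 (.wt 1) (.split 0 362 (.wt 2) (.split 3 (-497)
    (.split 1 (-371) (.split 6 118 (.wt 0) (.split 2 (-89) (.split 0 388 (.wt 2) (.split 3 (-533)
    (.split 1 (-407) (.split 4 429 (.lin 0) (.splitN 1395228 (.wt 1) (.wt 0))) (.lin 2)) (.lin
    1))) (.lin 9))) (.lin 2)) (.lin 1))))) (.lin 2)) (.lin 1))) (.lin 2)) (.lin 1))) (.lin 9)))))
    (.lin 4)) (.lin 1))) (.lin 9))))) (.lin 4)) (.lin 1))) (.lin 4)) (.lin 1))) (.lin 8))) (.lin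
    3)) (.lin 0)))) (.split 3 (-533) (.split 1 (-434) (.split 4 456 (.lin 8) (.split 6 101 (.wt
    2) (.split 2 (-71) (.split 6 116 (.split 2 (-81) (.lin 9) (.split 0 513 (.wt 2) (.split 3
    (-641) (.split 1 (-524) (.splitN 19528452 (.split 1 (-216981) (.div 1) (.split 4 217006
    (.split 0 216979 (.split 0 666 (.wt 2) (.split 3 (-794) (.split 1 (-677) (.split 4 690 (.lin
    0) (.splitN 2037230 .sq (.splitN 5383374 (.split 1 (-59805) (.div 1) (.split 4 59830 (.split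
    0 59803 (.split 0 748 (.wt 0) (.split 3 (-875) (.split 1 (-758) (.split 4 771 (.lin 0)
    (.splitN 2522744 .sq (.splitN 4167202 (.split 0 1149 (.wt 0) (.split 3 (-1271) (.split 1
    (-1154) (.split 4 1167 (.lin 0) .sq) (.lin 2)) (.lin 1))) (.wt 3)))) (.lin 2)) (.lin 1)))
    (.lin 3)) (.lin 0))) (.wt 3)))) (.lin 2)) (.lin 1))) (.lin 3)) (.lin 0))) (.wt 3)) (.lin 2))
    (.lin 1)))) (.split 2 (-89) (.splitN 3381541 (.split 0 1635 (.split 3 (-1767) (.lin 1)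
    (.split 1 (-1641) (.lin 2) (.split 4 1663 (.splitN 2432171 (.split 0 1313 (.split 3 (-1452)
    (.lin 1) (.split 1 (-1326) (.lin 2) (.split 4 1348 (.splitN 2287904 (.split 0 790 (.split 3
    (-930) (.lin 1) (.split 1 (-804) (.lin 2) (.split 4 826 (.split 0 605 (.split 3 (-741) (.lin
    1) (.split 1 (-615) (.lin 2) (.split 4 637 (.split 0 511 (.split 3 (-651) (.lin 1) (.split 1
    (-525) (.lin 2) (.split 4 547 (.splitN 1287612 (.wt 1) (.split 0 466 (.split 3 (-606) (.lin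
    1) (.split 1 (-480) (.lin 2) (.split 4 502 (.split 0 443 (.split 4 475 (.split 1 (-453) (.lin
    8) (.splitN 1502504 (.splitN 1399697 (.wt 1) .cand) (.wt 0))) (.lin 3)) (.split 3 (-587)
    (.split 1 (-461) (.split 4 483 (.lin 0) (.splitN 1456474 (.splitN 1408039 (.wt 1) .cand) (.wt
    0))) (.lin 2)) (.lin 1))) (.lin 0)))) (.split 3 (-614) (.split 1 (-488) (.splitN 1473301
    .cand (.wt 1)) (.lin 2)) (.lin 1)))) (.lin 0)))) (.split 3 (-659) (.split 1 (-533) (.split 4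
    555 (.lin 0) (.splitN 1323017 .sq (.splitN 1491026 .cand (.wt 1)))) (.lin 2)) (.lin 1)))
    (.lin 0)))) (.split 3 (-749) (.split 1 (-623) (.split 4 645 (.lin 0) (.splitN 1763657 .sq
    (.wt 1))) (.lin 2)) (.lin 1))) (.lin 0)))) (.split 3 (-938) (.split 1 (-812) (.split 4 834
    (.lin 0) .sq) (.lin 2)) (.lin 1))) (.wt 1)) (.lin 0)))) .sq) (.wt 1)) (.lin 0)))) .sq) (.wt
    1)) (.lin 9))) (.lin 9)))) (.lin 4)) (.lin 1))) (.splitN 715355 (.split 1 (-7929) (.div 1)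
    (.split 4 7963 (.split 3 (-8076) (.lin 6) (.split 0 482 (.split 3 (-624) (.lin 1) (.split 1
    (-498) (.lin 4) (.split 4 511 (.splitN 572286 (.split 0 379 (.split 3 (-525) (.lin 1) (.split
    1 (-399) (.lin 4) (.splitN 540303 (.split 0 282 (.split 3 (-426) (.lin 1) (.wt 2)) (.wt 0))
    (.wt 6)))) (.wt 0)) (.wt 1)) (.lin 8)))) (.wt 2))) (.lin 0))) (.wt 1)))) (.lin 4)) (.lin 1)))

def cert5_115_7 : Cert :=
  (.split 6 75 (.split 2 (-36) (.lin 9) (.splitN 199431 (.wt 1) (.split 5 165 (.split 1 (-363)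
    (.lin 0) (.split 3 (-426) (.lin 6) (.splitN 226894 (.wt 1) (.split 5 80 (.split 1 (-282)
    (.lin 0) (.split 0 98 (.wt 2) (.split 3 (-209) (.split 0 151 (.split 4 196 (.split 0 108 (.wt
    2) (.split 1 (-155) (.split 4 150 (.lin 12) (.split 5 42 (.wt 2) (.split 3 (-227) (.split 1
    (-164) (.split 0 116 (.wt 2) (.split 1 (-173) (.split 4 159 (.lin 12) (.split 6 65 (.wt 2)
    (.split 3 (-245) (.split 2 (-35) (.splitN 402680 .cand (.wt 3)) (.lin 9)) (.lin 6)))) (.lin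
    4))) (.lin 8)) (.lin 1)))) (.lin 4))) (.lin 3)) (.split 3 (-263) (.split 1 (-191) (.split 4
    186 (.lin 3) (.splitN 294071 (.wt 1) (.split 6 62 (.wt 2) (.split 2 (-35) (.splitN 468720
    .cand (.wt 3)) (.lin 9))))) (.lin 2)) (.lin 1))) (.lin 1)))) (.split 1 (-173) (.split 3
    (-245) (.split 0 99 (.wt 2) (.split 1 (-191) (.split 0 151 (.split 4 196 (.splitN 391437
    (.split 6 62 (.wt 2) .cand) (.wt 3)) (.lin 3)) (.split 3 (-308) (.split 1 (-236) (.split 4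
    186 (.lin 3) (.split 6 66 (.split 2 (-27) (.lin 9) (.wt 2)) (.split 2 (-35) (.split 0 176
    (.split 3 (-399) (.lin 1) (.split 1 (-327) (.lin 2) (.split 4 205 (.splitN 292883 (.wt 5)
    (.split 5 111 (.split 1 (-273) (.lin 0) (.split 3 (-345) (.lin 6) (.splitN 317096 (.wt 0)
    (.wt 1)))) (.wt 1))) (.lin 3)))) (.wt 2)) (.lin 9)))) (.lin 2)) (.lin 1))) (.lin 4))) (.lin
    6)) (.lin 0)))))) (.split 1 (-254) (.split 3 (-326) (.splitN 376340 (.split 0 104 (.wt 2)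
    (.split 1 (-272) (.split 4 141 (.lin 12) (.split 1 (-450) .sq (.split 5 347 (.split 0 108
    (.wt 2) (.split 3 (-344) (.split 5 329 (.split 3 (-480) .sq (.split 5 302 (.split 6 66
    (.split 2 (-27) (.lin 9) (.splitN 327348 (.splitN 306585 (.wt 6) (.split 0 178 (.wt 0)
    (.split 3 (-416) (.split 4 222 (.lin 3) .sq) (.lin 1)))) (.wt 0))) (.split 2 (-35) (.split 0
    160 (.split 4 196 (.split 0 115 (.wt 2) (.split 4 159 (.lin 3) (.split 1 (-290) (.splitN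
    278936 .sq (.split 0 137 (.split 4 169 (.wt 0) (.lin 3)) (.wt 1))) (.lin 8)))) (.lin 3)) (.wt
    2)) (.lin 9))) (.lin 1))) (.lin 4)) (.lin 1))) (.lin 0)))) (.lin 4))) (.wt 3)) (.lin 6))
    (.lin 0))))) (.split 3 (-218) (.split 2 (-44) (.splitN 562974 (.split 1 (-690) .sq (.split 5
    599 (.split 3 (-885) (.lin 6) (.split 3 (-710) .sq (.split 5 146 (.split 1 (-345) (.lin 0)
    (.split 3 (-426) (.lin 6) (.split 0 146 (.split 3 (-372) (.lin 1) (.split 1 (-291) (.lin 2)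
    (.split 4 187 (.split 5 75 (.split 1 (-228) (.lin 0) (.split 3 (-309) (.lin 6) (.split 1
    (-210) (.lin 4) (.split 0 119 (.split 3 (-273) (.lin 1) (.split 1 (-192) (.lin 2) (.split 4
    151 (.split 5 54 (.split 3 (-255) (.lin 6) (.split 1 (-165) (.lin 8) (.split 6 84 (.split 2
    (-45) (.lin 9) (.split 0 101 (.wt 2) (.split 4 141 (.lin 3) (.split 5 41 (.wt 2) (.split 3
    (-236) (.split 0 108 (.wt 2) (.split 4 150 (.lin 3) (.split 1 (-164) (.splitN 335910 (.wt 0)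
    (.wt 1)) (.lin 8)))) (.lin 6)))))) (.split 2 (-53) (.splitN 352491 (.split 0 112 (.split 4
    142 (.split 1 (-156) (.lin 8) (.splitN 309854 (.wt 5) (.split 5 48 (.split 1 (-147) (.lin 0)
    (.split 3 (-237) (.lin 6) (.split 0 103 (.split 4 133 (.split 1 (-138) (.lin 8) (.splitN
    335010 (.wt 0) (.split 3 (-229) (.lin 1) (.wt 1)))) (.lin 3)) (.wt 0)))) (.wt 1)))) (.lin 3))
    (.wt 0)) (.wt 1)) (.lin 9))))) (.split 3 (-236) (.split 1 (-155) (.splitN 332424 (.split 6 86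
    (.split 2 (-45) (.lin 9) (.splitN 275321 (.wt 1) .cand)) (.wt 2)) (.wt 1)) (.lin 8)) (.lin
    6))) (.lin 12)))) (.split 3 (-245) (.split 1 (-155) (.split 4 150 (.lin 3) (.split 1 (-164)
    (.split 4 159 (.lin 12) (.splitN 307105 (.wt 5) (.split 5 63 (.split 3 (-291) (.lin 1)
    (.split 5 51 (.split 6 84 (.split 3 (-273) (.lin 7) (.split 2 (-45) (.lin 9) (.split 0 138
    (.split 4 169 (.split 5 47 (.split 1 (-174) (.lin 0) (.split 3 (-255) (.lin 6) (.splitN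
    366196 (.wt 1) (.split 0 130 (.split 4 160 (.wt 0) (.lin 3)) (.wt 2))))) (.wt 2)) (.lin 3))
    (.wt 2)))) (.wt 2)) (.wt 2))) (.wt 1)))) (.lin 4))) (.lin 2)) (.lin 1)))))) (.split 1 (-173)
    (.splitN 312870 (.split 0 125 (.split 4 169 (.split 1 (-273) (.lin 8) (.split 6 84 (.split 2
    (-45) (.lin 9) .cand) (.split 2 (-53) (.splitN 246380 (.split 0 97 (.split 3 (-327) (.lin 1)
    (.wt 0)) (.wt 0)) (.wt 6)) (.lin 9)))) (.lin 3)) (.wt 2)) (.wt 1)) (.lin 8))) (.lin 3))))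
    (.split 3 (-272) (.split 1 (-182) (.split 4 177 (.lin 3) (.splitN 283365 (.wt 0) (.splitN
    401121 (.split 5 76 (.split 1 (-273) (.lin 0) (.split 3 (-354) (.lin 6) (.splitN 317071 (.wt
    0) (.split 5 56 (.split 1 (-255) (.lin 0) (.split 3 (-336) (.lin 6) (.split 6 87 (.split 2
    (-45) (.lin 9) (.split 0 184 (.split 3 (-309) (.lin 1) (.split 1 (-228) (.lin 2) (.wt 2)))
    (.wt 0))) (.wt 0)))) (.wt 1))))) (.wt 1)) (.wt 1)))) (.lin 2)) (.lin 1))))) (.split 1 (-236)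
    (.split 3 (-326) (.splitN 273696 (.split 0 131 (.split 4 160 (.split 1 (-329) .sq (.split 5
    239 (.split 3 (-453) (.lin 6) (.splitN 254250 .cand (.wt 1))) (.lin 0))) (.lin 12)) (.wt 2))
    (.wt 1)) (.lin 6)) (.lin 0))))) (.lin 0))) (.wt 1)) (.lin 9)) (.lin 6)))

def cert5_115_8 : Cert :=
  (.split 7 (-33) (.split 2 (-54) (.lin 9) (.split 4 132 (.lin 12) (.split 0 202 (.split 4 259
    (.split 4 232 (.splitN 1104637 (.split 1 (-1016) .sq (.split 5 941 (.split 3 (-1025) .sq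
    cert5_115_7) (.lin 0))) (.wt 3)) (.lin 12)) (.lin 3)) (.split 3 (-308) (.split 1 (-218)
    (.split 4 213 (.lin 3) (.split 1 (-245) (.split 4 240 (.lin 12) (.splitN 1839938 (.split 5
    10210 (.split 0 1271 (.split 3 (-11559) (.lin 1) (.split 4 1330 (.splitN 1614694 (.split 0
    1180 (.split 4 1240 (.split 1 (-1189) .sq (.split 5 1004 (.split 3 (-2298) (.lin 6) (.split 3
    (-1272) (.lin 2) (.split 4 1177 (.splitN 1418209 (.split 6 86 (.split 2 (-45) (.lin 9)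
    (.split 1 (-1102) .sq (.split 3 (-1182) (.lin 2) (.split 3 (-1118) .sq (.split 0 1006 (.split
    4 1042 (.split 5 185 (.split 6 71 (.split 2 (-36) (.lin 9) (.splitN 1098754 (.split 3 (-964)
    .sq (.split 0 853 (.split 4 898 (.split 5 87 (.split 6 66 (.split 2 (-27) (.lin 9) (.splitN
    789026 (.split 0 753 (.split 3 (-894) (.lin 1) (.split 1 (-831) (.lin 2) (.split 4 826
    (.split 4 781 (.split 1 (-766) .sq (.split 5 63 (.split 0 294 (.wt 2) (.split 3 (-398)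
    (.split 1 (-335) (.split 4 330 (.lin 3) (.splitN 474785 .sq (.splitN 580238 (.split 0 379
    (.wt 0) (.split 3 (-488) (.split 1 (-425) (.split 4 402 (.lin 0) .sq) (.lin 2)) (.lin 1)))
    (.wt 5)))) (.lin 2)) (.lin 1))) (.split 1 (-272) (.split 3 (-335) (.split 4 727 (.split 0 234
    (.wt 2) (.split 3 (-371) (.split 1 (-308) (.split 0 261 (.wt 2) (.split 3 (-398) (.split 1
    (-335) (.split 4 303 (.lin 3) (.splitN 445382 .sq (.split 0 297 (.wt 0) (.split 3 (-434)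
    (.split 1 (-371) (.split 4 339 (.lin 3) (.splitN 544526 .sq (.wt 1))) (.lin 2)) (.lin 1)))))
    (.lin 2)) (.lin 1))) (.lin 2)) (.lin 1))) (.lin 0)) (.lin 6)) (.lin 0)))) (.lin 3)) (.lin
    0)))) .sq) (.wt 3))) (.split 2 (-35) (.splitN 589557 (.split 1 (-619) .sq (.split 3 (-687)
    (.lin 2) (.split 3 (-647) .sq (.split 1 (-570) (.lin 2) (.split 4 565 (.splitN 552268 (.split
    5 84 (.split 5 59 (.split 0 367 (.split 3 (-498) (.lin 1) (.split 1 (-426) (.lin 2) (.split 4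
    421 (.splitN 522484 (.splitN 328177 (.wt 3) .cand) (.wt 1)) (.lin 0)))) (.split 3 (-488)
    (.split 1 (-416) (.split 4 393 (.lin 0) .sq) (.lin 2)) (.lin 1))) (.split 1 (-272) (.splitN
    370309 (.split 0 330 (.split 3 (-471) (.lin 1) (.split 1 (-399) (.lin 2) (.wt 2))) (.wt 0))
    (.wt 1)) (.lin 0))) (.wt 2)) (.wt 1)) (.lin 0)))))) (.wt 1)) (.lin 9))) (.split 1 (-290)
    (.split 0 799 (.split 3 (-362) (.split 4 844 (.splitN 330164 .sq (.splitN 489795 (.split 0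
    445 (.split 3 (-696) (.lin 1) (.split 1 (-633) (.lin 2) (.split 6 70 .cand (.wt 2)))) .sq)
    (.wt 1))) (.lin 3)) (.lin 6)) (.lin 1)) (.lin 0))) (.lin 3)) (.lin 1))) (.wt 3))) (.split 2
    (-44) (.split 1 (-1029) (.lin 11) (.splitN 424727 (.split 0 494 (.split 3 (-759) (.lin 1)
    (.split 1 (-678) (.lin 2) (.split 0 361 (.split 3 (-624) (.lin 1) (.split 1 (-543) (.lin 2)
    (.splitN 366878 (.split 0 237 (.split 3 (-498) (.lin 1) (.split 1 (-417) (.lin 2) (.wt 0)))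
    (.wt 0)) (.wt 6)))) (.wt 0)))) (.wt 0)) (.wt 1))) (.lin 9))) (.split 1 (-380) (.split 0 853
    (.split 3 (-461) (.split 4 907 (.splitN 500552 .sq (.wt 1)) (.lin 3)) (.lin 6)) (.lin 1))
    (.lin 0))) (.lin 6)) (.lin 1)))))) (.wt 2)) (.wt 1)) (.lin 8)))) (.lin 0))) (.lin 3)) .sq)
    (.wt 1)) (.lin 3))) .sq) (.div 5)) (.wt 1))) (.lin 4))) (.lin 2)) (.lin 1))))) (.split 2
    (-35) (.split 6 87 (.split 2 (-54) (.lin 9) (.split 0 168 (.split 1 (-227) (.split 3 (-290)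
    (.split 5 67 (.lin 4) (.split 6 71 (.split 2 (-45) (.lin 9) (.split 0 158 (.split 1 (-249)
    (.split 3 (-317) (.split 5 103 (.lin 4) (.split 6 66 (.split 2 (-36) (.lin 9) (.split 0 105
    (.wt 1) (.split 4 132 (.lin 3) (.split 0 110 (.wt 1) (.split 4 141 (.lin 3) (.split 0 150
    (.split 5 112 (.lin 1) (.split 4 169 (.split 1 (-322) (.split 5 184 (.lin 0) (.split 1 (-374)
    (.split 5 238 (.lin 0) (.split 0 141 (.split 3 (-620) (.wt 1) (.wt 0)) (.wt 0))) (.wt 0)))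
    (.wt 0)) (.lin 3))) (.wt 0))))))) (.split 2 (-44) (.split 0 119 (.split 4 142 (.split 5 139
    (.lin 0) (.split 1 (-369) (.split 5 256 (.lin 0) (.split 0 113 (.split 4 133 (.split 1 (-434)
    (.split 5 328 (.lin 0) (.split 1 (-455) (.split 5 355 (.lin 0) (.split 3 (-721) (.split 5 544
    (.lin 1) (.split 1 (-650) (.splitN 17007874 (.split 1 (-188973) (.div 1) (.split 5 94486
    (.split 1 (-94584) (.lin 0) (.split 3 (-94656) (.lin 6) (.split 3 (-870) (.split 5 697 (.lin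
    1) (.split 1 (-803) (.splitN 8247272 (.split 5 45814 (.split 3 (-45984) (.lin 6) (.split 3
    (-1055) (.split 5 877 (.lin 1) (.split 1 (-983) (.splitN 5934842 (.split 5 32962 (.split 3
    (-33132) (.lin 6) (.split 0 104 (.split 4 124 (.splitN 4596676 (.split 5 25528 (.split 1
    (-25617) (.lin 0) (.split 3 (-1507) (.split 5 1345 (.lin 1) .sq) (.wt 0))) (.div 5)) (.wt 1))
    (.lin 3)) (.wt 0))) (.div 5)) (.wt 1)) (.lin 2))) (.wt 0))) (.div 5)) (.wt 1)) (.lin 2)))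
    (.wt 0)))) (.div 5))) (.wt 1)) (.lin 2))) (.wt 0))) (.wt 0))) (.wt 0)) (.lin 3)) (.wt 0)))
    (.wt 0))) (.lin 3)) (.wt 0)) (.lin 9)))) (.lin 2)) (.wt 3)) (.wt 3))) (.split 2 (-53) (.split
    3 (-308) (.split 0 101 (.split 5 130 (.lin 1) (.wt 0)) (.wt 0)) (.lin 2)) (.lin 9)))) (.lin
    2)) (.wt 3)) (.wt 3))) (.wt 0)) (.lin 9)))

def cert5_115_9 : Cert :=
  (.split 0 94 (.split 4 124 (.split 5 36 (.split 3 (-255) (.lin 6) (.split 1 (-129) (.lin 8)
    (.split 1 (-120) (.lin 4) (.splitN 221284 (.wt 1) (.split 6 62 (.wt 6) (.split 2 (-35)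
    (.split 7 (-33) (.split 2 (-90) (.lin 9) (.split 0 46 (.wt 2) (.split 3 (-137) (.split 1
    (-65) (.split 4 87 (.lin 12) (.split 5 14 (.wt 2) (.split 3 (-146) (.split 1 (-74) (.split 0
    52 (.wt 2) (.split 3 (-155) (.split 1 (-83) (.split 4 96 (.lin 12) (.split 6 84 (.wt 2)
    (.split 3 (-173) (.split 2 (-53) (.split 6 107 (.split 2 (-72) (.lin 9) (.split 0 66 (.wt 2)
    (.split 1 (-92) (.split 5 27 (.splitN 515287 (.wt 6) (.split 0 82 (.wt 0) (.split 3 (-200)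
    (.wt 0) (.lin 1)))) (.split 3 (-191) (.split 0 72 (.wt 2) (.split 1 (-110) (.split 4 114
    (.lin 8) (.split 6 94 (.wt 2) (.split 3 (-209) (.split 2 (-62) (.splitN 402146 .cand (.wt 3))
    (.lin 9)) (.lin 6)))) (.lin 4))) (.lin 1))) (.lin 4)))) (.split 3 (-200) (.split 2 (-80)
    (.split 0 74 (.split 3 (-228) (.lin 1) (.split 1 (-102) (.lin 4) (.split 4 106 (.splitN
    409742 (.split 5 23 (.wt 1) (.split 0 63 (.wt 2) (.split 3 (-218) (.split 1 (-101) (.split 4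
    105 (.lin 8) (.splitN 315336 (.wt 3) (.split 6 117 (.wt 0) (.wt 1)))) (.lin 4)) (.lin 1))))
    (.wt 5)) (.lin 12)))) (.split 3 (-218) (.split 1 (-92) (.split 1 (-101) (.split 4 114 (.lin
    12) (.split 5 31 (.split 3 (-237) (.lin 1) (.split 1 (-111) (.lin 8) (.split 0 80 (.wt 2)
    (.split 1 (-110) (.split 4 123 (.lin 8) (.split 6 118 (.wt 2) (.split 2 (-89) (.split 3
    (-236) (.splitN 455988 (.wt 0) (.wt 0)) (.lin 6)) (.lin 0)))) (.lin 4))))) (.wt 2))) (.lin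
    4)) (.lin 2)) (.lin 1))) (.lin 9)) (.lin 6))) (.lin 9)) (.lin 6)))) (.lin 4)) (.lin 1)))
    (.lin 8)) (.lin 1)))) (.lin 4)) (.lin 1)))) (.split 0 57 (.wt 1) (.split 4 87 (.lin 12) (.wt
    3)))) (.lin 9))))))) (.split 3 (-137) (.split 1 (-74) (.split 1 (-83) (.split 3 (-146)
    cert5_115_4 (.lin 7)) (.lin 4)) (.lin 8)) (.lin 1))) (.lin 12)) (.split 3 (-164) (.split 1
    (-110) (.split 3 (-173) (.split 4 123 (.lin 12) (.splitN 118613 (.wt 1) (.splitN 154449 (.wt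
    3) (.split 5 36 (.split 6 93 (.split 2 (-63) (.lin 9) (.split 7 (-33) (.split 2 (-54) (.lin
    9) (.split 4 132 (.lin 12) cert5_115_5)) (.split 2 (-35) (.split 0 1808 (.split 3 (-1929)
    (.lin 1) (.split 1 (-1866) (.lin 2) (.split 0 706 (.split 3 (-822) (.lin 1) (.wt 3)) (.wt
    0)))) (.wt 0)) (.lin 9)))) (.split 3 (-200) (.split 2 (-62) (.split 7 (-33) (.split 2 (-90)
    (.lin 9) (.split 4 132 (.lin 12) (.split 5 23 cert5_115_6 (.split 1 (-128) (.splitN 627681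
    (.split 1 (-6957) (.div 1) (.split 4 6982 (.split 3 (-7104) (.lin 6) (.split 0 249 (.split 3
    (-399) (.lin 1) (.split 1 (-300) (.lin 2) (.split 1 (-273) (.lin 4) (.split 4 277 (.splitN
    456944 (.split 0 212 (.split 3 (-363) (.lin 1) (.split 0 124 (.split 3 (-282) (.lin 1)
    (.split 1 (-156) (.lin 4) (.split 4 160 (.splitN 394232 (.split 0 118 (.split 1 (-147) (.lin
    4) (.split 4 151 (.split 6 112 (.split 3 (-255) (.lin 6) (.split 2 (-72) (.lin 9) (.split 0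
    109 (.split 1 (-138) (.lin 4) (.split 0 105 (.split 3 (-237) (.lin 1) (.split 1 (-129) (.lin
    4) (.split 4 133 (.splitN 379620 (.wt 0) (.wt 1)) (.lin 8)))) (.wt 0))) (.wt 0)))) (.wt 0))
    (.lin 8))) (.wt 0)) (.wt 1)) (.lin 8)))) (.wt 2))) (.wt 0)) (.wt 1)) (.lin 8))))) (.wt 2)))
    (.lin 0))) (.wt 1)) (.lin 8))))) (.wt 3)) (.lin 9)) (.lin 6))) (.split 3 (-191) (.split 1
    (-128) (.split 1 (-137) (.split 6 93 (.split 2 (-63) (.lin 9) cert5_115_8) (.split 2 (-62)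
    (.split 0 189 (.split 4 223 (.split 5 288 (.split 1 (-507) (.lin 0) (.split 3 (-606) (.lin 6)
    (.split 7 (-30) (.split 2 (-90) (.lin 9) (.split 4 132 (.lin 12) (.split 0 128 (.split 3
    (-534) (.lin 1) (.split 1 (-435) (.lin 2) (.split 4 160 (.splitN 333193 (.splitN 225882 (.wt
    5) (.split 5 116 (.split 1 (-264) (.lin 0) (.split 3 (-363) (.lin 6) (.split 1 (-237) (.lin
    8) (.splitN 255215 (.wt 0) (.split 6 119 (.split 2 (-81) (.lin 9) (.split 5 65 (.split 1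
    (-201) (.lin 0) (.split 3 (-300) (.lin 6) (.wt 2))) (.wt 1))) (.wt 0)))))) (.wt 1))) (.wt 1))
    (.lin 12)))) (.wt 2)))) (.wt 0)))) (.wt 2)) (.lin 12)) (.wt 2)) (.lin 9))) (.lin 4)) (.lin
    8)) (.lin 1)))))) (.lin 7)) (.lin 4)) (.lin 1)))

def cert5_115_10 : Cert :=
  (.split 6 276 (.split 2 (-306) (.lin 0) (.split 3 (-399) (.lin 6) (.split 2 (-243) (.lin 9)
    (.splitN 171147 (.wt 1) (.split 7 (-33) (.split 4 78 (.lin 12) (.split 0 65 (.split 3 (-372)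
    (.lin 1) (.split 1 (-93) (.lin 4) (.split 4 115 (.split 4 97 (.split 5 23 (.split 1 (-84)
    (.lin 4) (.splitN 267007 (.wt 1) (.split 0 43 (.wt 2) (.split 3 (-200) (.split 4 87 (.lin 12)
    (.split 5 14 (.wt 2) (.split 1 (-74) (.split 6 161 (.wt 2) (.split 3 (-245) (.split 2 (-134)
    (.splitN 444456 .cand (.wt 3)) (.lin 9)) (.lin 6))) (.lin 4)))) (.lin 1))))) (.split 3 (-209)
    (.split 1 (-74) (.split 6 201 (.split 0 46 (.wt 2) (.split 1 (-83) (.splitN 362592 .cand (.wt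
    3)) (.lin 4))) (.split 2 (-152) (.split 3 (-281) (.split 0 44 (.wt 2) (.split 1 (-83) (.split
    4 87 (.lin 8) (.splitN 281262 (.split 0 58 (.split 1 (-84) (.lin 4) (.splitN 254980 (.wt 3)
    .cand)) (.wt 0)) (.wt 1))) (.lin 4))) (.lin 6)) (.lin 0))) (.lin 8)) (.lin 1))) (.lin 12))
    (.lin 8)))) (.split 3 (-218) (.split 1 (-83) (.split 4 105 (.lin 12) (.split 5 23 (.split 1
    (-111) (.lin 4) (.split 5 18 (.split 1 (-102) (.lin 4) (.splitN 609792 (.wt 1) (.split 6 144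
    (.wt 0) (.split 3 (-236) (.split 2 (-116) (.split 6 152 (.wt 0) (.split 2 (-125) (.split 0 74
    (.wt 2) (.split 3 (-254) (.split 1 (-92) (.split 4 114 (.lin 8) (.splitN 665268 (.wt 1)
    (.split 6 184 (.wt 0) (.split 3 (-281) (.split 2 (-152) (.splitN 987397 (.split 6 199 (.wt 1)
    (.split 3 (-299) (.split 0 81 (.wt 2) (.split 1 (-101) (.split 4 123 (.lin 8) (.splitN 723491
    (.wt 1) (.split 6 240 (.wt 0) (.split 2 (-206) (.split 3 (-344) (.splitN 739388 (.wt 1) (.wt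
    0)) (.lin 6)) (.lin 0))))) (.lin 4))) (.lin 6))) (.wt 3)) (.lin 9)) (.lin 6))))) (.lin 4))
    (.lin 1))) (.lin 9))) (.lin 9)) (.lin 6))))) (.split 1 (-92) (.split 6 191 (.split 3 (-300)
    (.lin 6) (.split 2 (-153) (.lin 9) (.splitN 311991 (.wt 3) (.split 6 175 (.split 3 (-282)
    (.lin 6) (.splitN 498023 .cand (.wt 1))) (.wt 2))))) (.wt 2)) (.lin 4)))) (.split 1 (-101)
    (.splitN 327183 (.split 0 83 (.split 1 (-111) (.lin 4) (.split 4 115 (.split 6 166 (.split 3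
    (-273) (.lin 6) (.wt 2)) (.wt 0)) (.lin 8))) (.wt 0)) (.wt 1)) (.lin 8)))) (.lin 4)) (.lin
    1)))) (.split 0 66 (.split 1 (-93) (.lin 4) (.split 0 59 (.split 5 23 (.wt 1) (.split 0 47
    (.split 1 (-75) (.lin 4) (.wt 3)) (.wt 0))) (.wt 0))) (.wt 0))))))) (.split 2 (-179) (.split
    3 (-326) (.split 2 (-242) (.split 7 (-33) (.split 4 78 (.lin 12) (.split 0 65 (.split 4 97
    (.splitN 1518505 (.split 2 (-1150) .sq (.split 6 1214 (.splitN 1285054 (.split 2 (-1043) .sq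
    (.split 3 (-1066) .sq (.split 2 (-972) (.lin 1) (.split 6 1043 (.split 5 23 (.split 1 (-84)
    (.lin 4) (.split 5 18 (.split 1 (-75) (.lin 4) (.splitN 519426 (.wt 1) (.split 0 48 (.wt 0)
    (.split 3 (-344) (.split 1 (-65) (.split 0 54 (.wt 0) (.split 1 (-74) (.split 6 989 (.split 4
    96 (.lin 8) (.splitN 594557 (.wt 1) (.split 2 (-844) (.wt 0) (.split 6 872 (.wt 0) (.lin
    0))))) (.lin 7)) (.lin 4))) (.lin 4)) (.lin 1))))) (.split 3 (-344) (.split 1 (-65) (.splitN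
    493177 (.split 2 (-530) .sq (.split 6 575 (.split 3 (-660) (.lin 6) (.split 0 43 (.wt 2)
    (.split 1 (-74) (.split 4 87 (.lin 8) (.split 0 60 (.split 1 (-75) (.lin 4) (.split 4 88
    (.splitN 339802 (.split 6 323 (.wt 2) (.split 3 (-407) .sq (.lin 6))) (.wt 3)) (.lin 8)))
    (.wt 2))) (.lin 4)))) (.lin 0))) (.wt 1)) (.lin 8)) (.lin 1)))) (.split 3 (-353) (.split 1
    (-74) (.splitN 276416 .sq (.split 0 48 (.split 1 (-75) (.lin 4) (.split 4 79 (.wt 0) (.lin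
    8))) (.wt 1))) (.lin 8)) (.lin 1))) (.lin 0))))) (.wt 3)) (.lin 0))) (.wt 3)) (.lin 12))
    (.split 3 (-362) (.split 1 (-83) (.split 4 105 (.lin 12) (.splitN 291482 .sq (.split 5 25
    (.split 1 (-111) (.lin 4) (.split 5 22 (.split 1 (-102) (.lin 4) (.split 6 561 (.split 2
    (-540) (.lin 0) (.split 3 (-660) (.lin 6) (.split 6 417 (.split 2 (-396) (.lin 0) (.split 3
    (-516) (.lin 6) (.split 0 70 (.wt 2) (.split 1 (-92) (.split 4 114 (.lin 8) (.split 6 345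
    (.split 2 (-315) (.lin 0) (.split 3 (-444) (.lin 6) (.splitN 598282 (.wt 1) (.split 0 83
    (.split 1 (-93) (.lin 4) (.split 4 115 (.splitN 690662 (.wt 1) (.wt 0)) (.lin 8))) (.split 1
    (-101) (.split 4 123 (.lin 8) (.splitN 766501 .cand (.wt 1))) (.lin 4)))))) (.split 2 (-305)
    (.split 3 (-443) (.split 0 86 (.split 1 (-93) (.lin 4) (.split 4 115 (.splitN 712526 (.splitN
    631966 (.wt 1) .cand) (.wt 0)) (.lin 8))) (.wt 2)) (.lin 6)) (.lin 0)))) (.lin 4))))) (.split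
    2 (-368) (.split 3 (-506) (.splitN 594134 .sq (.split 0 84 (.split 1 (-93) (.lin 4) (.split 4
    115 (.split 0 74 (.split 1 (-84) (.lin 4) (.split 4 106 (.wt 0) (.lin 8))) (.split 1 (-92)
    (.split 4 114 (.lin 8) (.splitN 660175 (.split 6 492 (.split 3 (-579) (.lin 6) (.split 6 452
    (.split 3 (-543) (.lin 6) (.wt 2)) (.wt 0))) (.wt 0)) (.wt 1))) (.lin 4))) (.lin 8))) (.wt
    2))) (.lin 6)) (.lin 0))))) (.split 2 (-512) (.split 3 (-650) (.splitN 1029590 .sq (.wt 1))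
    (.lin 6)) (.lin 0)))) (.wt 2))) (.wt 1)))) (.lin 4)) (.lin 1)))) (.split 0 57 (.split 1 (-84)
    (.lin 4) (.split 0 50 (.split 1 (-75) (.lin 4) (.wt 3)) (.wt 0))) (.wt 0))) (.lin 9)) (.lin
    6)) (.lin 0)))

def cert5_115_11 : Cert :=
  (.split 5 90 (.split 3 (-408) (.lin 6) (.split 1 (-138) (.lin 8) (.split 6 209 (.split 3 (-345)
    (.lin 6) (.split 6 170 (.split 2 (-153) (.lin 3) (.split 3 (-309) (.lin 6) (.split 2 (-144)
    (.lin 9) (.split 0 51 (.split 1 (-129) (.lin 4) (.split 4 70 (.split 5 63 (.split 3 (-273)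
    (.lin 1) (.split 1 (-102) (.lin 8) (.split 6 147 (.split 2 (-117) (.lin 3) (.split 3 (-246)
    (.lin 6) (.split 5 43 (.wt 1) (.split 3 (-227) (.split 1 (-92) (.split 5 54 (.split 1 (-93)
    (.lin 4) (.splitN 9818181 (.wt 1) (.split 6 134 (.wt 0) (.split 2 (-116) (.splitN 18739155
    (.wt 0) (.wt 1)) (.lin 0))))) (.split 1 (-101) (.splitN 4186819 (.split 6 141 (.splitN
    3399968 (.wt 1) (.wt 0)) (.wt 0)) (.wt 1)) (.lin 4))) (.lin 8)) (.lin 1))))) (.split 1 (-86)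
    (.split 5 49 (.lin 4) (.wt 2)) (.wt 0))))) (.split 3 (-245) (.split 1 (-110) (.split 6 149
    (.split 3 (-273) (.lin 6) (.split 2 (-117) (.lin 9) (.split 5 77 (.split 1 (-120) (.lin 4)
    (.split 6 141 (.split 2 (-108) (.lin 3) (.split 3 (-255) (.lin 6) (.splitN 1388004 (.wt 1)
    (.split 5 68 (.wt 2) (.split 1 (-119) (.splitN 1419762 .cand (.wt 1)) (.lin 0)))))) (.wt 2)))
    (.split 3 (-263) (.split 1 (-128) (.splitN 1179805 (.split 6 137 (.split 2 (-108) (.lin 0)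
    (.splitN 1160606 (.wt 1) (.wt 0))) (.wt 0)) (.wt 1)) (.lin 8)) (.lin 6))))) (.wt 2)) (.lin
    8)) (.lin 1))) (.lin 12))) (.wt 2))))) (.split 0 47 (.split 1 (-92) (.split 5 49 (.lin 4)
    (.wt 2)) (.wt 0)) (.wt 0)))) (.wt 2)))) (.split 3 (-272) (.split 1 (-137) (.splitN 2266526
    (.split 6 252 (.split 2 (-225) (.lin 9) (.split 1 (-1465) .sq (.split 5 1535 (.split 3
    (-1839) (.lin 6) (.split 3 (-1713) (.lin 2) (.splitN 1977935 (.split 6 228 (.split 2 (-207)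
    (.lin 3) (.split 3 (-1383) .sq (.split 1 (-1245) (.lin 2) (.split 6 179 (.split 2 (-162)
    (.lin 3) (.split 2 (-153) (.lin 9) (.split 0 47 (.split 4 70 (.splitN 1360772 (.split 3
    (-1138) .sq (.split 6 156 (.split 2 (-126) (.lin 3) (.split 1 (-350) (.split 5 292 (.lin 0)
    (.split 3 (-470) (.split 5 310 (.lin 4) (.splitN 479168 .sq (.wt 3))) (.lin 6))) (.split 5
    320 (.split 5 302 (.split 1 (-241) (.split 5 184 (.lin 0) (.split 3 (-362) (.split 5 202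
    (.lin 4) (.splitN 577764 (.split 6 135 (.wt 2) (.split 3 (-389) (.splitN 447787 (.wt 1)
    .cand) (.lin 6))) (.wt 3))) (.lin 6))) (.split 5 212 (.split 3 (-408) (.lin 6) (.split 5 194
    (.splitN 524469 (.wt 3) (.split 6 143 (.split 2 (-117) (.lin 3) (.split 5 144 (.split 1
    (-192) (.lin 0) (.split 3 (-327) (.lin 6) (.split 1 (-164) (.split 5 112 (.lin 0) (.split 3
    (-290) (.split 5 121 (.lin 4) (.split 6 142 (.split 2 (-108) (.lin 3) (.splitN 691874 (.wt 1)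
    (.splitN 763790 (.split 1 (-181) (.wt 0) (.split 5 131 (.splitN 738533 (.wt 1) (.split 1
    (-169) (.wt 0) (.split 5 122 (.wt 1) (.lin 0)))) (.lin 0))) (.wt 3)))) (.wt 2))) (.lin 6)))
    (.split 5 122 (.split 3 (-309) (.lin 6) (.split 5 113 (.splitN 779463 (.wt 3) (.split 6 142
    (.split 5 96 (.wt 2) (.split 1 (-146) (.splitN 926945 .cand (.wt 0)) (.lin 0))) (.wt 2)))
    (.lin 4))) (.lin 0))))) (.split 1 (-182) (.split 3 (-326) (.splitN 691256 .cand (.wt 3))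
    (.lin 6)) (.lin 0)))) (.split 2 (-125) (.splitN 835466 (.split 1 (-147) (.split 5 112 (.lin
    0) (.splitN 704446 (.split 1 (-175) (.split 5 139 (.lin 0) (.wt 2)) (.wt 0)) (.wt 1))) (.wt
    0)) (.wt 1)) (.lin 3)))) (.lin 4))) (.lin 0))) (.lin 4)) (.lin 0)))) (.split 2 (-134)
    (.splitN 858586 (.split 3 (-882) .sq (.split 1 (-313) (.split 5 256 (.lin 0) (.split 3 (-461)
    (.split 5 274 (.lin 4) (.splitN 440045 .sq (.splitN 461524 (.split 1 (-493) (.wt 1) (.split 5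
    464 (.split 3 (-687) (.lin 6) (.split 1 (-343) (.split 3 (-506) (.split 5 301 (.lin 4) .sq)
    (.lin 2)) (.wt 0))) (.lin 0))) (.wt 1)))) (.lin 6))) (.split 5 284 (.split 3 (-507) (.lin 6)
    (.splitN 777897 (.split 1 (-153) (.split 5 112 (.lin 4) (.splitN 663070 (.split 1 (-184)
    (.split 5 148 (.lin 4) (.wt 2)) (.wt 0)) (.wt 1))) (.wt 0)) (.wt 1))) (.lin 0)))) (.wt 1))
    (.lin 3)))) (.wt 3)) (.lin 12)) (.split 1 (-146) (.split 4 78 (.lin 12) (.splitN 995522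
    (.split 1 (-236) (.split 5 184 (.lin 4) (.splitN 591041 (.wt 0) (.wt 1))) (.wt 0)) (.wt 1)))
    (.lin 4))))) (.split 2 (-152) (.split 2 (-161) (.splitN 742778 (.split 0 51 (.split 4 70
    (.splitN 671224 (.split 1 (-167) (.split 5 130 (.lin 4) (.splitN 532238 (.split 1 (-246)
    (.split 5 211 (.lin 4) (.wt 2)) (.wt 0)) (.wt 1))) (.wt 0)) (.wt 1)) (.lin 12)) (.wt 0)) (.wt
    1)) (.lin 9)) (.lin 3)))))) (.wt 2)) (.wt 1)))) (.lin 0)))) (.wt 2)) (.wt 1)) (.lin 8)) (.lin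
    1)))

def cert5_115_12 : Cert :=
  (.split 7 (-33) (.split 4 78 (.lin 12) (.splitN 453260 (.split 1 (-608) .sq (.split 3 (-885)
    (.lin 2) (.splitN 429013 (.split 3 (-619) .sq (.split 1 (-480) (.lin 2) (.split 0 65 (.split
    4 97 (.splitN 387040 (.split 3 (-584) .sq (.split 6 201 (.split 2 (-162) (.lin 9) (.splitN
    346926 (.split 3 (-547) .sq (.split 1 (-408) (.lin 2) (.split 0 52 (.split 4 88 (.split 5 111
    (.split 1 (-156) (.lin 8) (.splitN 158508 (.wt 1) (.split 6 165 (.split 5 72 (.split 0 44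
    (.wt 2) (.split 3 (-227) (.split 1 (-92) (.splitN 247725 .cand (.wt 3)) (.lin 4)) (.lin 1)))
    (.split 3 (-254) (.split 1 (-119) (.splitN 226464 .cand (.wt 0)) (.lin 8)) (.lin 6))) (.split
    2 (-125) (.split 3 (-254) (.split 5 72 (.split 3 (-318) (.lin 6) (.split 1 (-120) (.lin 8)
    (.split 0 47 (.split 4 79 (.wt 2) (.lin 12)) (.split 1 (-92) (.split 4 87 (.lin 12) (.splitN
    249354 (.split 5 57 (.split 3 (-300) (.lin 1) (.split 1 (-102) (.lin 8) (.split 5 49 (.split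
    1 (-93) (.lin 4) (.split 6 170 (.wt 2) (.split 3 (-284) (.split 2 (-161) (.split 6 196 (.lin
    0) (.wt 0)) (.lin 1)) (.wt 2)))) (.wt 2)))) (.wt 2)) (.wt 1))) (.lin 4))))) (.split 3 (-290)
    (.split 1 (-119) (.splitN 244734 .cand (.wt 0)) (.lin 8)) (.lin 6))) (.lin 6)) (.lin 3)))))
    (.split 3 (-290) (.split 1 (-155) (.splitN 194937 (.split 3 (-344) .sq (.split 5 158 (.split
    6 179 (.split 0 44 (.wt 2) (.split 5 149 (.split 1 (-164) (.split 4 87 (.lin 12) (.split 6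
    139 (.wt 2) (.split 2 (-107) (.split 3 (-308) (.splitN 178244 .sq (.split 6 158 (.splitN
    182996 (.split 1 (-185) (.wt 3) (.split 5 131 (.split 6 144 (.wt 2) (.split 2 (-116) .sq
    (.lin 3))) (.lin 4))) (.wt 3)) (.wt 1))) (.lin 6)) (.lin 3)))) (.lin 4)) (.lin 1))) (.lin 6))
    (.lin 1))) (.wt 3)) (.lin 8)) (.lin 6))) (.lin 12)) (.split 1 (-101) (.split 4 96 (.lin 12)
    (.splitN 281424 (.split 5 169 (.split 3 (-426) (.lin 6) (.split 1 (-228) (.lin 8) (.split 5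
    94 (.split 3 (-345) (.lin 6) (.split 1 (-147) (.lin 8) (.splitN 211359 (.wt 5) (.split 5 75
    (.split 1 (-129) (.lin 8) (.split 5 55 (.split 3 (-309) (.lin 1) (.split 1 (-111) (.lin 8)
    (.split 6 166 (.split 3 (-273) (.lin 6) (.split 2 (-126) (.lin 9) (.splitN 266295 (.split 6
    145 (.split 3 (-255) (.lin 6) (.split 2 (-108) (.lin 9) (.split 6 140 (.split 2 (-99) (.lin
    3) (.split 1 (-102) (.split 5 49 (.lin 0) (.splitN 261123 (.wt 0) (.wt 1))) (.wt 0))) (.wt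
    0)))) (.wt 0)) (.wt 1)))) (.wt 0)))) (.wt 2))) (.wt 1))))) (.wt 2)))) (.wt 2)) (.wt 1)))
    (.lin 4))))) (.wt 3))) (.split 2 (-152) (.split 3 (-290) (.split 2 (-170) (.splitN 276992
    (.split 1 (-331) .sq (.split 3 (-433) .sq (.split 0 59 (.split 4 88 (.split 5 84 (.split 3
    (-399) (.lin 6) (.split 1 (-129) (.lin 8) (.split 0 47 (.split 4 79 (.split 5 47 (.wt 2)
    (.split 1 (-92) (.split 5 51 (.wt 2) (.split 3 (-308) (.split 1 (-101) (.splitN 189341 .sq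
    (.wt 3)) (.lin 8)) (.lin 1))) (.lin 4))) (.lin 12)) (.split 1 (-92) (.split 4 87 (.lin 12)
    (.splitN 230572 (.split 1 (-97) (.split 5 49 (.lin 4) (.splitN 207916 (.wt 0) (.wt 1))) (.wt
    0)) (.wt 1))) (.lin 4))))) (.split 3 (-335) (.split 1 (-128) (.splitN 216800 .sq (.wt 1))
    (.lin 8)) (.lin 1))) (.lin 12)) (.wt 2)))) (.wt 1)) (.lin 9)) (.lin 6)) (.lin 3)))) (.wt 1))
    (.lin 12)) (.split 1 (-110) (.split 4 105 (.lin 12) (.splitN 275079 (.splitN 186802 (.wt 5)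
    (.split 5 181 (.split 3 (-534) (.lin 6) (.split 1 (-264) (.lin 8) (.splitN 202560 (.wt 5)
    (.split 6 222 (.split 2 (-180) (.lin 9) (.split 5 92 (.split 3 (-390) (.lin 1) (.split 1
    (-174) (.lin 8) (.split 0 79 (.split 1 (-165) (.lin 4) (.splitN 254536 (.split 0 74 (.split 1
    (-156) (.lin 4) (.split 1 (-134) (.split 5 67 (.lin 4) (.wt 0)) (.wt 0))) (.wt 0)) (.wt 6)))
    (.wt 0)))) (.wt 1))) (.wt 0))))) (.wt 1))) (.wt 1))) (.lin 4))))) (.wt 1)))) (.wt 1)))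
    (.split 2 (-107) (.split 0 72 (.split 4 97 (.split 0 56 (.split 4 79 cert5_115_11 (.lin 12))
    (.split 1 (-101) (.split 4 87 (.lin 12) (.split 1 (-178) (.split 5 112 (.lin 4) (.splitN
    1111187 (.wt 0) (.wt 1))) (.wt 0))) (.lin 4))) (.lin 12)) (.wt 2)) (.lin 9)))

def cert5_115_13 : Cert :=
  (.split 6 192 (.split 3 (-408) (.lin 6) (.split 2 (-153) (.lin 9) (.split 0 146 (.split 3
    (-345) (.lin 1) (.split 1 (-156) (.lin 4) (.split 4 178 (.split 6 136 (.wt 2) (.split 3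
    (-254) (.split 2 (-107) (.split 0 98 (.wt 2) (.split 1 (-119) (.split 4 141 (.lin 8) (.split
    6 165 (.split 2 (-126) (.lin 9) (.split 0 119 (.wt 2) (.split 3 (-281) (.split 1 (-137)
    (.split 4 159 (.lin 8) (.splitN 942153 (.wt 1) (.split 0 130 (.wt 2) (.split 1 (-146) (.split
    4 168 (.lin 8) (.split 6 145 (.wt 0) (.split 3 (-299) (.split 0 137 (.wt 2) (.split 1 (-155)
    (.split 4 177 (.lin 8) (.splitN 1018273 (.wt 1) (.split 6 157 (.wt 0) (.split 3 (-317) (.wt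
    0) (.lin 6))))) (.lin 4))) (.lin 6)))) (.lin 4))))) (.lin 4)) (.lin 1)))) (.split 3 (-290)
    (.split 2 (-134) (.split 0 124 (.split 1 (-138) (.lin 4) (.split 4 160 (.split 0 107 (.wt 2)
    (.split 1 (-128) (.split 4 150 (.lin 8) (.split 6 179 (.split 2 (-144) (.lin 9) (.splitN
    879376 (.wt 1) (.split 0 116 (.wt 2) (.split 3 (-308) (.split 1 (-137) (.splitN 974934 .cand
    (.wt 0)) (.lin 4)) (.lin 1))))) (.split 3 (-317) (.split 2 (-152) (.split 0 120 (.split 4 151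
    (.splitN 868353 (.wt 1) (.wt 0)) (.lin 3)) (.wt 2)) (.lin 9)) (.lin 6)))) (.lin 4))) (.lin
    8))) (.split 3 (-317) (.split 1 (-146) (.split 4 168 (.lin 8) (.split 0 139 (.split 1 (-147)
    (.lin 4) (.split 4 169 (.splitN 919471 (.wt 3) (.split 6 177 (.split 2 (-135) (.lin 0)
    (.split 3 (-318) (.lin 6) (.splitN 974949 (.wt 0) (.wt 0)))) (.wt 1))) (.lin 8))) (.wt 2)))
    (.lin 4)) (.lin 1))) (.lin 9)) (.lin 6)))) (.lin 4))) (.lin 9)) (.lin 6))) (.lin 8))))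
    (.split 3 (-299) (.split 1 (-164) (.split 4 186 (.lin 8) (.split 6 176 (.split 3 (-381) (.lin
    7) (.split 2 (-135) (.lin 9) (.split 6 152 (.split 2 (-117) (.lin 9) (.split 6 143 (.split 3
    (-354) (.lin 7) (.split 2 (-108) (.lin 9) (.split 0 162 (.wt 2) (.split 3 (-317) (.split 1
    (-173) (.split 0 170 (.wt 2) (.split 1 (-191) (.split 6 135 (.wt 2) (.split 3 (-335) (.split
    2 (-107) (.split 0 187 (.split 4 223 (.split 3 (-339) (.wt 2) (.split 4 217 (.wt 2) (.lin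
    6))) (.lin 3)) (.split 3 (-353) (.split 1 (-209) (.split 4 231 (.lin 0) (.splitN 1234332
    (.splitN 1112599 (.wt 0) .cand) (.wt 0))) (.lin 2)) (.lin 1))) (.lin 9)) (.lin 7))) (.lin
    4))) (.lin 2)) (.lin 1))))) (.split 3 (-317) (.split 2 (-116) (.split 0 173 (.split 3 (-336)
    (.lin 1) (.split 1 (-183) (.lin 2) (.split 4 205 (.splitN 997712 (.wt 1) (.split 0 154 (.wt
    2) (.split 1 (-173) (.splitN 1136158 .cand (.wt 1)) (.lin 4)))) (.lin 0)))) (.split 3 (-344)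
    (.split 1 (-191) (.split 4 213 (.lin 0) (.splitN 1117792 (.split 0 182 (.split 3 (-345) (.lin
    1) (.split 1 (-192) (.lin 2) (.wt 0))) (.wt 2)) (.wt 1))) (.lin 2)) (.lin 1))) (.lin 9))
    (.lin 6)))) (.split 2 (-125) (.split 0 169 (.split 3 (-354) (.lin 1) (.split 1 (-192) (.lin
    2) (.split 0 158 (.split 3 (-336) (.lin 1) (.split 1 (-165) (.lin 4) (.split 4 187 (.splitN
    1049528 (.wt 0) (.wt 1)) (.lin 8)))) (.wt 2)))) (.wt 2)) (.lin 9))))) (.wt 2))) (.lin 4))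
    (.lin 1))))) (.split 3 (-308) (.split 2 (-161) (.split 0 151 (.split 3 (-417) (.lin 1)
    (.split 1 (-165) (.lin 4) (.split 0 134 (.split 1 (-147) (.lin 4) (.split 0 130 (.split 3
    (-390) (.lin 1) (.split 1 (-138) (.lin 4) (.split 4 160 (.split 0 110 (.split 1 (-120) (.lin
    4) (.split 4 142 (.split 6 224 (.split 2 (-198) (.lin 0) (.split 3 (-345) (.lin 6) (.split 6
    210 (.split 2 (-171) (.lin 9) (.splitN 814026 (.wt 1) (.splitN 972586 .cand (.wt 3))))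
    (.split 2 (-170) (.split 3 (-326) (.split 0 101 (.split 1 (-111) (.lin 4) (.split 4 133
    (.splitN 765387 (.wt 1) (.wt 0)) (.lin 8))) (.split 1 (-119) (.split 4 141 (.lin 8) (.splitN
    845191 (.wt 0) (.wt 1))) (.lin 4))) (.lin 6)) (.lin 0))))) (.split 3 (-344) (.split 0 103
    (.split 3 (-363) (.lin 1) (.split 1 (-111) (.lin 4) (.split 4 133 (.split 6 240 (.split 2
    (-198) (.lin 0) (.splitN 799957 (.wt 1) (.wt 0))) (.wt 2)) (.lin 8)))) (.wt 2)) (.lin 6)))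
    (.lin 8))) (.split 1 (-128) (.split 4 150 (.lin 8) (.splitN 917531 (.split 6 225 (.split 2
    (-198) (.lin 0) (.split 3 (-363) (.lin 6) (.split 0 123 (.split 1 (-129) (.lin 4) (.split 4
    151 (.split 6 206 (.split 2 (-171) (.lin 0) (.split 3 (-336) (.lin 6) (.splitN 902645 (.wt 0)
    (.wt 1)))) (.wt 0)) (.lin 8))) (.wt 0)))) (.wt 0)) (.wt 1))) (.lin 4))) (.lin 8)))) (.wt 2)))
    (.wt 2)))) (.wt 2)) (.lin 9)) (.lin 6)))

def cert5_115_14 : Cert :=
  (.split 1 (-3999) (.lin 2) (.split 0 3586 (.split 3 (-3810) (.lin 1) (.split 1 (-3675) (.lin 2)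
    (.split 0 3263 (.split 3 (-3486) (.lin 1) (.split 1 (-3351) (.lin 2) (.split 0 2947 (.split 3
    (-3171) (.lin 1) (.split 1 (-3036) (.lin 2) (.split 0 2647 (.split 3 (-2874) (.lin 1) (.split
    1 (-2739) (.lin 2) (.split 0 2371 (.split 3 (-2595) (.lin 1) (.split 1 (-2460) (.lin 2)
    (.split 0 2116 (.split 3 (-2343) (.lin 1) (.split 1 (-2208) (.lin 2) (.split 0 1891 (.split 3
    (-2118) (.lin 1) (.split 1 (-1983) (.lin 2) (.split 0 1693 (.split 3 (-1920) (.lin 1) (.split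
    1 (-1785) (.lin 2) (.split 0 1521 (.split 3 (-1749) (.lin 1) (.split 1 (-1533) (.lin 4)
    (.split 0 1355 (.split 3 (-1578) (.lin 1) (.split 1 (-1362) (.lin 4) (.split 0 1210 (.split 3
    (-1434) (.lin 1) (.split 1 (-1218) (.lin 4) (.split 0 1089 (.split 3 (-1317) (.lin 1) (.split
    1 (-1101) (.lin 4) (.split 0 992 (.split 3 (-1218) (.lin 1) (.split 1 (-1002) (.lin 4)
    (.split 0 910 (.split 3 (-1137) (.lin 1) (.split 1 (-921) (.lin 4) (.split 0 843 (.split 3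
    (-1065) (.lin 1) (.split 1 (-849) (.lin 4) (.split 0 784 (.split 3 (-1011) (.lin 1) (.split 1
    (-795) (.lin 4) (.split 0 740 (.split 1 (-750) (.lin 4) (.split 4 772 (.split 6 184 (.split 3
    (-930) (.lin 6) (.split 2 (-144) (.lin 9) (.split 0 684 (.split 3 (-876) (.lin 1) (.split 1
    (-696) (.lin 4) (.split 0 640 (.split 3 (-831) (.lin 1) (.split 1 (-651) (.lin 4) (.split 0
    604 (.split 1 (-615) (.lin 4) (.split 4 637 (.split 6 178 (.split 3 (-786) (.lin 6) (.split 2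
    (-135) (.lin 9) (.split 0 570 (.split 1 (-579) (.lin 4) (.split 4 601 (.split 0 385 (.split 3
    (-570) (.lin 1) (.split 1 (-435) (.lin 2) (.split 1 (-399) (.lin 4) (.split 4 421 (.split 6
    164 (.split 2 (-126) (.lin 9) (.split 6 147 (.split 2 (-108) (.lin 9) (.split 0 295 (.split 3
    (-453) (.lin 1) (.split 1 (-318) (.lin 2) (.split 4 331 (.split 0 250 (.split 3 (-408) (.lin
    1) (.split 1 (-273) (.lin 2) (.split 4 286 (.split 0 227 (.split 3 (-381) (.lin 1) (.split 1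
    (-246) (.lin 2) (.split 4 268 (.split 6 138 (.wt 2) (.split 2 (-107) (.split 0 212 (.split 4
    241 (.split 1 (-219) (.lin 8) (.split 3 (-378) (.lin 1) (.wt 2))) (.lin 3)) (.wt 2)) (.lin
    9))) (.lin 3)))) (.split 3 (-380) (.split 1 (-236) (.split 4 249 (.lin 0) (.split 4 267 (.lin
    12) (.split 6 139 (.split 2 (-99) (.lin 9) (.splitN 1208987 (.wt 1) (.split 0 241 (.split 3
    (-389) (.wt 2) (.split 4 268 (.wt 2) (.lin 6))) (.split 4 285 (.lin 3) (.split 1 (-263)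
    (.splitN 1311156 .cand (.wt 0)) (.lin 8)))))) (.wt 2)))) (.lin 2)) (.lin 1))) (.lin 12))))
    (.split 3 (-407) (.split 1 (-263) (.split 4 276 (.lin 0) (.split 4 294 (.lin 12) (.splitN
    1384404 (.split 6 138 (.split 2 (-99) (.lin 9) (.split 0 277 (.split 3 (-426) (.lin 1)
    (.split 1 (-291) (.lin 2) (.splitN 1189209 (.wt 1) .cand))) (.split 3 (-434) (.split 1 (-299)
    (.split 4 321 (.lin 0) (.splitN 1259965 (.wt 0) (.wt 1))) (.lin 2)) (.lin 1)))) (.wt 2)) (.wt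
    1)))) (.lin 2)) (.lin 1))) (.lin 12)))) (.split 3 (-452) (.split 1 (-308) (.split 4 321 (.lin
    0) (.split 4 339 (.lin 12) (.split 0 338 (.split 3 (-489) (.lin 1) (.split 1 (-354) (.lin 2)
    (.wt 2))) (.wt 2)))) (.lin 2)) (.lin 1)))) (.split 2 (-116) (.splitN 1281102 (.split 0 348
    (.split 3 (-516) (.lin 1) (.split 1 (-363) (.lin 2) (.split 0 311 (.split 3 (-480) (.lin 1)
    (.split 1 (-327) (.lin 2) (.split 4 340 (.splitN 1153582 (.split 0 264 (.split 3 (-435) (.lin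
    1) (.split 1 (-282) (.lin 2) (.wt 2))) (.wt 0)) (.wt 1)) (.lin 12)))) (.wt 0)))) (.wt 0))
    (.wt 1)) (.lin 9)))) (.wt 2)) (.lin 8))))) (.split 1 (-407) (.split 4 429 (.lin 8) (.splitN
    1309468 (.split 0 509 (.split 3 (-687) (.lin 1) (.wt 2)) (.wt 0)) (.wt 1))) (.lin 4))) (.lin
    8))) (.wt 2)))) (.wt 2)) (.lin 8))) (.wt 2)))) (.wt 2)))) (.wt 2)))) (.wt 2)) (.lin 8))) (.wt
    2)))) (.wt 2)))) (.wt 2)))) (.wt 2)))) (.wt 2)))) (.wt 2)))) (.wt 2)))) (.wt 2)))) (.wt 2))))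
    (.wt 2)))) (.wt 2)))) (.wt 2)))) (.wt 2)))) (.wt 2)))) (.wt 2)))) (.wt 2)))) (.wt 2)))

def cert5_115_15 : Cert :=
  (.split 4 69 (.lin 12) (.split 6 132 (.split 2 (-99) (.lin 9) cert5_115_9) (.split 3 (-182)
    (.split 2 (-98) (.split 0 94 (.split 4 124 (.split 5 36 (.split 1 (-120) (.lin 4)
    cert5_115_10) (.split 3 (-209) (.split 1 (-74) (.split 1 (-83) (.split 6 276 (.split 2 (-288)
    (.lin 3) (.split 2 (-243) (.lin 9) cert5_115_12)) (.split 2 (-197) (.split 3 (-353) (.split 2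
    (-242) (.splitN 276560 .sq (.split 7 (-37) (.wt 1) (.split 0 63 (.split 4 88 (.splitN 6091043
    (.split 2 (-33827) (.div 2) (.split 5 33826 (.split 3 (-67728) (.lin 1) (.split 1 (-90)
    (.splitN 3707699 (.split 2 (-20597) (.div 2) (.split 3 (-54498) (.lin 1) (.split 0 60 (.split
    4 79 (.split 1 (-98) (.split 5 49 (.lin 4) (.splitN 1164659 (.split 1 (-131) (.split 5 85
    (.lin 4) (.splitN 546157 (.split 2 (-3029) (.div 2) (.split 5 3028 (.split 3 (-6123) (.lin 1)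
    (.wt 2)) (.div 5))) (.wt 1))) (.wt 0)) (.wt 1))) (.wt 0)) (.lin 12)) (.wt 0)))) (.wt 1)) (.wt
    0))) (.div 5))) (.wt 1)) (.lin 12)) (.wt 0)))) (.lin 9)) (.lin 6)) (.lin 3))) (.lin 4)) (.lin
    8)) (.lin 1))) (.lin 12)) (.split 3 (-236) (.split 1 (-110) (.split 4 123 (.lin 12) (.split 5
    42 (.split 6 1443 (.split 2 (-1413) (.lin 9) (.split 7 (-29) (.split 4 132 (.lin 12) (.split
    6 1257 (.split 2 (-1215) (.lin 9) (.split 5 27 (.split 6 409 (.split 2 (-369) (.lin 9)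
    (.split 0 202 (.split 3 (-624) (.lin 1) (.split 1 (-219) (.lin 4) (.split 4 241 (.split 6 385
    (.split 2 (-342) (.lin 9) (.split 6 255 (.split 3 (-480) (.lin 6) (.split 2 (-216) (.lin 9)
    (.split 5 18 cert5_115_13 (.split 1 (-119) (.splitN 463751 (.split 0 141 (.split 3 (-408)
    (.lin 1) (.split 1 (-156) (.lin 4) (.split 4 169 (.splitN 425001 (.split 0 109 (.split 3
    (-381) (.lin 1) (.split 1 (-129) (.lin 4) (.split 4 142 (.splitN 412725 (.wt 0) (.wt 1))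
    (.lin 8)))) (.wt 0)) (.wt 1)) (.lin 8)))) (.wt 0)) (.wt 1)) (.lin 8))))) (.split 2 (-224)
    (.splitN 1020449 (.split 0 172 (.split 3 (-570) (.lin 1) (.split 1 (-192) (.lin 4) (.split 4
    214 (.splitN 958843 (.split 0 152 (.split 1 (-174) (.lin 4) (.split 0 145 (.split 4 178
    (.splitN 887897 (.split 0 136 (.split 3 (-534) (.lin 1) (.split 1 (-156) (.lin 4) (.split 0
    130 (.split 1 (-147) (.lin 4) (.split 4 160 (.splitN 836761 (.split 0 123 (.split 4 151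
    (.split 5 21 (.split 3 (-507) (.lin 1) (.split 1 (-129) (.lin 8) (.split 0 113 (.split 1
    (-120) (.lin 4) (.split 4 142 (.splitN 783703 (.split 6 319 (.split 2 (-288) (.lin 0) (.split
    3 (-435) (.lin 6) (.split 0 102 (.split 1 (-111) (.lin 4) (.split 4 133 (.splitN 752823 (.wt
    0) (.wt 1)) (.lin 8))) (.wt 0)))) (.wt 0)) (.wt 1)) (.lin 8))) (.wt 0)))) (.wt 0)) (.lin 12))
    (.wt 0)) (.wt 1)) (.lin 12))) (.wt 0)))) (.wt 0)) (.wt 1)) (.lin 12)) (.wt 0))) (.wt 0)) (.wt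
    1)) (.lin 8)))) (.wt 0)) (.wt 1)) (.lin 9)))) (.wt 2)) (.lin 8)))) (.split 3 (-353) (.split 1
    (-218) (.split 4 231 (.lin 8) (.splitN 32492836 (.split 5 19 (.split 6 218 (.split 2 (-180)
    (.lin 9) (.split 0 5677 (.split 3 (-5907) (.lin 1) (.split 1 (-5772) (.lin 2) (.split 4 5875
    (.splitN 15523613 (.split 0 3907 (.split 3 (-4134) (.lin 1) cert5_115_14) .sq) (.wt 1)) (.lin
    0)))) .sq)) (.wt 2)) (.wt 2)) (.wt 1))) (.lin 4)) (.lin 1)))) (.split 3 (-524) (.split 2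
    (-377) (.splitN 628037 .sq (.splitN 1020725 (.split 0 28280 (.split 3 (-29550) (.lin 1)
    (.split 1 (-29136) (.lin 2) (.split 1 (-11313) (.div 1) (.split 0 11293 (.split 3 (-12567)
    (.lin 1) (.split 0 318 (.split 3 (-1587) (.lin 1) (.split 1 (-336) (.lin 4) (.split 4 358
    (.splitN 771901 (.split 0 157 (.split 1 (-174) (.lin 4) (.wt 6)) (.wt 0)) (.wt 1)) (.lin
    8)))) (.wt 0))) (.lin 4))))) (.div 0)) (.wt 1))) (.lin 9)) (.lin 6))) (.split 1 (-128)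
    (.splitN 371638 (.split 1 (-4113) (.div 1) (.split 4 5227 (.split 3 (-6483) (.lin 6) (.split
    0 218 (.split 3 (-1506) (.lin 1) (.split 1 (-255) (.lin 4) (.wt 2))) (.wt 0))) (.lin 0)))
    (.wt 1)) (.lin 8)))) (.wt 2))) (.wt 5))) (.wt 2)) (.wt 2))) (.lin 4)) (.lin 1))) (.lin 9))
    (.lin 6))))

def cert5_115_16 : Cert :=
  (.split 6 60 (.split 2 (-36) (.lin 9) (.split 5 10 (.wt 1) (.split 3 (-56) (.split 1 (-29)
    (.split 7 (-22) (.split 3 (-65) (.split 2 (-27) (.lin 9) (.split 4 42 (.lin 12) (.split 0 16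
    (.wt 1) (.split 1 (-38) (.split 4 51 (.lin 12) (.split 5 14 (.wt 1) (.split 3 (-83) (.split 0
    41 (.wt 2) (.split 3 (-101) (.split 1 (-65) (.split 0 50 (.wt 2) (.split 3 (-110) (.split 1
    (-74) (.split 0 55 (.wt 2) (.split 3 (-119) (.split 1 (-83) (.split 0 68 (.wt 6) (.split 3
    (-128) (.split 1 (-92) (.split 0 73 (.wt 6) (.split 3 (-137) (.split 6 35 (.wt 2) (.split 3
    (-146) (.split 0 80 (.wt 6) (.split 1 (-110) (.split 3 (-155) (.split 5 23 (.wt 6) (.split 1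
    (-119) (.split 3 (-164) (.split 0 88 (.wt 6) (.split 3 (-173) (.split 4 123 (.lin 12) (.split
    7 (-33) (.split 2 (-18) (.lin 9) (.split 0 149 (.wt 2) (.split 3 (-227) (.split 1 (-173)
    (.split 0 215 (.wt 2) (.split 3 (-299) (.split 1 (-245) (.split 0 330 (.wt 2) (.split 3
    (-407) (.split 1 (-353) (.split 4 357 (.lin 3) (.splitN 532376 .sq (.splitN 3135129 (.split 1
    (-34821) (.div 1) (.split 4 34828 (.split 0 34801 (.split 5 17410 (.splitN 2950819 (.split 1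
    (-32769) (.div 1) (.split 4 32776 (.splitN 2262277 (.split 1 (-25137) (.div 1) (.split 4
    25144 (.split 0 25117 (.split 6 44 (.wt 0) (.split 2 (-17) (.splitN 731088 (.split 1 (-8109)
    (.div 1) (.split 4 8107 (.split 0 8071 (.split 5 7781 (.splitN 617338 (.split 1 (-6849) (.div
    1) (.split 4 6847 (.split 0 798 (.wt 0) (.split 4 834 (.lin 3) .sq)) (.lin 0))) (.wt 5))
    (.lin 0)) (.lin 3)) (.lin 0))) (.wt 0)) (.lin 9))) (.lin 3)) (.lin 0))) (.wt 5)) (.lin 0)))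
    (.wt 0)) (.div 5)) (.lin 3)) (.lin 0))) (.wt 0)))) (.lin 2)) (.lin 1))) (.lin 2)) (.lin 1)))
    (.lin 2)) (.lin 1)))) (.split 2 (-17) (.split 0 764 (.wt 1) (.split 3 (-848) (.split 4 789
    (.lin 3) (.wt 1)) (.lin 1))) (.lin 9)))) (.lin 7))) (.lin 7)) (.lin 4))) (.lin 7)) (.lin 4)))
    (.lin 7))) (.lin 1))) (.lin 4)) (.lin 1))) (.lin 4)) (.lin 1))) (.lin 4)) (.lin 1))) (.lin
    4)) (.lin 1))) (.lin 1)))) (.lin 4))))) (.lin 1)) (.wt 1)) (.lin 4)) (.lin 1)))) (.split 3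
    (-65) (.split 2 (-26) (.split 3 (-83) (.split 5 5 (.wt 1) (.split 0 40 (.split 4 70 (.split 7
    (-28) (.split 4 42 (.lin 12) (.split 0 17 (.wt 2) (.split 1 (-38) (.split 4 51 (.lin 12)
    (.split 6 78 (.wt 2) (.split 2 (-35) (.split 3 (-110) (.split 3 (-119) (.split 6 84 (.wt 2)
    (.split 3 (-128) (.split 6 90 (.wt 6) (.split 2 (-62) (.split 5 36 (.split 1 (-66) (.lin 4)
    (.split 6 148 (.wt 2) (.split 3 (-182) (.split 6 177 (.wt 2) (.split 0 25 (.wt 2) (.split 1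
    (-47) (.split 3 (-227) (.split 4 60 (.lin 12) (.split 5 15 (.wt 2) (.split 1 (-56) (.split 6
    294 (.wt 2) (.split 2 (-251) (.split 3 (-344) (.splitN 278279 .sq (.split 7 (-35) (.wt 0)
    (.split 4 61 (.splitN 1407471 (.wt 1) (.split 5 24 (.wt 1) (.split 1 (-65) (.split 6 338 (.wt
    0) (.split 2 (-314) (.split 3 (-407) (.splitN 1513059 (.wt 1) (.split 6 403 (.wt 0) (.split 2
    (-377) (.split 3 (-470) (.splitN 1601016 (.wt 1) (.split 6 468 (.wt 0) (.split 2 (-449)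
    (.split 3 (-542) (.splitN 24189723 (.split 2 (-134375) (.div 2) (.split 6 134396 (.splitN
    1692979 (.wt 1) (.split 6 547 (.wt 0) (.split 2 (-521) (.split 3 (-614) (.splitN 11455906
    (.split 2 (-63635) (.div 2) (.split 6 63656 (.split 6 606 (.wt 0) (.split 2 (-584) (.split 3
    (-677) (.splitN 1828073 (.wt 1) (.splitN 8349882 (.split 2 (-46373) (.div 2) (.split 6 46394
    (.split 6 696 (.wt 0) (.split 2 (-674) (.split 3 (-767) (.splitN 6400929 (.split 2 (-35555)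
    (.div 2) (.split 6 35576 (.split 6 773 (.wt 0) (.split 2 (-755) (.split 3 (-848) (.splitN
    1962531 (.wt 1) (.splitN 5474060 (.split 2 (-30407) (.div 2) (.split 6 30428 (.split 6 898
    (.wt 0) (.split 2 (-872) (.split 3 (-965) (.splitN 2510720 .sq (.splitN 4704676 (.split 2
    (-26123) (.div 2) (.split 6 26144 (.split 3 (-10021) (.wt 0) (.split 2 (-9927) (.lin 1)
    (.split 6 9953 (.split 3 (-5572) (.wt 0) (.split 2 (-5472) (.lin 1) (.split 6 5498 (.split 3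
    (-3526) (.wt 0) (.split 2 (-3429) (.lin 1) (.split 6 3455 (.split 3 (-2374) (.wt 0) (.split 2
    (-2277) (.lin 1) (.split 6 2303 (.splitN 2928529 (.wt 1) (.split 3 (-1327) (.wt 0) (.split 2
    (-1233) (.lin 1) (.split 6 1259 (.wt 0) (.lin 0))))) (.lin 0)))) (.lin 0)))) (.lin 0))))
    (.lin 0)))) (.lin 0))) (.wt 3))) (.lin 6)) (.lin 0))) (.lin 0))) (.wt 3))) (.lin 6)) (.lin
    0))) (.lin 0))) (.wt 3)) (.lin 6)) (.lin 0))) (.lin 0))) (.wt 3))) (.lin 6)) (.lin 0))) (.lin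
    0))) (.wt 3)) (.lin 6)) (.lin 0)))) (.lin 0))) (.wt 3)) (.lin 6)) (.lin 0)))) (.lin 6)) (.lin
    0)))) (.lin 6)) (.lin 0))) (.lin 4)))) (.lin 12)))) (.lin 6)) (.lin 0))) (.lin 4)))) (.lin
    7)) (.lin 4)))) (.lin 6)))) (.split 3 (-155) (.split 1 (-56) (.split 1 (-65) (.split 6 119
    (.wt 2) (.split 2 (-80) (.split 3 (-182) (.split 2 (-89) cert5_115_0 (.lin 9)) (.lin 6))
    (.lin 3))) (.lin 4)) (.lin 8)) (.lin 1))) (.lin 9))) (.lin 7))) (.lin 7)) (.lin 6)) (.lin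
    3)))) (.lin 4)))) (.wt 1)) (.lin 12)) (.split 3 (-101) (.split 1 (-56) (.split 3 (-119)
    (.split 4 60 (.lin 12) (.splitN 95034 (.wt 3) (.split 7 (-22) cert5_115_15 (.wt 3)))) (.lin
    7)) (.lin 4)) (.lin 1)))) (.lin 7)) (.lin 9)) (.lin 6)))

def cert5_115 : Cert :=
  cert5_115_16

theorem check5_115 :
    check task5 cert5_115
      [(7, ⟨some (16), none⟩), (7, ⟨none, some (-20)⟩), (1, ⟨none, some (-8)⟩), (7, ⟨none, some (-29)⟩), (7, ⟨some (34), none⟩), (5, ⟨some (5), none⟩), (8, ⟨some (17), none⟩), (8, ⟨some (-37), some (-19)⟩)] ⟨some (20160), none⟩ = true := by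
  decide +kernel

def cert5_116 : Cert :=
  (.lin 4)

theorem check5_116 :
    check task5 cert5_116
      [(7, ⟨some (16), none⟩), (7, ⟨some (-11), some (-11)⟩), (1, ⟨none, some (-8)⟩), (7, ⟨none, some (-29)⟩), (7, ⟨some (25), none⟩), (5, ⟨some (5), none⟩), (8, ⟨some (17), none⟩), (8, ⟨none, some (-19)⟩)] ⟨some (20160), none⟩ = true := by
  decide +kernel

def cert5_117 : Cert :=
  (.wt 1)

theorem check5_117 :
    check task5 cert5_117
      [(7, ⟨some (7), none⟩), (7, ⟨none, some (-11)⟩), (1, ⟨none, some (-8)⟩), (7, ⟨none, some (-29)⟩), (7, ⟨some (16), none⟩), (5, ⟨some (5), none⟩), (8, ⟨some (17), none⟩), (8, ⟨some (-10), some (-10)⟩)] ⟨some (20160), none⟩ = true := by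
  decide +kernel

def cert5_118_0 : Cert :=
  (.split 5 18 (.split 0 32 (.wt 2) (.split 1 (-38) (.split 3 (-65) (.split 0 39 (.wt 2) (.split
    1 (-47) (.split 3 (-74) (.split 0 45 (.wt 2) (.split 5 5 (.wt 2) (.split 1 (-65) (.split 3
    (-92) (.split 0 58 (.wt 2) (.split 3 (-101) (.split 0 64 (.wt 2) (.split 1 (-83) (.split 3
    (-110) (.split 0 70 (.wt 2) (.split 1 (-92) (.split 3 (-119) (.split 2 41 (.split 7 (-92)
    (.lin 9) (.split 6 36 (.wt 2) (.split 4 123 (.lin 0) (.split 3 (-137) (.split 7 (-46)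
    (.splitN 53099 .sq (.splitN 196182 (.split 0 5420 (.split 3 (-5520) (.lin 1) (.split 1
    (-5511) (.lin 2) (.split 4 5587 (.split 1 (-2169) (.div 1) (.split 4 2239 (.split 0 2194 (.wt
    4) (.lin 3)) (.lin 0))) (.lin 0)))) (.div 0)) (.wt 0))) (.lin 9)) (.lin 7))))) (.wt 2)) (.lin
    7)) (.lin 4))) (.lin 7)) (.lin 4))) (.lin 7))) (.lin 7)) (.lin 4)))) (.lin 7)) (.lin 4)))
    (.lin 7)) (.lin 4))) (.split 1 (-47) (.split 3 (-74) (.split 7 (-64) (.split 2 9 (.lin 9)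
    (.splitN 449192 (.split 1 (-4977) (.div 1) (.split 0 4948 (.split 2 2488 (.split 4 4976
    (.split 5 2488 (.splitN 421504 (.split 1 (-4653) (.div 1) (.split 0 4624 (.split 4 4652
    (.splitN 253322 (.split 1 (-2781) (.div 1) (.split 0 2752 (.split 4 2780 (.split 5 1390
    (.split 0 76 (.wt 2) (.split 1 (-101) (.split 3 (-128) (.splitN 133387 (.split 1 (-1449)
    (.div 1) (.split 0 1420 (.split 4 1448 (.split 5 724 (.splitN 72562 (.wt 6) (.split 6 32 (.wt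
    0) (.split 3 (-137) (.split 7 (-116) (.wt 0) (.split 2 73 (.splitN 123011 (.split 5 670
    (.split 0 362 (.wt 2) (.split 4 411 (.lin 3) .sq)) (.div 5)) (.wt 0)) (.lin 9))) (.lin 7))))
    (.div 5)) (.div 4)) (.lin 4))) (.wt 0)) (.lin 7)) (.lin 4))) (.div 5)) (.div 4)) (.lin 4)))
    (.wt 3)) (.div 4)) (.lin 4))) (.wt 0)) (.div 5)) (.div 4)) (.div 2)) (.lin 4))) (.wt 0)))
    (.split 2 28 (.split 2 5 (.splitN 463539 (.split 0 12800 (.split 4 12850 (.split 5 2560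
    (.splitN 212802 (.split 1 (-2349) (.div 1) (.split 4 2374 (.split 0 25 (.wt 2) (.split 3
    (-83) (.split 4 60 (.lin 3) (.split 1 (-56) (.splitN 95712 (.split 0 280 (.split 4 331
    (.split 6 26 (.wt 2) (.split 3 (-92) (.split 7 (-37) (.splitN 58560 (.split 5 310 (.split 0
    35 (.wt 2) (.split 3 (-101) (.split 4 78 (.lin 3) (.split 1 (-65) (.split 0 178 (.split 4 232
    (.splitN 54645 (.split 1 (-177) .sq (.split 0 151 (.split 5 131 (.splitN 33653 (.wt 1)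
    (.split 3 (-193) .sq (.split 0 133 (.split 1 (-156) (.lin 2) (.split 4 187 (.split 5 113
    (.split 4 169 (.split 6 44 (.split 7 (-47) (.lin 9) (.split 0 58 (.wt 2) (.split 3 (-119)
    (.split 1 (-74) (.split 5 95 (.split 1 (-83) (.splitN 49080 (.split 0 71 (.wt 2) (.split 3
    (-137) (.split 4 114 (.lin 3) (.split 1 (-101) .sq (.lin 4))) (.lin 1))) (.wt 3)) (.lin 4))
    (.lin 1)) (.lin 2)) (.lin 1)))) (.split 4 96 (.lin 3) (.split 3 (-119) (.split 7 (-55)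
    (.splitN 41232 (.split 0 57 (.wt 0) (.split 3 (-137) (.split 4 114 (.lin 3) .sq) (.lin 1)))
    (.wt 0)) (.lin 9)) (.lin 6)))) (.lin 10)) (.lin 1)) (.lin 0))) (.lin 1)))) (.lin 4)) (.lin
    4))) (.wt 3)) (.lin 3)) .sq) (.lin 4))) (.lin 1))) (.div 5)) (.wt 3)) (.lin 9)) (.lin 7)))
    (.lin 3)) .sq) (.wt 3)) (.lin 4))) (.lin 1))) (.lin 0))) (.wt 1)) (.div 5)) (.lin 3)) (.div
    0)) (.wt 0)) (.split 6 44 (.split 7 (-37) (.split 0 69 (.wt 2) (.split 1 (-92) (.split 3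
    (-119) (.splitN 2344852 (.split 1 (-26037) (.div 1) (.split 4 26080 (.split 0 26044 (.split 5
    13018 (.splitN 2207084 (.split 1 (-24489) (.div 1) (.split 4 24532 (.splitN 1521841 (.split 1
    (-16893) (.div 1) (.split 4 16936 (.split 0 16900 (.splitN 920178 (.split 1 (-10197) (.div 1)
    (.split 4 10240 (.split 0 174 (.wt 2) (.split 4 213 (.lin 3) (.split 1 (-182) (.split 1
    (-200) (.split 3 (-227) (.splitN 286846 (.split 1 (-3177) (.div 1) (.split 5 3029 (.wt 2)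
    (.lin 0))) (.wt 0)) (.lin 7)) (.lin 4)) (.lin 8)))) (.lin 0))) (.wt 5)) (.lin 3)) (.lin 0)))
    (.wt 3)) (.lin 0))) (.wt 0)) (.div 5)) (.lin 3)) (.lin 0))) (.wt 0)) (.lin 7)) (.lin 4)))
    (.lin 9)) (.lin 9))) (.lin 9))) (.lin 7)) (.lin 4)))

def cert5_118_1 : Cert :=
  (.split 3 (-650) .sq (.split 0 556 (.split 6 593 (.split 4 1258 (.splitN 374799 (.split 3
    (-596) .sq (.split 0 502 (.split 6 539 (.split 4 591 (.split 2 22 (.splitN 261641 (.split 3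
    (-491) .sq (.split 6 440 (.split 4 484 (.split 2 4 (.splitN 45868 (.split 0 110 (.split 7
    (-285) (.wt 3) (.split 6 278 (.split 4 385 (.split 7 (-252) (.wt 3) (.split 6 242 (.split 4
    349 (.split 1 (-118) .sq (.split 0 88 (.split 5 86 (.split 7 (-210) (.wt 3) (.split 6 206
    (.splitN 42620 (.split 3 (-144) .sq (.split 0 52 (.split 5 50 (.split 6 89 (.split 4 115
    (.split 0 31 (.wt 0) (.split 3 (-119) (.split 4 96 (.lin 3) (.split 6 80 (.split 1 (-56)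
    (.splitN 36332 .sq (.wt 0)) (.lin 4)) (.lin 3))) (.lin 1))) (.lin 10)) (.lin 7)) (.lin 1))
    (.lin 1))) (.wt 3)) (.lin 9))) (.lin 4)) (.lin 4))) (.lin 3)) (.lin 9))) (.lin 3)) (.lin 9)))
    .sq) (.wt 1)) (.split 7 (-73) (.split 0 27 (.wt 2) (.split 4 105 (.lin 3) (.split 1 (-56)
    (.split 3 (-119) (.split 5 392 (.splitN 167066 (.split 0 357 (.split 1 (-361) .sq (.split 5
    320 (.split 3 (-376) .sq (.split 6 314 (.split 4 367 (.split 0 100 (.split 6 64 (.wt 2)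
    (.split 4 114 (.lin 3) (.split 3 (-128) (.split 7 (-82) (.splitN 114405 (.split 3 (-291) .sq
    (.split 5 194 (.split 6 233 (.split 4 286 (.split 0 36 (.wt 2) (.split 1 (-65) (.split 3
    (-137) (.split 5 176 (.split 6 75 (.wt 2) (.split 3 (-146) (.split 7 (-91) (.split 6 80 (.wt
    2) (.split 4 141 (.lin 3) (.split 3 (-155) (.split 7 (-100) (.splitN 68813 .sq (.split 0 44
    (.wt 0) (.split 4 150 (.lin 3) (.split 1 (-74) (.split 3 (-164) (.split 6 215 (.splitN 76427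
    .sq (.split 0 58 (.wt 0) (.split 4 159 (.lin 3) (.split 1 (-83) (.split 3 (-173) (.splitN
    84689 .sq (.wt 3)) (.lin 7)) (.lin 4))))) (.lin 7)) (.lin 7)) (.lin 4))))) (.lin 9)) (.lin
    7)))) (.lin 9)) (.lin 7))) (.lin 7)) (.lin 7)) (.lin 4))) (.lin 10)) (.lin 7)) (.lin 1)))
    (.wt 3)) (.lin 9)) (.lin 7)))) (.split 3 (-182) (.split 4 177 (.lin 3) (.split 6 251 (.split
    1 (-128) (.splitN 102230 .sq (.splitN 112488 (.split 6 83 (.wt 0) (.split 4 204 (.lin 3)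
    (.split 3 (-218) (.split 7 (-100) .sq (.lin 9)) (.lin 7)))) (.wt 3))) (.lin 4)) (.lin 3)))
    (.lin 1))) (.lin 10)) (.lin 7))) (.lin 4))) .sq) (.wt 3)) (.lin 7)) (.lin 7)) (.lin 4))))
    (.lin 9))) (.lin 10)) (.lin 7))) (.wt 3)) (.split 7 (-91) (.split 0 29 (.wt 2) (.split 4 123
    (.lin 3) (.split 1 (-56) (.split 3 (-119) (.splitN 151639 (.split 1 (-326) .sq (.split 0 295
    (.split 2 321 (.split 3 (-342) .sq (.split 1 (-273) (.lin 11) (.split 5 239 (.split 6 278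
    (.split 0 35 (.wt 2) (.split 4 132 (.lin 3) (.split 1 (-65) (.split 3 (-128) (.splitN 128383
    (.split 2 272 (.split 3 (-300) .sq (.split 0 214 (.split 1 (-237) (.lin 11) (.split 5 194
    (.split 6 233 (.split 4 301 (.split 6 62 (.wt 2) (.split 0 196 (.split 4 141 (.lin 3) (.split
    3 (-137) (.split 7 (-100) (.splitN 109242 (.split 3 (-256) .sq (.split 1 (-183) (.lin 11)
    (.split 5 140 (.split 6 188 (.split 0 47 (.wt 2) (.split 1 (-74) (.split 3 (-146) (.split 6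
    74 (.wt 2) (.split 0 151 (.split 4 159 (.lin 3) (.split 3 (-155) (.split 7 (-109) (.splitN
    77399 .sq (.splitN 94221 (.split 0 59 (.wt 0) (.split 4 168 (.lin 3) (.split 1 (-83) (.split
    3 (-164) (.split 6 170 (.splitN 85661 .sq (.split 0 90 (.wt 0) (.split 4 204 (.lin 3) (.split
    3 (-200) .sq (.lin 7))))) (.lin 7)) (.lin 7)) (.lin 4)))) (.wt 3))) (.lin 9)) (.lin 7)))
    (.lin 7))) (.lin 7)) (.lin 4))) (.lin 7)) (.lin 4)))) (.wt 3)) (.lin 9)) (.lin 7))) (.lin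
    3))) .sq) (.lin 7)) (.lin 4))) (.lin 7))) .sq) (.wt 3)) (.lin 7)) (.lin 4)))) (.lin 7)) (.lin
    4)))) .sq) (.lin 4))) (.wt 3)) (.lin 7)) (.lin 4)))) (.lin 9))) .sq) (.lin 7)) (.lin 7)))
    (.wt 3)) (.lin 10)) (.lin 7)) (.lin 7)))

def cert5_118_2 : Cert :=
  (.split 5 18 (.split 2 10 (.split 2 3 (.splitN 120414 (.split 1 (-1305) (.div 1) (.split 0 1294
    (.split 3 (-3261) (.div 3) (.split 4 4525 (.split 6 4508 (.splitN 66910 (.split 3 (-220) .sq
    (.split 0 151 (.split 4 340 (.split 6 188 (.split 4 214 (.split 0 30 (.wt 2) (.split 1 (-38)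
    (.split 0 35 (.wt 2) (.split 3 (-110) (.split 4 105 (.lin 3) (.split 6 170 (.split 1 (-47)
    (.split 5 5 (.wt 2) (.split 0 142 (.split 3 (-119) (.split 1 (-56) (.split 6 161 (.splitN
    38519 .sq (.splitN 42832 (.split 0 49 (.wt 0) (.split 3 (-128) (.split 4 114 (.lin 3) .sq)
    (.lin 1))) (.wt 3))) (.lin 7)) (.lin 4)) (.lin 1)) (.lin 1))) (.lin 4)) (.lin 3))) (.lin 1)))
    (.lin 4))) (.lin 10)) (.lin 7)) (.lin 5)) (.lin 1))) (.wt 3)) (.lin 0)) (.lin 5))) (.lin 4)))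
    (.wt 0)) (.split 7 (-73) (.split 0 34 (.wt 2) (.split 3 (-110) (.split 1 (-47) (.splitN
    471284 (.split 1 (-5229) (.div 1) (.split 0 5218 (.split 4 5228 (.split 6 5183 (.splitN
    345848 (.split 1 (-3825) (.div 1) (.split 0 3814 (.split 4 3824 (.split 6 3779 (.split 0 44
    (.wt 2) (.split 3 (-119) (.split 1 (-56) (.splitN 261497 (.split 4 2888 (.split 6 2834
    (.split 5 5 (.wt 2) (.split 3 (-128) (.split 1 (-65) (.splitN 168488 (.split 1 (-1845) (.div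
    1) (.split 0 1825 (.split 4 1844 (.split 6 1781 (.split 0 53 (.wt 2) (.split 3 (-137) (.split
    1 (-74) (.splitN 154551 (.split 4 1700 (.split 6 96 (.wt 2) (.split 4 168 (.lin 0) (.split 3
    (-173) (.split 7 (-109) (.splitN 89468 .sq (.splitN 138402 (.split 4 1520 (.split 6 1448
    (.splitN 103199 (.split 4 1124 (.split 6 1052 (.split 0 102 (.wt 0) (.split 3 (-218) (.split
    4 213 (.lin 3) .sq) (.lin 1))) (.lin 0)) (.div 4)) (.wt 3)) (.lin 0)) (.div 4)) (.wt 0)))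
    (.lin 9)) (.lin 7)))) (.div 4)) (.wt 3)) (.lin 4)) (.lin 1))) (.lin 0)) (.div 4)) (.lin 4)))
    (.wt 3)) (.lin 4)) (.lin 1))) (.lin 0)) (.div 4)) (.wt 5)) (.lin 4)) (.lin 1))) (.lin 0))
    (.div 4)) (.lin 4))) (.wt 5)) (.lin 0)) (.div 4)) (.lin 4))) (.wt 3)) (.lin 4)) (.lin 1)))
    (.lin 9))) (.split 7 (-82) (.split 0 36 (.wt 2) (.split 1 (-47) (.split 3 (-110) (.splitN
    792575 (.split 1 (-8793) (.div 1) (.split 0 8782 (.split 2 4396 (.split 4 8792 (.split 6 8738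
    (.splitN 464171 (.split 1 (-5157) (.div 1) (.split 0 5146 (.split 2 2578 (.split 4 5156
    (.split 6 5102 (.split 0 47 (.wt 2) (.split 1 (-56) (.split 3 (-119) (.splitN 322878 (.split
    1 (-3573) (.div 1) (.split 0 3562 (.split 2 1786 (.split 4 3572 (.split 6 3509 (.split 0 52
    (.wt 2) (.split 1 (-65) (.split 3 (-128) (.splitN 261426 (.split 4 2888 (.split 6 2816
    (.split 5 6 (.wt 2) (.split 1 (-74) (.split 3 (-137) (.splitN 181133 (.split 1 (-1989) (.div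
    1) (.split 0 1969 (.split 2 994 (.split 4 1988 (.split 6 1907 (.split 0 63 (.wt 2) (.split 1
    (-83) (.split 3 (-146) (.splitN 167885 (.split 4 1844 (.split 6 1754 (.split 6 112 (.wt 2)
    (.split 4 204 (.lin 0) (.split 3 (-200) (.split 7 (-136) (.splitN 126323 .sq (.splitN 129577
    (.split 1 (-1413) (.div 1) (.split 0 1393 (.split 4 1412 (.split 6 1322 (.wt 0) (.lin 0))
    (.div 4)) (.lin 4))) (.wt 0))) (.lin 9)) (.lin 7)))) (.lin 0)) (.div 4)) (.wt 3)) (.lin 7))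
    (.lin 4))) (.lin 0)) (.div 4)) (.div 2)) (.lin 4))) (.wt 3)) (.lin 7)) (.lin 4))) (.lin 0))
    (.div 4)) (.wt 5)) (.lin 7)) (.lin 4))) (.lin 0)) (.div 4)) (.div 2)) (.lin 4))) (.wt 5))
    (.lin 7)) (.lin 4))) (.lin 0)) (.div 4)) (.div 2)) (.lin 4))) (.wt 5)) (.lin 0)) (.div 4))
    (.div 2)) (.lin 4))) (.wt 3)) (.lin 7)) (.lin 4))) (.lin 9))) (.split 1 (-47) (.split 3
    (-110) (.splitN 31148 .sq (.splitN 519764 (.split 1 (-5769) (.div 1) (.split 5 5738 (.split 2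
    2884 (.split 4 5768 (.split 6 5741 (.split 5 2884 (.split 0 698 (.splitN 444492 (.split 1
    (-643) .sq (.split 5 617 (.split 2 640 cert5_118_1 .sq) (.lin 4))) (.wt 3)) .sq) (.div 5))
    (.lin 3)) (.div 4)) (.div 2)) (.lin 4))) (.wt 3))) (.lin 7)) (.lin 4)))

def cert5_118 : Cert :=
  (.split 7 (-19) (.split 0 22 (.split 6 26 (.wt 2) (.split 7 (-37) (.split 0 9 (.wt 2) (.split 1
    (-20) (.split 3 (-56) (.split 3 (-551) (.wt 2) (.split 5 491 (.split 1 (-507) (.lin 11)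
    (.split 6 521 (.splitN 2144843 (.split 2 11902 (.split 4 12922 (.splitN 575982 (.split 2 3190
    (.split 4 4210 (.split 1 (-84) (.wt 2) (.split 5 68 (.splitN 173197 (.split 2 958 (.split 1
    (-46) (.wt 2) (.split 5 23 (.splitN 67222 (.split 4 728 (.splitN 48076 (.wt 6) (.split 7
    (-286) (.wt 0) (.split 3 (-318) (.lin 1) (.split 6 296 (.wt 2) (.lin 7))))) (.div 4)) (.wt
    4)) (.lin 4))) (.div 2)) (.wt 4)) (.lin 4))) (.lin 0)) (.div 2)) (.wt 4)) (.lin 0)) (.div 2))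
    (.wt 0)) (.lin 7))) (.lin 7))) (.lin 7)) (.lin 4))) (.lin 9))) (.split 1 (-29) (.split 3
    (-47) (.split 6 17 (.wt 2) (.split 3 (-56) (.split 7 (-28) (.split 6 60 cert5_118_0 (.split 4
    87 (.lin 3) (.split 3 (-92) (.split 7 (-64) cert5_118_2 (.lin 9)) (.lin 7)))) (.lin 9)) (.lin
    7))) (.lin 7)) (.lin 4))) (.lin 9))

theorem check5_118 :
    check task5 cert5_118
      [(7, ⟨some (7), none⟩), (7, ⟨none, some (-11)⟩), (1, ⟨some (1), none⟩), (7, ⟨none, some (-29)⟩), (7, ⟨some (16), none⟩), (5, ⟨some (5), none⟩), (8, ⟨some (17), none⟩), (8, ⟨none, some (-10)⟩)] ⟨some (20160), none⟩ = true := by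
  decide +kernel

def cert5_119 : Cert :=
  (.lin 7)

theorem check5_119 :
    check task5 cert5_119
      [(7, ⟨some (7), none⟩), (7, ⟨none, some (-11)⟩), (1, ⟨none, none⟩), (7, ⟨some (-20), some (-20)⟩), (7, ⟨some (16), none⟩), (5, ⟨some (5), none⟩), (8, ⟨some (17), none⟩), (8, ⟨none, some (-10)⟩)] ⟨some (20160), none⟩ = true := by
  decide +kernel

def cert5_120 : Cert :=
  (.lin 7)

theorem check5_120 :
    check task5 cert5_120
      [(7, ⟨some (7), none⟩), (7, ⟨none, some (-11)⟩), (1, ⟨none, none⟩), (7, ⟨some (-11), some (-11)⟩), (7, ⟨some (16), none⟩), (5, ⟨some (5), none⟩), (8, ⟨some (8), none⟩), (8, ⟨none, some (-10)⟩)] ⟨some (3960), none⟩ = true := by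
  decide +kernel

def cert5_121 : Cert :=
  (.lin 4)

theorem check5_121 :
    check task5 cert5_121
      [(7, ⟨some (7), none⟩), (7, ⟨some (-2), some (-2)⟩), (1, ⟨none, none⟩), (7, ⟨none, some (-11)⟩), (7, ⟨some (16), none⟩), (5, ⟨some (5), none⟩), (8, ⟨some (8), none⟩), (8, ⟨none, some (-10)⟩)] ⟨some (3960), none⟩ = true := by
  decide +kernel

def cert5_122 : Cert :=
  (.lin 11)

theorem check5_122 :
    check task5 cert5_122
      [(7, ⟨some (7), none⟩), (7, ⟨none, some (-2)⟩), (1, ⟨none, none⟩), (7, ⟨some (-2), some (-2)⟩), (7, ⟨some (16), none⟩), (5, ⟨none, none⟩), (8, ⟨some (8), none⟩), (8, ⟨none, some (-10)⟩)] ⟨some (3960), none⟩ = true := by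
  decide +kernel

def cert5_123 : Cert :=
  (.lin 9)

theorem check5_123 :
    check task5 cert5_123
      [(7, ⟨some (7), none⟩), (7, ⟨some (7), none⟩), (1, ⟨none, some (-8)⟩), (7, ⟨none, some (-2)⟩), (7, ⟨some (16), none⟩), (5, ⟨none, some (-13)⟩), (8, ⟨some (8), some (8)⟩), (8, ⟨none, some (-10)⟩)] ⟨some (3960), none⟩ = true := by
  decide +kernel

def cert5_124 : Cert :=
  (.wt 3)

theorem check5_124 :
    check task5 cert5_124
      [(7, ⟨some (7), none⟩), (7, ⟨some (7), none⟩), (1, ⟨none, some (-8)⟩), (7, ⟨none, some (-2)⟩), (7, ⟨some (16), none⟩), (5, ⟨none, some (-13)⟩), (8, ⟨some (17), none⟩), (8, ⟨none, some (-10)⟩)] ⟨some (3960), some (10440)⟩ = true := by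
  decide +kernel

def cert5_125 : Cert :=
  (.wt 1)

theorem check5_125 :
    check task5 cert5_125
      [(7, ⟨some (7), none⟩), (7, ⟨some (7), none⟩), (1, ⟨none, some (-8)⟩), (7, ⟨none, some (-11)⟩), (7, ⟨some (16), none⟩), (5, ⟨none, some (-13)⟩), (8, ⟨some (17), none⟩), (8, ⟨none, some (-10)⟩)] ⟨some (13680), some (16920)⟩ = true := by
  decide +kernel

def cert5_126 : Cert :=
  (.lin 9)

theorem check5_126 :
    check task5 cert5_126
      [(7, ⟨some (7), none⟩), (7, ⟨some (7), none⟩), (1, ⟨none, some (-8)⟩), (7, ⟨none, some (-11)⟩), (7, ⟨some (16), none⟩), (5, ⟨none, some (-13)⟩), (8, ⟨some (17), some (26)⟩), (8, ⟨none, some (-28)⟩)] ⟨some (20160), none⟩ = true := by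
  decide +kernel

def cert5_127 : Cert :=
  (.lin 12)

theorem check5_127 :
    check task5 cert5_127
      [(7, ⟨some (7), none⟩), (7, ⟨some (7), none⟩), (1, ⟨none, some (-8)⟩), (7, ⟨none, some (-11)⟩), (7, ⟨some (16), some (25)⟩), (5, ⟨none, some (-13)⟩), (8, ⟨some (35), none⟩), (8, ⟨none, some (-28)⟩)] ⟨some (20160), none⟩ = true := by
  decide +kernel

def cert5_128_0 : Cert :=
  (.split 7 (-64) (.split 5 (-67) (.split 6 70 (.lin 9) (.split 4 78 (.lin 12) (.splitN 165157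
    (.split 1 1808 (.split 5 (-905) (.div 5) (.split 1 889 (.split 1 377 (.split 2 (-333) (.lin
    2) (.split 7 (-389) (.lin 2) (.split 5 (-392) (.lin 4) (.split 4 403 (.split 6 395 (.split 3
    (-12) (.split 6 128 (.wt 2) (.split 5 (-130) (.split 1 114 (.lin 11) (.splitN 59138 .sq
    (.split 7 (-170) (.wt 0) (.split 4 178 (.split 7 (-145) (.wt 0) (.split 4 151 (.split 6 168
    (.wt 2) (.split 2 (-35) (.split 1 150 (.lin 11) (.split 5 (-166) (.splitN 91475 .sq (.wt 0))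
    (.lin 4))) (.lin 3))) (.lin 12))) (.lin 12))))) (.lin 7))) (.wt 2)) (.lin 7)) (.lin 5)))))
    .sq) (.lin 4))) (.div 1)) (.wt 1)))) (.lin 1)) (.split 4 70 (.split 6 78 (.split 2 (-45)
    (.lin 3) (.split 1 61 (.split 5 (-104) (.lin 1) (.split 5 (-77) (.lin 4) (.split 3 (-19) (.wt
    2) (.split 6 48 (.split 1 34 (.split 7 (-38) (.lin 2) (.split 6 39 (.split 2 (-9) (.lin 3)
    (.split 1 25 (.split 7 (-29) (.lin 2) (.split 5 (-41) (.lin 1) (.split 4 43 (.splitN 253684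
    (.wt 0) (.wt 0)) (.lin 0)))) (.lin 11))) (.wt 2))) (.lin 11)) (.wt 2))))) (.lin 11))) (.split
    2 (-26) (.split 1 60 (.lin 11) (.split 5 (-76) (.splitN 1082732 (.split 1 11996 (.split 2
    (-11988) (.lin 2) (.split 3 (-13) (.split 1 1031 (.split 2 (-1017) (.lin 2) (.split 5 (-2030)
    (.lin 0) (.split 6 1070 (.split 7 (-42) (.split 4 60 (.lin 12) (.splitN 111585 (.split 2
    (-617) (.div 2) (.split 5 (-662) (.lin 1) (.split 5 (-617) (.div 5) (.split 2 (-576) (.lin 1)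
    (.split 1 610 (.split 6 126 (.wt 2) (.split 2 (-80) (.split 1 114 (.lin 11) (.split 5 (-121)
    (.split 5 (-130) (.split 6 141 (.wt 2) (.split 1 123 (.lin 11) (.split 5 (-139) (.split 6 315
    (.split 2 (-270) (.lin 3) (.split 1 295 (.split 5 (-320) (.lin 1) (.split 6 149 (.wt 2)
    (.split 2 (-98) (.split 1 132 (.lin 11) (.split 5 (-148) (.splitN 96410 (.split 6 288 (.split
    1 268 (.split 6 152 (.wt 2) (.split 2 (-107) (.split 1 141 (.lin 11) (.split 5 (-157)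
    (.splitN 88676 .sq (.split 7 (-51) (.wt 0) (.split 2 (-116) (.split 4 61 (.split 6 174 (.wt
    0) (.split 2 (-134) (.split 5 (-175) .sq (.lin 1)) (.lin 3))) (.lin 12)) (.lin 1)))) (.lin
    4))) (.lin 3))) (.lin 11)) (.wt 2)) (.wt 1)) (.lin 4))) (.lin 3)))) (.lin 11))) (.wt 2))
    (.lin 4)))) (.lin 4)) (.lin 1))) (.lin 3))) (.lin 2)))))) (.wt 3))) (.split 2 (-44) (.split 4
    52 (.split 6 279 (.split 2 (-252) (.lin 3) (.split 1 259 (.split 5 (-284) (.lin 1) (.split 6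
    82 (.wt 2) (.split 1 69 (.lin 11) (.split 5 (-85) (.split 6 229 (.split 2 (-198) (.lin 3)
    (.split 1 205 (.split 5 (-230) (.lin 1) (.split 7 (-33) (.split 4 51 (.lin 12) (.split 6 121
    (.wt 2) (.split 2 (-89) (.split 1 105 (.lin 11) (.split 5 (-121) (.split 6 129 (.wt 2)
    (.split 2 (-98) (.split 1 114 (.lin 11) (.split 5 (-130) (.splitN 118976 (.split 6 202
    (.split 2 (-162) (.lin 3) (.split 1 178 (.split 5 (-194) (.lin 1) (.split 6 154 (.split 2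
    (-117) (.lin 3) (.split 1 133 (.split 5 (-149) (.lin 1) (.split 6 140 (.wt 2) (.split 2
    (-107) (.split 1 123 (.lin 11) (.splitN 108086 (.wt 0) (.wt 1))) (.lin 3)))) (.lin 11))) (.wt
    2))) (.lin 11))) (.wt 0)) (.wt 1)) (.lin 1))) (.lin 3))) (.lin 1))) (.lin 3)))) (.split 2
    (-62) (.split 4 43 (.split 6 91 (.wt 2) (.split 2 (-71) (.split 1 78 (.lin 11) (.splitN
    257925 (.split 6 194 (.split 2 (-162) (.lin 3) (.split 1 169 (.split 5 (-185) (.lin 1)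
    (.splitN 246129 (.split 6 176 (.split 2 (-144) (.lin 3) (.split 5 (-167) (.lin 1) (.split 6
    118 (.split 2 (-90) (.lin 3) (.split 1 97 (.split 5 (-113) (.lin 1) (.split 6 103 (.wt 2)
    (.split 2 (-80) (.split 1 87 (.lin 11) (.split 5 (-103) (.split 6 109 (.split 2 (-81) (.lin
    3) (.split 1 88 (.split 5 (-104) (.lin 0) (.splitN 186290 (.wt 0) (.wt 0))) (.lin 11))) (.wt
    2)) (.lin 1))) (.lin 3)))) (.lin 11))) (.wt 2)))) (.wt 0)) (.wt 1))) (.lin 11))) (.wt 0))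
    (.wt 1))) (.lin 3))) (.lin 12)) (.lin 1)))) (.lin 11))) (.wt 2)) (.lin 4))))) (.lin 11)))
    (.wt 2)) (.lin 12)) (.lin 1))) (.lin 3)))) .sq) (.wt 2))) (.div 1)) (.wt 1)) (.lin 4))) (.lin
    3))) (.lin 12)))

def cert5_128 : Cert :=
  (.split 3 (-146) (.wt 2) (.split 3 (-39) (.splitN 1479293 (.split 1 16424 (.split 5 (-16439)
    (.lin 4) (.split 5 (-8213) (.div 5) (.split 1 8206 (.split 4 8350 (.split 6 8342 (.splitN
    1352303 (.split 5 (-7511) (.div 5) (.split 1 7504 (.split 4 7648 (.split 6 7640 (.splitN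
    832651 (.split 5 (-4613) (.div 5) (.split 1 4606 (.split 4 4750 (.split 6 4742 (.splitN 38894
    (.wt 6) (.split 1 8 (.wt 0) (.split 5 (-22) (.splitN 73691 (.wt 6) (.split 0 9 (.wt 0)
    (.split 5 (-31) (.splitN 117940 (.wt 6) (.split 1 32 (.wt 0) (.split 5 (-49) (.splitN 699466
    (.split 5 (-3875) (.div 5) (.split 1 3859 (.split 6 3995 (.splitN 318976 (.split 5 (-1769)
    (.div 5) (.split 6 1889 (.wt 2) (.lin 7))) (.wt 4)) (.lin 7)) (.lin 4))) (.wt 0)) (.lin 4))))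
    (.lin 4)))) (.lin 4)))) (.lin 7)) (.lin 5)) (.lin 4))) (.wt 5)) (.lin 7)) (.lin 5)) (.lin
    4))) (.wt 3)) (.lin 7)) (.lin 5)) (.lin 4)))) (.div 1)) (.wt 3)) (.split 0 11 (.splitN 276759
    (.split 2 (-1535) (.div 2) (.split 5 (-1535) (.div 5) (.split 1 1528 (.split 4 1564 (.split 6
    1565 (.splitN 235391 (.split 5 (-1301) (.div 5) (.split 1 1294 (.split 4 1330 (.split 6 1331
    (.splitN 104879 (.wt 6) (.split 1 47 (.wt 0) (.split 5 (-58) (.wt 2) (.lin 4)))) (.lin 7))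
    (.lin 5)) (.lin 4))) (.wt 0)) (.lin 7)) (.lin 5)) (.lin 4)))) (.wt 0)) (.split 5 (-22)
    (.split 4 42 (.lin 12) (.split 1 22 (.split 3 (-20) (.split 5 (-32) (.lin 4) (.split 4 61
    (.split 6 53 (.wt 2) (.lin 7)) (.lin 5))) (.lin 2)) (.split 5 (-40) (.split 3 (-21) (.splitN
    41370 (.wt 6) (.split 7 (-3899) (.wt 0) (.split 4 3913 (.split 6 112 (.wt 2) (.split 5 (-94)
    (.splitN 53998 (.wt 6) (.split 7 (-126) (.wt 0) (.split 4 133 (.splitN 61309 (.wt 6) (.split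
    7 (-79) (.wt 0) (.split 2 (-35) (.split 2 (-44) (.split 4 88 (.splitN 1233604 (.split 1 13688
    (.split 2 (-13698) (.lin 2) (.split 5 (-13757) (.lin 1) (.split 2 (-6845) (.div 2) (.split 1
    6883 (.split 6 6911 (.splitN 1089386 (.split 2 (-6053) (.div 2) (.split 6 6119 (.splitN
    443505 (.split 1 4904 (.split 2 (-4914) (.lin 2) (.split 6 4985 (.split 2 (-2453) (.div 2)
    (.split 1 2491 (.split 6 2519 (.splitN 71407 (.wt 6) (.split 7 (-53) (.wt 0) (.split 2 (-71)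
    (.split 4 61 (.splitN 403047 (.split 2 (-2237) (.div 2) (.split 5 (-2264) (.lin 1) (.split 1
    2248 (.split 6 2276 (.splitN 292317 (.split 2 (-1607) (.div 2) (.split 1 1618 (.split 6 1646
    (.splitN 84340 (.wt 6) (.split 7 (-42) (.wt 0) (.split 2 (-80) (.split 4 52 (.splitN 248520
    (.split 2 (-1373) (.div 2) (.split 6 1403 (.split 3 (-33) (.wt 2) (.split 5 (-103) (.split 6
    336 (.wt 2) (.split 2 (-305) (.split 5 (-319) .sq (.lin 1)) (.lin 3))) (.lin 7))) (.lin 3)))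
    (.wt 3)) (.lin 12)) (.lin 9)))) (.lin 3)) (.lin 2))) (.wt 3)) (.lin 3)) (.lin 2)))) (.wt 0))
    (.lin 12)) (.lin 9)))) (.lin 3)) (.lin 2))) (.lin 3))) (.div 1)) (.wt 3)) (.lin 3))) (.wt 0))
    (.lin 3)) (.lin 2))))) (.div 1)) (.wt 0)) (.lin 12)) (.lin 9)) (.lin 1)))) (.lin 12)))) (.lin
    7))) (.lin 12)))) cert5_128_0) (.lin 4)))) (.lin 4)))))

theorem check5_128 :
    check task5 cert5_128
      [(7, ⟨some (7), some (16)⟩), (7, ⟨some (7), none⟩), (1, ⟨none, some (-8)⟩), (7, ⟨none, some (-11)⟩), (7, ⟨some (34), none⟩), (5, ⟨none, some (-13)⟩), (8, ⟨some (35), none⟩), (8, ⟨none, some (-28)⟩)] ⟨some (20160), none⟩ = true := by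
  decide +kernel

def cert5_129_0 : Cert :=
  (.split 0 148 (.split 5 (-203) (.lin 1) (.split 4 259 (.split 4 214 (.split 5 (-158) (.lin 4)
    (.split 4 178 (.split 0 78 (.split 5 (-86) (.lin 4) (.split 4 106 (.split 3 (-65) (.wt 2)
    (.split 6 71 (.split 0 48 (.wt 2) (.split 5 (-67) (.split 4 78 (.lin 8) (.split 3 (-48) (.wt
    2) (.split 2 (-36) (.lin 2) (.split 6 62 (.splitN 89026 (.wt 6) (.split 7 (-32) (.wt 0)
    (.split 4 97 (.splitN 108111 (.wt 1) (.split 3 (-42) (.wt 0) (.split 2 (-27) (.lin 2) (.split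
    6 53 (.wt 0) (.lin 9))))) (.lin 8)))) (.lin 11))))) (.lin 4))) (.lin 11))) (.lin 8))) (.split
    5 (-94) (.split 4 105 (.lin 8) (.split 6 71 (.split 2 (-45) (.lin 9) (.split 3 (-57) (.lin
    11) (.split 7 (-33) (.split 3 (-52) (.wt 2) (.split 2 (-27) (.lin 2) (.split 6 62 (.split 0
    95 (.wt 2) (.split 4 123 (.lin 3) (.split 5 (-112) (.splitN 78874 (.wt 1) (.split 3 (-45)
    (.wt 0) (.split 2 (-18) (.lin 2) (.split 6 53 (.splitN 82675 (.wt 1) (.wt 0)) (.lin 9)))))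
    (.lin 4)))) (.lin 9)))) (.split 2 (-26) (.split 4 169 (.split 6 62 (.split 2 (-36) (.lin 9)
    (.split 3 (-48) (.lin 2) (.split 0 110 (.split 5 (-122) (.lin 4) (.split 4 133 (.split 3
    (-43) (.split 2 (-35) (.split 6 61 (.lin 9) (.splitN 116731 (.wt 1) (.split 0 87 (.wt 0)
    (.split 5 (-103) (.split 0 94 (.wt 2) (.split 5 (-112) (.split 4 123 (.lin 0) (.splitN 123581
    (.wt 3) (.wt 1))) (.lin 1))) (.lin 1))))) (.lin 2)) (.split 2 (-27) (.lin 2) (.split 6 53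
    (.splitN 125976 (.wt 1) (.split 0 85 (.wt 0) (.split 5 (-103) (.split 4 114 (.lin 0) (.splitN
    136111 (.split 0 103 (.split 5 (-113) (.lin 1) (.split 4 124 (.split 0 88 (.wt 0) (.split 5
    (-112) (.wt 2) (.lin 1))) (.lin 0))) (.wt 0)) (.wt 1))) (.lin 1)))) (.lin 9)))) (.lin 8)))
    (.split 4 132 (.lin 3) (.split 5 (-130) (.split 4 141 (.lin 8) (.split 3 (-40) (.split 2
    (-35) (.split 6 61 (.lin 9) (.splitN 132988 (.wt 0) (.wt 1))) (.lin 2)) (.wt 2))) (.lin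
    4)))))) (.split 2 (-44) (.split 3 (-56) (.splitN 125037 (.split 0 132 (.split 5 (-140) (.lin
    1) (.split 4 151 (.split 0 89 (.wt 2) (.split 5 (-112) (.split 4 123 (.lin 0) (.splitN 119168
    (.split 0 103 (.split 5 (-113) (.lin 1) (.split 4 124 (.wt 2) (.lin 0))) (.wt 0)) (.wt 1)))
    (.lin 1))) (.lin 0))) (.wt 0)) (.wt 1)) (.lin 2)) (.lin 9))) (.lin 8)) (.lin 2))))) (.split 2
    (-44) (.split 3 (-65) (.split 7 (-33) (.split 2 (-54) (.lin 2) (.split 4 114 (.lin 8)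
    (.splitN 76639 (.splitN 72015 (.wt 1) (.split 0 129 (.wt 0) (.split 5 (-148) (.split 4 168
    (.lin 8) .sq) (.lin 4)))) (.wt 0)))) (.split 2 (-53) (.split 0 131 (.split 5 (-149) (.lin 1)
    (.split 5 (-140) (.lin 4) (.split 4 151 (.split 0 101 (.split 5 (-122) (.lin 1) (.split 5
    (-113) (.lin 4) (.split 4 124 (.splitN 113604 (.split 0 88 (.split 5 (-104) (.lin 4) (.split
    4 115 (.split 3 (-73) (.wt 2) (.split 2 (-54) (.lin 2) (.split 6 80 (.splitN 105753 (.wt 1)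
    (.wt 0)) (.lin 9)))) (.lin 8))) (.split 4 114 (.lin 3) (.split 5 (-112) (.split 4 123 (.lin
    8) (.split 6 86 (.split 3 (-66) (.lin 6) (.wt 0)) (.wt 2))) (.lin 4)))) (.wt 3)) (.lin 8))))
    (.split 5 (-112) (.split 4 114 (.lin 0) (.split 4 123 (.lin 3) (.split 5 (-121) (.split 4 132
    (.lin 8) (.split 0 119 (.split 5 (-131) (.lin 4) (.split 3 (-69) (.split 2 (-62) (.split 6 88
    (.lin 9) (.splitN 115582 (.wt 0) (.wt 1))) (.lin 2)) (.wt 2))) (.wt 2))) (.lin 4)))) (.lin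
    1))) (.lin 8)))) (.wt 2)) (.lin 2))) (.lin 11)) (.lin 9)))) (.lin 4))) (.lin 8))) (.lin 3))
    (.lin 0))) (.split 5 (-121) (.split 4 96 (.lin 0) (.split 4 141 (.lin 3) (.split 5 (-166)
    (.split 4 177 (.lin 8) (.splitN 87623 .sq (.splitN 202053 (.split 0 369 (.split 4 439 (.split
    5 (-383) (.lin 4) (.split 4 381 (.split 6 71 (.split 3 (-57) (.lin 11) (.splitN 179797
    (.split 0 337 (.split 5 (-347) (.lin 4) (.split 4 350 (.split 7 (-33) (.split 2 (-36) (.lin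
    2) (.split 0 313 (.split 5 (-329) (.lin 4) (.splitN 105838 (.split 0 197 (.split 5 (-230)
    (.lin 1) (.split 4 268 (.split 3 (-51) (.wt 0) (.split 2 (-27) (.lin 2) (.split 6 62 (.split
    3 (-45) (.wt 0) (.split 2 (-18) (.lin 2) (.split 6 53 (.splitN 89978 .sq (.wt 0)) (.lin 9))))
    (.lin 9)))) (.lin 0))) .sq) (.wt 1))) (.lin 12))) (.split 3 (-42) (.split 2 (-35) (.split 6
    61 (.lin 9) (.splitN 138178 (.split 3 (-52) (.split 2 (-44) (.split 6 70 (.lin 9) (.wt 0))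
    (.lin 2)) (.wt 0)) (.wt 1))) (.lin 2)) (.wt 2))) .sq)) .sq) (.wt 1))) (.split 2 (-44) (.split
    3 (-65) (.splitN 95642 .sq (.splitN 123077 (.split 7 (-36) (.wt 0) (.wt 0)) (.wt 1))) (.lin
    11)) (.lin 9))) .sq)) (.lin 3)) .sq) (.wt 1)))) (.lin 4)))) (.lin 1)))

def cert5_129_1 : Cert :=
  (.split 0 113 (.split 5 (-122) (.lin 4) (.split 4 142 (.splitN 127598 (.split 0 35 (.wt 2)
    (.split 5 (-58) (.split 3 (-321) .sq (.split 6 332 (.split 0 74 (.split 5 (-86) (.lin 4)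
    (.split 4 106 (.split 6 105 (.wt 2) (.split 3 (-92) (.split 6 114 (.wt 2) (.split 3 (-101)
    (.split 6 122 (.wt 2) (.split 3 (-110) (.split 0 44 (.wt 2) (.split 5 (-67) (.split 4 78
    (.lin 8) (.split 6 135 (.wt 2) (.split 2 (-107) (.split 3 (-119) (.split 6 151 (.wt 2)
    (.split 2 (-116) (.split 3 (-137) (.splitN 69803 .sq (.split 7 (-34) (.wt 0) (.split 4 97
    (.split 6 163 (.wt 2) (.split 2 (-143) (.split 3 (-155) (.splitN 87848 .sq (.split 0 53 (.wt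
    0) (.split 5 (-76) (.split 4 87 (.lin 8) (.splitN 91655 .sq (.wt 3))) (.lin 4)))) (.lin 2))
    (.lin 9))) (.lin 8)))) (.lin 11)) (.lin 9))) (.lin 2)) (.lin 9)))) (.lin 4))) (.lin 11)))
    (.lin 11))) (.lin 11))) (.lin 8))) (.split 5 (-94) (.split 4 105 (.lin 8) (.splitN 122586
    (.split 6 287 (.split 3 (-273) (.lin 11) (.split 7 (-33) (.split 4 114 (.lin 8) (.splitN
    74097 (.split 6 119 (.wt 2) (.split 2 (-89) (.split 3 (-110) (.splitN 65573 .sq (.split 3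
    (-187) (.wt 0) (.split 2 (-162) (.lin 2) (.split 6 197 (.split 0 88 (.wt 0) (.split 5 (-112)
    (.split 4 132 (.lin 8) .sq) (.lin 4))) (.lin 9))))) (.lin 2)) (.lin 9))) (.wt 3))) (.split 4
    133 (.splitN 72316 (.wt 0) (.split 6 245 (.split 2 (-216) (.lin 9) (.split 3 (-228) (.lin 2)
    (.split 6 222 (.split 2 (-189) (.lin 9) (.split 3 (-201) (.lin 2) (.split 6 156 (.split 2
    (-126) (.lin 9) (.split 3 (-138) (.lin 2) (.split 6 125 (.split 2 (-99) (.lin 9) (.split 3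
    (-111) (.lin 2) (.split 6 111 (.split 2 (-81) (.lin 9) (.split 3 (-93) (.lin 2) (.splitN
    109950 .cand (.wt 1)))) (.splitN 105038 .cand (.wt 1))))) (.splitN 102323 .cand (.wt 1)))))
    (.split 2 (-107) (.split 2 (-134) (.split 3 (-146) (.splitN 92546 .sq (.splitN 99975 (.split
    0 102 (.split 5 (-113) (.lin 4) (.split 4 124 (.split 6 202 (.split 2 (-171) (.lin 9) (.split
    3 (-183) (.lin 2) (.split 0 96 (.split 5 (-104) (.lin 4) (.split 4 115 (.split 6 183 (.split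
    2 (-153) (.lin 9) (.split 3 (-165) (.lin 2) (.split 6 177 (.split 2 (-144) (.lin 9) (.split 3
    (-156) (.lin 2) (.split 0 87 (.split 5 (-95) (.lin 4) (.split 4 106 (.split 3 (-150) (.split
    2 (-143) (.split 6 169 (.lin 0) .sq) (.lin 1)) (.wt 1)) (.lin 8))) (.wt 0)))) (.wt 1)))) (.wt
    1)) (.lin 8))) (.wt 0)))) (.wt 1)) (.lin 8))) (.wt 0)) (.wt 1))) (.lin 2)) (.lin 9)) (.lin
    0))))) (.wt 2)))) (.wt 2))) (.lin 8)))) .sq) (.wt 1))) (.lin 4))) (.lin 11))) (.lin 4))) (.wt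
    3)) (.lin 8))) (.split 5 (-130) (.split 4 141 (.lin 8) (.splitN 71666 .sq (.splitN 131041
    (.split 0 268 (.split 5 (-284) (.lin 4) (.split 2 (-250) .sq (.split 3 (-264) (.lin 2)
    (.split 4 280 (.split 5 (-266) (.lin 8) (.split 6 261 (.split 3 (-246) (.lin 11) (.split 7
    (-33) (.split 4 150 (.lin 8) (.splitN 84543 (.split 6 229 (.split 0 141 (.split 5 (-149)
    (.lin 4) (.split 4 169 (.splitN 76577 (.split 3 (-176) (.wt 0) (.split 2 (-153) (.lin 2)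
    (.split 6 188 (.split 3 (-148) (.wt 0) (.split 2 (-126) (.lin 2) (.split 6 161 (.split 3
    (-126) (.wt 0) (.split 2 (-99) (.lin 2) (.split 6 134 (.split 3 (-105) (.wt 0) (.split 2
    (-81) (.lin 2) (.split 6 116 (.split 0 116 (.wt 0) (.split 5 (-139) (.split 4 159 (.lin 8)
    .sq) (.lin 4))) (.lin 9)))) (.lin 9)))) (.lin 9)))) (.lin 9)))) (.wt 3)) (.lin 8))) .sq) (.wt
    1)) (.wt 1))) (.split 2 (-71) (.splitN 95499 (.wt 3) (.split 6 246 (.split 2 (-216) (.lin 9)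
    (.split 3 (-228) (.lin 2) (.split 3 (-95) (.split 2 (-89) (.split 6 115 (.lin 9) (.splitN
    114943 (.split 3 (-104) (.split 2 (-98) (.split 6 124 (.lin 9) (.split 0 233 (.split 5 (-248)
    (.lin 4) (.split 3 (-113) (.split 2 (-107) (.split 6 133 (.lin 9) (.splitN 108737 (.split 0
    157 (.split 5 (-167) (.lin 4) (.split 3 (-152) (.split 2 (-143) (.split 6 169 (.lin 9) .sq)
    (.lin 2)) (.wt 0))) (.wt 0)) (.wt 1))) (.lin 2)) (.wt 0))) (.wt 0))) (.lin 2)) (.wt 0)) (.wt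
    1))) (.lin 2)) (.wt 2)))) (.wt 1))) (.lin 2)))) .sq)) .sq)))) .sq) (.wt 1)))) (.lin 4)))

def cert5_129_2 : Cert :=
  (.split 7 (-64) (.split 3 (-56) (.splitN 111186 (.split 0 3080 (.split 2 (-617) (.div 2)
    (.split 3 (-3081) (.div 3) (.split 7 (-3089) (.lin 2) (.split 4 6163 (.split 6 6758 (.split 6
    3698 (.split 4 1232 (.split 6 1826 (.split 5 (-617) (.div 5) (.split 0 610 (.splitN 68071
    (.split 2 (-365) (.div 2) (.split 4 728 (.split 6 1070 (.split 5 (-365) (.div 5) (.split 0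
    358 (.split 0 35 (.wt 2) (.split 5 (-49) (.split 6 72 (.wt 2) (.split 3 (-65) (.split 0 44
    (.wt 2) (.split 5 (-58) (.split 4 114 (.lin 12) (.splitN 34127 .sq (.split 1 7 (.wt 0)
    (.split 5 (-67) (.split 6 86 (.wt 2) (.split 3 (-74) (.split 0 52 (.wt 2) (.split 5 (-76)
    (.split 4 123 (.lin 8) (.splitN 42686 .sq (.split 7 (-417) (.wt 0) (.split 6 773 (.split 7
    (-381) (.wt 0) (.split 6 98 (.wt 2) (.split 3 (-92) (.splitN 49202 .sq (.splitN 61253 (.split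
    2 (-329) (.div 2) (.split 6 701 (.split 7 (-122) (.wt 0) (.split 6 440 (.split 0 75 (.wt 2)
    (.split 5 (-94) (.split 4 141 (.lin 8) .sq) (.lin 4))) (.lin 9))) (.lin 9))) (.wt 3))) (.lin
    11)))) (.lin 9))))) (.lin 4))) (.lin 11))) (.lin 4))))) (.lin 4))) (.lin 11))) (.lin 4)))
    (.lin 4))) (.lin 0)) (.div 4))) (.wt 3)) (.lin 4))) (.lin 0)) (.div 4)) (.lin 9)) (.lin 0))
    (.lin 5))))) (.div 0)) (.wt 0)) (.lin 2)) (.split 6 96 (.split 2 (-63) (.lin 9) (.split 3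
    (-84) (.lin 11) (.splitN 717846 (.split 4 7964 (.split 5 (-7997) (.lin 0) (.split 0 8044
    (.split 5 (-3983) (.div 5) (.split 4 4057 (.split 0 4030 (.splitN 672314 (.split 0 30 (.wt 2)
    (.split 5 (-40) (.split 0 813 (.split 5 (-887) (.lin 1) (.split 4 961 (.split 4 889 (.splitN
    542291 (.split 0 729 (.split 5 (-743) (.lin 4) (.split 4 731 (.split 1 11 (.splitN 59831
    (.split 5 (-329) (.div 5) (.split 4 403 (.split 4 376 (.splitN 56502 (.split 5 (-311) (.div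
    5) (.split 0 304 (.splitN 52075 (.split 5 (-275) (.div 5) (.split 0 268 (.wt 2) (.lin 4)))
    (.wt 4)) (.lin 4))) (.wt 0)) (.lin 8)) (.lin 0))) (.wt 0)) (.split 5 (-49) (.split 3 (-75)
    (.lin 11) (.split 6 52 (.lin 11) (.split 0 34 (.wt 2) (.split 5 (-58) (.split 7 (-42) (.split
    2 (-45) (.lin 2) (.splitN 92460 (.split 5 (-509) (.div 5) (.split 4 574 (.split 0 53 (.wt 2)
    (.split 5 (-76) (.split 4 105 (.lin 8) (.split 0 260 (.split 5 (-320) (.lin 1) (.split 4 340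
    (.split 5 (-275) (.lin 4) (.split 4 313 (.splitN 86053 (.split 0 247 (.split 5 (-257) (.lin
    4) (.split 4 295 (.split 3 (-73) (.wt 2) (.split 6 80 (.split 0 67 (.wt 2) (.split 5 (-85)
    (.split 3 (-62) (.wt 2) (.split 6 71 (.split 0 87 (.wt 2) (.split 5 (-103) (.split 0 91 (.wt
    2) (.split 5 (-112) (.split 3 (-51) (.wt 2) (.split 2 (-18) (.lin 2) (.split 6 62 (.splitN
    80490 (.split 0 144 (.wt 2) (.split 5 (-166) (.split 4 195 (.lin 8) .sq) (.lin 4))) (.wt 3))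
    (.lin 11)))) (.lin 4))) (.lin 4))) (.lin 11))) (.lin 4))) (.lin 11))) (.lin 8))) .sq) (.wt
    3)) (.lin 8))) (.lin 3))) .sq)) (.lin 4))) (.lin 0))) (.wt 3))) (.split 2 (-17) (.splitN
    330655 (.split 0 560 (.split 5 (-617) (.lin 1) (.split 4 628 (.split 5 (-572) (.lin 4)
    (.splitN 306795 (.split 4 542 (.split 5 (-527) (.lin 8) cert5_129_0) .sq) (.wt 3))) (.lin
    3))) .sq) (.wt 1)) (.lin 2))) (.lin 4))))) (.lin 4))) .sq)) .sq) (.wt 3)) (.lin 3)) (.lin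
    0))) .sq) (.lin 4))) (.wt 3)) (.lin 1)) (.lin 0))) (.lin 1))) (.div 4)) (.wt 3)))) (.split 2
    (-44) (.split 3 (-83) (.splitN 302965 (.split 2 (-1679) (.div 2) (.split 3 (-1722) (.lin 2)
    (.split 4 3356 (.split 5 (-1679) (.div 5) (.split 0 1672 (.split 4 1726 (.splitN 288320
    (.split 2 (-1589) (.div 2) (.split 6 1637 (.split 5 (-1589) (.div 5) (.split 4 1636 (.splitN
    220549 (.split 0 27 (.wt 2) (.split 5 (-40) (.split 4 60 (.lin 12) (.split 0 439 (.split 5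
    (-455) (.lin 4) (.split 4 502 (.splitN 203017 (.split 2 (-422) .sq (.split 3 (-462) (.lin 2)
    (.split 6 467 (.splitN 185713 (.split 3 (-409) .sq (.split 6 422 (.split 4 404 (.split 5
    (-392) (.lin 8) (.split 1 11 (.split 3 (-92) (.splitN 48446 (.split 2 (-257) (.div 2) (.split
    6 305 (.split 5 (-257) (.div 5) (.split 0 250 (.split 4 304 (.splitN 45857 (.split 2 (-239)
    (.div 2) (.split 6 287 (.wt 2) (.lin 9))) (.wt 0)) (.lin 8)) (.lin 4))) (.lin 9))) (.wt 0))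
    (.lin 11)) (.split 5 (-49) (.split 7 (-42) (.splitN 69383 (.split 0 49 (.wt 2) (.split 5
    (-67) (.split 0 52 (.wt 2) (.split 5 (-76) (.split 4 105 (.lin 8) (.split 0 175 (.split 5
    (-185) (.lin 4) (.split 4 223 (.splitN 64851 (.split 6 108 (.wt 2) (.split 2 (-62) (.split 3
    (-92) (.split 3 (-101) (.split 0 65 (.wt 2) (.split 5 (-85) (.split 4 114 (.lin 8) (.split 6
    128 (.wt 2) (.split 2 (-80) (.split 3 (-119) .sq (.lin 11)) (.lin 9)))) (.lin 4))) (.lin 11))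
    (.lin 2)) (.lin 9))) (.wt 3)) (.lin 8))) .sq)) (.lin 4))) (.lin 4))) (.wt 3)) (.split 2 (-62)
    cert5_129_1 (.lin 2))) (.lin 4)))) .sq) (.lin 11))) (.wt 3)) (.lin 9)))) (.wt 1)) (.lin 8)))
    .sq)) (.lin 4))) (.wt 3)) (.lin 8))) (.lin 9))) (.wt 1)) (.lin 8)) (.lin 4))) (.div 4))))
    (.wt 1)) (.lin 11)) (.lin 9))))

def cert5_129_3 : Cert :=
  (.split 3 (-113) (.split 5 (-284) (.lin 7) (.split 1 241 (.split 6 142 (.lin 11) (.split 0 32
    (.wt 2) (.split 5 (-58) (.split 4 96 (.lin 12) (.splitN 53324 .sq (.split 1 25 (.wt 0)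
    (.split 5 (-67) (.split 6 151 (.lin 11) (.splitN 57635 .sq (.split 7 (-155) (.wt 0) (.split 4
    196 (.split 7 (-141) (.wt 0) (.split 2 (-17) (.split 4 178 (.split 1 37 (.wt 0) (.split 2
    (-26) (.split 5 (-76) (.split 6 160 (.lin 11) (.splitN 63044 .sq (.split 1 55 (.wt 0) (.split
    2 (-44) (.split 5 (-94) (.split 6 178 (.lin 11) (.splitN 75356 .sq (.wt 3))) (.lin 4)) (.lin
    2))))) (.lin 4)) (.lin 2))) (.lin 12)) (.lin 2))) (.lin 12))))) (.lin 4))))) (.lin 4))))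
    (.lin 11))) (.split 6 159 (.split 2 (-108) (.lin 3) (.split 1 115 (.split 4 187 (.split 5
    (-158) (.lin 4) (.split 7 (-146) (.lin 9) (.splitN 43284 (.wt 1) (.splitN 110834 (.split 0 34
    (.split 3 (-61) (.wt 2) (.split 6 80 (.wt 2) (.split 5 (-58) (.split 1 33 (.lin 11) (.split 0
    25 (.wt 2) (.split 5 (-67) (.split 3 (-56) (.wt 2) (.split 5 (-76) (.split 7 (-105) (.split 1
    69 (.lin 2) (.split 5 (-103) (.split 6 115 (.lin 9) (.split 4 141 (.lin 12) (.splitN 63674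
    .sq (.splitN 71249 (.split 1 72 (.wt 0) (.split 2 (-22) (.wt 0) (.split 3 (-44) (.wt 0)
    (.split 7 (-132) (.wt 0) (.split 5 (-140) (.lin 1) (.split 1 106 (.split 4 169 (.split 6 143
    (.split 1 83 (.wt 0) (.split 5 (-121) (.split 6 124 (.lin 7) .sq) (.lin 4))) (.lin 7)) (.lin
    5)) (.lin 2))))))) (.wt 0))))) (.lin 1))) (.split 4 133 (.split 6 91 (.wt 2) (.split 5 (-85)
    (.split 7 (-82) (.split 3 (-47) (.wt 2) (.split 5 (-94) (.split 6 108 (.wt 2) (.split 2 (-17)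
    (.splitN 71349 .cand (.wt 1)) (.lin 3))) (.lin 7))) (.split 2 (-26) (.split 4 106 (.splitN
    88192 .cand (.wt 0)) (.lin 12)) (.lin 9))) (.lin 7))) (.lin 12))) (.lin 7))) (.lin 4))))
    (.lin 7)))) .cand) (.wt 3))))) (.lin 3)) (.lin 11))) (.split 5 (-76) (.split 1 51 (.lin 11)
    (.splitN 132312 (.split 1 290 (.split 4 299 (.split 5 (-297) .sq (.split 1 268 (.split 6 328
    (.split 7 (-132) (.split 4 159 (.lin 12) (.splitN 80630 .sq (.wt 3))) (.split 2 (-35) (.split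
    4 169 (.splitN 99192 (.split 1 226 (.split 5 (-266) (.lin 4) (.split 5 (-233) .sq (.split 1
    205 (.split 6 272 (.split 3 (-74) (.splitN 82947 (.split 0 31 (.wt 2) (.split 5 (-85) (.split
    4 96 (.lin 12) (.splitN 57212 .sq (.split 7 (-126) (.wt 3) (.split 2 (-44) (.split 1 162
    (.split 7 (-117) (.wt 3) (.split 2 (-53) (.split 4 151 (.split 5 (-174) .sq (.split 1 133
    (.split 6 242 (.split 7 (-109) (.wt 0) (.split 2 (-62) (.split 4 142 (.splitN 59831 .sq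
    (.split 7 (-95) (.wt 0) (.split 4 133 (.split 0 34 (.wt 2) (.split 5 (-94) (.split 4 105
    (.lin 12) (.split 7 (-89) (.wt 3) (.split 2 (-80) (.split 4 124 (.splitN 66518 .sq (.split 1
    62 (.wt 0) (.split 5 (-112) (.splitN 72422 .sq (.wt 3)) (.lin 4)))) (.lin 12)) (.lin 9))))
    (.lin 4))) (.lin 12)))) (.lin 12)) (.lin 9))) (.lin 7)) (.lin 4))) (.lin 12)) (.lin 9))) .sq)
    (.lin 9))))) (.lin 4))) (.wt 3)) (.split 5 (-121) (.split 1 96 (.lin 11) (.splitN 91245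
    (.split 1 180 (.split 5 (-195) .sq (.split 6 221 (.split 0 34 (.split 4 160 (.split 3 (-65)
    (.wt 2) (.split 5 (-130) (.split 1 105 (.lin 11) (.splitN 69191 .sq (.split 7 (-105) (.wt 0)
    (.split 2 (-62) (.split 4 133 (.split 7 (-99) (.wt 0) (.split 2 (-71) (.split 4 124 (.split 7
    (-90) (.wt 1) (.split 2 (-80) (.split 4 115 (.split 7 (-80) (.wt 3) (.split 2 (-89) (.split 4
    106 (.splitN 75887 .sq (.split 0 26 (.wt 0) (.wt 1))) (.lin 12)) (.lin 9))) (.lin 12)) (.lin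
    9))) (.lin 12)) (.lin 9))) (.lin 12)) (.lin 9))))) (.lin 7))) (.lin 12)) (.split 5 (-139)
    (.split 4 105 (.lin 12) (.splitN 74501 .sq (.splitN 76741 (.split 1 103 (.wt 1) (.split 5
    (-148) .sq (.lin 4))) (.wt 1)))) (.lin 4))) .sq)) .sq) (.wt 1))) (.lin 7))) .sq) (.lin 4))))
    .sq) (.wt 1)) (.lin 12)) (.lin 9))) .sq) (.lin 4))) .sq) .sq) (.wt 1))) (.lin 7))))

def cert5_129_4 : Cert :=
  (.split 5 (-176) (.lin 7) (.split 1 79 (.split 6 97 (.lin 11) (.splitN 103415 (.split 7 (-105)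
    (.split 6 115 (.lin 9) (.split 4 159 (.lin 12) (.splitN 65582 .sq (.splitN 76496 (.split 0 59
    (.wt 0) (.split 4 168 (.lin 12) (.split 1 44 (.wt 0) (.split 5 (-112) (.split 6 124 (.lin 11)
    .sq) (.lin 4))))) (.wt 1))))) (.split 4 196 (.splitN 47901 (.wt 1) (.split 1 44 (.split 5
    (-140) (.lin 4) (.split 0 74 (.split 4 169 (.split 6 101 (.wt 2) (.split 7 (-82) (.split 0 56
    (.wt 2) (.split 5 (-85) (.split 4 141 (.lin 12) (.splitN 55448 .sq (.split 1 25 (.wt 0)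
    (.split 5 (-94) (.split 3 (-91) (.wt 2) (.split 2 (-45) (.lin 2) (.split 6 125 (.wt 2) (.lin
    11)))) (.lin 4))))) (.lin 4))) (.split 2 (-35) (.split 4 142 (.split 1 34 (.split 6 143
    (.split 0 59 (.wt 2) (.split 5 (-85) (.split 4 123 (.lin 12) (.split 1 26 (.wt 2) (.split 5
    (-94) (.splitN 57400 (.wt 1) (.split 3 (-107) (.wt 0) (.split 6 134 (.split 3 (-100) (.wt 0)
    (.split 2 (-63) (.lin 2) (.split 6 125 (.wt 2) (.lin 11)))) (.lin 11)))) (.lin 4)))) (.lin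
    4))) (.lin 11)) .cand) (.lin 12)) (.lin 9)))) (.lin 12)) (.split 5 (-103) (.split 4 141 (.lin
    12) (.split 7 (-82) (.split 4 159 (.lin 12) (.splitN 64943 .sq (.split 1 29 (.wt 0) (.split 5
    (-112) (.split 6 106 (.lin 11) (.splitN 69254 .sq (.split 1 35 (.wt 0) (.split 2 (-17)
    (.split 6 115 (.lin 11) (.wt 1)) (.lin 2))))) (.lin 4))))) (.split 2 (-26) (.split 4 169
    (.split 1 34 (.split 6 143 (.split 6 120 (.splitN 67785 (.split 1 29 (.wt 2) (.split 2 (-35)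
    (.split 5 (-112) (.split 6 106 (.lin 11) (.splitN 62351 .sq (.split 0 80 (.wt 0) (.split 5
    (-121) (.split 4 150 (.lin 8) .sq) (.lin 4))))) (.lin 4)) (.lin 2))) (.wt 3)) (.split 2 (-35)
    (.split 3 (-92) (.splitN 68633 .sq (.wt 0)) (.lin 11)) (.lin 3))) (.lin 11)) (.split 2 (-44)
    (.split 5 (-121) (.split 6 115 (.lin 11) (.splitN 67859 .sq (.split 0 86 (.split 5 (-122)
    (.lin 4) (.split 4 151 (.wt 1) (.lin 8))) (.wt 1)))) (.lin 4)) (.lin 2))) (.lin 12)) (.lin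
    2)))) (.lin 4)))) (.split 2 (-26) (.split 5 (-103) (.split 3 (-102) (.lin 11) (.split 6 124
    (.lin 11) (.split 0 74 (.split 5 (-149) (.lin 4) (.split 7 (-82) (.split 4 132 (.lin 12)
    (.splitN 70400 (.split 4 155 (.split 5 (-132) .sq (.split 6 148 (.split 0 53 (.wt 2) (.split
    2 (-35) (.split 5 (-112) (.split 4 141 (.lin 12) (.splitN 68183 .sq (.wt 1))) (.lin 4)) (.lin
    3))) .sq)) .sq) (.wt 1))) (.split 2 (-35) (.split 2 (-53) (.split 4 142 (.split 0 61 (.split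
    5 (-140) (.lin 4) (.split 4 133 (.splitN 75165 (.split 3 (-88) (.split 2 (-62) (.split 1 70
    (.split 2 (-71) (.split 6 142 (.lin 11) (.splitN 67292 .sq (.split 0 56 (.wt 0) (.split 5
    (-112) (.split 4 123 (.lin 12) .sq) (.lin 4))))) (.lin 2)) (.lin 2)) (.lin 1)) (.split 1 65
    (.split 6 143 (.split 7 (-69) (.splitN 67842 (.split 0 52 (.wt 2) (.split 5 (-112) (.split 4
    132 (.lin 12) .sq) (.lin 4))) (.wt 0)) .cand) (.lin 11)) (.split 2 (-71) (.split 5 (-121)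
    (.split 6 142 (.lin 11) (.splitN 70532 .sq (.wt 1))) (.lin 4)) (.lin 2)))) (.wt 1)) (.lin
    12))) (.split 5 (-121) (.split 4 132 (.lin 12) (.splitN 67940 .sq (.splitN 72630 (.split 7
    (-73) (.wt 1) (.split 2 (-62) (.split 4 133 (.split 1 72 (.split 5 (-140) (.lin 4) (.split 6
    151 (.split 3 (-93) (.lin 6) (.split 1 64 (.split 5 (-131) (.lin 4) (.split 3 (-75) (.split 2
    (-71) (.split 6 133 (.lin 3) .sq) (.lin 1)) (.wt 0))) (.wt 0))) (.wt 1))) (.wt 0)) (.lin 12))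
    (.lin 1))) (.wt 1)))) (.lin 4))) (.lin 12)) (.lin 9)) (.lin 1)))) (.split 5 (-130) (.split 4
    141 (.lin 12) (.splitN 71882 .sq (.split 7 (-71) (.wt 1) (.split 2 (-44) (.split 2 (-62)
    (.split 4 160 (.splitN 72221 .sq (.wt 1)) (.lin 12)) (.lin 9)) (.lin 1))))) (.lin 4)))))
    (.lin 4)) (.lin 2)))) (.lin 12))) (.wt 1))) (.lin 11)))

def cert5_129_5 : Cert :=
  (.split 3 (-52) (.split 6 79 (.lin 11) (.splitN 97186 (.splitN 48006 (.wt 1) (.split 7 (-87)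
    (.split 5 (-85) (.split 6 97 (.lin 9) (.splitN 76083 (.split 0 53 (.wt 2) (.split 5 (-94)
    (.split 4 150 (.lin 12) (.split 0 79 (.split 4 187 (.split 5 (-131) (.lin 4) (.split 1 43
    (.split 6 107 (.split 0 64 (.wt 2) (.split 5 (-103) (.split 4 159 (.lin 12) (.splitN 63350
    .sq (.split 1 36 (.wt 0) (.split 5 (-112) (.split 2 (-15) (.wt 0) (.split 3 (-64) (.wt 0)
    (.split 7 (-92) (.lin 2) (.split 6 98 (.wt 2) (.lin 9))))) (.lin 4))))) (.lin 1))) (.lin 11))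
    (.split 5 (-112) (.split 6 106 (.lin 11) (.splitN 64700 .sq (.split 2 (-17) (.wt 1) (.split 4
    159 (.lin 0) (.split 7 (-100) (.splitN 69218 .sq (.wt 1)) (.lin 2)))))) (.lin 4)))) (.lin 3))
    (.split 5 (-121) (.split 4 177 (.lin 12) .sq) (.lin 1)))) (.lin 1))) (.wt 1))) (.lin 1))
    (.split 4 178 (.split 1 38 (.split 6 98 (.split 0 62 (.wt 2) (.split 5 (-94) (.split 7 (-73)
    (.split 0 71 (.wt 2) (.split 5 (-103) (.split 4 150 (.lin 12) (.split 6 81 (.wt 2) (.splitN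
    56726 .sq (.split 1 29 (.split 3 (-65) (.split 6 89 (.wt 0) (.lin 11)) (.lin 11)) .cand))))
    (.lin 4))) .cand) (.lin 4))) (.lin 11)) (.split 2 (-17) (.split 5 (-94) (.split 6 97 (.lin
    11) (.split 0 74 (.split 5 (-122) (.lin 4) (.split 4 160 (.split 4 151 (.split 7 (-73)
    (.split 2 (-45) (.lin 2) (.split 4 123 (.lin 12) (.split 0 61 (.split 5 (-113) (.lin 4)
    (.split 4 142 (.split 6 107 (.split 0 54 (.wt 2) (.split 5 (-103) (.split 3 (-62) (.wt 2)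
    .cand) (.lin 4))) (.split 2 (-26) (.split 1 51 (.lin 11) (.split 5 (-103) (.split 3 (-65)
    (.splitN 61428 (.wt 1) (.split 0 53 (.wt 0) (.split 4 132 (.lin 3) (.split 5 (-112) (.split 7
    (-79) (.wt 0) (.split 2 (-44) (.wt 2) (.lin 1))) (.lin 4))))) (.lin 11)) (.lin 4))) (.lin
    3))) (.lin 12))) (.split 5 (-112) (.split 4 132 (.lin 8) (.split 4 141 (.lin 12) (.split 6
    107 (.split 3 (-61) (.split 1 43 (.wt 2) (.lin 11)) (.split 1 48 (.split 5 (-113) (.lin 4)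
    (.split 6 98 (.split 7 (-75) (.wt 2) (.wt 2)) (.lin 7))) (.wt 2))) (.split 2 (-26) (.split 2
    (-35) (.split 1 51 (.lin 11) (.split 5 (-121) (.split 3 (-65) (.splitN 66644 .sq (.wt 1))
    (.lin 7)) (.lin 4))) (.lin 9)) (.lin 0))))) (.lin 4))))) .cand) (.lin 12)) (.lin 8))) (.split
    4 123 (.lin 3) (.split 5 (-121) (.split 4 132 (.lin 8) (.split 4 141 (.lin 12) (.split 0 94
    (.split 5 (-140) (.lin 4) (.split 3 (-57) (.split 2 (-26) (.split 6 106 (.lin 11) (.splitN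
    63167 .sq (.wt 6))) (.lin 2)) (.wt 2))) (.wt 2)))) (.lin 4))))) (.lin 4)) (.lin 2))) (.lin
    12)))) (.wt 1))) (.split 2 (-36) (.lin 2) (.split 7 (-92) (.lin 2) (.split 4 187 (.split 6 98
    (.splitN 95956 (.split 1 38 (.split 2 (-18) (.lin 2) (.split 7 (-74) (.lin 2) (.split 6 80
    (.splitN 57081 (.wt 1) (.split 0 74 (.split 4 142 (.splitN 80753 (.split 1 29 (.split 2 (-9)
    (.lin 2) (.split 3 (-47) (.split 7 (-65) (.lin 2) (.split 4 133 (.split 6 71 (.wt 0) (.lin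
    9)) (.lin 5))) (.lin 2))) (.split 5 (-85) (.split 3 (-47) (.wt 2) (.split 2 (-9) (.lin 2)
    (.split 7 (-65) (.lin 2) (.split 6 71 (.splitN 76006 (.wt 1) (.split 0 66 (.wt 0) (.split 5
    (-103) (.split 4 132 (.lin 0) (.wt 0)) (.lin 1)))) (.lin 9))))) (.lin 4))) (.wt 3)) (.lin 3))
    (.split 5 (-103) (.split 1 29 (.split 2 (-9) (.lin 2) (.split 3 (-47) (.split 7 (-65) (.lin
    2) (.split 4 160 (.split 6 71 (.splitN 65398 (.wt 1) (.wt 0)) (.lin 9)) (.lin 5))) (.lin 2)))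
    .cand) (.lin 1)))) (.lin 11)))) (.split 5 (-94) (.split 6 79 (.lin 11) (.split 0 96 (.split 5
    (-140) (.lin 4) (.split 0 70 (.split 4 160 (.split 5 (-122) (.lin 4) (.split 7 (-78) (.split
    6 88 (.lin 9) (.split 4 132 (.lin 12) (.splitN 76039 (.split 3 (-43) .cand (.split 1 51 (.lin
    2) (.split 2 (-9) (.lin 2) (.split 7 (-83) (.lin 2) (.wt 0))))) (.wt 1)))) (.split 3 (-43)
    .cand (.split 0 57 (.split 6 85 (.split 1 43 (.split 5 (-95) (.lin 4) (.split 7 (-65) (.split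
    2 (-9) (.lin 1) (.split 4 123 (.lin 0) (.splitN 72581 (.wt 0) (.wt 0)))) (.wt 2))) (.lin 11))
    (.wt 2)) (.wt 2))))) (.lin 3)) (.split 4 123 (.lin 3) (.split 3 (-43) (.split 6 88 (.lin 11)
    (.wt 2)) (.wt 2))))) (.wt 2))) (.lin 4))) (.wt 1)) (.lin 11)) (.lin 5)))))

def cert5_129_6 : Cert :=
  (.split 3 (-113) (.split 5 (-338) (.lin 7) (.split 1 241 (.split 6 142 (.lin 11) (.splitN 61100
    .sq (.splitN 111044 (.split 3 (-253) .sq (.split 4 251 (.split 5 (-236) .sq (.split 1 178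
    (.splitN 105291 (.split 6 252 (.split 1 133 (.split 7 (-123) (.split 4 177 (.lin 12) (.splitN
    91592 .sq (.wt 0))) (.split 2 (-26) (.split 4 214 (.split 1 26 (.wt 3) (.split 2 (-35)
    (.split 5 (-85) (.split 6 151 (.lin 11) (.splitN 66896 .sq (.split 7 (-101) (.wt 1) (.split 2
    (-53) (.split 4 196 (.split 7 (-96) (.wt 1) (.split 2 (-62) (.split 1 37 (.wt 3) (.split 2
    (-71) (.split 5 (-94) (.split 3 (-210) (.lin 11) (.split 6 160 (.lin 11) (.splitN 75833 .sq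
    (.split 0 56 (.split 5 (-185) (.lin 4) (.split 4 142 (.wt 1) (.lin 12))) (.wt 1))))) (.lin
    4)) (.lin 2))) (.lin 2))) (.lin 12)) (.lin 2))))) (.lin 4)) (.lin 2))) (.lin 12)) (.lin 2)))
    (.lin 11)) .sq) (.wt 1)) (.lin 4))) .sq)) (.wt 1)))) (.lin 11))) (.splitN 141373 (.split 4
    346 (.split 5 (-336) .sq (.split 6 153 (.split 2 (-135) (.lin 3) (.split 2 (-90) (.lin 9)
    (.split 1 115 (.split 4 241 (.split 5 (-212) (.lin 4) (.split 3 (-74) cert5_129_4 (.split 1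
    53 (.split 2 (-54) (.lin 2) (.split 7 (-110) (.lin 2) (.split 5 (-149) (.lin 4) (.split 4 205
    (.split 6 116 (.splitN 102769 (.splitN 45949 (.wt 1) cert5_129_5) (.wt 1)) (.lin 11)) (.lin
    5))))) (.split 5 (-112) (.split 6 97 (.lin 11) (.split 7 (-105) (.split 6 115 (.lin 9)
    (.split 4 159 (.lin 12) (.splitN 71414 .sq (.splitN 75014 (.split 0 70 (.split 4 214 (.split
    5 (-185) (.lin 4) (.split 1 71 (.wt 1) (.split 5 (-130) .sq (.lin 4)))) (.lin 3)) (.wt 1))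
    (.wt 1))))) (.split 4 196 (.splitN 54069 (.wt 3) (.split 3 (-39) (.split 1 106 (.split 6 106
    (.lin 11) (.split 0 91 (.split 5 (-194) (.lin 4) (.split 7 (-82) (.split 4 132 (.lin 12)
    (.split 0 70 (.split 5 (-176) (.lin 4) (.split 4 169 (.split 3 (-56) (.split 2 (-17) (.split
    1 97 (.split 6 115 (.lin 11) (.splitN 60263 .sq (.splitN 72101 (.split 5 (-156) .sq (.split 0
    61 (.split 4 160 (.split 6 134 (.split 1 79 (.split 5 (-140) (.lin 4) (.split 7 (-91) (.split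
    4 141 (.lin 12) (.splitN 67839 (.split 1 70 (.split 2 (-39) .sq (.split 4 146 (.split 2 (-26)
    (.split 0 52 (.split 6 125 (.split 5 (-122) (.lin 4) (.split 7 (-92) (.lin 12) (.split 1 64
    (.wt 0) (.split 2 (-35) (.split 5 (-121) (.split 6 124 (.lin 0) .sq) (.lin 0)) (.lin 2)))))
    (.lin 3)) (.lin 12)) (.lin 3)) .sq)) .sq) (.wt 1))) .cand)) (.lin 11)) (.split 2 (-35)
    (.split 1 78 (.lin 11) (.split 5 (-130) .sq (.lin 4))) (.lin 3))) (.lin 12)) (.split 5 (-130)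
    (.split 4 150 (.lin 12) (.splitN 71927 .sq (.wt 1))) (.lin 4)))) (.wt 1)))) (.lin 11)) (.lin
    2)) (.split 0 57 (.split 1 90 (.split 2 (-54) (.lin 2) (.split 5 (-140) (.lin 4) (.splitN
    59055 (.wt 0) (.split 1 85 (.split 5 (-131) (.lin 4) (.split 6 117 (.split 1 70 (.split 5
    (-122) (.lin 4) (.split 7 (-84) (.split 4 141 (.lin 12) (.split 6 114 (.split 5 (-113) (.lin
    7) (.split 1 61 (.split 2 (-17) (.wt 6) (.split 7 (-100) (.splitN 66576 (.wt 0) (.wt 0))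
    (.lin 1))) (.lin 11))) (.wt 2))) (.wt 2))) (.lin 11)) (.wt 2))) (.wt 2))))) (.wt 2)) (.wt
    2))) (.lin 12))) (.split 5 (-139) (.split 4 159 (.lin 12) (.splitN 75329 .sq (.wt 6))) (.lin
    4)))) (.split 2 (-35) (.split 0 67 (.split 3 (-50) (.split 2 (-44) (.split 1 97 (.split 5
    (-158) (.lin 4) (.split 6 115 (.lin 11) (.split 6 144 (.split 5 (-149) (.lin 7) (.split 0 60
    (.split 7 (-69) .cand (.split 4 115 (.splitN 67308 (.wt 0) (.split 3 (-60) (.split 2 (-62)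
    (.split 6 124 (.lin 3) (.split 1 61 (.split 2 (-63) (.lin 2) (.split 5 (-113) (.lin 0) (.wt
    1))) (.wt 2))) (.lin 1)) (.wt 2))) (.lin 12))) (.wt 2))) (.wt 2)))) (.lin 11)) (.lin 2)) (.wt
    2)) (.wt 2)) (.lin 2)))) (.wt 2))) (.lin 11)) (.wt 2))) (.lin 12)))) (.lin 4))))) (.lin 3))
    (.lin 11)))) (.split 5 (-103) (.split 1 51 (.lin 11) (.splitN 60767 .sq (.splitN 100616
    (.split 3 (-41) (.split 1 197 (.split 5 (-293) (.lin 4) (.split 4 222 (.split 7 (-164) (.lin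
    12) (.split 5 (-217) .sq (.split 1 160 (.split 3 (-48) (.split 6 247 (.split 7 (-114) (.split
    4 168 (.lin 12) (.splitN 87623 .sq (.wt 1))) (.split 2 (-53) (.splitN 78045 (.split 0 87
    (.split 4 187 (.split 3 (-59) (.splitN 66293 .sq (.split 7 (-85) (.wt 1) (.split 2 (-80)
    (.split 4 160 (.split 7 (-82) (.wt 1) (.split 2 (-89) (.split 3 (-70) (.splitN 72656 .sq
    (.split 0 54 (.split 1 58 (.wt 0) (.split 5 (-112) .sq (.lin 4))) (.wt 1))) (.wt 6)) (.lin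
    9))) (.lin 12)) (.lin 9)))) (.wt 6)) (.lin 12)) (.wt 6)) (.wt 1)) (.lin 9))) .sq) (.wt 6))
    (.lin 4)))) .sq)) .sq) (.wt 2)) (.wt 1)))) (.lin 7)))) .sq) (.wt 1)))

def cert5_129_7 : Cert :=
  (.split 0 38 (.split 5 (-131) (.lin 1) (.split 4 88 (.split 0 25 (.wt 2) (.split 5 (-58)
    (.split 4 78 (.lin 12) (.split 1 27 (.wt 2) (.split 2 (-17) (.split 5 (-67) (.split 3 (-53)
    (.wt 2) (.split 6 80 (.wt 2) (.split 2 (-35) (.split 1 42 (.lin 11) (.split 5 (-76) (.split 6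
    107 (.split 1 70 (.split 5 (-104) (.lin 4) (.splitN 94560 .cand (.wt 3))) (.lin 11)) (.split
    2 (-62) (.split 1 69 (.lin 11) (.split 5 (-85) (.split 5 (-103) (.split 3 (-39) (.split 1 79
    (.splitN 82791 (.wt 6) (.split 7 (-48) (.wt 0) (.split 4 79 (.splitN 87098 (.wt 1) (.wt 0))
    (.lin 12)))) (.lin 11)) (.wt 2)) (.lin 4)) (.lin 0))) (.lin 3))) (.lin 4))) (.lin 3)))) (.lin
    4)) (.lin 2)))) (.lin 4))) (.lin 12))) (.split 5 (-67) (.split 4 87 (.lin 12) (.split 3 (-70)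
    (.split 2 (-35) (.split 1 61 (.split 1 52 (.split 5 (-104) (.lin 4) (.split 0 44 (.wt 2)
    (.split 5 (-76) (.split 4 96 (.lin 12) (.splitN 65611 (.wt 6) (.split 1 29 (.wt 0) (.split 5
    (-85) (.split 1 38 (.wt 2) (.split 5 (-94) (.split 3 (-84) (.lin 7) (.split 6 115 (.lin 7)
    (.split 7 (-52) (.wt 2) (.split 2 (-71) (.split 4 97 (.splitN 84899 (.splitN 79169 (.wt 1)
    (.split 1 44 (.wt 0) (.split 2 (-80) (.split 5 (-103) (.split 3 (-75) (.lin 6) (.split 6 124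
    (.lin 0) (.wt 0))) (.lin 0)) (.lin 2)))) (.wt 1)) (.lin 12)) (.lin 1))))) (.lin 4))) (.lin
    4))))) (.lin 4)))) (.lin 11)) (.lin 2)) (.lin 1)) (.split 6 93 (.split 2 (-54) (.lin 3)
    (.split 2 (-45) (.lin 9) (.split 1 52 (.split 5 (-113) (.lin 1) (.split 5 (-104) (.lin 4)
    (.split 1 38 (.split 5 (-86) (.lin 4) (.split 3 (-51) (.wt 2) (.split 2 (-36) (.lin 2)
    (.split 6 80 (.split 3 (-46) (.wt 2) (.split 2 (-27) (.lin 2) (.split 6 71 (.split 0 47 (.wt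
    2) (.split 5 (-76) (.split 4 96 (.lin 12) (.splitN 74845 (.wt 6) (.split 1 29 (.wt 2) (.split
    2 (-17) (.split 5 (-85) (.split 6 70 (.lin 7) (.split 7 (-53) (.wt 0) (.split 2 (-26) (.split
    4 97 (.splitN 85243 (.wt 0) (.wt 0)) (.lin 0)) (.lin 1)))) (.lin 4)) (.lin 2))))) (.lin 4)))
    (.lin 11)))) (.lin 11))))) (.split 2 (-26) (.split 5 (-85) (.split 3 (-48) (.lin 11) (.split
    6 79 (.lin 11) (.splitN 96439 (.split 7 (-51) (.split 2 (-36) (.lin 9) (.split 4 96 (.lin 12)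
    (.split 3 (-43) (.split 1 43 (.split 2 (-35) (.splitN 74461 (.wt 1) (.wt 0)) (.lin 2)) (.lin
    2)) (.split 0 46 (.split 4 97 (.split 6 86 (.split 2 (-27) (.lin 3) (.split 1 43 (.split 5
    (-86) (.lin 0) (.splitN 72853 (.wt 0) (.wt 0))) (.lin 11))) (.wt 2)) (.lin 12)) (.wt 2)))))
    .cand) (.wt 1)))) (.lin 4)) (.lin 2))))) (.lin 11)))) (.split 2 (-35) (.split 2 (-44)
    (.splitN 100391 (.split 3 (-52) (.split 5 (-131) (.lin 1) (.split 1 70 (.split 5 (-122) (.lin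
    4) (.split 1 52 (.split 6 116 (.split 7 (-51) (.split 0 44 (.wt 2) (.split 4 105 (.lin 12)
    .cand)) .cand) (.lin 11)) (.split 2 (-62) (.split 5 (-85) (.split 5 (-103) (.split 6 115
    (.lin 11) (.splitN 90768 (.split 7 (-51) (.split 2 (-72) (.lin 9) (.split 4 96 (.lin 12)
    (.split 0 51 (.split 5 (-113) (.lin 1) (.split 4 97 (.splitN 74004 (.wt 1) (.split 1 63 (.wt
    0) (.split 2 (-71) (.split 5 (-112) (.split 3 (-57) (.lin 6) (.split 6 124 (.lin 0) (.wt 2)))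
    (.lin 0)) (.lin 2)))) (.lin 12))) (.wt 2)))) (.split 0 48 (.split 5 (-113) (.lin 1) (.split 4
    88 (.split 3 (-58) (.split 2 (-80) (.split 1 61 (.split 5 (-104) (.lin 1) (.split 6 124 (.lin
    0) (.splitN 83288 (.wt 0) (.wt 0)))) (.lin 2)) (.lin 1)) (.wt 2)) (.lin 12))) (.wt 0))) (.wt
    1))) (.lin 4)) (.lin 0)) (.lin 2)))) (.lin 11))) (.split 1 42 (.lin 2) (.split 1 51 (.lin 11)
    (.split 5 (-94) (.split 0 47 (.split 5 (-131) (.lin 4) (.split 4 97 (.split 3 (-43) (.split 6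
    109 (.split 1 61 (.split 7 (-48) (.split 4 96 (.lin 12) (.split 6 98 (.wt 2) (.split 2 (-53)
    (.split 1 60 (.lin 11) (.splitN 78221 (.wt 0) (.wt 0))) (.lin 3)))) (.wt 2)) (.lin 11)) (.wt
    2)) (.wt 2)) (.lin 12))) (.wt 2)) (.lin 4))))) (.wt 1)) (.lin 9)) (.lin 3))))) (.lin 4)))

def cert5_129_8 : Cert :=
  (.split 0 38 (.split 4 70 (.split 3 (-70) (.split 1 61 (.split 1 52 (.splitN 120866 (.wt 6)
    (.split 0 26 (.wt 0) (.split 5 (-58) (.splitN 141806 (.wt 6) (.split 1 38 (.wt 0) (.split 5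
    (-76) (.wt 2) (.lin 4)))) (.lin 4)))) (.lin 11)) (.lin 2)) (.split 6 93 (.split 2 (-72) (.lin
    3) (.split 1 52 (.split 5 (-86) (.lin 4) (.split 0 25 (.wt 2) (.split 5 (-58) (.split 4 60
    (.lin 12) (.split 3 (-55) (.wt 2) (.split 7 (-33) (.split 2 (-54) (.lin 9) (.split 4 69 (.lin
    12) (.splitN 85351 (.wt 1) (.splitN 113950 (.split 1 31 (.wt 0) (.split 5 (-67) (.splitN
    94533 (.wt 1) (.split 1 36 (.wt 0) (.split 5 (-76) (.splitN 101218 (.wt 1) (.split 1 43 (.wt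
    0) (.split 2 (-53) (.split 5 (-85) (.split 3 (-39) (.lin 6) (.split 6 88 (.lin 0) (.wt 0)))
    (.lin 0)) (.lin 2)))) (.lin 4)))) (.lin 4))) (.wt 3))))) (.split 4 61 (.split 6 63 (.wt 2)
    (.split 2 (-44) (.splitN 243204 .cand (.wt 1)) (.lin 3))) (.lin 12))))) (.lin 4)))) (.lin
    11))) (.split 2 (-53) (.split 7 (-33) (.splitN 138516 .cand (.wt 3)) (.split 2 (-71) (.split
    4 61 (.split 3 (-52) (.split 5 (-104) (.lin 1) (.split 1 70 (.split 0 27 (.wt 2) (.split 4 60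
    (.lin 12) (.splitN 227054 .cand (.wt 1)))) (.lin 2))) (.split 5 (-76) (.split 1 51 (.lin 2)
    (.split 0 32 (.split 5 (-113) (.lin 1) (.split 4 52 (.split 3 (-43) (.wt 2) (.split 5 (-85)
    (.split 1 60 (.lin 2) (.split 6 103 (.wt 2) (.split 2 (-80) (.split 5 (-94) (.split 6 116
    (.split 2 (-90) (.lin 3) (.split 1 79 (.split 5 (-104) (.lin 1) (.splitN 204648 (.split 6 107
    (.wt 2) (.split 1 78 (.lin 11) (.wt 0))) (.wt 1))) (.lin 11))) (.wt 2)) (.lin 1)) (.lin 3))))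
    (.lin 1))) (.lin 12))) (.wt 2))) (.lin 1))) (.lin 12)) (.lin 9))) (.lin 3)))) (.lin 12))
    (.split 5 (-67) (.split 4 69 (.lin 12) (.split 3 (-70) (.split 2 (-53) (.split 1 52 (.split 5
    (-113) (.lin 1) (.split 2 (-62) (.split 5 (-104) (.lin 4) (.split 6 97 (.lin 11) (.split 7
    (-33) (.splitN 131946 .cand (.wt 0)) (.split 2 (-71) (.split 4 79 (.splitN 114611 (.wt 1)
    (.split 1 38 (.split 5 (-86) (.lin 4) (.split 1 29 (.split 5 (-77) (.lin 4) (.splitN 148794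
    .cand (.wt 1))) (.split 2 (-80) (.split 3 (-93) (.lin 2) (.split 5 (-76) (.split 6 106 (.lin
    9) (.splitN 163704 (.split 0 50 (.split 5 (-77) (.lin 4) (.split 3 (-76) (.split 2 (-89)
    (.split 6 115 (.lin 0) (.split 3 (-84) (.split 2 (-98) (.split 6 124 (.lin 0) (.wt 2)) (.lin
    1)) (.wt 2))) (.lin 1)) (.wt 2))) (.wt 0)) (.wt 1))) (.lin 4))) (.lin 2)))) (.split 2 (-89)
    (.split 3 (-84) (.lin 2) (.split 6 115 (.lin 9) (.splitN 189814 (.wt 0) (.wt 1)))) (.lin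
    2)))) (.lin 12)) (.lin 2))))) (.lin 2))) (.lin 11)) (.lin 1)) (.split 6 93 (.split 2 (-72)
    (.lin 3) (.split 2 (-63) (.lin 9) (.split 1 52 (.split 5 (-113) (.lin 1) (.split 7 (-33)
    (.split 2 (-54) (.lin 9) (.split 4 78 (.lin 12) (.split 3 (-52) (.split 1 34 (.split 5 (-86)
    (.lin 1) (.split 2 (-44) (.splitN 100877 (.splitN 86517 (.wt 1) (.split 1 27 (.wt 0) (.split
    2 (-53) (.split 5 (-76) (.split 3 (-57) (.lin 2) (.split 6 88 (.lin 9) (.splitN 95522 (.wt 1)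
    (.split 0 49 (.wt 0) (.split 5 (-85) (.split 4 87 (.lin 0) (.wt 0)) (.lin 1)))))) (.lin 0))
    (.lin 2)))) (.wt 0)) (.lin 2))) (.lin 2)) (.splitN 144345 .cand (.wt 1))))) (.split 2 (-35)
    (.split 4 79 (.split 3 (-52) (.split 2 (-44) (.split 1 34 (.split 5 (-86) (.lin 1) (.split 2
    (-53) (.split 6 79 (.lin 9) (.split 1 29 (.split 5 (-77) (.lin 4) (.split 0 43 (.wt 2)
    (.split 5 (-76) (.split 4 78 (.lin 8) (.split 3 (-57) (.split 2 (-62) (.split 6 88 (.lin 0)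
    (.splitN 137850 (.wt 0) (.wt 0))) (.lin 1)) (.wt 2))) (.lin 4)))) (.split 2 (-62) (.split 3
    (-57) (.lin 2) (.split 6 88 (.lin 9) (.splitN 175939 (.wt 0) (.wt 1)))) (.lin 2)))) (.lin
    2))) (.lin 2)) (.lin 1)) (.split 6 86 (.split 5 (-95) (.lin 6) (.split 2 (-54) (.lin 9)
    (.split 1 43 (.splitN 258628 (.split 1 34 (.split 5 (-86) (.lin 4) (.splitN 221791 (.split 6
    71 (.split 2 (-45) (.lin 9) (.split 1 29 (.split 5 (-77) (.lin 4) (.splitN 179684 .cand (.wt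
    1))) (.split 2 (-44) (.split 3 (-39) (.lin 2) (.split 6 70 (.lin 9) (.wt 0))) (.lin 2))))
    (.split 1 33 (.lin 11) (.splitN 202163 (.wt 0) (.wt 1)))) (.wt 1))) (.split 2 (-53) (.split 6
    79 (.lin 9) (.wt 0)) (.lin 2))) (.wt 1)) (.lin 11)))) (.wt 2))) (.lin 12)) (.lin 2)))) (.lin
    11)))) (.split 2 (-53) (.split 2 (-62) (.split 1 33 (.lin 11) (.split 5 (-76) (.split 3 (-45)
    (.split 5 (-131) (.lin 7) (.split 1 79 (.split 7 (-33) (.splitN 123408 .cand (.wt 1)) (.split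
    2 (-71) (.splitN 182735 (.split 0 47 (.split 4 70 (.split 1 36 (.split 2 (-72) (.lin 2)
    (.split 5 (-77) (.lin 0) (.split 3 (-65) (.split 6 98 (.splitN 163491 (.wt 0) (.wt 0)) (.lin
    0)) (.lin 6)))) (.wt 0)) (.lin 12)) (.wt 0)) (.wt 6)) (.lin 9))) (.lin 11))) (.wt 2)) (.lin
    4))) (.lin 9)) (.lin 3))))) (.lin 4)))

def cert5_129_9 : Cert :=
  (.split 0 38 (.split 4 88 (.split 1 84 (.split 2 (-144) (.lin 2) (.split 3 (-47) (.split 6 206
    (.split 5 (-113) (.lin 4) (.split 3 (-56) (.split 6 188 (.splitN 57763 (.wt 1) (.split 1 25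
    (.wt 0) (.split 0 29 (.wt 2) (.split 5 (-67) (.split 1 44 (.wt 2) (.split 5 (-85) (.split 3
    (-65) (.wt 2) (.split 6 134 (.wt 2) (.lin 7))) (.lin 4))) (.lin 4))))) (.lin 11)) (.lin 11)))
    (.lin 3)) (.lin 2))) (.split 5 (-112) (.split 5 (-299) .sq (.split 1 268 (.split 6 307
    (.split 2 (-270) (.lin 3) (.split 3 (-101) (.wt 2) (.split 3 (-65) (.split 2 (-89) (.split 1
    241 (.split 5 (-275) (.lin 4) (.splitN 99385 (.split 0 27 (.wt 2) (.split 5 (-121) (.split 4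
    78 (.lin 12) (.split 6 157 (.wt 2) (.split 2 (-107) (.split 1 179 (.split 2 (-225) (.lin 2)
    (.split 6 278 (.split 5 (-212) (.lin 4) (.split 3 (-90) (.wt 2) (.split 6 164 (.wt 2) (.split
    2 (-116) (.splitN 78479 .sq (.split 1 164 (.split 5 (-194) (.lin 4) (.split 6 242 (.splitN
    94128 (.split 7 (-55) (.wt 0) (.split 4 79 (.split 3 (-79) (.wt 2) (.split 6 178 (.wt 2)
    (.split 2 (-134) (.split 1 105 (.lin 11) (.split 5 (-139) .sq (.lin 1))) (.lin 3)))) (.lin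
    12))) (.wt 3)) (.lin 7))) .sq)) (.lin 3))))) (.lin 3))) .sq) (.lin 3)))) (.lin 4))) (.wt 3)))
    (.lin 11)) (.lin 1)) (.splitN 114350 (.split 5 (-271) .sq (.split 1 241 (.split 6 279 (.split
    0 29 (.split 4 79 (.splitN 97642 (.split 3 (-47) (.wt 2) (.split 5 (-121) (.split 1 96 (.lin
    11) (.split 6 158 (.wt 2) (.split 2 (-107) (.split 1 123 (.lin 11) (.split 5 (-139) (.split 5
    (-148) (.splitN 83735 .sq (.split 7 (-54) (.wt 0) (.split 4 70 (.split 6 173 (.wt 2) (.split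
    2 (-134) (.split 5 (-166) .sq (.lin 1)) (.lin 3))) (.lin 12)))) (.lin 4)) (.lin 1))) (.lin
    3)))) (.lin 7))) (.wt 3)) (.lin 12)) (.split 5 (-121) (.split 4 78 (.lin 12) (.splitN 100202
    (.split 3 (-42) (.split 6 188 (.split 2 (-144) (.lin 3) (.split 1 142 (.split 5 (-185) (.lin
    1) (.split 7 (-51) (.split 4 87 (.lin 12) .cand) (.split 2 (-89) (.split 4 79 (.split 6 175
    (.split 2 (-126) (.lin 3) (.split 5 (-158) (.lin 1) (.split 3 (-48) (.split 2 (-98) (.split 1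
    115 (.split 5 (-149) (.lin 1) (.split 6 149 (.wt 2) (.split 1 96 (.lin 11) (.splitN 85442
    (.wt 0) (.split 6 166 (.split 2 (-117) (.lin 3) (.split 1 106 (.split 5 (-140) (.lin 1)
    (.split 1 101 (.wt 0) (.split 2 (-116) (.split 6 160 (.lin 0) (.wt 1)) (.lin 2)))) (.lin
    11))) (.wt 1)))))) (.lin 2)) (.lin 1)) (.wt 2)))) (.wt 2)) (.lin 12)) (.lin 1)))) (.lin 11)))
    (.split 2 (-143) (.split 1 141 (.lin 11) (.split 5 (-175) .sq (.lin 4))) (.lin 3))) (.wt 2))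
    (.wt 1))) (.lin 4))) .sq) (.lin 4))) (.wt 1))))) .sq) (.lin 4))) (.lin 4))) (.lin 12))
    (.split 5 (-67) (.split 4 87 (.lin 12) (.splitN 105968 (.split 1 249 (.split 2 (-262) .sq
    (.split 5 (-258) .sq (.split 6 282 (.split 2 (-243) (.lin 3) (.split 3 (-74) (.split 1 73
    (.split 6 179 (.split 1 47 (.split 3 (-83) (.split 5 (-95) (.lin 4) (.split 6 161 (.split 3
    (-92) (.split 6 152 (.splitN 67837 (.wt 6) (.split 1 30 (.wt 0) (.split 5 (-76) (.split 7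
    (-53) (.wt 0) (.split 4 97 (.splitN 72629 (.wt 1) (.split 0 48 (.wt 0) (.split 1 39 (.wt 0)
    (.split 5 (-94) (.wt 2) (.lin 4))))) (.lin 12))) (.lin 4)))) (.lin 11)) (.lin 11)) (.lin 7)))
    (.lin 2)) (.split 5 (-94) (.split 7 (-51) (.split 3 (-92) (.split 0 45 (.wt 2) (.split 4 105
    (.lin 12) .cand)) (.split 2 (-99) (.lin 2) (.split 6 152 (.split 0 43 (.wt 2) (.split 4 105
    (.lin 12) .cand)) (.lin 9)))) .cand) (.lin 4))) (.lin 11)) (.split 2 (-98) (.split 5 (-121)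
    (.split 6 151 (.lin 11) (.splitN 100582 (.split 5 (-205) .sq (.split 6 224 (.split 1 151
    (.split 7 (-51) (.split 4 96 (.lin 12) (.splitN 84928 (.split 2 (-135) .sq (.split 5 (-152)
    .sq (.split 6 177 (.split 2 (-117) (.lin 9) (.split 1 97 (.split 3 (-93) (.lin 2) (.split 0
    51 (.split 4 97 (.splitN 78463 (.split 1 91 (.split 5 (-131) (.lin 4) (.split 3 (-83) (.wt 1)
    (.split 2 (-108) (.lin 1) (.split 6 161 (.wt 6) (.lin 3))))) (.wt 1)) (.wt 0)) (.lin 12))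
    (.wt 2))) (.lin 11))) .sq))) (.wt 1))) .cand) (.lin 11)) .sq)) (.wt 1))) (.lin 4)) (.lin 2)))
    (.split 5 (-103) (.split 1 60 (.lin 2) (.split 1 69 (.lin 11) (.split 5 (-112) (.split 0 48
    (.split 4 97 (.split 1 161 (.split 5 (-203) (.lin 4) (.split 3 (-56) (.split 6 162 (.split 2
    (-117) (.lin 3) (.split 5 (-158) (.lin 1) (.split 3 (-57) (.split 6 156 (.split 1 88 (.split
    5 (-131) (.lin 4) (.split 7 (-48) (.split 4 96 (.lin 12) (.split 6 149 (.split 2 (-90) (.lin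
    3) (.split 5 (-122) (.lin 1) (.split 1 72 (.wt 2) (.split 2 (-89) (.split 6 142 (.lin 0)
    (.splitN 76129 (.wt 0) (.wt 0))) (.lin 2))))) (.wt 2))) (.wt 2))) (.lin 11)) (.wt 2)) (.wt
    2)))) (.wt 2)) (.wt 2))) (.wt 2)) (.lin 12)) (.wt 2)) (.lin 4)))) (.lin 1)))) .sq))) .sq)
    (.wt 1))) (.lin 4)))

def cert5_129_10 : Cert :=
  (.split 0 38 (.split 4 70 (.splitN 499598 (.split 1 666 (.split 2 (-963) (.lin 2) (.split 5
    (-914) (.lin 1) (.split 6 1007 (.split 5 (-698) (.lin 4) (.splitN 466649 (.split 2 (-650) .sq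
    (.split 1 565 (.split 6 692 (.split 6 656 (.split 1 118 (.split 2 (-414) (.lin 2) (.split 6
    458 (.split 5 (-149) (.lin 4) (.split 1 53 (.split 2 (-351) (.lin 2) (.split 6 422 (.split 6
    395 (.split 5 (-86) (.lin 4) (.split 0 27 (.wt 2) (.split 5 (-58) (.split 4 60 (.lin 12)
    (.split 1 27 (.wt 2) (.split 5 (-67) (.splitN 81880 (.wt 1) (.split 3 (-266) (.wt 2) (.split
    2 (-288) (.lin 1) (.split 6 323 (.split 7 (-37) (.wt 0) (.split 2 (-125) (.split 4 61 (.split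
    1 34 (.wt 2) (.split 5 (-76) (.splitN 133850 (.wt 1) (.split 3 (-225) (.wt 0) (.split 2
    (-243) (.lin 1) (.split 6 278 (.split 3 (-197) (.wt 0) (.split 2 (-216) (.lin 1) (.split 6
    251 (.split 3 (-180) (.wt 0) (.split 2 (-198) (.lin 1) (.split 6 233 (.split 3 (-168) (.wt 0)
    (.split 6 215 (.wt 2) (.lin 6))) (.lin 0)))) (.lin 0)))) (.lin 0))))) (.lin 4))) (.lin 12))
    (.lin 1))) (.lin 3))))) (.lin 4)))) (.lin 4)))) (.lin 3)) (.lin 0))) (.split 2 (-143) (.split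
    5 (-85) (.split 6 178 (.lin 11) (.splitN 89534 (.wt 1) (.split 0 25 (.wt 2) (.split 5 (-94)
    (.split 4 60 (.lin 12) (.split 7 (-33) (.split 4 69 (.lin 12) (.split 3 (-296) (.wt 0)
    (.split 2 (-369) (.lin 1) (.split 6 404 (.splitN 95020 (.wt 1) (.splitN 107260 (.split 1 75
    (.wt 0) (.split 2 (-161) (.split 6 196 (.lin 3) (.split 5 (-112) .sq (.lin 4))) (.lin 2)))
    (.wt 3))) (.lin 3))))) (.split 4 61 (.splitN 244648 .cand (.wt 1)) (.lin 12)))) (.lin 4)))))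
    (.lin 4)) (.lin 2)))) (.lin 3))) (.split 2 (-206) (.split 5 (-148) (.split 6 241 (.lin 11)
    (.splitN 156554 .sq (.split 7 (-36) (.wt 0) (.split 4 61 (.splitN 365424 (.split 2 (-500) .sq
    (.split 5 (-437) (.lin 1) (.split 0 25 (.wt 2) (.split 5 (-157) (.split 4 60 (.lin 12)
    (.split 3 (-150) (.split 2 (-251) (.split 5 (-401) (.lin 1) (.split 6 277 (.lin 3) (.split 3
    (-175) (.split 2 (-278) (.split 5 (-374) (.lin 1) (.split 6 304 (.lin 3) (.splitN 249119 .sq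
    (.wt 1)))) (.lin 1)) (.wt 2)))) (.lin 1)) (.wt 2))) (.lin 4))))) (.wt 3)) (.lin 12))))) (.lin
    4)) (.lin 2))) .sq) (.lin 3)) (.lin 2))) (.wt 3))) (.lin 3)))) .sq) (.wt 3)) (.lin 12))
    (.split 5 (-67) (.split 4 69 (.lin 12) (.splitN 390802 (.split 2 (-586) .sq (.split 5 (-554)
    (.lin 1) (.split 1 502 (.split 1 105 (.split 2 (-396) (.lin 2) (.split 5 (-149) (.lin 4)
    (.split 1 49 (.split 2 (-342) (.lin 2) (.split 6 404 (.split 5 (-95) (.lin 4) (.split 7 (-33)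
    (.splitN 124873 .cand (.wt 0)) (.split 2 (-116) (.split 4 79 (.splitN 82323 (.wt 0) (.split 1
    34 (.split 5 (-86) (.lin 4) (.splitN 162232 (.split 6 242 (.split 3 (-228) (.lin 6) (.split 2
    (-216) (.lin 9) (.split 6 192 (.split 2 (-180) (.lin 0) (.split 3 (-174) (.lin 6) (.split 2
    (-162) (.lin 9) (.split 1 29 (.splitN 141102 .cand (.wt 0)) (.split 2 (-125) (.split 3 (-156)
    (.lin 2) (.split 5 (-76) (.split 6 151 (.lin 9) (.splitN 149325 (.split 0 49 (.split 5 (-77)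
    (.lin 4) (.split 4 70 (.split 3 (-120) (.split 2 (-134) (.split 6 160 (.lin 0) (.splitN
    133801 (.wt 3) (.split 6 177 (.split 2 (-144) (.lin 0) (.split 3 (-138) (.lin 6) (.splitN
    138924 (.wt 3) (.wt 1)))) (.wt 1)))) (.lin 1)) (.wt 2)) (.lin 8))) (.wt 0)) (.wt 1))) (.lin
    4))) (.lin 2)))))) (.split 2 (-152) (.split 2 (-170) (.split 3 (-164) (.splitN 141885 (.split
    1 29 (.split 5 (-77) (.lin 4) (.split 0 43 (.wt 2) (.split 5 (-76) (.split 4 78 (.lin 8)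
    (.splitN 116983 (.wt 0) (.wt 1))) (.lin 4)))) (.split 3 (-210) (.lin 2) (.split 5 (-76)
    (.split 0 46 (.split 5 (-77) (.lin 4) (.split 4 70 (.split 3 (-176) (.split 2 (-188) (.split
    6 214 (.lin 0) (.splitN 133005 (.wt 0) (.wt 1))) (.lin 1)) (.wt 2)) (.lin 8))) (.wt 0)) (.lin
    4)))) (.wt 1)) (.lin 2)) (.lin 9)) (.lin 0))))) (.split 3 (-209) (.split 2 (-224) .sq (.lin
    9)) (.lin 6))) (.wt 1))) (.split 2 (-134) (.split 5 (-85) (.split 6 160 (.lin 9) (.splitN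
    171729 (.split 3 (-133) (.split 2 (-152) (.split 6 178 (.lin 9) (.split 0 51 (.split 5 (-86)
    (.lin 4) (.split 4 70 (.splitN 158585 (.split 3 (-186) (.split 2 (-206) (.split 6 232 (.lin
    0) (.splitN 149813 .sq (.wt 1))) (.lin 1)) (.wt 0)) (.wt 1)) (.lin 8))) (.wt 0))) (.lin 2))
    (.wt 0)) (.wt 1))) (.lin 4)) (.lin 2)))) (.lin 12)) (.lin 2)))) (.lin 0))) (.split 2 (-134)
    (.split 5 (-94) (.split 6 169 (.lin 11) (.splitN 230361 (.split 7 (-33) (.splitN 122378 .cand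
    (.wt 1)) (.split 2 (-143) (.split 4 79 (.split 1 96 (.split 5 (-140) (.lin 4) (.splitN 217532
    (.split 1 87 (.split 3 (-124) (.split 2 (-152) (.split 6 178 (.lin 9) (.split 0 46 (.split 5
    (-122) (.lin 4) (.split 4 70 (.splitN 197213 (.split 1 71 (.split 5 (-113) (.lin 4) (.split 3
    (-158) (.split 2 (-188) (.split 6 214 (.lin 3) (.wt 2)) (.lin 1)) (.wt 0))) (.wt 0)) (.wt 1))
    (.lin 12))) (.wt 2))) (.lin 2)) (.wt 0)) (.wt 0)) (.wt 1))) (.wt 0)) (.lin 12)) (.lin 2)))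
    (.wt 1))) (.lin 4)) (.lin 2))))) (.split 2 (-188) (.split 5 (-148) (.split 6 223 (.lin 11)
    (.splitN 140354 .sq (.splitN 266603 (.split 7 (-36) (.wt 1) (.wt 0)) (.wt 1)))) (.lin 4))
    (.lin 2))) (.lin 2)))) (.wt 1))) (.lin 4)))

def cert5_129_11 : Cert :=
  (.split 0 38 (.split 4 70 (.splitN 667530 (.splitN 61014 (.wt 1) (.split 1 793 (.split 5 (-824)
    (.lin 4) (.split 2 (-799) .sq (.split 1 140 (.split 2 (-216) (.lin 2) (.split 5 (-248) (.lin
    1) (.split 6 260 (.split 5 (-167) (.lin 4) (.split 6 242 (.split 3 (-74) (.split 1 57 (.split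
    2 (-135) (.lin 2) (.split 5 (-86) (.lin 4) (.split 6 170 (.split 3 (-83) (.split 6 161
    (.splitN 92441 (.wt 6) (.split 7 (-35) (.wt 0) (.split 2 (-107) (.split 4 61 (.splitN 110468
    (.wt 1) (.split 0 25 (.wt 0) (.split 5 (-58) (.split 4 60 (.lin 12) (.splitN 117331 (.wt 1)
    (.split 1 31 (.wt 0) (.split 5 (-67) (.splitN 135410 (.wt 1) (.split 1 38 (.wt 0) (.split 5
    (-76) (.splitN 149560 (.wt 1) (.split 1 43 (.wt 0) (.split 5 (-85) (.splitN 161070 (.wt 1)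
    (.split 3 (-88) (.wt 0) (.split 2 (-108) (.lin 1) (.split 6 134 (.wt 0) (.lin 0))))) (.lin
    4)))) (.lin 4)))) (.lin 4))))) (.lin 1)))) (.lin 12)) (.lin 9)))) (.lin 11)) (.lin 11)) (.lin
    7)))) (.split 5 (-85) (.split 7 (-33) (.splitN 131314 .cand (.wt 0)) (.split 2 (-107) (.split
    4 61 (.split 0 29 (.split 4 52 (.splitN 160477 (.wt 1) (.wt 0)) (.lin 12)) (.split 4 60 (.lin
    12) (.splitN 259046 .cand (.wt 1)))) (.lin 12)) (.lin 2))) (.lin 4))) (.split 2 (-180) (.lin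
    1) (.split 1 60 (.lin 2) (.split 1 69 (.lin 11) (.split 5 (-85) (.split 5 (-94) (.split 6 197
    (.split 7 (-33) (.splitN 142602 .cand (.wt 1)) (.split 2 (-107) (.split 0 32 (.split 5 (-158)
    (.lin 4) (.split 4 52 (.split 3 (-40) (.split 3 (-57) (.wt 2) (.split 6 139 (.wt 2) (.split 2
    (-116) (.split 5 (-112) (.split 3 (-56) (.wt 2) (.split 2 (-153) (.lin 1) (.split 5 (-121)
    (.split 6 144 (.wt 2) (.split 2 (-125) (.split 1 105 (.lin 11) (.split 5 (-130) (.splitN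
    198394 (.wt 3) (.split 6 174 (.split 2 (-144) (.lin 3) (.split 1 124 (.split 5 (-149) (.lin
    1) (.splitN 210937 (.split 1 121 (.split 2 (-135) (.lin 2) (.split 5 (-140) (.lin 1) (.split
    6 160 (.split 1 106 (.wt 0) (.lin 11)) (.wt 1)))) (.wt 0)) (.wt 1))) (.lin 11))) (.wt 1)))
    (.lin 1))) (.lin 3))) (.lin 1)))) (.lin 1)) (.lin 3)))) (.wt 2)) (.lin 12))) (.wt 2)) (.lin
    9))) (.lin 11)) (.lin 4)) (.lin 1)))))) (.lin 11))) (.lin 3)))) (.split 2 (-143) (.split 5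
    (-85) (.split 6 160 (.lin 3) (.split 5 (-166) (.split 6 178 (.lin 11) (.splitN 105767 .sq
    (.splitN 445347 (.split 1 599 (.split 2 (-675) (.lin 2) (.split 5 (-707) (.lin 1) (.split 2
    (-600) .sq (.split 3 (-74) (.split 2 (-170) (.split 5 (-590) (.lin 1) (.split 2 (-179)
    (.split 6 214 (.lin 11) (.splitN 135575 .sq (.splitN 370924 (.split 1 504 (.split 5 (-536)
    (.lin 4) (.split 2 (-517) .sq (.split 5 (-509) (.lin 1) (.split 1 475 (.split 6 557 (.split 6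
    529 (.split 7 (-33) (.splitN 141208 (.split 0 28 (.wt 0) (.split 5 (-175) (.split 4 69 (.lin
    12) .sq) (.lin 4))) (.wt 3)) (.split 0 32 (.split 4 52 (.splitN 228225 (.split 6 326 (.wt 2)
    (.split 2 (-305) .sq (.lin 3))) (.wt 3)) (.lin 12)) (.wt 2))) .sq) (.lin 3)) (.lin 2)))))
    .sq) (.wt 1)))) (.lin 2))) (.lin 1)) (.splitN 332173 (.split 1 495 (.split 5 (-503) .sq
    (.split 6 507 (.split 1 466 (.split 7 (-33) (.split 4 60 (.lin 12) (.split 0 33 (.split 4 61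
    (.split 3 (-65) (.wt 0) (.split 3 (-39) (.split 2 (-152) (.splitN 125750 (.split 6 209 (.wt
    2) (.split 2 (-179) (.split 5 (-184) .sq (.lin 1)) (.lin 3))) (.wt 3)) (.lin 1)) (.wt 2)))
    (.lin 12)) (.wt 2))) (.split 2 (-152) (.split 4 61 (.splitN 304748 (.split 0 31 (.split 4 52
    .cand (.lin 12)) (.wt 0)) (.wt 1)) (.lin 12)) (.lin 2))) (.lin 11)) .sq)) .sq) (.wt 1))))))
    .sq) (.wt 1)))) (.lin 4))) (.lin 1)) (.lin 2))))) .sq)) (.wt 1)) (.lin 12)) (.split 5 (-58)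
    (.split 5 (-67) (.split 4 69 (.lin 12) (.splitN 324037 (.split 3 (-45) (.split 5 (-533) .sq
    (.split 1 110 (.split 2 (-189) (.lin 2) (.split 5 (-248) (.lin 0) (.split 5 (-158) (.lin 4)
    (.split 1 51 (.split 2 (-126) (.lin 2) (.split 5 (-95) (.lin 4) (.split 3 (-92) (.split 6 152
    (.splitN 170327 (.split 7 (-33) (.splitN 111329 .cand (.wt 0)) (.split 4 79 (.splitN 111315
    (.wt 1) (.split 1 42 (.split 5 (-86) (.lin 4) (.splitN 150459 .cand (.wt 1))) (.wt 0))) (.lin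
    12))) (.wt 1)) (.lin 11)) (.lin 11)))) (.split 7 (-29) (.splitN 123364 .cand (.wt 1)) (.wt
    2)))))) (.split 2 (-125) (.split 6 160 (.lin 11) (.splitN 126971 (.split 0 46 (.split 1 161
    (.split 5 (-203) (.lin 4) (.wt 2)) (.wt 0)) (.wt 0)) (.wt 6))) (.lin 2)))) (.wt 2)) (.wt 1)))
    (.lin 4)) (.lin 1)))

def cert5_129_12 : Cert :=
  (.split 6 132 (.split 2 (-126) (.lin 3) (.split 2 (-99) (.lin 9) (.split 1 88 (.split 5 (-230)
    (.lin 0) (.split 5 (-167) (.lin 1) (.split 5 (-140) (.lin 4) (.split 3 (-102) (.lin 11)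
    (.split 7 (-42) (.split 2 (-81) (.lin 9) cert5_129_7) (.split 2 (-26) (.split 4 88
    cert5_129_8 (.lin 12)) (.lin 2))))))) (.lin 11)))) (.split 2 (-53) (.split 2 (-80) (.split 7
    (-42) (.split 4 69 (.lin 12) (.splitN 167349 (.split 2 (-923) (.div 2) (.split 1 934 (.split
    3 (-975) (.lin 1) (.split 5 (-986) (.lin 1) (.split 5 (-923) (.div 5) (.splitN 159268 (.split
    2 (-869) (.div 2) (.split 5 (-869) (.div 5) (.split 1 346 (.split 5 (-392) (.lin 4) (.split 2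
    (-356) .sq (.split 3 (-408) (.lin 1) (.split 6 404 (.splitN 148138 (.split 5 (-336) .sq
    (.split 1 304 (.split 6 357 (.split 2 (-306) (.lin 9) (.split 3 (-112) (.split 5 (-293) (.lin
    1) (.split 1 241 (.split 2 (-89) (.split 6 142 (.lin 11) (.splitN 110539 (.split 0 30 (.wt 2)
    (.split 5 (-58) (.split 4 78 (.lin 12) (.split 1 228 (.split 5 (-275) (.lin 4) (.split 2
    (-244) .sq (.split 6 314 (.split 1 25 (.wt 2) (.split 2 (-98) (.split 5 (-67) (.split 6 262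
    (.split 5 (-203) (.lin 6) (.split 1 142 (.splitN 102440 (.split 0 34 (.wt 2) (.split 5 (-76)
    (.split 4 87 (.lin 12) (.split 6 242 (.split 5 (-185) (.lin 6) (.split 2 (-198) (.lin 9)
    (.split 1 64 (.splitN 86405 (.split 6 206 (.split 1 35 (.wt 2) (.split 2 (-107) (.split 5
    (-85) (.split 6 160 (.lin 11) (.splitN 72314 .sq (.split 7 (-53) (.wt 0) (.split 4 97 (.split
    0 44 (.wt 2) (.split 5 (-94) (.split 4 96 (.lin 12) (.split 2 (-142) .sq (.split 6 179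
    (.split 1 47 (.wt 2) (.split 2 (-125) (.split 6 169 (.lin 3) (.split 5 (-103) .sq (.lin 4)))
    (.lin 2))) (.lin 3)))) (.lin 4))) (.lin 12))))) (.lin 4)) (.lin 2))) .sq) (.wt 3)) (.split 2
    (-134) (.split 3 (-183) (.lin 2) (.split 5 (-112) (.split 6 178 (.lin 7) (.splitN 93311 .sq
    (.splitN 96246 (.split 7 (-52) (.wt 0) (.split 2 (-143) .sq (.lin 2))) (.wt 1)))) (.lin 4)))
    (.lin 2))))) .sq)) (.lin 4))) (.wt 3)) (.lin 11))) .sq) (.lin 4)) (.lin 2))) (.lin 3))))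
    .sq)) (.lin 4))) (.wt 3))) (.lin 2)) (.lin 2))) (.splitN 132687 (.split 5 (-311) .sq (.split
    1 286 cert5_129_9 (.lin 4))) (.wt 1)))) .sq) (.lin 4))) (.wt 1)) (.lin 9))))) .sq))) (.wt
    1))))) (.lin 2))) (.wt 1))) (.split 2 (-98) (.split 4 88 (.splitN 29076923 (.split 2
    (-161537) (.div 2) (.split 3 (-161571) (.lin 1) (.splitN 55770 (.wt 1) (.split 1 5388 (.split
    5 (-5432) (.lin 4) (.splitN 14780058 (.split 2 (-82103) (.div 2) (.split 3 (-82137) (.lin 1)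
    (.split 1 3839 (.split 5 (-3884) (.lin 4) (.splitN 12282696 (.split 2 (-68225) (.div 2)
    (.split 3 (-68259) (.lin 1) (.split 1 3499 (.split 5 (-3551) (.lin 4) (.splitN 11624807
    (.split 2 (-3406) .sq (.split 3 (-3441) (.lin 1) (.splitN 8587656 (.split 1 2924 (.split 5
    (-2975) (.lin 4) (.splitN 7923144 (.split 2 (-2810) .sq (.split 3 (-2847) (.lin 1) (.splitN
    7524883 (.split 1 2736 (.split 5 (-2786) (.lin 4) (.split 3 (-329) (.split 2 (-323) (.split 6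
    349 (.lin 9) (.splitN 346193 .sq (.split 0 27 (.wt 0) (.wt 1)))) (.lin 2)) (.splitN 2291371
    (.split 1 1500 (.split 2 (-1791) (.lin 2) (.split 5 (-1544) (.lin 4) (.splitN 2046100 (.split
    1 1417 (.split 5 (-1463) (.lin 4) (.split 2 (-1421) .sq (.split 3 (-112) (.split 5 (-1382)
    (.lin 1) (.split 1 1330 (.split 2 (-107) (.split 6 142 (.lin 11) (.splitN 1455105 (.split 1
    1183 (.split 5 (-1229) (.lin 4) (.split 2 (-1188) .sq (.split 5 (-1157) (.lin 1) (.split 1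
    1105 (.split 6 1191 cert5_129_10 .sq) (.lin 2))))) .sq) (.wt 1))) (.lin 2)) (.lin 2)))
    (.splitN 862636 (.split 1 909 (.split 2 (-990) (.lin 2) (.split 5 (-1040) (.lin 1) (.split 5
    (-959) (.lin 4) (.splitN 815842 (.split 5 (-884) .sq (.split 1 853 cert5_129_11 (.lin 4)))
    (.wt 1))))) .sq) (.wt 1))))) .sq) (.wt 1)))) .sq) (.wt 1)))) .sq) (.wt 1)))) (.wt 1))) .sq)
    (.wt 1)))) (.wt 1))) .sq))) (.wt 1))) .sq))) (.wt 1))) .sq)))) (.wt 1)) (.lin 12)) (.lin 9)))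
    (.lin 9)) (.lin 3)))

def cert5_129_13 : Cert :=
  (.split 3 (-52) (.split 5 (-185) (.lin 1) (.split 1 34 (.split 2 (-26) (.split 6 79 (.lin 11)
    (.splitN 94204 (.split 0 101 (.split 5 (-140) (.lin 1) (.split 4 160 (.split 4 151 (.split 0
    79 (.split 5 (-113) (.lin 4) (.split 7 (-51) (.split 2 (-36) (.lin 9) (.split 4 114 (.lin 12)
    (.split 0 66 (.wt 2) (.split 5 (-94) (.split 4 123 (.lin 12) (.splitN 65851 (.wt 1) (.split 1
    27 (.wt 0) (.split 2 (-35) (.split 3 (-57) (.lin 2) (.split 6 88 (.lin 9) (.split 0 71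
    (.split 5 (-104) (.lin 1) (.split 4 124 (.splitN 70990 (.wt 0) (.wt 0)) (.lin 0))) (.wt 2))))
    (.lin 2))))) (.lin 4))))) .cand)) (.split 5 (-112) (.split 4 132 (.lin 12) (.split 7 (-51)
    (.split 2 (-36) (.lin 9) (.split 4 141 (.lin 12) (.splitN 76503 (.splitN 65773 (.wt 1)
    (.split 1 29 (.wt 0) (.split 2 (-35) (.split 3 (-57) (.lin 2) (.split 6 88 (.lin 9) (.wt 0)))
    (.lin 2)))) (.wt 1)))) .cand)) (.lin 4))) (.lin 12)) (.lin 3))) (.split 5 (-112) (.split 4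
    114 (.lin 0) (.split 4 141 (.lin 3) (.split 5 (-130) (.split 4 150 (.lin 12) (.splitN 87855
    (.split 7 (-51) (.split 2 (-36) (.lin 9) (.split 4 159 (.lin 12) (.splitN 67598 .sq (.splitN
    77215 (.split 0 137 (.split 5 (-167) (.lin 1) (.split 4 182 (.split 0 124 (.split 5 (-157)
    .sq (.split 1 29 (.splitN 71191 (.split 3 (-65) (.wt 0) (.split 2 (-27) (.lin 2) (.split 6 80
    (.split 0 111 (.wt 0) (.split 5 (-139) (.split 4 168 (.lin 0) .sq) (.lin 1))) (.lin 9))))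
    (.wt 1)) (.split 2 (-35) (.split 6 88 (.lin 9) (.wt 0)) (.lin 2)))) (.lin 12)) .sq)) .sq)
    (.wt 1))))) (.split 1 30 (.split 5 (-167) (.lin 4) (.splitN 79453 (.split 0 134 (.split 5
    (-158) (.lin 4) (.split 3 (-57) (.split 2 (-44) (.split 6 88 (.lin 9) (.wt 2)) (.lin 2)) (.wt
    0))) (.wt 0)) (.wt 1))) (.wt 0))) (.wt 1))) (.lin 4)))) (.lin 1))) (.wt 1))) (.lin 2)) (.lin
    11))) (.split 1 38 (.split 2 (-36) (.lin 2) (.split 5 (-176) (.lin 4) (.split 6 80 (.split 0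
    101 (.split 5 (-149) (.lin 1) (.split 4 169 (.split 5 (-131) (.lin 4) (.split 4 151 (.split 6
    71 (.split 2 (-27) (.lin 9) (.split 0 79 (.split 4 142 (.split 5 (-113) (.lin 4) (.split 7
    (-51) (.split 2 (-18) (.lin 9) (.split 4 114 (.lin 12) (.split 1 29 (.split 0 67 (.wt 2)
    (.split 5 (-94) (.split 3 (-41) (.wt 2) (.split 2 (-9) (.lin 2) (.split 6 62 (.splitN 73668
    (.wt 1) (.wt 0)) (.lin 9)))) (.lin 4))) (.split 2 (-17) (.split 3 (-39) (.lin 2) (.split 6 70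
    (.lin 9) (.splitN 78393 (.wt 0) (.wt 1)))) (.lin 2))))) (.split 2 (-17) (.splitN 98961 .cand
    (.wt 1)) (.lin 2)))) (.lin 3)) (.split 4 123 (.lin 3) (.split 5 (-112) (.split 4 132 (.lin
    12) (.split 7 (-51) (.split 2 (-18) (.lin 9) (.split 4 141 (.lin 12) (.splitN 94941 (.split 1
    29 (.split 3 (-45) (.wt 2) (.split 2 (-9) (.lin 2) (.split 6 62 (.splitN 80002 (.wt 1) (.wt
    0)) (.lin 9)))) (.split 2 (-17) (.split 3 (-39) (.lin 2) (.split 6 70 (.lin 9) (.wt 0)))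
    (.lin 2))) (.wt 1)))) (.split 3 (-39) (.split 1 25 (.split 2 (-26) (.split 6 70 (.lin 9)
    (.splitN 78905 (.wt 0) (.wt 1))) (.lin 2)) (.lin 2)) (.wt 2)))) (.lin 4))))) (.split 5 (-94)
    (.split 2 (-26) (.split 1 33 (.lin 11) (.split 3 (-47) (.split 0 69 (.split 5 (-104) (.lin 1)
    (.split 4 124 (.split 5 (-95) (.lin 4) (.split 7 (-49) (.split 2 (-27) (.lin 1) (.split 4 114
    (.lin 0) (.splitN 70526 (.wt 0) (.wt 0)))) (.wt 2))) (.lin 0))) (.wt 2)) (.lin 11))) (.lin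
    9)) (.lin 7))) (.lin 12))) (.lin 3))) (.split 4 132 (.lin 3) (.split 5 (-130) (.split 4 141
    (.lin 8) (.split 4 150 (.lin 12) (.split 6 77 (.split 7 (-51) (.split 2 (-18) (.lin 9)
    (.split 4 159 (.lin 12) (.splitN 95813 (.split 1 29 .cand (.split 2 (-17) (.split 3 (-39)
    (.lin 2) (.split 6 70 (.lin 9) (.wt 0))) (.lin 2))) (.wt 1)))) (.split 2 (-17) (.splitN 96829
    (.split 1 32 (.split 5 (-167) (.lin 4) (.splitN 88586 (.split 3 (-39) (.split 2 (-26) (.split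
    6 70 (.lin 9) (.splitN 84912 (.wt 0) (.wt 1))) (.lin 2)) (.wt 0)) (.wt 1))) (.wt 0)) (.wt 1))
    (.lin 2))) (.wt 2)))) (.lin 4)))) (.lin 11)))) (.split 2 (-26) (.split 6 79 (.lin 11)
    (.splitN 85756 (.split 0 79 (.split 5 (-140) (.lin 1) (.splitN 78624 (.split 0 65 (.split 5
    (-122) (.lin 1) (.wt 2)) (.wt 0)) (.wt 6))) (.wt 0)) (.wt 6))) (.lin 2))))

def cert5_129_14 : Cert :=
  (.split 7 (-42) (.split 2 (-81) (.lin 9) (.split 4 105 (.lin 12) (.splitN 232446 (.split 5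
    (-1283) (.div 5) (.split 4 1375 (.split 0 451 (.split 5 (-545) (.lin 1) (.split 4 637
    (.splitN 215525 (.split 4 442 (.split 5 (-482) (.lin 6) (.split 5 (-438) .sq (.split 3 (-70)
    (.split 1 52 (.split 2 (-44) (.split 6 97 (.lin 11) (.splitN 102632 (.split 0 250 (.split 4
    331 (.split 4 265 (.split 0 214 (.split 5 (-275) (.lin 1) (.split 5 (-258) .sq (.split 0 114
    (.split 5 (-167) (.lin 1) (.split 4 160 (.split 1 38 (.split 5 (-140) (.lin 4) (.split 0 83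
    (.split 5 (-113) (.lin 4) (.split 4 142 (.split 7 (-51) (.splitN 74469 .cand (.wt 0)) .cand)
    (.lin 8))) (.split 7 (-51) (.splitN 73818 .cand (.wt 1)) .cand))) (.split 2 (-62) (.split 3
    (-84) (.lin 11) (.split 6 115 (.lin 11) (.split 0 73 (.split 5 (-131) (.lin 1) (.split 5
    (-122) (.lin 4) (.split 7 (-51) (.split 4 114 (.lin 12) (.split 0 69 (.split 4 115 .cand
    (.lin 12)) (.wt 2))) (.split 4 115 (.splitN 81864 (.wt 0) (.wt 1)) (.lin 12))))) (.wt 2))))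
    (.lin 2))) (.lin 12))) (.split 4 132 (.lin 3) (.split 5 (-139) (.split 4 159 (.lin 12)
    (.splitN 77903 .sq (.split 1 40 (.splitN 84949 (.split 7 (-52) (.wt 1) (.split 2 (-53)
    (.split 1 31 (.split 5 (-239) (.lin 4) (.wt 1)) (.wt 0)) (.lin 2))) (.wt 1)) (.wt 2)))) (.lin
    4)))))) (.lin 12)) .sq) (.lin 3)) .sq) (.wt 1))) (.lin 2)) (.lin 11)) (.splitN 188336 (.split
    4 407 (.split 5 (-403) .sq (.split 6 93 (.split 2 (-45) (.lin 9) (.split 1 52 (.splitN 165574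
    (.split 4 379 (.split 5 (-374) .sq (.split 0 142 (.split 5 (-203) (.lin 1) (.split 4 259
    (.split 4 223 (.split 4 196 cert5_129_13 (.lin 12)) (.lin 3)) (.lin 0))) (.split 5 (-175)
    (.split 4 195 (.lin 12) (.split 3 (-41) (.split 2 (-17) (.split 1 43 (.split 6 70 (.lin 11)
    (.splitN 103270 .sq (.wt 1))) (.lin 11)) (.lin 2)) (.wt 2))) (.lin 4)))) .sq) (.wt 1)) (.lin
    11))) (.split 5 (-94) (.split 2 (-44) (.split 1 33 (.lin 11) (.split 0 88 (.split 5 (-185)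
    (.lin 1) (.split 4 142 (.split 0 83 (.split 4 133 (.split 1 62 (.split 5 (-140) (.lin 4)
    (.splitN 90974 (.split 1 58 (.split 2 (-72) (.lin 2) (.split 5 (-131) (.lin 4) (.splitN 65542
    (.wt 3) (.split 7 (-51) (.split 4 114 (.lin 12) (.splitN 77792 (.split 1 51 (.split 2 (-54)
    (.lin 2) (.split 5 (-122) (.lin 4) (.split 6 107 (.split 0 77 (.split 4 124 (.split 1 38
    (.split 2 (-45) (.lin 2) (.split 3 (-65) (.split 6 98 (.wt 0) (.lin 9)) (.lin 2))) (.split 5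
    (-103) (.split 0 66 (.split 5 (-104) (.lin 4) (.split 3 (-60) (.split 2 (-53) (.split 6 106
    (.lin 0) (.splitN 72961 (.wt 0) (.wt 0))) (.lin 1)) (.wt 2))) (.wt 2)) (.lin 4))) (.lin 12))
    (.wt 2)) (.lin 9)))) (.wt 0)) (.wt 1))) (.split 2 (-53) (.splitN 75624 (.wt 0) (.split 1 45
    (.split 5 (-122) (.lin 4) (.splitN 84567 (.split 0 71 (.split 4 115 (.split 1 38 (.split 2
    (-54) (.lin 2) (.split 5 (-104) (.lin 0) (.split 3 (-65) (.split 6 98 (.split 0 61 (.wt 0)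
    (.split 5 (-103) (.split 4 114 (.lin 0) (.wt 0)) (.lin 1))) (.lin 9)) (.lin 2)))) (.wt 0))
    (.lin 12)) (.wt 0)) (.wt 1))) (.wt 0))) (.lin 9)))))) (.wt 2)) (.wt 1))) (.wt 2)) (.lin 12))
    (.wt 2)) (.lin 12))) (.wt 2))) (.lin 9)) (.lin 7)))) .sq) (.wt 1))))) .sq) (.wt 1)) (.lin
    0))) .sq) (.lin 0))) (.wt 1)))) (.split 2 (-26) (.splitN 20836012 (.split 0 4561 (.split 5
    (-4658) (.lin 1) (.split 4 4732 (.splitN 11690721 (.split 0 3415 (.split 5 (-3506) (.lin 1)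
    (.split 3 (-70) (.split 1 52 (.split 2 (-62) (.split 6 97 (.lin 11) (.split 0 136 (.split 5
    (-194) (.lin 1) (.split 4 196 (.split 4 169 (.splitN 232412 (.split 0 118 (.split 5 (-176)
    (.lin 1) (.split 4 151 (.split 7 (-33) (.splitN 120925 .cand (.wt 1)) (.split 1 38 (.split 5
    (-149) (.lin 4) (.splitN 182357 (.split 0 94 (.split 5 (-122) (.lin 4) (.split 4 115 (.splitN
    173537 (.split 0 86 (.split 4 106 (.split 1 30 (.split 5 (-104) (.lin 4) (.splitN 145166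
    (.split 0 68 (.split 5 (-86) (.lin 4) (.split 3 (-87) (.split 2 (-89) (.split 6 115 (.lin 0)
    (.wt 0)) (.lin 1)) (.wt 0))) (.wt 0)) (.wt 1))) (.wt 0)) (.lin 12)) (.wt 0)) (.wt 1)) (.lin
    12))) (.wt 0)) (.wt 1))) (.wt 0))) (.lin 12))) (.wt 2)) (.wt 1)) (.lin 12)) (.lin 3))) (.wt
    2))) (.lin 2)) (.lin 11)) (.split 0 428 (.split 5 (-518) (.lin 1) (.split 0 367 (.split 5
    (-464) (.lin 1) (.split 6 89 (.split 2 (-63) (.lin 9) (.split 0 149 (.split 5 (-203) (.lin 1)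
    (.split 4 241 (.split 4 178 (.split 7 (-33) (.split 2 (-54) (.lin 9) (.split 4 96 (.lin 12)
    (.split 3 (-52) (.split 5 (-176) (.lin 1) (.split 1 34 (.split 2 (-44) (.split 6 79 (.lin 9)
    (.splitN 114934 .cand (.wt 1))) (.lin 2)) (.lin 2))) (.split 0 103 (.split 5 (-149) (.lin 1)
    (.split 1 49 (.split 5 (-140) (.lin 4) (.splitN 133718 .cand (.wt 1))) (.wt 2))) (.wt 2)))))
    (.split 2 (-35) (.split 0 106 (.split 5 (-158) (.lin 1) (.split 0 102 (.split 5 (-149) (.lin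
    1) (.split 4 124 (.split 1 51 (.split 5 (-140) (.lin 4) (.split 3 (-45) (.split 2 (-44)
    (.split 6 70 (.lin 9) (.splitN 243028 (.split 1 37 (.split 0 73 (.split 5 (-104) (.lin 4)
    (.split 4 106 (.split 4 97 (.splitN 196955 (.split 1 32 (.split 5 (-95) (.lin 4) (.splitN
    164123 (.split 3 (-54) (.split 2 (-53) (.split 6 79 (.lin 9) (.splitN 152858 (.wt 0) (.wt
    1))) (.lin 2)) (.wt 0)) (.wt 1))) (.wt 0)) (.wt 1)) (.lin 12)) (.lin 8))) (.wt 2)) (.wt 0))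
    (.wt 1))) (.lin 2)) (.wt 2))) (.wt 2)) (.lin 12))) (.wt 2))) (.wt 2)) (.lin 2))) (.lin 12))
    (.lin 0))) (.split 4 150 (.lin 3) (.split 4 177 (.lin 12) (.splitN 157380 (.split 3 (-40)
    (.split 6 70 (.lin 11) (.wt 2)) (.wt 0)) (.wt 6)))))) (.split 2 (-62) (.split 1 33 (.lin 11)
    (.wt 2)) (.lin 9)))) (.wt 2))) (.wt 2)))) .sq) (.wt 1)) (.lin 0))) .sq) (.wt 1)) (.lin 2)))

def cert5_129_15 : Cert :=
  (.split 7 (-42) (.split 4 105 (.lin 12) (.splitN 120107 (.split 0 262 (.split 4 313 (.split 1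
    256 (.split 5 (-509) (.lin 4) (.split 2 (-268) .sq (.split 3 (-489) (.lin 1) (.split 3 (-291)
    (.lin 2) (.splitN 111933 (.split 3 (-249) .sq (.split 4 264 (.split 5 (-257) .sq (.split 1
    196 (.splitN 107175 (.split 3 (-235) .sq (.split 5 (-244) .sq (.split 1 178 (.split 6 264
    (.split 2 (-216) (.lin 9) (.split 1 66 (.split 3 (-65) (.split 3 (-74) (.splitN 96265 (.split
    3 (-214) .sq (.split 4 226 (.split 5 (-218) .sq (.split 6 240 (.split 2 (-189) (.lin 9)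
    (.split 1 43 (.split 3 (-92) (.splitN 89788 (.split 3 (-198) .sq (.split 4 204 (.split 6 220
    (.split 2 (-171) (.lin 9) (.split 0 106 (.split 5 (-149) (.lin 4) (.split 4 160 (.split 1 34
    (.split 5 (-140) (.lin 4) (.split 3 (-101) (.splitN 59480 .sq (.splitN 82630 (.split 6 200
    (.split 0 83 (.split 5 (-113) (.lin 4) (.split 4 142 (.split 4 133 (.split 7 (-51) (.split 4
    114 (.lin 12) (.splitN 73877 (.split 1 25 (.wt 3) (.split 5 (-94) (.split 2 (-118) .sq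
    (.split 6 170 (.splitN 68507 (.split 6 136 (.wt 1) (.split 2 (-89) (.split 3 (-110) .sq (.lin
    2)) (.lin 9))) (.wt 3)) (.lin 9))) (.lin 4))) (.wt 0))) .cand) (.lin 12)) (.lin 8))) (.split
    5 (-112) (.split 4 132 (.lin 12) (.splitN 75275 .sq (.split 0 89 (.split 5 (-122) (.lin 4)
    (.split 4 142 (.wt 1) (.lin 12))) (.wt 1)))) (.lin 4))) .sq) (.wt 1))) (.lin 11))) .cand)
    (.lin 12))) (.split 5 (-139) (.split 4 159 (.lin 12) .sq) (.lin 4)))) .sq) .sq)) (.wt 1))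
    (.lin 11)) (.split 3 (-192) (.lin 2) (.split 5 (-112) (.split 0 102 (.split 5 (-158) (.lin 4)
    (.split 3 (-87) (.split 6 142 (.lin 11) (.split 0 91 (.split 5 (-149) (.lin 4) (.split 3
    (-94) (.split 2 (-98) (.split 6 151 (.lin 11) (.split 0 84 (.split 5 (-140) (.lin 4) (.split
    4 133 (.split 3 (-102) (.split 2 (-107) (.split 6 160 (.lin 11) (.splitN 81791 .sq (.split 0
    68 (.split 5 (-122) (.lin 4) (.split 4 115 (.wt 1) (.lin 12))) (.wt 1)))) (.lin 2)) (.wt 2))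
    (.lin 12))) (.wt 2))) (.lin 2)) (.wt 2))) (.wt 2))) (.wt 2))) (.wt 2)) (.lin 4))))) .sq))
    .sq)) (.wt 1)) (.lin 11)) (.lin 2)) (.split 3 (-201) (.lin 2) (.split 5 (-130) (.split 0 91
    (.split 4 142 (.split 3 (-95) (.split 2 (-89) (.split 1 160 (.split 2 (-116) (.split 6 169
    (.lin 11) (.splitN 91430 .sq (.splitN 95397 (.split 0 81 (.split 4 133 (.split 0 78 (.split 4
    124 (.split 1 95 (.wt 1) (.split 5 (-157) (.split 6 196 (.lin 11) .sq) (.lin 4))) (.lin 12))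
    (.wt 1)) (.lin 12)) (.wt 1)) (.wt 1)))) (.lin 2)) (.lin 11)) (.lin 1)) (.wt 2)) (.lin 12))
    (.wt 2)) (.lin 4))))) .sq) (.lin 4)))) (.wt 1)) (.lin 4))) .sq)) (.wt 1)))))) .sq) (.lin 12))
    .sq) (.wt 1))) (.split 2 (-98) (.split 0 254 (.split 4 286 (.splitN 418384 (.split 3 (-71)
    (.split 2 (-610) .sq (.split 3 (-615) (.lin 2) (.split 5 (-608) .sq (.split 1 118 (.split 5
    (-365) (.lin 4) (.splitN 319351 (.split 0 230 (.split 4 259 (.split 2 (-525) .sq (.split 3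
    (-534) (.lin 2) (.split 1 53 (.split 5 (-275) (.lin 4) (.split 3 (-83) (.splitN 238131
    (.split 2 (-439) .sq (.split 3 (-444) (.lin 2) (.split 0 190 (.split 5 (-239) (.lin 4)
    (.split 4 223 (.split 6 447 (.split 3 (-417) (.lin 11) (.split 7 (-33) (.splitN 122077 .cand
    (.wt 1)) (.split 0 88 (.split 5 (-140) (.lin 4) (.split 4 115 (.splitN 199387 (.split 1 44
    (.split 5 (-131) (.lin 4) (.splitN 184698 (.split 1 41 (.split 5 (-122) (.lin 4) (.split 0 81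
    (.split 5 (-113) (.lin 4) (.split 3 (-156) (.split 2 (-161) (.split 6 187 (.lin 9) (.splitN
    130093 (.split 0 65 (.split 5 (-95) (.lin 4) (.wt 2)) (.wt 0)) (.wt 6))) (.lin 2)) (.wt 2)))
    (.wt 2))) (.wt 0)) (.wt 1))) (.wt 0)) (.wt 1)) (.lin 12))) (.wt 2)))) .sq) (.lin 12))) (.wt
    2)))) (.wt 1)) (.lin 11))) (.split 5 (-121) (.split 0 81 (.split 5 (-194) (.lin 4) (.split 0
    77 (.split 3 (-180) (.split 6 232 (.lin 7) (.wt 2)) (.wt 2)) (.wt 2))) (.wt 2)) (.lin 4)))))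
    (.lin 12)) (.wt 2)) (.wt 1))) (.split 2 (-161) (.split 6 187 (.lin 9) (.wt 2)) (.lin 2))))))
    (.wt 2)) (.wt 1)) (.lin 12)) (.wt 2)) (.lin 9)))

def cert5_129_16 : Cert :=
  (.split 7 (-64) (.split 6 70 (.lin 9) (.split 4 87 (.lin 12) (.splitN 330740 (.split 1 3644
    (.split 2 (-1823) (.div 2) (.split 4 3644 (.split 5 (-1823) (.div 5) (.split 0 553 (.split 1
    553 (.split 5 (-1094) (.lin 4) (.splitN 302120 (.split 2 (-530) .sq (.split 3 (-531) .sq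
    (.split 4 1609 (.splitN 283243 (.split 1 511 (.split 4 517 (.split 0 448 (.split 5 (-959)
    (.lin 4) (.split 5 (-513) .sq (.split 1 484 (.splitN 265802 (.split 3 (-493) .sq (.split 6
    496 (.split 1 457 (.split 0 105 (.splitN 241926 (.split 4 475 (.split 5 (-470) .sq (.split 6
    472 (.split 1 430 (.split 0 49 (.splitN 152524 (.split 1 358 (.split 5 (-401) (.lin 4)
    (.split 4 368 (.split 5 (-361) .sq (.split 6 364 cert5_129_3 .sq)) .sq)) .sq) (.wt 3))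
    (.split 5 (-76) (.split 4 114 (.lin 12) (.splitN 163048 (.split 2 (-361) .sq (.split 3 (-363)
    .sq (.split 4 378 (.split 7 (-326) (.lin 12) (.split 5 (-369) .sq (.split 1 313 (.split 6 367
    cert5_129_6 .sq) (.lin 4)))) .sq))) (.wt 1))) (.lin 4))) (.lin 11)) .sq)) .sq) (.wt 3))
    (.split 5 (-130) (.split 4 168 (.lin 12) (.splitN 67967 .sq (.splitN 139206 (.split 3 (-266)
    .sq (.split 4 312 (.split 5 (-293) .sq (.split 1 187 (.splitN 126975 (.split 4 290 (.split 5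
    (-270) .sq (.split 1 160 (.split 6 246 (.split 3 (-92) (.split 1 151 (.split 6 115 (.lin 11)
    (.splitN 83402 .sq (.split 1 37 (.wt 1) (.split 5 (-148) (.split 3 (-201) (.lin 11) (.split 6
    133 (.lin 11) (.splitN 94130 .sq (.split 0 112 (.split 7 (-114) (.wt 0) (.split 2 (-26) (.wt
    1) (.lin 1))) (.wt 1))))) (.lin 4))))) (.lin 11)) (.splitN 112194 (.split 4 267 (.split 0 196
    (.split 5 (-245) .sq (.split 6 134 (.split 1 97 (.split 7 (-128) (.lin 9) (.split 3 (-61)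
    (.split 1 70 (.split 6 88 (.lin 11) (.splitN 73628 .sq (.splitN 93489 (.split 4 215 (.split 5
    (-221) (.lin 6) (.split 1 25 (.wt 3) (.split 5 (-139) (.split 6 97 (.lin 11) (.split 2 (-36)
    (.wt 1) (.split 5 (-185) (.lin 10) (.split 2 (-32) (.wt 1) (.split 7 (-73) (.split 4 177
    (.lin 3) (.splitN 82619 .sq (.wt 1))) (.lin 2)))))) (.lin 4)))) .sq) (.wt 1)))) (.lin 11))
    (.splitN 100187 (.split 6 117 (.split 7 (-110) (.lin 9) (.split 6 114 (.split 7 (-101) (.lin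
    9) (.split 4 241 (.split 5 (-217) .sq (.split 1 47 (.split 7 (-92) (.lin 2) (.splitN 89319
    (.split 4 220 (.split 5 (-194) (.lin 8) (.split 3 (-47) (.split 1 34 (.splitN 84575 (.split 4
    203 (.split 0 133 (.split 5 (-167) (.lin 4) (.split 7 (-73) (.split 6 79 (.lin 9) (.split 4
    177 (.lin 12) (.splitN 74447 .sq (.wt 1)))) .cand)) (.lin 12)) .sq) (.wt 1)) (.split 6 88
    (.lin 11) (.wt 2))) (.split 7 (-74) (.lin 2) (.wt 2)))) .sq) (.wt 1))) (.split 6 88 (.lin 11)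
    (.wt 2)))) .sq)) (.wt 6))) (.wt 6)) (.wt 1)))) (.lin 11)) (.split 1 60 (.lin 11) (.split 5
    (-166) (.splitN 97127 .sq (.wt 1)) (.lin 4))))) (.lin 12)) .sq) (.wt 1))) .sq) (.lin 4)))
    .sq) (.wt 1)) (.lin 4))) .sq)) (.wt 1)))) (.lin 4))) (.lin 11)) .sq)) (.wt 1)) (.lin 4))))
    (.lin 12)) .sq) .sq) (.wt 1)) (.lin 5)))) (.wt 1))) .sq) .sq)) (.div 4))) (.div 1)) (.wt
    1)))) (.splitN 41748 (.wt 1) (.split 0 58 (.split 4 106 (.splitN 45802 (.wt 1) cert5_129_12)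
    (.lin 12)) (.split 5 (-85) (.split 4 87 (.lin 12) (.split 6 132 (.split 2 (-99) (.lin 9)
    (.split 1 88 (.split 3 (-129) (.lin 2) (.split 3 (-102) (.lin 11) cert5_129_14)) (.lin 11)))
    (.split 2 (-80) (.splitN 631376 (.split 2 (-3497) (.div 2) (.split 1 3508 (.split 3 (-3522)
    (.lin 2) (.split 5 (-3497) (.div 5) (.split 4 3526 (.splitN 591541 (.split 2 (-3281) (.div 2)
    (.split 1 3292 (.split 3 (-3306) (.lin 2) (.split 5 (-3281) (.div 5) (.split 3 (-49) (.split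
    0 739 (.split 4 790 (.splitN 561025 (.split 2 (-3101) (.div 2) (.split 3 (-3126) (.lin 2)
    (.split 1 714 (.split 5 (-1445) (.lin 4) (.splitN 521877 (.split 0 689 (.split 4 736 (.split
    2 (-692) .sq (.split 3 (-1335) (.lin 1) (.split 3 (-714) (.lin 2) (.splitN 488456 (.split 3
    (-666) .sq (.split 4 668 (.split 5 (-669) .sq (.split 1 601 cert5_129_15 (.lin 4))) .sq))
    (.wt 1))))) (.lin 12)) .sq) (.wt 1))) .sq))) (.wt 1)) (.lin 12)) .sq) (.wt 2)))) (.lin 2)))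
    (.wt 1)) (.lin 8)))) (.lin 2))) (.wt 1)) (.lin 9)))) (.lin 4)))))

def cert5_129_17 : Cert :=
  (.split 0 70 (.split 5 (-167) (.lin 1) (.split 5 (-140) (.lin 4) (.split 4 124 (.split 7 (-42)
    (.split 2 (-45) (.lin 9) (.split 6 52 (.lin 9) (.split 4 69 (.lin 12) (.splitN 198148 (.split
    0 47 (.split 5 (-122) (.lin 1) (.split 4 97 (.split 0 34 (.split 5 (-104) (.lin 4) (.split 4
    88 (.split 3 (-25) (.split 6 58 (.wt 2) (.split 5 (-58) (.split 0 25 (.wt 2) .cand) (.lin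
    7))) (.split 5 (-58) (.split 1 33 (.lin 2) (.split 0 33 (.split 4 79 (.split 6 76 (.split 1
    52 (.split 6 53 (.wt 2) (.split 5 (-67) (.split 1 42 (.lin 11) (.split 6 68 (.split 2 (-18)
    (.lin 3) (.split 1 43 (.split 5 (-68) (.lin 4) (.split 7 (-52) (.wt 2) (.split 2 (-17)
    (.split 4 70 (.splitN 93755 (.wt 0) (.wt 0)) (.lin 0)) (.lin 1)))) (.lin 11))) (.wt 2)))
    (.lin 7))) (.lin 11)) (.wt 2)) (.lin 12)) (.wt 2))) (.lin 1))) (.lin 12))) (.split 3 (-21)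
    .cand (.wt 2))) (.lin 12))) (.split 5 (-76) (.split 4 96 (.lin 12) (.split 1 60 (.split 5
    (-122) (.lin 4) (.split 3 (-23) (.split 6 68 (.split 1 34 (.split 5 (-104) (.lin 4) (.split 7
    (-51) (.split 1 33 (.lin 2) (.split 2 (-9) (.lin 9) (.split 4 105 (.lin 5) (.split 6 61 (.lin
    9) (.splitN 92195 (.wt 0) (.wt 1)))))) (.split 4 115 (.split 0 68 (.split 6 61 (.split 2 (-9)
    (.lin 9) (.split 1 25 (.splitN 92018 (.wt 1) (.wt 0)) (.lin 11))) (.wt 2)) (.wt 2)) (.lin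
    12)))) (.lin 11)) (.wt 2)) (.wt 2))) (.wt 2))) (.lin 1))) (.wt 1))))) (.split 0 47 (.split 5
    (-113) (.lin 4) (.split 4 79 (.split 6 66 (.split 2 (-54) (.lin 3) (.split 1 43 (.split 0 34
    (.split 5 (-77) (.lin 4) (.split 4 70 (.split 3 (-25) (.split 1 34 (.split 5 (-68) (.lin 4)
    (.split 6 52 (.lin 11) (.split 0 27 (.wt 2) (.split 5 (-58) (.split 4 60 (.lin 12) (.split 7
    (-35) (.wt 2) (.split 2 (-26) (.split 4 61 (.splitN 212319 (.split 6 53 (.wt 2) (.split 1 33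
    (.lin 11) (.wt 0))) (.wt 1)) (.lin 12)) (.lin 1)))) (.lin 4))))) (.lin 11)) (.split 7 (-33)
    (.splitN 202845 .cand (.wt 1)) (.split 2 (-17) (.split 0 31 (.split 4 52 (.split 6 55 (.split
    2 (-27) (.lin 3) (.split 1 34 (.split 5 (-59) (.lin 1) (.splitN 224098 (.split 6 46 (.wt 2)
    (.split 1 33 (.lin 11) (.wt 0))) (.wt 3))) (.lin 11))) (.wt 2)) (.lin 12)) (.wt 2)) (.lin
    2)))) (.lin 12))) (.split 5 (-67) (.split 4 69 (.lin 12) (.split 3 (-21) (.split 2 (-17)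
    (.split 1 34 (.split 5 (-77) (.lin 4) (.split 6 52 (.lin 7) (.split 6 61 (.split 2 (-27)
    (.lin 3) (.split 1 25 (.split 5 (-68) (.lin 4) (.splitN 180380 (.splitN 111691 (.wt 6)
    (.split 7 (-34) (.wt 0) (.wt 0))) (.wt 1))) (.lin 11))) (.wt 2)))) (.lin 11)) (.lin 1)) (.wt
    2))) (.lin 4))) (.lin 11))) (.split 2 (-17) (.split 1 42 (.lin 11) (.split 5 (-67) (.split 0
    33 (.split 5 (-104) (.lin 1) (.split 5 (-95) (.lin 4) (.split 4 61 (.split 3 (-22) (.split 5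
    (-86) (.lin 7) (.split 1 61 (.split 7 (-37) (.wt 2) (.split 4 52 (.split 6 71 (.wt 2) (.split
    2 (-53) (.split 1 51 (.lin 11) (.splitN 197593 (.wt 0) (.wt 1))) (.lin 3))) (.lin 12))) (.lin
    11))) (.wt 2)) (.lin 12)))) (.wt 2)) (.lin 4))) (.lin 3))) (.lin 12))) (.split 5 (-76)
    (.split 4 78 (.lin 12) (.split 3 (-23) (.split 2 (-17) (.split 1 61 (.split 5 (-131) (.lin 4)
    (.split 6 52 (.lin 11) (.splitN 134040 (.split 1 36 (.split 2 (-36) (.lin 2) (.split 5 (-104)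
    (.lin 4) (.splitN 121383 (.split 1 31 (.split 5 (-95) (.lin 4) (.splitN 116320 (.split 0 63
    (.split 5 (-86) (.lin 4) (.splitN 110722 (.split 0 57 (.split 5 (-77) (.lin 4) (.split 7
    (-35) (.split 2 (-18) (.lin 1) (.split 4 87 (.lin 0) (.wt 2))) (.wt 0))) (.wt 0)) (.wt 6)))
    (.wt 0)) (.wt 6))) (.wt 0)) (.wt 6)))) (.wt 0)) (.wt 6)))) (.lin 11)) (.lin 2)) (.wt 2)))
    (.lin 4)))) (.lin 12)))) (.split 4 60 (.lin 3) (.split 4 105 (.lin 12) (.split 3 (-23)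
    (.split 6 52 (.lin 11) (.splitN 101491 (.split 7 (-42) (.split 4 123 (.lin 12) (.splitN 95777
    (.split 1 35 (.split 2 (-18) (.lin 2) (.split 1 33 (.split 7 (-47) (.lin 2) (.wt 0)) (.wt
    0))) (.wt 0)) (.wt 6))) (.wt 0)) (.wt 6))) (.wt 2)))))

def cert5_129_18 : Cert :=
  (.split 1 22 (.split 2 (-18) (.lin 2) (.split 3 (-20) (.split 7 (-38) (.lin 2) (.split 6 44
    (.split 0 27 (.wt 2) (.split 5 (-40) (.split 4 60 (.lin 12) (.splitN 44296 (.wt 1) (.split 1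
    11 (.split 2 (-9) (.lin 2) (.split 3 (-29) (.split 7 (-29) (.lin 2) (.split 6 35 (.splitN
    47051 (.split 4 512 (.wt 0) (.div 4)) (.wt 0)) (.lin 9))) (.lin 2))) (.split 5 (-49) (.splitN
    66295 (.wt 1) (.split 0 76 (.split 5 (-104) (.lin 1) (.split 4 124 (.split 4 106 (.split 5
    (-86) (.lin 4) (.split 3 (-29) (.wt 2) (.split 2 (-9) (.lin 2) (.split 7 (-29) (.lin 2)
    (.split 4 97 (.split 6 35 (.splitN 162375 (.wt 1) (.split 0 47 (.wt 0) (.split 5 (-67)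
    (.split 4 78 (.lin 0) (.splitN 187066 (.wt 1) (.split 0 53 (.wt 0) (.split 5 (-76) (.split 4
    87 (.lin 0) (.splitN 216104 (.split 0 64 (.split 5 (-77) (.lin 1) (.split 4 88 (.splitN
    203193 (.wt 0) (.wt 0)) (.lin 0))) (.wt 0)) (.wt 1))) (.lin 1))))) (.lin 1)))) (.lin 9))
    (.lin 5)))))) (.lin 3)) (.lin 0))) (.split 5 (-85) (.split 4 87 (.lin 0) (.split 5 (-94)
    (.split 4 105 (.lin 8) (.splitN 723537 (.split 0 836 (.split 5 (-869) (.lin 1) (.split 3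
    (-25) (.split 6 43 (.lin 11) (.split 0 376 (.split 5 (-401) (.lin 1) (.split 4 421 (.split 0
    337 (.split 5 (-356) (.lin 1) (.splitN 254684 .cand (.wt 1))) (.wt 2)) (.lin 0))) (.wt 2)))
    (.split 7 (-29) (.lin 2) (.wt 2)))) .sq) (.wt 1))) (.lin 4))) (.lin 1)))) (.lin 4))))) (.lin
    1))) (.lin 11))) (.lin 2))) (.split 5 (-49) (.splitN 29043 (.wt 3) (.split 3 (-20) (.split 6
    43 (.lin 11) (.split 7 (-64) (.split 5 (-67) (.split 1 42 (.lin 2) (.split 6 70 (.lin 9)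
    (.split 4 87 (.lin 12) (.splitN 146530 (.split 1 1628 (.split 7 (-1649) (.lin 2) (.split 2
    (-815) (.div 2) (.split 4 1628 (.split 5 (-2417) (.lin 10) (.split 5 (-815) (.div 5) (.split
    1 790 (.split 4 835 (.splitN 139858 (.split 0 81 (.split 1 338 (.split 4 430 (.split 4 346
    (.split 5 (-343) .sq (.split 1 313 (.split 0 47 (.split 6 155 (.split 2 (-90) (.lin 9)
    (.split 1 133 (.split 7 (-155) (.lin 2) (.split 5 (-266) (.lin 1) (.split 5 (-176) (.lin 4)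
    (.split 7 (-146) (.lin 9) (.split 0 34 (.split 3 (-25) (.split 5 (-158) (.lin 7) (.split 6
    111 (.split 1 79 (.split 4 133 (.split 5 (-113) (.lin 4) (.splitN 97854 .cand (.wt 3))) (.lin
    3)) (.lin 11)) (.splitN 95272 .cand (.wt 1)))) (.split 1 51 (.lin 2) (.split 0 29 (.split 6
    94 (.split 2 (-27) (.lin 3) (.split 1 70 (.split 7 (-83) (.lin 2) (.split 5 (-113) (.lin 1)
    (.split 5 (-95) (.lin 4) (.split 1 68 (.split 7 (-74) (.lin 2) (.split 5 (-86) (.lin 4)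
    (.splitN 77728 (.split 7 (-66) (.split 2 (-9) (.lin 1) (.split 1 60 (.lin 2) (.split 4 96
    (.lin 5) (.split 6 79 (.lin 0) (.wt 0))))) (.wt 0)) (.wt 6)))) (.wt 2))))) (.lin 11))) (.wt
    2)) (.wt 2)))) (.split 4 105 (.lin 12) (.split 3 (-24) (.split 6 92 (.split 1 61 (.split 7
    (-83) (.lin 2) (.split 5 (-104) (.lin 4) (.splitN 79987 (.split 1 50 (.split 2 (-9) (.lin 2)
    (.split 7 (-65) (.lin 2) (.wt 0))) (.wt 2)) (.wt 6)))) (.lin 11)) (.wt 2)) (.wt 2))))))))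
    (.lin 11))) (.split 5 (-157) (.split 1 132 (.lin 11) (.splitN 81188 .sq (.splitN 96112
    (.split 0 42 (.split 2 (-24) (.wt 1) (.split 7 (-127) (.split 4 168 (.lin 3) .sq) (.lin 1)))
    (.wt 1)) (.wt 1)))) (.lin 7))) (.split 4 114 (.lin 12) (.split 7 (-290) (.lin 12) (.split 0
    67 (.split 1 102 (.split 7 (-119) (.lin 2) (.split 5 (-158) (.lin 4) (.splitN 62818 (.wt 4)
    (.wt 6)))) (.wt 2)) (.wt 2))))) (.lin 4))) .sq) (.lin 5)) .sq) (.wt 2)) (.wt 1)) (.lin 10))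
    (.lin 4)))) (.div 4)))) (.div 1)) (.wt 1))))) (.lin 1)) (.split 0 1890 (.split 6 96 (.split 2
    (-1926) (.lin 3) (.split 2 (-63) (.lin 9) (.split 1 70 (.split 0 196 (.split 5 (-293) (.lin
    1) (.split 4 277 (.split 5 (-266) (.lin 4) cert5_129_17) (.lin 3))) (.split 4 186 (.lin 3)
    (.wt 2))) (.lin 11)))) (.split 2 (-44) (.split 1 69 (.lin 11) (.split 0 31 (.split 4 79
    (.split 3 (-23) (.split 6 189 (.split 2 (-162) (.lin 3) (.split 1 160 (.split 5 (-212) (.lin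
    1) (.split 5 (-185) (.lin 4) (.splitN 267604 (.split 6 167 (.split 1 133 (.split 5 (-158)
    (.lin 4) (.split 7 (-29) (.split 4 60 (.lin 12) (.split 6 150 (.split 1 115 (.split 5 (-140)
    (.lin 4) (.split 7 (-46) (.splitN 97375 .cand (.wt 1)) (.wt 2))) (.lin 11)) (.wt 2))) (.wt
    0))) (.lin 11)) (.wt 2)) (.wt 1)))) (.lin 11))) (.wt 2)) (.wt 2)) (.lin 12)) (.wt 2))) (.lin
    9))) (.wt 2)))) (.splitN 73137 (.split 5 (-401) (.div 5) (.split 7 (-380) (.lin 1) (.splitN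
    63876 (.split 5 (-347) (.div 5) (.split 7 (-326) (.lin 1) (.split 1 62 (.split 7 (-65) (.lin
    2) (.wt 0)) (.wt 0)))) (.wt 6)))) (.wt 6)))) (.lin 4)))

def cert5_129 : Cert :=
  (.split 5 (-31) (.split 4 51 (.lin 12) (.splitN 20323 (.wt 1) (.split 3 (-30) (.split 6 43
    (.lin 11) (.split 1 22 cert5_129_2 (.split 5 (-49) (.split 6 61 (.lin 11) (.splitN 31279 (.wt
    1) cert5_129_16)) (.lin 4)))) cert5_129_18))) (.lin 4))

theorem check5_129 :
    check task5 cert5_129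
      [(7, ⟨some (25), none⟩), (7, ⟨some (7), none⟩), (1, ⟨none, some (-8)⟩), (7, ⟨none, some (-11)⟩), (7, ⟨some (34), none⟩), (5, ⟨none, some (-13)⟩), (8, ⟨some (35), none⟩), (8, ⟨none, some (-28)⟩)] ⟨some (20160), none⟩ = true := by
  decide +kernel

def cert5_130_0 : Cert :=
  (.split 0 58 (.split 5 (-68) (.lin 4) (.split 4 70 (.splitN 64345 (.wt 1) (.splitN 27540000000
    (.split 2 (-165952) .sq (.split 6 166004 (.splitN 1101600000 (.split 2 (-33191) .sq (.split 6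
    33236 (.splitN 227134020 (.split 2 (-15071) .sq (.split 6 15119 (.splitN 103728813 (.split 2
    (-10184) .sq (.split 6 10232 (.splitN 70299936 (.split 2 (-8384) .sq (.split 6 8432 (.splitN
    57948448 (.split 2 (-7612) .sq (.split 6 7658 (.split 3 (-7680) (.lin 6) (.split 1 11 (.split
    3 (-92) (.wt 0) (.lin 2)) (.split 5 (-40) (.split 0 38 (.split 5 (-50) (.lin 4) (.split 4 52
    (.splitN 348945 (.split 2 (-1931) (.div 2) (.split 6 1952 (.split 3 (-494) (.wt 2) (.split 2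
    (-495) (.lin 1) (.split 6 521 (.splitN 167477 (.wt 1) (.splitN 320045 (.split 6 99 (.wt 1)
    (.split 2 (-89) (.split 3 (-92) (.splitN 297487 (.split 6 111 (.wt 1) (.split 2 (-98) (.split
    3 (-101) (.split 0 25 (.wt 0) (.split 5 (-49) (.split 4 51 (.lin 8) (.splitN 201029 (.wt 1)
    (.split 3 (-250) (.wt 0) (.split 2 (-243) (.lin 1) (.split 6 260 (.splitN 235388 (.wt 1)
    (.split 3 (-119) (.wt 0) (.split 2 (-108) (.lin 1) (.split 6 125 (.wt 0) (.lin 0))))) (.lin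
    0)))))) (.lin 4))) (.lin 2)) (.lin 9))) (.wt 3)) (.lin 2)) (.lin 9))) (.wt 3))) (.lin 0))))
    (.lin 0))) (.wt 3)) (.lin 8))) (.split 5 (-58) (.split 4 60 (.lin 8) (.split 6 491 (.split 2
    (-477) (.lin 0) (.split 3 (-480) (.lin 6) (.split 6 314 (.split 3 (-309) (.lin 6) (.split 6
    259 (.split 2 (-243) (.lin 0) (.split 3 (-246) (.lin 6) (.split 6 230 (.split 3 (-219) (.lin
    6) (.split 6 161 (.split 2 (-153) (.lin 0) (.split 2 (-144) (.lin 9) (.split 3 (-147) (.lin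
    2) (.split 6 129 (.split 2 (-117) (.lin 0) (.split 2 (-108) (.lin 9) (.split 3 (-111) (.lin
    2) (.split 6 111 (.split 2 (-90) (.lin 9) (.split 3 (-93) (.lin 2) (.split 0 49 (.split 5
    (-59) (.lin 4) (.split 4 61 (.splitN 394078 (.wt 1) (.wt 4)) (.lin 8))) (.wt 2)))) (.split 2
    (-98) (.split 3 (-101) (.splitN 476230 (.splitN 333129 (.wt 3) (.split 0 50 (.split 5 (-59)
    (.lin 4) (.split 4 61 (.splitN 354957 (.wt 1) (.split 3 (-104) (.wt 0) (.split 2 (-99) (.lin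
    1) (.split 6 116 (.wt 0) (.lin 0))))) (.lin 8))) (.wt 0))) (.wt 1)) (.lin 2)) (.lin 9))))))
    (.split 2 (-116) (.split 3 (-119) (.splitN 435513 (.split 0 51 (.split 5 (-59) (.lin 4)
    (.split 4 61 (.split 6 136 (.wt 2) (.split 2 (-125) (.split 3 (-128) (.split 6 143 (.wt 2)
    (.split 3 (-137) (.split 6 157 (.split 3 (-138) (.lin 6) (.splitN 326916 (.wt 0) (.wt 0)))
    (.wt 2)) (.lin 6))) (.lin 6)) (.lin 0))) (.lin 8))) (.wt 0)) (.wt 1)) (.lin 2)) (.lin 9))))))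
    (.split 2 (-143) (.splitN 377468 (.split 0 49 (.split 5 (-59) (.lin 4) (.split 4 61 (.split 3
    (-164) (.split 2 (-161) (.split 6 178 (.lin 0) (.split 3 (-179) (.split 2 (-179) (.split 6
    196 (.lin 0) (.splitN 298902 (.split 3 (-210) (.split 2 (-215) (.lin 3) (.lin 1)) (.wt 0))
    (.wt 1))) (.lin 1)) (.wt 2))) (.lin 1)) (.wt 2)) (.lin 8))) (.wt 0)) (.wt 1)) (.lin 0))))
    (.wt 2)))) (.wt 2))) (.wt 2)))) (.wt 2))) (.lin 4))) (.lin 4)))) (.lin 0))) (.wt 3)) (.lin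
    0))) (.wt 3)) (.lin 0))) (.wt 3)) (.lin 0))) (.wt 3)) (.lin 0))) (.wt 3)) (.lin 0))) (.wt
    3))) (.lin 12))) (.split 5 (-67) (.split 4 78 (.lin 12) (.split 1 11 (.split 3 (-92) (.splitN
    190563 (.split 2 (-1049) (.div 2) (.split 6 1061 (.split 4 2096 (.split 5 (-3047) (.lin 0)
    (.split 0 2077 (.split 5 (-1049) (.div 5) (.split 0 1042 (.split 4 1060 (.splitN 158322
    (.split 2 (-869) (.div 2) (.split 6 881 (.split 5 (-869) (.div 5) (.split 0 862 (.split 4 880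
    (.splitN 110499 (.split 2 (-599) (.div 2) (.split 6 611 (.split 5 (-599) (.div 5) (.split 0
    592 (.split 4 610 (.split 0 71 (.wt 2) (.split 5 (-85) (.split 6 119 (.wt 2) (.split 2 (-107)
    (.split 3 (-119) (.splitN 101786 (.split 2 (-563) (.div 2) (.split 6 575 (.split 0 95 (.wt 2)
    (.split 5 (-103) (.split 0 100 (.wt 2) (.split 5 (-112) (.split 4 123 (.lin 8) (.split 6 155
    (.wt 2) (.split 2 (-143) (.split 3 (-155) .sq (.lin 2)) (.lin 9)))) (.lin 4))) (.lin 4)))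
    (.lin 9))) (.wt 3)) (.lin 2)) (.lin 9))) (.lin 4))) (.lin 8)) (.lin 4))) (.lin 9))) (.wt 3))
    (.lin 8)) (.lin 4))) (.lin 9))) (.wt 0)) (.lin 8)) (.lin 4))) (.lin 12))) (.div 4)) (.lin
    9))) (.wt 0)) (.lin 2)) (.split 5 (-76) (.split 0 243 (.split 5 (-257) (.lin 4) (.split 0 226
    (.split 5 (-239) (.lin 4) (.split 4 241 (.split 6 1158 (.split 2 (-1296) (.lin 0) (.split 3
    (-1299) (.lin 6) (.split 2 (-1134) (.lin 9) (.split 3 (-1137) (.lin 2) (.split 0 186 (.split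
    5 (-194) (.lin 4) (.split 3 (-84) (.split 2 (-89) (.split 6 106 (.lin 9) (.split 0 152
    (.split 5 (-167) (.lin 4) (.split 4 169 (.splitN 6674514 (.split 0 143 (.split 5 (-158) (.lin
    4) (.split 4 160 (.splitN 4770217 (.split 0 139 (.split 5 (-149) (.lin 4) (.split 4 151
    (.split 3 (-100) (.split 2 (-98) (.split 6 115 (.lin 9) (.splitN 1801358 (.split 0 110
    (.split 5 (-122) (.lin 4) (.split 4 124 (.splitN 1226642 (.split 0 101 (.split 5 (-113) (.lin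
    4) (.split 4 115 (.splitN 1075901 (.split 3 (-140) (.split 2 (-143) (.split 6 160 (.lin 9)
    (.wt 2)) (.lin 2)) (.wt 0)) (.wt 1)) (.lin 8))) (.wt 0)) (.wt 1)) (.lin 8))) (.wt 0)) (.wt
    1))) (.lin 2)) (.wt 0)) (.lin 8))) (.wt 0)) (.wt 1)) (.lin 8))) (.wt 0)) (.wt 1)) (.lin 8)))
    (.wt 0))) (.lin 2)) (.wt 0))) (.wt 0)))))) (.wt 0)) (.lin 8))) (.wt 0))) (.wt 0)) (.lin 4))))
    (.lin 4)))

def cert5_130_1 : Cert :=
  (.split 6 132 (.split 3 (-138) (.lin 6) (.split 2 (-108) (.lin 9) (.split 3 (-102) (.lin 2)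
    (.split 0 38 (.split 4 52 (.split 3 (-70) (.split 2 (-71) (.split 2 (-80) (.split 6 97 (.lin
    9) (.split 1 42 (.split 5 (-68) (.lin 4) (.split 0 25 (.wt 2) (.split 5 (-58) (.split 4 51
    (.lin 12) (.split 1 29 (.split 5 (-59) (.lin 4) (.split 6 122 (.split 3 (-93) (.lin 6)
    (.split 3 (-75) (.split 2 (-89) (.split 6 106 (.lin 0) (.split 6 114 (.split 2 (-90) (.lin 0)
    (.split 3 (-84) (.lin 6) (.splitN 18227848 (.wt 0) (.wt 1)))) (.wt 2))) (.lin 1)) (.wt 0)))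
    (.wt 2))) (.wt 0))) (.lin 4)))) (.wt 1))) (.lin 2)) (.lin 1)) (.split 1 44 (.split 6 84
    (.split 2 (-72) (.lin 3) (.split 2 (-63) (.lin 9) (.split 3 (-57) (.lin 2) (.split 6 62 (.wt
    1) (.split 0 29 (.wt 1) (.split 4 51 (.lin 12) (.wt 3))))))) (.split 2 (-71) (.split 1 37
    (.split 2 (-81) (.lin 2) (.split 3 (-56) (.split 5 (-68) (.lin 4) (.split 6 98 (.split 0 25
    (.wt 2) (.split 4 51 (.lin 12) (.wt 0))) (.lin 9))) (.lin 2))) (.wt 3)) (.lin 9))) (.wt 3)))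
    (.lin 12)) (.split 5 (-67) (.split 4 60 (.lin 12) (.wt 3)) (.lin 4)))))) (.split 2 (-80)
    (.split 2 (-116) (.split 1 77 (.split 0 38 (.split 5 (-104) (.lin 4) (.split 4 52 (.split 3
    (-138) (.split 2 (-143) (.split 2 (-152) (.split 6 160 (.lin 3) (.split 6 169 (.lin 9)
    (.split 1 47 (.split 5 (-77) (.lin 4) (.split 6 348 (.split 2 (-351) (.lin 0) (.split 3
    (-327) (.lin 6) (.split 2 (-324) (.lin 9) (.split 0 29 (.split 4 43 (.splitN 3572708 (.wt 6)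
    (.split 1 38 (.wt 0) (.split 5 (-67) (.wt 1) (.lin 4)))) (.lin 12)) (.split 5 (-58) (.split 4
    51 (.lin 12) (.splitN 735856 (.wt 3) (.split 1 31 (.split 5 (-59) (.lin 4) (.split 6 299
    (.split 2 (-279) (.lin 0) (.split 3 (-273) (.lin 6) (.splitN 1899338 (.split 3 (-149) (.split
    2 (-161) (.split 6 178 (.lin 0) (.splitN 1565163 (.split 3 (-165) (.split 2 (-179) (.split 6
    196 (.lin 0) (.splitN 1200857 (.split 3 (-205) (.split 2 (-215) (.split 6 232 (.lin 0)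
    (.splitN 1102791 (.wt 0) (.wt 1))) (.lin 1)) (.wt 0)) (.wt 1))) (.lin 1)) (.wt 0)) (.wt 1)))
    (.lin 1)) (.wt 0)) (.wt 1)))) (.wt 1))) (.wt 0)))) (.lin 4)))))) (.split 3 (-299) (.split 2
    (-332) (.split 0 29 (.split 5 (-68) (.lin 4) (.split 4 43 (.splitN 459346 (.wt 1) (.splitN
    37266576 (.split 2 (-207023) (.div 2) (.split 6 207053 (.split 1 29 (.wt 0) (.split 5 (-58)
    (.splitN 1039199 (.wt 1) (.split 1 35 (.wt 0) (.split 5 (-67) (.splitN 4647064 (.wt 1)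
    (.split 3 (-380) (.wt 0) (.split 2 (-396) (.lin 1) (.split 6 413 (.wt 0) (.lin 0))))) (.lin
    4)))) (.lin 4))) (.lin 0))) (.wt 3))) (.lin 12))) (.split 5 (-58) (.split 4 51 (.lin 12)
    (.split 1 30 (.split 5 (-59) (.lin 4) (.splitN 789295 (.split 3 (-965) (.split 2 (-971)
    (.split 6 988 (.lin 0) .sq) (.lin 1)) (.wt 0)) (.wt 1))) (.wt 0))) (.lin 4))) (.lin 9)) (.lin
    6)))) (.split 2 (-179) (.split 5 (-76) (.split 0 31 (.split 4 43 (.splitN 10810295 (.wt 1)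
    (.split 1 55 (.split 5 (-77) (.lin 4) (.split 3 (-2426) (.wt 0) (.split 2 (-2457) (.lin 1)
    (.split 6 2474 (.wt 1) (.lin 0))))) (.wt 1))) (.lin 12)) (.wt 0)) (.lin 4)) (.lin 2)))))
    (.lin 2)) (.lin 1)) (.split 2 (-198) (.lin 1) (.split 1 48 (.split 2 (-162) (.lin 2) (.split
    3 (-92) (.split 6 188 (.split 0 29 (.split 4 43 (.wt 6) (.lin 12)) (.split 5 (-58) (.split 4
    51 (.lin 12) (.splitN 1309542 (.wt 3) (.split 1 28 (.split 5 (-59) (.lin 4) (.split 6 160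
    (.split 3 (-129) (.lin 6) (.splitN 2631853 (.split 3 (-111) (.split 2 (-125) (.split 6 142
    (.lin 0) (.splitN 1787938 (.split 3 (-126) (.split 2 (-134) (.split 6 151 (.lin 0) (.wt 0))
    (.lin 1)) (.wt 0)) (.wt 1))) (.lin 1)) (.wt 0)) (.wt 1))) (.wt 1))) (.wt 0)))) (.lin 4)))
    (.lin 3)) (.lin 2))) (.wt 3)))) (.lin 12))) (.split 5 (-67) (.split 4 60 (.lin 12) (.split 0
    49 (.split 1 28 (.split 5 (-68) (.lin 4) (.split 3 (-409) (.split 2 (-422) (.split 6 439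
    (.lin 0) (.wt 0)) (.lin 1)) (.wt 0))) (.wt 0)) (.wt 0))) (.lin 4))) (.wt 3)) (.lin 9)) (.lin
    3)))

def cert5_130_2 : Cert :=
  (.split 3 (-30) (.split 7 (-15) (.split 4 42 (.lin 12) (.split 1 22 (.split 6 96 (.split 2
    (-72) (.lin 9) (.split 3 (-84) (.lin 2) (.split 0 58 (.split 5 (-104) (.lin 1) (.split 4 160
    (.split 5 (-68) (.lin 4) (.split 4 79 (.split 4 70 (.split 1 7 (.wt 2) (.split 2 (-35)
    (.split 3 (-75) (.lin 2) (.split 5 (-40) (.split 6 52 (.lin 9) (.split 0 26 (.wt 2) (.split 5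
    (-49) (.split 4 51 (.lin 8) (.split 6 71 (.split 2 (-54) (.lin 9) (.split 3 (-57) (.lin 2)
    (.split 0 43 (.split 5 (-59) (.lin 4) (.split 4 61 (.split 3 (-52) (.wt 2) (.split 2 (-45)
    (.lin 2) (.split 6 62 (.splitN 501575 (.wt 1) (.split 0 34 (.wt 0) (.split 5 (-58) (.split 4
    60 (.lin 8) (.splitN 682947 (.wt 1) (.split 3 (-44) (.wt 0) (.split 2 (-36) (.lin 1) (.split
    6 53 (.wt 0) (.lin 0)))))) (.lin 4)))) (.lin 9)))) (.lin 8))) (.split 5 (-67) (.split 4 69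
    (.lin 8) (.split 3 (-39) (.split 2 (-44) (.split 6 61 (.lin 0) (.splitN 1708538 (.split 3
    (-49) (.split 2 (-53) (.split 6 70 (.lin 0) (.wt 0)) (.lin 1)) (.wt 0)) (.wt 1))) (.lin 1))
    (.wt 0))) (.lin 4))))) (.split 2 (-62) (.split 3 (-65) (.splitN 317562 (.wt 1) (.split 0 35
    (.wt 0) (.split 5 (-58) (.split 4 60 (.lin 8) (.split 0 47 (.split 5 (-59) (.lin 4) (.split 4
    61 (.splitN 459597 (.wt 1) (.split 3 (-66) (.wt 0) (.split 2 (-63) (.lin 1) (.split 6 80 (.wt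
    0) (.lin 0))))) (.lin 8))) (.split 5 (-67) (.split 4 69 (.lin 8) (.splitN 675049 (.wt 0) (.wt
    1))) (.lin 4)))) (.lin 4)))) (.lin 2)) (.lin 9)))) (.lin 4)))) (.lin 4))) (.lin 2))) (.lin
    12)) (.lin 8))) (.lin 0))) (.split 5 (-67) (.split 4 69 (.lin 8) (.split 4 78 (.lin 12)
    (.split 1 11 (.splitN 225409 (.split 0 6230 (.split 5 (-6278) (.lin 1) (.split 4 6334 (.split
    4 2492 (.split 5 (-2525) (.lin 0) (.split 0 2563 (.split 5 (-1247) (.div 5) (.split 4 1303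
    (.splitN 140242 (.split 5 (-779) (.div 5) (.split 4 835 (.split 0 817 (.split 4 790 (.split 0
    76 (.wt 2) (.split 5 (-85) (.split 0 81 (.wt 2) (.split 5 (-94) (.split 4 105 (.lin 8)
    (.split 3 (-64) (.wt 2) (.split 2 (-45) (.lin 2) (.split 6 62 (.splitN 128249 (.split 5
    (-707) (.div 5) (.split 4 736 (.split 0 718 (.splitN 102412 (.wt 1) (.splitN 123799 (.split 0
    171 (.wt 0) (.split 5 (-184) (.split 4 195 (.lin 8) (.splitN 108422 .sq (.split 0 254 (.wt 0)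
    (.split 5 (-247) (.split 4 240 (.lin 0) .sq) (.lin 1))))) (.lin 4))) (.wt 5))) (.lin 1))
    (.lin 0))) (.wt 0)) (.lin 9))))) (.lin 4))) (.lin 4))) (.lin 8)) (.lin 1)) (.lin 0))) (.wt
    3)) (.lin 0))) (.lin 1))) (.div 4)) (.lin 0))) (.div 0)) (.wt 0)) (.split 2 (-35) (.split 3
    (-75) (.lin 2) (.split 6 52 (.lin 9) (.split 0 141 (.split 5 (-185) (.lin 1) (.split 3 (-44)
    (.split 2 (-44) (.split 6 61 (.lin 9) (.split 0 89 (.split 5 (-104) (.lin 4) (.split 0 87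
    (.split 5 (-95) (.lin 4) (.split 4 97 (.split 3 (-54) (.split 2 (-53) (.split 6 70 (.lin 9)
    (.splitN 2012779 (.split 0 65 (.split 5 (-77) (.lin 4) (.split 4 79 (.splitN 1216672 (.wt 0)
    (.wt 1)) (.lin 8))) (.wt 0)) (.wt 1))) (.lin 2)) (.wt 0)) (.lin 8))) (.wt 0))) (.wt 0)))
    (.lin 2)) (.wt 0))) (.wt 0)))) (.lin 2))))) (.lin 4))))) (.split 2 (-80) (.split 3 (-83)
    cert5_130_0 (.lin 2)) (.lin 9))) (.split 2 (-44) (.split 5 (-49) (.split 6 61 (.lin 9)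
    (.split 0 166 (.split 1 166 (.split 5 (-320) (.lin 4) (.split 0 63 (.split 4 79 cert5_130_1
    (.lin 12)) (.split 4 87 (.lin 12) (.wt 3)))) (.wt 3)) (.wt 3))) (.lin 4)) (.lin 2)))) (.wt
    1)) (.split 5 (-40) (.split 1 15 (.lin 11) (.split 0 84 (.split 4 97 (.split 1 54 (.split 2
    (-72) (.lin 2) (.split 5 (-176) (.lin 0) (.split 0 76 (.split 5 (-122) (.lin 4) (.split 7
    (-15) (.split 4 42 (.lin 12) (.split 0 58 (.split 1 36 (.split 2 (-45) (.lin 2) (.split 1 27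
    (.split 2 (-36) (.lin 2) (.split 5 (-77) (.lin 4) (.split 6 53 (.split 0 51 (.split 4 61
    (.split 0 34 (.split 3 (-25) (.splitN 531820 (.wt 1) (.split 1 24 (.split 2 (-27) (.lin 2)
    (.split 6 44 (.wt 0) (.lin 9))) (.wt 1))) (.split 1 24 (.lin 2) (.wt 0))) (.split 5 (-58)
    (.split 4 60 (.lin 12) (.split 1 16 (.split 2 (-27) (.lin 2) (.split 5 (-59) (.lin 0) (.split
    3 (-29) (.split 6 44 (.splitN 14831769 (.wt 1) (.wt 0)) (.lin 0)) (.lin 6)))) (.wt 0))) (.lin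
    1))) (.lin 12)) (.wt 2)) (.lin 9)))) (.wt 3))) (.wt 0)) (.wt 0))) (.wt 0))) (.wt 0)))) (.wt
    0)) (.lin 12)) (.wt 0))) (.lin 7)))

def cert5_130 : Cert :=
  (.split 0 22 (.split 4 34 (.split 6 17 (.wt 6) (.split 3 (-30) (.split 2 (-26) (.splitN 50649
    (.wt 1) (.split 0 7 (.wt 2) (.split 7 (-11) (.split 4 33 (.lin 12) (.split 1 11 (.wt 0)
    (.split 2 (-35) (.split 5 (-31) (.splitN 172386 (.wt 1) (.split 1 21 (.wt 0) (.split 5 (-40)
    (.splitN 314790 (.wt 1) (.split 1 28 (.wt 0) (.split 5 (-49) (.splitN 544034 (.wt 1) (.split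
    1 35 (.wt 0) (.split 5 (-58) (.splitN 984246 (.wt 1) (.split 3 (-88) (.wt 0) (.split 1 85
    (.split 2 (-144) (.lin 2) (.split 6 161 (.wt 0) (.lin 3))) (.wt 1)))) (.lin 4)))) (.lin 4))))
    (.lin 4)))) (.lin 4)) (.lin 2)))) (.wt 1)))) (.lin 2)) (.split 0 11 (.split 1 8 (.wt 2)
    (.split 5 (-22) (.split 7 (-14) (.wt 2) (.wt 1)) (.lin 4))) (.split 5 (-22) (.split 4 24
    (.lin 12) (.split 7 (-15) (.split 4 33 (.lin 12) (.split 6 60 (.split 2 (-36) (.lin 3)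
    (.split 1 43 (.split 3 (-20) (.wt 2) (.split 5 (-31) (.split 1 15 (.lin 2) (.splitN 528079
    (.wt 3) (.split 1 22 (.split 2 (-9) (.lin 2) (.split 6 26 (.wt 0) (.lin 0))) (.wt 0)))) (.lin
    1))) (.lin 11))) (.split 2 (-44) (.split 1 33 (.lin 11) (.split 5 (-49) (.split 3 (-18)
    (.split 6 78 (.wt 1) (.split 2 (-62) (.split 1 51 (.lin 11) (.split 5 (-67) (.split 1 264
    (.split 2 (-270) (.lin 2) (.split 5 (-284) (.lin 1) (.split 1 224 (.split 2 (-234) (.lin 2)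
    (.split 6 251 (.split 3 (-22) (.wt 1) (.wt 0)) (.lin 3))) (.wt 0)))) (.wt 0)) (.lin 1)))
    (.lin 3))) (.wt 0)) (.lin 1))) (.lin 3)))) (.wt 3))) (.lin 4))))) (.lin 12)) (.split 5 (-31)
    (.split 4 33 (.lin 12) (.split 6 42 (.split 2 (-27) (.lin 9) (.split 3 (-30) (.lin 11)
    (.split 7 (-11) (.split 2 (-18) (.lin 9) (.split 6 25 (.lin 9) (.split 3 (-20) (.split 1 16
    (.split 0 26 (.wt 2) (.split 5 (-40) (.split 4 51 (.lin 12) (.splitN 105548 (.wt 1) (.split 1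
    11 (.splitN 451819 (.split 5 (-2507) (.div 5) (.split 0 2509 (.split 0 54 (.wt 0) (.split 5
    (-58) (.split 5 (-67) (.split 4 78 (.lin 8) (.splitN 126029 (.wt 1) (.split 0 73 (.wt 0)
    (.split 5 (-85) (.split 4 96 (.lin 8) (.splitN 134250 (.wt 1) (.split 3 (-26) (.wt 0) (.split
    2 (-9) (.lin 2) (.split 6 26 (.wt 0) (.lin 9)))))) (.lin 4))))) (.lin 4)) (.lin 1))) (.lin
    1))) (.wt 0)) (.split 2 (-17) (.split 3 (-21) (.lin 2) (.split 6 34 (.lin 9) (.wt 3))) (.lin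
    2))))) (.lin 4))) (.lin 2)) (.split 1 15 (.lin 2) (.wt 0))))) (.wt 1)))) (.split 2 (-26)
    cert5_130_2 (.lin 9)))) (.lin 4)))

theorem check5_130 :
    check task5 cert5_130
      [(7, ⟨some (7), none⟩), (7, ⟨some (7), none⟩), (1, ⟨none, some (-8)⟩), (7, ⟨none, some (-11)⟩), (7, ⟨some (16), none⟩), (5, ⟨none, some (-13)⟩), (8, ⟨some (17), none⟩), (8, ⟨some (-19), some (-10)⟩)] ⟨some (20160), none⟩ = true := by
  decide +kernel

def cert5_131 : Cert :=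
  (.wt 2)

theorem check5_131 :
    check task5 cert5_131
      [(7, ⟨some (7), none⟩), (7, ⟨some (7), none⟩), (1, ⟨none, some (-8)⟩), (7, ⟨some (-2), some (-2)⟩), (7, ⟨some (16), none⟩), (5, ⟨none, some (-13)⟩), (8, ⟨some (17), none⟩), (8, ⟨none, some (-10)⟩)] ⟨some (13680), none⟩ = true := by
  decide +kernel

def cert5_132_0 : Cert :=
  (.split 7 (-64) (.split 2 9 (.lin 9) (.split 4 105 (.lin 12) (.splitN 252126 (.split 0 6950
    (.split 5 (-6980) (.lin 4) (.split 2 1390 (.split 4 8413 (.split 4 2780 (.split 5 (-2777)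
    (.lin 0) (.splitN 134194 (.split 5 (-743) (.div 5) (.split 0 736 (.split 0 338 (.split 5
    (-365) (.lin 4) (.splitN 124784 (.split 2 321 (.split 4 338 (.split 2 289 (.split 0 295
    (.split 2 262 (.split 0 268 (.split 5 (-302) (.lin 4) (.splitN 116485 (.split 1 15 (.wt 2)
    (.split 5 (-58) (.split 6 34 (.lin 11) (.split 4 320 (.split 0 250 (.split 5 (-284) (.lin 4)
    (.split 3 (-29) (.split 1 25 (.split 6 43 (.lin 11) (.splitN 74535 (.split 0 55 (.wt 2)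
    (.split 5 (-76) (.split 4 235 (.split 2 136 (.split 0 169 (.split 7 (-118) (.split 2 63 (.lin
    9) (.split 4 177 (.lin 12) (.splitN 62234 .sq (.wt 0)))) (.split 2 64 (.split 1 20 (.splitN
    55543 (.split 0 108 (.wt 2) (.split 5 (-130) (.split 4 177 (.lin 8) .sq) (.lin 4))) (.wt 0))
    (.split 6 52 (.lin 11) .cand)) (.lin 2))) (.lin 12)) (.lin 0)) .sq) (.lin 4))) (.wt 3)))
    (.lin 11)) (.splitN 88439 (.split 4 277 (.split 2 199 (.split 0 214 (.split 7 (-254) (.lin 2)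
    (.split 5 (-248) (.lin 4) (.split 0 95 (.split 5 (-122) (.lin 4) (.split 6 44 (.split 2 18
    (.lin 9) (.split 1 25 (.split 7 (-118) (.split 2 72 (.lin 9) (.split 4 159 (.lin 12) (.splitN
    51947 .sq (.splitN 57862 (.split 0 48 (.wt 0) (.split 5 (-67) (.split 4 168 (.lin 12) .sq)
    (.lin 4))) (.wt 3))))) (.split 2 118 (.split 2 73 (.split 4 196 (.splitN 42979 (.wt 1)
    (.split 0 65 (.split 4 178 (.split 5 (-86) (.lin 4) (.splitN 70298 (.split 1 20 (.split 2 27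
    (.lin 2) (.split 6 35 (.splitN 47411 (.wt 1) (.wt 0)) (.lin 11))) (.split 6 43 (.lin 11)
    .cand)) (.wt 3))) (.lin 3)) (.split 4 123 (.lin 3) (.split 5 (-85) (.split 1 20 (.split 2 27
    (.lin 2) (.split 6 35 (.splitN 52303 (.wt 1) (.wt 0)) (.lin 11))) (.split 6 43 (.lin 11) (.wt
    2))) (.lin 4))))) (.lin 12)) (.lin 9)) (.lin 1))) (.lin 11))) (.split 1 33 (.lin 11) (.wt
    2)))) (.split 5 (-112) (.split 4 159 (.lin 12) (.split 7 (-182) (.lin 12) (.splitN 53630 .sq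
    (.split 6 47 (.split 1 25 (.split 7 (-159) (.wt 1) (.split 6 42 (.split 2 27 (.lin 9) (.split
    1 16 (.splitN 61818 (.split 0 107 (.wt 0) (.split 4 177 (.lin 3) (.split 5 (-130) .sq (.lin
    4)))) (.wt 0)) (.lin 11))) (.wt 6))) (.lin 11)) (.wt 2))))) (.lin 4))))) (.lin 12)) (.lin
    10)) .sq) (.wt 1)))) (.lin 12)) .sq)) (.lin 4))) (.wt 3))) (.lin 12)) (.lin 10)) (.lin 3))
    (.lin 0)) .sq) .sq) (.wt 3))) .sq) (.lin 4))) (.wt 3))) (.div 4)) (.lin 0)) (.div 2))) (.div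
    0)) (.wt 1)))) (.split 2 28 (.split 1 15 (.splitN 76354 (.split 5 (-419) (.div 5) (.split 4
    493 (.split 0 466 (.split 0 412 (.split 4 466 (.splitN 68667 (.split 5 (-365) (.div 5)
    (.split 4 439 (.splitN 59857 (.split 5 (-329) (.div 5) (.split 0 322 (.split 4 376 (.split 3
    (-38) (.wt 2) (.split 6 35 (.splitN 50649 (.split 5 (-275) (.div 5) (.split 0 268 (.splitN
    35998 (.split 5 (-185) (.div 5) (.split 0 178 (.splitN 31860 (.split 5 (-167) (.div 5)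
    (.split 4 223 (.splitN 23885 (.wt 6) (.split 2 2 (.split 4 196 (.split 0 113 (.wt 0) (.split
    5 (-112) (.split 4 132 (.lin 0) .sq) (.lin 1))) (.lin 0)) (.wt 1))) (.lin 0))) (.wt 4)) (.lin
    4))) (.wt 4)) (.lin 4))) (.wt 0)) (.lin 11))) (.lin 8)) (.lin 4))) (.wt 3)) (.lin 0))) (.wt
    0)) (.lin 8)) (.lin 4)) (.lin 1)) (.lin 0))) (.wt 0)) (.split 2 19 (.split 3 (-39) (.lin 2)
    (.split 7 (-37) (.split 5 (-58) (.split 4 78 (.lin 5) (.split 6 34 (.lin 11) (.splitN 241415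
    (.split 0 6680 (.split 5 (-6710) (.lin 1) (.split 4 6766 (.split 4 2672 (.split 5 (-1337)
    (.div 5) (.split 0 1357 (.split 0 477 (.split 5 (-509) (.lin 1) (.split 4 565 (.splitN 223088
    (.split 4 461 (.split 5 (-455) (.lin 0) (.split 2 4 (.splitN 39346 (.split 5 (-203) (.div 5)
    (.split 0 153 (.split 5 (-185) (.lin 1) (.split 4 167 (.split 0 124 (.split 5 (-140) (.lin
    10) (.split 3 (-29) (.split 7 (-46) (.split 4 87 (.lin 5) (.split 6 43 (.lin 9) (.splitN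
    31661 (.split 4 139 (.split 0 65 (.split 5 (-86) (.lin 1) (.split 4 115 (.split 1 20 (.splitN
    29872 (.split 3 (-38) (.wt 6) (.split 7 (-47) (.lin 2) (.split 6 44 (.wt 1) (.lin 9)))) (.wt
    0)) (.split 7 (-55) (.split 6 52 (.lin 9) (.splitN 29515 (.wt 0) (.wt 1))) (.lin 2))) (.lin
    3))) (.split 4 114 (.lin 3) (.split 5 (-85) .sq (.lin 4)))) .sq) (.wt 1)))) (.lin 2)) (.split
    0 56 (.split 5 (-86) (.lin 1) (.splitN 32171 (.split 1 24 (.split 7 (-38) (.lin 2) (.wt 0))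
    (.wt 0)) (.wt 6))) (.wt 2)))) (.lin 3)) .sq)) .sq)) (.wt 1)) (.split 1 25 (.split 3 (-30)
    (.lin 2) (.split 7 (-46) (.split 4 87 (.lin 3) (.split 6 44 (.split 5 (-428) (.lin 10)
    (.splitN 114847 (.splitN 46510 (.wt 1) (.split 0 314 (.split 5 (-338) (.lin 1) (.split 4 323
    (.split 5 (-302) (.lin 0) (.split 0 109 (.split 5 (-131) (.lin 1) (.split 4 178 (.split 4 169
    (.split 3 (-25) (.split 1 16 (.split 2 10 (.split 7 (-55) (.wt 0) (.lin 2)) (.lin 2)) (.lin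
    2)) (.split 0 74 (.split 5 (-95) (.lin 1) (.split 4 142 (.split 1 20 (.split 6 35 (.wt 2)
    (.lin 11)) (.split 2 10 (.split 7 (-55) (.split 4 96 (.lin 5) (.split 6 43 (.lin 9) (.splitN
    62714 (.wt 0) (.wt 1)))) (.lin 2)) (.lin 2))) (.lin 0))) (.split 5 (-85) (.split 4 105 (.lin
    0) (.split 4 123 (.lin 3) (.split 5 (-94) (.split 1 22 (.split 5 (-122) (.lin 4) (.split 6 35
    (.splitN 56217 (.wt 1) (.split 7 (-54) (.wt 0) (.split 2 10 (.split 4 151 (.splitN 61653 (.wt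
    1) (.split 0 88 (.wt 0) (.split 5 (-112) (.split 4 141 (.lin 0) (.split 0 98 (.split 5 (-113)
    (.lin 1) (.split 4 142 (.wt 2) (.lin 0))) (.wt 2))) (.lin 1)))) (.lin 0)) (.lin 2)))) (.lin
    11))) (.wt 2)) (.lin 4)))) (.lin 1)))) (.lin 3)) (.lin 0))) (.split 4 159 (.lin 3) (.split 5
    (-130) (.splitN 59822 .sq (.splitN 95424 (.split 4 245 (.split 5 (-221) (.lin 0) (.split 3
    (-25) (.split 1 16 (.split 7 (-55) (.wt 0) (.lin 2)) (.lin 2)) (.splitN 74701 (.split 1 21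
    (.split 6 35 (.split 0 154 (.split 5 (-176) (.lin 1) (.split 4 214 (.split 5 (-167) (.lin 4)
    (.splitN 68725 (.split 7 (-55) (.wt 1) (.wt 0)) (.wt 1))) (.lin 0))) (.wt 2)) (.lin 11)) (.wt
    0)) (.wt 6)))) .sq) (.wt 1))) (.lin 4))))) .sq)) .sq)) (.wt 1))) (.lin 9))) (.lin 2))) (.lin
    2)))) .sq) (.wt 1)) (.lin 0))) .sq) (.lin 1))) (.div 4)) (.lin 0))) (.div 0)) (.wt 1))))
    (.lin 4)) (.lin 2))) (.lin 2))) (.lin 2)))

def cert5_132_1 : Cert :=
  (.split 0 33 (.split 5 (-77) (.lin 4) (.split 3 (-108) (.wt 2) (.split 4 187 (.split 6 152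
    (.split 3 (-63) (.wt 2) (.split 4 142 (.split 6 107 (.split 3 (-48) (.wt 2) (.split 6 98
    (.split 3 (-44) (.wt 2) (.split 7 (-101) (.lin 2) (.split 4 124 (.split 6 89 (.split 2 3
    (.split 7 (-92) (.lin 2) (.split 3 (-29) (.splitN 24082 (.wt 1) (.splitN 29133 (.split 0 17
    (.wt 0) (.split 1 26 (.wt 3) (.split 5 (-58) (.split 3 (-38) (.wt 2) (.split 4 106 (.split 6
    80 (.split 7 (-66) (.split 5 (-67) (.split 1 42 (.lin 2) (.split 4 96 (.lin 5) (.split 6 70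
    (.lin 3) .sq))) (.lin 1)) (.wt 1)) (.lin 3)) (.lin 5))) (.lin 4)))) (.wt 3))) (.split 5 (-58)
    (.split 1 42 (.lin 2) (.split 7 (-74) (.lin 2) (.split 6 71 (.splitN 24071 (.wt 0) (.splitN
    29498 (.split 0 19 (.split 4 88 (.wt 0) (.lin 3)) (.wt 0)) (.wt 1))) (.lin 9)))) (.lin 1))))
    (.split 4 87 (.lin 3) (.split 7 (-73) (.split 0 18 (.wt 2) (.split 5 (-49) (.splitN 43072
    (.wt 1) (.split 3 (-33) (.wt 0) (.split 1 33 (.lin 2) (.split 7 (-92) (.lin 1) (.split 4 115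
    (.split 6 80 (.splitN 47345 (.wt 1) (.split 3 (-28) (.wt 0) (.split 5 (-67) (.split 1 42
    (.lin 2) (.split 7 (-83) (.lin 1) (.split 6 67 (.split 4 97 (.split 1 43 (.split 5 (-68)
    (.lin 0) (.split 7 (-74) (.lin 1) (.splitN 54527 (.wt 0) (.wt 0)))) (.lin 11)) (.lin 3)) (.wt
    2)))) (.lin 1)))) (.lin 3)) (.lin 5)))))) (.lin 1))) (.lin 9)))) (.lin 11)) (.lin 5)))) (.lin
    11))) (.lin 11)) (.lin 5))) (.lin 11)) (.lin 5)))) (.split 4 96 (.lin 3) (.split 5 (-58)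
    (.splitN 86911 (.split 4 267 (.split 6 224 (.split 3 (-201) (.lin 5) (.split 7 (-263) (.lin
    2) (.split 2 3 (.splitN 31658 (.split 3 (-24) (.split 4 126 (.split 3 (-66) (.lin 5) (.split
    5 (-95) (.lin 10) (.split 3 (-47) (.split 7 (-73) (.split 4 105 (.lin 5) (.split 6 70 (.lin
    9) (.split 5 (-77) (.lin 10) (.splitN 28961 .sq (.wt 1))))) (.lin 2)) (.splitN 28971 (.split
    4 112 (.split 6 71 (.split 7 (-74) (.lin 9) (.split 1 41 (.split 3 (-34) .cand (.split 7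
    (-65) (.lin 2) (.wt 0))) (.wt 0))) (.lin 3)) .sq) (.wt 1))))) .sq) (.wt 2)) (.wt 1)) (.split
    4 105 (.lin 3) (.split 7 (-73) (.split 3 (-64) (.split 7 (-100) (.split 4 132 (.lin 5)
    (.split 6 88 (.lin 9) (.splitN 45080 .sq (.splitN 54324 (.split 0 34 (.wt 0) (.split 4 141
    (.lin 3) (.split 6 206 (.split 5 (-67) (.splitN 49373 .sq (.split 0 46 (.wt 0) (.split 4 150
    (.lin 3) (.split 5 (-76) .sq (.lin 4))))) (.lin 4)) (.lin 3)))) (.wt 3))))) (.lin 2)) (.split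
    7 (-119) (.lin 2) (.split 4 187 (.split 6 107 (.splitN 70702 (.split 3 (-38) (.split 0 52
    (.split 4 169 (.split 5 (-104) (.lin 4) (.splitN 62191 (.split 6 62 (.wt 2) (.split 7 (-82)
    (.split 0 43 (.split 4 160 (.split 5 (-95) (.lin 4) (.split 1 25 (.wt 2) (.split 5 (-67)
    (.split 3 (-48) (.wt 2) (.split 7 (-110) (.lin 2) (.split 6 98 (.splitN 46253 (.wt 1) (.split
    0 36 (.wt 2) (.split 5 (-76) (.split 3 (-44) (.wt 2) (.split 7 (-101) (.lin 1) (.split 4 142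
    (.split 6 89 (.split 1 34 (.wt 0) (.split 7 (-91) (.split 5 (-85) (.splitN 50083 (.wt 1) (.wt
    3)) (.lin 1)) (.lin 2))) (.lin 3)) (.lin 5)))) (.lin 4)))) (.lin 9)))) (.lin 4)))) (.lin 3))
    .cand) (.lin 9))) (.wt 3))) (.lin 3)) (.split 5 (-85) (.split 6 84 (.split 4 160 (.split 1 43
    (.split 5 (-113) (.lin 4) (.split 7 (-92) (.lin 9) (.split 3 (-55) (.wt 2) (.split 1 34
    (.split 6 71 (.split 3 (-44) (.wt 2) .cand) (.split 1 33 (.lin 11) (.split 4 150 (.lin 3)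
    (.split 5 (-94) (.split 7 (-91) (.split 3 (-47) (.splitN 53504 .sq (.wt 0)) (.lin 2)) (.lin
    9)) (.lin 0))))) (.split 3 (-39) (.lin 2) (.split 7 (-91) (.split 5 (-103) (.split 4 150
    (.lin 5) (.split 6 79 (.lin 9) (.splitN 55205 .sq (.wt 1)))) (.lin 1)) (.lin 2))))))) (.lin
    11)) (.lin 3)) (.split 4 159 (.lin 3) (.split 1 33 (.lin 11) (.split 5 (-94) (.split 7 (-100)
    (.splitN 58778 .sq (.wt 1)) (.lin 9)) (.lin 4))))) (.lin 4))) (.split 1 33 (.lin 2) (.split 7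
    (-92) (.lin 2) (.split 0 54 (.split 5 (-113) (.lin 1) (.split 3 (-22) .cand (.wt 2))) (.wt
    2))))) (.wt 1)) (.lin 9)) (.lin 5)))) (.lin 9)))))) (.lin 3)) .sq) (.wt 1)) (.lin 4))))

def cert5_132_2 : Cert :=
  (.split 1 19 (.split 5 (-86) (.lin 4) (.split 3 (-47) (.splitN 51430 (.split 0 21 (.wt 2)
    (.split 4 87 (.lin 3) (.split 5 (-31) (.split 3 (-179) .sq (.split 6 233 (.split 6 188
    (.split 0 26 (.wt 2) (.split 4 96 (.lin 3) (.split 5 (-40) (.splitN 22364 .sq (.split 1 7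
    (.wt 4) (.split 5 (-49) (.split 4 188 (.split 6 152 (.split 2 9 (.splitN 25906 (.split 7
    (-110) (.wt 3) (.split 6 107 (.split 0 38 (.wt 2) (.split 4 105 (.lin 3) .sq)) (.lin 9)))
    (.wt 3)) (.split 6 143 (.split 7 (-73) (.splitN 37272 (.wt 6) (.split 0 42 (.wt 0) (.split 6
    134 (.split 5 (-58) (.splitN 40903 (.wt 6) (.split 0 57 (.wt 0) (.split 6 116 (.split 5 (-76)
    (.wt 2) (.lin 4)) (.lin 3)))) (.lin 4)) (.lin 3)))) (.lin 2)) (.lin 0))) (.lin 0)) .sq) (.lin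
    4)))) (.lin 4)))) (.lin 11)) (.lin 7))) (.lin 4)))) (.wt 3)) (.lin 11))) (.split 5 (-40)
    (.split 2 17 (.splitN 128922 (.split 4 340 (.split 6 323 cert5_132_1 (.lin 3)) .sq) (.wt 1))
    (.split 4 96 (.lin 3) (.split 7 (-82) (.splitN 117800 (.split 4 321 (.split 7 (-326) (.lin 8)
    (.split 0 33 (.split 5 (-77) (.lin 4) (.split 3 (-40) (.wt 2) (.split 6 98 (.split 6 89
    (.splitN 68445 (.split 0 18 (.wt 2) (.split 5 (-49) (.splitN 39960 (.wt 1) (.split 3 (-26)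
    (.wt 2) .cand)) (.lin 4))) (.wt 3)) (.lin 11)) (.lin 7)))) (.split 4 114 (.lin 3) (.split 5
    (-58) (.split 3 (-237) (.lin 5) (.splitN 90806 (.split 4 267 (.split 6 233 (.split 6 206
    (.split 3 (-61) (.split 7 (-109) (.split 4 141 (.lin 5) (.split 6 88 (.lin 11) (.splitN 49697
    .sq (.splitN 57779 (.split 0 42 (.wt 0) (.split 4 150 (.lin 3) (.split 5 (-67) (.splitN 54152
    .sq (.split 0 48 (.wt 0) (.split 4 159 (.lin 3) (.split 5 (-76) .sq (.lin 4))))) (.lin 4))))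
    (.wt 3))))) (.lin 2)) (.split 6 107 (.splitN 79326 (.split 4 249 (.split 2 145 (.split 7
    (-209) (.lin 12) (.split 3 (-38) (.splitN 70924 (.split 0 52 (.split 5 (-104) (.lin 4)
    (.split 6 65 (.wt 2) (.split 7 (-91) (.splitN 62974 (.split 0 34 (.wt 2) (.split 5 (-67)
    (.split 4 200 (.split 2 82 (.splitN 62270 (.split 3 (-56) (.wt 2) (.split 6 98 (.split 1 38
    (.split 6 80 (.wt 2) (.lin 11)) (.split 7 (-100) (.split 5 (-85) (.split 6 79 (.lin 11)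
    (.split 4 172 (.split 2 46 (.splitN 58365 (.split 4 163 (.split 3 (-43) (.split 7 (-109)
    (.split 4 150 (.lin 5) (.split 6 88 (.lin 11) .sq)) (.lin 2)) (.split 6 89 (.split 0 43 (.wt
    2) (.split 4 150 (.lin 3) (.split 5 (-94) (.split 7 (-110) (.lin 12) (.splitN 54395 .sq
    (.split 1 50 (.wt 1) (.split 2 19 (.split 7 (-109) (.split 5 (-103) (.split 4 159 (.lin 5)
    (.split 6 88 (.lin 0) .sq)) (.lin 1)) (.lin 2)) (.lin 2))))) (.lin 4)))) (.lin 11))) .sq)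
    (.wt 3)) (.lin 10)) .sq)) (.lin 4)) (.lin 2))) (.lin 11))) (.wt 3)) (.lin 3)) .sq) (.lin 4)))
    (.wt 3)) (.lin 9)))) (.split 4 141 (.lin 3) (.split 5 (-85) (.split 4 211 (.split 6 84
    (.split 1 43 (.splitN 64396 (.split 4 195 (.split 7 (-128) (.lin 12) (.split 1 34 (.split 5
    (-104) (.lin 4) (.split 3 (-46) (.wt 2) (.split 6 71 (.split 1 27 (.wt 2) (.split 2 55
    (.split 7 (-91) (.split 5 (-94) (.split 4 150 (.lin 5) (.split 6 70 (.lin 11) (.splitN 51641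
    .sq (.split 7 (-107) (.wt 0) (.split 2 28 (.split 4 169 (.splitN 54905 (.split 2 24 (.split 7
    (-92) (.lin 2) (.wt 1)) (.wt 1)) (.wt 0)) (.lin 0)) (.lin 9)))))) (.lin 4)) (.lin 2)) (.lin
    2))) (.lin 11)))) (.split 7 (-100) (.split 5 (-103) (.split 4 159 (.lin 5) (.split 6 79 (.lin
    11) (.splitN 59984 .sq (.wt 0)))) (.lin 4)) (.lin 2)))) .sq) (.wt 3)) (.lin 11)) (.split 1 33
    (.lin 11) (.split 4 168 (.lin 3) (.split 5 (-94) (.split 7 (-109) (.splitN 63881 .sq (.wt 1))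
    (.lin 9)) (.lin 4))))) .sq) (.lin 4)))) (.wt 3)) (.split 3 (-25) .cand (.split 1 42 (.lin 11)
    (.wt 2))))) (.lin 3)) .sq) (.wt 1)) (.lin 11))) (.lin 3)) (.lin 0)) .sq) (.wt 1))) (.lin
    4))))) .sq) (.wt 3)) (.lin 9)))) (.lin 4)))

def cert5_132_3 : Cert :=
  (.split 2 16 (.splitN 114724 (.split 1 291 (.split 4 301 (.split 6 278 (.split 3 (-219) (.lin
    5) (.split 7 (-290) (.lin 9) (.split 5 (-275) (.lin 10) (.split 0 31 (.splitN 81226 (.split 1
    222 (.split 4 234 (.split 6 215 (.split 1 196 (.split 5 (-221) (.lin 4) (.split 3 (-60) (.wt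
    4) (.split 2 3 (.wt 1) (.split 7 (-91) (.split 5 (-203) (.lin 10) (.splitN 73277 (.split 4
    216 (.split 6 188 (.split 5 (-185) (.lin 10) (.split 3 (-37) (.wt 2) (.split 0 20 (.splitN
    55084 (.wt 6) (.wt 0)) (.split 5 (-85) (.splitN 63170 (.split 4 188 (.split 6 152 (.split 1
    133 (.split 7 (-164) (.lin 9) (.split 3 (-25) (.split 7 (-100) (.splitN 55152 (.split 6 117
    (.wt 2) (.split 1 96 (.lin 11) (.split 7 (-136) (.split 5 (-121) .sq (.lin 1)) (.lin 2))))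
    (.wt 3)) (.lin 1)) (.wt 2))) (.lin 11)) (.lin 3)) .sq) (.wt 1)) (.lin 4))))) (.lin 3)) .sq)
    (.wt 3))) (.lin 2))))) (.lin 11)) (.lin 3)) .sq) .sq) (.wt 3)) (.split 5 (-94) (.split 3
    (-24) (.split 7 (-91) (.split 4 123 (.lin 5) (.split 6 88 (.lin 11) (.splitN 46133 .sq
    (.split 2 1 (.wt 1) (.split 7 (-100) (.split 4 132 (.lin 3) (.splitN 50264 .sq (.splitN 70294
    (.split 1 149 (.split 4 190 (.split 3 (-84) (.lin 5) (.split 5 (-149) (.lin 10) (.splitN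
    63298 (.split 4 172 (.split 3 (-66) (.lin 5) (.split 5 (-131) (.lin 10) (.splitN 60823
    (.split 4 162 (.split 5 (-122) (.lin 10) (.split 3 (-43) (.split 7 (-118) (.split 4 150 (.lin
    5) (.split 6 106 (.lin 9) .sq)) (.lin 2)) (.splitN 56120 (.split 4 152 (.split 6 107 (.split
    1 79 (.split 7 (-119) (.lin 9) (.split 5 (-113) (.lin 10) (.splitN 55480 (.split 3 (-30)
    (.split 7 (-109) (.split 4 141 (.lin 5) (.split 6 97 (.lin 9) .sq)) (.lin 2)) (.wt 6)) (.wt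
    1)))) (.lin 11)) (.lin 3)) .sq) (.wt 1)))) .sq) (.wt 1)))) .sq) (.wt 1)))) .sq) .sq) (.wt
    1)))) (.lin 2)))))) (.lin 2)) (.wt 2)) (.lin 4)))))) (.lin 3)) .sq) .sq) (.wt 1)) (.split 3
    (-273) (.lin 2) (.split 7 (-100) (.split 4 114 (.lin 3) (.split 5 (-329) (.lin 10) (.splitN
    131308 (.split 4 321 (.split 2 217 (.split 6 278 (.split 5 (-275) (.lin 10) (.split 7 (-299)
    (.lin 12) (.split 0 31 (.splitN 83760 (.split 4 234 (.split 2 136 (.split 6 197 (.split 1 178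
    (.split 5 (-203) (.lin 4) (.splitN 78439 (.split 3 (-36) (.wt 2) (.split 4 219 (.split 2 118
    (.split 6 179 (.split 1 160 (.split 5 (-185) (.lin 4) (.split 0 20 (.wt 2) (.split 4 123
    (.lin 3) (.split 5 (-85) (.splitN 69945 (.split 4 200 (.split 6 152 (.split 1 133 (.split 5
    (-158) (.lin 4) (.split 7 (-173) (.lin 12) (.split 3 (-25) (.split 1 124 (.split 7 (-109)
    (.split 4 132 (.lin 5) (.split 6 88 (.lin 7) (.splitN 50264 .sq (.splitN 58763 (.split 6 89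
    (.wt 0) (.split 1 69 (.lin 11) (.split 7 (-118) (.split 4 141 (.lin 3) (.split 5 (-94) .sq
    (.lin 4))) (.lin 2)))) (.wt 3))))) (.lin 1)) (.lin 2)) (.splitN 53206 (.split 1 78 (.split 5
    (-95) (.lin 4) (.wt 2)) (.wt 0)) (.wt 6))))) (.lin 11)) (.lin 3)) .sq) (.wt 1)) (.lin 4)))))
    (.lin 11)) (.lin 3)) (.lin 3)) .sq)) (.wt 3))) (.lin 11)) (.lin 3)) (.lin 3)) .sq) (.wt 3))
    (.split 5 (-94) (.split 3 (-201) (.lin 5) (.split 3 (-23) (.split 7 (-109) (.split 4 141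
    (.lin 5) (.split 6 88 (.lin 11) (.splitN 54881 .sq (.splitN 80471 (.split 4 209 (.split 2 82
    (.split 6 152 (.split 1 124 (.split 3 (-93) (.lin 5) (.split 5 (-158) (.lin 10) (.splitN
    71605 (.split 4 184 (.split 2 55 (.split 6 125 (.split 1 97 (.split 5 (-131) (.lin 10)
    (.split 3 (-47) (.split 7 (-127) (.split 4 159 (.lin 5) (.split 6 106 (.lin 11) .sq)) (.lin
    2)) (.splitN 61805 (.split 4 155 (.split 2 28 (.split 6 98 (.split 1 70 (.split 5 (-113)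
    (.lin 0) (.split 5 (-104) (.lin 10) (.split 7 (-119) (.lin 12) (.splitN 58195 (.split 3 (-30)
    (.split 0 34 (.split 2 19 (.split 5 (-95) (.lin 1) (.split 7 (-118) (.split 4 150 (.lin 5)
    (.split 6 97 (.lin 0) .sq)) (.lin 1))) (.lin 10)) (.lin 5)) (.wt 1)) (.wt 1))))) (.lin 11))
    (.lin 3)) (.lin 3)) .sq) (.wt 1)))) (.lin 11)) (.lin 3)) (.lin 3)) .sq) (.wt 1)))) (.lin 11))
    (.lin 3)) (.lin 3)) .sq) (.wt 1))))) (.lin 2)) (.wt 2))) (.lin 4))))) (.lin 3)) (.lin 3))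
    .sq) (.wt 1)))) (.lin 2))))

def cert5_132_4 : Cert :=
  (.split 6 60 (.split 1 34 (.split 3 (-48) (.lin 11) (.split 0 40 (.split 5 (-68) (.lin 4)
    (.splitN 13424323 (.split 2 3663 (.split 4 3769 (.split 7 (-277) (.split 2 225 (.lin 9)
    (.split 4 294 (.lin 12) (.splitN 218366 .sq (.wt 0)))) (.split 2 244 (.split 4 358 (.split 4
    304 (.split 1 15 (.split 5 (-41) (.lin 4) (.splitN 22590 (.wt 6) (.split 7 (-85) (.wt 0)
    (.split 2 55 (.split 4 142 (.splitN 25495 (.split 7 (-75) (.wt 0) (.split 4 106 (.wt 6) (.lin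
    8))) (.wt 4)) (.lin 0)) (.lin 9))))) (.split 7 (-37) (.split 5 (-31) (.split 6 34 (.lin 11)
    (.split 2 15 (.split 4 115 (.split 4 97 (.split 7 (-65) (.lin 9) (.split 0 16 (.wt 2) (.split
    4 60 (.lin 3) (.split 5 (-40) (.splitN 23821 (.wt 1) (.split 2 3 (.split 4 88 (.split 7 (-56)
    (.lin 9) (.split 3 (-29) (.split 5 (-59) (.lin 1) (.split 1 25 (.split 7 (-46) (.splitN 29450
    (.split 1 16 (.wt 0) (.split 3 (-30) (.lin 2) (.split 7 (-55) (.split 5 (-49) (.wt 1) (.lin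
    1)) (.lin 2)))) (.wt 3)) (.lin 2)) (.lin 2))) (.split 6 44 (.split 1 25 (.split 7 (-47) (.lin
    2) (.split 5 (-59) (.lin 1) (.split 1 20 (.split 7 (-38) (.lin 2) (.split 6 35 (.splitN 29100
    (.wt 1) (.wt 0)) (.lin 9))) (.split 7 (-46) (.split 6 43 (.lin 9) (.splitN 29131 (.wt 0) (.wt
    1))) (.lin 2))))) (.lin 11)) (.split 1 33 (.lin 11) (.split 7 (-55) (.splitN 31035 (.wt 0)
    (.wt 1)) (.lin 2)))))) (.lin 3)) (.split 7 (-46) (.split 3 (-26) (.wt 2) (.split 6 38 (.wt 2)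
    (.split 4 78 (.lin 3) (.split 1 24 (.lin 11) (.split 7 (-55) (.split 5 (-49) (.split 0 26
    (.wt 2) (.split 5 (-58) (.split 4 87 (.lin 3) (.splitN 52562 (.wt 1) (.split 6 52 (.split 1
    25 (.wt 0) (.lin 11)) (.wt 2)))) (.lin 1))) (.lin 1)) (.lin 2)))))) (.lin 2)))) (.lin 4)))))
    (.lin 3)) (.lin 0)) (.split 7 (-55) (.split 0 23 (.wt 2) (.split 5 (-40) (.split 3 (-26) (.wt
    2) (.split 6 39 (.wt 2) (.split 4 87 (.lin 3) (.split 1 24 (.lin 11) (.split 7 (-64) (.split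
    0 26 (.wt 2) (.split 5 (-58) (.split 7 (-171) (.wt 2) (.split 2 118 (.split 4 214 (.split 7
    (-149) (.wt 2) (.split 4 178 (.split 7 (-144) (.wt 2) (.split 2 91 (.split 4 169 (.split 6 44
    (.wt 2) (.split 1 33 (.lin 11) (.split 7 (-73) (.split 5 (-67) (.splitN 61273 (.split 7 (-78)
    (.split 2 27 (.lin 1) (.split 4 114 (.lin 0) (.splitN 58881 (.split 7 (-92) (.split 2 45
    (.lin 1) (.split 4 132 (.lin 0) (.splitN 55706 (.split 7 (-113) (.wt 2) (.wt 0)) (.wt 1))))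
    (.wt 0)) (.wt 1)))) (.wt 0)) (.wt 1)) (.lin 4)) (.lin 2)))) (.lin 12)) (.lin 1))) (.lin 12)))
    (.lin 0)) (.lin 1))) (.lin 4))) (.lin 2)))))) (.lin 4))) (.lin 2)))) (.lin 4)) (.lin 2)))
    (.lin 12)) (.lin 0)) (.lin 9))) (.lin 0)) .sq) (.wt 3))) (.split 4 69 (.lin 3) (.split 5
    (-49) cert5_132_0 (.lin 4))))) (.lin 11)) (.split 4 78 (.lin 3) (.split 7 (-64) (.splitN
    387907 (.split 0 10730 (.split 1 4292 (.split 5 (-15017) (.lin 4) (.split 2 2146 (.split 4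
    4292 (.split 3 (-4269) (.lin 5) (.split 5 (-2147) (.div 5) (.split 1 2131 (.splitN 368050
    (.split 0 593 (.split 1 592 (.split 5 (-1184) (.lin 4) (.splitN 349522 (.split 2 576 (.split
    3 (-577) .sq (.split 4 2320 (.split 6 2303 (.splitN 325527 (.split 1 556 (.split 4 561
    (.split 2 514 (.split 6 539 (.split 3 (-534) (.lin 5) (.split 5 (-536) (.lin 10) (.split 7
    (-542) (.lin 12) (.split 1 60 (.splitN 206181 (.split 3 (-436) .sq (.split 6 485 (.split 4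
    442 (.split 5 (-428) (.lin 0) (.split 6 422 (.split 0 77 (.split 5 (-122) (.lin 4) (.splitN
    161496 (.split 4 387 (.split 2 307 (.split 6 368 cert5_132_2 (.lin 3)) (.lin 3)) .sq) (.wt
    3))) (.split 4 141 (.lin 3) (.split 5 (-85) (.splitN 42020 .sq (.splitN 94684 (.split 0 242
    (.split 5 (-293) (.lin 4) (.split 1 7 (.wt 3) (.split 5 (-94) (.split 3 (-21) (.split 2 1
    (.wt 1) (.split 4 150 (.lin 3) (.split 7 (-73) (.splitN 48248 .sq (.splitN 85271 (.split 0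
    207 (.split 5 (-257) (.lin 4) (.split 4 243 (.split 2 100 (.split 3 (-138) (.lin 5) (.split 5
    (-203) (.lin 10) (.splitN 80356 (.split 4 230 (.split 0 151 (.split 2 82 (.split 3 (-120)
    (.lin 5) (.split 5 (-185) (.lin 10) (.split 7 (-146) (.lin 12) (.split 3 (-59) (.split 7
    (-91) (.split 4 168 (.lin 5) (.split 5 (-149) (.lin 10) (.split 6 79 (.lin 11) (.splitN 62900
    .sq (.wt 1))))) (.lin 2)) (.split 1 28 (.split 3 (-38) (.split 6 80 (.splitN 62160 (.split 0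
    128 (.split 4 181 (.split 2 46 (.split 0 106 (.split 2 37 (.split 1 16 (.wt 0) (.split 5
    (-103) (.splitN 50993 .sq (.split 3 (-55) (.wt 0) (.split 6 71 (.split 7 (-94) (.wt 0)
    (.split 2 28 (.split 3 (-46) (.wt 2) (.split 6 62 (.split 7 (-83) (.wt 0) (.split 2 19
    (.splitN 55278 (.split 0 83 (.wt 0) (.split 4 159 (.lin 3) (.split 5 (-112) .sq (.lin 4))))
    (.wt 0)) (.lin 2))) (.lin 11))) (.lin 2))) (.lin 11)))) (.lin 4))) (.lin 3)) (.lin 3)) (.lin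
    0)) .sq) .sq) (.wt 3)) (.lin 11)) (.lin 11)) (.split 5 (-112) (.split 3 (-30) (.split 7 (-82)
    (.split 4 159 (.lin 5) (.split 6 70 (.lin 11) (.splitN 58850 .sq (.split 7 (-123) (.wt 1)
    (.split 2 46 (.split 7 (-118) (.wt 1) (.split 3 (-39) (.split 7 (-91) (.split 4 168 (.lin 5)
    (.split 6 79 (.lin 11) (.splitN 65492 .sq (.wt 1)))) (.lin 2)) (.wt 6))) (.lin 2)))))) (.lin
    2)) (.wt 2)) (.lin 4))))))) (.lin 3)) (.lin 3)) .sq) (.wt 1)))) (.lin 3)) .sq)) .sq) (.wt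
    1))) (.lin 9)))) (.wt 2)) (.lin 4)))) .sq) (.wt 1))) (.lin 4)))) (.lin 3))) .sq) (.lin 11)))
    (.wt 1)) (.split 7 (-82) (.split 5 (-76) (.split 4 96 (.lin 5) (.split 6 79 (.lin 11)
    (.splitN 32687 .sq (.splitN 162878 (.split 1 365 (.split 3 (-362) .sq (.split 4 373 (.split 2
    271 (.split 6 350 (.split 1 331 (.split 5 (-347) (.lin 10) (.split 7 (-353) (.lin 12)
    cert5_132_3)) (.lin 11)) (.lin 3)) (.lin 10)) .sq)) .sq) (.wt 1))))) (.lin 4)) (.lin 2))))))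
    (.lin 3)) (.lin 10)) .sq) .sq) (.wt 1)) (.lin 3)) (.lin 5))) .sq) (.wt 1))) .sq) .sq) (.wt
    1)) (.lin 4)))) (.div 4)) (.div 2))) (.div 1)) (.div 0)) (.wt 1)) (.lin 9))))

def cert5_132_5 : Cert :=
  (.split 0 22 (.split 6 42 (.split 5 (-41) (.lin 7) (.split 1 25 (.split 0 8 (.wt 2) (.split 5
    (-22) (.split 6 18 (.wt 2) (.split 1 15 (.lin 11) (.split 7 (-28) (.split 5 (-31) (.split 7
    (-133) (.split 2 99 (.lin 1) (.split 4 150 (.lin 12) (.splitN 53567 .sq (.wt 0)))) (.split 2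
    100 (.split 4 160 (.split 2 10 (.split 4 61 (.splitN 181961 .cand (.wt 0)) (.lin 3)) (.split
    7 (-46) (.splitN 67850 (.wt 6) (.split 1 19 (.wt 0) (.split 7 (-55) (.wt 0) (.lin 2)))) (.lin
    1))) (.lin 0)) (.lin 1))) (.lin 4)) (.lin 2)))) (.lin 4))) (.lin 11))) (.split 4 51 (.lin 3)
    (.split 1 33 (.lin 11) (.split 7 (-46) (.split 5 (-40) (.split 0 11 (.wt 2) (.split 4 60
    (.lin 3) (.split 5 (-49) (.splitN 132004 (.split 4 1448 (.split 7 (-1433) (.lin 12) (.split 6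
    61 (.split 1 43 (.split 5 (-59) (.lin 4) (.splitN 88583 (.split 2 490 (.split 7 (-542) (.lin
    1) (.splitN 70765 (.split 2 382 (.split 7 (-434) (.lin 1) (.split 2 1 (.wt 2) (.split 7 (-59)
    (.split 4 78 (.lin 12) (.splitN 64581 (.split 7 (-69) (.split 2 18 (.lin 1) (.split 4 87
    (.lin 12) (.split 7 (-77) (.split 2 27 (.lin 1) (.split 4 96 (.lin 12) (.splitN 61346 (.split
    2 328 (.split 7 (-89) (.split 4 105 (.lin 12) (.split 7 (-93) (.split 4 114 (.lin 12) (.split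
    6 48 (.split 1 34 (.split 7 (-371) (.lin 2) (.split 5 (-50) (.lin 4) (.splitN 55234 (.split 7
    (-134) (.split 2 90 (.lin 1) (.split 4 150 (.lin 0) .sq)) (.wt 0)) (.wt 6)))) (.lin 11)) (.wt
    2))) (.wt 0))) (.wt 0)) (.div 2)) (.wt 6)))) (.wt 0)))) (.wt 0)) (.wt 6))) (.wt 0)))) (.div
    2)) (.wt 6))) (.div 2)) (.wt 1))) (.lin 11)) (.wt 2))) (.div 4)) (.wt 1)) (.lin 4)))) (.lin
    4)) (.lin 2))))) (.split 4 42 (.lin 3) (.split 5 (-31) (.split 6 153 (.split 1 142 (.split 6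
    50 (.split 1 34 (.split 7 (-46) (.split 4 69 (.lin 12) (.split 6 30 (.split 2 18 (.lin 9)
    (.split 1 16 (.splitN 352762 (.split 2 1948 (.split 4 3896 (.split 0 3859 (.split 5 (-1949)
    (.div 5) (.splitN 202892 (.split 4 2240 (.split 0 439 (.split 5 (-455) (.lin 4) (.splitN
    186757 (.split 4 425 (.split 1 11 (.split 6 17 (.splitN 35038 (.split 2 184 (.split 7 (-200)
    (.lin 2) (.wt 1)) (.div 2)) (.wt 0)) (.lin 11)) (.split 6 25 (.lin 11) .cand)) .sq) (.wt 3)))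
    .sq) (.div 4)) (.wt 3))) (.lin 3)) (.div 4)) (.div 2)) (.wt 1)) (.lin 11))) (.split 1 24
    (.lin 11) (.splitN 94447 (.split 2 508 (.split 7 (-551) (.lin 2) (.splitN 46384 (.split 2 256
    (.split 7 (-299) (.lin 2) (.wt 2)) (.div 2)) (.wt 6))) (.div 2)) (.wt 1))))) (.split 2 19
    (.split 6 26 (.split 1 16 (.split 2 4 (.split 7 (-29) (.lin 2) (.splitN 88813 (.split 4 980
    (.split 5 (-977) (.lin 0) (.split 0 970 (.split 5 (-491) (.div 5) (.split 4 511 (.split 0 484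
    (.split 0 290 (.split 5 (-302) (.lin 1) (.split 4 322 (.splitN 84556 (.split 4 281 (.split 1
    11 (.split 7 (-20) (.lin 2) (.split 6 17 (.splitN 47989 (.splitN 36751 (.wt 1) (.splitN 44854
    (.split 5 (-239) (.div 5) (.split 4 250 (.split 0 66 (.wt 0) (.split 5 (-76) (.split 4 87
    (.lin 0) (.splitN 40912 (.wt 1) (.split 0 117 (.wt 0) (.split 5 (-130) (.split 4 141 (.lin 0)
    .sq) (.lin 1))))) (.lin 1))) (.lin 0))) (.wt 3))) (.wt 0)) (.lin 9))) (.split 7 (-28) (.split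
    4 51 (.lin 5) (.split 6 25 (.lin 9) (.splitN 44000 (.wt 0) (.wt 1)))) (.lin 2))) .sq) (.wt
    1)) (.lin 0))) .sq) (.lin 1)) (.lin 0))) (.lin 1))) (.div 4)) (.wt 1))) (.split 7 (-28)
    (.split 0 58 (.split 5 (-68) (.lin 1) (.split 4 106 (.split 6 17 (.wt 2) (.split 4 60 (.lin
    3) (.split 2 10 (.split 1 15 (.lin 11) (.split 7 (-37) (.splitN 68999 (.wt 0) (.splitN 81910
    (.split 0 29 (.split 5 (-41) (.lin 1) (.split 4 61 (.wt 0) (.lin 0))) (.wt 0)) (.wt 1)))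
    (.lin 2))) (.lin 9)))) (.lin 0))) (.split 5 (-58) (.split 5 (-67) (.splitN 2297290 (.split 0
    1510 (.split 5 (-1526) (.lin 1) (.split 4 1564 (.splitN 1819932 (.split 0 1343 (.split 1 11
    (.split 6 17 (.splitN 55739 (.split 4 584 (.split 5 (-293) (.div 5) (.split 0 295 (.splitN
    51151 (.wt 1) (.wt 0)) (.lin 1))) (.div 4)) (.wt 0)) (.lin 11)) (.split 2 10 (.split 7 (-37)
    (.split 4 96 (.lin 5) (.split 6 25 (.lin 9) (.splitN 231427 (.wt 0) (.wt 1)))) (.lin 2))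
    (.lin 2))) .sq) (.wt 1)) (.lin 0))) .sq) (.wt 1)) (.lin 4)) (.lin 1))) (.lin 2))) (.lin 11))
    (.split 4 60 (.lin 3) (.split 2 1 (.split 1 24 (.lin 11) (.split 7 (-37) (.splitN 54339 (.wt
    0) (.wt 1)) (.lin 2))) (.lin 9)))) (.lin 9))) (.lin 11)) (.split 1 42 (.lin 11) (.split 7
    (-55) (.splitN 73494 (.split 2 400 (.split 7 (-551) (.lin 2) (.split 5 (-401) (.div 5) (.wt
    2))) (.div 2)) (.wt 1)) (.lin 2)))) (.lin 11)) (.wt 2)) (.lin 4))))

def cert5_132 : Cert :=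
  (.split 3 (-12) (.split 7 (-28) (.split 4 33 (.lin 5) (.split 6 25 (.lin 11) (.splitN 13970
    (.wt 1) (.split 0 7 (.wt 2) (.split 4 42 (.lin 3) (.split 5 (-22) cert5_132_4 (.lin 4)))))))
    (.lin 2)) (.split 3 (-5) (.split 7 (-19) (.split 4 24 (.lin 5) (.split 6 16 (.lin 11)
    cert5_132_5)) (.lin 2)) (.wt 2)))

theorem check5_132 :
    check task5 cert5_132
      [(7, ⟨some (7), none⟩), (7, ⟨some (7), none⟩), (1, ⟨some (1), none⟩), (7, ⟨none, some (-2)⟩), (7, ⟨some (16), none⟩), (5, ⟨none, some (-13)⟩), (8, ⟨some (8), none⟩), (8, ⟨none, some (-10)⟩)] ⟨some (3960), none⟩ = true := by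
  decide +kernel

def cert5_133 : Cert :=
  (.lin 4)

theorem check5_133 :
    check task5 cert5_133
      [(7, ⟨some (7), none⟩), (7, ⟨some (7), none⟩), (1, ⟨none, none⟩), (7, ⟨none, some (-2)⟩), (7, ⟨some (16), none⟩), (5, ⟨some (-4), none⟩), (8, ⟨some (8), none⟩), (8, ⟨none, some (-10)⟩)] ⟨some (3960), none⟩ = true := by
  decide +kernel

def cert5_134 : Cert :=
  (.wt 3)

theorem check5_134 :
    check task5 cert5_134
      [(7, ⟨some (7), none⟩), (7, ⟨none, none⟩), (1, ⟨none, none⟩), (7, ⟨none, some (-2)⟩), (7, ⟨some (7), none⟩), (5, ⟨none, none⟩), (8, ⟨some (8), none⟩), (8, ⟨some (-1), some (-1)⟩)] ⟨some (3960), none⟩ = true := by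
  decide +kernel

end Cfsg.Agent.EightLocal
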