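import Cfsg.Agent.Lib.EightLocal.Task5

/-!
# Search trees of family 5, part 8
-/

set_option autoImplicit false
set_option maxRecDepth 20000
set_option Elab.async false

namespace Cfsg.Agent.EightLocal

open Cfsg.Agent.SelfNine

def cert5_135_0 : Cert :=
  (.split 7 (-33) (.split 4 96 (.lin 12) (.splitN 201962 (.split 5 (-1121) (.div 5) (.split 1
    1078 (.split 3 988 (.splitN 179503 (.split 5 (-995) (.div 5) (.split 3 862 (.wt 2) (.lin 6)))
    (.wt 0)) (.lin 6)) (.lin 0))) (.wt 0))) (.split 2 (-44) (.split 4 133 (.split 0 83 (.split 4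
    106 (.splitN 5783132 (.split 5 (-32117) (.div 5) (.split 1 32074 (.split 3 31984 (.splitN
    5190644 (.split 5 (-28823) (.div 5) (.split 1 28780 (.split 3 28690 (.splitN 431621 (.wt 1)
    (.splitN 1419166 (.split 1 15740 (.split 5 (-7871) (.div 5) (.split 1 7828 (.split 3 7738
    (.split 3 181 (.wt 0) (.split 5 (-319) (.split 0 64 (.wt 2) (.split 4 96 (.lin 12) (.split 3
    357 (.wt 2) (.split 5 (-499) (.split 3 396 (.wt 2) (.split 5 (-544) (.split 1 474 (.lin 2)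
    (.splitN 706040 .sq (.split 6 73 (.wt 0) (.split 2 (-53) (.splitN 1233953 (.split 1 865
    (.split 5 (-950) (.lin 0) (.split 3 799 (.splitN 820735 (.split 0 72 (.wt 0) (.split 3 458
    (.wt 0) (.split 5 (-625) .sq (.lin 1)))) (.wt 3)) (.lin 6))) .sq) (.wt 3)) (.lin 9))))) (.lin
    1))) (.lin 1))))) (.lin 1))) (.lin 6)) (.lin 0))) (.div 1)) (.wt 3))) (.lin 6)) (.lin 0)))
    (.wt 0)) (.lin 6)) (.lin 0))) (.wt 0)) (.lin 12)) (.split 5 (-310) (.split 4 96 (.lin 3)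
    (.split 4 114 (.lin 12) (.split 3 310 (.split 5 (-500) (.lin 1) (.split 1 394 (.split 3 169
    (.wt 2) (.split 5 (-337) (.split 6 77 (.wt 2) (.split 2 (-53) (.split 3 241 (.split 5 (-437)
    (.lin 1) (.split 1 331 (.split 0 90 (.wt 2) (.split 5 (-355) (.split 4 123 (.lin 12) (.split
    6 81 (.wt 2) (.split 2 (-62) (.split 1 267 (.lin 11) (.splitN 737513 (.splitN 564537 (.wt 1)
    .cand) (.wt 1))) (.lin 9)))) (.lin 1))) (.lin 2))) (.split 5 (-418) (.split 1 330 (.lin 2)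
    (.split 6 84 (.split 2 (-54) (.lin 9) (.splitN 930686 (.splitN 760180 (.wt 1) (.split 0 98
    (.wt 0) (.split 4 132 (.lin 3) (.splitN 825282 (.wt 1) .cand)))) (.wt 0))) (.split 2 (-62)
    (.split 0 95 (.split 4 115 (.splitN 654644 (.splitN 621506 (.wt 1) .cand) (.wt 0)) (.lin 3))
    (.wt 2)) (.lin 9)))) (.lin 1))) (.lin 9))) (.lin 1))) (.lin 2))) (.split 5 (-472) (.split 1
    384 (.lin 2) (.split 6 80 (.split 2 (-54) (.lin 9) (.split 3 634 (.split 5 (-815) (.lin 1)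
    (.split 1 709 (.split 6 71 (.wt 2) (.split 2 (-53) (.split 0 97 (.split 4 124 (.splitN 743740
    (.wt 1) (.split 3 365 (.wt 2) (.split 5 (-535) (.split 1 447 (.lin 2) (.split 3 497 (.split 5
    (-671) (.lin 1) (.split 1 574 (.split 0 91 (.wt 2) (.split 4 123 (.lin 3) (.splitN 967762
    (.split 3 389 (.wt 2) (.split 1 474 (.lin 2) (.split 3 461 (.split 5 (-635) (.lin 1) (.split
    3 421 (.split 5 (-599) (.lin 1) (.split 1 502 (.splitN 915956 .cand (.wt 1)) (.lin 2))) (.wt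
    2))) (.wt 0)))) (.wt 1)))) (.lin 2))) (.split 5 (-670) (.split 1 582 (.lin 2) (.splitN
    1071755 .sq (.wt 1))) (.lin 1)))) (.lin 1)))) (.lin 3)) (.split 4 132 (.lin 3) (.splitN
    938552 (.split 1 398 (.split 5 (-500) (.lin 0) (.wt 0)) (.wt 0)) (.wt 6)))) (.lin 9))) (.lin
    2))) (.split 5 (-796) (.split 1 708 (.lin 2) (.splitN 1570796 .sq (.splitN 14925962 (.split 1
    3722 (.split 5 (-3830) (.lin 0) (.split 3 3670 (.split 6 79 (.split 2 (-45) (.lin 9) (.split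
    0 91 (.wt 0) (.split 4 123 (.lin 3) (.split 3 848 (.wt 2) (.split 5 (-1021) (.split 1 924
    (.lin 2) (.splitN 2658221 .sq (.split 0 97 (.wt 0) (.splitN 2700643 (.split 3 1058 (.wt 0)
    (.split 5 (-1237) .sq (.lin 1))) (.wt 1))))) (.lin 1)))))) (.wt 1)) (.lin 6))) .sq) (.wt
    1)))) (.lin 1)))) (.split 2 (-62) (.splitN 963282 (.split 5 (-5351) (.div 5) (.split 1 5263
    (.split 0 100 (.split 4 124 (.splitN 893282 (.split 1 1304 (.split 5 (-1400) (.lin 0)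
    (.splitN 821739 (.split 0 95 (.split 4 115 (.split 1 816 (.split 5 (-896) (.lin 0) (.splitN
    740994 (.split 1 550 (.split 5 (-635) (.lin 0) (.splitN 693397 (.split 1 442 (.split 5 (-527)
    (.lin 0) (.wt 2)) (.wt 0)) (.wt 1))) (.wt 0)) (.wt 1))) (.wt 0)) (.lin 3)) (.wt 0)) (.wt 1)))
    (.wt 0)) (.wt 1)) (.lin 3)) (.wt 0)) (.lin 0))) (.wt 1)) (.lin 9)))) (.lin 1))))) (.lin 1)))
    (.lin 12)) (.lin 9)))

def cert5_135_1 : Cert :=
  (.split 3 83 (.split 1 169 (.splitN 18905096 (.split 5 (-105017) (.div 5) (.split 4 104929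
    (.split 0 104884 (.splitN 17693543 (.split 5 (-98285) (.div 5) (.split 4 98197 (.split 0
    98152 (.split 6 73 (.wt 2) (.split 2 (-53) (.split 1 141 (.lin 11) (.splitN 7884340 (.split 0
    2755 (.split 5 (-2921) (.lin 1) (.split 4 2815 (.splitN 3851613 (.split 3 61 (.wt 2) (.split
    1 150 (.lin 2) (.split 0 1884 (.split 5 (-2048) (.lin 1) (.split 4 1933 (.splitN 3102050
    (.split 0 1674 (.split 5 (-1841) (.lin 1) (.split 4 1726 (.splitN 2885280 (.split 5 (-1637)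
    .sq (.split 4 1519 (.split 0 1483 (.split 0 640 (.split 5 (-806) (.lin 1) (.split 4 691
    (.split 0 299 (.wt 2) (.split 5 (-454) (.split 6 80 (.wt 2) (.split 2 (-62) (.split 1 159
    (.lin 11) (.split 0 470 (.split 5 (-635) (.lin 1) (.split 4 502 (.split 0 322 (.wt 2) (.split
    5 (-490) (.split 4 348 (.lin 0) (.split 3 72 (.wt 2) (.split 1 168 (.lin 2) (.splitN 919055
    (.split 0 371 (.split 5 (-536) (.lin 1) (.split 4 394 (.split 0 346 (.wt 2) (.split 5 (-517)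
    (.split 4 375 (.lin 0) (.splitN 825597 (.wt 1) .cand)) (.lin 1))) (.lin 0))) (.wt 2)) (.wt
    1))))) (.lin 1))) (.lin 0))) (.split 5 (-634) (.split 4 492 (.lin 0) (.splitN 913679 .sq
    (.splitN 1072949 (.split 3 78 (.split 1 160 (.wt 0) (.lin 2)) (.wt 0)) (.wt 1)))) (.lin 1))))
    (.lin 9))) (.lin 1))) (.lin 0))) (.split 5 (-796) (.split 4 645 (.lin 0) (.splitN 1505942 .sq
    (.split 6 85 (.split 1 160 (.splitN 1612789 (.split 0 1081 (.wt 0) (.split 5 (-1237) .sq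
    (.lin 1))) (.wt 3)) (.lin 11)) (.wt 1)))) (.lin 1))) (.lin 1)) (.lin 0))) (.wt 3)) (.lin 0)))
    .sq) (.wt 3)) (.lin 0))) .sq))) (.wt 3)) (.lin 0))) .sq) (.wt 3))) (.lin 9))) (.lin 1)) (.lin
    0))) (.wt 3)) (.lin 1)) (.lin 0))) (.wt 3)) (.lin 2)) (.split 5 (-436) (.split 1 159 (.lin 2)
    (.split 6 80 (.split 2 (-54) (.lin 9) (.split 1 187 (.split 0 562 (.split 5 (-743) (.lin 1)
    (.split 4 583 (.split 6 75 (.wt 2) (.split 2 (-53) (.split 1 168 (.lin 11) (.split 3 97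
    (.split 0 416 (.split 5 (-590) (.lin 1) (.split 4 448 (.split 0 295 (.wt 2) (.split 5 (-472)
    (.split 4 330 (.lin 3) (.split 3 88 (.wt 2) (.split 1 177 (.lin 2) (.splitN 981839 (.wt 1)
    (.split 0 345 (.split 5 (-518) (.lin 1) (.split 4 367 (.splitN 1166786 .cand (.wt 1)) (.lin
    0))) (.wt 2)))))) (.lin 1))) (.lin 0))) (.split 5 (-589) (.split 4 429 (.lin 0) (.splitN
    1426818 (.split 3 95 (.split 1 169 (.splitN 1111710 (.wt 1) (.split 0 462 (.wt 2) (.split 5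
    (-634) (.split 4 492 (.lin 0) (.split 0 506 (.split 5 (-671) (.lin 1) (.split 4 529 (.splitN
    1242875 .cand (.wt 1)) (.lin 0))) (.wt 2))) (.lin 1)))) (.lin 2)) (.wt 0)) (.wt 1))) (.lin
    1))) (.split 1 186 (.lin 2) (.wt 2)))) (.lin 9))) (.lin 12))) (.split 5 (-724) (.split 4 591
    (.lin 12) (.split 6 75 (.split 2 (-45) (.lin 9) (.split 3 97 (.split 1 169 (.splitN 1940783
    (.wt 1) (.splitN 24894915 (.split 5 (-138299) (.div 5) (.split 4 138166 (.split 0 138139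
    (.splitN 23304421 (.split 5 (-129461) (.div 5) (.split 4 129328 (.split 0 603 (.wt 0) (.split
    5 (-769) (.split 0 1098 (.wt 2) (.split 5 (-1264) (.split 4 1122 (.lin 0) (.splitN 4120955
    .sq (.split 3 88 (.wt 0) (.split 1 168 (.lin 2) (.splitN 8576290 (.split 5 (-47633) (.div 5)
    (.split 4 47491 (.split 0 1276 (.wt 2) (.split 5 (-1453) (.split 4 1311 (.lin 0) (.splitN
    5529509 .sq (.splitN 7523635 (.split 5 (-41783) (.div 5) (.split 4 41641 (.split 0 1384 (.wt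
    0) (.split 5 (-1561) (.split 4 1419 (.lin 0) (.splitN 6439301 .sq (.splitN 7137686 (.split 0
    1535 (.wt 0) (.split 5 (-1705) (.split 4 1563 (.lin 0) .sq) (.lin 1))) (.wt 1)))) (.lin 1)))
    (.lin 0))) (.wt 1)))) (.lin 1))) (.lin 0))) (.wt 1)))))) (.lin 1))) (.lin 1))) (.lin 0)))
    (.wt 3)) (.lin 1)) (.lin 0))) (.wt 3))) (.lin 2)) (.split 1 177 (.lin 2) (.splitN 15104895
    (.split 4 167804 (.split 5 (-167963) (.lin 0) (.split 0 2693 (.split 5 (-2867) (.lin 1)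
    (.split 4 2716 (.splitN 7727427 (.split 0 1778 (.split 5 (-1949) (.lin 1) (.split 4 1798
    (.splitN 6230769 (.split 0 1524 (.split 5 (-1697) (.lin 1) (.split 4 1546 (.splitN 5707096
    (.split 0 1428 (.split 5 (-1598) (.lin 1) (.split 0 847 (.split 5 (-1022) (.lin 1) (.split 4
    871 (.split 0 615 (.wt 2) (.split 5 (-796) (.split 4 636 (.lin 0) (.split 0 767 (.split 5
    (-941) (.lin 1) (.split 0 691 (.split 5 (-869) (.lin 1) (.split 4 718 (.split 0 659 (.wt 2)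
    (.split 5 (-841) (.split 4 681 (.lin 0) (.splitN 2778220 (.wt 1) (.split 1 182 (.wt 0) (.lin
    2)))) (.lin 1))) (.lin 0))) (.split 5 (-877) (.split 4 717 (.lin 0) (.split 0 724 (.split 4
    745 (.split 1 182 (.split 0 709 (.split 5 (-887) (.lin 1) (.split 4 740 (.wt 2) (.lin 0)))
    (.split 4 731 (.split 5 (-878) (.lin 0) (.lin 1)) (.split 5 (-933) (.lin 0) (.wt 2)))) (.lin
    2)) (.lin 3)) (.wt 2))) (.lin 1)))) (.wt 2))) (.lin 1))) (.lin 0))) (.wt 2))) (.wt 0)) (.wt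
    1)) (.lin 0))) (.wt 0)) (.wt 1)) (.lin 0))) (.wt 0)) (.wt 1)) (.lin 0))) (.wt 0))) (.div 4))
    (.wt 1))))) (.split 2 (-53) (.split 1 168 (.lin 11) (.splitN 2010014 (.split 4 22328 (.split
    5 (-22487) (.lin 0) (.wt 2)) (.div 4)) (.wt 1))) (.lin 9)))) (.lin 1))) (.lin 11))) (.split 2
    (-62) (.split 1 177 (.lin 11) (.splitN 868958 (.wt 0) (.splitN 1316690 (.split 5 (-7313)
    (.div 5) (.splitN 927868 (.split 0 290 (.split 5 (-482) (.lin 1) (.split 4 331 (.wt 1) (.lin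
    0))) (.wt 0)) (.wt 6))) (.wt 1)))) (.lin 9)))) (.lin 1)))

def cert5_135_2 : Cert :=
  (.split 5 (-680) (.lin 1) (.split 1 376 (.split 0 116 (.wt 2) (.split 4 150 (.lin 3) (.split 3
    116 (.wt 2) (.split 5 (-319) (.split 0 214 (.split 5 (-590) (.lin 1) (.split 4 241 (.split 3
    148 (.wt 2) (.split 5 (-346) (.split 1 222 (.lin 2) (.split 0 169 (.split 5 (-545) (.lin 1)
    (.split 4 196 (.split 0 128 (.wt 2) (.split 3 195 (.wt 2) (.split 5 (-400) (.split 1 267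
    (.lin 2) (.split 3 250 (.split 5 (-491) (.lin 1) (.split 1 322 (.split 0 146 (.wt 2) (.split
    4 177 (.lin 3) (.split 3 223 (.split 5 (-464) (.lin 1) (.split 1 295 (.splitN 1774455 (.split
    0 161 (.wt 2) (.split 4 195 (.lin 3) (.split 3 210 (.wt 2) (.split 1 285 (.lin 2) (.splitN
    1608938 (.wt 0) .cand))))) (.wt 3)) (.lin 2))) (.split 5 (-454) (.split 1 303 (.lin 2)
    (.split 0 163 (.splitN 1471437 (.wt 1) (.split 0 155 (.split 4 178 (.splitN 1507222 (.wt 1)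
    (.wt 0)) (.lin 3)) (.split 3 238 (.split 5 (-464) (.lin 1) (.split 1 304 (.split 4 187
    (.splitN 1617775 .cand (.wt 0)) (.lin 0)) (.lin 2))) (.wt 2)))) (.wt 2))) (.lin 1))))) (.lin
    2))) (.split 5 (-463) (.split 1 330 (.lin 2) (.split 0 155 (.split 4 178 (.split 0 134 (.wt
    2) (.split 4 168 (.lin 3) (.split 3 281 (.split 5 (-500) (.lin 1) (.split 1 349 (.splitN
    1469482 (.wt 1) (.split 0 146 (.split 4 169 (.wt 0) (.lin 3)) (.split 4 177 (.lin 3) (.splitN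
    1679975 (.wt 0) (.wt 1))))) (.lin 2))) (.split 5 (-499) (.split 1 357 (.lin 2) (.splitN
    1785897 (.split 0 146 (.split 4 169 (.split 3 292 (.wt 2) (.wt 2)) (.lin 3)) (.wt 0)) (.wt
    1))) (.lin 1))))) (.lin 3)) (.wt 2))) (.lin 1)))) (.lin 1)))) (.lin 3))) (.split 5 (-400)
    (.split 4 204 (.lin 3) (.split 3 217 (.split 5 (-500) (.lin 1) (.split 1 286 (.split 3 187
    (.split 5 (-473) (.lin 1) (.split 1 259 (.split 3 161 (.wt 2) (.split 1 240 (.lin 2) (.split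
    0 196 (.split 4 223 (.splitN 1439999 (.wt 1) (.splitN 1835051 (.split 3 169 (.wt 0) (.split 5
    (-427) (.split 0 187 (.wt 2) (.split 4 222 (.lin 3) (.split 3 182 (.wt 2) (.split 1 258 (.lin
    2) (.wt 0))))) (.lin 1))) (.wt 3))) (.lin 3)) (.split 5 (-445) (.split 4 231 (.lin 3)
    (.splitN 1585172 (.wt 3) (.split 3 174 (.split 1 241 (.splitN 1779414 .cand (.wt 3)) (.lin
    2)) (.wt 2)))) (.lin 1))))) (.lin 2))) (.split 5 (-445) (.split 1 267 (.lin 2) (.splitN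
    2004330 (.split 0 194 (.split 5 (-473) (.lin 1) (.split 4 214 (.split 3 202 (.split 1 268
    (.split 0 182 (.splitN 1610618 (.wt 1) (.wt 0)) (.splitN 1750405 (.wt 0) (.wt 1))) (.lin 2))
    (.wt 2)) (.lin 3))) (.wt 0)) (.wt 1))) (.lin 1))) (.lin 2))) (.wt 2))) (.lin 1)))) (.lin 1)))
    (.lin 3))) (.split 5 (-418) (.split 4 249 (.lin 3) (.split 3 174 (.split 5 (-545) (.lin 1)
    (.split 1 241 (.split 3 127 (.wt 2) (.split 1 204 (.lin 2) (.split 3 168 (.split 3 146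
    (.split 1 214 (.split 0 257 (.wt 2) (.split 5 (-463) (.split 4 276 (.lin 0) (.split 0 281
    (.split 5 (-491) (.lin 1) (.splitN 1681931 (.wt 1) (.split 3 134 (.wt 0) (.split 0 268
    (.split 4 295 (.wt 2) (.lin 3)) (.split 5 (-490) (.split 4 303 (.lin 0) (.wt 2)) (.lin
    1)))))) (.split 5 (-490) (.split 4 303 (.lin 0) (.split 3 140 (.split 5 (-509) (.lin 1)
    (.split 0 301 (.wt 2) (.split 4 330 (.lin 3) (.split 1 209 (.splitN 1863675 (.wt 1) (.wt 0))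
    (.lin 0))))) (.wt 2))) (.lin 1)))) (.lin 1))) (.lin 2)) (.split 5 (-445) (.split 1 222 (.lin
    2) (.split 0 256 (.split 5 (-482) (.lin 1) (.split 4 286 (.split 0 236 (.split 4 259 (.split
    3 153 (.wt 2) (.split 0 227 (.split 5 (-455) (.lin 1) (.split 1 232 (.wt 2) (.lin 0))) (.wt
    2))) (.lin 3)) (.split 4 267 (.lin 3) (.splitN 2000705 (.split 3 157 (.split 1 223 (.split 0
    245 (.split 4 268 (.splitN 1682636 (.wt 1) (.wt 0)) (.lin 3)) (.splitN 1845102 (.wt 0) (.wt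
    1))) (.lin 2)) (.wt 0)) (.wt 1)))) (.lin 0))) (.wt 2))) (.lin 1))) (.wt 2)))) (.lin 2))) (.wt
    2))) (.lin 1))) (.lin 1))))) (.lin 2)))

def cert5_135_3 : Cert :=
  (.split 6 62 (.split 2 (-36) (.lin 9) (.split 0 238 (.split 4 268 (.splitN 1031682 (.wt 1)
    (.split 3 117 (.wt 0) (.split 5 (-292) (.split 3 218 (.wt 2) (.split 5 (-391) (.split 6 54
    (.wt 1) (.split 2 (-35) (.split 0 118 (.wt 6) (.split 3 246 (.wt 6) (.split 5 (-436) (.split
    3 508 (.split 5 (-797) (.lin 1) (.split 1 565 (.split 0 165 (.wt 2) (.split 4 195 (.lin 3)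
    (.split 3 270 (.wt 2) (.split 5 (-508) (.split 1 339 (.lin 2) (.split 0 170 (.wt 1) (.split 3
    287 (.wt 6) (.split 5 (-535) (.split 1 357 (.lin 2) (.split 3 398 (.split 0 195 (.wt 1)
    (.split 4 222 (.lin 3) (.split 0 216 (.wt 1) (.split 5 (-580) (.split 4 249 (.lin 3) (.wt 1))
    (.lin 1))))) (.split 5 (-643) (.split 1 465 (.lin 2) (.split 0 203 (.wt 1) (.wt 0))) (.lin
    1)))) (.lin 1))))) (.lin 1))))) (.lin 2))) (.split 5 (-697) (.split 1 573 (.lin 2) (.split 0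
    129 (.wt 1) (.split 4 159 (.lin 3) (.split 0 134 (.wt 1) (.split 4 168 (.lin 3) (.split 0 197
    (.split 3 9208 (.split 5 (-9464) (.lin 1) (.split 0 142 (.wt 1) (.split 4 177 (.lin 3)
    (.split 3 1662 (.split 5 (-1913) (.lin 1) (.split 0 159 (.wt 1) (.split 3 992 (.split 0 170
    (.wt 1) (.split 4 204 (.lin 3) (.wt 0))) (.wt 0)))) (.wt 0))))) (.wt 3)) (.wt 0))))))) (.lin
    1))) (.lin 1)))) (.lin 9))) (.lin 1))) (.lin 1)))) (.lin 3)) (.split 5 (-409) (.split 4 258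
    (.lin 3) (.split 3 238 (.split 1 295 (.split 6 55 (.wt 1) (.split 2 (-35) (.split 1 177 (.lin
    11) (.split 3 118 (.wt 6) (.split 0 490 (.split 4 511 (.splitN 3045112 (.wt 1) (.split 3 132
    (.wt 0) (.split 5 (-436) (.split 1 195 (.lin 2) (.split 3 147 (.wt 1) (.split 1 213 (.lin 2)
    (.split 3 154 (.wt 1) (.split 0 266 (.wt 2) (.split 5 (-490) (.split 4 294 (.lin 3) (.split 0
    277 (.wt 1) (.split 4 312 (.lin 3) (.split 3 175 (.wt 1) (.split 5 (-526) (.split 1 240 (.lin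
    2) (.split 0 343 (.wt 1) (.split 4 375 (.lin 3) (.split 3 208 (.wt 1) (.wt 0))))) (.lin
    1)))))) (.lin 1))))))) (.lin 1)))) (.lin 3)) (.split 5 (-679) (.split 4 519 (.lin 3) (.split
    3 197 (.split 0 518 (.wt 1) (.split 3 141 (.wt 1) (.split 1 204 (.lin 2) (.split 0 1882
    (.split 3 175 (.wt 1) (.wt 0)) (.wt 0))))) (.wt 0))) (.lin 1))))) (.lin 9))) (.lin 2))
    (.split 5 (-535) (.split 1 294 (.lin 2) (.split 6 53 (.wt 1) (.split 2 (-35) (.split 0 318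
    (.split 4 340 (.split 1 553 (.split 5 (-860) (.lin 0) (.split 3 309 (.split 0 260 (.wt 1)
    (.split 4 294 (.lin 3) (.wt 3))) (.wt 0))) (.wt 0)) (.lin 3)) (.wt 0)) (.lin 9)))) (.lin
    1)))) (.lin 1)))) (.split 5 (-301) (.split 2 (-44) (.split 1 186 (.lin 11) (.split 0 850
    (.split 4 871 (.split 3 809 (.split 5 (-1724) (.lin 1) (.split 1 880 (.split 0 311 (.split 5
    (-1184) (.lin 1) (.split 4 331 (.split 3 304 cert5_135_2 (.split 5 (-499) (.split 1 384 (.lin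
    2) (.split 0 199 (.split 5 (-1076) (.lin 1) (.split 0 148 (.split 5 (-1022) (.lin 1) (.split
    4 169 (.split 3 560 (.split 5 (-770) (.lin 1) (.split 1 628 (.split 0 128 (.split 4 151
    (.split 3 385 (.wt 2) (.split 5 (-580) (.split 1 465 (.lin 2) (.split 3 475 (.split 5 (-671)
    (.lin 1) (.split 0 117 (.wt 2) (.split 4 150 (.lin 3) (.splitN 1577190 (.wt 1) (.split 3 436
    (.split 5 (-626) (.lin 1) (.split 1 502 (.splitN 1743368 .cand (.wt 3)) (.lin 2))) (.wt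
    2)))))) (.split 5 (-670) (.split 1 555 (.lin 2) (.split 0 121 (.split 4 142 (.splitN 1628836
    (.wt 1) (.wt 0)) (.lin 3)) (.wt 2))) (.lin 1)))) (.lin 1))) (.lin 3)) (.split 4 159 (.lin 3)
    (.splitN 2350015 (.split 3 428 (.split 5 (-635) (.lin 1) (.split 1 493 (.splitN 2047485
    (.split 3 396 (.split 1 466 (.split 0 139 (.split 4 160 (.split 3 323 (.wt 2) (.split 5
    (-535) (.splitN 1543159 (.wt 3) (.split 3 350 (.split 5 (-554) (.lin 1) (.split 1 421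
    (.splitN 1700978 .cand (.wt 1)) (.lin 2))) (.wt 2))) (.lin 1))) (.lin 3)) (.wt 2)) (.lin 2))
    (.wt 0)) (.wt 1)) (.lin 2))) (.wt 0)) (.wt 1)))) (.lin 2))) (.split 5 (-751) (.split 1 636
    (.lin 2) (.splitN 2601812 (.splitN 1718028 (.wt 3) (.split 0 123 (.split 4 142 (.splitN
    2067927 (.split 3 697 (.split 5 (-878) (.lin 1) (.split 3 615 (.split 5 (-797) (.lin 1)
    (.split 1 682 (.split 3 587 (.wt 2) (.splitN 1831469 .cand (.wt 1))) (.lin 2))) (.wt 2)))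
    (.wt 0)) (.wt 1)) (.lin 3)) (.wt 0))) (.wt 1))) (.lin 1))) (.lin 3))) (.wt 2))) (.wt 0)))
    (.lin 1))) (.lin 3))) (.split 5 (-499) (.split 4 339 (.lin 3) (.split 3 170 (.split 5 (-1085)
    (.lin 1) (.split 1 241 (.splitN 14833224 (.split 3 165 (.split 0 596 (.split 5 (-824) (.lin
    1) (.split 4 619 (.split 3 137 (.split 1 205 (.split 0 452 (.split 5 (-653) (.lin 1) (.split
    4 493 (.split 3 124 (.split 0 331 (.wt 2) (.split 5 (-526) (.split 4 366 (.lin 3) (.split 0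
    394 (.split 5 (-590) (.lin 1) (.split 4 430 (.split 3 117 (.wt 2) (.split 0 367 (.split 4 394
    (.split 1 196 (.splitN 2129477 (.splitN 1952542 (.wt 6) .cand) (.wt 0)) (.lin 2)) (.lin 3))
    (.split 5 (-571) (.split 4 393 (.lin 0) (.split 1 191 (.lin 2) (.wt 2))) (.lin 1)))) (.lin
    0))) (.split 5 (-589) (.split 4 411 (.lin 0) (.split 3 121 (.split 1 187 (.splitN 2154685
    (.wt 1) (.wt 0)) (.lin 2)) (.wt 2))) (.lin 1)))) (.lin 1))) (.split 1 204 (.lin 2) (.splitN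
    2398445 (.split 0 334 (.split 5 (-536) (.lin 1) (.split 4 358 (.splitN 2040944 (.wt 0) (.wt
    1)) (.lin 0))) (.wt 0)) (.wt 6)))) (.lin 0))) (.split 5 (-643) (.split 4 465 (.lin 0)
    (.splitN 3229159 (.split 3 121 (.split 5 (-779) (.lin 1) (.split 1 187 (.splitN 2798963
    (.split 0 541 (.split 5 (-725) (.lin 1) (.split 0 490 (.split 5 (-671) (.lin 1) (.split 4 511
    (.split 0 470 (.wt 2) (.split 4 501 (.lin 3) (.splitN 2423517 (.wt 0) (.wt 1)))) (.lin 0)))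
    (.wt 2))) (.wt 0)) (.wt 1)) (.lin 2))) (.wt 0)) (.wt 1))) (.lin 1))) (.lin 2)) (.wt 2)) (.lin
    3))) (.wt 2)) (.wt 0)) (.wt 1)) (.lin 2))) (.wt 0))) (.lin 1))) (.lin 2))) (.split 1 888
    (.lin 2) (.wt 2))) (.lin 3)) (.split 4 879 (.lin 3) (.wt 0)))) (.lin 9)) (.lin 6)))

def cert5_135_4 : Cert :=
  (.split 0 336 (.split 3 336 (.split 5 (-752) (.lin 1) (.split 1 421 (.split 0 303 (.split 4 331
    (.split 3 303 (.split 5 (-680) (.lin 1) (.split 1 385 (.split 0 205 (.split 5 (-590) (.lin 1)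
    (.split 4 241 (.split 3 205 (.split 5 (-500) (.lin 1) (.split 1 295 (.split 0 160 (.split 5
    (-455) (.lin 1) (.split 4 196 (.split 3 160 (.split 5 (-410) (.lin 1) (.split 1 250 (.split 0
    137 (.split 5 (-383) (.lin 1) (.split 4 169 (.split 4 160 (.splitN 547581 (.wt 1) (.split 6
    81 (.wt 2) (.split 2 (-62) (.split 3 146 (.split 1 232 (.splitN 709899 .cand (.wt 3)) (.lin
    2)) (.split 5 (-355) (.split 1 240 (.lin 2) (.split 0 122 (.split 4 142 (.splitN 632886 (.wt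
    1) (.wt 0)) (.lin 3)) (.wt 2))) (.lin 1))) (.lin 9)))) (.lin 12)) (.lin 3))) (.split 5 (-337)
    (.split 4 159 (.lin 3) (.split 4 168 (.lin 12) (.split 3 137 (.split 5 (-383) (.lin 1)
    (.split 1 223 (.splitN 589734 (.wt 1) (.split 6 81 (.wt 2) (.split 2 (-62) (.splitN 756845
    .cand (.wt 1)) (.lin 9)))) (.lin 2))) (.split 5 (-364) (.split 1 222 (.lin 2) (.split 6 85
    (.split 2 (-54) (.lin 9) (.splitN 796558 (.wt 1) (.split 0 151 (.split 4 178 (.split 3 144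
    (.wt 0) (.split 0 144 (.wt 2) (.split 4 177 (.lin 3) (.splitN 928176 (.split 3 152 (.wt 2)
    (.split 1 240 (.lin 2) (.wt 0))) (.wt 1))))) (.lin 3)) (.split 4 186 (.lin 3) (.splitN 973996
    (.split 3 153 (.split 1 232 (.split 3 142 (.wt 2) (.splitN 930312 (.wt 0) (.wt 1))) (.lin 2))
    (.wt 0)) (.wt 1)))))) (.wt 2))) (.lin 1))))) (.lin 1))) (.lin 2))) (.split 5 (-364) (.split 1
    249 (.lin 2) (.split 0 150 (.split 4 178 (.split 4 169 (.split 6 88 (.split 5 (-428) (.lin 6)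
    (.split 2 (-54) (.lin 9) (.split 0 118 (.wt 2) (.split 4 150 (.lin 3) (.split 3 187 (.split 1
    268 (.splitN 776965 (.wt 1) (.split 0 127 (.wt 2) (.splitN 952420 .cand (.wt 1)))) (.lin 2))
    (.split 5 (-400) (.split 0 129 (.split 4 151 (.split 1 290 (.wt 2) (.lin 2)) (.lin 3)) (.wt
    2)) (.lin 1))))))) (.wt 2)) (.lin 12)) (.lin 3)) (.wt 2))) (.lin 1))) (.lin 3))) (.split 5
    (-364) (.split 4 186 (.lin 3) (.splitN 1419585 (.split 3 183 (.split 5 (-473) (.lin 1)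
    (.split 3 146 (.split 5 (-437) (.lin 1) (.split 1 232 (.split 6 87 (.split 2 (-54) (.lin 9)
    (.split 3 128 (.split 5 (-410) (.lin 1) (.split 1 205 (.splitN 1033880 (.split 0 188 (.wt 2)
    (.split 5 (-391) (.split 4 222 (.lin 3) (.splitN 894427 (.wt 1) .cand)) (.lin 1))) (.wt 3))
    (.lin 2))) (.split 1 213 (.lin 2) (.splitN 804733 (.wt 3) (.split 0 185 (.split 5 (-401)
    (.lin 1) (.split 4 214 (.splitN 994780 .cand (.wt 1)) (.lin 0))) (.wt 2)))))) (.wt 2)) (.lin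
    2))) (.wt 2))) (.wt 0)) (.wt 1))) (.lin 1))) (.lin 2))) (.split 5 (-409) (.split 1 294 (.lin
    2) (.splitN 1342846 (.split 0 147 (.split 5 (-527) (.lin 1) (.split 4 169 (.splitN 1088735
    (.split 6 87 (.split 2 (-54) (.lin 9) (.split 0 124 (.split 5 (-500) (.lin 1) (.split 3 249
    (.split 5 (-446) (.lin 1) (.split 1 322 (.split 0 123 (.split 4 142 (.splitN 837920 (.wt 1)
    (.split 3 232 (.wt 0) (.split 1 321 (.lin 2) (.wt 2)))) (.lin 3)) (.wt 2)) (.lin 2))) (.wt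
    2))) (.wt 2))) (.wt 0)) (.wt 1)) (.lin 12))) (.wt 0)) (.wt 1))) (.lin 1))) (.lin 3))) (.split
    5 (-409) (.split 4 231 (.lin 3) (.splitN 1599097 (.split 3 140 (.split 5 (-518) (.lin 1)
    (.split 1 223 (.splitN 1201303 (.split 0 272 (.split 5 (-491) (.lin 1) (.split 4 304 (.split
    3 129 (.split 6 85 (.split 2 (-54) (.lin 9) (.split 1 205 (.splitN 1110839 (.split 0 252
    (.split 5 (-455) (.lin 1) (.split 0 228 (.split 5 (-428) (.lin 1) (.split 4 259 (.splitN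
    1023350 (.split 3 121 (.splitN 937577 (.wt 1) .cand) (.wt 0)) (.wt 1)) (.lin 0))) (.wt 2)))
    (.wt 0)) (.wt 1)) (.lin 11))) (.wt 0)) (.wt 0)) (.lin 3))) (.wt 0)) (.wt 1)) (.lin 2))) (.wt
    0)) (.wt 1))) (.lin 1))) (.lin 2))) (.wt 2)) (.lin 3)) (.wt 2)) (.lin 2))) (.wt 2)) (.wt 2))

def cert5_135_5 : Cert :=
  (.split 3 112 (.split 1 205 (.split 0 125 (.wt 2) (.split 5 (-229) (.split 4 159 (.lin 12)
    (.split 3 57 (.wt 2) (.split 5 (-247) (.split 6 62 (.wt 2) (.split 5 (-265) (.split 2 (-35)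
    (.split 1 132 (.lin 11) (.split 7 (-33) (.split 2 (-54) (.lin 9) (.split 4 168 (.lin 12)
    (.splitN 226593 (.split 5 (-1247) (.div 5) (.split 4 1168 (.split 0 1114 (.splitN 201171
    (.split 5 (-1103) (.div 5) (.split 4 1024 (.splitN 163556 (.wt 1) (.split 0 280 (.wt 0)
    (.split 5 (-418) .sq (.lin 1)))) (.lin 0))) (.wt 0)) (.lin 1)) (.lin 0))) (.wt 0)))) (.split
    2 (-44) (.split 0 274 (.split 5 (-464) (.lin 1) (.split 4 376 (.split 4 313 (.split 4 295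
    (.splitN 481748 (.wt 1) (.split 3 67 (.wt 0) (.split 0 151 (.wt 2) (.split 5 (-301) (.split 4
    186 (.lin 12) (.split 3 81 (.wt 2) (.split 5 (-319) (.split 1 159 (.lin 2) (.split 6 77 (.wt
    2) (.split 2 (-53) (.split 1 168 (.lin 11) (.splitN 555977 (.wt 1) (.split 0 214 (.split 5
    (-410) (.lin 1) (.split 4 277 (.split 4 250 (.splitN 590025 (.wt 1) (.split 3 89 (.wt 2)
    (.split 5 (-337) (.split 0 160 (.wt 2) (.split 6 81 (.wt 2) (.split 2 (-62) (.split 0 191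
    (.split 5 (-383) (.lin 1) (.split 4 214 (.split 3 98 (.wt 2) (.splitN 734860 .cand (.wt 1)))
    (.lin 3))) (.splitN 781516 .cand (.wt 1))) (.lin 9)))) (.lin 1)))) (.lin 3)) (.lin 0)))
    (.split 5 (-391) (.split 4 240 (.lin 3) (.split 6 84 (.split 2 (-54) (.lin 9) (.split 1 187
    (.splitN 1094021 (.splitN 880417 (.wt 1) (.split 3 98 (.wt 0) (.split 1 186 (.lin 2) (.split
    0 252 (.wt 2) (.split 5 (-445) (.split 4 285 (.lin 0) (.splitN 997183 (.wt 0) .cand)) (.lin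
    1)))))) (.wt 0)) (.lin 11))) (.split 2 (-62) (.split 1 177 (.lin 11) (.splitN 867685 (.splitN
    667871 (.wt 3) (.split 3 98 (.split 1 187 (.split 3 93 (.split 0 236 (.wt 2) (.splitN 812466
    .cand (.wt 1))) (.wt 2)) (.lin 2)) (.wt 0))) (.wt 1))) (.lin 9)))) (.lin 1))))) (.lin 9))))
    (.lin 1)))) (.lin 1))))) (.lin 12)) (.lin 3)) (.lin 0))) (.split 5 (-409) (.split 4 285 (.lin
    3) (.split 4 303 (.lin 12) cert5_135_1)) (.lin 1))) (.lin 9)))) (.lin 9)) (.lin 7))) (.lin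
    7)))) (.lin 1))) (.lin 2)) (.split 5 (-274) (.split 1 159 (.lin 2) (.split 1 168 (.lin 11)
    (.split 6 71 (.split 2 (-45) (.lin 9) (.split 7 (-33) (.split 2 (-36) (.lin 9) (.split 4 150
    (.lin 12) (.splitN 1950162 (.split 5 (-10823) (.div 5) (.split 1 10726 (.split 0 10654
    (.split 3 10654 (.split 4 10708 (.splitN 1584158 (.split 5 (-8789) (.div 5) (.split 1 8692
    (.split 3 8620 (.split 4 8674 (.splitN 488982 (.split 1 5408 (.split 5 (-2705) (.div 5)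
    (.split 1 2608 (.split 0 2536 (.split 3 2536 (.split 4 2590 (.splitN 444708 (.split 5 (-2471)
    (.div 5) (.split 3 2302 (.split 4 2356 (.split 0 139 (.wt 2) (.split 5 (-310) (.split 4 177
    (.lin 12) (.split 3 141 (.wt 2) (.split 5 (-337) (.split 1 195 (.lin 2) (.split 0 143 (.wt 2)
    (.split 3 143 (.wt 2) (.split 5 (-355) (.splitN 246194 .sq (.split 6 54 (.wt 2) (.split 2
    (-26) (.split 1 213 (.lin 11) (.splitN 377735 (.split 5 (-2093) (.div 5) (.split 1 1960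
    (.split 3 1888 (.split 0 379 (.split 4 421 (.splitN 357708 (.split 5 (-1985) (.div 5) (.split
    3 1780 (.splitN 289685 (.split 5 (-1607) (.div 5) (.split 3 1402 (.split 0 177 (.wt 0)
    (.split 5 (-391) (.split 4 204 (.lin 3) .sq) (.lin 1))) (.lin 6))) (.wt 3)) (.lin 6))) (.wt
    0)) (.lin 3)) .sq) (.lin 6)) (.lin 0))) (.wt 3))) (.lin 9)))) (.lin 1))))) (.lin 1)))) (.lin
    1))) (.lin 0)) (.lin 6))) (.wt 3)) (.lin 0)) (.lin 6)) (.lin 1)) (.lin 0))) (.div 1)) (.wt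
    3)) (.lin 0)) (.lin 6)) (.lin 0))) (.wt 0)) (.lin 0)) (.lin 6)) (.lin 1)) (.lin 0))) (.wt
    0)))) (.split 2 (-26) cert5_135_3 (.lin 9)))) (.split 5 (-301) (.split 2 (-44) (.split 1 195
    (.lin 11) (.splitN 184751 .sq (.split 7 (-33) (.split 2 (-54) (.lin 9) (.split 4 150 (.lin
    12) (.splitN 302858 (.split 5 (-1679) (.div 5) (.split 1 1573 (.split 4 1528 (.splitN 288338
    (.split 0 333 (.split 4 376 (.split 1 369 (.split 3 286 (.splitN 227950 (.split 0 125 (.wt 0)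
    (.split 5 (-328) (.split 4 168 (.lin 12) (.splitN 215180 .sq (.split 0 171 (.wt 0) (.split 5
    (-373) (.split 4 204 (.lin 3) .sq) (.lin 1))))) (.lin 1))) (.wt 3)) (.lin 2)) .sq) (.lin 3))
    .sq) (.wt 1)) (.lin 0)) (.lin 0))) (.wt 1)))) (.split 2 (-53) cert5_135_4 (.lin 9))))) (.lin
    9)) (.lin 6))))) (.lin 1)))

def cert5_135_6 : Cert :=
  (.split 4 45079 (.split 0 44953 (.splitN 7594622 (.split 0 107 (.wt 2) (.split 5 (-238) (.split
    4 141 (.lin 12) (.split 3 34 (.wt 2) (.split 5 (-256) (.split 1 141 (.lin 11) (.split 0 2733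
    (.split 5 (-2984) (.lin 1) (.split 4 2977 (.split 4 2761 (.split 6 99 (.wt 2) (.split 2 (-71)
    (.split 1 150 (.lin 11) (.splitN 3346802 (.split 0 1793 (.split 5 (-2048) (.lin 1) (.split 4
    2023 (.split 4 1915 (.splitN 2736078 (.split 0 1614 (.split 5 (-1868) (.lin 1) (.split 4 1645
    (.splitN 2542818 (.split 4 1555 (.split 0 1528 (.split 5 (-1571) .sq (.split 0 1429 (.split 4
    1456 (.split 0 115 (.wt 2) (.split 5 (-274) (.split 4 150 (.lin 12) (.splitN 155177 .sq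
    (.split 7 (-33) (.splitN 178536 (.split 5 (-977) (.div 5) (.split 0 826 (.split 4 862
    (.splitN 169060 (.split 5 (-923) (.div 5) (.split 4 808 (.split 0 412 (.wt 0) (.split 5
    (-571) .sq (.lin 1))) (.lin 6))) (.wt 0)) (.lin 6)) (.lin 1))) (.wt 0)) (.split 2 (-80)
    (.splitN 2210405 (.split 5 (-1460) .sq (.split 0 1303 (.split 4 1330 (.split 6 152 (.split 2
    (-126) (.lin 9) (.split 1 205 (.splitN 323900 (.wt 1) (.splitN 1169426 (.split 0 175 (.wt 2)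
    (.split 5 (-328) (.split 4 204 (.lin 12) (.split 0 987 (.split 5 (-1184) (.lin 1) (.split 4
    1105 (.split 4 1006 (.splitN 1054798 (.split 6 108 (.wt 2) (.split 2 (-89) (.split 1 159
    (.lin 11) (.split 5 (-965) .sq (.split 4 862 (.split 0 799 (.splitN 955544 (.split 5 (-912)
    .sq (.split 4 808 (.split 0 745 (.split 0 364 (.split 5 (-563) (.lin 1) (.split 4 421 (.split
    4 385 (.split 0 202 (.wt 2) (.split 5 (-364) (.split 3 45 (.wt 2) (.split 6 127 (.wt 2)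
    (.split 2 (-107) (.split 1 186 (.lin 11) (.split 0 281 (.split 5 (-482) (.lin 1) (.split 4
    304 (.splitN 522345 .cand (.wt 3)) (.lin 12))) (.split 5 (-472) (.split 4 312 (.lin 12)
    (.splitN 564558 (.split 6 142 (.split 2 (-108) (.lin 9) (.split 1 187 (.splitN 506843 (.wt 1)
    (.split 0 312 (.wt 0) (.split 5 (-499) (.split 0 333 (.wt 2) (.split 5 (-526) (.split 4 366
    (.lin 0) .sq) (.lin 1))) (.lin 1)))) (.lin 11))) (.wt 2)) (.wt 1))) (.lin 1)))) (.lin 9))))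
    (.lin 1))) (.lin 12)) (.lin 3))) (.split 5 (-526) (.split 4 393 (.lin 12) (.splitN 616211 .sq
    (.split 3 43 (.wt 0) (.split 4 763 (.split 6 133 (.split 2 (-99) (.lin 9) (.split 1 178
    (.splitN 698227 (.split 0 428 (.wt 0) (.split 5 (-598) (.split 4 438 (.lin 0) .sq) (.lin 1)))
    (.wt 3)) (.lin 11))) (.wt 1)) (.lin 6))))) (.lin 1))) (.lin 1)) (.lin 0))) (.wt 3)) (.lin 1))
    (.lin 0)))) (.lin 9))) (.wt 3)) (.lin 12)) (.lin 0))) .sq)) (.lin 1))) (.wt 3))) (.lin 11)))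
    (.split 5 (-328) (.split 2 (-134) (.split 1 204 (.lin 11) (.splitN 1030253 (.split 0 899
    (.split 5 (-1148) (.lin 1) (.split 5 (-950) .sq (.split 4 808 (.split 0 745 (.split 0 303
    (.split 5 (-545) (.lin 1) (.split 4 322 (.split 0 214 (.split 4 241 (.splitN 520432 (.split 0
    136 (.wt 2) (.split 5 (-346) (.split 4 168 (.lin 12) (.splitN 338909 (.wt 1) (.split 3 44
    (.wt 2) .cand))) (.lin 1))) (.wt 3)) (.lin 12)) (.split 5 (-427) (.split 4 249 (.lin 12)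
    (.split 3 51 (.splitN 448744 (.splitN 411361 (.wt 1) (.split 0 255 (.wt 0) (.split 5 (-463)
    (.split 4 285 (.lin 12) .sq) (.lin 1)))) (.wt 0)) (.wt 2))) (.lin 1))) (.lin 12))) (.split 5
    (-508) (.split 4 330 (.lin 12) (.splitN 548576 .sq (.splitN 636113 (.split 3 51 (.split 6 180
    (.split 1 223 (.splitN 602082 (.split 0 396 (.wt 0) (.split 5 (-607) (.split 4 429 (.lin 12)
    .sq) (.lin 1))) (.wt 3)) (.lin 11)) (.wt 1)) (.wt 0)) (.wt 1)))) (.lin 1))) (.lin 1)) (.lin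
    0)))) .sq) (.wt 1))) (.lin 9)) (.lin 6))) (.lin 6)) (.lin 1))) (.wt 3)) (.lin 9))))) (.lin
    4))) (.lin 6)) (.lin 1))) (.lin 12)) .sq) (.wt 3)) (.lin 12))) .sq) (.wt 3)) (.lin 3)) (.lin
    0))) .sq) (.wt 3))) (.lin 9))) (.lin 12)) (.lin 0))) .sq)) (.lin 7)))) (.lin 1))) (.wt 3))
    (.lin 1)) (.lin 0))

def cert5_135_7 : Cert :=
  (.split 6 204 (.split 2 (-171) (.lin 9) (.split 1 250 (.splitN 8115514 (.split 5 (-45077) (.div
    5) cert5_135_6) (.wt 3)) (.lin 11))) (.split 5 (-292) (.split 2 (-170) (.split 1 240 (.lin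
    11) (.splitN 228086 .sq (.split 7 (-37) (.wt 3) (.split 2 (-179) (.split 0 130 (.split 4 151
    (.splitN 658926 (.split 1 7316 (.split 2 (-7254) (.lin 2) (.split 5 (-14513) (.lin 0) (.split
    6 7343 (.split 2 (-3659) (.div 2) (.split 1 3733 (.split 6 3743 (.splitN 621116 (.split 5
    (-3443) (.div 5) (.split 6 3347 (.split 0 61 (.wt 2) (.split 5 (-310) (.split 4 96 (.lin 12)
    (.split 3 35 (.wt 2) (.split 1 657 (.split 2 (-585) (.lin 2) (.split 5 (-788) (.lin 1)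
    (.split 6 665 (.split 6 611 (.splitN 486482 (.split 0 74 (.wt 2) (.split 5 (-328) (.split 4
    105 (.lin 12) (.split 1 530 (.split 2 (-459) (.lin 2) (.split 5 (-662) (.lin 1) (.split 6 485
    (.splitN 457091 (.split 0 79 (.wt 2) (.split 4 114 (.lin 12) (.split 6 217 (.wt 2) (.split 5
    (-355) (.split 2 (-197) (.split 1 267 (.lin 11) (.split 5 (-520) .sq (.split 1 430 (.split 6
    386 (.splitN 423641 (.split 3 43 (.wt 2) .cand) (.wt 3)) (.lin 6)) (.lin 8)))) (.lin 9))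
    (.lin 6))))) (.wt 3)) (.lin 9)))) .sq)) (.lin 1))) (.wt 3)) (.lin 9)) (.lin 3)))) .sq)))
    (.lin 1))) (.lin 6))) (.wt 3)) (.lin 3)) (.lin 2))) (.lin 3)))) (.div 1)) (.wt 3)) (.lin 12))
    (.split 5 (-373) (.split 4 159 (.lin 12) (.splitN 316916 .sq (.splitN 2547742 (.split 2
    (-14153) (.div 2) (.split 1 14227 (.split 5 (-14153) (.div 5) (.split 0 1499 (.split 4 1519
    (.splitN 2160000 (.split 2 (-11993) (.div 2) (.split 0 1363 (.split 4 1384 (.split 1 1378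
    (.split 2 (-1314) (.lin 2) (.split 5 (-2750) (.lin 1) (.splitN 1810200 (.split 0 1228 (.split
    5 (-1278) .sq (.split 1 1141 (.split 4 1060 (.splitN 1607142 (.split 5 (-1195) .sq (.split 1
    1060 (.split 4 979 (.split 3 43 (.split 6 459 (.split 2 (-432) (.lin 9) (.split 1 502
    (.splitN 1365771 (.split 5 (-1090) .sq (.split 4 871 (.split 0 335 (.split 5 (-833) (.lin 1)
    (.split 4 358 (.splitN 747323 (.split 5 (-754) .sq (.split 3 38 (.splitN 403512 (.splitN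
    378598 (.wt 6) (.split 0 291 (.wt 0) (.split 5 (-535) (.split 4 321 (.lin 12) .sq) (.lin
    1)))) (.wt 0)) (.splitN 620944 (.split 5 (-665) .sq (.split 6 332 (.split 2 (-306) (.lin 9)
    (.split 1 376 (.split 0 232 (.split 5 (-608) (.lin 1) (.split 4 259 (.splitN 496115 .cand
    (.wt 3)) (.lin 12))) (.split 5 (-490) (.split 4 267 (.lin 12) (.splitN 505196 .sq (.wt 1)))
    (.lin 1))) (.lin 11))) (.split 2 (-314) (.split 1 384 (.lin 11) (.split 5 (-517) .sq (.lin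
    1))) (.lin 9)))) (.wt 1)))) (.wt 3)) (.lin 12))) (.split 5 (-580) (.split 4 366 (.lin 12)
    (.splitN 721187 .sq (.split 0 559 (.split 4 583 (.split 3 34 (.wt 0) (.wt 1)) (.lin 12)) (.wt
    1)))) (.lin 1))) (.lin 6))) (.wt 1)) (.lin 11))) (.split 2 (-440) (.split 1 501 (.lin 11)
    (.split 5 (-634) (.splitN 1110878 .sq (.wt 1)) (.lin 1))) (.lin 9))) (.split 1 258 (.lin 2)
    (.splitN 567553 (.splitN 346152 (.wt 3) (.split 0 237 (.split 4 259 (.splitN 496927 (.split 0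
    206 (.split 4 232 (.split 6 361 (.split 2 (-333) (.lin 9) (.split 1 412 (.split 5 (-617)
    (.lin 1) (.splitN 444048 (.split 0 177 (.split 5 (-581) (.lin 1) (.split 4 196 (.split 6 295
    (.split 2 (-261) (.lin 9) (.split 1 340 (.split 5 (-509) (.lin 1) (.splitN 417084 (.split 0
    164 (.split 6 269 (.split 5 (-482) (.lin 7) (.split 0 146 (.split 4 169 (.split 6 225 (.split
    2 (-207) (.lin 3) (.split 1 277 (.split 5 (-446) (.lin 0) (.splitN 389737 .cand (.wt 1)))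
    (.lin 11))) (.wt 2)) (.lin 12)) (.wt 2))) (.wt 0)) (.wt 0)) (.wt 1))) (.lin 11))) (.wt 0))
    (.lin 12))) (.wt 0)) (.wt 1))) (.lin 11))) (.wt 0)) (.lin 12)) (.wt 0)) (.wt 1)) (.lin 12))
    (.wt 0))) (.wt 1)))) (.lin 6)) (.lin 8))) (.wt 1)) (.lin 6)) (.lin 8))) .sq) (.wt 1)))) .sq)
    (.lin 12)) .sq)) (.wt 1)) (.lin 12)) .sq)) (.lin 2))) (.wt 1)))) (.lin 1))) (.lin 9)))))
    (.lin 9)) (.lin 6)))

def cert5_135_8 : Cert :=
  (.split 6 147 (.split 5 (-392) (.lin 6) (.split 2 (-117) (.lin 9) (.split 1 268 (.splitN 261893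
    (.wt 1) (.split 0 66 (.wt 2) (.split 4 96 (.lin 12) (.split 3 66 (.wt 2) (.split 5 (-238)
    (.split 1 168 (.lin 2) (.split 0 97 (.split 5 (-365) (.lin 1) (.split 4 124 (.split 3 82 (.wt
    2) (.split 5 (-256) (.split 1 186 (.lin 2) (.split 6 106 (.wt 2) (.split 2 (-80) (.split 6
    125 (.split 2 (-99) (.lin 9) (.split 1 250 (.splitN 338767 (.wt 1) (.split 0 71 (.wt 0)
    (.split 5 (-274) (.split 0 80 (.wt 2) (.split 4 114 (.lin 12) (.splitN 358815 (.wt 1) (.split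
    3 88 (.wt 0) (.split 5 (-292) (.split 3 98 (.wt 2) (.split 6 108 (.wt 2) (.split 5 (-310)
    (.split 2 (-89) (.split 1 222 (.lin 11) (.split 3 115 (.split 5 (-338) (.lin 1) (.splitN
    473094 (.split 6 120 (.split 2 (-90) (.lin 9) (.splitN 423331 (.wt 1) .cand)) (.split 2 (-98)
    (.split 0 96 (.split 4 115 (.splitN 407810 (.wt 6) (.split 1 248 (.wt 0) (.split 5 (-337)
    (.lin 1) (.lin 0)))) (.lin 3)) (.wt 2)) (.lin 9))) (.wt 3))) (.split 5 (-328) (.split 1 240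
    (.lin 2) (.splitN 459802 (.split 0 96 (.split 5 (-338) (.lin 1) (.split 4 115 (.splitN 433808
    (.split 6 122 (.split 2 (-90) (.lin 3) (.splitN 400878 (.wt 1) (.wt 0))) (.wt 0)) (.wt 3))
    (.lin 12))) (.wt 0)) (.wt 1))) (.lin 1)))) (.lin 9)) (.lin 6)))) (.lin 1)))))) (.lin 1))))
    (.lin 11))) (.split 5 (-292) (.split 2 (-107) (.split 1 222 (.lin 11) (.splitN 522045 (.split
    0 70 (.wt 2) (.split 4 105 (.lin 12) (.split 3 106 (.split 1 250 (.splitN 333860 (.wt 1)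
    (.split 0 88 (.split 4 115 (.split 0 79 (.wt 2) (.split 4 114 (.lin 12) .cand)) (.lin 12))
    (.split 5 (-319) (.split 4 123 (.lin 12) (.splitN 420599 (.splitN 376140 (.wt 3) (.split 3 97
    (.split 5 (-338) (.lin 1) (.split 3 93 (.split 6 135 (.wt 0) (.wt 2)) (.wt 2))) (.wt 0)))
    (.wt 1))) (.lin 1)))) (.lin 2)) (.split 5 (-328) (.split 1 249 (.lin 2) (.splitN 418581
    (.split 0 87 (.split 4 106 (.split 6 141 (.split 2 (-108) (.lin 3) (.split 5 (-338) (.lin 1)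
    (.splitN 380259 (.wt 1) (.split 3 121 (.wt 0) (.split 1 255 (.lin 2) (.wt 2)))))) (.wt 2))
    (.lin 12)) (.wt 0)) (.wt 1))) (.lin 1))))) (.wt 1))) (.lin 9)) (.lin 6))) (.lin 9)))) (.lin
    1))) (.lin 12))) (.split 5 (-274) (.split 4 132 (.lin 12) (.split 3 97 (.split 5 (-365) (.lin
    1) (.split 1 241 (.split 6 105 (.wt 2) (.split 2 (-80) (.split 1 177 (.lin 11) (.split 6 125
    (.split 2 (-99) (.lin 9) (.splitN 369411 (.wt 1) (.split 3 71 (.wt 0) (.split 5 (-292)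
    (.split 6 116 (.split 5 (-338) (.lin 6) (.split 2 (-90) (.lin 9) (.splitN 408913 (.wt 1)
    (.split 3 80 (.wt 0) (.split 1 195 (.lin 2) (.split 0 107 (.wt 2) (.split 5 (-310) (.split 4
    141 (.lin 12) (.split 6 111 (.split 2 (-81) (.lin 9) (.split 1 205 (.splitN 470420 (.wt 1)
    (.wt 0)) (.lin 11))) (.split 3 96 (.split 1 205 (.wt 2) (.lin 2)) (.wt 2)))) (.lin 1))))))))
    (.split 5 (-310) (.split 2 (-98) (.split 1 204 (.lin 11) (.split 3 94 (.split 0 107 (.wt 2)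
    (.split 4 141 (.lin 3) (.split 3 86 (.split 1 205 (.splitN 416176 (.wt 1) (.wt 0)) (.lin 2))
    (.wt 2)))) (.wt 2))) (.lin 9)) (.lin 6))) (.lin 1))))) (.split 2 (-107) (.split 1 204 (.lin
    11) (.split 5 (-301) (.split 3 86 (.split 1 223 (.split 3 74 (.wt 2) (.splitN 445059 .cand
    (.wt 1))) (.lin 2)) (.wt 2)) (.lin 0))) (.lin 9)))) (.lin 9))) (.lin 2))) (.split 5 (-310)
    (.split 1 204 (.lin 2) (.splitN 396581 (.wt 3) (.split 6 115 (.split 2 (-81) (.lin 9) (.split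
    1 232 (.split 5 (-365) (.lin 0) (.splitN 429822 (.wt 1) (.split 6 102 (.split 2 (-72) (.lin
    9) (.splitN 605857 .cand (.wt 3))) (.split 2 (-80) (.splitN 539608 .cand (.wt 1)) (.lin
    9))))) (.lin 11))) (.wt 2)))) (.lin 1)))) (.lin 1)))) (.lin 1)))))) (.lin 11)))) (.split 5
    (-274) (.split 2 (-125) (.split 1 213 (.lin 11) (.split 0 92 (.split 5 (-410) (.lin 1)
    (.split 4 115 (.split 3 69 (.wt 2) (.split 3 97 (.split 5 (-383) (.lin 1) (.split 1 295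
    (.splitN 448499 (.split 0 65 (.wt 2) (.split 5 (-292) (.split 4 96 (.lin 12) (.split 3 70
    (.wt 2) (.split 1 231 (.lin 2) (.split 0 79 (.split 4 106 (.split 3 79 (.wt 2) (.split 5
    (-310) (.split 6 157 (.wt 2) (.split 1 249 (.lin 11) (.split 6 179 (.split 2 (-162) (.lin 3)
    (.splitN 312704 (.wt 1) (.split 0 71 (.wt 2) (.split 4 105 (.lin 12) .cand)))) (.split 2
    (-152) (.split 2 (-161) (.split 1 276 (.lin 11) (.split 5 (-337) (.split 0 78 (.split 4 97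
    (.splitN 326231 (.splitN 316781 (.wt 1) .cand) (.wt 0)) (.lin 12)) (.wt 2)) (.lin 0))) (.lin
    9)) (.lin 3))))) (.lin 1))) (.lin 12)) (.split 5 (-319) (.split 4 114 (.lin 12) (.split 3 91
    (.split 6 180 (.split 2 (-153) (.lin 3) (.split 1 268 (.split 5 (-356) (.lin 1) (.split 6 152
    (.wt 2) (.split 2 (-134) (.split 3 86 (.splitN 356427 (.split 6 166 (.wt 1) (.split 2 (-143)
    (.split 1 249 (.lin 11) (.split 5 (-337) (.split 6 170 (.wt 1) (.wt 2)) (.lin 1))) (.lin 3)))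
    (.wt 3)) (.wt 2)) (.lin 3)))) (.lin 11))) (.wt 2)) (.wt 2))) (.lin 1)))))) (.lin 1))) (.wt
    3)) (.lin 2))) (.split 5 (-319) (.split 1 258 (.lin 2) (.split 0 70 (.split 4 97 (.split 6
    174 (.split 2 (-153) (.lin 3) (.split 2 (-144) (.lin 9) (.split 1 295 (.split 5 (-383) (.lin
    0) (.splitN 310058 (.wt 1) (.split 0 61 (.wt 0) (.split 4 96 (.lin 12) (.split 3 108 (.wt 2)
    (.split 5 (-337) (.split 6 153 (.wt 2) (.split 2 (-134) (.split 1 276 (.lin 11) (.splitN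
    334481 (.wt 3) (.split 6 169 (.split 2 (-135) (.lin 3) (.split 5 (-356) (.lin 1) (.split 3
    116 (.wt 2) (.splitN 357190 (.wt 0) (.wt 1))))) (.wt 1)))) (.lin 3))) (.lin 1))))))) (.lin
    11)))) (.split 2 (-143) (.split 2 (-152) (.split 1 285 (.lin 11) (.split 5 (-346) (.split 0
    65 (.split 4 88 (.splitN 314616 (.splitN 307882 (.wt 1) (.split 1 304 (.wt 0) (.split 5
    (-373) .sq (.lin 4)))) (.wt 0)) (.lin 12)) (.split 4 96 (.lin 12) (.splitN 337877 (.split 1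
    309 (.split 5 (-374) (.lin 4) (.wt 2)) (.wt 0)) (.wt 1)))) (.lin 1))) (.lin 9)) (.lin 3)))
    (.lin 12)) (.split 4 105 (.lin 12) (.wt 2)))) (.lin 1)))) (.lin 12))) (.split 5 (-310)
    (.split 4 123 (.lin 12) (.splitN 525492 (.split 3 100 (.split 5 (-419) (.lin 1) (.split 1 295
    (.split 3 83 (.split 1 277 (.split 3 70 (.split 5 (-392) (.lin 1) (.split 6 174 (.split 5
    (-365) (.lin 6) (.split 2 (-144) (.lin 9) (.split 1 241 (.split 0 98 (.wt 2) (.split 4 132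
    (.lin 12) (.split 3 65 (.wt 2) (.split 5 (-328) (.split 0 120 (.split 4 142 (.split 6 169
    (.split 0 106 (.wt 2) (.split 4 141 (.lin 12) (.split 6 155 (.split 1 223 (.splitN 381917
    (.wt 1) (.wt 0)) (.lin 11)) (.wt 2)))) (.wt 2)) (.lin 12)) (.wt 2)) (.lin 1))))) (.lin 11))))
    (.split 5 (-337) (.split 2 (-152) (.split 1 240 (.lin 11) (.split 0 110 (.split 4 133 (.split
    3 61 (.wt 2) (.splitN 373278 (.splitN 344533 (.wt 3) (.split 0 103 (.split 5 (-365) (.lin 1)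
    (.split 4 124 (.split 6 185 (.split 1 250 (.wt 0) (.lin 11)) (.wt 2)) (.lin 12))) (.wt 0)))
    (.wt 1))) (.lin 12)) (.split 4 141 (.lin 12) (.splitN 392856 (.split 0 122 (.split 4 142
    .cand (.lin 12)) (.wt 2)) (.wt 1))))) (.lin 9)) (.lin 6)))) (.split 1 231 (.lin 2) (.splitN
    419572 (.split 0 110 (.split 4 133 (.split 6 178 (.split 2 (-144) (.lin 9) (.split 1 250
    (.split 5 (-356) (.lin 1) (.splitN 394596 (.split 0 104 (.split 4 124 (.split 6 167 (.split 2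
    (-135) (.lin 3) (.split 5 (-338) (.lin 1) (.split 6 154 (.wt 2) (.splitN 377105 (.wt 0) (.wt
    1))))) (.wt 0)) (.lin 12)) (.wt 0)) (.wt 1))) (.lin 11))) (.wt 0)) (.lin 12)) (.wt 0)) (.wt
    1)))) (.lin 2)) (.wt 2)) (.lin 2))) (.wt 0)) (.wt 1))) (.lin 1)))) (.lin 9)) (.lin 6)))

def cert5_135_9 : Cert :=
  (.split 0 92 (.split 4 115 (.splitN 1560639 (.split 1 1197 (.split 5 (-1328) (.lin 0) (.split 5
    (-1211) .sq (.split 3 381 (.split 5 (-608) (.lin 1) (.split 1 520 (.split 6 120 (.split 2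
    (-90) (.lin 9) (.split 1 493 (.splitN 315083 (.wt 1) (.split 0 74 (.split 4 97 (.splitN
    350671 (.wt 1) (.splitN 553634 (.split 3 155 (.wt 0) (.split 5 (-319) (.split 1 258 (.lin 2)
    (.split 3 207 (.wt 2) (.split 5 (-373) (.split 1 312 (.lin 2) (.splitN 375549 (.wt 1) (.split
    6 100 (.wt 2) (.split 2 (-80) (.split 0 65 (.split 4 88 (.splitN 397834 (.wt 1) (.wt 0))
    (.lin 12)) (.split 4 96 (.lin 12) .cand)) (.lin 9))))) (.lin 1)))) (.lin 1))) (.wt 3))) (.lin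
    12)) (.split 5 (-310) (.split 4 105 (.lin 12) (.split 3 354 (.split 5 (-554) (.lin 1) (.split
    1 466 (.split 3 241 (.split 5 (-446) (.lin 1) (.split 1 358 (.split 3 187 (.split 5 (-392)
    (.lin 1) (.split 6 98 (.wt 2) (.split 2 (-80) (.split 1 240 (.lin 11) (.split 3 160 (.split 5
    (-365) (.lin 1) (.split 1 277 (.splitN 508089 (.split 6 111 (.split 2 (-81) (.lin 9) (.splitN
    441017 (.wt 1) (.split 0 82 (.wt 0) (.split 4 114 (.lin 3) (.split 3 145 (.wt 0) (.split 5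
    (-346) (.split 1 258 (.lin 2) (.splitN 465689 (.wt 1) (.split 3 152 (.wt 0) (.wt 2)))) (.lin
    1))))))) .cand) (.wt 3)) (.lin 2))) (.split 5 (-355) (.split 1 276 (.lin 2) (.split 0 86
    (.split 4 106 (.split 6 108 (.wt 2) (.split 2 (-89) (.splitN 441146 (.wt 0) (.wt 1)) (.lin
    3))) (.lin 12)) (.wt 2))) (.lin 1)))) (.lin 9)))) (.split 5 (-373) (.split 1 294 (.lin 2)
    (.split 6 109 (.split 2 (-81) (.lin 9) (.split 6 102 (.split 2 (-72) (.lin 9) (.split 1 340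
    (.split 0 80 (.wt 2) (.split 4 114 (.lin 3) (.splitN 556107 (.splitN 520890 (.wt 3) .cand)
    (.wt 1)))) (.lin 11))) (.split 2 (-80) (.splitN 505004 .cand (.wt 1)) (.lin 9)))) (.wt 2)))
    (.lin 1))) (.lin 2))) (.split 5 (-427) (.split 1 348 (.lin 2) (.splitN 599452 (.splitN 490404
    (.wt 3) (.split 0 87 (.split 4 106 (.split 6 108 (.split 2 (-81) (.lin 3) (.split 6 106
    (.split 2 (-72) (.lin 3) (.split 3 266 (.wt 2) (.splitN 567248 (.split 3 318 (.split 5 (-491)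
    (.lin 1) (.split 3 291 (.split 5 (-464) (.lin 1) (.split 1 385 (.split 3 277 (.wt 2) (.split
    1 384 (.lin 2) (.splitN 537752 (.wt 0) (.wt 1)))) (.lin 2))) (.wt 2))) (.wt 0)) (.wt 1))))
    (.wt 1))) (.wt 0)) (.lin 12)) (.wt 0))) (.wt 1))) (.lin 1))) (.lin 2))) (.wt 2))) (.lin 1))))
    (.lin 11))) (.split 5 (-319) (.split 2 (-98) (.split 1 258 (.lin 11) (.split 0 74 (.split 4
    97 (.splitN 294694 (.wt 1) (.split 3 254 (.split 5 (-464) (.lin 1) (.split 1 394 (.split 3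
    133 (.wt 2) (.split 3 196 (.split 5 (-410) (.lin 1) (.split 1 340 (.splitN 487170 (.split 0
    65 (.split 4 88 (.splitN 344957 (.wt 1) (.wt 0)) (.lin 12)) (.split 4 96 (.lin 12) .cand))
    (.wt 1)) (.lin 2))) (.split 5 (-391) (.split 1 330 (.lin 2) (.splitN 341945 .sq (.split 0 69
    (.split 4 88 (.splitN 391055 .cand (.wt 3)) (.lin 12)) (.wt 2)))) (.lin 1)))) (.lin 2)))
    (.split 5 (-445) (.split 1 384 (.lin 2) (.splitN 450809 .sq (.wt 1))) (.lin 1)))) (.lin 12))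
    (.split 5 (-337) (.split 4 105 (.lin 12) (.splitN 474050 (.split 3 167 (.split 5 (-392) (.lin
    1) (.split 1 304 (.splitN 432857 (.split 0 85 (.split 4 106 (.split 3 152 (.split 6 137
    (.split 2 (-108) (.lin 3) (.split 5 (-365) (.lin 1) (.split 3 140 (.split 1 268 (.splitN
    411346 (.split 6 132 (.splitN 382949 (.wt 1) (.wt 0)) (.wt 0)) (.wt 1)) (.lin 2)) (.wt 2))))
    (.wt 0)) (.wt 0)) (.lin 12)) (.wt 0)) (.wt 1)) (.lin 2))) (.wt 0)) (.wt 1))) (.lin 1))))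
    (.lin 9)) (.lin 6))) (.lin 2))) (.split 5 (-544) (.split 1 483 (.lin 2) (.splitN 705311 .sq
    (.split 0 68 (.split 4 88 (.wt 1) (.lin 12)) (.wt 1)))) (.lin 1))))) .sq) (.wt 1)) (.lin 12))
    (.split 5 (-328) (.split 1 1366 (.split 4 123 (.lin 12) (.splitN 882919 (.split 3 297 (.split
    5 (-563) (.lin 1) (.split 1 439 (.splitN 732321 (.split 3 245 (.split 5 (-509) (.lin 1)
    (.split 6 133 (.split 2 (-99) (.lin 9) (.split 0 117 (.split 5 (-482) (.lin 1) (.split 4 142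
    (.split 3 175 (.split 5 (-410) (.lin 1) (.split 1 295 (.split 6 108 (.split 2 (-81) (.lin 9)
    (.split 1 277 (.split 0 106 (.split 5 (-383) (.lin 1) (.split 4 133 (.split 3 151 (.split 1
    259 (.split 6 102 (.split 5 (-356) (.lin 6) (.split 2 (-72) (.lin 9) (.splitN 501337 (.wt 1)
    (.split 0 98 (.wt 2) (.split 4 132 (.lin 3) (.splitN 564284 (.split 3 150 (.split 1 241
    (.split 3 133 (.wt 0) (.split 1 240 (.lin 2) (.splitN 541357 (.wt 0) (.wt 1)))) (.lin 2))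
    (.wt 0)) (.wt 1))))))) (.split 2 (-80) (.split 1 240 (.lin 11) (.splitN 473881 (.wt 0)
    (.splitN 501049 (.split 0 99 (.split 4 124 (.split 3 137 (.split 1 241 (.wt 0) (.lin 2)) (.wt
    0)) (.lin 3)) (.wt 0)) (.wt 1)))) (.lin 9))) (.lin 2)) (.split 5 (-355) (.split 1 258 (.lin
    2) (.splitN 563114 (.split 0 101 (.split 4 124 (.split 6 101 (.split 2 (-72) (.lin 3) (.split
    3 161 (.wt 2) (.splitN 549296 (.wt 0) (.wt 1)))) (.wt 0)) (.lin 12)) (.wt 0)) (.wt 1))) (.lin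
    1))) (.lin 12))) (.split 4 141 (.lin 12) (.splitN 572357 (.wt 0) (.wt 1)))) (.lin 11))) (.wt
    2)) (.lin 2))) (.wt 2)) (.lin 12))) (.wt 2))) (.wt 0))) (.wt 0)) (.wt 1)) (.lin 2))) (.wt 0))
    (.wt 1))) (.lin 4)) (.lin 1)))

def cert5_135_10 : Cert :=
  (.split 0 258 (.split 5 (-473) (.lin 1) (.split 4 277 (.split 6 116 (.split 2 (-90) (.lin 9)
    (.split 1 205 (.splitN 366202 (.wt 1) (.split 3 74 (.split 5 (-437) (.lin 1) (.split 1 187
    (.splitN 415171 (.wt 1) (.split 0 133 (.wt 0) (.split 5 (-301) (.split 0 167 (.wt 2) (.split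
    5 (-328) (.split 0 169 (.wt 2) (.split 6 101 (.wt 2) (.split 5 (-346) (.split 2 (-80) (.split
    1 168 (.lin 11) (.split 3 61 (.wt 2) (.split 1 177 (.lin 2) (.split 0 214 (.split 5 (-401)
    (.lin 1) (.split 4 241 (.split 6 107 (.wt 2) (.split 2 (-89) (.splitN 533559 .cand (.wt 1))
    (.lin 9))) (.lin 12))) (.split 5 (-400) (.split 4 249 (.lin 12) (.splitN 606141 (.split 6 111
    (.split 2 (-81) (.lin 9) (.split 0 237 (.splitN 572900 (.wt 1) .cand) (.wt 2))) (.wt 0)) (.wt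
    1))) (.lin 1)))))) (.lin 9)) (.lin 7)))) (.lin 1))) (.lin 1)))) (.lin 2))) (.split 5 (-310)
    (.split 1 177 (.lin 2) (.split 0 191 (.split 5 (-392) (.lin 1) (.split 4 214 (.split 6 107
    (.split 2 (-81) (.lin 9) (.split 0 134 (.wt 2) (.split 4 168 (.lin 12) (.split 0 164 (.split
    5 (-356) (.lin 1) (.split 4 196 (.split 3 79 (.wt 2) (.split 5 (-328) (.split 6 99 (.wt 2)
    (.split 2 (-80) (.split 1 195 (.lin 11) (.split 0 146 (.split 5 (-338) (.lin 1) (.split 4 169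
    (.splitN 507757 (.wt 1) (.wt 0)) (.lin 0))) (.wt 2))) (.lin 9))) (.lin 1))) (.lin 3)))
    (.split 5 (-346) (.split 4 186 (.lin 3) (.split 6 102 (.split 2 (-72) (.lin 9) (.split 1 187
    (.splitN 654182 (.splitN 565339 (.wt 1) .cand) (.wt 0)) (.lin 11))) (.split 2 (-80) (.splitN
    572467 (.split 3 84 (.split 1 187 (.split 0 169 (.wt 2) (.split 4 204 (.lin 3) (.wt 2)))
    (.lin 2)) (.wt 0)) (.wt 1)) (.lin 9)))) (.lin 1)))))) (.split 5 (-328) (.split 2 (-89)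
    (.split 1 195 (.lin 11) (.splitN 539402 (.split 0 168 (.split 5 (-365) (.lin 1) (.split 0 150
    (.split 4 169 (.splitN 504959 (.split 3 87 (.splitN 469408 (.wt 1) (.wt 0)) (.wt 0)) (.wt 1))
    (.lin 3)) (.wt 2))) (.wt 0)) (.wt 1))) (.lin 9)) (.lin 6))) (.lin 12))) (.split 5 (-373)
    (.split 4 204 (.lin 3) (.split 4 222 (.lin 12) (.splitN 731778 (.split 6 112 (.split 5 (-446)
    (.lin 6) (.split 2 (-81) (.lin 9) (.split 0 238 (.split 4 259 (.split 3 85 (.split 5 (-419)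
    (.lin 1) (.split 1 187 (.splitN 687658 (.split 6 103 (.split 2 (-72) (.lin 9) (.splitN 607570
    (.wt 1) .cand)) (.wt 2)) (.wt 1)) (.lin 2))) (.wt 2)) (.lin 12)) (.wt 2)))) (.wt 0)) (.wt
    1)))) (.lin 1)))) (.lin 1)))) (.lin 11))) (.split 5 (-319) (.split 2 (-98) (.split 1 186
    (.lin 11) (.splitN 338146 (.wt 3) (.split 3 70 (.split 1 205 (.split 0 191 (.split 5 (-392)
    (.lin 1) (.split 4 223 (.split 0 160 (.split 4 196 (.split 3 63 (.wt 2) (.split 0 146 (.split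
    4 169 (.splitN 415156 (.wt 1) (.split 6 125 (.wt 0) (.split 5 (-337) (.split 2 (-107) (.split
    1 204 (.lin 11) (.split 0 136 (.wt 2) (.split 4 168 (.lin 3) (.splitN 449447 (.wt 0) (.wt
    0))))) (.lin 9)) (.lin 6)))) (.lin 12)) (.split 5 (-346) (.split 4 168 (.lin 3) (.split 4 177
    (.lin 12) (.split 6 128 (.split 0 151 (.wt 2) (.split 1 190 (.lin 2) (.wt 2))) (.wt 2))))
    (.lin 1)))) (.lin 3)) (.split 5 (-355) (.split 4 186 (.lin 3) (.split 3 68 (.splitN 496277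
    (.split 6 130 (.wt 2) .cand) (.wt 0)) (.wt 2))) (.lin 1))) (.lin 3))) (.split 5 (-382)
    (.split 4 213 (.lin 3) (.splitN 550111 (.split 3 66 (.split 5 (-446) (.lin 1) (.split 0 232
    (.split 4 259 (.split 6 132 (.split 5 (-419) (.lin 6) (.split 2 (-99) (.lin 9) (.split 1 187
    (.split 0 214 (.wt 2) (.split 5 (-409) (.split 4 249 (.lin 0) (.splitN 511020 (.wt 0) (.wt
    1))) (.lin 1))) (.lin 11)))) (.wt 2)) (.lin 12)) (.wt 2))) (.wt 0)) (.wt 1))) (.lin 1)))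
    (.lin 2)) (.split 1 204 (.lin 2) (.wt 2))))) (.lin 9)) (.lin 6))) (.lin 12))) (.split 5
    (-418) (.split 4 249 (.lin 3) (.split 4 285 (.lin 12) (.splitN 441733 (.wt 3) (.split 3 77
    (.split 6 122 (.split 2 (-90) (.lin 9) (.split 1 187 (.split 6 107 (.split 5 (-680) (.lin 6)
    (.split 2 (-81) (.lin 9) (.split 3 65 (.split 1 169 (.splitN 564790 (.wt 1) (.split 0 293
    (.wt 0) (.split 5 (-454) (.split 0 374 (.wt 2) (.split 5 (-535) (.split 4 384 (.lin 0)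
    (.splitN 620576 .sq (.split 6 98 (.wt 0) (.split 2 (-80) (.split 1 168 (.lin 11) (.splitN
    692149 (.split 0 442 (.split 5 (-608) (.lin 1) (.split 4 466 (.split 0 398 (.wt 2) (.split 5
    (-571) (.split 4 429 (.lin 0) .sq) (.lin 1))) (.lin 0))) (.wt 2)) (.wt 1))) (.lin 9)))))
    (.lin 1))) (.lin 1)))) (.lin 2)) (.split 1 168 (.lin 2) (.splitN 567069 (.wt 3) (.split 0 385
    (.split 5 (-563) (.lin 1) (.split 4 430 (.split 6 105 (.split 2 (-72) (.lin 9) (.split 1 169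
    (.splitN 637284 (.wt 1) (.split 0 275 (.wt 0) (.split 5 (-445) (.split 0 315 (.wt 2) (.split
    5 (-490) (.split 4 348 (.lin 0) (.split 0 348 (.split 5 (-509) (.lin 1) (.split 4 367
    (.splitN 707508 .cand (.wt 0)) (.lin 0))) (.wt 2))) (.lin 1))) (.lin 1)))) (.lin 11))) (.wt
    2)) (.lin 0))) (.wt 2))))))) (.split 2 (-89) (.split 1 177 (.lin 11) (.splitN 650350 (.split
    0 367 (.split 5 (-554) (.lin 1) (.split 4 403 (.splitN 614467 .cand (.wt 1)) (.lin 0))) (.wt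
    0)) (.wt 1))) (.lin 9))) (.lin 11))) (.wt 2)) (.wt 2))))) (.lin 1)))

def cert5_135_11 : Cert :=
  (.split 0 130 (.split 4 160 (.split 3 130 (.split 5 (-455) (.lin 1) (.split 1 331 (.split 7
    (-33) (.splitN 164547 (.split 0 78 (.wt 2) (.split 4 114 (.lin 12) (.split 3 78 (.wt 2)
    (.split 5 (-256) (.split 1 177 (.lin 2) (.splitN 137744 .sq (.split 6 110 (.wt 0) (.split 5
    (-274) (.split 2 (-80) (.split 1 195 (.lin 11) (.splitN 160424 .sq (.split 0 96 (.wt 0)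
    (.split 5 (-292) (.split 4 132 (.lin 12) .sq) (.lin 1))))) (.lin 9)) (.lin 6))))) (.lin
    1))))) (.wt 3)) (.split 2 (-71) (.split 4 151 (.splitN 219546 (.wt 1) cert5_135_8) (.lin 12))
    (.lin 9))) (.lin 2))) (.split 5 (-283) (.split 1 222 (.lin 2) (.splitN 173204 .sq (.splitN
    3858455 (.split 1 1932 (.split 5 (-2156) (.lin 0) (.split 5 (-2048) (.lin 4) (.splitN 2872886
    (.split 1 1657 (.split 5 (-1667) .sq (.split 7 (-33) (.split 4 96 (.lin 12) (.splitN 238325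
    (.split 5 (-1319) (.div 5) (.split 3 1159 (.split 6 165 (.splitN 222012 (.split 5 (-1229)
    (.div 5) (.split 3 1069 (.split 0 68 (.wt 3) (.split 5 (-301) (.split 4 105 (.lin 12)
    (.splitN 188972 .sq (.split 6 123 (.splitN 204937 (.split 0 83 (.wt 0) (.split 5 (-319)
    (.split 4 123 (.lin 12) .sq) (.lin 1))) (.wt 3)) (.wt 1)))) (.lin 1))) (.lin 1))) (.wt 3))
    (.wt 1)) (.lin 6))) (.wt 1))) (.split 2 (-71) (.split 4 151 (.splitN 2254697 (.split 1 1458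
    (.split 5 (-1470) .sq (.split 6 147 (.split 2 (-117) (.lin 9) cert5_135_9) (.split 2 (-125)
    (.split 1 285 (.lin 11) (.split 5 (-346) (.splitN 534527 (.split 0 89 (.split 4 115 (.splitN
    486946 (.split 0 86 (.split 4 106 (.split 3 367 (.split 5 (-644) (.lin 1) (.split 1 565
    (.splitN 436481 (.split 3 292 (.split 5 (-563) (.lin 1) (.split 1 484 (.split 0 71 (.split 4
    97 (.splitN 414223 (.split 3 265 (.split 5 (-527) (.lin 1) (.split 3 195 (.split 5 (-455)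
    (.lin 1) (.split 1 385 (.split 6 174 (.split 2 (-153) (.lin 3) (.split 2 (-144) (.lin 9)
    (.split 1 358 (.split 5 (-428) (.lin 1) (.split 3 160 (.split 5 (-401) (.lin 1) (.split 1 331
    (.split 0 65 (.split 4 88 (.splitN 318559 (.wt 1) (.split 3 143 (.wt 0) (.split 6 155 (.wt 0)
    (.split 2 (-134) (.split 5 (-373) (.split 6 162 (.wt 2) (.split 2 (-143) (.split 1 321 (.lin
    11) (.splitN 330952 (.wt 0) (.wt 1))) (.lin 3))) (.lin 1)) (.lin 3))))) (.lin 12)) (.split 4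
    96 (.lin 12) (.splitN 362361 (.wt 0) (.wt 1)))) (.lin 2))) (.split 5 (-382) (.split 1 321
    (.lin 2) (.splitN 329147 .sq (.splitN 369763 (.split 6 160 .cand (.wt 2)) (.wt 1)))) (.lin
    1)))) (.lin 11)))) (.split 2 (-143) (.split 2 (-152) (.split 1 312 (.lin 11) (.split 5 (-373)
    (.splitN 322181 .sq (.splitN 347258 (.split 0 65 (.split 4 88 (.split 3 153 (.split 5 (-410)
    (.lin 1) (.split 3 143 (.split 6 184 (.split 2 (-153) (.lin 3) (.split 1 322 (.split 5 (-383)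
    (.lin 0) (.wt 3)) (.lin 11))) (.wt 1)) (.wt 1))) (.wt 0)) (.lin 12)) (.wt 0)) (.wt 1))) (.lin
    1))) (.lin 9)) (.lin 3))) (.lin 2))) (.wt 2))) (.wt 0)) (.wt 1)) (.lin 12)) (.wt 2)) (.lin
    2))) (.wt 0)) (.wt 1)) (.lin 2))) (.wt 0)) (.lin 12)) (.wt 0)) (.wt 1)) (.lin 12)) (.wt 0))
    (.wt 1)) (.lin 1))) (.lin 9)))) .sq) (.wt 1)) (.lin 12)) (.lin 9)))) .sq) (.wt 1)))) .sq)
    (.wt 1)))) (.lin 1))) (.lin 12)) (.split 5 (-283) (.split 4 159 (.lin 12) (.splitN 166931 .sq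
    (.split 3 454 (.split 1 655 (.split 3 413 (.split 1 619 (.split 3 158 (.split 1 358 (.split 7
    (-33) (.split 2 (-162) (.lin 9) (.split 4 168 (.lin 12) (.splitN 264221 (.split 0 332 (.split
    5 (-680) (.lin 1) (.split 4 367 (.split 3 61 (.wt 3) (.split 5 (-301) (.splitN 185129 .sq
    (.split 6 136 (.split 1 286 (.split 3 79 (.wt 0) (.split 5 (-319) (.split 1 186 (.lin 2)
    (.splitN 205541 .sq (.split 0 136 (.wt 0) (.wt 1)))) (.lin 1))) (.lin 11)) (.wt 1))) (.lin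
    1))) (.lin 12))) .sq) (.wt 1)))) (.split 2 (-71) (.split 3 124 (.split 1 322 (.splitN
    37089125 (.split 0 6077 (.split 5 (-6395) (.lin 1) (.split 4 6361 (.split 6 187 (.split 2
    (-153) (.lin 9) (.split 1 304 (.splitN 14126440 (.split 0 3738 (.split 5 (-4037) (.lin 1)
    (.split 4 3760 (.splitN 11306081 (.split 3 123 (.split 0 3339 (.split 5 (-3632) (.lin 1)
    (.split 4 3445 (.split 5 (-3350) .sq (.split 4 3211 (.split 6 138 (.split 2 (-108) (.lin 9)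
    (.split 1 250 (.splitN 6263463 (.split 0 2471 (.split 5 (-2714) (.lin 1) (.split 4 2617
    (.splitN 5813148 (.split 4 2380 (.split 5 (-2393) .sq (.split 3 88 (.split 1 223 (.splitN
    4492868 (.split 5 (-2099) .sq (.split 4 1996 (.split 0 507 (.split 5 (-725) (.lin 1) (.split
    4 529 cert5_135_10 (.lin 12))) (.split 5 (-670) (.split 4 501 (.lin 3) (.split 4 537 (.lin
    12) (.splitN 1044215 .sq (.splitN 1179315 (.split 3 72 (.split 6 121 (.split 2 (-90) (.lin 9)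
    (.split 1 187 (.split 0 596 (.split 5 (-779) (.lin 1) (.split 4 664 (.wt 1) (.lin 0))) (.wt
    1)) (.lin 11))) (.wt 0)) (.wt 0)) (.wt 1))))) (.lin 1))) (.lin 0))) (.wt 1)) (.lin 2))
    (.split 1 195 (.lin 2) (.split 4 2221 (.splitN 1172214 (.splitN 470214 (.wt 3) (.split 0 292
    (.split 5 (-536) (.lin 1) (.split 4 313 (.splitN 817636 (.split 0 222 (.split 5 (-464) (.lin
    1) (.split 4 241 (.splitN 750272 (.split 6 123 (.split 2 (-90) (.lin 9) (.split 1 232 (.split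
    0 163 (.split 5 (-392) (.lin 1) (.split 4 187 (.splitN 666245 (.split 6 105 (.split 2 (-72)
    (.lin 9) .cand) (.wt 2)) (.wt 1)) (.lin 12))) (.wt 2)) (.lin 11))) (.wt 0)) (.wt 1)) (.lin
    12))) (.wt 0)) (.wt 1)) (.lin 12))) (.wt 0))) (.wt 1)) (.lin 6))))) .sq) (.wt 1)) (.lin 0)))
    .sq) (.wt 1)) (.lin 11))) (.split 2 (-116) (.split 1 204 (.lin 11) (.splitN 313432 (.wt 0)
    (.splitN 740692 (.split 0 363 (.split 5 (-653) (.lin 1) (.split 4 385 (.splitN 602214 (.split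
    0 272 (.split 5 (-563) (.lin 1) (.split 4 295 (.splitN 570745 (.split 0 254 (.split 3 78
    (.split 5 (-500) (.lin 1) (.split 1 250 (.split 0 177 (.split 5 (-419) (.lin 1) (.split 4 196
    (.splitN 495093 (.split 3 68 .cand (.wt 2)) (.wt 1)) (.lin 12))) (.wt 2)) (.lin 2))) (.wt 0))
    (.wt 0)) (.wt 1)) (.lin 12))) (.wt 0)) (.wt 1)) (.lin 12))) (.wt 0)) (.wt 1)))) (.lin 9)))
    (.lin 6))) (.lin 3))) .sq) (.wt 2)) (.wt 1)) (.lin 12))) .sq) (.wt 1)) (.lin 11))) (.wt 2))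
    (.lin 0))) .sq) (.wt 1)) (.lin 2)) (.wt 2)) (.lin 9))) (.lin 2)) (.split 5 (-382) (.split 1
    249 (.lin 2) (.splitN 291545 .sq (.splitN 1032410 (.split 5 (-5729) (.div 5) (.splitN 666067
    (.split 7 (-34) (.wt 1) (.wt 0)) (.wt 6))) (.wt 1)))) (.lin 1))) (.lin 2)) (.wt 6)) (.lin 2))
    (.wt 2)))) (.lin 1)))

def cert5_135_12 : Cert :=
  (.split 0 58 (.split 4 88 (.split 3 35 (.wt 2) (.split 5 (-166) (.split 1 141 (.lin 11) (.split
    7 (-28) (.split 4 51 (.lin 12) (.splitN 1383432 (.split 2 (-7673) (.div 2) (.split 6 7730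
    (.split 5 (-7673) (.div 5) (.split 3 7558 (.split 1 7657 (.splitN 1263099 (.split 2 (-7007)
    (.div 2) (.split 6 7064 (.split 5 (-7007) (.div 5) (.split 3 6892 (.split 1 6991 (.split 0 27
    (.wt 2) (.split 4 60 (.lin 12) (.split 3 64 (.wt 2) (.split 5 (-193) (.split 6 110 (.wt 2)
    (.split 5 (-211) (.split 2 (-80) (.splitN 1157167 (.split 1 1038 (.split 2 (-936) (.lin 2)
    (.split 3 925 (.split 6 989 (.split 5 (-1085) (.lin 4) (.splitN 755084 (.split 3 73 (.wt 2)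
    (.split 5 (-229) (.split 6 121 (.wt 2) (.split 2 (-89) (.split 1 204 (.lin 11) (.split 1 815
    (.split 2 (-702) (.lin 2) (.split 3 691 (.split 6 755 (.split 5 (-860) (.lin 4) (.split 6 125
    (.wt 2) (.split 5 (-247) (.split 2 (-98) (.splitN 142496 .sq (.split 7 (-37) (.wt 3) (.split
    2 (-107) (.split 4 79 (.splitN 561176 (.split 3 81 (.wt 2) (.split 1 222 (.lin 2) (.split 1
    673 (.split 2 (-558) (.lin 2) (.split 3 538 (.split 6 602 (.split 5 (-725) (.lin 4) (.splitN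
    511615 (.split 6 135 (.wt 2) (.split 5 (-265) (.split 2 (-116) (.split 1 625 (.split 2 (-504)
    (.lin 2) (.split 3 475 (.split 6 548 (.splitN 485000 (.split 0 34 (.wt 2) (.split 4 69 (.lin
    12) (.split 3 89 (.wt 2) (.split 5 (-283) (.split 1 240 (.lin 2) (.split 5 (-613) .sq (.split
    2 (-441) (.lin 1) (.split 3 421 (.split 1 565 (.split 6 144 (.wt 2) (.split 2 (-125) (.split
    6 268 (.split 2 (-243) (.lin 3) (.splitN 226922 (.wt 1) (.splitN 408735 (.split 3 98 (.wt 0)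
    (.split 5 (-301) (.split 3 132 (.wt 2) (.split 5 (-328) (.split 3 133 (.wt 2) (.split 1 481
    (.split 3 322 (.split 5 (-527) (.lin 4) (.splitN 378121 (.split 6 157 (.wt 2) (.split 5
    (-346) (.split 2 (-134) (.split 1 303 (.lin 11) (.splitN 283706 .sq (.split 1 430 (.split 3
    268 (.split 5 (-482) (.lin 4) (.splitN 355715 (.split 0 43 (.wt 2) (.split 4 78 (.lin 12)
    (.split 6 169 (.wt 2) (.split 2 (-143) (.split 1 393 (.split 2 (-216) (.lin 2) (.split 3 214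
    (.split 6 242 (.splitN 324096 (.split 3 147 (.wt 0) (.split 5 (-373) (.split 1 321 (.lin 2)
    .sq) (.lin 1))) (.wt 3)) (.lin 3)) (.lin 2))) .sq) (.lin 3))))) (.wt 3))) (.lin 2)) .sq)))
    (.lin 9)) (.lin 6))) (.wt 3))) (.lin 2)) .sq)) (.lin 1))) (.lin 1))) (.wt 3)))) (.split 2
    (-233) (.split 1 366 (.lin 11) (.split 5 (-400) (.splitN 438281 .sq (.wt 1)) (.lin 1))) (.lin
    3))) (.lin 9))) (.lin 8)) (.lin 6))))) (.lin 1))))) (.wt 3)) (.lin 3)) (.lin 2))) .sq) (.lin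
    9)) (.lin 6))) (.wt 3))) (.lin 3)) (.lin 2))) .sq))) (.wt 3)) (.lin 12)) (.lin 9)))) (.lin
    9)) (.lin 7)))) (.lin 3)) (.lin 2))) .sq)) (.lin 9))) (.lin 7))) (.wt 3))) (.lin 3)) (.lin
    2))) .sq) (.wt 3)) (.lin 9)) (.lin 6))) (.lin 1))))) (.lin 8)) (.lin 1))) (.lin 3))) (.wt 3))
    (.lin 8)) (.lin 1))) (.lin 3))) (.wt 3))) (.wt 1))) (.lin 7))) (.lin 12)) (.split 5 (-166)
    (.split 5 (-184) (.split 4 78 (.lin 12) (.split 3 58 (.split 7 (-28) (.split 4 87 (.lin 12)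
    (.split 3 25 (.wt 2) (.split 1 132 (.lin 11) cert5_135_7))) (.wt 1)) (.split 5 (-202) (.split
    1 141 (.lin 2) (.split 1 159 (.lin 11) (.split 5 (-220) (.split 7 (-20) (.split 4 87 (.lin
    12) (.split 6 204 (.split 2 (-171) (.lin 9) cert5_135_11) (.split 5 (-319) (.split 2 (-170)
    (.split 1 267 (.lin 11) (.splitN 260891 .sq (.splitN 1186657 (.split 1 13184 (.split 2
    (-13095) (.lin 2) (.split 5 (-6593) (.div 5) (.split 1 6541 (.split 4 6361 (.split 7 (-35)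
    (.wt 1) (.split 2 (-179) (.splitN 1123717 (.split 5 (-6233) (.div 5) (.split 1 6172 (.split 0
    670 (.split 4 691 (.splitN 994780 (.split 5 (-5513) (.div 5) (.split 0 131 (.split 4 151
    (.splitN 682423 (.split 3 131 (.split 1 699 (.split 2 (-603) (.lin 2) (.split 5 (-878) (.lin
    1) (.split 5 (-815) (.lin 4) (.splitN 599104 (.split 1 636 (.split 2 (-540) (.lin 2) (.split
    5 (-752) (.lin 4) (.split 5 (-660) .sq (.split 0 92 (.split 4 115 (.splitN 526260 (.split 5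
    (-603) .sq (.split 1 538 (.split 3 92 (.split 6 341 (.split 2 (-342) (.lin 3) (.split 2
    (-315) (.lin 9) (.split 1 430 (.split 5 (-518) (.lin 1) (.split 0 74 (.split 4 97 (.splitN
    360830 (.split 3 62 (.wt 0) (.split 5 (-337) (.split 5 (-444) .sq (.split 6 305 (.split 3 71
    (.wt 2) (.split 1 285 (.lin 2) (.split 6 255 (.split 1 340 (.splitN 328390 (.split 0 63 (.wt
    2) (.split 5 (-355) (.split 3 79 (.wt 2) (.split 6 215 (.wt 2) (.split 2 (-197) (.split 5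
    (-382) .sq (.lin 1)) (.lin 3)))) (.lin 1))) (.wt 3)) (.lin 11)) (.split 2 (-224) (.split 5
    (-391) .sq (.lin 1)) (.lin 3))))) (.lin 6))) (.lin 1))) (.wt 3)) (.lin 12)) (.split 5 (-346)
    (.split 4 105 (.lin 12) (.splitN 416081 (.split 3 80 (.split 5 (-498) .sq (.split 3 70
    (.split 6 273 (.split 2 (-252) (.lin 3) (.split 1 340 (.split 5 (-437) (.lin 1) (.splitN
    368904 (.split 3 65 (.wt 2) (.split 6 237 (.split 0 80 (.wt 2) (.split 4 114 (.lin 12)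
    .cand)) (.split 2 (-206) (.split 1 312 (.lin 11) (.split 5 (-382) .sq (.lin 1))) (.lin 3))))
    (.wt 3))) (.lin 11))) (.split 2 (-242) (.split 1 339 (.lin 11) (.split 5 (-409) .sq (.lin
    1))) (.lin 3))) (.split 1 285 (.lin 2) (.splitN 320535 (.wt 0) (.splitN 354043 (.split 0 84
    (.split 4 106 (.split 6 234 (.split 2 (-207) (.lin 3) (.split 1 313 (.split 5 (-419) (.lin 0)
    (.splitN 332023 .cand (.wt 1))) (.lin 11))) (.wt 0)) (.lin 12)) (.wt 0)) (.wt 1)))))) (.wt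
    2)) (.wt 1))) (.lin 1)))) (.lin 11)))) (.split 2 (-323) (.split 5 (-472) .sq (.lin 1)) (.lin
    9))) (.split 1 303 (.lin 2) (.split 5 (-364) (.splitN 321047 .sq (.splitN 384909 (.split 0 79
    (.split 4 106 (.split 6 278 (.split 2 (-252) (.lin 9) (.split 1 403 (.split 5 (-482) (.lin 1)
    (.splitN 363118 (.split 0 76 (.split 4 97 (.split 6 246 (.split 2 (-225) (.lin 3) (.split 1
    367 (.split 5 (-446) (.lin 1) (.split 3 123 (.split 0 69 (.split 5 (-419) (.lin 7) (.split 4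
    88 (.wt 3) (.lin 12))) (.wt 2)) (.wt 1))) (.lin 11))) (.wt 1)) (.lin 12)) (.wt 0)) (.wt 1)))
    (.lin 11))) (.wt 1)) (.lin 12)) (.wt 0)) (.wt 1))) (.lin 1)))) (.lin 8))) (.wt 1)) (.lin 12))
    (.split 1 556 (.split 4 123 (.lin 12) (.splitN 417065 (.split 3 72 (.split 6 353 (.split 2
    (-351) (.lin 3) (.split 2 (-324) (.lin 9) (.split 1 421 (.split 5 (-545) (.lin 1) (.split 0
    110 (.split 4 133 (.splitN 391473 (.split 6 312 (.split 2 (-288) (.lin 3) (.split 5 (-491)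
    (.lin 1) (.split 3 69 .cand (.wt 0)))) (.wt 0)) (.wt 1)) (.lin 12)) (.wt 2))) (.lin 11))))
    (.wt 0)) (.wt 0)) (.wt 1))) (.lin 4)))))) .sq) (.wt 1))))) .sq) (.wt 2)) (.wt 1)) (.lin 12))
    (.wt 2))) (.wt 1)) (.lin 12)) (.wt 0)) (.lin 8))) (.wt 1)) (.lin 9))) (.lin 6)) (.lin 8))))
    (.div 1)) (.wt 1)))) (.lin 9)) (.lin 6)))) (.wt 0)) (.lin 4)))) (.lin 1)))) (.lin 4)) (.lin
    1)))

def cert5_135_13 : Cert :=
  (.split 7 (-46) (.split 5 (-103) (.split 4 69 (.lin 12) (.splitN 482607 (.split 1 5336 (.split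
    3 5281 (.split 5 (-2669) (.div 5) (.split 0 2590 (.split 3 2590 (.split 1 2644 (.split 6 2618
    (.split 4 2635 (.splitN 414574 (.split 5 (-2291) (.div 5) (.split 3 2212 (.split 1 2266
    (.split 6 2240 (.split 4 2257 (.split 0 34 (.wt 2) (.split 4 87 (.lin 12) (.split 3 34 (.wt
    2) (.split 1 96 (.lin 2) (.split 6 59 (.wt 2) (.split 5 (-148) (.split 0 602 (.splitN 371810
    (.split 5 (-2057) (.div 5) (.split 6 62 (.wt 2) (.split 5 (-157) (.split 1 114 (.lin 11)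
    (.split 0 561 (.split 1 571 (.split 2 (-477) (.lin 2) (.split 3 511 (.split 5 (-1121) (.lin
    4) (.split 4 1069 (.split 6 521 (.splitN 282482 (.split 0 473 (.split 4 979 (.split 1 485
    (.split 3 430 (.split 5 (-950) (.lin 4) (.split 4 898 (.split 6 440 (.splitN 262440 (.split 0
    44 (.wt 2) (.split 5 (-166) (.split 4 96 (.lin 12) (.split 3 44 (.wt 2) (.split 5 (-175)
    (.split 1 123 (.lin 11) (.splitN 68039 .sq (.split 7 (-320) (.wt 0) (.split 4 781 (.split 6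
    71 (.wt 2) (.split 1 132 (.lin 11) (.split 3 403 (.split 7 (-203) (.wt 3) (.split 4 664
    (.split 0 436 (.split 1 453 (.split 5 (-878) (.lin 4) (.split 3 367 (.split 6 395 (.splitN
    245596 (.split 4 425 (.split 0 376 (.splitN 233870 (.split 1 420 (.split 2 (-315) (.lin 2)
    (.split 3 331 (.split 5 (-436) .sq (.split 0 322 (.split 0 295 (.split 1 376 (.split 3 295
    (.split 6 323 (.split 4 367 (.split 0 52 (.wt 2) (.split 5 (-193) (.split 4 105 (.lin 12)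
    (.split 3 52 (.wt 2) (.split 1 141 (.lin 11) (.split 6 305 (.split 6 82 (.wt 2) (.split 1 150
    (.lin 11) (.split 5 (-211) (.split 3 277 (.splitN 96101 .sq (.split 7 (-75) (.wt 3) (.split 2
    (-17) (.split 7 (-66) (.wt 3) (.split 4 340 (.split 2 (-26) (.splitN 154092 (.split 7 (-63)
    (.wt 3) (.split 2 (-35) (.split 0 243 (.split 4 295 (.splitN 146016 (.split 0 223 (.split 4
    277 (.split 6 89 (.wt 2) (.split 2 (-44) (.split 1 159 (.lin 11) (.splitN 102455 .sq (.split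
    0 211 (.split 4 259 (.split 1 257 (.split 2 (-144) (.lin 2) (.split 6 197 (.split 3 151
    (.splitN 121597 (.split 0 86 (.wt 0) (.split 5 (-238) (.split 4 132 (.lin 12) .sq) (.lin 1)))
    (.wt 3)) (.lin 11)) (.lin 9))) .sq) (.lin 12)) .sq))) (.lin 9))) (.lin 12)) .sq) (.wt 3))
    (.lin 12)) .sq) (.lin 9))) (.wt 3)) (.lin 9)) (.lin 6))) (.lin 9)))) (.lin 7)) (.lin 4))))
    (.lin 7))))) (.lin 4))) (.lin 10)) (.lin 7)) (.lin 7)) (.lin 4)) (.lin 4)) (.lin 1))) (.lin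
    11))) .sq) (.wt 3)) (.lin 12)) .sq) (.wt 3)) (.lin 11)) (.lin 11))) .sq) .sq) (.lin 12)))
    (.lin 11)))) (.lin 12))))) (.lin 7)))) (.lin 4))) (.wt 3)) (.lin 11)) (.lin 5))) (.lin 2))
    .sq) (.lin 3)) .sq) (.wt 3)) (.lin 11)) (.lin 5))) (.lin 2))) .sq) .sq)) (.lin 7)))) (.wt 3))
    .sq) (.lin 7))))))) (.lin 10)) (.lin 7)) (.lin 4)) (.lin 1))) (.wt 3)) (.lin 10)) (.lin 7))
    (.lin 4)) (.lin 1)) (.lin 1))) (.lin 2)) (.div 1)) (.wt 3))) (.lin 1)) (.split 6 96 (.split 2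
    (-72) (.lin 9) (.split 7 (-20) (.split 2 (-63) (.lin 9) (.split 0 48 (.wt 2) (.split 5 (-112)
    (.split 3 49 (.wt 2) (.split 5 (-139) (.split 1 96 (.lin 11) (.split 5 (-148) (.split 6 44
    (.wt 6) (.split 5 (-157) (.split 2 (-17) (.split 1 105 (.lin 11) (.split 0 112 (.split 4 178
    (.split 4 142 (.split 0 57 (.wt 2) (.split 5 (-166) (.split 4 87 (.lin 12) (.split 3 132 (.wt
    2) (.split 5 (-238) (.split 1 177 (.lin 2) (.split 3 140 (.wt 2) (.split 5 (-256) (.split 6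
    64 (.wt 2) (.split 5 (-274) (.split 2 (-35) (.split 1 213 (.lin 11) (.split 3 143 (.wt 2)
    cert5_135_0)) (.lin 9)) (.lin 7))) (.lin 7)))) (.lin 1)))) (.lin 4))) (.lin 12)) (.lin 3))
    (.split 5 (-211) (.split 4 141 (.lin 12) cert5_135_5) (.lin 1)))) (.lin 9)) (.lin 7))) (.lin
    4))) (.lin 1))) (.lin 1)))) (.wt 1))) (.split 5 (-130) (.split 2 (-62) (.split 1 123 (.lin
    11) (.split 5 (-148) cert5_135_12 (.lin 4))) (.lin 9)) (.lin 6))))

def cert5_135 : Cert :=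
  (.split 5 (-22) (.split 1 15 (.lin 11) (.split 7 (-3) (.split 0 8 (.wt 2) (.split 5 (-31)
    (.split 3 8 (.wt 2) (.split 5 (-40) (.split 1 24 (.lin 11) (.split 6 16 (.wt 2) (.split 5
    (-49) (.split 1 33 (.lin 11) (.split 6 18 (.wt 6) (.split 5 (-58) (.split 1 42 (.lin 11)
    (.split 2 (-1) (.split 7 (-15) (.split 4 33 (.lin 12) (.split 0 18 (.wt 2) (.split 5 (-67)
    (.split 4 42 (.lin 12) (.split 3 18 (.wt 2) (.split 1 51 (.lin 2) (.split 6 32 (.wt 2)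
    (.split 5 (-85) (.split 1 60 (.lin 11) (.split 6 37 (.wt 6) (.split 5 (-94) (.split 1 69
    (.lin 11) cert5_135_13) (.lin 7)))) (.lin 7)))))) (.lin 1)))) (.wt 1)) (.split 7 (-28)
    (.split 0 17 (.wt 2) (.split 5 (-67) (.split 3 17 (.wt 2) (.split 5 (-76) (.split 6 30 (.wt
    2) (.split 4 60 (.lin 3) (.split 1 60 (.lin 11) (.split 7 (-37) (.splitN 1018981 (.split 2
    5656 (.split 4 11312 (.split 5 (-5657) (.div 5) (.split 0 5596 (.split 1 5632 (.split 3 5596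
    (.split 6 5606 (.splitN 887435 (.split 2 4918 (.split 4 10546 (.split 5 (-4919) (.div 5)
    (.split 3 4858 (.split 6 4868 (.split 6 35 (.wt 2) (.split 4 69 (.lin 3) (.split 1 69 (.lin
    11) (.split 5 (-94) (.split 7 (-46) (.splitN 221779 (.split 2 1228 (.split 4 2456 (.split 5
    (-1229) (.div 5) (.split 0 1159 (.split 1 1204 (.split 3 1159 (.split 6 1178 (.splitN 198711
    (.split 5 (-1103) (.div 5) (.split 6 1052 (.split 0 418 (.splitN 185845 (.split 2 1030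
    (.split 1 407 (.split 5 (-815) (.lin 4) (.split 4 1816 (.split 3 358 (.split 6 377 (.split 0
    27 (.wt 2) (.split 3 27 (.wt 2) (.split 5 (-112) (.split 6 45 (.wt 2) (.split 4 87 (.lin 3)
    (.split 1 87 (.lin 11) (.split 5 (-121) (.split 7 (-55) (.splitN 38276 .sq (.splitN 117137
    (.split 4 1268 (.split 5 (-635) (.div 5) (.split 0 34 (.wt 4) (.split 4 96 (.lin 3) (.split 5
    (-130) (.splitN 42893 .sq (.split 3 37 (.wt 4) (.split 5 (-139) (.split 1 96 (.lin 11)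
    (.splitN 47672 .sq (.split 6 59 (.wt 4) (.split 4 105 (.lin 3) (.split 1 105 (.lin 11)
    (.split 5 (-148) (.split 7 (-64) (.split 3 340 (.splitN 56015 .sq (.splitN 97677 (.split 4
    1052 (.split 5 (-527) (.div 5) (.split 7 (-304) (.wt 0) (.split 4 718 (.split 6 296 (.split 7
    (-254) (.wt 0) (.split 4 673 (.split 6 251 (.split 7 (-228) (.wt 0) (.split 6 224 (.split 4
    637 (.split 7 (-212) (.wt 0) (.split 6 206 (.split 2 1 (.wt 3) (.split 4 114 (.lin 3) (.split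
    7 (-73) (.splitN 59336 .sq (.splitN 83155 (.split 5 (-455) (.div 5) (.split 4 556 (.split 0
    56 (.wt 0) (.split 4 132 (.lin 3) (.split 5 (-166) (.splitN 71324 .sq (.split 0 84 (.wt 0)
    (.split 4 159 (.lin 3) (.split 5 (-193) .sq (.lin 4))))) (.lin 4)))) (.lin 6))) (.wt 3)))
    (.lin 9)))) (.lin 9))) (.lin 12)) (.lin 9))) (.lin 9)) (.lin 6))) (.lin 9)) (.lin 6)))) (.div
    4)) (.wt 3))) (.lin 11)) (.lin 9)) (.lin 4))))))) (.lin 7)))) (.lin 4))))) (.div 4)) (.wt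
    3))) (.lin 9)) (.lin 4))))) (.lin 7)))) (.lin 11)) (.lin 11)) (.lin 5))) .sq) (.div 2)) (.wt
    3)) .sq) (.lin 7))) (.wt 3)) (.lin 7)) (.lin 7)) (.lin 4)) (.lin 4))) (.div 4)) (.div 2))
    (.wt 3)) (.lin 9)) (.lin 4))))) (.lin 7)) (.lin 7))) (.lin 10)) (.div 2)) (.wt 3)) (.lin 7))
    (.lin 7)) (.lin 4)) (.lin 4))) (.div 4)) (.div 2)) (.wt 3)) (.lin 9))))) (.lin 7))) (.lin
    4))) (.lin 9)))) (.lin 7)))) (.lin 7)))) (.lin 7))) (.lin 4))) (.wt 0))) (.lin 7))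

theorem check5_135 :
    check task5 cert5_135
      [(7, ⟨some (7), none⟩), (7, ⟨none, none⟩), (1, ⟨none, none⟩), (7, ⟨some (7), none⟩), (7, ⟨some (7), none⟩), (5, ⟨none, none⟩), (8, ⟨some (8), none⟩), (8, ⟨none, some (-1)⟩)] ⟨some (3960), none⟩ = true := by
  decide +kernel

def cert5_136_0 : Cert :=
  (.split 7 129 (.split 2 (-162) (.lin 9) (.splitN 160591 (.split 0 (-381) .sq (.split 4 (-516)
    (.lin 3) (.split 5 383 (.split 7 57 (.splitN 76144 (.split 5 250 (.split 7 39 (.split 6 26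
    (.wt 2) .cand) (.split 2 (-71) (.split 4 (-83) (.split 0 (-126) (.wt 2) (.split 4 (-174)
    (.lin 12) (.split 1 (-64) (.split 3 (-83) (.wt 2) (.lin 2)) (.split 5 194 (.split 6 30
    (.splitN 58565 (.wt 6) (.split 0 (-46) (.wt 0) (.split 5 95 (.wt 2) (.lin 4)))) .cand) (.lin
    0))))) (.lin 12)) (.lin 9))) .sq) (.wt 3)) (.split 2 (-89) (.split 4 (-92) (.split 4 (-101)
    (.split 0 (-104) (.split 4 (-164) (.split 5 130 (.lin 4) (.split 4 (-173) (.splitN 74240 .sq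
    (.splitN 87676 (.split 1 (-27) (.wt 0) (.split 6 27 (.wt 0) (.split 3 (-56) (.split 7 96 (.wt
    0) (.split 2 (-134) (.split 4 (-209) .sq (.lin 0)) (.lin 2))) (.lin 11)))) (.wt 3))) (.lin
    12))) (.lin 3)) (.split 1 (-77) (.split 5 121 (.lin 4) (.split 3 (-110) (.splitN 57959 .sq
    (.split 0 (-40) (.wt 0) (.split 1 (-96) (.wt 0) (.split 5 131 (.wt 2) (.lin 4))))) (.lin
    11))) (.split 5 176 (.split 6 30 (.split 2 (-153) (.lin 9) (.split 0 (-54) (.wt 2) (.split 4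
    (-174) (.lin 3) (.split 5 122 (.split 1 (-36) (.wt 2) (.split 5 77 (.split 3 (-57) (.lin 11)
    (.splitN 107578 (.split 7 93 (.split 2 (-117) (.lin 9) (.split 4 (-138) (.lin 3) (.split 0
    (-45) (.wt 2) (.split 1 (-26) (.wt 2) (.split 5 59 (.split 3 (-48) (.lin 7) (.splitN 71153
    (.wt 1) (.splitN 79833 (.split 7 73 (.split 2 (-99) (.lin 1) (.split 4 (-111) (.lin 0)
    (.split 7 70 (.wt 0) (.wt 0)))) (.wt 0)) (.wt 6)))) (.lin 4)))))) (.splitN 74718 (.wt 1)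
    .cand)) (.wt 1))) (.lin 4))) (.lin 4))))) (.split 2 (-98) (.split 1 (-39) (.split 3 (-83)
    (.splitN 75568 .cand (.wt 0)) (.lin 11)) (.split 3 (-75) (.lin 11) (.split 0 (-70) (.split 4
    (-137) (.split 5 94 (.lin 4) (.splitN 84246 .cand (.wt 1))) (.lin 3)) (.splitN 85626 .cand
    (.wt 1))))) (.lin 9))) (.lin 4)))) (.lin 12)) (.lin 3)) (.lin 9))) .sq))) (.wt 3))) (.split 2
    (-161) (.split 4 (-164) (.split 4 (-173) (.splitN 82016 .sq (.splitN 243956 (.split 2 (-434)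
    .sq (.split 7 404 (.splitN 213227 (.split 1 (-91) (.wt 3) (.split 3 (-120) (.lin 11) (.split
    2 (-394) .sq (.split 7 359 (.split 1 (-83) (.wt 3) (.split 3 (-111) (.lin 11) (.split 4
    (-400) .sq (.split 0 (-102) (.split 2 (-324) (.lin 3) (.split 4 (-236) (.split 5 130 (.lin 4)
    (.split 7 296 (.splitN 132119 .sq (.wt 3)) (.lin 9))) (.lin 3))) (.split 5 176 (.splitN
    190466 (.split 2 (-365) .sq (.split 7 332 (.split 4 (-370) .sq (.split 6 30 (.split 1 (-47)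
    (.wt 0) (.split 3 (-66) (.lin 11) (.split 0 (-60) (.wt 2) (.split 5 95 (.splitN 144489
    (.split 2 (-296) .sq (.split 7 296 (.split 7 278 (.split 0 (-55) (.wt 2) (.split 5 86
    (.splitN 130452 (.split 2 (-273) .sq (.split 7 242 (.split 1 (-38) (.wt 2) (.split 5 77
    (.split 4 (-280) .sq (.split 1 (-25) (.split 3 (-56) (.wt 2) (.lin 11)) (.split 5 68 (.split
    3 (-48) (.lin 11) (.split 0 (-43) (.split 2 (-252) (.lin 3) (.split 7 224 (.split 5 67 (.lin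
    4) (.splitN 113825 (.splitN 96690 (.wt 1) (.split 7 136 (.wt 0) (.split 2 (-170) (.split 4
    (-191) (.split 7 152 (.wt 2) (.split 2 (-188) (.split 4 (-209) .sq (.lin 0)) (.lin 1))) (.lin
    0)) (.lin 1)))) (.wt 1))) (.lin 1))) (.wt 2))) (.lin 4)))) (.lin 4))) (.lin 9))) (.wt 1))
    (.lin 4))) (.lin 2)) (.lin 1))) (.wt 1)) (.lin 4))))) (.split 2 (-170) (.split 3 (-56)
    (.split 1 (-60) (.wt 1) (.split 3 (-93) (.lin 11) (.split 1 (-53) (.wt 1) (.split 3 (-84)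
    (.lin 11) (.split 0 (-40) (.split 5 67 (.lin 4) (.split 7 314 (.splitN 88379 .sq (.split 1
    (-31) (.wt 1) (.split 3 (-66) (.lin 11) (.split 0 (-49) (.split 4 (-191) (.split 5 76 (.lin
    4) (.splitN 97163 .sq (.splitN 99867 (.split 0 (-85) (.split 4 (-227) .sq (.lin 3)) (.wt 1))
    (.wt 1)))) (.lin 3)) (.wt 1))))) (.lin 12))) (.wt 2)))))) (.lin 11)) (.lin 9)))) (.lin 9)))
    (.wt 1)) (.lin 4)))))) (.lin 9))))) (.wt 3)) (.lin 9))) (.wt 3))) (.lin 12)) (.lin 3)) (.lin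
    9)))

def cert5_136_1 : Cert :=
  (.split 6 26 (.split 6 21 (.splitN 1100334 (.split 1 (-12213) (.div 1) (.split 5 12236 (.split
    2 (-6107) (.div 2) (.split 7 18278 (.split 7 6083 (.splitN 986902 (.split 2 (-5477) (.div 2)
    (.split 7 5453 (.split 0 (-25) (.wt 2) (.split 1 (-46) (.wt 2) (.split 5 59 (.split 3 (-57)
    (.lin 7) (.splitN 112097 (.wt 6) (.split 7 87 (.wt 0) (.split 2 (-107) (.split 4 (-110)
    (.splitN 775331 (.split 2 (-4307) (.div 2) (.split 7 4301 (.splitN 605797 (.split 2 (-3353)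
    (.div 2) (.split 7 3347 (.splitN 125642 (.wt 6) (.split 7 108 (.wt 0) (.split 2 (-134)
    (.split 4 (-137) (.splitN 487258 (.split 2 (-2705) (.div 2) (.split 7 2699 (.splitN 135581
    (.wt 6) (.split 1 (-38) (.wt 0) (.split 5 50 (.splitN 161326 (.wt 6) (.split 7 161 (.wt 0)
    (.split 2 (-179) (.split 4 (-191) (.splitN 451174 (.split 2 (-2507) (.div 2) (.split 7 2492
    (.splitN 395858 (.split 2 (-2183) (.div 2) (.split 7 2168 (.splitN 181053 (.wt 6) (.split 1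
    (-28) (.wt 0) (.split 5 41 (.splitN 262406 (.wt 6) (.split 7 444 (.wt 0) (.split 2 (-467)
    (.split 4 (-470) .sq (.lin 0)) (.lin 1)))) (.lin 4)))) (.lin 1))) (.wt 3)) (.lin 1))) (.wt
    0)) (.lin 12)) (.lin 1)))) (.lin 4)))) (.lin 1))) (.wt 3)) (.lin 3)) (.lin 9)))) (.lin 1)))
    (.wt 3)) (.lin 1))) (.wt 1)) (.lin 3)) (.lin 9))))) (.lin 4)))) (.lin 9))) (.wt 3)) (.lin 9))
    (.lin 1))) (.lin 4))) (.wt 3)) (.split 2 (-89) (.split 3 (-47) (.splitN 226756 (.split 2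
    (-1247) (.div 2) (.split 7 1214 (.split 5 1246 (.split 3 (-1245) (.lin 7) (.splitN 205685
    (.split 1 (-426) .sq (.split 5 455 (.split 3 (-462) (.lin 7) (.split 2 (-435) .sq (.split 4
    (-840) (.lin 0) (.split 4 (-435) (.lin 3) (.split 7 404 (.splitN 174202 (.split 2 (-396) .sq
    (.split 7 368 (.split 3 (-389) .sq (.split 1 (-85) (.split 5 112 (.lin 4) (.split 3 (-110)
    (.split 3 (-119) (.splitN 55124 .sq (.split 7 64 (.wt 0) (.split 2 (-98) (.split 4 (-92)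
    (.splitN 59579 .sq (.split 7 79 (.wt 0) (.split 2 (-107) (.split 4 (-101) (.split 7 81 (.wt
    0) (.split 2 (-116) (.split 4 (-110) (.splitN 69947 .sq (.split 0 (-27) (.wt 0) (.splitN
    78442 (.split 7 109 (.wt 0) (.split 2 (-143) (.split 4 (-137) .sq (.lin 3)) (.lin 9))) (.wt
    1)))) (.lin 3)) (.lin 9))) (.lin 3)) (.lin 9)))) (.lin 3)) (.lin 9)))) (.lin 11)) (.lin 7)))
    (.split 5 113 (.split 3 (-120) (.lin 7) (.split 3 (-111) (.lin 11) (.splitN 151281 (.split 2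
    (-366) .sq (.split 4 (-363) (.lin 3) (.split 7 332 (.split 7 143 (.split 2 (-171) (.lin 9)
    (.split 4 (-174) (.lin 3) (.split 1 (-41) (.split 5 67 (.lin 4) (.split 3 (-74) (.split 0
    (-29) (.wt 2) (.splitN 59969 (.split 7 81 (.split 2 (-108) (.lin 9) (.split 4 (-102) (.lin 3)
    (.splitN 56025 (.split 1 (-61) (.split 5 85 (.lin 4) (.wt 2)) (.wt 0)) (.wt 6)))) (.wt 0))
    (.wt 6))) (.lin 11))) (.split 3 (-66) (.lin 11) (.split 0 (-23) (.split 4 (-92) (.split 5 49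
    (.lin 4) (.splitN 103303 .cand (.wt 1))) (.lin 3)) (.wt 2)))))) (.split 2 (-107) (.split 2
    (-179) (.split 4 (-173) (.splitN 90440 .sq (.split 0 (-21) (.split 5 49 (.lin 4) (.split 1
    (-81) (.wt 0) (.split 5 104 (.split 3 (-102) (.lin 7) (.split 1 (-65) (.wt 1) (.split 5 86
    (.split 3 (-84) (.lin 7) (.split 1 (-55) (.wt 1) (.split 5 77 (.split 3 (-75) (.lin 7)
    (.split 1 (-25) (.split 5 58 (.lin 4) (.split 1 (-44) (.wt 1) (.split 5 68 (.split 3 (-66)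
    (.lin 7) (.splitN 94058 .sq (.wt 6))) (.lin 4)))) (.wt 2))) (.lin 4)))) (.lin 4)))) (.lin
    4)))) (.wt 6))) (.lin 3)) (.lin 9)) (.lin 1))) (.lin 9)))) (.wt 1)))) (.lin 4)))) (.lin 9)))
    (.wt 1)) (.lin 9)))))) (.lin 4))) (.wt 1))) (.div 5)) (.lin 9))) (.wt 1)) (.lin 11)) (.lin
    9))) (.split 2 (-89) (.split 2 (-98) (.split 3 (-56) (.splitN 126241 (.split 2 (-689) (.div
    2) (.split 4 (-678) (.lin 3) (.split 7 647 (.split 5 688 (.split 3 (-696) (.lin 7) (.splitN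
    114137 (.split 2 (-635) (.div 2) (.split 4 (-624) (.lin 3) (.split 7 593 (.split 5 634
    (.split 3 (-642) (.lin 7) (.split 3 (-60) (.split 5 49 (.lin 7) (.split 1 (-29) (.splitN
    94408 (.split 2 (-509) (.div 2) (.split 7 467 (.split 1 (-251) .sq (.split 5 275 (.split 3
    (-291) (.lin 7) (.split 0 (-21) (.split 4 (-92) (.split 5 58 (.lin 4) (.splitN 87919 (.split
    2 (-473) (.div 2) (.split 4 (-462) (.lin 3) (.split 3 (-71) (.split 5 67 (.lin 7) (.split 1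
    (-38) (.splitN 80835 (.split 2 (-437) (.div 2) (.split 4 (-426) (.lin 3) (.split 3 (-75)
    (.split 5 76 (.lin 7) (.splitN 42975 (.wt 1) (.split 1 (-205) .sq (.split 5 230 (.split 3
    (-237) (.lin 7) (.split 7 278 (.split 2 (-315) (.lin 9) (.split 4 (-309) (.lin 3) (.split 7
    248 (.split 2 (-279) (.lin 9) (.split 4 (-273) (.lin 3) (.split 3 (-84) (.split 5 85 (.lin 7)
    (.split 1 (-56) (.split 7 212 (.split 2 (-243) (.lin 9) (.split 4 (-237) (.lin 3) (.splitN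
    68528 (.split 1 (-161) .sq (.split 5 185 (.split 3 (-192) (.lin 7) (.split 7 139 (.split 2
    (-171) (.lin 9) (.split 4 (-165) (.lin 3) (.split 3 (-94) (.split 5 94 (.lin 7) (.split 1
    (-65) (.splitN 47429 .sq (.split 7 118 (.split 2 (-153) (.lin 9) (.split 4 (-147) (.lin 3)
    (.split 7 113 (.split 2 (-144) (.lin 9) (.split 4 (-138) (.lin 3) (.splitN 58830 (.split 3
    (-111) (.split 5 112 (.lin 7) (.split 1 (-83) .sq (.lin 11))) (.wt 6)) (.wt 1)))) (.wt 2))))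
    (.wt 2))) (.lin 11))) (.wt 2)))) (.wt 2))) (.lin 4))) (.wt 1)))) (.wt 2)) (.lin 11))) (.wt
    6)))) (.wt 2)))) (.wt 2))) (.lin 4))))) (.wt 2)))) (.wt 1)) (.lin 11))) (.wt 2)))) (.wt 1)))
    (.lin 3)) (.wt 2))) (.lin 4))) (.lin 9))) (.wt 1)) (.lin 11))) (.wt 2))) (.div 5)) (.lin
    9)))) (.wt 1))) (.div 5)) (.lin 9)))) (.wt 1)) (.lin 11)) (.lin 9)) (.lin 3)))

def cert5_136_2 : Cert :=
  (.split 0 (-30) (.split 5 58 (.lin 4) (.split 4 (-65) (.splitN 6308194 (.split 2 (-35033) (.div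
    2) (.split 7 35009 (.split 5 35032 (.split 0 (-35004) (.lin 4) (.split 3 (-35022) (.lin 7)
    (.splitN 5660261 (.split 2 (-31433) (.div 2) (.split 7 31409 (.split 6 18 (.wt 2) (.split 2
    (-53) (.split 3 (-47) (.splitN 1213970 (.split 2 (-6737) (.div 2) (.split 7 6704 (.split 5
    6736 (.split 0 (-6708) (.lin 4) (.split 3 (-6726) (.lin 7) (.splitN 1109534 (.split 2 (-6161)
    (.div 2) (.split 7 6128 (.splitN 801816 (.split 2 (-888) .sq (.split 7 854 (.splitN 529786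
    (.split 2 (-719) .sq (.split 7 683 (.splitN 482195 (.split 4 (-685) .sq (.split 2 (-675)
    (.lin 3) (.split 7 647 (.split 5 683 cert5_136_0 .sq) (.lin 9)))) (.wt 3)) (.lin 9))) (.wt
    3)) (.lin 9))) (.wt 3)) (.lin 9))) (.wt 1)))) (.div 5)) (.lin 9))) (.wt 1)) (.lin 11)) (.lin
    9))) (.lin 9))) (.wt 3)))) (.div 5)) (.lin 9))) (.wt 3)) (.lin 12))) (.split 7 60 (.split 2
    (-90) (.lin 9) (.split 4 (-84) (.lin 12) (.splitN 291512 (.split 1 (-532) .sq (.split 5 599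
    (.split 3 (-651) (.lin 6) (.split 0 (-20) (.split 5 40 (.lin 4) (.split 4 (-47) (.split 6 26
    (.split 2 (-81) (.lin 9) (.split 6 21 (.wt 2) (.split 2 (-53) (.split 3 (-47) (.splitN 82807
    (.split 1 (-267) .sq (.split 5 293 (.split 7 39 (.splitN 60809 .cand (.wt 1)) (.split 2 (-71)
    (.split 4 (-65) (.split 1 (-67) (.split 5 85 (.lin 0) (.split 3 (-74) (.split 3 (-101)
    (.splitN 43469 (.wt 1) (.splitN 52185 (.split 0 (-24) (.wt 0) (.split 4 (-75) (.lin 3)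
    (.split 3 (-148) (.wt 2) (.split 1 (-120) (.lin 11) (.split 5 140 (.split 3 (-133) (.wt 2)
    (.split 1 (-102) (.lin 11) (.split 5 122 (.split 7 44 (.wt 2) (.split 2 (-80) (.split 4 (-74)
    (.split 1 (-77) (.split 5 103 (.lin 0) (.split 3 (-110) (.wt 1) (.lin 6))) (.wt 0)) (.lin 3))
    (.lin 9))) (.lin 4)))) (.lin 4)))))) (.wt 3))) (.lin 11)) (.lin 6))) (.split 3 (-102) (.lin
    2) (.split 3 (-93) (.lin 11) (.split 1 (-37) (.split 5 49 (.lin 0) (.split 3 (-56) (.split 5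
    58 (.lin 4) (.split 0 (-26) (.wt 2) (.split 4 (-75) (.lin 3) (.splitN 46139 (.wt 0) (.splitN
    55477 (.split 7 51 (.split 2 (-72) (.lin 9) (.split 4 (-66) (.lin 3) (.splitN 50691 (.split 1
    (-52) (.split 5 76 (.lin 0) (.wt 1)) (.wt 0)) (.wt 1)))) (.wt 0)) (.wt 1)))))) (.lin 2)))
    (.split 3 (-66) (.lin 2) (.split 0 (-24) .cand (.wt 2))))))) (.lin 3)) (.lin 9))) (.lin 4)))
    (.wt 1)) (.lin 11)) (.lin 9)))) (.splitN 64130 .cand (.wt 1))) (.lin 12))) (.splitN 101414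
    (.split 6 21 .cand (.wt 2)) (.wt 1)))) (.lin 0))) (.wt 1)))) (.split 2 (-80) (.split 4 (-56)
    (.split 4 (-74) (.split 0 (-20) (.split 5 40 (.lin 4) (.split 4 (-83) cert5_136_1 (.lin 12)))
    (.splitN 372374 (.split 1 (-4113) (.div 1) (.split 5 4118 (.split 3 (-4143) (.lin 7) (.split
    2 (-2057) (.div 2) (.split 4 (-6132) (.lin 0) (.split 7 2033 (.split 5 2056 (.split 3 (-2073)
    (.lin 7) (.splitN 338348 (.split 2 (-1877) (.div 2) (.split 7 1853 (.split 1 (-23) (.split 5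
    40 (.lin 4) (.splitN 201819 (.split 2 (-1121) (.div 2) (.split 7 1097 (.split 5 1120 (.split
    1 (-1101) (.lin 4) (.split 3 (-1137) (.lin 7) (.split 3 (-81) (.split 5 58 (.lin 7) (.split 1
    (-47) (.splitN 143298 (.split 2 (-797) (.div 2) (.split 4 (-786) (.lin 3) (.split 7 773
    (.split 5 796 (.split 3 (-813) (.lin 7) (.split 6 33 (.split 5 67 (.lin 7) (.split 1 (-56)
    (.splitN 130124 (.split 2 (-707) (.div 2) (.split 7 683 (.split 5 706 (.split 1 (-687) (.lin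
    4) (.split 3 (-103) (.split 5 94 (.lin 7) (.split 1 (-83) (.splitN 115476 (.split 2 (-635)
    (.div 2) (.split 4 (-624) (.lin 3) (.split 7 611 (.split 5 634 (.split 1 (-615) (.lin 4)
    (.split 3 (-116) (.split 1 (-92) (.split 6 18 (.split 5 112 (.lin 7) (.split 1 (-101)
    (.splitN 110005 (.split 2 (-599) (.div 2) (.split 4 (-588) (.lin 3) (.split 5 598 (.split 3
    (-597) (.lin 7) (.split 3 (-123) (.split 5 121 (.lin 7) (.split 7 148 (.split 2 (-162) (.lin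
    9) (.split 4 (-156) (.lin 3) (.splitN 86250 (.split 3 (-159) (.split 5 157 (.lin 7) (.split 1
    (-146) .sq (.lin 11))) (.wt 2)) (.wt 1)))) (.wt 2))) (.wt 2))) (.div 5)))) (.wt 1)) (.lin
    11))) (.wt 2)) (.lin 11)) (.wt 2))) (.div 5)) (.lin 9)))) (.wt 1)) (.lin 11))) (.wt 2)))
    (.div 5)) (.lin 9))) (.wt 1)) (.lin 11))) (.wt 0))) (.div 5)) (.lin 9)))) (.wt 1)) (.lin
    11))) (.wt 2)))) (.div 5)) (.lin 9))) (.wt 1))) (.wt 2)) (.lin 9))) (.wt 1))) (.div 5)) (.lin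
    9))))) (.lin 4))) (.wt 1))) (.lin 12)) (.lin 3)) (.lin 9))))

def cert5_136_3 : Cert :=
  (.split 6 88 (.split 2 (-162) (.lin 3) (.split 2 (-126) (.lin 9) (.split 7 35 (.split 2 (-117)
    (.lin 9) (.split 4 (-102) (.lin 12) (.splitN 48040 (.split 3 (-178) .sq (.split 1 (-51)
    (.split 5 85 (.lin 4) (.split 3 (-101) (.splitN 32363 .sq (.splitN 40858 (.split 3 (-133) .sq
    (.split 0 (-43) (.split 5 103 (.lin 4) (.split 4 (-74) (.splitN 39491 .sq (.wt 1)) (.lin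
    12))) (.split 4 (-75) (.lin 12) (.splitN 38605 (.split 3 (-120) .sq (.split 7 30 (.wt 1)
    (.split 2 (-80) (.split 0 (-33) (.split 5 94 (.lin 4) (.split 4 (-74) .sq (.lin 12))) (.wt
    0)) (.lin 9)))) (.wt 1))))) (.wt 1))) (.lin 11))) (.split 3 (-138) (.lin 2) (.split 5 113
    (.split 3 (-129) (.lin 11) (.split 0 (-47) (.split 5 67 (.lin 4) (.split 4 (-74) (.splitN
    45505 (.split 6 62 (.split 2 (-99) (.lin 9) (.split 3 (-120) (.lin 2) (.split 7 30 .cand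
    (.split 2 (-80) (.split 4 (-83) (.split 1 (-34) (.split 3 (-83) (.split 5 85 (.lin 4) (.split
    6 44 (.wt 2) (.split 2 (-89) (.split 3 (-92) (.splitN 38357 .sq (.wt 1)) (.lin 2)) (.lin
    9)))) (.lin 2)) (.split 5 95 (.split 6 54 (.split 2 (-90) (.lin 9) (.split 3 (-84) (.lin 2)
    (.split 6 52 (.split 2 (-81) (.lin 9) (.split 3 (-75) (.lin 2) (.split 0 (-48) (.split 4
    (-92) (.splitN 39724 (.wt 1) (.split 1 (-25) (.wt 0) (.wt 0))) (.lin 3)) (.wt 2)))) (.wt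
    2)))) (.wt 2)) (.lin 4))) (.lin 12)) (.lin 9))))) (.split 2 (-80) (.split 2 (-98) (.split 3
    (-92) (.splitN 36494 .sq (.splitN 39825 (.split 0 (-59) (.split 5 85 (.lin 4) (.split 4 (-92)
    .sq (.lin 12))) (.wt 1)) (.wt 1))) (.lin 11)) (.lin 9)) (.lin 3))) (.wt 1)) (.lin 12)))
    (.split 5 86 (.split 4 (-75) (.lin 12) (.splitN 44781 (.splitN 30288 (.wt 3) (.split 6 61
    (.split 3 (-120) (.lin 6) (.split 3 (-102) (.lin 11) (.split 7 30 (.split 4 (-66) (.lin 12)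
    (.splitN 37144 (.split 1 (-21) (.split 5 58 (.lin 4) (.splitN 35015 (.split 1 (-30) (.split 3
    (-83) (.split 5 67 (.lin 4) (.split 0 (-30) (.split 4 (-65) (.wt 3) (.lin 12)) (.wt 1)))
    (.lin 2)) (.wt 3)) (.wt 1))) (.wt 0)) (.wt 1))) (.split 4 (-65) (.splitN 37618 (.wt 0)
    (.split 1 (-29) (.split 5 58 (.lin 4) (.splitN 40897 (.split 0 (-33) (.split 5 67 (.lin 4)
    (.split 4 (-74) (.split 1 (-38) (.split 5 76 (.lin 4) (.wt 1)) (.wt 0)) (.lin 12))) (.wt 0))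
    (.wt 1))) (.wt 0))) (.lin 12))))) (.wt 2))) (.wt 1))) (.lin 4)))) (.lin 4))))) (.wt 1))))
    (.split 2 (-89) (.split 4 (-74) (.split 3 (-178) .sq (.split 1 (-51) (.split 3 (-101) (.split
    5 85 (.lin 4) (.splitN 44755 (.split 0 (-30) (.split 5 94 (.lin 4) (.split 4 (-83) (.splitN
    42488 .sq (.split 0 (-44) (.split 5 103 (.lin 4) (.split 4 (-92) .sq (.lin 12))) (.wt 1)))
    (.lin 12))) (.wt 2)) (.wt 1))) (.lin 2)) (.split 3 (-129) (.lin 2) (.split 5 113 (.split 0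
    (-35) (.split 5 58 (.lin 4) (.split 4 (-83) (.splitN 51564 (.split 6 63 (.split 2 (-108)
    (.lin 9) (.split 3 (-111) (.lin 2) (.split 6 60 (.split 2 (-99) (.lin 9) (.split 3 (-102)
    (.lin 2) (.split 0 (-39) (.split 5 67 (.lin 4) (.split 4 (-92) (.split 1 (-34) (.split 3
    (-83) (.split 5 85 (.lin 4) (.splitN 44873 (.split 6 48 (.split 2 (-90) (.lin 9) (.splitN
    41753 (.wt 1) (.split 0 (-55) (.wt 0) (.split 4 (-93) (.lin 3) (.split 1 (-41) (.split 5 94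
    (.lin 0) (.split 3 (-92) (.wt 0) (.lin 6))) (.wt 0)))))) (.split 2 (-98) (.split 3 (-92)
    (.splitN 42326 .sq (.wt 1)) (.lin 2)) (.lin 9))) (.wt 1))) (.lin 2)) (.split 3 (-84) (.lin 2)
    (.splitN 43204 (.wt 0) (.split 1 (-21) (.split 5 76 (.lin 4) (.splitN 46122 (.split 0 (-52)
    (.split 5 85 (.lin 4) (.wt 1)) (.wt 0)) (.wt 1))) (.wt 0))))) (.lin 12))) (.wt 2)))) (.wt
    2)))) (.wt 2)) (.wt 1)) (.lin 12))) (.wt 2)) (.lin 4))))) (.lin 12)) (.lin 9))))) (.split 2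
    (-116) (.split 3 (-110) (.splitN 41030 .sq (.splitN 44617 (.split 0 (-41) (.split 5 67 (.lin
    4) (.split 4 (-74) .sq (.lin 12))) (.wt 1)) (.wt 1))) (.lin 11)) (.lin 9)))

def cert5_136_4 : Cert :=
  (.split 0 (-71) (.split 5 94 (.lin 4) (.split 4 (-101) (.splitN 36980 .sq (.splitN 75163
    (.split 7 26 (.wt 3) (.split 2 (-80) (.split 4 (-110) (.splitN 40787 .sq (.split 0 (-192) .sq
    (.split 3 (-189) .sq (.split 4 (-209) .sq (.split 0 (-165) (.lin 12) (.split 6 84 (.split 2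
    (-171) (.lin 9) (.split 7 62 (.splitN 62485 (.split 3 (-161) .sq (.splitN 62075 (.split 0
    (-155) .sq (.split 3 (-150) .sq (.split 4 (-175) .sq (.split 0 (-138) (.lin 12) (.split 5 165
    (.split 7 48 (.splitN 52097 (.split 1 (-49) (.wt 3) (.split 3 (-129) (.lin 11) (.split 0
    (-119) .sq (.split 4 (-156) (.lin 12) (.split 6 79 (.split 3 (-120) (.lin 11) (.split 4
    (-144) .sq (.split 6 53 (.split 1 (-29) (.split 5 103 (.lin 4) (.split 3 (-74) (.splitN 44270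
    .sq (.wt 3)) (.lin 11))) (.split 3 (-75) (.lin 11) (.split 6 51 (.split 3 (-66) (.lin 11)
    (.splitN 48965 (.split 7 41 (.split 2 (-81) (.lin 2) (.splitN 43436 (.split 0 (-79) (.wt 0)
    (.split 5 95 (.split 4 (-111) (.lin 0) (.wt 0)) (.lin 1))) (.wt 0))) (.wt 0)) (.wt 1))) (.wt
    2)))) (.split 2 (-98) (.split 3 (-74) (.splitN 48563 .sq (.wt 1)) (.lin 2)) (.lin 9))))) (.wt
    6)))))) (.wt 1)) (.split 2 (-98) (.split 0 (-120) (.lin 12) (.split 4 (-128) (.splitN 49859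
    .sq (.split 1 (-46) (.wt 1) (.split 3 (-120) (.lin 11) (.split 6 61 (.split 3 (-93) (.lin 11)
    (.split 1 (-37) (.wt 1) (.split 5 149 (.split 3 (-84) (.lin 11) (.split 6 51 (.split 3 (-75)
    (.lin 11) (.split 0 (-76) (.split 4 (-137) (.split 5 103 (.lin 4) (.splitN 55448 .sq (.split
    1 (-28) (.wt 0) (.split 3 (-66) (.lin 11) (.wt 2))))) (.lin 3)) (.wt 6))) (.wt 6))) (.lin
    4)))) (.wt 1))))) (.lin 12))) (.lin 9))) .sq))))) (.wt 1))) (.wt 1)) (.split 2 (-116) (.split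
    0 (-129) (.lin 12) (.split 4 (-146) (.splitN 60875 .sq (.split 1 (-34) (.wt 1) (.split 3
    (-111) (.lin 11) (.splitN 67957 (.split 1 (-29) (.wt 1) (.split 3 (-102) (.lin 11) (.split 0
    (-75) (.split 5 103 (.lin 4) (.split 4 (-155) .sq (.lin 8))) (.wt 0)))) (.wt 1))))) (.lin
    12))) (.lin 9)))) (.split 2 (-125) (.split 3 (-110) (.splitN 63872 .sq (.wt 1)) (.lin 11))
    (.lin 9)))))))) (.lin 12)) (.lin 9))) (.wt 1))) (.lin 12))) (.split 4 (-156) (.lin 12)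
    (.splitN 81138 (.splitN 24761 (.wt 3) (.split 3 (-258) .sq (.split 7 48 (.split 4 (-111)
    (.lin 12) (.splitN 57362 (.split 3 (-209) .sq (.split 1 (-156) (.lin 11) (.split 5 221
    (.split 0 (-21) (.split 5 49 (.lin 4) (.split 4 (-56) (.splitN 54827 cert5_136_3 (.wt 1))
    (.lin 12))) (.wt 2)) (.lin 4)))) (.wt 1))) (.split 2 (-98) (.split 0 (-27) (.split 5 49 (.lin
    4) (.split 4 (-83) (.splitN 73244 (.split 6 91 (.split 2 (-216) (.lin 3) (.split 3 (-217) .sq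
    (.split 6 85 (.split 2 (-171) (.lin 9) (.split 1 (-58) (.split 5 94 (.lin 4) (.split 3 (-110)
    (.splitN 47429 .sq (.splitN 56708 (.split 7 57 (.wt 1) (.split 2 (-107) (.split 4 (-92)
    (.splitN 51884 .sq (.split 0 (-37) (.split 5 103 (.lin 4) (.split 4 (-101) .sq (.lin 12)))
    (.wt 1))) (.lin 12)) (.lin 9))) (.wt 1))) (.lin 11))) (.split 3 (-174) (.lin 2) (.split 3
    (-138) (.lin 11) (.split 0 (-35) (.split 5 58 (.lin 4) (.split 6 63 (.split 3 (-120) (.lin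
    11) (.split 6 60 (.split 3 (-111) (.lin 11) (.split 0 (-39) (.split 5 67 (.lin 4) (.split 4
    (-101) (.split 1 (-21) (.split 5 76 (.lin 4) (.split 3 (-74) (.splitN 60986 (.split 7 71
    (.split 2 (-126) (.lin 9) (.split 4 (-147) (.lin 3) (.split 4 (-138) (.lin 12) (.split 1
    (-43) (.split 5 94 (.lin 4) (.split 3 (-92) (.splitN 46457 .sq (.splitN 52535 (.split 6 52
    (.split 7 55 (.wt 0) (.split 2 (-107) (.split 4 (-110) .sq (.lin 3)) (.lin 9))) (.wt 1)) (.wt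
    1))) (.lin 11))) (.split 5 104 (.split 3 (-93) (.lin 11) (.split 0 (-50) (.split 5 85 (.lin
    4) (.split 4 (-110) (.splitN 55431 (.split 6 48 (.split 3 (-84) (.lin 11) (.split 7 69
    (.split 2 (-108) (.lin 9) (.split 4 (-129) (.lin 3) (.splitN 52433 (.split 7 61 (.split 2
    (-99) (.lin 9) (.split 4 (-120) (.lin 3) (.splitN 49311 (.wt 1) (.wt 1)))) (.wt 3)) (.wt
    1)))) (.wt 0))) (.wt 2)) (.wt 1)) (.lin 12))) (.wt 2))) (.lin 4)))))) (.split 2 (-125)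
    (.split 4 (-128) (.splitN 54800 .sq (.split 1 (-51) (.wt 1) (.split 3 (-102) (.lin 11)
    (.split 6 51 (.split 3 (-93) (.lin 11) (.split 1 (-31) (.split 5 85 (.lin 4) (.split 3 (-83)
    (.splitN 58283 .sq (.wt 1)) (.lin 11))) (.wt 0))) (.wt 1))))) (.lin 12)) (.lin 9))) (.wt 1))
    (.lin 11))) (.wt 2)) (.lin 12))) (.wt 2))) (.wt 2))) (.wt 2))) (.wt 2)))))) (.wt 2)))) (.wt
    2)) (.wt 1)) (.lin 12))) (.wt 2)) (.lin 9))))) (.wt 1))))

def cert5_136_5 : Cert :=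
  (.split 7 24 (.splitN 67516 (.split 5 364 (.split 0 (-248) .sq (.split 4 (-264) (.lin 12)
    (.split 1 (-248) .sq (.split 2 (-249) .sq (.split 6 233 (.split 3 (-251) .sq (.split 7 12
    (.splitN 22927 (.split 5 112 (.splitN 17133 (.split 2 (-95) (.div 2) (.split 6 80 (.split 5
    94 (.split 1 (-75) (.lin 8) (.split 0 (-28) (.wt 2) (.split 4 (-30) (.lin 12) (.split 6 21
    (.wt 2) (.split 2 (-35) (.split 3 (-47) (.splitN 16724 (.split 2 (-77) (.div 2) (.split 6 62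
    (.split 5 76 (.split 3 (-120) (.lin 1) (.split 1 (-57) (.lin 8) (.split 6 33 (.wt 1) (.split
    2 (-44) (.split 3 (-56) (.split 0 (-19) (.wt 1) (.split 4 (-21) (.lin 12) (.wt 0))) (.lin 2))
    (.lin 9))))) (.div 5)) (.lin 9))) (.wt 3)) (.lin 2)) (.lin 9)))))) (.div 5)) (.lin 9))) (.wt
    3)) (.div 5)) (.wt 0)) (.split 2 (-35) (.split 4 (-29) (.split 6 57 (.split 0 (-43) (.split 4
    (-65) (.splitN 22711 (.wt 1) (.split 1 (-50) (.wt 0) (.split 6 28 (.wt 0) (.split 2 (-53)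
    (.split 3 (-56) (.splitN 25756 (.split 5 130 (.wt 1) (.div 5)) (.wt 0)) (.lin 2)) (.lin
    9))))) (.lin 12)) (.split 6 30 (.splitN 42710 .cand (.wt 3)) (.splitN 32537 .cand (.wt 1))))
    (.split 2 (-80) (.split 3 (-83) (.splitN 30400 (.split 5 166 (.split 4 (-156) (.lin 8)
    (.split 0 (-12) (.split 5 40 (.lin 4) (.split 4 (-38) (.splitN 29030 (.split 2 (-149) (.div
    2) (.split 0 (-76) .sq (.split 4 (-93) (.lin 12) (.split 1 (-76) .sq (.split 3 (-201) (.lin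
    2) (.split 0 (-21) (.split 5 49 (.lin 4) (.split 4 (-47) (.split 0 (-65) .sq (.split 4 (-75)
    (.lin 12) (.split 3 (-101) .sq (.split 5 86 (.split 1 (-30) (.lin 2) (.split 2 (-90) (.lin 2)
    (.split 6 71 (.splitN 23453 (.wt 1) (.split 0 (-46) (.split 5 67 (.lin 4) (.split 4 (-65) .sq
    (.lin 12))) (.wt 1))) (.lin 9)))) (.lin 1))))) (.lin 12))) (.wt 2))))))) (.wt 1)) (.lin 12)))
    (.wt 0))) (.div 5)) (.wt 1)) (.lin 2)) (.lin 9))) (.lin 12)) (.lin 9)))) (.lin 9)))))) (.div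
    5)) (.wt 1)) (.split 2 (-44) (.split 4 (-38) (.split 6 42 (.splitN 23896 (.wt 1) cert5_136_2)
    (.split 2 (-71) (.split 3 (-65) (.splitN 236232 (.split 0 (-6501) (.div 0) (.split 2 (-1301)
    (.div 2) (.split 7 1250 (.split 4 (-2601) (.div 4) (.split 0 (-2568) (.lin 12) (.split 5 1300
    (.split 3 (-2550) (.lin 1) (.split 0 (-1272) (.lin 4) (.split 1 (-1281) (.lin 4) (.splitN
    212053 (.split 2 (-1175) (.div 2) (.split 7 1124 (.split 0 (-17) (.split 5 40 (.lin 4)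
    (.split 4 (-47) (.splitN 171853 (.split 2 (-941) (.div 2) (.split 7 890 (.split 5 940 (.split
    3 (-1821) (.lin 1) (.split 0 (-392) .sq (.split 1 (-392) .sq (.split 3 (-1299) (.lin 2)
    (.split 5 779 (.splitN 162705 (.split 2 (-385) .sq (.split 3 (-1110) (.lin 1) (.split 3
    (-741) (.lin 2) (.split 6 350 (.split 7 332 (.splitN 141990 (.split 0 (-352) .sq (.split 1
    (-352) .sq (.split 2 (-359) .sq (.split 7 305 (.split 3 (-358) .sq (.split 4 (-355) .sq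
    (.split 5 353 (.split 7 89 (.splitN 91853 (.split 1 (-275) .sq (.split 3 (-282) .sq (.split 1
    (-237) (.lin 11) (.split 4 (-278) .sq (.split 0 (-246) (.lin 12) (.split 5 276 cert5_136_4
    .sq)))))) (.wt 1)) (.split 2 (-143) (.split 0 (-255) (.lin 12) (.split 4 (-119) (.split 0
    (-29) (.split 5 49 (.lin 4) (.split 4 (-128) (.split 0 (-30) (.split 5 58 (.lin 4) (.split 4
    (-137) (.splitN 60308 .sq (.splitN 105049 (.split 0 (-214) .sq (.split 2 (-255) .sq (.split 7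
    206 (.splitN 96589 (.split 1 (-187) .sq (.split 2 (-235) .sq (.split 7 188 (.split 3 (-197)
    .sq (.split 0 (-39) (.split 5 67 (.lin 4) (.split 4 (-146) (.splitN 90146 (.split 0 (-161)
    .sq (.split 6 78 (.split 2 (-210) .sq (.split 7 161 (.split 3 (-167) .sq (.split 4 (-212) .sq
    (.split 0 (-138) (.lin 3) (.split 0 (-111) (.lin 12) (.splitN 83488 (.split 2 (-194) .sq
    (.split 7 143 (.split 3 (-146) .sq (.split 4 (-196) .sq (.split 0 (-93) (.lin 12) (.split 1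
    (-88) (.wt 1) (.split 6 58 (.split 1 (-41) (.split 5 94 (.lin 4) (.split 3 (-92) (.splitN
    75212 .sq (.wt 1)) (.lin 11))) (.split 3 (-93) (.lin 11) (.splitN 76660 (.split 0 (-67)
    (.split 5 94 (.lin 4) (.split 4 (-173) .sq (.lin 12))) (.wt 2)) (.wt 1)))) (.wt 6)))))) (.lin
    9))) (.wt 1)))))) (.lin 9))) (.wt 6))) (.wt 1)) (.lin 12))) (.wt 6))) (.lin 9)))) (.wt 1))
    (.lin 9)))) (.wt 1))) (.lin 12))) (.wt 2)) (.lin 12))) (.wt 2)) (.lin 12))) (.lin 9))) .sq)))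
    (.lin 9))))) (.wt 1)) (.lin 9)) (.lin 9))))) (.wt 1)) (.lin 4)))))) (.div 5)) (.lin 9))) (.wt
    1)) (.lin 12))) (.wt 2)) (.lin 9))) (.wt 1))))) (.div 5)))) (.lin 9)))) (.wt 1)) (.lin 11))
    (.lin 9))) (.lin 12)) (.lin 9)))

def cert5_136_6 : Cert :=
  (.split 7 60 (.split 2 (-126) (.lin 2) (.splitN 167554 (.split 0 (-4611) (.div 0) (.split 5 922
    (.split 4 (-1002) (.lin 0) (.split 0 (-975) (.lin 1) (.split 6 70 (.split 2 (-117) (.lin 9)
    (.split 3 (-75) (.lin 11) (.split 0 (-395) .sq (.split 4 (-480) (.lin 3) (.splitN 155930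
    (.split 4 (-381) .sq (.split 6 61 (.split 3 (-66) (.lin 11) (.split 6 39 (.split 3 (-48)
    (.lin 11) (.split 0 (-30) (.split 5 49 (.lin 4) (.split 4 (-65) (.splitN 126536 (.split 0
    (-334) .sq (.split 4 (-338) .sq (.split 5 320 (.split 7 39 (.split 2 (-72) (.lin 2) (.splitN
    81786 (.split 0 (-264) .sq (.split 5 293 (.split 4 (-269) .sq (.split 0 (-97) (.split 5 94
    (.lin 1) (.split 4 (-101) (.split 4 (-119) (.split 5 112 (.lin 4) (.split 4 (-128) (.split 6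
    26 (.wt 2) (.split 3 (-47) (.splitN 47429 .sq (.splitN 57081 (.split 7 27 (.wt 0) (.split 0
    (-181) (.split 5 193 (.lin 1) .sq) (.wt 0))) (.wt 1))) (.lin 11))) (.lin 8))) (.lin 3)) (.lin
    0))) (.split 5 122 (.split 4 (-156) (.lin 0) (.split 4 (-138) (.lin 3) (.split 5 104 (.split
    4 (-129) (.lin 8) (.split 6 30 (.split 3 (-39) (.lin 11) (.split 0 (-39) (.split 5 58 (.lin
    4) (.splitN 71140 .cand (.wt 1))) (.wt 2))) (.splitN 43781 (.wt 0) (.splitN 53380 (.split 0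
    (-48) (.split 5 67 (.lin 4) (.splitN 48132 (.split 0 (-74) (.split 5 85 (.lin 4) (.wt 6))
    (.wt 0)) (.wt 6))) (.wt 0)) (.wt 6))))) (.lin 4)))) (.lin 1)))) (.lin 1))) (.wt 1))) (.split
    2 (-71) (.split 0 (-291) (.lin 12) (.split 0 (-47) (.split 5 58 (.lin 4) (.split 0 (-49)
    (.split 5 67 (.lin 4) (.split 4 (-101) (.split 6 34 (.split 2 (-81) (.lin 9) (.split 3 (-39)
    (.lin 11) (.splitN 104361 (.splitN 68862 (.wt 1) .cand) (.wt 1)))) (.wt 2)) (.lin 8))) (.wt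
    2))) (.wt 2))) (.lin 2))) (.lin 8)))) (.wt 1)) (.lin 8))) (.wt 2))) (.split 2 (-71) (.split 3
    (-56) (.splitN 81276 (.split 7 49 (.split 2 (-99) (.lin 2) (.split 0 (-84) (.split 4 (-110)
    (.split 5 103 (.lin 4) (.split 4 (-119) (.splitN 44351 .sq (.splitN 61950 (.split 5 328
    (.split 0 (-336) (.lin 1) (.splitN 57265 (.split 7 35 (.splitN 53229 (.split 7 33 (.wt 1)
    (.wt 0)) (.wt 1)) (.wt 0)) (.wt 6))) (.div 5)) (.wt 1))) (.lin 8))) (.lin 3)) (.wt 2))) (.wt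
    0)) (.wt 1)) (.lin 11)) (.lin 9)))) (.wt 2))) (.wt 1)))))) (.wt 2)))) (.div 5))) (.wt 1)))
    (.split 2 (-89) (.split 6 44 (.split 3 (-57) (.lin 11) (.split 0 (-47) (.split 5 58 (.lin 4)
    (.split 0 (-49) (.split 5 67 (.lin 4) (.split 4 (-119) (.splitN 6884200 (.split 2 (-38237)
    (.div 2) (.split 7 38204 (.split 5 38236 (.split 0 (-38217) (.lin 4) (.splitN 6263463 (.split
    2 (-34781) (.div 2) (.split 7 34748 (.split 6 37 (.split 3 (-48) (.lin 11) (.splitN 1858711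
    (.split 2 (-10319) (.div 2) (.split 7 10286 (.split 5 10318 (.split 0 (-10299) (.lin 4)
    (.splitN 1736932 (.split 2 (-9635) (.div 2) (.split 7 9602 (.split 5 9634 (.split 0 (-9615)
    (.lin 4) (.split 0 (-61) (.split 5 76 (.lin 4) (.split 4 (-128) (.splitN 1276775 (.split 2
    (-7079) (.div 2) (.split 7 7046 (.split 5 7078 (.split 0 (-7059) (.lin 4) (.split 6 34
    (.split 3 (-39) (.lin 11) (.splitN 735563 (.split 2 (-4073) (.div 2) (.split 4 (-11100) (.lin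
    0) (.split 7 4040 (.split 5 4072 (.split 0 (-4053) (.lin 4) (.split 0 (-91) (.split 4 (-155)
    (.split 5 103 (.lin 4) (.splitN 544969 (.split 2 (-3011) (.div 2) (.split 7 2978 (.split 4
    (-6021) (.div 4) (.split 5 3010 (.split 0 (-2991) (.lin 4) (.split 0 (-99) (.split 4 (-164)
    (.split 5 112 (.lin 4) (.splitN 504465 (.split 5 2794 (.split 0 (-2775) (.lin 4) (.split 7
    536 (.split 2 (-558) (.lin 2) (.splitN 374668 (.split 5 2074 (.split 4 (-2586) (.lin 0)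
    (.split 0 (-2055) (.lin 4) (.split 0 (-102) (.split 4 (-173) (.split 5 121 (.lin 4) (.split 7
    418 (.split 2 (-441) (.lin 2) (.splitN 332866 (.split 0 (-522) .sq (.split 4 (-930) (.lin 3)
    (.split 7 202 (.split 2 (-225) (.lin 2) (.splitN 230674 (.split 0 (-411) .sq (.split 4 (-606)
    (.lin 3) (.split 7 168 (.splitN 204398 (.split 4 (-401) .sq (.split 0 (-336) (.lin 3) (.split
    0 (-111) (.split 5 130 (.lin 4) (.split 7 135 (.splitN 180113 .cand (.wt 1)) (.wt 2))) (.wt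
    2)))) (.wt 1)) (.wt 2)))) (.wt 1))) (.wt 2)))) (.wt 1))) (.wt 2))) (.lin 3)) (.wt 2)))) (.div
    5)) (.wt 1))) (.wt 2))) (.div 5)) (.wt 1))) (.lin 3)) (.wt 2))) (.div 5))) (.lin 2))) (.wt
    1))) (.lin 3)) (.wt 2))) (.div 5)) (.lin 2)))) (.wt 1))) (.wt 2))) (.div 5)) (.lin 2))) (.wt
    1)) (.lin 8))) (.wt 2))) (.div 5)) (.lin 2))) (.wt 1))) (.div 5)) (.lin 2))) (.wt 1))) (.wt
    2)) (.lin 2))) (.wt 1))) (.div 5)) (.lin 2))) (.wt 1)) (.lin 8))) (.wt 2))) (.wt 2))) (.wt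
    2)) (.lin 2)))

def cert5_136_7 : Cert :=
  (.split 4 (-20) (.split 1 (-12) (.split 5 31 (.lin 4) (.split 3 (-29) (.splitN 10991 (.wt 1)
    (.split 6 8 (.wt 2) (.split 2 (-26) (.split 3 (-38) cert5_136_5 (.lin 11)) (.lin 9)))) (.lin
    11))) (.split 6 24 (.split 3 (-30) (.lin 11) (.split 1 (-5) (.split 5 22 (.lin 4) (.split 3
    (-20) (.split 6 8 (.wt 6) (.split 2 (-26) (.split 3 (-29) (.split 0 (-134) (.wt 2) (.split 5
    140 (.split 0 (-68) (.wt 6) (.split 5 77 (.split 0 (-63) (.wt 6) (.split 5 68 (.split 7 24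
    (.split 2 (-36) (.lin 9) (.split 4 (-75) (.lin 0) (.splitN 16920 (.wt 1) (.split 0 (-20) (.wt
    2) (.split 5 32 (.split 4 (-39) (.lin 0) (.split 4 (-30) (.lin 3) (.splitN 28675 (.split 7 10
    (.wt 0) (.wt 0)) (.wt 6)))) (.lin 1)))))) (.split 2 (-44) (.split 4 (-38) (.split 0 (-16)
    (.split 4 (-47) (.split 5 31 (.lin 4) (.split 0 (-50) (.wt 2) (.split 5 59 (.split 7 2683
    (.split 2 (-2727) (.lin 1) (.split 4 (-2757) (.lin 0) (.split 7 2054 (.split 2 (-2097) (.lin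
    1) (.split 4 (-2127) (.lin 0) (.split 7 1920 (.split 2 (-1962) (.lin 1) (.split 4 (-1992)
    (.lin 0) (.split 0 (-42) (.wt 6) (.split 5 50 (.split 7 1308 (.split 2 (-1341) (.lin 1)
    (.split 4 (-1362) (.lin 0) (.split 7 1186 (.split 2 (-1215) (.lin 1) (.split 4 (-1236) (.lin
    0) (.split 7 464 (.split 2 (-495) (.lin 1) (.split 4 (-516) (.lin 0) (.split 7 398 (.split 7
    101 (.split 2 (-135) (.lin 1) (.split 2 (-117) (.lin 9) (.split 4 (-138) (.lin 0) (.split 0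
    (-36) (.wt 2) (.split 4 (-129) (.lin 3) (.split 5 41 (.split 7 50 (.split 2 (-63) (.lin 9)
    (.split 0 (-27) (.wt 2) (.split 4 (-66) (.lin 3) (.split 5 32 (.splitN 80323 (.split 7 29
    (.split 2 (-45) (.lin 1) (.split 4 (-48) (.lin 0) (.splitN 69071 (.wt 0) (.wt 0)))) (.wt 0))
    (.wt 6)) (.lin 4))))) (.split 2 (-71) (.split 0 (-24) (.split 4 (-83) (.split 5 40 (.lin 4)
    (.splitN 219315 (.wt 6) (.split 7 65 (.wt 0) (.split 2 (-89) (.split 4 (-101) (.splitN 246151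
    (.wt 1) (.split 7 72 (.wt 0) (.split 2 (-98) (.split 4 (-110) (.splitN 297274 (.wt 1)
    (.splitN 433807 (.split 7 94 (.split 2 (-108) (.lin 1) (.split 4 (-120) (.lin 0) (.splitN
    376116 (.split 7 88 (.wt 0) (.wt 0)) (.wt 1)))) (.wt 0)) (.wt 6))) (.lin 0)) (.lin 1))))
    (.lin 0)) (.lin 1))))) (.lin 3)) (.wt 2)) (.lin 9))) (.lin 4))))))) (.split 2 (-125) (.split
    4 (-128) (.split 0 (-23) (.split 5 40 (.lin 4) (.split 0 (-37) (.wt 2) (.split 5 41 (.split 4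
    (-426) (.lin 6) (.splitN 520272 (.split 4 (-172) (.split 2 (-161) (.split 7 142 (.lin 1) (.wt
    0)) (.lin 0)) (.wt 0)) (.wt 6))) (.lin 4)))) (.wt 0)) (.lin 0)) (.lin 9))) (.wt 3)))) (.wt
    3)))) (.wt 0)))) (.wt 0)) (.lin 4))))) (.wt 3)))) (.wt 3)))) (.wt 3)) (.lin 4)))) (.lin 3))
    (.wt 2)) (.lin 0)) (.lin 2))) (.lin 4))) (.lin 4))) (.lin 4))) (.lin 11)) (.lin 9))) (.lin
    11))) (.split 3 (-21) (.lin 11) (.split 7 12 (.split 2 (-27) (.lin 2) (.split 6 16 (.split 2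
    (-18) (.lin 9) (.split 3 (-12) (.lin 2) (.split 0 (-23) (.split 5 31 (.lin 1) (.split 4 (-38)
    (.splitN 665717 (.wt 1) (.split 0 (-63) (.wt 0) (.split 5 59 (.split 4 (-66) (.lin 0) (.wt
    1)) (.lin 1)))) (.lin 0))) (.wt 0)))) (.wt 0))) (.wt 0))))) (.split 2 (-35) (.split 3 (-29)
    (.split 1 (-5) (.split 5 22 (.lin 4) (.split 3 (-38) (.split 7 24 (.splitN 57059 (.split 7 12
    (.splitN 20695 (.split 2 (-113) (.div 2) (.split 6 98 (.splitN 19648 .cand (.wt 3)) (.lin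
    9))) (.wt 1)) .cand) (.wt 1)) (.split 2 (-53) (.splitN 23256 (.wt 0) (.split 0 (-16) (.split
    5 31 (.lin 4) (.split 4 (-47) (.split 6 188 (.split 3 (-201) (.lin 11) (.split 6 121 (.split
    3 (-129) (.lin 11) (.split 6 101 (.split 3 (-111) (.lin 11) (.split 0 (-21) (.split 5 40
    (.lin 4) (.split 4 (-56) (.split 6 86 (.split 3 (-93) (.lin 11) (.split 6 79 (.split 3 (-84)
    (.lin 11) cert5_136_6) (.wt 2))) (.wt 2)) (.lin 8))) (.wt 2))) (.wt 2))) (.wt 2))) (.wt 2))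
    (.lin 8))) (.wt 2))) (.lin 2))) (.lin 11))) (.wt 2)) (.lin 11)) (.lin 9)))) (.lin 12))

def cert5_136_8 : Cert :=
  (.split 4 (-453) (.lin 10) (.splitN 187647 (.split 2 (-429) .sq (.split 3 (-399) (.lin 1)
    (.split 7 395 (.split 7 56 (.splitN 78503 (.split 0 (-276) .sq (.split 1 275 (.split 5 (-257)
    (.lin 4) (.split 2 (-278) .sq (.split 3 (-246) (.lin 1) (.split 5 (-239) (.lin 1) (.split 7
    20 (.splitN 32258 (.split 2 (-167) (.div 2) (.split 3 (-138) (.lin 1) (.split 5 (-131) (.lin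
    1) (.split 7 12 (.splitN 16269 .cand (.wt 1)) .cand)))) (.wt 1)) (.split 1 232 (.split 2
    (-53) (.split 3 (-228) (.lin 1) (.split 5 (-221) (.lin 1) (.split 4 (-38) (.splitN 63235
    (.split 2 (-243) .sq (.split 0 (-201) (.lin 1) (.split 0 (-47) (.split 2 (-89) (.split 3
    (-165) (.lin 1) (.split 5 (-158) (.lin 1) (.split 1 51 (.lin 4) (.split 6 61 (.lin 7) (.split
    4 (-74) (.splitN 39290 (.split 2 (-203) (.div 2) (.split 1 160 (.split 3 (-14) (.split 1 151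
    (.split 2 (-98) (.split 5 (-104) (.lin 1) (.split 6 70 (.lin 7) (.splitN 26126 .sq (.split 5
    (-7) (.split 2 (-107) (.split 3 (-111) (.lin 1) (.split 1 60 (.lin 4) (.split 6 79 (.lin 7)
    (.splitN 30500 .sq (.splitN 35964 (.split 2 (-185) (.div 2) (.split 5 (-86) (.lin 1) (.split
    3 (-36) (.split 2 (-125) (.split 6 97 (.lin 7) .sq) (.lin 10)) (.wt 1)))) (.wt 1)))))) (.lin
    10)) (.wt 1))))) (.lin 10)) (.lin 2)) (.wt 0)) (.lin 2))) (.wt 1)) (.lin 12)))))) (.lin 1))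
    (.split 4 (-93) (.lin 12) (.split 3 (-14) (.split 2 (-62) (.split 6 34 (.lin 7) (.split 0
    (-13) (.split 1 24 (.lin 4) (.split 6 43 (.lin 7) (.split 4 (-47) (.splitN 40737 (.split 2
    (-221) (.div 2) (.split 1 169 (.splitN 21124 (.wt 5) (.split 3 (-30) (.split 2 (-89) (.split
    5 (-131) (.lin 1) (.split 6 61 (.lin 7) (.splitN 36513 (.split 2 (-203) (.div 2) (.split 3
    (-147) (.lin 1) (.split 5 (-113) (.lin 1) (.splitN 36156 (.split 2 (-185) (.div 2) (.split 5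
    (-95) (.lin 1) (.split 5 (-5) (.split 3 (-120) (.lin 1) (.split 1 33 (.lin 4) (.split 6 70
    (.lin 7) (.splitN 29555 (.split 2 (-149) (.div 2) (.split 3 (-84) (.lin 1) (.split 5 (-59)
    (.lin 1) (.wt 2)))) (.wt 6))))) (.wt 1)))) (.wt 1))))) (.wt 1)))) (.lin 1)) (.wt 2))) (.lin
    2))) (.wt 1)) (.lin 12)))) (.wt 2))) (.lin 1)) (.wt 2)))))) (.wt 1)) (.lin 12)))) (.lin 9))
    (.lin 2))))))) .sq)) (.wt 1)) (.split 0 (-345) (.lin 1) (.split 2 (-89) (.split 5 (-338)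
    (.lin 1) (.split 0 (-12) (.split 1 24 (.lin 4) (.split 6 34 (.lin 7) (.split 4 (-83) (.split
    3 (-18) (.split 2 (-107) (.split 6 43 (.lin 7) (.splitN 66459 (.split 2 (-365) (.div 2)
    (.split 1 277 (.split 3 (-273) (.lin 1) (.split 5 (-257) (.lin 1) (.split 7 314 (.split 0
    (-22) (.split 2 (-116) (.split 1 33 (.lin 4) (.split 6 52 (.lin 7) (.split 4 (-92) (.splitN
    30986 .sq (.splitN 58413 (.split 2 (-311) (.div 2) (.split 0 (-219) (.lin 1) (.split 3 (-210)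
    (.lin 1) (.split 5 (-194) (.lin 1) (.split 7 251 (.split 5 (-6) (.split 2 (-125) (.split 1 42
    (.lin 4) (.split 6 61 (.lin 7) (.splitN 53011 (.split 2 (-293) (.div 2) (.split 0 (-192)
    (.lin 1) (.split 1 205 (.split 3 (-183) (.lin 1) (.split 5 (-176) (.lin 1) (.split 7 224
    (.splitN 51795 (.split 2 (-275) (.div 2) (.split 3 (-165) (.lin 1) (.split 5 (-158) (.lin 1)
    (.split 7 206 (.split 4 (-237) (.lin 10) (.split 3 (-21) (.split 2 (-134) (.split 5 (-149)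
    (.lin 1) (.split 6 70 (.lin 7) (.splitN 39005 .sq (.splitN 48764 (.split 2 (-257) (.div 2)
    (.split 1 160 (.split 3 (-147) (.lin 1) (.split 5 (-131) (.lin 1) (.split 7 179 (.split 5
    (-18) (.split 2 (-143) (.split 3 (-138) (.lin 1) (.split 7 170 (.split 1 51 (.lin 4) (.split
    6 79 (.lin 7) (.splitN 44027 .sq (.wt 1)))) (.lin 1))) (.lin 10)) (.wt 1)) (.lin 1)))) (.lin
    2))) (.wt 1))))) (.lin 10)) (.wt 0))) (.lin 1))))) (.wt 1)) (.lin 1)))) (.lin 2)))) (.wt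
    1)))) (.lin 1)) (.wt 1)) (.lin 1)))))) (.wt 1))) (.lin 12)))) (.lin 1)) (.wt 2)) (.lin 1))))
    (.lin 2))) (.wt 1))) (.lin 1)) (.wt 2)) (.lin 12)))) (.wt 2))) (.lin 9)))) (.lin 1)))) (.wt
    1)))

def cert5_136_9 : Cert :=
  (.split 7 91 (.split 2 (-198) (.lin 1) (.split 2 (-144) (.lin 9) (.split 4 (-183) (.lin 0)
    (.split 4 (-156) (.lin 6) (.splitN 78411 (.split 1 15 (.split 0 (-39) (.lin 4) (.split 5 31
    (.lin 4) (.splitN 25615 (.wt 6) (.split 3 (-22) (.wt 0) (.split 6 26 (.wt 0) (.lin 7))))))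
    (.split 2 (-62) (.split 3 (-39) (.lin 11) (.split 6 34 (.lin 11) (.splitN 23367 (.wt 1)
    (.split 5 12 (.wt 2) (.split 7 48 (.split 2 (-99) (.lin 9) (.split 4 (-111) (.lin 6) (.splitN
    23534 (.wt 1) (.split 7 35 (.split 4 (-102) (.lin 6) (.splitN 42115 (.split 3 (-29) (.split 1
    25 (.split 3 (-37) (.wt 2) .cand) (.lin 11)) (.split 6 44 (.split 4 (-93) (.lin 6) (.split 1
    25 (.split 7 30 (.split 2 (-72) (.lin 2) (.splitN 29688 (.split 1 16 (.wt 0) (.split 2 (-71)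
    (.split 6 43 (.lin 9) (.split 0 (-45) (.split 5 22 (.lin 1) (.split 0 (-51) (.split 5 31
    (.lin 1) (.split 4 (-83) (.wt 0) (.lin 0))) (.wt 0))) (.wt 0))) (.lin 2))) (.wt 0))) .cand)
    (.lin 11))) (.split 1 33 (.lin 11) (.splitN 27739 (.wt 0) (.splitN 31865 (.split 7 28 (.wt 1)
    (.wt 0)) (.wt 6)))))) (.wt 1))) (.split 4 (-74) (.split 4 (-83) (.split 3 (-29) (.split 1 25
    (.splitN 37703 .cand (.wt 0)) (.lin 2)) (.splitN 41403 (.split 6 44 (.split 0 (-57) (.lin 7)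
    (.split 1 25 (.splitN 39433 .cand (.wt 1)) (.lin 11))) (.split 1 33 (.lin 11) (.wt 0))) (.wt
    1))) (.lin 12)) (.lin 8)))))) (.split 2 (-80) (.split 2 (-89) (.split 4 (-83) (.split 4 (-92)
    (.split 3 (-29) (.split 0 (-57) (.lin 7) (.split 1 25 (.split 6 43 (.lin 11) (.split 7 71
    (.splitN 44220 (.split 5 23 (.split 0 (-48) (.lin 4) (.split 4 (-120) (.lin 6) (.split 1 20
    (.split 0 (-39) (.lin 4) (.split 5 22 (.lin 4) (.split 3 (-35) (.wt 2) (.split 6 44 (.splitN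
    35714 (.wt 1) (.wt 0)) (.lin 7))))) (.split 2 (-107) (.split 3 (-30) (.lin 11) (.split 6 52
    (.lin 11) (.splitN 41997 (.splitN 36647 (.wt 5) (.split 7 63 (.split 5 15 (.split 0 (-39)
    (.lin 4) (.wt 1)) (.wt 1)) (.wt 0))) (.wt 1)))) (.lin 2))))) .cand) (.wt 3)) (.split 2 (-125)
    (.split 4 (-101) (.split 4 (-119) (.splitN 40859 .sq (.split 5 28 (.split 1 16 (.wt 0)
    (.split 2 (-134) (.split 3 (-30) (.lin 11) (.split 6 52 (.lin 11) (.splitN 44432 .sq (.wt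
    1)))) (.lin 2))) (.wt 1))) (.lin 12)) (.lin 0)) (.lin 9)))) (.lin 11))) (.split 6 44 (.split
    4 (-147) (.lin 6) (.split 0 (-57) (.lin 7) (.split 1 25 (.split 7 71 (.split 4 (-129) (.lin
    6) (.split 5 23 (.split 4 (-120) (.lin 6) (.split 1 20 (.split 0 (-39) (.lin 4) (.split 5 22
    (.lin 4) (.wt 2))) (.split 6 43 (.lin 11) (.splitN 42393 (.wt 0) (.wt 1))))) (.split 0 (-47)
    (.split 4 (-101) (.splitN 39512 (.split 1 23 (.split 2 (-108) (.lin 2) (.split 0 (-48) (.lin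
    4) (.split 4 (-120) (.lin 0) (.split 6 35 (.splitN 36140 (.wt 1) (.wt 1)) (.lin 7))))) (.wt
    0)) (.wt 1)) (.lin 6)) (.lin 4)))) (.split 2 (-116) (.split 4 (-119) (.splitN 37538 .sq
    (.split 5 31 (.split 0 (-48) (.lin 4) (.split 6 41 (.split 0 (-39) (.lin 7) (.split 1 16
    (.split 5 22 (.lin 4) (.splitN 40874 (.wt 0) (.wt 1))) (.lin 11))) (.wt 2))) (.wt 6))) (.lin
    12)) (.lin 9))) (.lin 11)))) (.split 1 33 (.lin 11) (.splitN 45769 (.wt 0) (.wt 1))))) (.lin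
    12)) (.lin 8)) (.lin 9)) (.lin 1))))))) (.lin 2))) (.wt 3)))))) (.split 2 (-125) (.split 4
    (-110) (.split 4 (-137) (.splitN 46592 .sq (.splitN 108155 (.split 1 9 (.wt 0) (.split 2
    (-134) (.split 3 (-39) (.lin 11) (.split 6 34 (.lin 11) (.splitN 49679 .sq (.split 2 (-276)
    .sq (.split 7 242 (.splitN 100865 (.split 2 (-258) .sq (.split 7 224 (.split 5 12 (.wt 2)
    (.splitN 71330 (.split 2 (-193) .sq (.split 7 152 (.split 1 16 (.wt 3) (.split 2 (-143)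
    (.split 7 143 (.split 3 (-30) (.lin 11) (.split 6 43 (.lin 11) (.splitN 53423 .sq (.wt 1))))
    (.lin 2)) (.lin 2))) (.lin 2))) (.wt 1))) (.lin 1))) (.wt 3)) (.lin 1)))))) (.lin 2))) (.wt
    3))) (.lin 12)) (.lin 3)) (.lin 1)))

def cert5_136_10 : Cert :=
  (.split 7 944 (.split 4 (-1953) (.div 4) (.split 5 1940 (.split 0 (-2865) (.lin 1) (.splitN
    159069 (.split 0 (-384) .sq (.split 5 374 (.split 2 (-386) .sq (.split 4 (-759) (.lin 0)
    (.split 7 350 (.splitN 134608 (.split 0 (-354) .sq (.split 4 (-705) (.lin 3) (.split 2 (-356)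
    .sq (.split 7 323 (.split 4 (-358) .sq (.split 0 (-327) (.lin 12) (.split 5 40 (.split 0
    (-66) (.lin 4) cert5_136_9) (.split 0 (-47) (.split 4 (-74) (.split 7 305 (.splitN 87387
    (.split 2 (-272) .sq (.split 7 242 (.splitN 78851 (.split 2 (-260) .sq (.split 7 224 (.split
    4 (-265) .sq (.split 0 (-237) (.lin 12) (.split 1 15 (.splitN 30792 (.split 2 (-167) (.div 2)
    (.split 7 134 (.split 5 166 (.splitN 28694 (.split 2 (-149) (.div 2) (.split 7 116 (.splitN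
    23828 (.wt 6) (.split 0 (-60) (.wt 0) (.split 5 50 (.wt 6) (.lin 4)))) (.lin 2))) (.wt 0))
    (.div 5)) (.lin 2))) (.wt 0)) (.split 2 (-62) (.split 0 (-56) (.split 4 (-83) (.split 7 206
    (.split 3 (-39) (.lin 11) (.split 6 34 (.lin 11) (.splitN 60603 (.split 2 (-212) .sq (.split
    7 170 (.splitN 58774 (.split 4 (-212) .sq (.split 0 (-183) (.lin 12) (.split 7 152 (.split 7
    62 (.split 2 (-117) (.lin 9) (.splitN 46273 (.split 4 (-187) .sq (.split 0 (-156) (.lin 12)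
    (.split 5 140 (.splitN 46049 (.split 7 44 (.splitN 39316 (.split 0 (-147) .sq (.split 5 131
    (.split 4 (-159) .sq (.split 5 113 (.split 7 35 (.split 2 (-90) (.lin 9) (.splitN 34307
    (.split 3 (-36) (.wt 2) (.split 4 (-148) .sq (.split 5 104 (.split 6 44 (.split 1 25 (.splitN
    23667 (.wt 1) (.splitN 31614 (.split 3 (-27) (.wt 2) (.split 4 (-137) .sq (.split 7 30 (.wt
    3) (.split 2 (-71) (.split 0 (-93) (.lin 12) (.split 5 77 (.splitN 26660 (.wt 1) (.split 1 17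
    (.wt 0) (.split 2 (-80) (.split 4 (-101) (.split 6 43 (.lin 9) (.wt 1)) (.lin 0)) (.lin 2))))
    (.lin 1))) (.lin 2))))) (.wt 3))) (.lin 11)) (.split 4 (-92) (.split 0 (-65) (.split 2 (-80)
    (.split 1 24 (.lin 11) (.splitN 25280 .sq (.splitN 31324 (.split 0 (-94) .sq (.split 4 (-129)
    (.lin 3) (.split 5 68 (.split 3 (-21) (.split 1 25 (.wt 2) (.lin 11)) (.wt 6)) (.lin 4))))
    (.wt 1)))) (.lin 9)) (.lin 7)) (.lin 6))) (.lin 8)))) (.wt 3))) .cand) (.lin 8))) (.lin 4)))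
    (.wt 3)) (.split 2 (-89) (.split 4 (-110) (.split 4 (-160) .sq (.split 0 (-120) (.lin 3)
    (.split 0 (-102) (.lin 12) (.split 3 (-29) (.split 2 (-98) (.split 1 25 (.split 6 43 (.lin
    11) (.splitN 39242 (.split 4 (-127) .sq (.split 0 (-66) (.lin 12) (.split 5 50 (.split 3
    (-38) (.wt 2) .cand) (.lin 4)))) (.wt 1))) (.lin 11)) (.lin 2)) (.splitN 30095 (.wt 3)
    (.split 6 46 (.split 1 25 (.splitN 38447 (.split 0 (-100) .sq (.split 6 43 (.split 1 16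
    (.split 0 (-66) (.wt 0) (.split 5 50 (.wt 2) (.lin 4))) (.lin 11)) (.wt 6))) (.wt 1)) (.lin
    11)) (.wt 2))))))) (.lin 8)) (.lin 2))) (.wt 1)) (.lin 4)))) (.wt 1))) (.split 2 (-107)
    (.split 4 (-110) (.split 4 (-128) (.splitN 39572 .sq (.splitN 55182 (.split 0 (-127) .sq
    (.split 2 (-157) .sq (.split 7 116 (.splitN 52236 (.split 4 (-162) .sq (.split 0 (-84) (.lin
    12) (.split 7 98 (.split 3 (-29) (.split 2 (-116) (.split 1 25 (.split 6 43 (.lin 11)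
    (.splitN 42731 .sq (.splitN 43002 (.split 1 18 (.wt 0) (.split 2 (-125) (.split 4 (-137) .sq
    (.lin 0)) (.lin 2))) (.wt 1)))) (.lin 11)) (.lin 2)) (.splitN 43755 (.split 1 31 (.split 6 44
    (.splitN 42038 (.split 1 16 (.wt 1) (.split 2 (-116) (.split 4 (-137) .sq (.lin 0)) (.lin
    2))) (.wt 1)) (.lin 11)) (.wt 0)) (.wt 1))) (.lin 8)))) (.wt 1)) (.lin 2)))) (.wt 1))) (.lin
    8)) (.lin 0)) (.lin 2))) (.lin 8)))) (.wt 1)) (.lin 2))) (.wt 1)))) (.lin 8)) (.lin 8)) (.lin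
    4)) (.lin 2))))) (.lin 2))) (.wt 3)) (.lin 2))) (.wt 1)) (.lin 8)) (.lin 8)) (.lin 4)))))
    (.lin 2))))) (.wt 3)) (.lin 2)))) (.lin 4))) (.wt 3))) (.lin 0))) (.lin 2))

def cert5_136_11 : Cert :=
  (.split 4 (-194) .sq (.split 0 (-165) (.lin 12) (.split 3 (-55) (.split 1 115 (.split 2 (-107)
    (.split 6 79 (.lin 11) (.splitN 28151 .sq (.splitN 49089 (.split 2 (-172) .sq (.split 1 88
    (.split 6 143 (.split 7 39 (.splitN 36886 (.split 2 (-141) .sq (.split 6 107 (.split 7 26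
    (.wt 3) (.split 1 43 (.split 2 (-116) (.split 4 (-74) (.split 6 98 (.splitN 31958 .sq (.split
    0 (-45) (.wt 0) (.split 1 25 (.wt 0) (.lin 4)))) (.lin 9)) (.lin 8)) (.lin 9)) (.lin 2)))
    (.lin 9))) (.wt 3)) (.split 0 (-102) (.lin 1) (.split 1 70 (.split 2 (-125) (.split 3 (-102)
    (.lin 2) (.split 4 (-83) (.splitN 36251 .sq (.splitN 45744 (.split 2 (-150) .sq (.split 0
    (-75) (.lin 1) (.split 1 43 (.split 3 (-75) (.lin 2) (.splitN 42647 (.split 2 (-138) .sq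
    (.split 1 34 (.split 6 89 (.splitN 39265 (.split 7 44 (.wt 3) (.split 1 25 (.split 2 (-134)
    (.split 3 (-57) (.lin 2) (.split 4 (-92) .sq (.lin 5))) (.lin 9)) (.lin 2))) (.wt 3)) (.lin
    9)) (.lin 2))) (.wt 1))) (.lin 2)))) (.wt 1))) (.lin 8))) (.lin 9)) (.lin 2)))) (.lin 9))
    (.lin 2))) (.wt 1)))) (.lin 2)) (.lin 2)) (.splitN 49082 (.split 4 (-176) .sq (.split 0
    (-147) (.lin 12) (.split 7 39 (.splitN 40299 (.split 2 (-168) .sq (.split 6 134 (.split 4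
    (-157) .sq (.split 3 (-34) (.split 1 97 (.splitN 23674 (.wt 1) (.splitN 39343 (.split 0 (-74)
    (.split 2 (-107) (.split 6 79 (.lin 7) (.split 4 (-101) .sq (.lin 12))) (.lin 1)) (.split 1
    52 (.split 6 98 (.split 7 30 (.split 4 (-93) (.lin 12) (.splitN 29656 (.split 2 (-120) .sq
    (.split 6 89 (.split 5 14 (.wt 1) (.split 0 (-47) (.split 1 43 (.split 4 (-74) (.split 0
    (-63) (.wt 0) (.split 1 34 (.split 6 80 (.wt 0) (.lin 7)) (.lin 4))) (.lin 8)) (.lin 8))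
    (.lin 4))) (.lin 9))) (.wt 3))) .cand) (.lin 7)) (.lin 4))) (.wt 3))) (.lin 2)) (.split 4
    (-74) (.splitN 37530 (.split 4 (-142) .sq (.split 0 (-111) (.lin 12) (.split 3 (-25) .cand
    (.split 4 (-83) (.split 1 42 (.lin 11) (.splitN 27538 (.wt 0) (.splitN 32475 (.split 6 96
    (.split 1 70 (.split 7 28 (.wt 1) (.wt 0)) (.lin 11)) (.wt 0)) (.wt 6)))) (.lin 6))))) (.wt
    1)) (.lin 6)))) (.lin 9))) (.wt 1)) (.split 2 (-107) (.split 4 (-74) (.split 4 (-83) (.split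
    4 (-162) .sq (.split 0 (-111) (.lin 12) (.split 3 (-34) (.split 0 (-74) (.split 2 (-125)
    (.split 1 42 (.lin 4) (.split 6 79 (.lin 7) (.split 4 (-119) .sq (.lin 12)))) (.lin 1))
    (.split 1 52 (.split 4 (-120) (.lin 12) (.splitN 29999 (.wt 3) (.split 5 23 (.split 0 (-52)
    (.split 2 (-116) (.split 1 33 (.lin 4) (.split 6 70 (.lin 7) (.split 4 (-101) (.splitN 36566
    .sq (.splitN 42066 (.split 5 18 (.split 2 (-125) (.split 6 79 (.lin 7) .sq) (.lin 1)) (.wt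
    1)) (.wt 1))) (.lin 12)))) (.lin 1)) (.split 1 34 (.split 4 (-102) (.lin 12) (.splitN 40995
    (.split 5 18 .cand (.split 2 (-126) (.lin 1) (.split 0 (-47) (.split 1 25 (.split 6 71
    (.split 4 (-92) (.splitN 35848 (.split 7 52 (.wt 3) (.wt 0)) (.wt 1)) (.lin 8)) (.lin 7))
    (.lin 4)) (.lin 4)))) (.wt 1))) (.lin 4))) (.split 0 (-56) (.split 1 34 (.split 4 (-92)
    (.split 4 (-101) (.splitN 33659 .sq (.splitN 36395 (.split 0 (-63) (.split 2 (-116) (.split 1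
    33 (.lin 4) (.split 6 70 (.lin 7) (.split 4 (-110) .sq (.lin 8)))) (.lin 1)) (.wt 1)) (.wt
    1))) (.lin 8)) (.lin 6)) (.lin 4)) (.lin 4))))) (.lin 4))) (.split 1 33 (.lin 11) (.split 0
    (-51) (.split 3 (-22) (.split 6 99 (.split 0 (-102) (.lin 7) (.split 1 70 (.split 5 31
    (.split 0 (-93) (.lin 4) (.split 4 (-147) (.lin 6) (.split 6 89 (.split 4 (-138) (.lin 6)
    (.split 6 83 (.split 0 (-75) (.lin 7) (.split 5 20 (.split 1 42 (.lin 4) (.split 4 (-120)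
    (.lin 6) (.split 6 70 (.lin 7) (.wt 2)))) (.wt 2))) (.wt 2))) (.wt 2)))) (.wt 2)) (.lin 11)))
    (.wt 2)) (.wt 2)) (.wt 2)))))) (.lin 8)) (.lin 6)) (.lin 9))))) (.wt 1)))))

def cert5_136_12 : Cert :=
  (.split 5 9 (.split 1 33 (.lin 4) (.split 3 (-34) (.split 2 (-134) (.split 0 (-144) (.wt 2)
    (.split 1 133 (.split 6 179 (.splitN 177531 (.split 2 (-977) (.div 2) (.split 7 899 (.splitN
    168945 (.split 2 (-923) (.div 2) (.split 7 845 (.split 0 (-56) (.wt 2) (.split 1 43 (.split 6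
    89 (.splitN 91377 (.split 2 (-491) (.div 2) (.split 7 413 (.splitN 84042 (.split 2 (-455)
    (.div 2) (.split 7 377 (.wt 2) (.lin 1))) (.wt 0)) (.lin 1))) (.wt 0)) (.lin 7)) (.lin 4)))
    (.lin 1))) (.wt 3)) (.lin 1))) (.wt 3)) (.lin 7)) (.lin 4))) (.lin 1)) (.splitN 527104
    (.split 0 (-701) .sq (.split 1 691 (.splitN 487941 (.split 2 (-683) .sq (.split 0 (-597)
    (.lin 1) (.split 1 592 (.split 7 620 (.splitN 397382 (.split 2 (-613) .sq (.split 7 557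
    (.split 6 185 (.split 0 (-165) (.lin 7) (.split 1 160 (.splitN 286839 (.split 2 (-515) .sq
    (.split 7 458 (.split 7 168 (.split 0 (-79) (.split 2 (-161) (.split 1 78 (.lin 4) (.split 6
    97 (.lin 7) (.split 4 (-146) (.splitN 74240 .sq (.split 3 (-28) (.wt 2) (.split 7 66 (.wt 1)
    (.split 2 (-170) (.split 4 (-155) (.splitN 81125 .sq (.split 7 80 (.wt 1) (.split 2 (-188)
    (.split 4 (-173) (.splitN 96353 .sq (.split 0 (-89) (.split 1 87 (.lin 4) (.split 6 106 (.lin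
    7) (.splitN 101276 .sq (.wt 1)))) (.wt 1))) (.lin 6)) (.lin 1)))) (.lin 6)) (.lin 1)))))
    (.lin 8)))) (.lin 1)) (.split 2 (-261) (.lin 1) (.split 4 (-273) (.lin 3) (.split 1 70
    (.split 6 98 (.split 3 (-25) (.splitN 69331 (.wt 6) (.split 7 78 (.wt 0) (.split 4 (-119)
    (.split 0 (-70) (.wt 0) (.split 1 61 (.split 6 89 (.splitN 92912 (.wt 6) (.split 0 (-39) (.wt
    0) (.split 6 62 (.wt 0) (.lin 7)))) (.lin 7)) (.lin 4))) (.lin 6)))) (.split 4 (-110) (.split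
    0 (-47) (.split 1 42 (.lin 11) (.split 6 89 (.split 7 111 (.splitN 98781 (.split 7 84 (.split
    0 (-72) (.wt 2) (.split 6 80 (.split 0 (-60) (.wt 2) (.split 1 52 (.split 6 71 (.splitN 68107
    (.wt 6) (.split 7 68 (.wt 0) (.split 4 (-119) (.split 0 (-56) (.wt 0) (.split 1 43 (.split 6
    62 (.wt 0) (.lin 7)) (.lin 4))) (.lin 6)))) (.lin 7)) (.lin 4))) (.lin 7))) (.split 4 (-137)
    (.split 6 75 (.split 1 52 (.split 0 (-54) (.wt 2) (.split 1 43 (.split 6 62 (.splitN 76214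
    (.wt 1) (.wt 0)) (.lin 7)) (.lin 4))) (.lin 11)) (.split 4 (-155) (.split 0 (-65) (.split 2
    (-170) (.split 1 60 (.lin 11) (.splitN 75617 .sq .cand)) (.lin 9)) (.lin 7)) (.lin 6))) (.lin
    6))) (.wt 1)) (.split 2 (-179) (.split 4 (-137) (.split 4 (-164) (.splitN 80720 .sq (.split 6
    75 (.split 0 (-57) (.lin 7) (.split 1 52 (.splitN 100267 .cand (.wt 1)) (.lin 11))) (.split 4
    (-182) (.split 2 (-197) (.split 1 60 (.lin 11) (.splitN 100160 .sq (.wt 1))) (.lin 9)) (.lin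
    6)))) (.lin 6)) (.lin 0)) (.lin 1))) (.lin 7))) (.lin 7)) (.lin 6))) (.lin 7)) (.lin 4)))))
    (.split 2 (-224) (.split 4 (-209) (.splitN 129626 .sq (.split 6 160 (.split 0 (-138) (.lin 7)
    (.split 6 144 (.split 1 124 (.split 6 138 (.split 0 (-120) (.lin 7) (.split 1 115 (.split 6
    132 (.split 0 (-111) (.lin 7) (.split 1 106 (.splitN 208454 (.split 2 (-359) .sq (.split 7
    296 (.split 6 105 (.split 0 (-84) (.lin 7) (.split 1 79 (.split 6 89 (.split 1 70 (.split 3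
    (-28) (.wt 0) (.wt 1)) (.lin 11)) (.wt 1)) (.lin 11))) (.wt 1)) (.lin 1))) (.wt 1)) (.lin
    11))) (.wt 1)) (.lin 11))) (.wt 1)) (.lin 11)) (.wt 1))) (.wt 1))) (.lin 6)) (.lin 1))) (.lin
    1))) (.wt 1)) (.lin 11))) (.split 4 (-227) (.split 0 (-164) (.split 2 (-251) (.split 1 159
    (.lin 11) (.splitN 206639 .sq (.wt 1))) (.lin 9)) (.lin 7)) (.lin 6))) (.lin 1))) (.wt 1))
    (.lin 1)) (.lin 2)))) (.wt 1)) (.lin 4))) (.wt 1)))) (.splitN 84894 (.split 2 (-455) (.div 2)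
    (.split 1 367 (.split 7 404 (.split 4 (-444) (.lin 10) (.splitN 77069 (.split 0 (-202) .sq
    (.split 2 (-234) .sq (.split 1 151 (.split 7 170 (.splitN 65775 (.split 3 (-21) (.splitN
    36620 .sq (.split 2 (-212) .sq (.split 0 (-129) (.lin 1) (.split 1 115 (.split 7 143 (.splitN
    62247 (.split 2 (-196) .sq (.split 7 125 (.split 0 (-74) (.split 2 (-152) (.split 1 60 (.lin
    4) (.split 6 88 (.lin 7) (.split 4 (-137) .sq (.lin 8)))) (.lin 1)) (.split 1 52 (.splitN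
    54726 (.split 2 (-178) .sq (.split 7 107 (.split 4 (-156) (.lin 10) (.split 3 (-38) (.split 0
    (-52) (.split 2 (-143) (.split 7 89 (.split 1 42 (.lin 4) (.split 6 79 (.lin 7) (.split 4
    (-119) (.splitN 51479 .sq (.wt 1)) (.lin 8)))) (.lin 1)) (.lin 1)) (.split 1 34 (.split 6 80
    (.splitN 48987 (.split 7 75 (.split 4 (-120) (.lin 8) (.splitN 44439 (.split 6 71 (.split 1
    29 (.split 0 (-39) (.lin 4) (.splitN 41680 (.split 7 69 (.split 4 (-102) (.lin 8) (.split 3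
    (-44) (.wt 0) (.wt 0))) (.wt 3)) (.wt 1))) (.split 2 (-134) (.split 0 (-47) (.split 4 (-110)
    (.split 6 70 (.lin 7) .sq) (.lin 0)) (.lin 4)) (.lin 2))) (.split 2 (-143) (.split 1 33 (.lin
    11) (.split 4 (-110) .sq (.lin 0))) (.lin 9))) (.wt 1))) (.split 2 (-143) (.split 4 (-119)
    .sq (.lin 8)) (.lin 1))) (.wt 1)) (.lin 7)) (.lin 4))) (.split 1 33 (.lin 11) (.wt 2))))
    (.lin 9))) (.wt 1)) (.lin 4))) (.lin 9))) (.wt 1)) (.lin 9)) (.lin 2))))) (.wt 2)) (.wt 1))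
    (.lin 9)) (.lin 2)))) (.wt 1))) (.lin 1)) (.lin 2))) (.wt 1)))

def cert5_136_13 : Cert :=
  (.split 2 (-107) (.split 2 (-125) (.split 4 (-92) (.split 4 (-101) (.split 5 18 (.split 3 (-48)
    (.split 2 (-143) (.split 6 79 (.lin 7) (.splitN 46124 .sq (.splitN 218340 (.split 2 (-1211)
    (.div 2) (.split 1 1087 (.split 7 1124 (.split 6 1142 (.splitN 183838 (.split 2 (-1013) (.div
    2) (.split 7 926 (.split 6 944 (.split 0 (-371) .sq (.split 1 358 (.splitN 168713 (.split 2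
    (-375) .sq (.split 0 (-264) (.lin 1) (.split 1 250 (.split 7 287 (.split 6 305 (.splitN
    125054 (.split 2 (-314) .sq (.split 1 187 (.split 7 224 (.split 6 242 (.splitN 111261 (.split
    2 (-292) .sq (.split 0 (-183) (.lin 1) (.split 1 169 (.split 3 (-201) (.lin 1) (.split 7 206
    (.split 6 224 (.split 5 9 (.wt 2) (.splitN 70773 (.split 2 (-208) .sq (.split 0 (-102) (.lin
    1) (.split 1 88 (.split 3 (-120) (.lin 1) (.split 7 125 (.split 7 62 (.wt 1) (.split 2 (-152)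
    (.split 3 (-111) (.lin 1) (.split 4 (-110) (.splitN 52046 .sq (.splitN 58021 (.split 1 29
    (.wt 1) (.split 2 (-161) (.split 0 (-47) (.split 6 88 (.lin 7) (.split 4 (-119) .sq (.lin
    8))) (.lin 4)) (.lin 2))) (.wt 1))) (.lin 8))) (.lin 9))) (.lin 1))) (.lin 2)))) (.wt 1)))
    (.lin 9)) (.lin 1))) (.lin 2)))) (.wt 3)) (.lin 9)) (.lin 1)) (.lin 2))) (.wt 3)) (.lin 9))
    (.lin 1)) (.lin 2)))) (.wt 3)) (.lin 4))) (.lin 9)) (.lin 1))) (.wt 3)) (.lin 9)) (.lin 1))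
    (.lin 2))) (.wt 3)))) (.lin 1)) (.splitN 63618513 (.split 2 (-353435) (.div 2) (.split 0
    (-353361) (.lin 1) (.split 1 353347 (.split 7 353384 (.splitN 57128463 (.split 2 (-317381)
    (.div 2) (.split 7 317330 (.split 0 (-7557) .sq (.split 1 7549 (.splitN 23072227 (.split 2
    (-128165) (.div 2) (.split 7 128114 (.split 0 (-4800) .sq (.split 1 4795 (.splitN 16530612
    (.split 2 (-91823) (.div 2) (.split 7 91772 (.split 0 (-4062) .sq (.split 1 4057 (.splitN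
    14418308 (.split 2 (-80087) (.div 2) (.split 7 80036 (.split 0 (-3793) .sq (.split 1 3787
    (.splitN 13597122 (.split 2 (-3685) .sq (.split 7 3635 (.splitN 5281173 (.split 0 (-2291) .sq
    (.split 1 2284 (.splitN 4468525 (.split 0 (-2105) .sq (.split 1 2095 (.split 2 (-2109) .sq
    (.split 7 2060 (.splitN 3083197 (.split 0 (-1746) .sq (.split 1 1735 (.splitN 2907505 (.split
    2 (-1700) .sq (.split 0 (-1623) (.lin 1) (.split 1 1609 (.split 7 1646 (.splitN 2461071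
    (.split 2 (-1562) .sq (.split 0 (-1488) (.lin 1) (.split 1 1474 (.split 7 1511 (.split 6 1529
    cert5_136_12 (.lin 7)) (.lin 1)) (.lin 2)))) (.wt 1)) (.lin 1)) (.lin 2)))) (.wt 1)) (.lin
    4))) (.wt 1)) (.lin 1))) (.lin 4))) (.wt 1)) (.lin 4))) (.wt 1)) (.lin 1))) (.wt 1)) (.lin
    4))) (.lin 1))) (.wt 1)) (.lin 4))) (.lin 1))) (.wt 1)) (.lin 4))) (.lin 1))) (.wt 1)) (.lin
    4))) (.lin 1))) (.wt 1)) (.lin 1)) (.lin 2)))) (.wt 1))) (.split 0 (-47) (.split 4 (-110)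
    (.splitN 86621 (.split 2 (-473) (.div 2) (.split 3 (-381) (.lin 2) (.split 7 422 (.splitN
    75560 (.split 2 (-419) (.div 2) (.split 1 331 (.split 3 (-327) (.lin 2) (.split 7 368 (.split
    3 (-21) (.splitN 39617 .sq (.split 0 (-195) .sq (.splitN 70523 (.split 0 (-178) .sq (.split 2
    (-212) .sq (.split 1 115 (.split 3 (-120) (.lin 2) (.split 7 143 (.splitN 58969 (.split 0
    (-136) .sq (.split 4 (-273) (.lin 3) (.split 2 (-179) .sq (.split 1 79 (.split 3 (-84) (.lin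
    2) (.split 7 107 (.splitN 52713 (.split 0 (-124) .sq (.splitN 52532 (.split 0 (-110) .sq
    (.split 2 (-160) .sq (.split 1 61 (.split 3 (-66) (.lin 2) (.split 7 89 (.splitN 48236
    (.split 3 (-30) (.split 2 (-147) .sq (.split 1 43 (.split 3 (-57) (.lin 2) (.split 7 80
    (.splitN 44636 (.split 0 (-48) (.split 4 (-119) .sq (.lin 12)) (.wt 1)) (.wt 1)) (.lin 2)))
    (.lin 2))) (.wt 6)) (.wt 1)) (.lin 9))) (.lin 2)))) (.wt 1))) (.wt 1)) (.lin 9))) (.lin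
    2))))) (.wt 1)) (.lin 9))) (.lin 2)))) (.wt 1)))) (.wt 2)) (.lin 2))) (.lin 2))) (.wt 1))
    (.lin 2)))) (.wt 1)) (.lin 8)) (.lin 4))) (.lin 12)) (.lin 8)) (.lin 9)) (.lin 2))

def cert5_136_14 : Cert :=
  (.split 1 22 (.split 5 22 (.lin 4) (.split 3 (-47) (.splitN 20897 .sq (.splitN 117221 (.split 2
    (-635) (.div 2) (.split 7 575 (.split 6 602 (.split 5 634 (.split 0 (-642) (.lin 4) (.splitN
    93089 (.split 2 (-509) (.div 2) (.split 7 449 (.split 6 476 (.split 5 508 (.splitN 88117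
    (.split 2 (-473) (.div 2) (.split 3 (-435) (.lin 2) (.split 7 413 (.splitN 55613 (.split 2
    (-293) (.div 2) (.split 3 (-255) (.lin 2) (.split 7 233 (.split 5 292 (.split 0 (-300) (.lin
    4) (.splitN 52288 (.split 2 (-275) (.div 2) (.split 7 215 (.split 6 242 (.splitN 48470
    (.split 0 (-164) .sq (.split 5 149 (.split 2 (-182) .sq (.split 6 152 (.split 7 116 (.splitN
    42537 (.split 2 (-164) .sq (.split 6 134 (.split 7 98 (.split 4 (-152) .sq (.split 7 50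
    (.split 1 7 (.wt 0) (.split 0 (-94) (.wt 2) (.split 5 77 (.split 0 (-87) (.wt 2) (.split 5 68
    (.split 6 62 (.wt 2) (.split 2 (-98) (.split 3 (-56) (.splitN 24911 .sq (.split 7 31 (.wt 0)
    (.split 2 (-107) (.split 4 (-74) (.split 6 125 (.splitN 28556 .sq (.wt 3)) (.lin 9)) (.lin
    8)) (.lin 2)))) (.lin 11)) (.lin 9))) (.lin 4))) (.lin 4)))) (.split 2 (-116) (.split 0 (-93)
    (.lin 12) (.split 5 86 (.split 4 (-83) (.split 6 107 (.split 4 (-92) (.splitN 32804 .sq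
    (.splitN 38783 (.split 1 9 (.wt 0) (.split 7 57 (.wt 3) (.split 2 (-125) (.split 4 (-101) .sq
    (.lin 8)) (.lin 2)))) (.wt 3))) (.lin 12)) (.lin 9)) (.lin 8)) (.lin 4))) (.lin 9)))) (.lin
    9)) (.lin 9))) (.wt 3)) (.lin 9)) (.lin 9))) (.lin 4))) (.wt 3)) (.lin 9)) (.lin 2))) (.wt
    1))) (.div 5)) (.lin 2)))) (.wt 1)) (.lin 2)))) (.wt 0)) (.div 5)) (.lin 9)) (.lin 2))) (.wt
    0))) (.div 5)) (.lin 9)) (.lin 2))) (.wt 0))) (.lin 11))) (.split 7 60 (.splitN 184002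
    (.split 1 2024 (.split 2 (-1013) (.div 2) (.split 6 980 (.splitN 99818 (.split 2 (-545) (.div
    2) (.split 1 493 (.split 6 512 (.split 0 (-284) .sq (.split 1 277 (.split 5 257 (.split 4
    (-336) (.lin 12) (.splitN 94337 (.split 2 (-509) (.div 2) (.split 6 476 (.splitN 20180 (.wt
    1) (.split 0 (-272) .sq (.split 1 259 (.split 2 (-284) .sq (.split 3 (-228) (.lin 2) (.split
    6 251 (.split 4 (-277) .sq (.split 0 (-246) (.lin 12) (.split 5 33 (.split 5 12 (.split 1 33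
    (.lin 4) (.split 3 (-42) (.wt 2) (.split 7 39 (.split 0 (-143) (.wt 2) (.split 2 (-207) (.lin
    1) (.split 1 160 (.split 6 170 (.split 0 (-89) (.wt 2) (.split 6 116 (.split 0 (-57) (.wt 2)
    (.split 1 52 (.split 6 89 (.splitN 41308 (.wt 6) (.split 0 (-53) (.wt 0) (.split 6 80 (.wt 2)
    (.lin 7)))) (.lin 7)) (.lin 4))) (.lin 7))) (.lin 7)) (.lin 2)))) (.split 1 214 (.split 2
    (-107) (.split 4 (-74) (.split 4 (-83) (.split 6 233 (.splitN 84940 (.split 2 (-257) .sq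
    (.split 6 206 (.split 3 (-37) (.wt 2) (.split 0 (-86) (.split 2 (-152) (.split 1 69 (.lin 2)
    (.split 1 87 (.lin 4) (.split 6 106 (.lin 7) (.split 4 (-137) (.splitN 71891 .sq (.wt 0))
    (.lin 8))))) (.lin 1)) (.split 2 (-162) (.lin 1) (.split 1 97 (.split 1 79 (.split 6 107
    (.split 0 (-75) (.wt 2) (.split 1 70 (.split 6 98 (.split 0 (-65) (.wt 2) (.split 1 52
    (.split 6 80 (.split 4 (-111) (.lin 8) (.splitN 49849 (.wt 1) (.split 3 (-27) (.wt 0) (.split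
    0 (-47) (.split 6 71 (.wt 2) (.lin 7)) (.lin 7))))) (.lin 7)) (.lin 4))) (.lin 7)) (.lin 4)))
    (.lin 7)) (.lin 4)) (.lin 2))))) (.lin 9))) (.wt 3)) (.lin 9)) (.lin 8)) (.lin 6)) (.lin 9))
    (.lin 2))))) (.splitN 55284 (.split 0 (-187) .sq (.split 2 (-203) .sq (.split 1 151 (.split 3
    (-147) (.lin 2) cert5_136_11) (.lin 2)))) (.wt 1))) (.split 0 (-65) (.split 4 (-92) (.splitN
    27836 .sq (.splitN 44083 (.split 0 (-139) .sq (.split 1 97 (.split 4 (-192) (.lin 12)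
    (.splitN 42304 (.split 3 (-22) (.split 0 (-125) .sq (.split 2 (-139) .sq (.split 6 107
    (.split 7 26 (.wt 3) (.split 2 (-98) (.split 3 (-75) (.lin 2) (.split 4 (-101) (.splitN 32246
    .sq (.split 0 (-108) .sq (.split 1 61 (.splitN 39287 (.split 0 (-92) .sq (.split 1 43 (.split
    7 35 (.wt 1) (.split 2 (-107) (.split 4 (-110) .sq (.lin 8)) (.lin 9))) (.lin 4))) (.wt 1))
    (.lin 4)))) (.lin 8))) (.lin 9))) (.lin 9)))) (.wt 6)) (.wt 1))) (.lin 4))) (.wt 1))) (.lin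
    8)) (.lin 4))))) (.lin 9)))) (.lin 4)))) (.lin 9))) (.wt 3))) (.lin 4)) (.lin 4))) (.lin 9))
    (.lin 2))) (.wt 3)) (.lin 9))) (.div 1)) (.wt 1)) cert5_136_13))

def cert5_136_15 : Cert :=
  (.split 7 60 (.split 2 (-126) (.lin 1) (.split 2 (-108) (.lin 9) (.split 4 (-84) (.lin 12)
    (.split 0 (-20) (.split 4 (-47) (.split 1 13 (.split 3 (-33) (.wt 2) (.split 6 35 (.splitN
    24358 (.wt 6) (.split 0 (-22) (.wt 0) (.split 5 14 (.wt 2) (.lin 4)))) (.lin 11))) (.split 5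
    14 (.split 6 34 (.lin 11) (.split 5 9 (.splitN 33357 (.wt 1) (.split 0 (-29) (.wt 2) (.split
    1 16 (.split 7 29 (.wt 0) (.split 4 (-56) (.splitN 39233 (.wt 1) (.split 3 (-33) (.wt 0)
    (.split 6 44 (.wt 2) (.lin 7)))) (.lin 8))) (.lin 4)))) (.split 0 (-29) (.split 1 16 (.split
    4 (-56) (.split 3 (-36) (.wt 2) (.split 6 44 (.split 3 (-29) (.wt 2) (.split 6 35 (.splitN
    30245 (.wt 6) (.split 7 37 (.wt 0) (.wt 2))) (.lin 7))) (.lin 7))) (.lin 8)) (.lin 4)) (.lin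
    4)))) (.lin 4))) (.lin 12)) (.split 1 7 (.split 5 5 (.split 4 (-66) (.lin 8) (.split 3 (-39)
    (.wt 2) (.split 6 44 (.split 3 (-31) (.wt 2) (.split 2 (-90) (.lin 1) (.split 6 35 (.splitN
    26694 (.wt 6) (.split 7 31 (.wt 0) (.split 4 (-47) (.splitN 29891 (.wt 1) (.split 3 (-27)
    (.wt 0) (.split 6 26 (.wt 0) (.lin 7)))) (.lin 8)))) (.lin 7)))) (.lin 7)))) (.lin 4)) (.lin
    4)))))) (.split 2 (-71) (.split 2 (-89) (.split 4 (-47) (.split 4 (-74) (.split 0 (-20)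
    (.split 4 (-83) (.splitN 251248 (.split 2 (-1391) (.div 2) (.split 7 1367 (.splitN 224973
    (.split 2 (-461) .sq (.split 7 440 (.splitN 184355 (.split 2 (-413) .sq (.split 1 13 (.split
    5 13 (.lin 4) (.splitN 46220 (.split 2 (-257) (.div 2) (.split 7 233 (.splitN 43576 (.split 2
    (-239) (.div 2) (.split 7 215 (.splitN 35785 (.split 2 (-185) (.div 2) (.split 7 161 (.split
    7 152 (.split 3 (-40) (.wt 2) (.split 6 44 (.split 3 (-32) (.wt 2) (.split 6 35 (.splitN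
    32702 (.split 0 (-24) (.wt 2) (.split 5 14 (.wt 6) (.lin 4))) (.wt 3)) (.lin 11))) (.lin
    11))) (.lin 2)) (.lin 1))) (.wt 3)) (.lin 1))) (.wt 0)) (.lin 1))) (.wt 0))) (.split 5 14
    (.split 3 (-39) (.lin 11) (.split 6 34 (.lin 11) (.split 5 9 (.split 3 (-37) (.wt 2) (.split
    7 154 (.split 6 44 (.split 0 (-28) (.wt 2) (.split 1 16 (.split 3 (-23) (.wt 2) (.split 6 35
    (.wt 2) (.lin 7))) (.lin 4))) (.split 0 (-29) (.split 2 (-116) (.split 1 24 (.lin 11) (.split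
    4 (-92) (.split 3 (-29) (.splitN 60785 (.wt 1) (.wt 0)) (.lin 7)) (.lin 0))) (.lin 9)) (.lin
    7))) (.split 2 (-197) (.split 4 (-164) (.split 4 (-173) (.splitN 96965 .sq (.split 1 16 (.wt
    3) (.split 7 359 (.split 0 (-29) (.split 6 43 (.lin 7) (.split 4 (-191) (.splitN 105038 .sq
    (.wt 3)) (.lin 8))) (.lin 4)) (.lin 2)))) (.lin 6)) (.lin 0)) (.lin 1)))) (.split 0 (-29)
    (.split 1 16 (.split 4 (-92) (.splitN 56051 (.split 2 (-311) (.div 2) (.split 7 269 (.splitN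
    54532 (.split 2 (-194) .sq (.split 3 (-21) (.split 7 143 (.split 6 43 (.lin 7) (.splitN 45740
    (.splitN 34825 (.wt 1) .cand) (.wt 1))) (.lin 1)) (.wt 2))) (.wt 1)) (.lin 1))) (.wt 1))
    (.lin 8)) (.lin 4)) (.lin 4))))) (.lin 4)))) (.wt 3)) (.lin 1))) (.wt 3)) (.lin 1))) (.wt 3))
    (.lin 12)) (.split 1 7 (.split 5 5 (.splitN 120154 (.split 2 (-653) (.div 2) (.split 7 620
    (.splitN 65913 (.split 2 (-365) (.div 2) (.split 4 (-345) (.lin 0) (.split 7 332 (.splitN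
    59259 (.split 2 (-329) (.div 2) (.split 7 296 (.splitN 58453 (.split 2 (-311) (.div 2)
    (.split 7 278 (.split 6 26 (.wt 2) (.split 3 (-29) (.splitN 51376 (.split 2 (-275) (.div 2)
    (.split 7 233 (.splitN 48723 (.split 2 (-257) (.div 2) (.split 7 215 (.split 6 35 (.wt 2)
    (.split 3 (-38) (.splitN 45435 (.split 2 (-239) (.div 2) (.split 7 188 (.splitN 33501 (.wt 1)
    (.split 7 76 (.wt 0) (.split 2 (-125) (.split 4 (-92) (.split 7 81 (.wt 0) (.split 2 (-134)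
    (.split 4 (-101) (.splitN 39653 .sq (.wt 3)) (.lin 8)) (.lin 1))) (.lin 8)) (.lin 1)))) (.lin
    1))) (.wt 1)) (.lin 7))) (.lin 1))) (.wt 3)) (.lin 1))) (.wt 1)) (.lin 7))) (.lin 1))) (.wt
    3)) (.lin 1))) (.wt 3)) (.lin 1)))) (.wt 1)) (.lin 1))) (.wt 0)) (.lin 4)) (.lin 4))) (.lin
    8)) (.lin 0)) (.lin 9)) (.lin 1)))

def cert5_136_16 : Cert :=
  (.split 0 (-30) (.split 4 (-65) (.split 6 60 (.split 1 34 (.split 3 (-48) (.lin 11) (.splitN
    178144 (.split 2 (-977) (.div 2) cert5_136_10) (.wt 3))) (.lin 11)) (.split 2 (-89)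
    cert5_136_14 (.lin 9))) (.lin 12)) (.split 1 25 (.split 5 23 (.split 6 60 (.split 3 (-48)
    (.lin 11) cert5_136_15) (.split 2 (-71) (.split 2 (-89) (.split 3 (-38) (.splitN 287365
    (.split 2 (-1589) (.div 2) (.split 3 (-1569) (.lin 1) (.split 7 1556 (.splitN 260856 (.split
    2 (-503) .sq (.split 3 (-480) (.lin 1) (.split 7 431 (.splitN 211282 (.split 2 (-448) .sq
    (.split 7 395 (.split 6 431 (.split 0 (-20) (.split 4 (-47) (.splitN 172120 (.split 2 (-401)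
    .sq (.split 6 368 (.split 7 332 (.split 7 92 (.split 4 (-138) (.lin 8) (.splitN 87729 (.split
    2 (-277) .sq (.split 6 269 (.split 3 (-336) (.lin 6) (.split 6 251 (.split 1 13 (.split 5 13
    (.lin 4) (.split 3 (-47) (.split 3 (-56) (.splitN 32176 (.split 2 (-167) (.div 2) (.split 6
    143 (.splitN 28875 (.split 2 (-149) (.div 2) (.split 7 80 (.split 6 116 (.splitN 20189 (.wt
    6) (.split 7 41 (.wt 0) (.split 2 (-107) (.split 4 (-65) (.split 6 98 (.splitN 25235 .sq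
    (.split 0 (-22) (.wt 0) (.split 5 14 (.wt 2) (.lin 4)))) (.lin 9)) (.lin 8)) (.lin 9))))
    (.lin 9)) (.lin 2))) (.wt 3)) (.lin 0))) (.wt 0)) (.lin 11)) (.lin 7))) (.split 5 14 (.split
    7 48 (.split 4 (-84) (.lin 8) (.splitN 52953 (.split 2 (-210) .sq (.split 6 197 (.split 5 9
    (.split 0 (-26) (.wt 2) (.split 1 16 (.split 3 (-47) (.wt 2) (.lin 7)) (.lin 4))) (.split 0
    (-29) (.split 1 16 (.split 3 (-47) (.split 4 (-56) (.splitN 35409 (.split 2 (-185) (.div 2)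
    (.split 6 152 (.splitN 24553 (.wt 1) (.split 7 27 (.wt 0) (.split 2 (-98) (.split 3 (-129)
    (.lin 1) (.split 6 143 (.split 4 (-65) (.splitN 27608 (.wt 1) (.splitN 32720 (.split 2 (-167)
    (.div 2) (.split 6 125 (.split 3 (-101) (.wt 0) (.split 6 107 (.split 3 (-86) (.wt 0) (.split
    6 98 (.split 3 (-79) (.wt 0) (.split 6 89 (.split 3 (-72) (.wt 0) (.split 6 80 (.wt 6) (.lin
    7))) (.lin 7))) (.lin 7))) (.lin 7))) (.lin 0))) (.wt 3))) (.lin 8)) (.lin 7))) (.lin 1))))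
    (.lin 0))) (.wt 1)) (.lin 8)) (.lin 7)) (.lin 4)) (.lin 4))) (.lin 0))) (.wt 3))) (.split 3
    (-210) (.lin 1) (.split 4 (-74) (.split 6 215 (.splitN 76124 (.split 2 (-247) .sq (.split 6
    197 (.split 5 9 (.split 3 (-107) (.wt 2) (.split 6 125 (.split 0 (-27) (.wt 2) (.split 1 16
    (.split 3 (-47) (.wt 2) (.lin 7)) (.lin 4))) (.lin 7))) (.split 0 (-29) (.split 1 16 (.split
    3 (-47) (.split 4 (-83) (.splitN 42234 (.split 2 (-151) .sq (.split 6 89 (.split 7 80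
    (.splitN 39504 (.split 3 (-74) (.wt 6) (.split 6 80 (.split 3 (-63) (.wt 6) (.split 6 71
    (.splitN 33556 (.wt 1) (.split 7 62 (.wt 0) (.split 2 (-134) (.split 4 (-101) .sq (.lin 8))
    (.lin 1)))) (.lin 7))) (.lin 7))) (.wt 3)) (.lin 1)) (.lin 0))) (.wt 1)) (.lin 8)) (.lin 7))
    (.lin 4)) (.lin 4))) (.lin 3))) (.wt 3)) (.lin 9)) (.lin 8)))) (.lin 4))) (.lin 3))) (.lin
    0))) (.wt 3))) (.split 2 (-161) (.split 3 (-300) (.lin 1) (.split 4 (-110) (.split 6 296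
    (.split 4 (-119) (.splitN 55448 .sq (.splitN 114978 (.split 5 13 (.split 2 (-291) .sq (.split
    6 197 (.split 7 233 (.split 3 (-158) (.wt 2) (.split 6 179 (.split 3 (-139) (.wt 2) (.split 6
    161 (.split 3 (-121) (.wt 2) (.split 6 143 (.split 3 (-104) (.wt 2) (.split 6 125 (.split 0
    (-29) (.wt 2) (.split 1 16 (.split 3 (-47) (.split 6 116 (.splitN 56420 .sq (.split 3 (-63)
    (.wt 0) (.split 6 71 (.wt 0) (.lin 7)))) (.lin 7)) (.lin 7)) (.lin 4))) (.lin 7))) (.lin 7)))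
    (.lin 7))) (.lin 7))) (.lin 1)) (.lin 0))) (.wt 1)) (.wt 3))) (.lin 12)) (.lin 9)) (.lin 8)))
    (.lin 9))) (.lin 9)) (.lin 9))) (.wt 3)) (.lin 12)) (.split 1 7 (.split 5 5 (.split 3 (-56)
    (.splitN 88151 .cand (.wt 0)) (.lin 7)) (.lin 4)) (.lin 4))) (.lin 3)) (.lin 2))) (.wt 1))
    (.lin 9)))) (.wt 1)) (.lin 1)))) (.wt 1)) (.lin 7)) (.lin 9)) (.lin 3))) (.lin 4)) (.lin 4)))

def cert5_136_17 : Cert :=
  (.split 1 25 (.split 0 (-30) (.split 4 (-47) (.split 5 13 (.lin 4) (.split 4 (-65) (.splitN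
    149512 (.split 2 (-815) (.div 2) (.split 7 791 (.split 4 (-1629) (.div 4) (.split 0 (-1614)
    (.lin 3) (.split 5 814 (.split 0 (-831) (.lin 4) (.splitN 135526 (.split 0 (-356) .sq (.split
    5 347 (.split 2 (-356) .sq (.split 4 (-705) (.lin 0) (.split 7 332 (.splitN 120066 (.split 4
    (-336) .sq (.split 7 296 (.split 6 26 (.split 5 22 (.lin 7) (.split 1 16 (.splitN 77013
    (.split 2 (-261) .sq (.split 7 242 (.split 4 (-265) .sq (.split 7 224 (.split 7 76 (.split 2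
    (-99) (.lin 2) (.splitN 53302 (.split 0 (-212) .sq (.split 4 (-218) .sq (.split 0 (-192)
    (.lin 3) (.split 1 11 (.split 6 17 (.splitN 24146 (.split 5 130 (.wt 1) (.div 5)) (.wt 0))
    (.lin 11)) (.split 2 (-53) (.split 6 25 (.lin 11) (.splitN 23559 (.wt 0) (.splitN 39695
    (.split 7 61 (.splitN 36628 (.split 7 52 (.split 2 (-72) (.lin 2) (.split 0 (-61) (.split 5
    31 (.lin 1) (.split 4 (-74) (.split 4 (-92) (.split 5 49 (.lin 4) (.splitN 31775 (.split 7 35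
    (.splitN 29318 (.split 7 29 (.wt 1) (.wt 0)) (.wt 1)) (.wt 0)) (.wt 1))) (.lin 3)) (.lin 0)))
    (.wt 2))) (.wt 0)) (.wt 1)) (.wt 0)) (.wt 1)))) (.lin 2)))))) (.wt 3))) (.split 2 (-98)
    (.split 0 (-192) (.lin 3) (.split 4 (-101) (.split 4 (-110) (.split 4 (-119) (.splitN 32597
    .sq (.splitN 68613 (.split 2 (-207) .sq (.split 7 188 (.split 4 (-217) .sq (.split 0 (-138)
    (.lin 3) (.split 1 11 (.split 6 17 (.wt 0) (.lin 11)) (.split 6 25 (.lin 11) (.splitN 46508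
    (.wt 0) (.wt 1)))))) (.lin 2))) (.wt 1))) (.lin 12)) (.lin 3)) (.lin 0))) (.lin 2))) (.lin
    12))) (.lin 2))) (.wt 1)) (.lin 11))) (.split 1 24 (.lin 11) (.wt 2))) (.lin 12))) (.wt 1))
    (.lin 2)))) (.lin 4))) (.wt 1))) (.div 5)))) (.lin 2))) (.wt 1)) (.lin 12))) (.lin 3))
    (.split 5 23 (.split 7 60 (.split 2 (-90) (.lin 1) (.split 4 (-102) (.lin 3) (.split 0 (-20)
    (.split 6 26 (.split 2 (-81) (.lin 9) (.split 1 16 (.split 5 10 (.split 0 (-21) (.lin 4)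
    (.split 1 15 (.lin 4) (.split 4 (-75) (.lin 5) (.split 6 25 (.lin 7) (.splitN 36526 (.wt 1)
    (.wt 6)))))) (.split 1 11 (.split 6 17 (.wt 2) (.lin 11)) (.split 0 (-29) (.split 5 14
    (.split 6 25 (.lin 7) (.wt 2)) (.lin 4)) (.lin 4)))) (.lin 11))) (.split 1 24 (.lin 11) (.wt
    2))) (.split 1 7 (.split 5 5 (.split 6 17 (.wt 2) (.lin 7)) (.lin 4)) (.lin 4))))) (.split 2
    (-62) (.split 2 (-80) (.split 4 (-56) (.split 4 (-74) (.split 0 (-20) (.split 4 (-83) (.split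
    6 26 (.split 1 16 (.splitN 604091 (.split 2 (-3353) (.div 2) (.split 7 3338 (.splitN 559454
    (.split 2 (-3101) (.div 2) (.split 7 3086 (.splitN 272726 (.split 2 (-508) .sq (.split 7 494
    (.splitN 210655 (.split 2 (-444) .sq (.split 7 431 (.split 5 10 (.split 0 (-21) (.lin 4)
    (.split 1 15 (.lin 4) (.split 6 25 (.lin 7) (.wt 2)))) (.splitN 71345 (.split 2 (-383) (.div
    2) (.split 4 (-399) (.lin 0) (.split 7 368 (.split 6 25 (.split 1 7 (.splitN 38968 (.split 2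
    (-203) (.div 2) (.split 7 188 (.wt 2) (.lin 1))) (.wt 0)) (.lin 11)) (.wt 2)) (.lin 1))))
    (.wt 1))) (.lin 1))) (.wt 3)) (.lin 1))) (.wt 3)) (.lin 1))) (.wt 1)) (.lin 1))) (.wt 1))
    (.lin 11)) (.split 1 24 (.lin 11) (.splitN 103523 (.wt 0) (.wt 1)))) (.lin 12)) (.split 1 7
    (.split 5 5 (.split 6 17 (.splitN 81623 (.split 2 (-437) (.div 2) (.split 7 413 (.splitN
    70822 (.split 2 (-383) (.div 2) (.split 7 359 (.splitN 62265 (.split 2 (-329) (.div 2)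
    (.split 7 305 (.splitN 49062 (.wt 6) (.split 7 95 (.wt 0) (.split 2 (-116) (.split 4 (-110)
    (.splitN 52584 (.wt 6) (.split 7 169 (.wt 0) (.split 2 (-188) (.split 4 (-182) .sq (.lin 0))
    (.lin 1)))) (.lin 0)) (.lin 1)))) (.lin 1))) (.wt 1)) (.lin 1))) (.wt 0)) (.lin 1))) (.wt 0))
    (.lin 7)) (.lin 4)) (.lin 4))) (.lin 6)) (.lin 0)) (.lin 9)) (.lin 1))) (.lin 4))) (.lin 11))

def cert5_136 : Cert :=
  (.split 1 (-1) (.split 5 4 (.lin 4) (.split 3 (-11) (.splitN 8639 (.wt 3) (.split 0 (-3)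
    (.split 5 13 (.lin 4) cert5_136_7) (.wt 2))) (.lin 11))) (.split 5 (-1) (.split 0 (-3)
    (.split 2 (-26) (.split 1 15 (.lin 4) (.split 6 16 (.lin 7) (.split 4 (-20) (.splitN 8195
    (.wt 3) (.split 3 (-5) (.split 2 (-35) (.split 6 25 (.lin 7) (.splitN 290689 (.split 1 3212
    (.split 5 (-3200) (.lin 4) (.split 2 (-1607) (.div 2) (.split 0 (-1578) (.lin 1) (.split 1
    1582 (.split 3 (-1578) (.lin 1) (.split 5 (-1571) (.lin 1) (.split 7 1574 (.splitN 251770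
    (.split 2 (-1391) (.div 2) (.split 3 (-1362) (.lin 1) (.split 5 (-1355) (.lin 1) (.split 7
    1358 (.split 0 (-498) .sq (.splitN 238254 (.split 2 (-1319) (.div 2) (.split 3 (-1290) (.lin
    1) (.split 7 1286 (.split 1 484 (.split 5 (-473) (.lin 4) (.splitN 224253 (.split 0 (-468)
    .sq (.split 2 (-469) .sq (.split 1 448 (.split 3 (-444) (.lin 1) (.split 5 (-437) (.lin 1)
    (.split 7 440 cert5_136_8 (.lin 1)))) (.lin 2)))) (.wt 1))) .sq) (.lin 1)))) (.wt 1))) (.lin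
    1))))) (.wt 1)) (.lin 1)))) (.lin 2))))) (.div 1)) (.wt 1))) (.lin 1)) (.wt 2))) (.lin 12))))
    (.lin 1)) (.wt 2)) (.split 0 (-11) (.split 4 (-20) (.split 3 (-12) (.split 2 (-35) (.split 6
    25 (.lin 11) (.split 7 24 (.splitN 85181 (.split 2 (-473) (.div 2) (.split 6 458 (.splitN
    57081 (.split 2 (-311) (.div 2) (.split 6 296 (.split 7 12 (.splitN 20643 (.split 2 (-113)
    (.div 2) (.split 6 98 (.splitN 15731 (.split 2 (-77) (.div 2) (.split 6 62 (.split 5 76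
    (.split 0 (-24) (.wt 2) (.split 1 16 (.split 5 14 (.splitN 11117 (.wt 1) (.wt 5)) (.lin 4))
    (.lin 4))) (.div 5)) (.lin 9))) (.wt 3)) (.lin 9))) (.wt 0)) (.split 4 (-29) (.split 0 (-45)
    (.split 4 (-65) (.splitN 29908 .cand (.wt 0)) (.lin 12)) (.split 1 34 (.splitN 38820 .cand
    (.wt 3)) (.lin 4))) (.lin 8))) (.lin 9))) (.wt 3)) (.lin 9))) (.wt 1)) (.split 2 (-53)
    (.split 4 (-38) (.splitN 14895 (.wt 1) cert5_136_16) (.lin 8)) (.lin 2)))) (.lin 2)) (.splitN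
    7988 (.wt 3) (.split 3 (-5) (.split 2 (-26) (.split 6 16 (.lin 11) (.split 7 24 (.splitN
    69637 (.split 7 12 (.splitN 18276 .cand (.wt 3)) .cand) (.wt 1)) (.split 2 (-44) (.split 4
    (-38) (.split 6 42 cert5_136_17 (.split 4 (-65) (.split 2 (-71) (.split 1 33 (.lin 11)
    (.splitN 210698 (.split 0 (-5781) (.div 0) (.split 2 (-1157) (.div 2) (.split 1 1114 (.split
    7 1106 (.split 6 1124 (.split 4 (-2313) (.div 4) (.split 5 3326 (.split 0 (-4440) (.lin 1)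
    (.splitN 189671 (.split 2 (-1049) (.div 2) (.split 1 1006 (.split 7 998 (.split 5 1048
    (.split 0 (-56) (.split 4 (-83) (.splitN 177819 (.split 2 (-977) (.div 2) (.split 4 (-2001)
    (.lin 10) (.split 5 976 (.split 0 (-1902) (.lin 1) (.split 7 758 (.split 5 7 (.split 2 (-89)
    (.split 1 51 (.lin 4) (.split 6 61 (.lin 7) (.splitN 121558 (.split 2 (-671) (.div 2) (.split
    0 (-633) (.lin 1) (.split 4 (-660) (.lin 10) (.splitN 38838 (.split 2 (-203) (.div 2) (.split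
    4 (-192) (.lin 10) (.wt 0))) (.wt 6))))) (.wt 1)))) (.lin 10)) (.wt 2)) (.wt 0))) (.div 5))))
    (.wt 1)) (.lin 12)) (.wt 2)) (.div 5)) (.lin 2)) (.lin 2))) (.wt 1))) (.lin 0))) (.lin 9))
    (.lin 2)) (.lin 2)))) (.wt 1))) (.lin 9)) (.lin 6))) (.lin 6)) (.lin 2)))) (.lin 2)) (.wt
    2)))) (.lin 8)) (.lin 4))))

theorem check5_136 :
    check task5 cert5_136
      [(7, ⟨none, some (-2)⟩), (7, ⟨none, none⟩), (1, ⟨none, some (-17)⟩), (7, ⟨none, some (-2)⟩), (7, ⟨none, some (-11)⟩), (5, ⟨none, none⟩), (8, ⟨some (8), none⟩), (8, ⟨some (8), none⟩)] ⟨some (3960), none⟩ = true := by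
  decide +kernel

def cert5_137_0 : Cert :=
  (.split 6 56 (.split 2 (-108) (.lin 9) (.split 6 30 (.split 2 (-81) (.lin 9) (.split 3 18 (.wt
    2) (.split 1 42 (.lin 11) (.split 5 (-16) (.wt 2) (.split 0 (-29) (.split 4 (-56) (.split 0
    (-161) (.wt 2) (.split 1 169 (.split 3 151 (.split 0 (-128) (.wt 2) (.split 1 133 (.split 3
    115 (.split 0 (-96) (.wt 2) (.split 1 106 (.split 3 88 (.split 0 (-73) (.wt 2) (.split 1 79
    (.split 3 61 (.split 4 (-120) (.lin 12) (.splitN 28962 (.split 5 (-10) (.wt 1) (.split 0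
    (-38) (.split 1 70 (.split 4 (-65) (.split 3 52 (.splitN 26376 (.wt 6) (.wt 0)) (.lin 7))
    (.lin 6)) (.lin 4)) (.lin 4))) (.wt 5))) (.lin 7)) (.lin 4))) (.lin 7)) (.lin 4))) (.lin 7))
    (.lin 4))) (.lin 7)) (.lin 4))) (.lin 6)) (.lin 4)))))) (.split 2 (-62) (.split 1 51 (.lin
    11) (.split 3 169 (.splitN 46060 (.split 1 184 (.split 3 142 (.split 4 (-184) .sq (.split 5
    (-26) (.splitN 24429 (.wt 1) (.split 3 16 (.wt 0) (.split 3 31 (.wt 2) (.split 1 69 (.lin 11)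
    (.split 7 39 (.splitN 35420 (.split 0 (-31) (.wt 2) (.split 5 (-40) (.split 3 42 (.wt 2)
    (.split 5 (-49) (.split 1 78 (.lin 11) (.split 0 (-29) (.wt 2) (.split 5 (-58) (.split 3 46
    (.wt 2) (.split 5 (-67) (.split 6 36 (.wt 2) (.split 2 (-71) (.split 1 96 (.lin 11) (.split 5
    (-76) (.splitN 28151 .sq (.split 7 26 (.wt 3) (.split 2 (-80) (.split 4 (-56) (.splitN 30986
    .sq (.split 3 60 (.wt 0) (.split 5 (-85) (.split 1 105 (.lin 2) .sq) (.lin 1)))) (.lin 12))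
    (.lin 9)))) (.lin 4))) (.lin 3))) (.lin 7))) (.lin 4)))) (.lin 7))) (.lin 4))) (.wt 3))
    (.split 2 (-80) (.split 4 (-65) (.split 0 (-37) (.wt 2) (.split 5 (-40) (.split 4 (-84) (.lin
    12) (.split 3 35 (.wt 2) (.split 5 (-49) (.split 1 78 (.lin 11) (.split 1 156 (.split 5
    (-131) (.lin 4) (.split 3 115 (.splitN 42179 (.split 1 145 (.split 5 (-122) (.lin 4) (.split
    3 106 (.split 6 44 (.split 2 (-99) (.lin 9) (.splitN 33167 (.wt 1) (.split 0 (-27) (.wt 0)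
    (.split 5 (-58) (.split 3 45 (.wt 0) (.split 5 (-67) (.split 3 54 (.wt 2) (.split 5 (-76)
    (.split 1 96 (.lin 11) (.split 6 35 (.wt 2) (.split 2 (-89) (.split 1 105 (.lin 11) (.split 5
    (-85) (.splitN 38600 .sq (.wt 1)) (.lin 4))) (.lin 3)))) (.lin 7))) (.lin 7))) (.lin 4)))))
    (.split 2 (-89) (.split 2 (-98) (.split 1 96 (.lin 11) (.split 5 (-67) (.split 3 88 (.splitN
    34721 .sq (.split 0 (-29) (.wt 0) (.split 4 (-75) (.lin 3) (.split 5 (-76) (.splitN 37841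
    (.split 3 67 (.split 1 115 (.split 5 (-95) (.lin 4) (.split 3 59 (.split 7 45 (.wt 0) (.split
    2 (-107) (.split 4 (-74) .sq (.lin 3)) (.lin 9))) (.wt 1))) (.lin 11)) (.wt 0)) (.wt 1))
    (.lin 4))))) (.lin 11)) (.lin 4))) (.lin 9)) (.lin 3))) (.lin 11))) .sq) (.wt 3)) (.lin 11)))
    .sq)) (.lin 7)))) (.lin 4))) (.lin 12)) (.lin 9))))))) (.split 0 (-29) (.split 4 (-56)
    (.splitN 17116 (.wt 1) (.splitN 38148 (.split 1 162 (.split 3 124 (.split 4 (-164) .sq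
    (.split 3 115 (.split 1 151 (.split 5 (-10) (.splitN 23312 (.wt 1) (.split 3 16 (.wt 0)
    (.split 4 (-65) (.split 0 (-38) (.split 1 60 (.lin 11) (.splitN 23954 (.wt 1) (.split 3 28
    (.wt 0) (.split 4 (-74) (.split 0 (-47) (.splitN 32966 (.wt 6) (.wt 5)) (.lin 7)) (.lin
    6))))) (.lin 7)) (.lin 6)))) (.split 0 (-47) (.split 3 18 (.wt 2) (.split 4 (-83) (.split 0
    (-56) (.split 1 60 (.lin 11) (.splitN 26295 (.split 0 (-81) .sq (.split 1 79 (.split 3 43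
    (.split 7 26 (.wt 3) (.split 4 (-92) (.split 2 (-71) .sq (.lin 9)) (.lin 6))) (.lin 7)) (.lin
    4))) (.wt 1))) (.lin 7)) (.lin 6))) (.lin 4))) (.lin 8)) (.lin 6))) (.lin 11)) .sq) (.wt 3)))
    (.lin 6)) (.lin 4)))) (.lin 11)) .sq) (.wt 3)) (.lin 11))) (.lin 9)))) (.split 2 (-89)
    (.split 1 78 (.lin 11) (.split 1 184 (.split 3 115 (.split 6 161 (.splitN 48504 (.split 1 175
    (.split 5 (-149) (.lin 4) (.split 3 106 (.split 4 (-164) .sq (.split 5 (-25) (.split 3 18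
    (.wt 2) (.split 1 87 (.lin 11) (.split 6 143 (.split 0 (-49) (.split 4 (-83) (.splitN 31796
    .sq (.splitN 36348 (.split 3 60 (.wt 0) (.split 1 96 (.lin 2) .sq)) (.wt 0))) (.lin 12))
    (.split 5 (-40) (.split 3 51 (.splitN 42671 (.split 0 (-43) (.wt 2) (.split 5 (-49) (.split 1
    146 (.split 5 (-122) (.lin 4) (.split 6 116 (.split 0 (-36) (.wt 2) (.split 5 (-58) (.splitN
    26783 .sq (.split 7 26 (.wt 0) (.split 2 (-98) (.split 4 (-56) (.splitN 29942 .sq (.split 7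
    35 (.wt 3) (.split 2 (-107) (.split 4 (-65) (.splitN 33587 .sq (.split 0 (-28) (.wt 3)
    (.splitN 39115 (.split 6 94 (.split 3 26 (.wt 0) (.split 5 (-76) (.split 1 96 (.lin 11) .sq)
    (.lin 7))) (.wt 1)) (.wt 1)))) (.lin 12)) (.lin 9)))) (.lin 12)) (.lin 9)))) (.lin 4))) (.lin
    11))) .sq) (.lin 4))) (.wt 3)) (.split 5 (-67) (.split 1 114 (.lin 11) (.split 6 116 (.splitN
    35468 .sq (.splitN 41849 (.split 7 26 (.wt 0) (.split 2 (-98) (.split 4 (-56) (.splitN 38627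
    .sq (.split 0 (-43) (.wt 0) (.split 5 (-76) .sq (.lin 4)))) (.lin 12)) (.lin 9))) (.wt 1)))
    (.lin 11))) (.lin 7))) (.lin 4))) (.lin 11)))) (.split 0 (-29) (.split 0 (-56) (.split 3 88
    (.split 4 (-83) (.split 6 134 (.splitN 28979 .sq (.splitN 33685 (.split 3 23 (.wt 0) (.split
    4 (-92) (.split 0 (-65) (.split 1 87 (.lin 11) .sq) (.lin 7)) (.lin 6))) (.wt 3))) (.lin 6))
    (.lin 6)) (.lin 6)) (.lin 4)) (.lin 1)))) (.lin 11))) .sq) (.wt 3)) (.lin 11)) (.lin 11))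
    .sq)) (.lin 9)))

def cert5_137_1 : Cert :=
  (.split 5 (-212) (.lin 4) (.split 3 214 (.split 2 (-244) .sq (.split 7 224 (.split 4 (-245) .sq
    (.split 6 30 (.splitN 57817 (.split 3 16 (.wt 2) (.split 1 42 (.lin 11) (.split 5 (-32) (.wt
    2) (.split 3 187 (.split 5 (-29) (.wt 2) (.split 2 (-205) .sq (.split 7 179 (.splitN 53989
    (.split 4 (-198) .sq (.split 3 133 (.split 7 170 (.split 5 (-20) (.wt 2) (.split 0 (-29)
    (.split 4 (-92) (.split 7 161 (.split 5 (-9) (.wt 2) (.split 0 (-38) (.split 3 115 (.split 4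
    (-101) (.split 7 152 (.splitN 34961 (.split 3 31 (.wt 2) (.split 4 (-110) (.split 0 (-47)
    (.split 1 51 (.lin 11) (.split 7 143 (.splitN 28718 .sq (.split 3 37 (.wt 0) (.split 4 (-119)
    (.split 0 (-56) (.split 1 60 (.lin 11) .sq) (.lin 7)) (.lin 6)))) (.lin 6))) (.lin 7)) (.lin
    6))) (.wt 3)) (.lin 6)) (.lin 6)) (.lin 6)) (.lin 4))) (.lin 6)) (.lin 6)) (.lin 4))) (.lin
    6)) (.lin 6))) (.wt 3)) (.lin 9)))) (.lin 6))))) (.wt 5)) (.split 2 (-98) (.split 1 51 (.lin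
    11) (.split 7 206 (.split 5 (-30) (.split 3 25 (.wt 2) (.split 1 69 (.lin 11) (.split 1 218
    (.split 3 178 (.split 2 (-230) .sq (.split 7 188 (.splitN 67623 (.split 0 (-56) (.wt 2)
    (.split 1 203 (.split 5 (-176) (.lin 4) (.split 3 160 (.split 2 (-215) .sq (.split 7 170
    (.split 4 (-209) .sq (.split 0 (-34) (.split 4 (-101) (.split 7 161 (.splitN 51380 (.split 3
    78 (.wt 2) (.split 5 (-67) (.split 1 114 (.lin 11) .sq) (.lin 7))) (.wt 0)) (.lin 12)) (.lin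
    12)) (.split 5 (-40) (.split 3 73 (.split 5 (-104) (.lin 7) (.split 1 124 (.splitN 57413
    (.split 2 (-190) .sq (.split 7 152 (.split 6 44 (.split 5 (-95) (.lin 7) (.splitN 53902
    (.split 0 (-27) (.wt 2) (.split 5 (-49) (.split 3 37 (.wt 2) (.split 5 (-58) (.split 1 78
    (.lin 11) (.split 2 (-170) .sq (.split 7 125 (.splitN 51400 (.split 7 89 (.split 3 44 (.wt 2)
    (.split 5 (-67) (.split 1 87 (.lin 11) (.split 6 36 (.wt 2) (.split 2 (-107) (.split 1 96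
    (.lin 11) (.split 5 (-76) (.splitN 42407 .sq (.splitN 43837 (.split 7 64 (.wt 0) (.split 2
    (-116) (.split 4 (-92) .sq (.lin 3)) (.lin 9))) (.wt 1))) (.lin 4))) (.lin 3)))) (.lin 7)))
    (.split 2 (-134) (.split 4 (-119) .sq (.lin 12)) (.lin 9))) (.wt 3)) (.lin 9)))) (.lin 7)))
    (.lin 4))) (.wt 3))) (.split 2 (-116) (.split 1 87 (.lin 11) (.split 5 (-58) (.split 7 134
    (.splitN 39662 .sq (.splitN 51138 (.split 7 64 (.wt 3) (.split 2 (-125) (.split 4 (-92)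
    (.splitN 44603 .sq (.split 7 81 (.wt 1) (.split 2 (-143) (.split 4 (-110) .sq (.lin 3)) (.lin
    9)))) (.lin 3)) (.lin 9))) (.wt 1))) (.lin 9)) (.lin 4))) (.lin 9))) (.lin 9))) (.wt 3))
    (.lin 11))) (.split 5 (-85) (.split 1 114 (.lin 11) (.splitN 48653 .sq (.split 7 69 (.wt 1)
    (.split 2 (-107) (.split 4 (-92) (.splitN 53270 .sq (.split 0 (-22) (.split 5 (-167) (.lin 4)
    (.split 4 (-101) (.wt 3) (.lin 12))) (.wt 1))) (.lin 12)) (.lin 9))))) (.lin 7))) (.lin 4))))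
    (.lin 9))) (.lin 11))) .sq)) (.wt 3)) (.lin 9))) (.lin 11)) .sq))) (.split 0 (-29) (.split 3
    160 (.split 4 (-92) (.splitN 26954 .sq (.splitN 54207 (.split 1 168 (.split 3 124 (.split 2
    (-188) .sq (.split 7 143 (.splitN 49153 (.split 1 147 (.split 2 (-170) .sq (.split 7 125
    (.split 4 (-167) .sq (.split 3 88 (.splitN 45635 (.split 2 (-160) .sq (.split 7 116 (.split 3
    16 (.wt 5) (.split 4 (-101) (.split 0 (-38) (.split 1 60 (.lin 11) (.splitN 30680 .sq (.split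
    3 26 (.wt 5) (.split 4 (-110) (.split 0 (-47) (.split 1 69 (.lin 11) (.splitN 35054 .sq
    (.split 5 (-6) (.split 0 (-71) (.wt 0) (.split 3 52 (.wt 0) (.lin 7))) (.wt 1)))) (.lin 7))
    (.lin 6))))) (.lin 7)) (.lin 6))) (.lin 9))) (.wt 3)) (.lin 6))) (.lin 9))) .sq) (.wt 3))
    (.lin 9))) (.lin 11)) .sq) (.wt 3))) (.lin 6)) (.lin 6)) (.lin 4))) (.lin 9))) (.lin 9))))
    (.lin 9))) (.lin 11)))

def cert5_137_2 : Cert :=
  (.split 2 (-2687) (.div 2) (.split 6 2672 (.split 7 2672 (.split 5 (-2687) (.div 5) (.split 6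
    11 (.wt 2) (.split 2 (-26) (.splitN 402336 (.split 2 (-2219) (.div 2) (.split 7 2195 (.split
    5 (-2219) (.div 5) (.split 0 (-630) .sq (.split 1 2842 (.split 1 630 (.split 5 (-608) (.lin
    4) (.split 3 1213 (.split 3 610 (.split 6 620 (.splitN 306815 (.split 2 (-1697) (.div 2)
    (.split 7 1673 (.split 1 550 (.split 3 529 (.split 6 539 (.splitN 287536 (.split 2 (-533) .sq
    (.split 7 512 (.splitN 230463 (.split 1 474 (.split 5 (-446) (.lin 4) (.split 3 448 (.split 6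
    458 (.split 2 (-475) .sq (.split 7 449 (.split 7 59 (.splitN 65526 (.split 3 7 (.wt 2)
    (.split 1 33 (.lin 11) (.split 0 (-250) .sq (.split 1 250 (.split 3 277 (.split 5 (-230)
    (.lin 4) (.split 3 232 (.split 6 233 (.splitN 61275 (.split 1 237 (.split 5 (-212) (.lin 4)
    (.split 6 215 (.split 7 20 (.splitN 33477 (.split 6 18 (.wt 2) (.split 2 (-35) (.split 7 12
    (.splitN 11503 (.split 1 116 (.split 3 88 (.split 2 (-59) (.div 2) (.split 6 44 (.wt 2) (.lin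
    9))) (.lin 2)) (.div 1)) (.wt 0)) .cand) (.lin 9))) (.wt 0)) (.split 2 (-44) (.split 4 (-47)
    (.splitN 52126 (.split 1 208 (.split 5 (-185) (.lin 4) (.split 3 187 (.split 4 (-212) .sq
    cert5_137_0) (.lin 11))) .sq) (.wt 3)) (.lin 12)) (.lin 9))) (.lin 11))) .sq) (.wt 3)) (.lin
    11)) (.lin 11))) (.lin 2)) .sq)))) (.wt 3)) (.split 2 (-80) (.split 6 404 (.split 4 (-83)
    (.splitN 107831 (.split 3 7 (.wt 2) (.split 1 33 (.lin 11) (.split 1 299 (.split 5 (-275)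
    (.lin 4) (.split 3 277 (.split 6 278 (.splitN 100622 (.split 1 282 (.split 3 259 (.split 2
    (-292) .sq (.split 6 224 (.split 7 269 (.splitN 90079 (.split 1 264 (.split 5 (-239) (.lin 4)
    (.split 3 241 (.split 2 (-275) .sq (.split 6 206 (.split 7 251 (.split 6 59 (.splitN 74261
    (.split 1 232 cert5_137_1 .sq) (.wt 3)) (.split 2 (-125) (.split 1 78 (.lin 11) (.split 7 206
    (.split 3 196 (.splitN 37115 .sq (.splitN 81710 (.split 5 (-6) (.split 1 217 (.split 5 (-194)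
    (.lin 4) (.split 3 151 (.split 2 (-239) .sq (.split 6 170 (.split 7 170 (.splitN 74172
    (.split 1 202 (.split 5 (-176) (.lin 4) (.split 3 133 (.split 4 (-205) .sq (.split 3 46
    (.splitN 60279 (.split 1 167 (.split 5 (-140) (.lin 4) (.split 6 143 (.splitN 58871 (.split 1
    157 (.split 6 134 (.split 2 (-185) .sq (.split 6 116 (.split 7 116 (.split 0 (-62) (.wt 0)
    (.split 5 (-22) (.split 0 (-54) (.wt 0) (.split 3 17 (.wt 0) (.split 5 (-40) (.split 1 87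
    (.lin 11) (.splitN 40571 .sq (.split 0 (-40) (.wt 0) (.split 5 (-49) (.split 7 63 (.wt 3)
    (.split 2 (-134) (.split 6 107 (.split 4 (-92) (.splitN 46475 .sq (.split 0 (-29) (.wt 0)
    (.wt 1))) (.lin 12)) (.lin 9)) (.lin 9))) (.lin 4))))) (.lin 7)))) (.lin 4))) (.lin 9)) (.lin
    9))) (.lin 11)) .sq) (.wt 3)) (.lin 11))) .sq) (.wt 3)) (.split 1 114 (.lin 11) (.split 6 143
    (.splitN 46700 .sq (.split 0 (-29) (.split 4 (-92) (.split 0 (-30) (.split 4 (-101) (.split 7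
    161 (.splitN 51056 .sq (.splitN 53179 (.split 0 (-100) (.wt 0) (.split 5 (-22) (.split 0
    (-80) (.wt 0) (.split 5 (-40) (.split 0 (-71) (.wt 0) (.split 5 (-49) .sq (.lin 4))) (.lin
    4))) (.lin 4))) (.wt 3))) (.lin 12)) (.lin 12)) (.wt 1)) (.lin 12)) (.wt 1))) (.lin 11)))))
    (.lin 11))) .sq) (.wt 3)) (.lin 9)) (.lin 9))) (.lin 11))) .sq) (.wt 1)) (.wt 3))) (.lin 11))
    (.lin 9))) (.lin 9))) (.lin 9)) (.lin 9))) (.lin 11))) .sq) (.wt 3)) (.lin 9)) (.lin 9)))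
    (.lin 11)) .sq) (.wt 3)) (.lin 11)) (.lin 11))) .sq))) (.wt 3)) (.lin 12)) (.lin 9)) (.lin
    9))) (.lin 9))) (.lin 11)) (.lin 11))) .sq) (.wt 3)) (.lin 9))) (.wt 3)) (.lin 11)) (.lin
    11)) .sq) (.lin 9))) (.wt 3)) (.lin 11)) (.lin 11)) (.lin 7))) .sq) (.lin 4)))) (.lin 9)))
    (.wt 3)) (.lin 9)))) (.lin 9)) (.lin 9)))

def cert5_137_3 : Cert :=
  (.split 1 460 (.split 5 (-446) (.lin 4) (.split 3 439 (.splitN 206214 (.split 2 (-446) .sq
    (.split 4 (-435) (.lin 3) (.split 7 422 (.splitN 181071 (.split 1 415 (.split 5 (-401) (.lin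
    4) (.split 3 394 (.split 2 (-416) .sq (.split 4 (-408) (.lin 3) (.split 7 395 (.split 6 52
    (.split 6 30 (.splitN 25123 (.wt 1) (.split 7 101 (.split 2 (-126) (.lin 9) (.split 4 (-120)
    (.lin 3) (.split 4 (-111) (.lin 12) (.splitN 110859 (.split 1 318 (.split 5 (-302) (.lin 4)
    (.split 3 295 (.split 7 50 (.splitN 56357 (.split 3 25 (.wt 2) (.split 5 (-40) (.split 6 21
    (.wt 2) .cand) (.lin 7))) (.wt 3)) (.split 2 (-71) (.split 4 (-56) (.split 4 (-65) (.splitN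
    83838 (.split 1 260 (.split 5 (-248) (.lin 4) (.split 3 241 (.split 6 21 (.splitN 67459
    (.splitN 43321 (.wt 1) (.split 3 44 (.wt 0) (.split 5 (-58) (.splitN 60869 (.wt 6) (.split 1
    142 (.wt 0) (.split 5 (-139) (.split 3 132 (.lin 7) .sq) (.lin 4)))) (.lin 7)))) (.wt 0))
    (.split 1 51 (.lin 11) (.split 5 (-40) (.splitN 56640 (.split 3 219 (.split 5 (-230) (.lin 7)
    (.split 3 42 (.split 5 (-95) (.lin 1) (.split 1 106 (.split 1 61 (.split 5 (-50) (.lin 4)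
    (.split 3 25 (.wt 2) (.split 5 (-49) (.split 1 60 (.lin 11) (.splitN 40796 (.split 4 (-74)
    (.split 2 (-89) (.split 7 61 (.lin 1) (.wt 0)) (.lin 0)) (.wt 0)) (.wt 6))) (.lin 7)))) (.lin
    11)) (.lin 2))) (.wt 2))) (.wt 0)) (.wt 1)) (.lin 4)))) (.lin 7))) .sq) (.wt 3)) (.lin 12))
    (.lin 3)) (.lin 9))) (.lin 7))) .sq) (.wt 1))))) (.split 2 (-125) (.split 4 (-110) (.split 4
    (-119) (.splitN 123131 (.split 1 278 (.split 5 (-266) (.lin 4) (.split 3 259 (.splitN 116286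
    (.split 2 (-291) .sq (.split 4 (-282) (.lin 3) (.split 7 269 (.splitN 105754 (.split 1 247
    (.split 5 (-230) (.lin 4) (.split 3 223 (.split 2 (-274) .sq (.split 7 251 (.split 6 21
    (.splitN 51487 (.wt 1) (.splitN 78269 (.split 3 43 (.wt 0) (.split 5 (-58) (.splitN 61268
    (.wt 6) (.split 3 72 (.wt 0) (.split 5 (-85) (.splitN 70379 (.wt 6) (.split 3 132 (.wt 0)
    (.split 5 (-139) .sq (.lin 7)))) (.lin 7)))) (.lin 7))) (.wt 5))) (.split 1 51 (.lin 11)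
    (.split 5 (-40) (.splitN 63723 (.split 3 65 (.split 1 88 (.split 5 (-77) (.lin 4) (.splitN
    58464 (.split 3 48 (.split 5 (-59) (.lin 7) (.split 3 31 (.split 1 52 (.wt 2) (.lin 11)) (.wt
    2))) (.wt 0)) (.wt 1))) (.lin 11)) (.wt 0)) (.wt 1)) (.lin 4)))) (.lin 9))) (.lin 7))) .sq)
    (.wt 3)) (.lin 9)))) (.wt 3)) (.lin 7))) .sq) (.wt 3)) (.lin 12)) (.lin 3)) (.lin 9))))
    (.split 2 (-62) (.split 1 60 (.lin 11) (.split 5 (-49) (.splitN 60775 (.split 2 (-329) (.div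
    2) (.split 7 287 (.split 5 (-329) (.div 5) (.split 1 340 (.splitN 58935 (.split 5 (-311)
    (.div 5) (.splitN 53767 (.split 2 (-293) (.div 2) (.split 4 (-264) (.lin 3) (.split 5 (-293)
    (.div 5) (.split 7 124 (.split 2 (-162) (.lin 9) (.split 4 (-138) (.lin 3) (.splitN 51823
    (.split 7 91 (.split 2 (-135) (.lin 9) (.splitN 48810 (.split 5 (-257) (.div 5) (.split 7 73
    (.split 4 (-84) (.lin 12) (.splitN 45899 (.split 7 61 (.split 2 (-99) (.lin 9) (.split 4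
    (-75) (.lin 3) (.split 4 (-66) (.lin 12) (.splitN 41761 (.split 7 50 (.split 2 (-90) (.lin 9)
    (.split 4 (-57) (.lin 12) (.splitN 38903 (.split 5 (-203) (.div 5) (.splitN 26735 (.wt 3)
    (.split 3 95 (.split 5 (-140) (.lin 1) (.split 1 151 (.split 7 41 (.split 2 (-81) (.lin 9)
    (.split 4 (-48) (.lin 12) (.splitN 34610 (.split 3 50 (.split 5 (-86) (.lin 1) (.split 1 88
    (.split 5 (-77) (.lin 4) (.split 7 34 (.wt 1) (.wt 0))) (.lin 11))) (.wt 0)) (.wt 1)))) (.wt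
    0)) (.lin 2))) (.wt 0)))) (.wt 1)))) (.wt 0)) (.wt 1))))) (.wt 0)) (.wt 1))) (.wt 0))) (.wt
    1))) (.wt 0)) (.wt 1)))) (.wt 0))))) (.wt 6))) (.wt 1)) (.lin 4))) (.lin 9))) (.wt 1)) (.lin
    4))) (.lin 3))) (.wt 2)) (.lin 9)))) (.lin 7))) .sq) (.wt 1)) (.lin 9)))) (.wt 1)) (.lin 7)))
    .sq)

def cert5_137_4 : Cert :=
  (.split 5 (-1) (.split 0 (-12) (.split 1 24 (.lin 4) (.split 4 (-29) (.splitN 571677 (.split 1
    6344 (.split 5 (-6323) (.lin 4) (.split 3 6334 (.split 2 (-3173) (.div 2) (.split 6 3158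
    (.split 7 3158 (.splitN 485570 (.split 1 5372 (.split 3 5362 cert5_137_2 (.lin 11)) (.div 1))
    (.wt 3)) (.lin 9)) (.lin 9))) (.lin 11))) (.div 1)) (.wt 3)) (.lin 12))) (.split 0 (-5)
    (.split 4 (-20) (.split 6 8 (.wt 2) (.split 2 (-26) (.split 1 24 (.lin 11) (.split 5 (-13)
    (.split 7 24 (.splitN 60078 (.split 2 (-329) (.div 2) (.split 6 314 (.split 5 (-329) (.div 5)
    (.split 3 331 (.splitN 32425 .cand (.wt 3)) (.lin 1))) (.lin 3))) (.wt 1)) (.split 2 (-44)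
    (.split 4 (-38) (.split 3 22 (.splitN 128086 (.split 1 1412 (.split 5 (-1400) (.lin 4)
    (.split 6 1403 (.split 2 (-707) (.div 2) (.split 7 692 (.split 6 24 (.wt 2) (.split 1 33
    (.lin 11) (.split 5 (-22) (.split 3 7 (.wt 2) .cand) (.lin 4)))) (.lin 1))) (.lin 7))) (.div
    1)) (.wt 3)) (.split 5 (-31) (.split 1 42 (.lin 11) (.splitN 244691 (.split 1 2708 (.split 5
    (-2696) (.lin 4) (.split 2 (-1355) (.div 2) (.split 4 (-1344) (.lin 3) (.split 7 1331 (.split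
    5 (-1355) (.div 5) (.split 1 1366 (.splitN 219891 cert5_137_3 (.wt 1)) (.lin 4))) (.lin
    9))))) (.div 1)) (.wt 1))) (.lin 7))) (.lin 12)) (.lin 9))) (.lin 4))) (.lin 3))) (.lin 12))
    (.wt 2))) (.split 0 (-20) (.split 4 (-29) (.splitN 11339 (.wt 1) (.split 3 12 (.wt 2) (.split
    4 (-38) (.split 0 (-29) (.split 1 24 (.lin 11) (.splitN 413544 (.split 0 (-11451) (.div 0)
    (.split 1 11446 (.split 5 11426 (.split 1 4580 (.split 3 4570 (.split 2 (-2291) (.div 2)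
    (.split 6 2276 (.split 7 2276 (.splitN 352053 (.split 2 (-1949) (.div 2) (.split 6 1934
    (.split 7 1934 (.split 7 8 (.wt 0) (.split 4 (-47) (.split 2 (-26) (.splitN 18175 (.wt 1)
    (.splitN 238114 (.split 1 2636 (.split 3 2626 (.split 2 (-1319) (.div 2) (.split 6 1295
    (.split 7 1304 (.splitN 225216 (.split 2 (-1247) (.div 2) (.split 7 1232 (.split 6 8 (.wt 0)
    (.split 4 (-56) (.split 0 (-38) (.split 2 (-35) (.splitN 147789 (.split 1 1628 (.split 3 1609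
    (.split 2 (-815) (.div 2) (.split 6 791 (.split 7 791 (.splitN 138943 (.split 1 1520 (.split
    3 1501 (.split 2 (-761) (.div 2) (.split 6 737 (.split 7 737 (.splitN 127815 (.split 2 (-707)
    (.div 2) (.split 6 683 (.split 7 683 (.split 4 (-1413) (.div 4) (.split 3 23 (.wt 2) (.split
    4 (-65) (.split 0 (-47) (.split 1 42 (.lin 11) (.splitN 114264 (.split 2 (-635) (.div 2)
    (.split 6 611 (.split 7 611 (.splitN 100413 (.split 1 1088 (.split 3 1069 (.split 2 (-545)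
    (.div 2) (.split 6 521 (.split 7 521 (.split 5 544 (.split 3 28 (.wt 2) (.split 4 (-74)
    (.split 0 (-56) (.split 1 51 (.lin 11) (.splitN 86532 (.split 1 944 (.split 3 925 (.split 2
    (-473) (.div 2) (.split 6 449 (.split 7 449 (.split 5 7 (.wt 2) (.split 0 (-65) (.split 4
    (-83) (.splitN 74146 (.split 1 800 (.split 3 781 (.split 2 (-401) (.div 2) (.split 6 377
    (.split 7 377 (.split 4 (-801) (.div 4) (.split 5 400 (.split 7 17 (.wt 0) (.split 3 736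
    (.split 2 (-44) (.splitN 24438 (.wt 1) (.split 3 39 (.wt 2) (.split 4 (-101) (.split 0 (-74)
    (.splitN 67782 (.split 2 (-365) (.div 2) (.split 6 332 (.split 7 341 (.split 4 (-729) (.div
    4) (.split 3 664 (.split 5 364 (.split 6 17 (.wt 0) (.split 4 (-110) (.split 0 (-83) (.split
    2 (-53) (.split 1 69 (.lin 11) (.splitN 30095 .sq (.split 7 38 (.wt 0) (.split 4 (-128)
    (.split 2 (-71) (.split 6 314 (.splitN 37871 .sq (.split 6 36 (.wt 0) (.split 3 619 (.split 0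
    (-101) (.split 2 (-89) (.split 1 87 (.lin 11) (.split 4 (-146) (.split 7 314 (.splitN 53099
    .sq (.splitN 60026 (.split 2 (-329) (.div 2) (.split 6 278 (.split 7 278 (.split 4 (-657)
    (.div 4) (.split 3 547 (.split 1 592 (.splitN 58615 (.split 2 (-311) (.div 2) (.split 6 260
    (.split 7 260 (.split 4 (-621) (.div 4) (.split 3 511 (.split 0 (-213) (.wt 0) (.split 4
    (-471) (.lin 3) (.split 1 412 (.split 5 122 (.split 3 151 (.split 6 152 (.wt 0) (.lin 7))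
    (.lin 7)) (.lin 4)) (.lin 8)))) (.lin 6))) (.lin 9)) (.lin 9))) (.wt 3)) (.lin 8)) (.lin 6)))
    (.lin 9)) (.lin 9))) (.wt 3))) (.lin 9)) (.lin 6))) (.lin 9)) (.lin 7)) (.lin 6)))) (.lin 9))
    (.lin 9)) (.lin 6))))) (.lin 9)) (.lin 7)) (.lin 6))) (.div 5)) (.lin 6))) (.lin 9)) (.lin
    9))) (.wt 3)) (.lin 7)) (.lin 6)))) (.lin 9)) (.lin 6))) (.div 5))) (.lin 9)) (.lin 9)))
    (.lin 11)) (.div 1)) (.wt 3)) (.lin 6)) (.lin 4))) (.lin 9)) (.lin 9))) (.lin 11)) (.div 1))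
    (.wt 5))) (.lin 7)) (.lin 6))) (.div 5)) (.lin 9)) (.lin 9))) (.lin 11)) (.div 1)) (.wt 5))
    (.lin 9)) (.lin 9))) (.wt 3))) (.lin 7)) (.lin 6)))) (.lin 9)) (.lin 9))) (.wt 5)) (.lin 9))
    (.lin 9))) (.lin 11)) (.div 1)) (.wt 3)) (.lin 9)) (.lin 9))) (.lin 11)) (.div 1)) (.wt 3))
    (.lin 9)) (.lin 7)) (.lin 6))) (.lin 9))) (.wt 3)) (.lin 9)) (.lin 9))) (.lin 11)) (.div 1))
    (.wt 3))) (.lin 9)) (.lin 6))) (.lin 9)) (.lin 9))) (.wt 3)) (.lin 9)) (.lin 9))) (.lin 11))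
    (.div 1)) (.lin 4)) (.lin 4))) (.wt 3))) (.lin 7)) (.lin 6)))) (.lin 6)) (.lin 4)))

def cert5_137 : Cert :=
  (.split 1 15 (.lin 11) (.splitN 4425 (.wt 1) cert5_137_4))

theorem check5_137 :
    check task5 cert5_137
      [(7, ⟨none, some (-2)⟩), (7, ⟨none, none⟩), (1, ⟨none, some (-17)⟩), (7, ⟨some (7), none⟩), (7, ⟨none, some (-11)⟩), (5, ⟨none, none⟩), (8, ⟨some (8), none⟩), (8, ⟨some (8), none⟩)] ⟨some (3960), none⟩ = true := by
  decide +kernel

def cert5_138 : Cert :=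
  (.lin 12)

theorem check5_138 :
    check task5 cert5_138
      [(7, ⟨none, some (-2)⟩), (7, ⟨none, none⟩), (1, ⟨none, some (-17)⟩), (7, ⟨none, none⟩), (7, ⟨some (-2), none⟩), (5, ⟨none, none⟩), (8, ⟨some (8), none⟩), (8, ⟨some (8), none⟩)] ⟨some (3960), none⟩ = true := by
  decide +kernel

def cert5_139_0 : Cert :=
  (.split 4 (-67) (.split 2 (-143) (.split 0 187 (.split 5 (-158) (.lin 8) (.splitN 96131 (.split
    0 68 (.wt 2) (.split 2 (-170) (.split 7 142 (.lin 12) (.splitN 63494 .sq (.split 1 (-39) (.wt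
    0) (.split 5 (-31) (.split 1 (-37) (.wt 0) (.split 5 (-40) (.split 0 104 (.wt 2) (.split 2
    (-206) (.split 5 (-76) (.split 7 178 (.lin 12) .sq) (.lin 4)) (.lin 3))) (.lin 4))) (.lin
    4))))) (.lin 3))) (.wt 3))) (.lin 3)) (.lin 0)) (.split 1 (-55) (.split 2 (-125) (.split 3
    (-83) (.splitN 88113 (.splitN 65399 (.wt 6) (.split 4 (-30) (.wt 0) (.split 6 26 (.wt 0)
    (.split 3 (-92) (.splitN 72997 (.wt 6) (.split 0 121 (.wt 0) (.split 2 (-179) (.split 7 142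
    (.lin 9) (.splitN 81575 .sq (.split 0 186 (.wt 0) (.split 2 (-242) (.split 5 (-31) (.split 7
    205 (.lin 9) .sq) (.lin 0)) (.lin 3))))) (.lin 3)))) (.lin 11))))) (.wt 0)) (.lin 11)) (.lin
    0)) (.split 0 99 (.split 2 (-198) (.lin 3) (.split 7 197 (.split 5 (-77) (.lin 4) (.split 7
    170 (.split 7 161 (.split 6 26 (.wt 2) (.split 3 (-56) (.split 4 (-62) (.wt 2) (.split 7 152
    (.split 4 (-38) (.splitN 60305 (.wt 6) (.split 1 (-33) (.wt 0) (.split 0 74 (.wt 2) (.split 2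
    (-152) (.split 5 (-31) (.wt 2) (.lin 0)) (.lin 3))))) (.split 2 (-162) (.lin 3) (.split 7 125
    (.split 1 (-34) (.split 3 (-74) (.wt 2) (.lin 11)) (.split 7 98 (.split 0 79 (.split 0 53
    (.wt 2) (.split 5 (-31) (.split 0 64 (.wt 2) (.split 5 (-40) (.splitN 88196 (.wt 6) (.split 1
    (-23) (.wt 0) (.split 5 (-49) (.wt 2) (.lin 4)))) (.lin 4))) (.lin 4))) (.lin 12)) (.split 2
    (-143) (.split 0 78 (.lin 12) (.split 5 (-49) (.split 1 (-26) (.wt 2) (.split 5 (-58) (.split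
    3 (-57) (.lin 11) (.splitN 92131 (.wt 1) (.split 4 (-27) (.wt 0) (.split 2 (-153) (.lin 0)
    (.split 0 87 (.lin 3) (.split 5 (-67) (.split 7 116 (.splitN 110514 (.wt 0) (.splitN 115310
    (.split 0 94 (.split 2 (-144) (.lin 3) (.split 5 (-68) (.lin 0) (.split 7 107 (.wt 1) (.lin
    1)))) (.wt 0)) (.wt 1))) (.lin 2)) (.lin 0))))))) (.lin 0))) (.lin 0))) (.lin 9)))) (.lin
    9)))) (.lin 12))) (.lin 11))) (.lin 12)) (.lin 9))) (.lin 2))) (.split 2 (-152) (.split 5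
    (-58) (.split 7 124 (.lin 12) (.split 6 30 (.wt 2) (.split 2 (-161) (.split 3 (-56) (.split 4
    (-37) (.split 0 214 (.split 2 (-179) (.split 7 142 (.lin 9) (.splitN 73295 .sq (.splitN
    116545 (.split 1 (-35) (.wt 0) (.split 5 (-76) (.split 0 135 (.wt 2) (.split 2 (-215) (.split
    5 (-112) (.split 7 178 (.lin 9) .sq) (.lin 4)) (.lin 3))) (.lin 4))) (.wt 3)))) (.lin 3))
    (.lin 3)) (.split 1 (-34) (.split 3 (-74) (.wt 2) (.lin 11)) (.split 5 (-76) (.split 3 (-66)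
    (.lin 11) (.split 1 (-25) (.split 5 (-203) (.lin 0) (.split 3 (-65) (.split 0 133 (.wt 2)
    (.split 2 (-197) (.split 7 160 (.lin 2) (.split 5 (-112) (.splitN 104129 .sq (.splitN 133004
    (.split 4 (-25) (.wt 0) (.split 0 154 (.wt 2) (.split 2 (-215) (.split 5 (-130) (.split 7 178
    (.lin 2) (.splitN 127457 .sq (.split 0 177 (.wt 0) (.split 2 (-233) (.split 5 (-148) (.split
    7 196 (.lin 2) .sq) (.lin 0)) (.lin 3))))) (.lin 0)) (.lin 3)))) (.wt 1))) (.lin 4))) (.lin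
    3))) (.lin 11))) (.split 5 (-85) (.split 3 (-57) (.lin 11) (.split 0 194 (.split 2 (-252)
    (.lin 3) (.split 5 (-176) (.lin 0) (.split 7 215 (.split 4 (-21) (.split 0 108 (.wt 2)
    (.split 2 (-179) (.split 5 (-94) (.split 7 142 (.lin 2) (.split 0 162 (.split 2 (-225) (.lin
    3) (.split 5 (-140) (.lin 0) (.split 7 188 (.split 0 117 (.wt 2) (.split 5 (-103) (.split 7
    151 (.lin 6) (.split 0 148 (.split 2 (-207) (.lin 3) (.split 5 (-122) (.lin 0) (.split 7 170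
    (.splitN 113683 (.split 0 127 (.wt 2) (.split 2 (-197) (.split 5 (-112) (.split 7 160 (.lin
    2) (.splitN 109222 (.wt 0) (.split 0 139 (.split 5 (-113) (.lin 4) (.split 7 161 (.wt 0)
    (.lin 6))) (.wt 0)))) (.lin 0)) (.lin 3))) (.wt 1)) (.lin 2)))) (.wt 2))) (.lin 4))) (.lin
    2)))) (.wt 2))) (.lin 0)) (.lin 3))) (.wt 2)) (.lin 2)))) (.wt 2))) (.lin 4)))) (.lin 4))))
    (.lin 11)) (.lin 3)))) (.lin 4)) (.lin 3)))))

def cert5_139_1 : Cert :=
  (.split 5 (-16) (.split 2 (-80) (.split 7 61 (.lin 8) (.split 6 19 (.wt 2) (.split 2 (-89)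
    (.split 3 (-47) (.splitN 12055154 (.split 2 (-66965) (.div 2) (.split 0 66913 (.split 5
    (-66893) (.lin 0) (.split 7 66932 (.splitN 10481446 (.split 2 (-58217) (.div 2) (.split 7
    58184 (.split 0 3234 (.split 5 (-3209) (.lin 4) (.splitN 6420702 (.split 2 (-35663) (.div 2)
    (.split 7 35630 (.split 0 2530 (.split 5 (-2507) (.lin 4) (.splitN 5559705 (.split 0 2354
    (.split 5 (-2327) (.lin 4) (.split 2 (-2356) .sq (.split 7 2321 (.splitN 2263081 (.split 0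
    1498 (.split 5 (-1472) (.lin 4) (.splitN 2037735 (.split 2 (-1424) .sq (.split 0 1375 (.split
    5 (-1355) (.lin 0) (.split 7 1394 (.splitN 1461492 (.split 0 1201 (.split 5 (-1175) (.lin 4)
    (.split 2 (-1204) .sq (.split 7 1169 (.splitN 1259590 (.split 0 1114 (.split 2 (-1118) .sq
    (.split 7 1088 (.split 1 (-148) (.split 2 (-224) (.split 0 177 (.lin 4) (.split 7 196 (.lin
    8) (.split 3 (-182) (.splitN 179378 .sq (.wt 0)) (.lin 11)))) (.lin 0)) (.split 3 (-183)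
    (.lin 11) (.split 7 259 (.split 2 (-414) (.lin 2) (.split 0 367 (.split 2 (-288) (.lin 9)
    (.split 0 232 (.split 5 (-221) (.lin 0) cert5_139_0) (.lin 12))) (.lin 3))) (.split 2 (-161)
    (.split 2 (-287) (.splitN 155987 .sq (.split 1 (-113) (.wt 0) (.split 4 (-113) (.wt 0)
    (.split 5 (-31) (.split 0 141 (.lin 3) (.split 0 150 (.lin 12) (.split 5 (-40) (.splitN
    178055 .sq (.split 1 (-69) (.wt 0) (.split 5 (-85) (.split 1 (-62) (.wt 0) (.split 5 (-94)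
    (.split 4 (-61) (.wt 0) (.split 0 195 (.lin 3) (.split 5 (-148) (.splitN 213974 .sq (.split 1
    (-49) (.wt 0) (.split 4 (-49) (.wt 0) (.split 5 (-166) (.split 0 213 (.lin 12) (.splitN
    227006 .sq (.split 1 (-46) (.wt 0) (.split 5 (-175) (.split 3 (-75) (.lin 11) (.split 4 (-46)
    (.wt 0) (.split 6 34 (.splitN 425375 (.splitN 262398 (.wt 6) (.split 1 (-23) (.wt 0) (.split
    5 (-202) (.split 3 (-48) (.lin 11) (.splitN 284388 (.wt 6) (.split 0 261 (.wt 0) (.split 2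
    (-314) (.split 5 (-229) (.split 7 286 (.lin 2) (.split 5 (-247) (.splitN 317483 .sq (.split 0
    355 (.wt 0) (.split 2 (-404) (.split 5 (-319) (.split 7 376 (.lin 2) .sq) (.lin 0)) (.lin
    3)))) (.lin 4))) (.lin 0)) (.lin 3))))) (.lin 0)))) (.wt 0)) (.wt 1)))) (.lin 4))))) (.lin
    8))))) (.lin 8)))) (.lin 4))) (.lin 4)))) (.lin 4)))) (.lin 0))))) (.lin 9)) (.lin 2)))))
    (.lin 9))) .sq) (.wt 3)) (.lin 9)))) .sq) (.wt 3)) (.lin 9))) (.lin 3))) (.wt 3))) .sq) (.wt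
    3)) (.lin 9)))) .sq) (.wt 3))) .sq) (.lin 9))) (.wt 3))) .sq) (.lin 9))) (.wt 3)) (.lin 9)))
    (.lin 3))) (.wt 3)) (.lin 11)) (.lin 0)))) (.lin 0)) (.splitN 2101768 (.split 0 58340 (.split
    3 (-58368) (.lin 7) (.split 2 (-11669) (.div 2) (.split 0 11626 (.split 7 11645 (.splitN
    1831604 (.split 2 (-10175) (.div 2) (.split 7 10151 (.split 0 1350 (.splitN 1485757 (.split 0
    1215 (.split 2 (-1217) .sq (.split 7 2384 (.split 7 1196 (.splitN 864481 (.split 0 924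
    (.split 2 (-926) .sq (.split 7 899 (.splitN 724207 (.split 0 845 (.split 2 (-848) .sq (.split
    7 827 (.split 3 (-840) (.lin 6) (.split 6 26 (.splitN 345335 (.split 0 579 (.split 2 (-583)
    .sq (.split 0 538 (.split 7 557 (.splitN 294938 (.split 2 (-536) .sq (.split 7 512 (.split 5
    (-8) (.split 0 42 (.wt 2) (.split 1 (-29) (.split 3 (-47) (.split 0 75 (.wt 2) (.split 1
    (-65) (.split 3 (-83) (.wt 2) (.lin 7)) (.lin 4))) (.lin 7)) (.lin 4))) (.splitN 92295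
    (.split 2 (-509) (.div 2) (.split 4 (-462) (.lin 0) (.split 0 288 (.split 1 (-282) (.lin 4)
    (.splitN 23522 (.wt 1) (.split 2 (-294) .sq (.split 0 250 (.split 3 (-273) (.lin 7) (.split 7
    269 (.splitN 84717 (.split 2 (-277) .sq (.split 0 232 (.split 7 251 (.split 6 21 (.split 0 34
    (.wt 2) (.split 1 (-38) (.split 3 (-56) (.split 0 78 (.wt 2) (.split 2 (-116) (.split 1 (-74)
    (.split 3 (-92) (.split 7 97 (.lin 6) (.splitN 43946 .sq (.splitN 46527 (.split 2 (-257)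
    (.div 2) (.split 7 233 (.wt 0) (.lin 9))) (.wt 0)))) (.lin 7)) (.lin 4)) (.lin 3))) (.lin 7))
    (.lin 4))) (.splitN 52144 .cand (.wt 1))) (.lin 9)) (.lin 3))) (.wt 1)) (.lin 9))) (.lin
    3))))) .sq))) (.wt 1))) (.lin 9))) (.wt 3)) (.lin 9)) (.lin 3))) .sq) (.wt 3)) (.split 2
    (-80) (.splitN 169133 (.split 0 390 (.split 1 (-381) (.lin 4) (.split 3 (-417) (.lin 7)
    (.split 2 (-398) .sq (.split 0 340 (.split 3 (-372) (.lin 7) (.split 7 359 (.splitN 147638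
    (.split 2 (-373) .sq (.split 7 332 (.split 5 (-8) .cand (.splitN 45128 (.split 2 (-239) (.div
    2) (.split 0 178 (.split 4 (-174) (.lin 0) (.split 3 (-210) (.lin 7) (.split 7 197 (.split 0
    56 (.split 1 (-48) (.lin 4) (.split 3 (-84) (.lin 7) (.splitN 41533 (.split 2 (-221) (.div 2)
    (.split 4 (-156) (.lin 0) (.split 0 32 (.split 1 (-21) (.lin 4) (.split 3 (-57) (.lin 7) (.wt
    2))) (.wt 2)))) (.wt 1)))) (.wt 2)) (.lin 9)))) (.lin 3))) (.wt 1))) (.lin 9))) (.wt 1))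
    (.lin 9))) (.lin 3))))) .sq) (.wt 1)) (.lin 9)))) (.lin 9))) .sq) (.wt 3)) (.lin 9))) .sq)
    (.wt 3)) (.lin 9)) (.lin 1))) .sq) (.wt 3)) .sq) (.lin 9))) (.wt 3)) (.lin 9)) (.lin 3))))
    (.div 0)) (.wt 3)))

def cert5_139_2 : Cert :=
  (.split 1 (-37) (.split 2 (-161) (.split 0 96 (.lin 4) (.split 5 (-266) (.lin 0) (.split 7 115
    (.lin 8) (.split 3 (-83) (.splitN 62819 .sq (.splitN 117255 (.split 2 (-278) .sq (.split 5
    (-167) (.lin 0) (.split 7 224 (.splitN 107179 (.split 2 (-260) .sq (.split 5 (-149) (.lin 0)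
    (.split 7 206 (.split 4 (-37) (.split 2 (-179) (.split 0 169 (.split 7 133 (.lin 8) (.splitN
    74483 .sq (.split 6 47 (.wt 0) (.split 5 (-122) (.lin 0) (.split 3 (-92) (.split 1 (-63) (.wt
    0) (.split 3 (-129) (.lin 11) (.split 4 (-63) (.wt 0) (.split 0 103 (.split 1 (-39) (.lin 4)
    (.split 5 (-59) (.lin 4) (.split 7 152 (.wt 0) (.lin 8)))) (.wt 1))))) (.lin 11)))))) (.lin
    3)) (.lin 0)) (.split 6 57 (.split 3 (-120) (.lin 11) (.split 4 (-25) (.split 2 (-170)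
    (.split 7 124 (.lin 8) (.splitN 90068 (.split 0 170 (.splitN 84302 (.split 0 150 (.split 5
    (-104) (.lin 4) (.split 7 170 (.splitN 78393 (.split 0 127 (.split 5 (-86) (.lin 4) (.split 7
    152 (.split 1 (-64) (.wt 0) (.split 3 (-111) (.lin 11) (.split 6 45 (.wt 2) (.split 2 (-179)
    (.split 3 (-92) (.splitN 73997 .sq (.wt 1)) (.lin 11)) (.lin 0))))) (.lin 12))) .sq) (.wt 3))
    (.lin 12))) .sq) (.wt 3)) .sq) (.wt 1))) (.lin 0)) (.split 6 48 .cand (.split 5 (-140) (.lin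
    0) (.split 3 (-92) (.split 0 157 (.split 2 (-225) (.lin 3) (.split 5 (-113) (.lin 0) (.split
    0 147 (.split 5 (-104) (.lin 4) (.split 7 161 (.splitN 83923 (.split 2 (-206) .sq (.split 5
    (-86) (.lin 0) (.split 7 143 (.split 1 (-41) (.split 2 (-179) (.split 5 (-77) (.lin 0)
    (.split 7 124 (.lin 8) (.split 3 (-101) (.splitN 77885 .sq (.wt 1)) (.lin 11)))) (.lin 0))
    (.wt 2)) (.lin 9)))) (.wt 1)) (.lin 12))) (.wt 2)))) (.wt 2)) (.lin 11)))))) (.split 2 (-179)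
    (.split 5 (-131) (.lin 0) (.split 7 188 (.split 3 (-101) (.splitN 74159 .sq (.split 4 (-27)
    (.wt 1) (.wt 6))) (.lin 11)) (.lin 9))) (.lin 0)))) (.lin 9)))) (.wt 1)) (.lin 9)))) (.wt
    1))) (.lin 11))))) (.lin 0)) (.split 3 (-102) (.lin 11) (.split 4 (-37) (.split 2 (-161)
    (.split 5 (-266) (.lin 0) (.split 7 115 (.lin 8) (.splitN 116873 (.split 2 (-289) .sq (.split
    5 (-185) (.lin 0) (.split 7 251 (.splitN 109958 (.split 2 (-277) .sq (.split 7 233 (.split 6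
    57 (.split 3 (-84) (.lin 11) (.split 1 (-25) (.split 2 (-170) (.split 0 87 (.lin 4) (.split 5
    (-158) (.lin 0) (.split 7 124 (.lin 8) (.split 3 (-74) (.splitN 90355 (.split 2 (-228) .sq
    (.split 5 (-113) (.lin 0) (.split 7 179 (.splitN 84288 (.split 2 (-213) .sq (.split 0 124
    (.split 7 161 (.splitN 77510 (.split 7 159 (.split 5 (-86) (.lin 8) (.split 6 44 (.wt 2)
    (.split 2 (-179) (.split 3 (-83) (.splitN 70757 .sq (.wt 1)) (.lin 11)) (.lin 0)))) .sq) (.wt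
    3)) (.lin 2)) (.lin 3))) (.wt 1)) (.lin 2)))) (.wt 1)) (.lin 11))))) (.lin 0)) (.split 3
    (-75) (.lin 11) (.splitN 103303 (.splitN 65990 (.wt 3) (.split 0 133 (.split 5 (-113) (.lin
    4) (.split 6 48 (.split 3 (-66) (.lin 11) .cand) (.splitN 75644 (.split 0 107 (.split 5 (-86)
    (.lin 4) (.splitN 69861 (.wt 0) (.wt 6))) (.wt 0)) (.wt 6)))) (.split 2 (-224) (.split 5
    (-121) (.split 7 178 (.lin 8) .sq) (.lin 4)) (.lin 3)))) (.wt 1))))) (.split 2 (-179) (.split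
    5 (-149) (.lin 0) (.split 3 (-83) (.splitN 67679 .sq (.split 0 133 (.split 5 (-113) (.lin 4)
    (.split 0 125 (.split 5 (-104) (.lin 4) (.split 0 122 (.split 5 (-95) (.lin 4) (.split 0 99
    (.split 5 (-77) (.lin 4) (.split 7 161 (.split 1 (-21) (.split 0 87 (.lin 4) (.split 7 124
    (.lin 8) (.split 3 (-92) (.splitN 73367 .sq (.wt 1)) (.lin 11)))) (.wt 2)) (.lin 12))) (.wt
    6))) (.wt 2))) (.wt 2))) (.wt 2))) (.lin 11))) (.lin 0))) (.lin 2))) (.wt 1)) (.lin 2))))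
    (.wt 1)))) (.lin 0)) (.split 6 64 (.split 3 (-93) (.lin 11) (.split 6 61 (.split 3 (-84)
    (.lin 11) (.split 7 177 (.split 2 (-234) (.lin 2) (.split 0 151 (.split 5 (-149) (.lin 0)
    (.split 1 (-25) (.split 5 (-122) (.lin 4) (.splitN 101709 .cand (.wt 1))) (.split 3 (-75)
    (.lin 11) (.split 0 99 (.split 5 (-77) (.lin 4) (.split 7 125 (.splitN 94670 (.split 4 (-23)
    (.split 7 106 (.lin 8) (.split 6 49 (.split 3 (-66) (.lin 11) (.splitN 87548 (.wt 0) (.wt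
    1))) (.wt 0))) (.wt 0)) (.wt 6)) (.lin 8))) (.wt 2))))) (.lin 12))) (.split 2 (-215) (.split
    0 132 (.lin 3) (.split 0 150 (.lin 12) (.split 5 (-121) (.splitN 122669 .sq (.wt 6)) (.lin
    4)))) (.lin 2)))) (.wt 2))) (.wt 2)))))

def cert5_139_3 : Cert :=
  (.split 4 (-39) (.split 6 53 (.split 0 65 (.split 2 (-189) (.lin 3) (.split 5 (-41) (.lin 4)
    (.split 7 152 (.split 7 143 (.split 7 134 (.split 1 (-29) (.split 3 (-74) (.split 0 53 (.wt
    2) (.split 1 (-36) (.wt 2) (.split 5 (-31) (.wt 2) (.lin 4)))) (.lin 11)) (.split 6 48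
    (.split 3 (-66) (.lin 11) (.splitN 71602 (.split 0 52 (.wt 2) (.split 2 (-152) (.split 7 106
    (.lin 1) (.split 5 (-40) (.wt 1) (.lin 4))) (.lin 3))) (.wt 5))) .cand)) (.lin 12)) (.lin 9))
    (.lin 8)))) (.split 5 (-31) (.split 7 115 (.lin 12) (.split 1 (-29) (.split 3 (-74) (.split 6
    45 (.wt 2) (.split 2 (-170) (.split 3 (-83) (.splitN 60965 .sq (.split 1 (-36) (.wt 0)
    (.split 2 (-207) (.lin 0) (.split 0 79 (.split 7 152 (.split 5 (-40) (.wt 2) (.lin 4)) (.lin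
    2)) (.lin 4))))) (.lin 11)) (.lin 3))) (.lin 11)) (.split 0 70 (.split 5 (-49) (.split 3
    (-75) (.lin 7) (.split 6 44 (.wt 2) (.split 3 (-74) (.splitN 67233 (.wt 1) (.wt 6)) (.lin
    7)))) (.lin 4)) (.lin 4)))) (.lin 4))) (.split 2 (-152) (.split 3 (-83) (.split 0 65 (.split
    2 (-198) (.lin 3) (.split 7 134 (.split 1 (-29) (.split 2 (-161) (.split 5 (-32) (.lin 4)
    (.split 7 97 (.lin 8) (.split 3 (-92) (.splitN 54071 .sq (.split 1 (-38) (.wt 0) (.split 3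
    (-93) (.lin 11) (.split 4 (-74) (.wt 0) (.split 7 125 (.split 7 99 (.wt 0) (.split 2 (-170)
    (.splitN 58895 .sq (.wt 3)) (.lin 2))) (.lin 6)))))) (.lin 11)))) (.lin 0)) (.split 3 (-84)
    (.lin 11) .cand)) (.lin 9))) (.split 2 (-179) (.split 5 (-31) (.split 7 115 (.lin 9) (.splitN
    64700 .sq (.splitN 71413 (.split 1 (-28) (.wt 1) (.split 0 70 (.split 5 (-49) (.split 3 (-84)
    (.lin 7) (.wt 0)) (.lin 4)) (.lin 4))) (.wt 1)))) (.lin 4)) (.lin 3))) (.lin 11)) (.lin 0)))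
    (.split 7 143 (.split 7 125 (.split 7 93 (.split 2 (-153) (.lin 9) (.split 0 70 (.split 6 53
    (.split 1 (-29) (.split 5 (-41) (.lin 4) (.split 3 (-74) (.split 6 48 (.splitN 73016 .cand
    (.wt 3)) .cand) (.lin 11))) (.split 3 (-75) (.lin 11) (.split 4 (-29) (.split 0 61 (.split 5
    (-41) (.lin 4) (.split 6 48 (.split 3 (-66) (.lin 11) (.split 0 48 (.wt 2) (.split 2 (-125)
    (.split 7 79 (.lin 2) (.split 5 (-31) (.splitN 65020 (.wt 1) (.split 4 (-36) (.wt 0) (.split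
    0 57 (.wt 2) (.split 2 (-134) (.split 5 (-40) (.split 7 88 (.lin 1) (.splitN 71593 (.wt 0)
    (.wt 0))) (.lin 0)) (.lin 3))))) (.lin 4))) (.lin 3)))) .cand)) (.lin 12)) (.split 0 56
    (.split 5 (-32) (.lin 4) (.split 6 52 .cand (.wt 2))) (.split 5 (-40) (.split 7 79 (.lin 8)
    (.wt 2)) (.lin 4)))))) (.split 1 (-29) (.split 0 51 (.lin 4) (.split 5 (-41) (.lin 0) (.split
    7 70 (.lin 8) (.split 3 (-92) (.splitN 67238 (.split 4 (-29) (.split 0 61 (.split 1 (-34)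
    (.split 2 (-152) (.split 0 60 (.lin 4) (.split 4 (-30) (.lin 0) (.split 5 (-23) (.lin 0)
    (.split 3 (-101) (.split 7 88 (.lin 1) (.splitN 55386 (.wt 0) (.wt 0))) (.lin 1))))) (.lin
    0)) (.split 3 (-93) (.lin 11) .cand)) (.lin 3)) (.split 0 60 (.split 2 (-135) (.lin 3)
    (.split 1 (-30) (.lin 0) (.split 5 (-23) (.lin 0) (.split 3 (-93) (.lin 1) (.wt 0))))) (.wt
    2))) (.wt 1)) (.lin 11))))) (.split 3 (-84) (.lin 11) (.split 0 61 (.split 5 (-41) (.lin 4)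
    (.split 0 57 (.split 5 (-32) (.lin 4) (.split 4 (-25) (.split 2 (-134) (.split 7 70 (.lin 2)
    (.split 0 48 (.split 5 (-23) (.lin 4) (.wt 2)) (.wt 2))) (.lin 0)) (.wt 2))) (.wt 2))) (.wt
    2))))) (.lin 12))) (.split 2 (-143) (.split 0 60 (.lin 12) (.split 6 53 (.split 3 (-93) (.lin
    11) (.split 1 (-29) (.split 3 (-74) (.split 4 (-29) (.split 5 (-36) (.split 6 48 (.wt 2)
    .cand) (.split 0 70 (.split 7 116 (.split 7 107 (.split 6 48 (.splitN 61036 (.wt 6) (.split 0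
    63 (.wt 0) (.split 1 (-38) (.split 5 (-31) (.split 3 (-83) (.wt 0) (.lin 7)) (.lin 4)) (.lin
    4)))) .cand) (.lin 8)) (.lin 6)) (.lin 4))) (.split 0 69 (.lin 3) (.split 6 50 .cand (.wt
    2)))) (.lin 11)) (.split 0 70 (.split 5 (-40) (.split 4 (-29) (.split 7 107 (.split 3 (-75)
    (.lin 11) (.split 6 51 (.split 3 (-66) (.lin 11) (.split 4 (-37) (.wt 2) (.split 2 (-144)
    (.lin 0) (.split 0 69 (.lin 3) (.split 5 (-49) (.split 7 98 (.splitN 79953 (.wt 0) (.wt 0))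
    (.lin 1)) (.lin 0)))))) (.wt 2))) (.lin 8)) (.lin 8)) (.lin 4)) (.lin 4)))) (.split 2 (-161)
    (.split 1 (-22) (.split 3 (-92) (.splitN 53279 .sq (.split 4 (-22) (.split 5 (-24) (.split 0
    74 (.split 2 (-171) (.lin 3) (.split 5 (-41) (.lin 4) (.split 7 107 (.split 1 (-34) (.split 0
    69 (.lin 4) (.split 5 (-32) (.lin 4) (.split 3 (-101) (.splitN 57716 .sq (.wt 1)) (.lin 7))))
    (.split 3 (-93) (.lin 11) (.splitN 57053 (.wt 0) (.split 0 65 (.split 2 (-162) (.lin 3)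
    (.split 5 (-32) (.lin 1) (.split 4 (-38) (.split 7 98 (.wt 0) (.lin 1)) (.lin 0)))) (.wt
    2))))) (.lin 9)))) (.split 2 (-170) (.split 5 (-40) (.split 7 106 (.lin 9) (.splitN 62180 .sq
    (.split 1 (-32) (.split 3 (-101) (.split 4 (-37) (.wt 0) (.split 7 116 (.wt 1) (.lin 6)))
    (.lin 11)) (.wt 2)))) (.lin 4)) (.lin 3))) (.wt 6)) (.wt 2))) (.lin 11)) (.wt 2)) (.lin 9))))
    (.lin 9))) (.lin 8)) (.lin 6)))

def cert5_139_4 : Cert :=
  (.split 6 62 (.split 2 (-261) (.lin 0) (.split 3 (-138) (.lin 11) (.split 1 (-39) (.split 2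
    (-134) (.split 0 69 (.lin 4) (.split 7 88 (.lin 8) (.split 3 (-92) (.splitN 44270 .sq
    (.splitN 92192 (.split 4 (-39) (.split 2 (-161) (.split 7 115 (.lin 8) (.splitN 59579 .sq
    (.splitN 63506 (.split 0 77 (.wt 0) (.split 2 (-170) (.split 7 124 (.lin 12) .sq) (.lin 3)))
    (.wt 3)))) (.lin 0)) (.split 7 161 (.split 6 53 (.split 4 (-29) (.split 7 97 (.lin 8)
    (.splitN 69186 (.split 2 (-201) .sq (.split 5 (-36) (.split 0 87 (.lin 4) (.split 7 115 (.lin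
    8) (.split 6 47 (.wt 2) (.split 2 (-170) (.split 7 143 (.split 3 (-101) (.splitN 67760 .sq
    (.wt 0)) (.lin 11)) (.lin 9)) (.lin 0))))) (.split 0 106 (.split 7 143 (.splitN 64875 (.split
    2 (-184) .sq (.split 7 134 (.split 6 48 (.wt 2) (.split 2 (-152) (.split 7 125 (.split 3
    (-101) (.splitN 54152 .sq (.splitN 60989 (.split 2 (-168) .sq (.split 0 79 (.split 7 107
    (.splitN 56330 (.split 0 75 (.wt 0) (.split 2 (-161) (.split 7 106 (.lin 9) .sq) (.lin 3)))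
    (.wt 0)) (.lin 9)) (.lin 3))) (.wt 3))) (.lin 11)) (.lin 9)) (.lin 0))) (.lin 9))) (.wt 3))
    (.lin 8)) (.lin 4)))) (.wt 3))) (.split 6 48 .cand .cand)) (.split 3 (-110) (.splitN 73023
    (.split 2 (-201) .sq (.split 7 134 (.split 4 (-29) (.split 2 (-161) (.split 0 106 (.split 7
    97 (.lin 6) (.splitN 59903 .sq (.splitN 64010 (.split 7 98 (.wt 0) (.split 2 (-170) .sq (.lin
    9))) (.wt 1)))) (.lin 3)) (.lin 0)) (.splitN 55805 (.wt 5) (.split 0 93 (.split 2 (-171)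
    (.lin 3) (.split 5 (-41) (.lin 0) (.split 3 (-129) (.lin 7) (.split 7 107 (.splitN 64358
    (.split 5 (-24) (.split 1 (-57) (.lin 0) (.split 3 (-120) (.lin 6) (.split 7 97 (.lin 6) (.wt
    0)))) (.wt 1)) (.wt 1)) (.lin 9))))) (.wt 2)))) (.lin 9))) (.wt 1)) (.lin 11))) (.lin 8)))
    (.wt 1))) (.lin 11)))) (.lin 0)) (.split 2 (-225) (.lin 0) (.split 0 88 (.split 3 (-129)
    (.lin 7) (.split 7 161 (.split 3 (-102) (.lin 11) (.splitN 123901 (.splitN 41136 (.wt 1)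
    cert5_139_3) (.wt 1))) (.lin 8))) (.lin 4)))))) (.split 3 (-92) (.split 1 (-39) (.split 2
    (-161) (.split 0 69 (.lin 4) (.split 7 88 (.lin 8) (.split 3 (-119) (.splitN 61037 .sq
    (.split 4 (-41) (.wt 1) (.split 7 161 (.split 4 (-33) (.wt 1) (.split 7 152 (.split 5 (-26)
    (.split 2 (-170) (.split 0 78 (.lin 4) (.split 7 97 (.lin 8) (.splitN 67517 .sq (.wt 1))))
    (.lin 0)) (.wt 1)) (.lin 8))) (.lin 8)))) (.lin 11)))) (.lin 0)) (.split 0 88 (.split 3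
    (-147) (.lin 7) (.split 7 161 (.split 3 (-120) (.lin 11) (.split 4 (-39) (.split 7 79 (.lin
    6) (.split 7 88 (.lin 8) (.splitN 73765 (.split 2 (-214) .sq (.split 7 134 (.split 0 65
    (.split 5 (-41) (.lin 4) (.split 1 (-29) (.split 2 (-170) (.split 5 (-32) (.lin 4) (.split 7
    97 (.lin 8) (.split 3 (-101) (.splitN 59984 .sq (.wt 1)) (.lin 11)))) (.lin 0)) (.split 3
    (-102) (.lin 11) (.splitN 52710 (.wt 3) (.split 0 55 (.split 5 (-32) (.lin 4) (.split 0 50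
    (.split 5 (-23) (.lin 4) (.wt 6)) (.wt 2))) (.wt 2)))))) (.split 2 (-188) (.split 7 115 (.lin
    12) (.splitN 70775 .sq (.wt 1))) (.lin 3))) (.lin 9))) (.wt 1)))) (.split 7 93 (.split 0 70
    (.split 1 (-29) (.split 0 51 (.lin 4) (.split 5 (-41) (.lin 4) (.split 7 70 (.lin 8) (.split
    4 (-29) (.split 0 61 (.split 5 (-32) (.lin 4) (.split 7 79 (.lin 8) (.splitN 57285 (.split 1
    (-34) (.split 2 (-161) (.split 3 (-110) (.split 7 88 (.lin 8) .sq) (.lin 2)) (.lin 0))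
    (.split 3 (-111) (.lin 11) (.split 0 58 (.split 5 (-23) (.lin 4) (.wt 2)) (.wt 2)))) (.wt
    1)))) (.lin 12)) (.splitN 59956 (.split 0 58 (.split 1 (-30) (.lin 4) (.split 5 (-23) (.lin
    4) (.wt 0))) (.wt 0)) (.wt 6)))))) (.split 3 (-102) (.lin 11) (.split 0 56 (.split 5 (-32)
    (.lin 4) (.split 0 48 (.split 5 (-23) (.lin 4) (.wt 2)) (.wt 2))) (.wt 2)))) (.lin 12))
    (.split 2 (-170) (.split 0 60 (.lin 12) (.split 0 79 (.split 7 116 (.split 1 (-26) (.split 3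
    (-101) (.splitN 59192 .sq (.splitN 70333 (.split 4 (-21) (.split 1 (-35) (.wt 1) (.split 3
    (-111) (.lin 11) (.wt 6))) (.wt 0)) (.wt 1))) (.lin 11)) (.wt 2)) (.lin 12)) (.wt 2))) (.lin
    9))))) (.lin 8))) (.lin 4))) (.lin 11)))

def cert5_139_5 : Cert :=
  (.split 5 (-15) (.split 2 (-107) (.split 0 42 (.lin 4) (.split 7 61 (.lin 8) (.splitN 186293
    (.split 0 403 (.split 1 (-381) (.lin 4) (.splitN 29943 (.wt 1) (.split 2 (-416) .sq (.split 0
    349 (.split 4 (-327) (.lin 0) (.split 7 368 (.split 3 (-372) (.lin 10) (.splitN 174332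
    (.split 6 124 (.split 6 80 (.splitN 33849 (.wt 1) (.split 1 (-81) (.split 2 (-170) (.split 0
    105 (.lin 4) (.split 7 124 (.lin 8) (.split 3 (-128) (.splitN 81854 .sq (.split 4 (-27) (.wt
    1) (.split 5 (-30) (.split 2 (-179) (.split 0 114 (.lin 4) (.split 7 133 (.lin 8) (.splitN
    89792 .sq (.split 0 138 (.split 3 (-183) (.lin 7) (.split 7 152 (.wt 1) (.lin 12))) (.wt
    1))))) (.lin 0)) (.wt 1)))) (.lin 11)))) (.lin 0)) (.split 0 124 (.split 3 (-183) (.lin 7)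
    (.split 3 (-156) (.lin 11) (.splitN 162595 (.split 2 (-383) .sq (.split 7 332 (.split 4 (-77)
    (.split 2 (-170) (.split 7 124 (.lin 8) (.splitN 60308 .sq (.splitN 103058 (.split 2 (-265)
    .sq (.split 7 215 (.split 1 (-49) (.wt 3) (.split 0 97 (.splitN 90879 (.split 1 (-46) (.wt 3)
    (.split 2 (-239) .sq (.split 7 188 (.split 6 62 (.split 3 (-102) (.lin 11) (.split 1 (-36)
    (.wt 3) (.split 0 79 (.split 6 53 (.splitN 78250 (.split 2 (-210) .sq (.split 7 161 (.split 1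
    (-29) (.wt 3) (.split 0 56 (.split 6 46 (.wt 2) (.split 2 (-179) (.split 3 (-74) (.splitN
    65573 .sq (.wt 0)) (.lin 11)) (.lin 0))) (.split 2 (-188) (.split 5 (-40) (.split 7 142 (.lin
    8) (.splitN 74564 .sq (.wt 3))) (.lin 4)) (.lin 3)))) (.lin 9))) (.wt 3)) (.split 2 (-188)
    (.split 7 170 (.split 3 (-83) (.splitN 71324 .sq (.splitN 72486 (.split 0 51 (.wt 0) (.split
    7 133 (.lin 12) .sq)) (.wt 1))) (.lin 11)) (.lin 9)) (.lin 0))) (.lin 4)))) (.split 2 (-197)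
    (.split 7 161 (.split 3 (-92) (.splitN 77561 .sq (.wt 1)) (.lin 11)) (.lin 9)) (.lin 0)))
    (.lin 9)))) (.wt 3)) (.lin 4))) (.lin 9))) (.wt 1)))) (.lin 0)) (.split 2 (-279) (.lin 0)
    (.split 7 287 (.split 7 197 cert5_139_4 (.lin 8)) (.lin 2)))) (.lin 9))) (.wt 1)))) (.lin
    4)))) (.split 2 (-152) (.split 7 323 (.split 3 (-110) (.splitN 50102 .sq (.splitN 99825
    (.split 2 (-267) .sq (.split 7 170 (.split 3 (-219) (.lin 10) (.splitN 87301 (.split 2 (-241)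
    .sq (.split 7 143 (.split 3 (-192) (.lin 10) (.split 1 (-45) (.split 2 (-179) (.split 0 69
    (.lin 4) (.split 7 88 (.lin 8) (.split 3 (-137) (.splitN 74645 .sq (.wt 1)) (.lin 11))))
    (.lin 0)) (.split 3 (-156) (.lin 11) (.split 4 (-45) (.split 2 (-179) (.split 7 88 (.lin 8)
    (.splitN 64925 .sq (.split 0 54 (.split 5 (-32) (.lin 4) (.split 3 (-147) (.lin 7) (.wt 1)))
    (.wt 1)))) (.lin 0)) (.split 0 74 (.split 7 107 (.split 1 (-29) (.split 2 (-161) (.split 0 51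
    (.lin 4) (.split 5 (-41) (.lin 4) (.split 7 70 (.lin 8) (.split 3 (-119) (.splitN 57473 .sq
    (.split 4 (-31) (.wt 1) (.split 7 98 (.split 4 (-28) (.wt 1) (.wt 2)) (.lin 12)))) (.lin
    11))))) (.lin 0)) (.split 3 (-138) (.lin 11) (.split 0 50 (.split 5 (-23) (.lin 4) (.wt 2))
    (.wt 2)))) (.lin 12)) (.wt 6)))))) (.lin 9))) (.wt 1))) (.lin 9))) (.wt 1))) (.lin 11)) (.lin
    9)) (.lin 9))) (.split 2 (-188) (.split 7 287 (.split 3 (-146) (.splitN 79262 .sq (.split 0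
    65 (.split 5 (-41) (.lin 4) (.split 0 52 (.split 5 (-32) (.lin 4) (.wt 1)) (.wt 1))) (.wt
    1))) (.lin 11)) (.lin 9)) (.lin 9))) (.wt 1))) (.lin 9))) (.lin 3))))) .sq) (.wt 1)))) (.lin
    0)) (.splitN 118144 (.split 0 317 (.split 1 (-309) (.lin 4) (.split 2 (-329) .sq (.split 4
    (-255) (.lin 0) (.split 7 278 (.split 3 (-300) (.lin 10) (.splitN 107619 (.split 2 (-308) .sq
    (.split 6 260 (.split 7 260 (.split 5 (-8) (.split 2 (-98) (.split 0 33 (.lin 4) (.split 7 52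
    (.lin 8) (.splitN 94204 (.splitN 27616 (.wt 1) (.split 2 (-284) .sq (.split 7 233 (.split 3
    (-246) (.lin 10) (.split 6 99 (.split 0 85 (.split 1 (-66) (.lin 4) (.split 3 (-165) (.lin 7)
    (.split 6 71 (.split 3 (-138) (.lin 7) (.split 7 111 (.split 4 (-39) (.split 3 (-120) (.lin
    6) (.splitN 61897 .cand (.wt 1))) (.split 0 56 (.split 1 (-39) (.lin 4) (.split 7 89 (.split
    6 57 (.split 3 (-93) (.lin 7) (.split 7 71 (.split 1 (-29) (.split 0 42 (.lin 4) (.splitN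
    55551 .cand (.wt 1))) (.split 0 34 (.split 3 (-75) (.lin 7) (.splitN 61626 .cand (.wt 1)))
    (.lin 4))) (.split 3 (-74) (.split 1 (-29) (.split 4 (-29) (.splitN 62116 .cand (.wt 0))
    (.lin 8)) (.lin 8)) (.lin 6)))) (.splitN 59362 .cand (.wt 1))) (.lin 8))) (.split 1 (-47)
    (.splitN 57244 .cand (.wt 1)) (.lin 4)))) (.split 2 (-161) (.split 4 (-38) (.splitN 74623
    (.split 2 (-222) .sq (.split 7 170 (.split 0 56 (.split 1 (-39) (.lin 4) (.split 3 (-111)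
    (.lin 7) (.split 4 (-65) (.splitN 51488 .sq (.splitN 65516 (.split 2 (-192) .sq (.split 7 143
    (.split 1 (-38) (.wt 3) (.split 0 43 (.split 4 (-74) (.splitN 52739 .sq (.split 6 57 (.split
    1 (-27) (.wt 0) (.split 0 34 (.split 4 (-83) (.split 3 (-67) (.wt 0) (.split 6 44 (.wt 0)
    (.lin 7))) (.lin 8)) (.lin 4))) (.wt 1))) (.lin 8)) (.lin 4))) (.lin 9))) (.wt 1))) (.lin
    8)))) (.split 1 (-47) (.split 3 (-92) (.splitN 57320 .sq (.wt 1)) (.lin 7)) (.lin 4))) (.lin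
    9))) (.wt 1)) (.lin 8)) (.lin 9)))) (.split 2 (-134) (.split 4 (-165) (.lin 0) (.split 3
    (-101) (.split 7 197 (.splitN 39491 .sq (.splitN 66201 (.split 0 69 (.split 1 (-48) (.lin 4)
    (.split 3 (-147) (.lin 7) (.split 0 60 (.split 1 (-39) (.lin 4) (.split 3 (-138) (.lin 7)
    (.split 2 (-210) .sq (.split 7 125 (.splitN 60506 (.split 2 (-194) .sq (.split 4 (-75) (.lin
    0) (.split 0 50 (.split 3 (-129) (.lin 7) (.split 4 (-25) (.split 2 (-143) (.split 7 61 (.lin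
    8) (.splitN 43460 .sq (.split 0 39 (.split 1 (-21) (.lin 4) (.split 3 (-120) (.lin 7) (.wt
    6))) (.wt 6)))) (.lin 0)) (.wt 2))) (.wt 6)))) (.wt 1)) (.lin 9))))) (.wt 6)))) (.wt 6)) (.wt
    1))) (.lin 9)) (.lin 7))) (.lin 0))))) (.split 2 (-152) (.split 1 (-74) (.split 3 (-119)
    (.split 7 106 (.lin 8) (.splitN 64439 .sq (.wt 1))) (.lin 7)) (.lin 4)) (.lin 3))) (.split 2
    (-161) (.split 3 (-128) (.split 7 170 (.splitN 58688 .sq (.split 0 41 (.split 1 (-21) (.lin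
    4) (.wt 6)) (.wt 1))) (.lin 9)) (.lin 7)) (.lin 9)))) (.lin 9)))) (.wt 1)))) (.lin 0))
    (.splitN 40505 (.split 2 (-221) (.div 2) (.split 1 (-147) (.lin 0) (.split 4 (-147) (.lin 0)
    (.split 7 170 (.split 3 (-192) (.lin 10) (.splitN 38803 (.split 2 (-203) (.div 2) (.split 4
    (-129) (.lin 0) (.split 3 (-174) (.lin 10) (.splitN 35300 (.split 2 (-185) (.div 2) (.split 4
    (-111) (.lin 0) (.split 3 (-156) (.lin 10) (.split 0 31 (.split 1 (-21) (.lin 4) (.wt 2))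
    (.wt 2))))) (.wt 6))))) (.wt 1))) (.lin 9))))) (.wt 1))) (.lin 9)) (.lin 0))) (.wt 1))) (.lin
    9))))) .sq) (.wt 1)))

def cert5_139_6 : Cert :=
  (.split 1 (-34) (.split 3 (-65) (.split 0 210 (.wt 2) (.split 2 (-251) (.split 5 (-166) (.split
    0 490 (.wt 2) (.split 2 (-530) (.split 5 (-445) (.split 0 885 (.wt 2) (.split 2 (-926)
    (.split 5 (-841) (.split 7 889 (.lin 2) (.splitN 3153644 .sq (.split 1 (-44) (.wt 0) (.split
    3 (-66) (.lin 11) (.split 7 37907 (.split 2 (-37935) (.lin 2) (.split 0 37897 (.split 5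
    (-37859) (.lin 0) (.split 7 946 (.wt 0) (.split 2 (-980) (.split 0 942 (.lin 3) (.split 5
    (-904) (.splitN 3581540 .sq (.split 7 16627 (.split 2 (-16650) (.lin 2) (.split 0 16612
    (.split 5 (-16574) (.lin 0) (.split 7 1014 (.wt 0) (.split 2 (-1043) (.split 0 1005 (.lin 3)
    (.split 5 (-967) (.splitN 4073696 .sq (.split 7 1065 (.wt 0) (.split 5 (-1021) (.split 0 1059
    (.lin 7) (.splitN 4405256 .sq (.split 7 8283 (.split 2 (-8307) (.lin 2) (.split 0 8269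
    (.split 5 (-8231) (.lin 0) (.split 7 1134 (.wt 0) (.split 2 (-1169) (.split 0 1131 (.lin 3)
    (.split 5 (-1093) (.splitN 5153264 .sq (.split 7 1198 (.wt 0) (.split 2 (-1232) (.split 0
    1194 (.lin 3) (.split 5 (-1156) (.splitN 5740676 .sq (.split 7 5628 (.split 2 (-5652) (.lin
    2) (.split 0 5614 (.split 5 (-5576) (.lin 0) (.split 7 1286 (.wt 0) (.split 2 (-1322) (.split
    0 1284 (.lin 3) (.split 5 (-1246) (.splitN 6634916 .sq (.split 7 4753 (.split 2 (-4779) (.lin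
    2) (.split 0 4741 (.split 5 (-4703) (.lin 0) (.split 7 1376 (.wt 0) (.split 2 (-1412) (.split
    0 1374 (.lin 3) (.split 5 (-1336) (.splitN 7593956 .sq (.split 7 4204 (.split 2 (-4230) (.lin
    2) (.split 0 4192 (.split 5 (-4154) (.lin 0) (.split 7 1460 (.wt 0) (.split 2 (-1493) (.split
    0 1455 (.lin 3) (.split 5 (-1417) (.splitN 8512496 .sq (.split 7 3850 (.split 2 (-3870) (.lin
    2) (.split 0 3832 (.split 7 3280 (.split 2 (-3303) (.lin 2) (.split 0 3265 (.split 7 1587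
    (.wt 0) (.split 2 (-1619) (.split 0 1581 (.lin 3) (.split 5 (-1543) (.splitN 10045664 .sq
    (.split 7 3031 (.split 2 (-3051) (.lin 2) (.split 0 3013 (.split 5 (-2975) (.lin 0) (.split 7
    1693 (.wt 0) (.split 2 (-1727) (.split 5 (-1651) (.split 0 1962 (.wt 2) (.split 2 (-2006)
    (.split 5 (-1930) (.split 7 2818 (.split 2 (-2844) (.lin 2) (.split 5 (-2768) (.lin 0)
    (.split 0 2118 (.wt 2) (.split 2 (-2159) (.split 5 (-2083) (.split 7 2669 (.split 0 2271 (.wt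
    6) (.split 2 (-2312) (.split 5 (-2236) (.split 7 2512 (.split 2 (-2538) (.lin 2) (.split 7
    2397 (.split 0 2423 (.wt 2) (.split 2 (-2465) (.lin 9) (.lin 3))) (.split 0 2387 (.lin 12)
    (.split 7 2456 (.split 0 2446 (.split 7 2429 (.split 5 (-2349) (.split 0 2419 (.wt 2) (.split
    2 (-2465) (.lin 9) (.lin 3))) (.lin 4)) (.split 2 (-2465) (.split 5 (-2389) (.split 0 2419
    (.lin 3) (.split 7 2447 (.split 5 (-2425) (.lin 4) (.split 0 2437 (.splitN 604799999 (.wt 1)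
    (.split 7 2442 (.split 0 2432 (.wt 0) (.lin 12)) (.split 0 2432 (.lin 12) (.wt 2)))) (.lin
    12))) (.wt 3))) (.lin 0)) (.lin 2))) (.split 2 (-2492) (.lin 9) (.lin 3))) (.split 2 (-2492)
    (.split 5 (-2416) (.wt 3) (.lin 0)) (.lin 2)))))) (.wt 3)) (.lin 0)) (.lin 3))) (.wt 0))
    (.lin 0)) (.lin 3))))) (.wt 0)) (.lin 0)) (.lin 3))) (.lin 0)) (.lin 2)))) (.lin 3))) (.wt
    1))) (.lin 0))) (.lin 2))) (.lin 3))) (.wt 1)) (.lin 3))) (.wt 0))) (.lin 0))) (.lin 2))))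
    (.lin 3))) (.wt 0))) (.lin 0))) (.lin 2)))) (.lin 3))) (.wt 0))) (.lin 0))) (.lin 2)))) (.lin
    3))) (.wt 0))) (.lin 0))) (.lin 2)))) (.lin 0))) (.lin 2)))) (.lin 3))) (.wt 0)))) (.lin
    6)))) (.lin 0))) (.lin 2)))) (.lin 3))) (.wt 0))) (.lin 0))) (.lin 2)))) (.lin 3))) (.wt
    0)))))) (.lin 0)) (.lin 3))) (.lin 0)) (.lin 3))) (.lin 0)) (.lin 3))) (.lin 11)) (.split 5
    (-76) (.split 3 (-57) (.lin 11) (.split 7 483 (.split 2 (-513) (.lin 2) (.split 5 (-455)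
    (.lin 0) (.split 7 234 (.split 2 (-270) (.lin 2) (.split 0 232 (.split 5 (-212) (.lin 0)
    (.split 1 (-25) (.split 3 (-56) (.splitN 263547 (.wt 1) (.split 7 126 (.wt 0) (.split 2
    (-161) (.split 5 (-94) (.splitN 326624 (.wt 1) (.split 7 146 (.wt 0) (.split 2 (-179) (.split
    5 (-112) (.splitN 443934 (.wt 6) (.split 7 175 (.wt 0) (.split 2 (-206) (.split 5 (-139)
    (.splitN 631517 (.wt 6) (.split 0 192 (.wt 0) (.split 2 (-233) (.split 5 (-166) (.wt 2) (.lin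
    0)) (.lin 3)))) (.lin 0)) (.lin 2)))) (.lin 0)) (.lin 2)))) (.lin 0)) (.lin 2)))) (.lin 11))
    (.split 3 (-48) (.lin 11) (.splitN 753138 (.split 0 111 (.split 2 (-144) (.lin 3) (.split 5
    (-86) (.lin 0) (.wt 0))) (.wt 0)) (.wt 6))))) (.lin 3))) (.split 2 (-260) (.split 0 222 (.lin
    3) (.split 5 (-193) (.split 1 (-24) (.split 3 (-56) (.split 7 430 (.split 2 (-450) (.lin 2)
    (.split 5 (-383) (.lin 0) (.split 0 285 (.split 2 (-315) (.lin 3) (.split 5 (-248) (.lin 0)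
    (.split 0 260 (.split 2 (-297) (.lin 3) (.split 5 (-230) (.lin 0) (.split 7 255 (.split 2
    (-279) (.lin 2) (.split 0 241 (.split 0 236 (.wt 2) (.split 2 (-278) (.split 5 (-211) (.wt 2)
    (.lin 0)) (.lin 3))) (.lin 3))) (.split 2 (-287) (.split 0 249 (.lin 3) (.wt 2)) (.lin 2)))))
    (.wt 2)))) (.wt 2)))) (.wt 0)) (.lin 11)) (.wt 0)) (.lin 0))) (.lin 2))))) (.split 2 (-503)
    (.split 0 465 (.lin 3) (.wt 0)) (.lin 2)))) (.lin 0)))

def cert5_139_7 : Cert :=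
  (.split 6 35 (.split 1 (-48) (.split 3 (-83) (.splitN 4100349 (.split 2 (-22775) (.div 2)
    (.split 0 22732 (.split 5 (-22676) (.lin 0) (.split 7 22742 (.splitN 3563779 (.split 0 1875
    (.split 2 (-1917) (.lin 3) (.split 5 (-1823) (.lin 0) (.split 7 1889 (.splitN 1454948 (.split
    0 1186 (.split 2 (-1233) (.lin 3) (.split 5 (-1139) (.lin 0) (.split 7 1205 (.splitN 1063556
    (.split 0 1009 (.split 2 (-1053) (.lin 3) (.split 5 (-959) (.lin 0) (.split 7 1025 (.splitN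
    940533 (.split 0 946 (.split 2 (-990) (.lin 3) (.split 3 (-957) (.lin 7) (.split 7 962
    (.split 6 30 (.split 0 209 (.wt 2) (.split 2 (-251) (.split 1 (-158) (.wt 2) (.split 5 (-58)
    (.wt 2) (.lin 0))) (.lin 3))) (.split 2 (-152) (.split 3 (-92) (.splitN 536607 (.split 0 696
    (.split 2 (-738) (.lin 3) (.split 5 (-635) (.lin 0) (.split 3 (-705) (.lin 7) (.split 7 701
    (.splitN 472583 (.split 0 648 (.split 2 (-693) (.lin 3) (.split 5 (-590) (.lin 0) (.split 2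
    (-658) .sq (.split 0 610 (.split 3 (-624) (.lin 7) (.split 7 620 (.split 5 (-111) (.split 0
    168 (.lin 4) (.split 3 (-534) (.lin 6) (.split 2 (-215) (.split 7 178 (.lin 6) (.splitN
    132317 .sq (.splitN 370515 (.split 0 516 (.split 2 (-558) (.lin 3) (.split 5 (-455) (.lin 0)
    (.split 3 (-435) (.lin 7) (.split 7 521 (.splitN 342934 (.split 2 (-505) .sq (.split 5 (-401)
    (.lin 0) (.split 7 467 (.split 3 (-187) (.split 0 267 (.lin 7) (.split 2 (-314) (.split 1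
    (-155) (.split 7 277 (.lin 6) (.splitN 322100 .sq (.wt 0))) (.lin 11)) (.lin 10))) (.splitN
    294830 .cand (.wt 1))) (.lin 9)))) (.wt 1)) (.lin 9))))) .sq) (.wt 1)))) (.lin 10))))
    (.splitN 340645 (.split 0 536 (.split 3 (-543) (.lin 7) (.split 2 (-548) .sq (.split 7 503
    (.split 5 (-48) (.split 7 241 (.split 3 (-210) (.lin 6) (.splitN 223850 .cand (.wt 1)))
    (.split 3 (-164) (.split 1 (-128) (.split 2 (-278) (.split 0 231 (.lin 12) (.splitN 236699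
    .sq (.wt 0))) (.lin 9)) (.lin 8)) (.lin 6))) (.split 1 (-65) (.split 3 (-101) (.splitN 212385
    (.split 2 (-413) .sq (.split 0 358 (.split 3 (-372) (.lin 7) (.split 7 386 (.splitN 197886
    .cand (.wt 1)) (.lin 6))) (.lin 3))) (.wt 1)) (.lin 6)) (.lin 0))) (.lin 9)))) .sq) (.wt 1)))
    (.lin 9))) (.lin 3))))) .sq) (.wt 1)) (.lin 9))))) .sq) (.wt 1)) (.lin 11)) (.lin 3))) (.lin
    9)))) .sq) (.wt 3)) (.lin 9)))) .sq) (.wt 3)) (.lin 9)))) .sq) (.wt 3)) (.lin 9)))) .sq) (.wt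
    3)) (.lin 9))) (.lin 3))) (.wt 3)) (.lin 11)) (.split 5 (-58) (.split 3 (-84) (.lin 11)
    (.split 6 30 (.split 3 (-75) (.lin 11) cert5_139_6) (.split 2 (-152) (.splitN 383301 (.split
    2 (-2129) (.div 2) (.split 5 (-2057) (.lin 0) (.splitN 357586 (.split 1 (-24) (.split 7 387
    (.split 2 (-441) (.lin 2) (.split 5 (-365) (.lin 0) (.splitN 272569 (.split 7 257 (.split 2
    (-306) (.lin 2) (.split 2 (-288) (.lin 9) (.split 5 (-212) (.lin 0) (.splitN 225359 (.split 1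
    (-30) (.split 3 (-74) (.split 7 201 (.split 5 (-149) (.lin 6) (.splitN 191730 (.split 7 162
    (.split 2 (-207) (.lin 2) (.split 0 151 (.split 5 (-122) (.lin 0) (.split 5 (-113) (.lin 4)
    (.splitN 165192 (.split 0 145 (.split 2 (-189) (.lin 3) (.split 1 (-39) (.split 5 (-95) (.lin
    0) (.split 3 (-83) (.splitN 148961 (.split 0 113 (.split 2 (-153) (.lin 3) (.split 5 (-59)
    (.lin 0) (.split 7 116 (.splitN 145966 (.wt 0) (.wt 0)) (.lin 1)))) (.wt 0)) (.wt 6)) (.lin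
    11))) (.wt 0))) (.wt 0)) (.wt 6)))) (.lin 12))) (.wt 0)) (.wt 6))) (.wt 0)) (.lin 11)) (.wt
    0)) (.wt 6))))) (.wt 0)) (.wt 6)))) (.wt 0)) (.wt 0)) (.wt 6)))) (.wt 6)) (.lin 3)))) (.lin
    4))) (.split 2 (-161) (.splitN 2344913 (.split 2 (-13019) (.div 2) (.split 0 12958 (.split 5
    (-12938) (.lin 0) (.split 3 (-12981) (.lin 7) (.split 7 12968 (.splitN 2101946 (.split 2
    (-11669) (.div 2) (.split 7 11618 (.split 1 (-27) (.splitN 540598 (.split 2 (-2993) (.div 2)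
    (.split 0 2932 (.split 5 (-2903) (.lin 0) (.split 3 (-2955) (.lin 7) (.split 7 2942 (.splitN
    496932 (.split 2 (-2759) (.div 2) (.split 5 (-2669) (.lin 0) (.split 7 2708 (.split 3 (-87)
    (.split 1 (-47) (.splitN 312916 (.split 0 509 (.split 2 (-558) (.lin 3) (.split 1 (-480)
    (.lin 0) (.split 5 (-455) (.lin 0) (.split 3 (-525) (.lin 7) (.split 7 512 (.split 3 (-95)
    (.split 1 (-56) (.splitN 220914 (.split 5 (-26) (.split 0 402 (.split 2 (-450) (.lin 3)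
    (.split 1 (-363) (.lin 0) (.split 5 (-338) (.lin 0) (.split 3 (-408) (.lin 7) (.split 7 404
    (.splitN 204718 (.split 2 (-401) .sq (.split 5 (-284) (.lin 0) (.split 7 350 (.split 3 (-102)
    (.split 1 (-65) (.splitN 186478 (.split 2 (-376) .sq (.split 0 313 (.split 3 (-327) (.lin 7)
    (.split 5 (-32) (.split 7 219 (.split 3 (-210) (.lin 6) (.split 1 (-165) (.lin 8) (.split 2
    (-261) (.lin 9) (.split 5 (-140) (.lin 0) (.split 0 159 (.split 2 (-207) (.lin 3) (.split 1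
    (-111) (.lin 0) (.split 5 (-86) (.lin 0) (.split 3 (-156) (.lin 7) (.wt 2))))) (.wt 2))))))
    (.split 2 (-269) (.split 0 213 (.lin 12) .sq) (.lin 9))) (.wt 2))) (.lin 3))) (.wt 1)) (.lin
    11)) (.wt 2)) (.lin 9)))) (.wt 1)) (.lin 9)))))) .sq) (.wt 2)) (.wt 1)) (.lin 11)) (.wt 2))
    (.lin 9)))))) .sq) (.wt 1)) (.lin 11)) (.wt 2)) (.lin 9)))) (.wt 1)) (.lin 9)))) (.lin 3)))
    (.wt 1)) (.wt 2)) (.lin 9))) (.wt 1)) (.lin 9)))) (.lin 3))) (.wt 1)) (.lin 3)))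

def cert5_139_8 : Cert :=
  (.split 5 (-16) (.split 2 (-80) (.split 0 42 (.lin 4) (.split 7 52 (.lin 8) (.split 6 265
    (.split 6 82 (.split 6 45 (.split 7 114 (.split 3 (-120) (.lin 6) (.split 1 (-75) (.lin 8)
    (.split 2 (-153) (.lin 9) (.split 0 97 (.split 5 (-95) (.lin 0) (.split 5 (-77) (.lin 4)
    (.split 6 35 (.split 2 (-144) (.lin 3) (.split 3 (-111) (.lin 6) (.split 6 30 (.splitN 472029
    (.split 0 52 (.wt 2) (.split 2 (-98) (.split 1 (-29) (.split 3 (-56) (.wt 2) (.lin 11))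
    (.split 5 (-40) (.split 3 (-48) (.lin 11) (.split 0 71 (.wt 2) (.split 2 (-116) (.split 5
    (-58) (.split 0 83 (.wt 2) (.split 2 (-125) (.split 5 (-67) (.split 7 97 (.lin 2) (.splitN
    343274 (.wt 1) .cand)) (.lin 0)) (.lin 3))) (.lin 0)) (.lin 3)))) (.lin 0))) (.lin 3))) (.wt
    3)) (.split 3 (-56) (.split 1 (-39) (.split 2 (-116) (.split 3 (-83) (.splitN 146078 .cand
    (.wt 0)) (.lin 11)) (.lin 0)) (.split 3 (-75) (.lin 11) (.split 7 80 (.split 2 (-117) (.lin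
    9) (.split 5 (-50) (.lin 0) (.splitN 180786 .cand (.wt 1)))) (.split 2 (-107) (.split 0 60
    (.lin 3) (.split 2 (-125) (.split 0 78 (.lin 12) (.splitN 172365 (.split 1 (-27) (.split 5
    (-68) (.lin 0) (.split 0 86 (.split 2 (-126) (.lin 3) (.split 5 (-50) (.lin 0) (.wt 2))) (.wt
    2))) (.wt 0)) (.wt 6))) (.lin 9))) (.lin 2))))) (.lin 11))))) (.split 2 (-98) (.split 1 (-39)
    (.split 2 (-125) (.split 0 69 (.lin 3) (.split 5 (-50) (.lin 0) (.split 7 79 (.lin 8)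
    (.splitN 108321 (.split 0 77 (.split 2 (-126) (.lin 3) (.split 1 (-48) (.lin 0) (.split 3
    (-93) (.lin 1) (.wt 0)))) (.wt 2)) (.wt 1))))) (.lin 0)) (.split 3 (-84) (.lin 11) (.split 0
    68 (.split 2 (-117) (.lin 3) (.split 5 (-41) (.lin 0) (.split 0 57 (.split 2 (-108) (.lin 3)
    (.split 1 (-30) (.lin 0) (.split 5 (-32) (.lin 0) (.split 3 (-75) (.lin 7) (.splitN 77688
    (.wt 0) (.wt 6)))))) (.wt 2)))) (.wt 2)))) (.lin 0))))) (.lin 12))))) (.split 2 (-143)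
    (.split 0 105 (.lin 12) cert5_139_7) (.lin 9))) (.split 7 245 (.split 3 (-291) (.lin 6)
    (.split 1 (-210) (.lin 8) (.split 2 (-324) (.lin 9) (.split 5 (-239) (.lin 0) (.split 7 113
    (.split 3 (-156) (.lin 6) (.split 1 (-75) (.lin 8) (.split 0 97 (.split 5 (-77) (.lin 4)
    (.split 0 87 (.split 1 (-57) (.lin 4) (.split 5 (-59) (.lin 4) (.split 3 (-138) (.lin 7)
    (.split 0 68 (.split 2 (-153) (.lin 3) (.split 1 (-39) (.lin 4) (.split 5 (-41) (.lin 4)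
    (.split 3 (-120) (.lin 7) (.split 7 71 (.splitN 98785 (.split 1 (-21) (.split 0 51 (.lin 4)
    (.split 5 (-32) (.lin 4) (.split 7 61 (.lin 8) (.splitN 88256 (.wt 0) (.wt 1))))) (.wt 0))
    (.wt 6)) (.lin 12)))))) (.wt 2))))) (.wt 2))) (.lin 12)))) (.split 0 105 (.lin 12) (.wt
    2))))))) (.split 0 240 (.lin 12) (.wt 2)))) (.split 2 (-143) (.splitN 340251 (.split 0 9380
    (.split 2 (-9648) (.lin 3) (.split 1 (-9525) (.lin 0) (.split 2 (-1877) (.div 2) (.split 0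
    1771 (.split 5 (-1751) (.lin 0) (.split 3 (-2010) (.lin 7) (.split 7 1781 (.splitN 303316
    (.split 2 (-1679) (.div 2) (.split 5 (-1553) (.lin 0) (.split 3 (-1641) (.lin 10) (.split 0
    86 (.split 1 (-57) (.lin 4) (.split 5 (-59) (.lin 4) (.split 3 (-318) (.lin 7) (.wt 2))))
    (.wt 2))))) (.wt 1)) (.lin 9)))) (.lin 3))))) (.div 0)) (.wt 1)) (.lin 0))) (.wt 2)))) (.lin
    0)) (.split 6 164 (.split 6 64 (.split 5 (-8) (.split 2 (-71) (.split 0 33 (.lin 4) (.split 7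
    43 (.lin 8) (.split 6 44 (.split 7 96 (.split 3 (-111) (.lin 6) (.splitN 190829 .cand (.wt
    1))) (.split 1 (-74) (.split 2 (-125) (.split 0 87 (.lin 12) (.splitN 216210 (.split 1
    (-2385) (.div 1) (.split 2 (-2448) (.lin 0) (.split 0 2410 (.split 3 (-2442) (.lin 7) (.split
    2 (-1193) (.div 2) (.split 0 1150 (.split 3 (-1182) (.lin 7) (.split 7 1178 (.splitN 196358
    .cand (.wt 1)) (.lin 6))) (.lin 3)))) (.lin 3)))) (.wt 1))) (.lin 9)) (.lin 8))) (.split 2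
    (-98) (.splitN 159211 (.split 2 (-869) (.div 2) (.split 0 799 (.split 3 (-849) (.lin 7)
    (.split 0 66 (.split 1 (-48) (.lin 4) (.split 3 (-111) (.lin 7) (.splitN 50159 (.wt 0) (.wt
    6)))) (.wt 2))) (.lin 3))) (.wt 1)) (.lin 0))))) (.lin 0)) (.splitN 74994 (.split 2 (-401)
    (.div 2) (.split 0 358 (.split 3 (-417) (.lin 7) (.split 0 46 (.split 2 (-117) (.lin 3)
    (.split 3 (-120) (.lin 1) (.split 1 (-39) (.lin 4) (.split 3 (-102) (.lin 7) (.splitN 41742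
    (.split 0 41 (.split 1 (-30) (.lin 4) (.split 3 (-93) (.lin 7) (.splitN 34615 (.wt 0) (.wt
    6)))) (.wt 0)) (.wt 6)))))) (.wt 2))) (.lin 3))) (.wt 1))) (.split 2 (-107) (.splitN 146627
    (.split 1 (-1629) (.div 1) (.split 2 (-815) (.div 2) (.split 1 (-723) (.lin 0) (.split 0 727
    (.split 3 (-885) (.lin 7) (.split 7 746 (.splitN 132452 (.split 2 (-725) (.div 2) (.split 3
    (-705) (.lin 10) (.split 0 51 (.split 2 (-216) (.lin 3) (.split 3 (-219) (.lin 1) (.split 1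
    (-39) (.lin 4) (.split 3 (-201) (.lin 7) (.split 7 62 (.split 7 53 (.splitN 37670 (.wt 0)
    (.splitN 63733 (.split 5 (-5) (.split 0 33 (.lin 4) (.split 1 (-30) (.lin 8) (.split 7 43
    (.lin 8) (.wt 0)))) (.wt 1)) (.wt 1))) (.lin 12)) (.lin 8)))))) (.wt 2)))) (.wt 1)) (.lin
    8))) (.lin 3))))) (.wt 1)) (.lin 0))) (.split 2 (-206) (.split 3 (-182) (.splitN 106847 .sq
    (.wt 1)) (.lin 6)) (.lin 0))))

def cert5_139_9 : Cert :=
  (.splitN 50848 (.wt 1) (.split 7 114 (.split 2 (-189) (.lin 1) (.split 2 (-153) (.lin 9)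
    (.split 4 (-93) (.lin 0) (.split 4 (-75) (.lin 8) (.split 6 35 (.split 2 (-144) (.lin 9)
    (.split 3 (-48) (.lin 11) (.split 6 30 (.split 2 (-135) (.lin 9) (.split 3 (-39) (.lin 11)
    (.split 0 41 (.wt 2) (.split 5 (-31) (.split 0 47 (.wt 2) (.split 2 (-98) (.split 7 70 (.lin
    2) (.split 4 (-57) (.lin 3) (.split 5 (-40) (.splitN 118145 (.wt 1) (.split 4 (-47) (.wt 0)
    (.split 0 52 (.wt 2) (.split 2 (-107) (.split 7 79 (.lin 2) (.split 5 (-49) (.splitN 151180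
    (.wt 1) (.split 4 (-35) (.wt 0) (.split 2 (-126) (.lin 0) (.split 7 98 (.splitN 169993 (.wt
    1) (.split 4 (-29) (.wt 0) (.splitN 222196 (.wt 1) (.split 0 67 (.split 2 (-108) (.lin 3)
    (.split 7 80 (.wt 0) (.lin 1))) (.wt 2))))) (.lin 2))))) (.lin 4))) (.lin 3))))) (.lin 4))))
    (.lin 3))) (.lin 4))))) (.split 3 (-47) (.splitN 247615 .cand (.wt 1)) (.lin 11))))) (.split
    0 58 (.split 5 (-41) (.lin 4) (.split 4 (-21) (.split 2 (-107) (.split 7 61 (.lin 2) (.split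
    0 47 (.split 5 (-32) (.lin 4) (.split 7 84 (.split 2 (-126) (.lin 9) (.split 4 (-48) (.lin 0)
    (.split 0 39 (.split 5 (-23) (.lin 4) (.splitN 80388 (.split 4 (-36) (.split 2 (-116) (.split
    7 70 (.lin 1) (.wt 2)) (.lin 0)) (.wt 0)) (.wt 6))) (.wt 2)))) (.split 0 38 (.split 5 (-23)
    (.lin 4) (.splitN 83305 (.split 4 (-68) (.split 2 (-152) (.split 7 106 (.lin 1) (.wt 0))
    (.lin 0)) (.wt 0)) (.wt 6))) (.wt 2)))) (.wt 2))) (.lin 0)) (.wt 2))) (.wt 2))))))) (.split 2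
    (-107) (.split 2 (-143) (.split 4 (-47) (.split 6 35 (.split 3 (-48) (.lin 11) (.split 6 30
    (.splitN 1744749 (.split 2 (-9689) (.div 2) (.split 7 9692 (.splitN 1531987 (.split 2 (-8501)
    (.div 2) (.split 7 8504 (.splitN 689387 (.split 2 (-3821) (.div 2) (.split 7 3824 (.split 0
    47 (.wt 2) (.split 5 (-40) (.splitN 249381 (.wt 6) (.split 4 (-93) (.wt 0) (.split 2 (-189)
    (.lin 0) (.split 7 179 (.wt 0) (.lin 1))))) (.lin 4))) (.lin 1))) (.wt 3)) (.lin 1))) (.wt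
    0)) (.lin 1))) (.wt 0)) (.split 2 (-152) (.split 3 (-47) (.splitN 391635 (.split 2 (-2165)
    (.div 2) (.split 7 2159 (.splitN 362633 (.split 2 (-583) .sq (.split 7 539 (.splitN 296612
    (.split 2 (-525) .sq (.split 4 (-453) (.lin 0) (.split 7 485 (.split 0 52 (.split 4 (-65)
    (.split 5 (-41) (.lin 4) (.splitN 214303 .cand (.wt 1))) (.lin 3)) (.split 4 (-426) (.lin 3)
    (.split 5 (-49) (.splitN 154231 (.split 7 312 (.split 2 (-351) (.lin 1) (.split 4 (-255)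
    (.lin 0) (.splitN 143416 (.split 4 (-57) (.split 2 (-161) (.split 7 124 (.lin 2) (.split 7
    232 (.split 4 (-165) (.lin 6) (.splitN 126692 (.split 4 (-90) (.split 2 (-188) (.split 7 151
    (.lin 2) (.wt 2)) (.lin 0)) (.wt 0)) (.wt 6))) (.wt 0))) (.lin 0)) (.wt 0)) (.wt 6)))) (.wt
    0)) (.wt 6)) (.lin 4)))) (.lin 2)))) (.wt 1)) (.lin 2))) (.wt 1)) (.lin 1))) (.wt 1)) (.lin
    11)) (.lin 9)))) (.split 2 (-161) (.split 3 (-56) (.splitN 235516 (.split 2 (-1301) (.div 2)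
    (.split 4 (-1218) (.lin 0) (.split 7 1286 (.splitN 217919 (.split 2 (-1211) (.div 2) (.split
    7 1196 (.split 0 49 (.split 4 (-74) (.split 5 (-32) (.lin 4) (.splitN 150979 (.split 2 (-833)
    (.div 2) (.split 7 791 (.split 0 41 (.split 4 (-83) (.split 5 (-23) (.lin 4) (.splitN 123378
    (.split 2 (-671) (.div 2) (.split 4 (-588) (.lin 0) (.splitN 106199 (.split 2 (-581) (.div 2)
    (.split 4 (-498) (.lin 0) (.split 7 271 (.split 2 (-315) (.lin 1) (.split 4 (-237) (.lin 0)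
    (.splitN 98056 (.split 7 190 (.split 2 (-234) (.lin 1) (.split 4 (-156) (.lin 0) (.splitN
    91897 (.split 4 (-84) (.split 2 (-170) (.split 7 124 (.lin 1) (.split 4 (-101) (.split 2
    (-179) (.split 7 133 (.lin 1) (.wt 2)) (.lin 0)) (.wt 0))) (.lin 0)) (.wt 0)) (.wt 6)))) (.wt
    0)) (.wt 6)))) (.wt 0)))) (.wt 6)))) (.wt 1))) (.lin 3)) (.wt 2)) (.lin 1))) (.wt 1))) (.lin
    3)) (.wt 2)) (.lin 1))) (.wt 1)) (.lin 1)))) (.wt 1)) (.lin 11)) (.lin 9))) (.lin 8)) (.lin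
    9)) (.lin 1))))

def cert5_139_10 : Cert :=
  (.split 6 30 (.split 3 (-39) (.lin 11) (.splitN 3902606 (.split 2 (-21677) (.div 2) (.split 5
    (-21578) (.lin 0) (.split 7 21644 (.splitN 3562676 (.split 2 (-19787) (.div 2) (.split 5
    (-19688) (.lin 0) (.split 7 19754 (.splitN 125647 (.wt 1) (.split 0 79 (.wt 2) (.split 2
    (-170) (.split 7 142 (.lin 2) (.split 5 (-76) (.splitN 2309572 (.split 2 (-12821) (.div 2)
    (.split 7 12788 (.split 0 1499 (.split 5 (-1481) (.lin 4) (.splitN 1999118 (.split 2 (-1400)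
    .sq (.split 5 (-1301) (.lin 0) (.split 7 1367 (.splitN 1255431 (.split 2 (-1103) .sq (.split
    5 (-1004) (.lin 0) (.split 7 1070 (.splitN 1103542 (.split 2 (-1032) .sq (.split 5 (-932)
    (.lin 0) (.split 7 998 (.split 0 288 (.split 5 (-275) (.lin 4) (.splitN 854832 (.split 2
    (-902) .sq (.split 7 872 (.split 0 88 (.wt 2) (.split 2 (-179) (.split 7 151 (.lin 2) (.split
    5 (-85) (.splitN 737249 (.split 2 (-832) .sq (.split 7 800 (.split 7 348 (.split 2 (-369)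
    (.lin 9) (.split 4 (-246) (.lin 0) (.split 0 102 (.wt 2) (.split 5 (-94) (.split 7 160 (.lin
    6) (.splitN 160389 (.wt 1) (.split 4 (-118) (.split 2 (-251) (.split 0 223 (.split 5 (-212)
    (.lin 0) (.splitN 275889 (.split 0 156 (.wt 2) (.split 5 (-148) (.split 0 183 (.wt 2) (.split
    2 (-332) (.split 7 304 (.lin 2) (.split 5 (-175) .sq (.lin 4))) (.lin 3))) (.lin 4))) (.wt
    3))) (.lin 3)) (.lin 0)) (.split 0 196 (.split 2 (-333) (.lin 3) (.split 7 305 (.split 5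
    (-185) (.lin 4) (.split 0 108 (.wt 2) (.split 2 (-197) (.split 4 (-83) (.splitN 315589 .cand
    (.wt 1)) (.split 2 (-297) (.lin 0) (.split 7 269 (.splitN 352559 .cand (.wt 1)) (.lin 2))))
    (.lin 3)))) (.lin 2))) (.split 2 (-287) (.split 7 259 (.lin 2) (.split 5 (-193) (.splitN
    311056 (.split 4 (-75) (.split 2 (-314) (.split 5 (-248) (.lin 0) (.split 7 286 (.lin 2)
    (.splitN 269369 .sq (.split 0 216 (.split 5 (-203) (.lin 4) (.wt 6)) (.wt 2))))) (.lin 0))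
    (.wt 0)) (.wt 6)) (.lin 4))) (.lin 3)))))) (.lin 4))))) (.split 2 (-377) (.split 4 (-65)
    (.splitN 287729 .sq (.split 4 (-407) (.wt 3) (.split 2 (-711) (.lin 0) (.split 7 683 (.split
    4 (-312) (.wt 3) (.split 2 (-621) (.lin 0) (.split 7 593 (.split 4 (-251) (.wt 3) (.split 2
    (-558) (.lin 0) (.split 7 530 (.split 4 (-214) (.wt 3) (.split 2 (-522) (.lin 0) (.split 0
    141 (.lin 3) (.split 5 (-130) (.split 7 494 (.splitN 308159 .sq (.split 4 (-176) (.wt 1)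
    (.split 2 (-486) (.lin 0) (.split 0 177 (.lin 3) (.split 5 (-166) (.split 7 458 (.splitN
    330335 .sq (.splitN 382655 (.split 4 (-72) (.splitN 359931 (.split 4 (-75) (.split 4 (-154)
    (.wt 0) (.split 2 (-459) (.lin 0) (.split 0 204 (.lin 3) (.split 5 (-193) (.split 7 431
    (.splitN 353033 .sq (.wt 1)) (.lin 2)) (.lin 0))))) (.wt 0)) (.wt 1)) (.wt 0)) (.wt 1)))
    (.lin 2)) (.lin 0)))))) (.lin 2)) (.lin 0))))) (.lin 2)))) (.lin 2)))) (.lin 2))))) (.lin 0))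
    (.lin 2))) (.lin 2))) (.wt 1)) (.lin 4))) (.lin 3))) (.lin 2))) (.wt 1))) (.split 2 (-377)
    (.split 7 349 (.lin 2) (.split 4 (-705) (.lin 3) (.split 5 (-283) (.splitN 439180 (.split 4
    (-82) (.split 2 (-404) (.split 7 376 (.lin 2) .sq) (.lin 0)) (.wt 0)) (.wt 6)) (.lin 4))))
    (.lin 3))) (.lin 2)))) (.wt 1)) (.lin 2)))) (.wt 1)) (.lin 2)))) (.wt 1))) .sq) (.lin 2)))
    (.wt 1)) (.lin 4))) (.lin 3)))) (.lin 2)))) (.wt 1)) (.lin 2)))) (.wt 1))) (.split 3 (-47)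
    (.splitN 312831 (.split 2 (-1733) (.div 2) (.split 4 (-1614) (.lin 0) (.split 5 (-1625) (.lin
    0) (.split 7 1691 (.splitN 284767 (.split 2 (-1571) (.div 2) (.split 5 (-1463) (.lin 0)
    (.splitN 196090 (.split 2 (-1085) (.div 2) (.split 4 (-966) (.lin 0) (.split 5 (-977) (.lin
    0) (.split 0 493 (.split 5 (-482) (.lin 4) (.splitN 174062 (.split 2 (-959) (.div 2) (.split
    4 (-840) (.lin 0) (.split 0 252 (.split 5 (-239) (.lin 4) (.splitN 151240 (.split 0 152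
    (.split 5 (-140) (.lin 4) (.splitN 127688 (.split 0 99 (.split 5 (-86) (.lin 4) (.wt 2)) (.wt
    0)) (.wt 6))) (.wt 0)) (.wt 6))) (.wt 0)))) (.wt 6))) (.wt 0))))) (.wt 6)))) (.wt 1)) (.lin
    2))))) (.wt 1)) (.lin 11)))

def cert5_139_11 : Cert :=
  (.split 6 83 (.split 3 (-93) (.lin 11) (.split 6 45 (.split 3 (-57) (.lin 11) (.split 0 76
    (.split 5 (-59) (.lin 4) cert5_139_9) (.split 2 (-125) (.split 5 (-67) (.split 7 97 (.lin 8)
    (.split 6 41 (.split 3 (-48) (.lin 11) (.split 4 (-48) (.split 2 (-161) (.split 7 133 (.lin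
    8) cert5_139_10) (.lin 0)) (.split 6 33 (.split 3 (-39) (.lin 11) (.splitN 136941 (.wt 1)
    (.split 0 333 (.split 5 (-320) (.lin 4) (.split 0 266 (.split 5 (-248) (.lin 4) (.split 4
    (-34) (.split 2 (-143) (.split 7 115 (.lin 2) (.split 0 198 (.split 2 (-270) (.lin 3) (.split
    5 (-194) (.lin 0) (.split 7 242 (.split 0 80 (.wt 2) (.split 2 (-152) (.split 7 124 (.lin 2)
    (.split 0 174 (.split 5 (-158) (.lin 4) (.split 0 166 (.split 5 (-149) (.lin 4) (.split 7 170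
    (.split 2 (-198) (.lin 2) (.split 5 (-122) (.lin 0) (.splitN 337003 .cand (.wt 1)))) (.split
    2 (-206) (.split 0 132 (.lin 3) (.wt 2)) (.lin 2)))) (.wt 2))) (.wt 2))) (.lin 3))) (.lin
    2)))) (.wt 2))) (.lin 0)) (.split 0 122 (.split 2 (-171) (.lin 3) (.split 5 (-113) (.lin 0)
    (.split 5 (-104) (.lin 4) (.split 0 104 (.split 2 (-153) (.lin 3) (.split 7 125 (.split 5
    (-86) (.lin 4) (.split 4 (-23) (.split 0 80 (.wt 2) (.split 2 (-143) (.split 5 (-76) (.split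
    7 115 (.lin 2) (.split 0 89 (.split 2 (-144) (.lin 3) (.split 5 (-77) (.lin 0) (.split 7 116
    (.splitN 260851 (.wt 0) (.wt 0)) (.lin 1)))) (.wt 2))) (.lin 0)) (.lin 3))) (.wt 2))) (.lin
    2))) (.wt 2))))) (.wt 2)))) (.wt 2))) (.wt 2)))) (.wt 2)))) (.wt 2))) (.lin 4)) (.lin 3))))
    (.split 2 (-107) (.split 3 (-65) (.splitN 1399222 (.split 2 (-7763) (.div 2) (.split 5
    (-7673) (.lin 0) (.split 7 7703 (.splitN 1276487 (.split 2 (-7079) (.div 2) (.split 7 7019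
    (.split 0 118 (.split 5 (-104) (.lin 4) (.splitN 612137 (.split 2 (-3389) (.div 2) (.split 4
    (-3297) (.lin 0) (.split 7 3410 (.split 0 92 (.split 5 (-77) (.lin 4) (.splitN 498933 (.split
    2 (-2759) (.div 2) (.split 7 2753 (.split 0 85 (.split 5 (-68) (.lin 4) (.splitN 456416
    (.split 2 (-666) .sq (.split 4 (-579) (.lin 0) (.split 7 611 (.splitN 363310 (.split 2 (-591)
    .sq (.split 4 (-498) (.lin 0) (.split 7 530 (.split 7 167 (.split 2 (-243) (.lin 9) (.split 4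
    (-156) (.lin 0) (.split 4 (-129) (.lin 8) (.split 0 69 (.split 5 (-50) (.lin 4) (.split 4
    (-51) (.split 7 88 (.lin 8) (.split 0 47 (.split 5 (-32) (.lin 4) (.split 0 42 (.split 5
    (-23) (.lin 4) (.split 3 (-74) (.split 6 61 (.lin 7) (.wt 2)) (.wt 2))) (.wt 2))) (.wt 2)))
    (.split 0 49 (.split 5 (-32) (.lin 4) (.split 4 (-24) (.split 7 61 (.lin 8) (.split 0 40
    (.split 5 (-23) (.lin 4) (.splitN 79609 (.split 4 (-32) (.split 7 70 (.lin 8) (.splitN 73681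
    (.wt 0) (.wt 6))) (.wt 0)) (.wt 6))) (.wt 2))) (.wt 2))) (.wt 2)))) (.wt 2))))) (.split 2
    (-224) (.split 0 46 (.split 5 (-32) (.lin 4) (.split 4 (-128) (.splitN 104255 .sq (.split 6
    66 (.split 3 (-75) (.lin 11) (.splitN 108601 (.split 0 42 (.split 5 (-23) (.lin 4) (.split 4
    (-137) (.wt 1) (.lin 8))) (.wt 0)) (.wt 6))) (.wt 1))) (.lin 8))) (.wt 2)) (.lin 9))) (.lin
    2)))) (.wt 1)) (.lin 2)))) (.wt 1))) (.wt 2)) (.lin 1))) (.wt 1))) (.wt 2)) (.lin 1)))) (.wt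
    1))) (.wt 2)) (.lin 2))) (.wt 1)) (.lin 2)))) (.wt 1)) (.lin 11)) (.lin 0)))) (.split 2
    (-143) (.split 3 (-101) (.splitN 376972 (.split 2 (-2093) (.div 2) (.split 5 (-1967) (.lin 0)
    (.split 7 1997 (.splitN 342660 (.split 2 (-1895) (.div 2) (.split 4 (-1767) (.lin 0) (.split
    5 (-1769) (.lin 0) (.split 0 69 (.split 5 (-50) (.lin 4) (.splitN 212881 (.split 2 (-1175)
    (.div 2) (.split 4 (-1047) (.lin 0) (.split 7 1106 (.split 0 51 (.split 5 (-32) (.lin 4)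
    (.splitN 169606 (.split 2 (-941) (.div 2) (.split 4 (-813) (.lin 0) (.splitN 107968 (.split 2
    (-599) (.div 2) (.split 4 (-471) (.lin 0) (.split 7 331 (.split 4 (-291) (.lin 8) (.splitN
    100541 (.split 7 215 (.split 4 (-183) (.lin 8) (.splitN 94538 (.split 4 (-22) (.split 7 61
    (.lin 8) (.splitN 85833 (.split 4 (-30) (.split 7 70 (.lin 8) (.splitN 80299 (.split 4 (-44)
    (.split 7 79 (.lin 8) (.split 4 (-56) (.split 7 88 (.lin 8) (.splitN 73656 (.split 0 36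
    (.split 5 (-23) (.lin 4) (.wt 2)) (.wt 0)) (.wt 6))) (.wt 0))) (.wt 0)) (.wt 6))) (.wt 0))
    (.wt 6))) (.wt 0)) (.wt 6))) (.wt 0)) (.wt 6))) (.wt 0)))) (.wt 6)))) (.wt 1))) (.wt 2))
    (.lin 1)))) (.wt 1))) (.wt 2))))) (.wt 1)) (.lin 2)))) (.wt 1)) (.lin 11)) (.lin 0)))

def cert5_139_12 : Cert :=
  (.split 4 (-12) (.split 2 (-35) (.split 7 25 (.lin 8) (.splitN 15859 (.wt 1) (.split 6 24
    (.split 3 (-30) (.lin 11) (.split 1 (-5) (.split 3 (-20) (.split 6 9 (.wt 2) (.split 3 (-29)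
    (.split 0 18 (.wt 2) (.split 5 (-13) (.split 0 90 (.wt 2) (.split 5 (-85) (.wt 2) (.lin 4)))
    (.lin 4))) (.lin 11))) (.lin 11)) (.wt 3))) (.split 2 (-53) (.split 3 (-29) (.split 1 (-5)
    (.split 2 (-62) (.split 0 15 (.lin 4) (.split 7 34 (.lin 8) (.split 3 (-38) (.split 5 (-16)
    (.split 2 (-80) (.split 0 33 (.lin 4) (.split 7 52 (.lin 8) (.split 6 271 (.split 3 (-282)
    (.lin 11) cert5_139_11) (.split 2 (-332) (.split 3 (-290) (.splitN 276578 .sq (.wt 1)) (.lin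
    11)) (.lin 0))))) (.lin 0)) (.split 0 25 (.split 6 60 (.split 3 (-66) (.lin 11) (.split 5
    (-8) (.split 2 (-71) (.split 0 24 (.lin 4) (.split 7 43 (.lin 8) (.splitN 44111 (.wt 1)
    (.split 6 26 (.wt 2) (.split 2 (-80) (.split 3 (-47) (.splitN 299732 (.split 2 (-1661) (.div
    2) (.split 7 1619 (.splitN 277112 (.split 2 (-520) .sq (.split 7 476 (.splitN 234599 .cand
    (.wt 1)) (.lin 1))) (.wt 1)) (.lin 1))) (.wt 1)) (.lin 7)) (.lin 0)))))) (.lin 0)) (.split 0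
    16 (.splitN 79680 .cand (.wt 1)) (.lin 4)))) (.split 2 (-98) (.split 3 (-74) (.splitN 277796
    (.split 2 (-1535) (.div 2) (.split 3 (-1515) (.lin 1) (.split 7 1475 (.splitN 251795 (.split
    2 (-489) .sq (.split 4 (-408) (.lin 0) (.split 3 (-471) (.lin 1) (.split 7 431 (.splitN
    205876 (.splitN 26907 (.wt 3) (.split 2 (-440) .sq (.split 4 (-354) (.lin 0) (.split 3 (-417)
    (.lin 1) (.split 7 377 (.split 5 (-8) (.split 2 (-107) (.split 0 24 (.lin 4) (.split 7 43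
    (.lin 8) (.split 6 191 (.split 3 (-201) (.lin 7) (.split 6 148 (.split 3 (-156) (.lin 7)
    (.split 6 131 (.split 3 (-138) (.lin 7) (.split 4 (-21) (.split 7 52 (.lin 8) (.split 6 104
    (.split 3 (-111) (.lin 7) (.split 4 (-31) (.split 7 61 (.lin 8) (.split 6 85 (.split 3 (-93)
    (.lin 7) (.splitN 86965 (.split 7 286 (.split 2 (-360) (.lin 1) (.split 4 (-255) (.lin 8)
    (.split 7 259 (.split 4 (-228) (.lin 8) (.split 4 (-48) (.split 7 79 (.lin 8) (.splitN 74498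
    (.split 7 148 (.split 2 (-225) (.lin 1) (.split 4 (-138) (.lin 0) (.split 4 (-120) (.lin 8)
    (.splitN 68226 (.split 4 (-59) (.split 7 88 (.lin 8) (.split 4 (-78) (.split 7 106 (.lin 8)
    (.wt 0)) (.wt 0))) (.wt 0)) (.wt 6))))) (.wt 0)) (.wt 6))) (.wt 2))) (.wt 0)))) (.wt 0)) (.wt
    6))) (.wt 2))) (.wt 2))) (.wt 2))) (.wt 2))) (.wt 2))) (.wt 2))) (.wt 2)))) (.lin 0)) (.split
    0 16 (.splitN 49268 (.split 2 (-257) (.div 2) (.split 3 (-228) (.lin 1) (.wt 6))) (.wt 1))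
    (.lin 4))) (.lin 1)))))) (.wt 1)) (.lin 1))))) (.wt 1)) (.lin 1)))) (.wt 1)) (.lin 11)) (.lin
    0))) (.lin 4))) (.lin 11)))) (.lin 0)) (.wt 0)) (.lin 11)) (.lin 0))))) (.lin 0)) (.split 6
    24 (.split 3 (-30) (.lin 11) (.split 1 (-5) (.split 0 15 (.lin 4) (.split 7 16 (.lin 8)
    (.split 3 (-20) (.split 4 (-5) (.split 2 (-35) (.split 7 25 (.lin 8) (.split 6 8 (.wt 2)
    (.split 3 (-29) (.split 5 (-97) (.wt 6) (.split 2 (-135) (.lin 0) (.split 0 106 (.split 7 116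
    (.splitN 37224 (.wt 1) (.split 5 (-25) (.wt 2) (.split 2 (-63) (.lin 0) (.split 0 34 (.split
    7 44 (.splitN 102377 (.split 5 (-12) (.wt 1) (.split 2 (-45) (.lin 0) (.split 0 16 (.split 7
    26 (.wt 0) (.lin 1)) (.lin 3)))) (.wt 5)) (.lin 2)) (.lin 3))))) (.lin 2)) (.lin 3)))) (.lin
    11)))) (.lin 0)) (.wt 0)) (.lin 11)))) (.split 3 (-21) (.lin 11) (.split 7 23 (.split 2 (-36)
    (.lin 2) (.split 0 16 (.split 7 16 (.split 4 (-3) (.lin 8) (.wt 0)) (.wt 1)) (.lin 12))) (.wt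
    0))))) (.split 2 (-35) (.split 1 (-5) (.split 2 (-44) (.split 0 15 (.lin 4) (.split 7 16
    (.lin 8) (.split 3 (-38) (.split 4 (-3) (.split 2 (-53) (.split 7 25 (.lin 8) (.split 5 (-16)
    (.split 0 33 (.lin 4) (.split 7 43 (.lin 8) (.split 6 854 (.split 3 (-867) (.lin 11) (.split
    6 482 (.split 3 (-489) (.lin 11) (.split 6 360 (.split 3 (-372) (.lin 11) (.split 6 305
    (.split 3 (-318) (.lin 11) (.split 6 275 (.split 3 (-282) (.lin 11) (.split 6 253 (.split 3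
    (-264) (.lin 11) (.split 6 241 (.split 3 (-246) (.lin 11) (.split 7 1109 (.split 2 (-1341)
    (.lin 2) (.split 0 1096 (.split 5 (-1292) (.lin 0) (.split 5 (-1085) (.lin 4) (.split 6 54
    (.split 3 (-66) (.lin 11) (.split 7 151 (.split 2 (-198) (.lin 2) (.split 5 (-149) (.lin 0)
    (.split 6 38 (.split 3 (-48) (.lin 11) (.split 7 100 (.split 0 88 (.split 5 (-77) (.lin 4)
    (.split 0 66 (.split 2 (-108) (.lin 3) (.split 6 31 (.split 3 (-39) (.lin 11) (.splitN 157305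
    (.wt 3) (.split 0 43 (.split 2 (-81) (.lin 3) (.split 5 (-32) (.lin 0) (.split 0 40 (.split 2
    (-72) (.lin 3) (.split 7 44 (.wt 0) (.lin 1))) (.wt 2)))) (.wt 2)))) (.wt 2))) (.wt 2)))
    (.lin 12)) (.wt 0))) (.wt 2)))) (.wt 0))) (.wt 2)))) (.lin 12))) (.wt 0))) (.wt 0))) (.wt
    0))) (.wt 0))) (.wt 0))) (.wt 0))) (.wt 0))) (.wt 0)))) (.split 0 25 (.split 7 35 (.splitN
    221167 (.split 2 (-1229) (.div 2) (.split 6 1196 (.splitN 143660 (.split 2 (-797) (.div 2)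
    (.split 6 764 (.split 3 (-786) (.lin 6) (.split 2 (-375) .sq (.split 6 341 (.split 3 (-363)
    (.lin 6) (.split 6 94 (.split 3 (-111) (.lin 6) (.split 3 (-102) (.lin 11) (.split 6 48
    (.split 3 (-66) (.lin 6) (.split 3 (-57) (.lin 11) (.splitN 98615 (.split 5 (-8) (.split 0 24
    (.lin 4) (.split 7 34 (.lin 8) (.splitN 71037 (.wt 3) (.split 6 42 (.split 2 (-72) (.lin 0)
    (.split 3 (-48) (.lin 6) (.splitN 90588 (.split 6 34 (.wt 0) (.wt 0)) (.wt 3)))) (.wt 0)))))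
    (.split 0 16 (.split 7 26 (.splitN 38295 (.split 3 (-48) (.split 2 (-71) (.split 6 43 (.lin
    0) (.wt 0)) (.lin 1)) (.wt 0)) (.wt 1)) (.lin 8)) (.lin 4))) (.wt 3)))) (.splitN 36591 (.wt
    0) (.splitN 78960 (.split 5 (-5) (.split 0 24 (.lin 4) (.split 7 34 (.lin 8) (.wt 0))) (.wt
    1)) (.wt 1)))))) (.split 2 (-125) (.split 3 (-110) (.splitN 38519 .sq (.splitN 66520 (.split
    5 (-5) (.split 0 24 (.lin 4) (.split 7 34 (.lin 8) (.wt 0))) (.wt 1)) (.wt 1))) (.lin 11))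
    (.lin 0)))) (.lin 0)))) (.lin 0))) (.wt 3)) (.lin 0))) (.wt 1)) (.lin 8)) (.lin 4)))) (.lin
    0)) (.wt 0)) (.lin 11)))) (.lin 0)) (.split 4 (-4) (.split 7 16 (.lin 8) (.wt 0)) (.wt 0)))
    (.lin 0))))

def cert5_139 : Cert :=
  (.split 1 (-12) (.split 2 (-35) (.split 0 24 (.lin 4) (.split 7 25 (.lin 8) (.split 3 (-29)
    (.splitN 15419 (.wt 1) (.split 4 (-12) (.split 2 (-53) (.split 7 43 (.lin 8) (.split 6 11
    (.wt 2) (.split 2 (-62) (.split 3 (-38) (.split 6 42 cert5_139_1 (.split 2 (-89) (.split 3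
    (-65) (.splitN 1805229 (.split 2 (-10013) (.div 2) (.split 5 (-9923) (.lin 0) (.split 7 9962
    (.split 3 (-9984) (.lin 10) (.splitN 1617862 (.split 2 (-8987) (.div 2) (.split 7 8936
    (.split 0 1265 (.split 5 (-1238) (.lin 4) (.splitN 1455899 (.split 2 (-1203) .sq (.split 0
    1132 (.split 5 (-1112) (.lin 0) (.split 3 (-2280) (.lin 1) (.split 7 1151 (.split 3 (-1173)
    (.lin 10) (.splitN 900553 (.split 2 (-943) .sq (.split 5 (-851) (.lin 0) (.split 7 890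
    (.split 3 (-912) (.lin 10) (.splitN 784897 (.split 2 (-881) .sq (.split 5 (-788) (.lin 0)
    (.split 7 827 (.split 5 (-57) (.split 0 78 (.lin 4) (.split 2 (-143) (.split 7 97 (.lin 8)
    (.splitN 46619 .sq (.splitN 224956 (.split 0 428 (.split 5 (-401) (.lin 4) (.split 2 (-446)
    .sq (.split 0 376 (.split 7 395 (.split 3 (-363) (.lin 10) (.splitN 187602 (.split 2 (-400)
    .sq (.split 0 331 (.split 5 (-311) (.lin 0) (.split 7 350 (.split 3 (-318) (.lin 10) (.split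
    6 75 (.split 1 (-74) (.split 2 (-197) (.split 0 132 (.lin 4) (.split 5 (-257) (.lin 0)
    (.split 7 151 (.lin 8) (.split 3 (-119) (.splitN 104939 .sq (.wt 1)) (.lin 11))))) (.lin 0))
    (.split 3 (-138) (.lin 11) (.splitN 166386 (.split 2 (-374) .sq (.split 5 (-284) (.lin 0)
    (.split 7 323 (.split 4 (-71) (.split 2 (-197) (.split 0 250 (.split 5 (-230) (.lin 0)
    (.split 7 151 (.lin 8) (.splitN 83555 .sq (.split 1 (-53) (.wt 0) (.split 3 (-120) (.lin 11)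
    (.split 6 59 (.split 1 (-36) (.wt 0) (.split 3 (-84) (.lin 11) (.splitN 100007 (.split 1
    (-28) (.wt 3) (.split 3 (-75) (.lin 11) (.split 0 143 (.split 5 (-122) (.lin 4) (.split 6 52
    (.split 3 (-66) (.lin 11) (.splitN 93364 (.split 7 165 (.wt 0) (.split 2 (-215) .sq (.lin
    2))) (.wt 1))) (.wt 1))) .sq))) (.wt 1)))) (.wt 1))))))) (.lin 3)) (.lin 0)) cert5_139_2)
    (.lin 9)))) (.wt 1)))) (.split 2 (-179) (.split 5 (-275) (.lin 0) (.split 7 314 (.split 3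
    (-101) (.splitN 68651 .sq (.splitN 106682 (.split 2 (-261) .sq (.split 5 (-140) (.lin 0)
    (.split 7 179 (.split 3 (-183) (.lin 10) (.splitN 90883 (.split 2 (-228) .sq (.split 5 (-104)
    (.lin 0) (.split 7 143 (.split 3 (-147) (.lin 10) (.split 4 (-48) (.wt 1) (.split 1 (-27)
    (.split 5 (-95) (.lin 0) (.split 7 106 (.lin 8) (.split 3 (-110) (.splitN 74339 .sq (.wt 1))
    (.lin 11)))) (.wt 2)))) (.lin 9)))) (.wt 1))) (.lin 9)))) (.wt 1))) (.lin 11)) (.lin 9)))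
    (.lin 9)))) (.lin 9))) (.lin 3))) (.wt 1))) (.lin 9)) (.lin 3)))) .sq) (.wt 1)))) (.lin 10)))
    (.splitN 331486 (.split 2 (-568) .sq (.split 0 502 (.split 7 521 (.split 3 (-543) (.lin 10)
    (.splitN 293837 (.split 2 (-532) .sq (.split 4 (-462) (.lin 0) (.split 6 485 (.split 7 485
    (.split 3 (-507) (.lin 10) cert5_139_5) (.lin 9)) (.lin 0)))) (.wt 1))) (.lin 9)) (.lin 3)))
    (.wt 1))) (.lin 9)))) (.wt 1))) (.lin 9)))) (.wt 1))) (.lin 9)))) (.lin 3))) (.wt 1))) .sq)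
    (.lin 9))) (.wt 1))) (.lin 9)))) (.wt 1)) (.lin 11)) (.lin 0))) (.lin 11)) (.lin 0)))) (.lin
    0)) (.split 6 24 (.split 4 (-5) (.split 6 10 (.wt 2) (.split 2 (-53) (.split 3 (-38) (.split
    5 (-16) (.wt 2) (.split 5 (-8) (.splitN 490426 (.wt 6) (.split 0 74 (.wt 0) (.split 3 (-83)
    (.wt 0) (.lin 7)))) (.splitN 164158 .cand (.wt 1)))) (.lin 11)) (.lin 0))) (.wt 0)) (.split 2
    (-53) (.split 3 (-47) (.split 4 (-3) (.split 2 (-62) (.split 7 34 (.lin 8) (.splitN 26886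
    (.wt 3) cert5_139_8)) (.lin 0)) (.wt 0)) (.lin 11)) (.lin 0))))) (.lin 11)))) (.lin 0))
    cert5_139_12)

theorem check5_139 :
    check task5 cert5_139
      [(7, ⟨some (7), none⟩), (7, ⟨none, some (-2)⟩), (1, ⟨none, some (-17)⟩), (7, ⟨none, some (-11)⟩), (7, ⟨none, some (-2)⟩), (5, ⟨none, some (-4)⟩), (8, ⟨some (8), none⟩), (8, ⟨some (8), none⟩)] ⟨some (3960), none⟩ = true := by
  decide +kernel

def cert5_140_0 : Cert :=
  (.split 5 18 (.split 0 28 (.wt 2) (.split 2 (-116) (.split 1 (-38) (.split 3 (-101) (.split 5 9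
    (.wt 2) (.split 1 (-47) (.split 3 (-110) (.splitN 2939156 (.split 2 (-16313) (.div 2) (.split
    0 16225 (.split 6 16253 (.split 7 16244 (.splitN 459524 (.split 2 (-2543) (.div 2) (.split 0
    2455 (.split 6 2483 (.split 7 2474 (.splitN 399953 (.split 2 (-2219) (.div 2) (.split 0 2131
    (.split 6 2159 (.split 7 2150 (.split 0 36 (.wt 2) (.split 2 (-125) (.split 1 (-56) (.split 3
    (-119) (.split 7 61 (.lin 8) (.splitN 301573 (.split 2 (-1661) (.div 2) (.split 0 1573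
    (.split 6 1592 (.split 7 1592 (.split 6 66 (.wt 2) (.split 2 (-134) (.split 3 (-128) (.splitN
    278494 (.split 2 (-1535) (.div 2) (.split 6 1466 (.split 7 1457 (.split 0 478 (.splitN 256254
    (.split 6 72 (.wt 2) (.split 2 (-143) (.split 3 (-137) (.split 0 447 (.split 2 (-468) .sq
    (.split 6 404 (.split 7 386 (.split 0 51 (.wt 2) (.split 3 (-146) (.split 0 54 (.wt 2)
    (.split 1 (-74) (.split 3 (-155) (.split 7 79 (.lin 8) (.split 6 91 (.wt 2) (.split 2 (-179)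
    (.split 3 (-173) (.splitN 87767 .sq (.split 7 80 (.wt 0) (.split 6 377 (.split 0 61 (.wt 2)
    (.split 1 (-83) (.splitN 91880 .sq (.split 7 93 (.wt 0) (.split 2 (-197) (.splitN 100331 .sq
    (.split 4 (-37) (.wt 0) (.split 7 101 (.wt 0) (.split 3 (-191) (.split 1 (-92) (.split 0 78
    (.lin 12) (.splitN 111644 .sq (.splitN 137157 (.split 7 129 (.wt 0) (.split 3 (-218) (.split
    2 (-233) .sq (.lin 9)) (.lin 6))) (.wt 3)))) (.lin 8)) (.lin 6))))) (.lin 9)))) (.lin 4)))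
    (.lin 9)))) (.lin 7)) (.lin 0)))) (.lin 7)) (.lin 4))) (.lin 7))) (.lin 9)) (.lin 0))) .sq)
    (.lin 7)) (.lin 0))) (.wt 3)) .sq) (.lin 9)) (.lin 0))) (.wt 3)) (.lin 7)) (.lin 0))) (.lin
    9)) (.lin 0)) (.lin 3))) (.wt 3))) (.lin 7)) (.lin 4)) (.lin 3))) (.lin 9)) (.lin 0)) (.lin
    3))) (.wt 3)) (.lin 9)) (.lin 0)) (.lin 3))) (.wt 3)) (.lin 9)) (.lin 0)) (.lin 3))) (.wt 1))
    (.lin 7)) (.lin 4))) (.lin 7)) (.lin 4)) (.lin 3))) (.split 1 (-47) (.split 3 (-110) (.splitN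
    616572 (.split 1 (-6849) (.div 1) (.split 2 (-3425) (.div 2) (.split 0 3337 (.split 3
    (-10218) (.lin 2) (.split 6 3374 (.split 7 3356 (.splitN 565163 (.split 2 (-3137) (.div 2)
    (.split 7 3068 (.splitN 342580 (.split 2 (-1895) (.div 2) (.split 0 1807 (.split 6 1844
    (.split 7 1826 (.split 5 1894 (.splitN 319231 (.split 2 (-1769) (.div 2) (.split 7 1700
    (.split 0 534 (.splitN 293528 (.split 2 (-521) .sq (.split 0 430 (.split 6 467 (.split 7 449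
    (.splitN 210359 (.split 1 (-421) .sq (.split 0 394 (.split 2 (-432) .sq (.split 6 386 (.split
    7 368 (.split 0 25 (.wt 2) (.split 2 (-116) (.split 1 (-56) (.split 3 (-119) (.split 7 52
    (.lin 12) (.splitN 167019 (.split 2 (-375) .sq (.split 0 286 (.split 6 314 (.split 7 305
    (.splitN 152791 (.split 3 (-353) .sq (.split 1 (-282) (.lin 11) (.split 5 248 (.split 6 287
    (.split 0 93 (.splitN 124739 (.split 2 (-313) .sq (.split 7 242 (.splitN 115852 (.split 3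
    (-298) .sq (.split 5 194 (.split 6 233 (.split 7 113 (.split 6 68 (.wt 2) (.split 3 (-128)
    (.split 0 34 (.wt 2) (.split 1 (-65) (.split 7 61 (.lin 12) (.split 6 74 (.wt 2) (.split 2
    (-143) (.split 3 (-146) (.splitN 78432 (.split 1 (-144) .sq (.split 5 95 (.split 6 80 (.wt 2)
    (.split 2 (-152) (.split 3 (-155) (.splitN 65897 .sq (.split 0 46 (.wt 0) (.split 2 (-161)
    (.split 1 (-74) (.split 3 (-164) (.split 6 215 (.split 7 70 (.lin 12) (.splitN 74888 .sq (.wt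
    3))) (.lin 7)) (.lin 7)) (.lin 4)) (.lin 3)))) (.lin 7)) (.lin 3))) (.lin 4))) (.wt 3)) (.lin
    7)) (.lin 3)))) (.lin 4))) (.lin 7))) (.split 2 (-179) (.split 6 188 (.split 4 (-29) (.splitN
    69164 .sq (.split 0 43 (.wt 0) (.split 1 (-74) (.split 3 (-137) (.splitN 77660 .sq (.splitN
    78821 (.split 0 62 (.wt 0) (.split 3 (-155) .sq (.lin 7))) (.wt 3))) (.lin 7)) (.lin 4))))
    (.lin 12)) (.lin 9)) (.lin 9))) (.lin 7)) (.lin 7))) (.wt 3)) (.lin 9))) (.wt 3)) (.split 2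
    (-179) (.split 1 (-119) (.split 5 185 (.split 3 (-182) (.split 6 224 (.split 7 115 (.lin 12)
    (.splitN 106964 .sq (.splitN 109932 (.split 4 (-30) (.wt 0) (.split 7 287 (.split 6 79 (.wt
    0) (.split 2 (-197) (.split 3 (-200) .sq (.lin 7)) (.lin 3))) (.lin 6))) (.wt 3)))) (.lin 7))
    (.lin 7)) (.lin 4)) (.lin 4)) (.lin 3))) (.lin 7)) (.lin 4)))) (.wt 3)) (.lin 9)) (.lin 3))
    (.lin 3))) (.wt 3))) (.lin 7)) (.lin 4)) (.lin 3))) (.lin 9)) (.lin 3))) (.lin 4))) (.wt 3))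
    (.lin 9)) (.lin 3)) (.lin 3))) (.wt 3)) .sq) (.lin 9))) (.wt 3)) (.div 5)) (.lin 9)) (.lin
    3)) (.lin 3))) (.wt 3)) (.lin 9))) (.wt 1)) (.lin 9)) (.lin 3))) (.lin 3)))) (.wt 1)) (.lin
    7)) (.lin 4)))

def cert5_140_1 : Cert :=
  (.split 7 96 (.split 2 (-144) (.lin 9) (.split 0 79 (.splitN 173564 (.split 1 (-1917) (.div 1)
    (.split 5 958 (.split 0 46 (.wt 2) (.split 2 (-98) (.split 1 (-65) (.split 3 (-101) (.split 7
    61 (.lin 12) (.splitN 123162 (.split 5 670 (.splitN 72580 (.wt 1) (.splitN 115040 (.split 5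
    16 (.wt 1) (.split 1 (-74) (.split 3 (-110) (.splitN 107689 (.split 5 598 (.split 6 35 (.wt
    0) (.split 0 65 (.wt 2) (.split 2 (-125) (.split 1 (-83) (.split 1 (-92) (.split 3 (-137)
    (.splitN 92418 (.wt 6) (.split 0 73 (.wt 0) (.split 2 (-134) (.split 3 (-146) (.split 1
    (-101) (.wt 0) (.lin 4)) (.lin 1)) (.lin 3)))) (.lin 7)) (.lin 4)) (.lin 0)) (.lin 3))))
    (.div 5)) (.wt 5)) (.lin 6)) (.lin 4))) (.wt 5))) (.div 5)) (.wt 0))) (.lin 7)) (.lin 4))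
    (.lin 3))) (.div 5))) (.wt 0)) (.lin 12))) (.split 3 (-137) (.split 1 (-101) (.split 2 (-134)
    (.split 0 87 (.lin 12) (.split 5 36 (.split 6 36 (.wt 2) (.split 3 (-146) (.split 7 204
    (.split 1 (-219) (.lin 8) (.split 0 187 (.split 0 106 (.wt 2) (.split 2 (-170) (.split 1
    (-128) (.split 3 (-173) (.split 7 124 (.lin 12) (.splitN 200104 (.split 5 15 (.wt 1) (.split
    1 (-137) (.split 0 134 (.wt 2) (.split 2 (-197) (.split 1 (-164) (.split 3 (-209) (.split 7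
    151 (.lin 12) (.splitN 155240 .sq (.splitN 171898 (.split 0 144 (.wt 0) (.split 1 (-173)
    (.split 7 160 (.lin 12) (.splitN 163727 .sq (.split 0 174 (.wt 0) (.split 2 (-233) (.split 3
    (-236) (.split 7 178 (.lin 9) .sq) (.lin 1)) (.lin 3))))) (.lin 4))) (.wt 0)))) (.lin 7))
    (.lin 4)) (.lin 3))) (.lin 4))) (.wt 0))) (.lin 7)) (.lin 4)) (.lin 3))) (.lin 12))) (.split
    3 (-254) (.split 1 (-209) (.split 2 (-251) (.split 0 195 (.lin 12) (.splitN 254303 .sq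
    (.splitN 1978021 (.split 2 (-10985) (.div 2) (.split 0 10924 (.split 3 (-11010) (.lin 7)
    (.split 7 10961 (.splitN 1635991 (.split 2 (-9077) (.div 2) (.split 0 9016 (.split 3 (-9102)
    (.lin 7) (.split 7 9053 (.splitN 654187 (.split 2 (-3623) (.div 2) (.split 0 3562 (.split 3
    (-3648) (.lin 7) (.split 7 3599 (.splitN 600310 (.split 2 (-3335) (.div 2) (.split 0 3274
    (.split 3 (-3360) (.lin 7) (.split 7 3311 (.splitN 544114 (.split 2 (-3011) (.div 2) (.split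
    0 2950 (.split 3 (-3036) (.lin 7) (.split 7 2987 (.split 7 235 (.wt 0) (.split 3 (-290)
    (.split 1 (-245) (.split 2 (-287) (.split 0 231 (.lin 12) (.splitN 341135 .sq (.splitN 465572
    (.split 2 (-2579) (.div 2) (.split 0 2518 (.split 3 (-2604) (.lin 7) (.split 7 2555 (.split 6
    44 (.wt 0) (.split 7 410 (.wt 0) (.split 3 (-470) .sq (.lin 6)))) (.lin 6))) (.lin 3))) (.wt
    5)))) (.lin 9)) (.lin 8)) (.lin 6))) (.lin 6))) (.lin 3))) (.wt 5)) (.lin 6))) (.lin 3)))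
    (.wt 3)) (.lin 6))) (.lin 3))) (.wt 3)) (.lin 6))) (.lin 3))) (.wt 0)) (.lin 6))) (.lin 3)))
    (.wt 0)))) (.lin 9)) (.lin 8)) (.lin 6))) (.lin 6))) (.split 3 (-164) (.split 1 (-128)
    (.splitN 776896 (.split 2 (-4307) (.div 2) (.split 0 4255 (.split 7 4265 (.splitN 676214
    (.split 0 775 (.split 2 (-837) (.lin 3) (.split 7 800 (.splitN 431659 (.split 0 598 (.split 2
    (-657) (.lin 3) (.split 7 620 (.splitN 381862 (.split 0 553 (.split 2 (-612) (.lin 3) (.split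
    7 575 (.split 1 (-561) .sq (.split 5 491 (.split 7 530 (.splitN 354859 (.split 2 (-539) .sq
    (.split 0 484 (.split 7 494 (.split 6 35 (.wt 2) (.split 2 (-143) (.split 3 (-173) (.splitN
    331706 (.split 1 (-510) .sq (.split 3 (-561) (.lin 11) (.split 3 (-523) .sq (.split 7 440
    (.split 7 207 (.split 0 196 (.splitN 186419 (.split 7 152 (.split 0 142 (.splitN 146791
    (.split 3 (-298) .sq (.split 5 158 (.split 6 44 (.wt 2) .cand) (.lin 6))) (.wt 3)) (.lin 12))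
    (.split 3 (-236) (.split 1 (-191) (.split 2 (-206) (.split 0 150 (.lin 12) .sq) (.lin 9))
    (.lin 8)) (.lin 6))) (.wt 3)) (.lin 12)) (.split 3 (-290) (.split 1 (-245) (.split 2 (-260)
    (.split 0 204 (.lin 12) (.splitN 303713 .sq (.wt 1))) (.lin 9)) (.lin 8)) (.lin 6))) (.lin
    6))))) (.wt 3)) (.lin 6)) (.lin 3))) (.lin 9)) (.lin 3))) (.wt 3)) (.lin 8)) (.lin 0))) (.lin
    9))) .sq) (.wt 3)) (.lin 9))) .sq) (.wt 3)) (.lin 9))) .sq) (.wt 3)) (.lin 9)) (.lin 3)))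
    (.wt 3)) (.lin 8)) (.lin 6)))) (.lin 9)) (.lin 8)) (.lin 6)))

def cert5_140_2 : Cert :=
  (.split 6 132 (.split 7 114 (.split 2 (-234) (.lin 9) (.split 0 97 (.splitN 227182 (.split 0 50
    (.wt 2) (.split 1 (-65) (.split 3 (-128) (.split 0 54 (.wt 2) (.split 2 (-134) (.split 1
    (-74) (.split 3 (-137) (.split 7 70 (.lin 8) (.split 6 83 (.wt 2) (.split 3 (-164) (.split 0
    62 (.wt 2) (.split 3 (-173) (.split 6 92 (.wt 2) (.split 7 93 (.split 1 (-93) (.lin 8)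
    (.split 0 79 (.split 0 71 (.wt 2) (.split 1 (-92) (.split 3 (-191) (.split 7 88 (.lin 8)
    (.splitN 126520 (.wt 1) (.wt 0))) (.lin 7)) (.lin 4))) (.lin 12))) (.split 3 (-200) (.split 1
    (-101) (.split 2 (-197) (.split 0 87 (.lin 12) (.splitN 116279 .sq .cand)) (.lin 9)) (.lin
    8)) (.lin 6)))) (.lin 7))) (.lin 6)))) (.lin 7)) (.lin 4)) (.lin 3))) (.lin 7)) (.lin 4)))
    (.wt 3)) (.lin 12))) (.split 3 (-182) (.split 1 (-119) (.split 2 (-179) (.split 0 105 (.lin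
    12) (.splitN 7301996 (.split 2 (-40559) (.div 2) (.split 0 40480 (.split 3 (-40620) (.lin 7)
    (.split 7 40553 (.splitN 6643233 (.split 0 2558 (.split 2 (-2691) (.lin 3) (.split 3 (-2694)
    (.lin 7) (.split 7 2627 (.splitN 2892672 (.split 0 1671 (.split 2 (-1800) (.lin 3) (.split 1
    (-1740) (.lin 0) (.split 3 (-1803) (.lin 7) (.split 7 1736 (.splitN 2212035 (.split 0 1453
    (.split 2 (-1584) (.lin 3) (.split 1 (-1524) (.lin 0) (.split 3 (-1587) (.lin 7) (.split 7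
    1520 (.splitN 2014120 (.split 2 (-1392) .sq (.split 7 1322 (.split 3 (-1389) (.lin 10)
    (.splitN 1818619 (.split 2 (-1320) .sq (.split 7 1250 (.split 3 (-1317) (.lin 10) (.split 6
    93 (.splitN 124931 (.wt 1) (.split 7 380 (.split 3 (-471) (.lin 6) (.split 0 394 (.split 7
    209 (.split 0 196 (.splitN 296569 .cand (.wt 3)) (.lin 12)) (.split 3 (-281) (.split 1 (-218)
    (.split 2 (-278) (.split 0 204 (.lin 12) (.splitN 296180 .sq (.split 6 63 (.wt 0) (.split 0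
    328 (.split 1 (-336) (.lin 4) (.split 3 (-426) (.lin 7) (.split 7 332 (.split 0 212 (.split 1
    (-219) (.lin 4) (.split 7 215 (.wt 0) (.lin 8))) (.wt 1)) (.lin 8)))) (.wt 1))))) (.lin 9))
    (.lin 8)) (.lin 6))) (.lin 7))) (.split 3 (-452) (.split 0 348 (.lin 7) (.split 1 (-389)
    (.split 2 (-449) (.split 0 375 (.lin 12) (.splitN 851759 .sq (.wt 1))) (.lin 9)) (.lin 8)))
    (.lin 6)))) (.split 3 (-218) (.split 2 (-215) (.split 0 324 (.split 2 (-459) (.lin 3) (.split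
    1 (-363) (.lin 0) (.split 3 (-462) (.lin 7) (.split 0 192 (.split 1 (-201) (.lin 4) (.split 3
    (-327) (.lin 7) (.split 0 148 (.split 1 (-156) (.lin 4) (.split 3 (-282) (.lin 7) (.split 0
    130 (.split 1 (-138) (.lin 4) (.split 3 (-264) (.lin 7) (.split 7 134 (.splitN 167869 (.split
    0 122 (.split 1 (-129) (.lin 4) (.split 7 125 (.split 6 123 (.split 3 (-246) (.lin 6) (.split
    6 102 (.split 2 (-225) (.lin 0) (.split 3 (-228) (.lin 6) (.split 0 111 (.split 1 (-120)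
    (.lin 4) (.split 7 116 (.splitN 151423 (.wt 0) (.wt 0)) (.lin 8))) (.wt 2)))) (.wt 2))) (.wt
    0)) (.lin 8))) (.wt 2)) (.wt 1)) (.lin 8)))) (.wt 2)))) (.wt 2)))) (.wt 2))))) (.wt 2)) (.lin
    9)) (.lin 6)))) (.lin 9))) (.wt 1))) (.lin 9))) (.wt 1)) (.lin 6))))) .sq) (.wt 1)) (.lin
    6))))) .sq) (.wt 1)) (.lin 6)))) .sq) (.wt 1)) (.lin 6))) (.lin 3))) (.wt 1))) (.lin 9))
    (.lin 8)) (.lin 6))) (.split 2 (-188) (.split 3 (-191) (.splitN 97892 .sq (.splitN 1186937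
    (.split 2 (-6593) (.div 2) (.split 1 (-6456) (.lin 0) (.split 3 (-6591) (.lin 10) (.split 0
    417 (.split 1 (-426) (.lin 4) (.split 7 422 (.splitN 524726 (.split 2 (-2903) (.div 2)
    (.split 6 2843 (.split 3 (-3270) (.lin 6) (.split 3 (-2901) (.lin 10) (.split 0 325 (.split 1
    (-336) (.lin 4) (.split 7 332 (.splitN 452784 (.split 0 305 (.split 1 (-318) (.lin 4) (.split
    2 (-624) .sq (.split 6 566 (.split 3 (-624) (.lin 10) (.split 0 221 (.split 1 (-228) (.lin 4)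
    (.split 7 224 (.splitN 334695 (.split 2 (-522) .sq (.split 3 (-525) (.lin 10) (.split 0 195
    (.split 1 (-201) (.lin 4) (.split 7 197 (.splitN 303860 (.split 2 (-490) .sq (.split 3 (-489)
    (.lin 10) (.split 7 102 (.split 0 88 (.split 7 53 (.wt 3) (.split 1 (-65) (.split 0 51 (.lin
    12) (.splitN 160533 (.split 2 (-307) .sq (.split 6 242 (.split 3 (-345) (.lin 6) (.split 3
    (-309) (.lin 10) (.split 7 80 (.split 0 70 (.splitN 135619 (.split 2 (-261) .sq (.split 6 197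
    (.split 0 53 (.wt 2) (.split 2 (-206) (.split 1 (-74) (.split 3 (-209) (.split 7 70 (.lin 8)
    (.splitN 118628 .sq (.split 0 61 (.wt 0) (.split 6 179 (.split 1 (-83) (.wt 3) (.lin 4))
    (.lin 3))))) (.lin 7)) (.lin 4)) (.lin 3))) (.lin 0))) (.wt 1)) (.lin 12)) (.split 3 (-227)
    (.split 1 (-92) (.split 2 (-224) (.split 0 78 (.lin 12) (.splitN 142604 .sq (.wt 1))) (.lin
    9)) (.lin 8)) (.lin 6))))) (.lin 0))) (.wt 1))) (.lin 8))) (.lin 12)) (.split 3 (-245)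
    (.split 1 (-110) (.split 2 (-242) (.split 0 96 (.lin 12) (.splitN 169820 .sq (.wt 6))) (.lin
    9)) (.lin 8)) (.lin 6))))) (.wt 1)) (.lin 8))) (.wt 6)))) (.wt 1)) (.lin 8))) (.wt 6))) (.lin
    0)))) (.wt 6)) (.wt 1)) (.lin 8))) (.wt 6)))) (.lin 0))) (.wt 1)) (.lin 8))) (.wt 6))))) (.wt
    1))) (.lin 6)) (.lin 0)))

def cert5_140_3 : Cert :=
  (.split 1 (-363) (.lin 11) (.split 6 122 (.split 2 (-225) (.lin 3) (.split 7 80 (.split 2
    (-198) (.lin 9) (.split 0 70 (.splitN 120746 (.split 1 (-286) .sq (.split 5 239 (.split 3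
    (-307) .sq (.split 1 (-264) (.lin 2) (.split 1 (-237) (.lin 11) (.split 5 194 (.split 6 89
    (.split 2 (-171) (.lin 3) (.split 5 66 (.split 1 (-156) (.lin 0) (.split 1 (-129) (.lin 8)
    (.split 7 66 (.split 2 (-153) (.lin 9) (.split 0 52 (.split 0 46 (.wt 2) (.split 2 (-125)
    (.split 3 (-137) (.split 1 (-74) (.split 7 61 (.lin 12) (.splitN 74510 (.wt 1) (.split 1
    (-92) (.wt 0) (.split 5 32 (.splitN 76412 (.wt 1) (.wt 0)) (.lin 4))))) (.lin 4)) (.lin 1))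
    (.lin 3))) (.lin 12))) (.split 3 (-146) (.split 1 (-83) (.splitN 76085 (.wt 1) (.splitN
    105671 .cand (.wt 3))) (.lin 8)) (.lin 6))))) (.split 1 (-83) (.split 3 (-173) (.split 1
    (-110) (.splitN 93496 (.split 0 43 (.wt 2) (.split 1 (-119) (.split 7 61 (.lin 12) (.split 6
    62 (.wt 2) (.split 2 (-134) (.split 3 (-191) (.splitN 84932 .sq (.split 7 64 (.wt 0) (.split
    1 (-128) (.split 2 (-143) (.split 0 60 (.lin 12) .sq) (.lin 9)) (.lin 8)))) (.lin 6)) (.lin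
    3)))) (.lin 4))) (.wt 3)) (.lin 8)) (.lin 6)) (.lin 0)))) (.split 2 (-152) (.split 3 (-164)
    (.splitN 69137 .sq (.split 5 52 (.split 7 66 (.split 0 52 (.split 5 26 (.wt 2) (.split 1
    (-74) (.split 3 (-173) (.splitN 80299 (.split 7 53 (.wt 0) (.split 1 (-83) (.split 2 (-161)
    .sq (.lin 9)) (.lin 8))) (.wt 3)) (.lin 6)) (.lin 4))) (.lin 12)) (.split 3 (-182) (.split 1
    (-83) (.split 2 (-170) (.split 0 60 (.lin 12) (.splitN 87929 .sq (.splitN 104437 .cand (.wt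
    1)))) (.lin 9)) (.lin 8)) (.lin 6))) (.split 1 (-83) (.split 3 (-200) (.split 1 (-101)
    (.splitN 91169 .sq (.wt 1)) (.lin 8)) (.lin 6)) (.lin 0)))) (.lin 6)) (.lin 3))) (.lin 4)))))
    (.lin 4))) (.wt 3)) (.lin 12))) (.split 3 (-164) (.split 1 (-101) (.split 2 (-152) (.split 0
    78 (.lin 12) (.splitN 78857 .sq (.splitN 153931 (.splitN 144937 (.split 3 (-303) .sq (.split
    6 103 (.split 6 80 (.split 2 (-189) (.lin 3) (.splitN 133994 (.split 3 (-286) .sq (.split 5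
    56 (.split 1 (-165) (.lin 0) (.split 3 (-228) (.lin 6) (.split 1 (-147) (.lin 8) (.split 5 36
    (.split 1 (-129) (.lin 4) (.split 3 (-210) (.lin 6) (.split 6 71 (.split 6 66 (.splitN 120572
    (.wt 6) (.split 0 93 (.wt 0) (.split 2 (-170) (.split 3 (-182) (.wt 0) (.lin 1)) (.lin 3))))
    .cand) (.split 3 (-182) (.split 0 96 (.split 7 98 (.splitN 118844 (.split 5 28 (.split 1
    (-111) (.lin 4) (.split 3 (-192) (.lin 6) (.split 0 79 (.wt 2) (.split 2 (-179) (.split 7 97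
    (.lin 1) (.wt 0)) (.lin 3))))) (.wt 2)) (.wt 1)) (.lin 12)) (.wt 2)) (.lin 6))))) (.split 1
    (-119) (.split 3 (-182) (.split 6 74 (.split 6 66 .cand (.split 2 (-161) (.split 0 86 (.split
    2 (-162) (.lin 3) (.split 1 (-129) (.lin 0) (.split 7 89 (.splitN 101825 (.split 3 (-192)
    (.split 5 49 (.lin 1) .sq) (.wt 2)) (.wt 0)) (.lin 9)))) (.wt 2)) (.lin 3))) (.wt 2)) (.lin
    6)) (.lin 4)))))) (.split 1 (-119) (.split 3 (-200) (.split 1 (-137) (.splitN 103481 .sq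
    (.splitN 109001 (.split 5 80 (.split 3 (-255) (.lin 6) (.split 6 66 (.split 7 94 (.wt 0)
    (.split 2 (-161) .sq (.lin 9))) (.wt 1))) (.wt 1)) (.wt 1))) (.lin 8)) (.lin 6)) (.lin 0))))
    (.wt 3))) (.split 2 (-179) (.split 3 (-191) (.splitN 101456 .sq (.split 5 34 (.split 3 (-228)
    (.lin 6) (.split 1 (-129) (.lin 8) (.splitN 113144 (.split 7 95 (.split 3 (-210) (.lin 6)
    (.split 1 (-111) (.lin 8) (.splitN 108031 (.wt 0) (.wt 1)))) (.wt 0)) (.wt 6)))) (.wt 1)))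
    (.lin 6)) (.lin 3))) (.wt 2))) (.wt 3)) (.wt 1)))) (.lin 9)) (.lin 8)) (.lin 6)))) (.split 2
    (-179) (.split 3 (-191) (.splitN 93680 .sq (.split 7 62 (.wt 1) (.split 3 (-209) (.split 1
    (-83) (.split 2 (-197) (.split 0 60 (.lin 12) (.splitN 114416 .sq (.wt 1))) (.lin 9)) (.lin
    8)) (.lin 6)))) (.lin 6)) (.lin 3))))

def cert5_140_4 : Cert :=
  (.split 0 40 (.split 7 44 (.splitN 212689 (.split 2 (-1175) (.div 2) (.split 6 1142 (.splitN
    154502 (.split 2 (-851) (.div 2) (.split 6 818 (.splitN 119763 (.split 2 (-653) (.div 2)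
    (.split 6 620 (.split 0 18 (.wt 2) (.split 1 (-29) (.split 3 (-92) (.split 7 34 (.lin 12)
    (.splitN 101542 (.split 2 (-563) (.div 2) (.split 6 521 (.splitN 82955 (.split 2 (-455) (.div
    2) (.split 6 413 (.split 5 6 (.wt 1) (.split 1 (-38) (.split 3 (-101) (.splitN 72852 (.split
    2 (-401) (.div 2) (.split 6 359 (.split 5 20 (.wt 2) (.split 1 (-47) (.split 3 (-110)
    (.splitN 65152 (.split 2 (-347) (.div 2) (.split 6 305 (.split 5 346 (.split 0 26 (.wt 2)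
    (.split 2 (-107) (.split 3 (-119) (.split 1 (-56) (.split 7 43 (.lin 12) (.splitN 49963 (.wt
    1) (.splitN 61798 (.split 2 (-329) (.div 2) (.split 6 278 (.split 1 (-186) (.wt 0) (.split 5
    149 (.split 1 (-172) (.wt 0) (.split 5 131 (.split 6 103 (.wt 0) (.split 2 (-152) (.split 3
    (-164) .sq (.lin 6)) (.lin 3))) (.lin 4))) (.lin 4))) (.lin 3))) (.wt 3)))) (.lin 4)) (.lin
    1)) (.lin 3))) (.div 5)) (.lin 3))) (.wt 3)) (.lin 6)) (.lin 4))) (.lin 3))) (.wt 3)) (.lin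
    6)) (.lin 4))) (.lin 3))) (.wt 5)) (.lin 3))) (.wt 0))) (.lin 7)) (.lin 4))) (.lin 3))) (.wt
    5)) (.lin 3))) (.wt 3)) (.lin 3))) (.wt 0)) (.lin 12)) (.split 2 (-116) (.split 1 (-47)
    (.split 3 (-110) (.split 7 52 (.lin 12) (.split 5 18 (.split 5 9 (.split 7 169 (.split 0 151
    (.wt 2) (.lin 12)) (.wt 1)) (.split 1 (-56) (.split 3 (-119) cert5_140_2 (.lin 6)) (.lin 4)))
    (.split 1 (-65) (.split 3 (-128) (.splitN 2527864 (.split 2 (-14027) (.div 2) (.split 7 13958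
    (.split 5 14026 (.split 3 (-28029) (.lin 10) (.splitN 2319729 (.split 0 1508 (.split 7 1511
    (.splitN 1445783 (.split 2 (-8033) (.div 2) (.split 5 8032 (.split 3 (-17499) (.lin 1)
    (.split 0 1185 (.split 7 1187 (.splitN 1292160 (.split 1 (-1119) .sq (.split 2 (-1123) .sq
    (.split 3 (-2181) (.lin 2) (.split 7 1052 (.splitN 1155727 (.split 3 (-1062) .sq (.split 7
    228 (.split 0 214 (.splitN 405115 (.split 1 (-603) .sq (.split 3 (-613) .sq (.split 1 (-543)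
    (.lin 11) (.split 7 108 (.split 0 97 (.splitN 212834 (.split 1 (-416) .sq (.split 3 (-430)
    .sq cert5_140_3)) (.wt 1)) (.lin 12)) (.split 3 (-191) (.split 1 (-128) (.split 2 (-179)
    (.split 0 105 (.lin 12) (.splitN 114092 .sq (.splitN 208144 (.split 6 203 (.split 2 (-423)
    (.lin 3) (.split 5 127 (.split 1 (-471) (.lin 0) (.split 3 (-534) (.lin 6) (.split 1 (-336)
    (.lin 8) (.split 5 97 (.split 1 (-309) (.lin 4) (.split 3 (-507) (.lin 6) (.split 5 90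
    (.split 6 86 (.split 2 (-378) (.lin 0) (.split 3 (-381) (.lin 6) (.split 5 60 (.split 3
    (-354) (.lin 6) (.split 5 57 (.split 5 36 (.split 3 (-327) (.lin 6) (.split 6 71 (.split 7
    170 (.split 3 (-264) (.lin 6) (.split 7 143 (.split 3 (-237) (.lin 6) (.split 1 (-165) (.lin
    8) (.split 0 133 (.split 6 66 (.splitN 152857 .cand (.wt 3)) (.split 0 120 (.split 2 (-198)
    (.lin 3) (.split 1 (-147) (.lin 0) (.split 3 (-219) (.lin 7) (.split 7 125 (.splitN 124457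
    (.wt 0) (.splitN 134990 (.split 5 26 (.split 1 (-138) (.lin 0) (.split 7 124 (.split 3 (-201)
    (.lin 6) (.wt 2)) (.wt 0))) (.wt 1)) (.wt 1))) (.lin 9))))) (.wt 2))) (.lin 12)))) (.split 3
    (-227) (.split 1 (-164) (.split 2 (-215) (.split 0 141 (.lin 12) (.splitN 172412 .sq (.wt
    1))) (.lin 9)) (.lin 8)) (.lin 6)))) (.split 3 (-254) (.split 0 150 (.lin 7) (.split 1 (-191)
    (.split 2 (-242) .sq (.lin 9)) (.lin 8))) (.lin 6))) (.split 2 (-197) (.split 3 (-209)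
    (.splitN 130616 .sq (.wt 6)) (.lin 6)) (.lin 3)))) (.split 1 (-146) (.split 3 (-209) (.splitN
    127376 .sq (.splitN 149195 (.split 6 74 (.split 3 (-336) (.lin 6) (.split 7 150 (.wt 1)
    (.split 3 (-245) (.split 2 (-215) .sq (.lin 9)) (.lin 6)))) (.wt 1)) (.wt 1))) (.lin 6))
    (.lin 4))) (.wt 6))) (.wt 6)))) (.wt 2)) (.wt 2)))) (.wt 2))))) (.wt 2))) (.wt 1)) (.wt 1))))
    (.lin 9)) (.lin 8)) (.lin 6)))))) (.wt 1)) (.lin 12)) (.split 3 (-308) (.split 1 (-245)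
    (.split 2 (-296) (.split 0 222 (.lin 12) (.splitN 351017 .sq (.wt 1))) (.lin 9)) (.lin 8))
    (.lin 6)))) (.wt 1)) (.lin 9))))) (.wt 1)) (.lin 12)) .sq)) (.div 5))) (.wt 1)) (.lin 12))
    .sq) (.wt 1))) (.div 5)) (.lin 9))) (.wt 1)) (.lin 6)) (.lin 4)))) (.lin 7)) (.lin 4)) (.lin
    3)))

def cert5_140 : Cert :=
  (.split 1 (-11) (.split 3 (-20) (.split 4 (-12) (.split 2 (-35) (.split 0 8 (.wt 2) (.split 1
    (-20) (.split 7 34 (.lin 12) (.split 6 8 (.wt 1) (.split 2 (-53) (.split 3 (-38) (.split 6 22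
    (.wt 2) (.split 2 (-62) (.split 6 60 (.split 0 28 (.wt 2) (.split 2 (-80) (.split 1 (-38)
    (.split 3 (-65) (.splitN 2569209 (.split 0 71300 (.split 2 (-14261) (.div 2) (.split 0 14209
    (.split 7 14228 (.splitN 2238887 (.split 2 (-12425) (.div 2) (.split 7 12392 (.splitN 396014
    (.split 2 (-2201) (.div 2) (.split 0 2149 (.split 7 2168 (.splitN 346611 (.split 2 (-1913)
    (.div 2) (.split 0 1861 (.split 7 1880 (.split 0 47 (.wt 2) (.split 2 (-98) (.split 1 (-56)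
    (.split 3 (-83) (.splitN 261579 (.split 2 (-1445) (.div 2) (.split 7 1412 (.splitN 173690
    (.split 2 (-959) (.div 2) (.split 0 907 (.split 7 926 (.split 5 958 (.splitN 163632 (.split 2
    (-905) (.div 2) (.split 7 872 (.split 0 71 (.wt 2) (.split 2 (-125) (.split 1 (-83) (.split 3
    (-110) (.split 7 97 (.lin 12) (.splitN 139472 (.split 2 (-761) (.div 2) (.split 7 728 (.split
    5 760 (.splitN 119252 (.split 2 (-653) (.div 2) (.split 0 601 (.split 7 620 (.split 5 6 (.wt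
    1) (.split 1 (-92) (.split 3 (-119) (.splitN 110690 (.split 2 (-599) (.div 2) (.split 7 566
    (.split 0 134 (.wt 2) (.split 2 (-188) (.split 1 (-155) (.split 3 (-182) (.split 7 133 (.lin
    9) .sq) (.lin 7)) (.lin 4)) (.lin 3))) (.lin 9))) (.wt 5)) (.lin 7)) (.lin 4))) (.lin 9))
    (.lin 3))) (.wt 5)) (.div 5)) (.lin 9))) (.wt 0))) (.lin 7)) (.lin 4)) (.lin 3))) (.lin 9)))
    (.wt 5)) (.div 5)) (.lin 9)) (.lin 3))) (.wt 5)) (.lin 9))) (.wt 0)) (.lin 7)) (.lin 4))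
    (.lin 3))) (.lin 9)) (.lin 3))) (.wt 5)) (.lin 9)) (.lin 3))) (.wt 5)) (.lin 9))) (.wt 3))
    (.lin 9)) (.lin 3))) (.div 0)) (.wt 3)) (.lin 7)) (.lin 4)) (.lin 3))) (.split 2 (-98)
    (.split 3 (-83) (.split 0 16 (.wt 2) (.split 2 (-107) (.split 3 (-92) (.split 7 43 (.lin 12)
    cert5_140_0) (.lin 7)) (.lin 3))) (.lin 7)) (.lin 3))) (.lin 3))) (.lin 7)) (.lin 3)))) (.lin
    4))) (.lin 3)) (.split 6 24 (.split 7 364 (.split 2 (-378) (.lin 9) (.split 0 358 (.split 7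
    279 (.split 2 (-297) (.lin 9) (.split 0 8 (.wt 6) (.split 3 (-29) (.split 7 16 (.lin 12)
    (.split 7 128 (.split 0 124 (.split 7 111 (.split 4 (-6) (.wt 2) (.wt 1)) (.wt 1)) (.lin 12))
    (.wt 1))) (.lin 7)))) (.wt 1)) (.lin 12))) (.wt 1)) (.split 2 (-35) (.split 3 (-29) (.split 3
    (-38) (.split 4 (-5) (.split 2 (-44) (.split 0 9 (.wt 2) (.split 2 (-53) (.split 1 (-20)
    (.split 3 (-47) (.split 7 25 (.lin 12) (.split 6 60 (.split 0 20 (.wt 2) (.split 2 (-62)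
    (.split 1 (-29) (.split 3 (-56) (.split 5 5 (.wt 2) (.split 1 (-38) (.split 0 28 (.wt 2)
    (.split 2 (-71) (.split 1 (-47) (.split 3 (-74) (.split 7 43 (.lin 12) (.split 6 26 (.wt 2)
    (.split 2 (-80) (.split 3 (-83) cert5_140_1 (.lin 6)) (.lin 3)))) (.lin 7)) (.lin 4)) (.lin
    3))) (.lin 4))) (.lin 7)) (.lin 4)) (.lin 3))) (.split 2 (-89) (.split 3 (-83) cert5_140_4
    (.lin 6)) (.lin 3)))) (.lin 7)) (.lin 4)) (.lin 3))) (.lin 3)) (.split 7 18 (.split 0 16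
    (.split 7 16 (.split 0 7 (.splitN 95235 (.split 2 (-527) (.div 2) (.split 6 512 (.wt 2) (.lin
    3))) (.wt 0)) (.lin 12)) (.wt 1)) (.lin 12)) (.wt 1))) (.lin 7)) (.lin 6)) (.lin 3)))) (.lin
    7)) (.lin 4))

theorem check5_140 :
    check task5 cert5_140
      [(7, ⟨some (7), none⟩), (7, ⟨none, some (-2)⟩), (1, ⟨none, some (-17)⟩), (7, ⟨none, some (-11)⟩), (7, ⟨none, some (-2)⟩), (5, ⟨some (5), none⟩), (8, ⟨some (8), none⟩), (8, ⟨some (8), none⟩)] ⟨some (3960), none⟩ = true := by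
  decide +kernel

end Cfsg.Agent.EightLocal
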