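import Cfsg.Agent.Lib.EightLocal.Task5

/-!
# Search trees of family 5, part 9
-/

set_option autoImplicit false
set_option maxRecDepth 20000
set_option Elab.async false

namespace Cfsg.Agent.EightLocal

open Cfsg.Agent.SelfNine

def cert5_141_0 : Cert :=
  (.split 6 57 (.split 2 (-108) (.lin 9) (.splitN 48905 (.split 0 203 (.split 5 (-176) (.lin 4)
    (.split 4 169 (.split 3 (-204) .sq (.split 6 30 (.split 2 (-81) (.lin 9) (.split 4 8 (.wt 2)
    (.split 5 (-9) (.wt 2) (.split 1 (-29) (.split 3 (-56) (.split 1 (-38) (.split 4 160 (.splitN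
    29499 (.split 0 51 (.wt 2) (.split 1 (-47) (.split 3 (-65) (.split 0 65 (.wt 2) (.split 1
    (-65) (.split 3 (-83) (.splitN 22471 (.wt 6) (.split 6 18 (.wt 0) (.split 0 178 (.split 2
    (-53) (.split 3 (-92) (.splitN 23753 (.wt 6) (.split 0 131 (.wt 0) (.split 3 (-128) (.split 1
    (-101) (.split 4 51 (.lin 0) (.split 3 (-155) .sq (.lin 7))) (.lin 11)) (.lin 1)))) (.lin 7))
    (.lin 9)) (.lin 7)))) (.lin 7)) (.lin 4))) (.lin 7)) (.lin 4))) (.wt 3)) (.lin 6)) (.lin 8))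
    (.lin 6)) (.lin 0))))) (.split 2 (-62) (.split 3 (-56) (.splitN 44688 (.split 5 (-48) (.wt 6)
    (.split 0 183 (.split 4 151 (.split 3 (-189) .sq (.split 4 32 (.split 1 (-93) (.lin 0)
    (.split 0 97 (.split 3 (-129) (.lin 6) (.split 0 79 (.split 5 (-11) (.wt 2) (.split 1 (-29)
    (.split 3 (-65) (.splitN 24948 (.split 4 13 (.wt 2) (.split 3 (-74) (.split 1 (-38) (.split 0
    42 (.lin 12) (.splitN 17064 (.wt 1) (.split 7 27 (.wt 3) (.split 3 (-83) (.split 1 (-47)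
    (.split 2 (-71) (.split 3 (-104) .sq (.split 7 44 (.splitN 22549 (.split 6 35 (.wt 6) (.split
    3 (-92) (.split 2 (-80) .sq (.lin 9)) (.lin 6))) (.wt 1)) (.split 3 (-101) (.split 2 (-89)
    .sq (.lin 9)) (.lin 6)))) (.lin 9)) (.lin 8)) (.lin 6))))) (.lin 8)) (.lin 6))) (.wt 1))
    (.lin 6)) (.lin 4))) (.lin 12))) (.lin 3))) (.split 0 42 (.lin 3) (.split 0 60 (.lin 12)
    (.split 5 (-13) (.split 1 (-108) (.wt 2) (.split 0 142 (.split 4 115 (.split 1 (-64) (.wt 2)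
    (.split 4 88 (.split 0 97 (.splitN 28372 (.wt 6) (.split 7 32 (.wt 0) (.split 3 (-65) (.split
    1 (-29) (.wt 2) (.lin 8)) (.lin 6)))) (.lin 4)) (.lin 0))) (.lin 8)) (.lin 4))) (.split 1
    (-38) (.split 3 (-92) (.split 1 (-56) (.split 4 124 (.splitN 22238 .sq (.splitN 25054 (.split
    6 48 (.split 7 26 (.wt 0) (.split 3 (-101) (.split 1 (-65) (.split 2 (-71) .sq (.lin 9))
    (.lin 8)) (.lin 6))) (.wt 1)) (.wt 1))) (.lin 6)) (.lin 8)) (.lin 6)) (.lin 0))))))) (.lin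
    12)) .sq)) (.wt 3)) (.lin 11)) (.lin 9)))) (.lin 12))) .sq) (.wt 3))) (.split 2 (-89) (.split
    3 (-56) (.split 3 (-83) (.splitN 20951 .sq (.splitN 47073 (.split 4 7 (.wt 3) (.split 0 42
    (.lin 12) (.split 0 161 (.split 5 (-140) (.lin 4) (.split 4 133 (.splitN 45365 (.split 0 151
    (.split 4 124 (.split 2 (-171) .sq (.split 6 143 (.split 3 (-167) .sq (.split 1 (-102) (.lin
    11) (.split 5 (-23) (.split 4 16 (.wt 2) (.split 0 146 (.split 5 (-122) (.lin 4) (.split 4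
    115 (.split 6 63 (.wt 2) (.split 2 (-98) (.split 3 (-92) (.splitN 28475 .sq (.split 7 27 (.wt
    0) (.split 2 (-107) (.split 0 60 (.lin 12) (.split 6 134 (.split 0 121 (.split 4 79 (.splitN
    41531 (.split 6 74 (.wt 2) (.split 2 (-116) (.split 3 (-101) (.splitN 36989 .sq (.split 0 66
    (.wt 0) (.split 1 (-25) (.wt 0) (.split 5 (-49) .sq (.lin 4))))) (.lin 11)) (.lin 9))) (.wt
    3)) (.lin 12)) .sq) (.lin 9))) (.lin 9)))) (.lin 11)) (.lin 9))) (.lin 12))) .sq)) (.split 0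
    124 (.split 4 97 (.splitN 41924 (.split 2 (-161) .sq (.split 6 125 (.split 3 (-157) .sq
    (.split 4 88 (.split 0 115 (.split 5 (-10) (.split 7 39 (.split 4 16 (.wt 2) (.split 3 (-92)
    (.split 1 (-29) (.splitN 25244 .sq (.splitN 29849 (.split 2 (-149) (.div 2) (.split 6 116
    (.split 1 (-69) (.wt 0) (.split 4 61 (.split 0 54 (.wt 0) (.split 1 (-38) (.split 3 (-101)
    .sq (.lin 7)) (.lin 4))) (.lin 8))) (.lin 9))) (.wt 3))) (.lin 8)) (.lin 6))) (.split 3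
    (-101) (.split 1 (-38) (.split 2 (-107) (.split 4 70 (.split 6 107 (.splitN 33020 .sq
    (.splitN 34901 (.split 0 77 (.wt 0) (.split 3 (-119) .sq (.lin 7))) (.wt 0))) (.lin 9)) (.lin
    6)) (.lin 9)) (.lin 8)) (.lin 6))) (.split 3 (-101) (.split 1 (-38) (.split 4 70 (.splitN
    26207 .sq (.wt 1)) (.lin 6)) (.lin 8)) (.lin 6))) (.lin 7)) (.lin 6))) (.lin 9))) (.wt 3))
    (.lin 6)) (.lin 4))))) (.lin 9))) (.lin 12)) .sq) (.wt 3)) (.lin 12))) .sq))) (.wt 3))) (.lin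
    11)) (.lin 2)) (.lin 9)))

def cert5_141_1 : Cert :=
  (.split 6 69 (.splitN 105380 (.split 0 303 (.split 4 232 (.split 7 287 (.splitN 99069 (.split 2
    (-295) .sq (.split 7 269 (.split 3 (-287) .sq (.split 6 32 (.split 5 (-14) (.wt 2) (.split 1
    (-47) (.split 3 (-74) (.split 1 (-56) (.split 4 214 (.splitN 24110 .sq (.splitN 44825 (.split
    2 (-239) (.div 2) (.split 7 215 (.splitN 42238 (.split 2 (-221) (.div 2) (.split 7 197
    (.splitN 38901 (.split 2 (-203) (.div 2) (.split 7 179 (.split 4 15 (.wt 0) (.split 3 (-83)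
    (.split 1 (-65) (.splitN 28160 .sq (.split 4 24 (.wt 0) (.split 3 (-92) (.split 1 (-74)
    (.splitN 32858 .sq (.splitN 36192 (.split 2 (-185) (.div 2) (.split 7 161 (.split 4 48 (.wt
    0) (.split 1 (-92) (.split 3 (-119) .sq (.lin 6)) (.lin 0))) (.lin 9))) (.wt 5))) (.lin 8))
    (.lin 6)))) (.lin 8)) (.lin 6))) (.lin 9))) (.wt 5)) (.lin 9))) (.wt 3)) (.lin 9))) (.wt 0)))
    (.lin 6)) (.lin 8)) (.lin 6)) (.lin 0))) (.split 2 (-98) (.split 7 251 (.split 3 (-56)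
    (.splitN 83410 (.split 0 251 (.split 4 214 (.split 5 (-230) (.lin 4) (.split 4 187 (.split 2
    (-262) .sq (.split 7 224 (.split 3 (-249) .sq (.split 5 (-31) (.splitN 24119 .sq (.split 4 7
    (.wt 0) (.split 0 78 (.lin 12) (.split 6 35 (.wt 2) (.split 2 (-107) (.split 3 (-65) (.splitN
    76507 (.split 4 16 (.wt 2) (.split 0 87 (.lin 12) (.split 0 227 (.split 4 160 (.split 7 197
    (.split 1 (-59) (.split 3 (-110) (.splitN 44549 .sq (.wt 0)) (.lin 11)) (.split 7 110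
    (.splitN 60846 (.split 0 188 (.split 5 (-167) (.lin 4) (.split 4 124 (.splitN 59029 (.split 5
    (-160) .sq (.split 1 (-38) (.split 3 (-83) (.wt 2) (.lin 11)) (.split 5 (-58) (.split 4 32
    (.wt 2) (.split 5 (-67) (.split 4 34 (.wt 2) (.split 5 (-76) (.split 0 105 (.lin 12) (.split
    6 49 (.wt 2) (.split 2 (-116) (.split 3 (-74) (.split 1 (-28) (.wt 2) (.split 5 (-85) (.split
    4 115 (.splitN 46295 .sq (.split 7 70 (.wt 0) (.split 2 (-125) (.split 0 114 (.lin 12)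
    (.split 5 (-94) (.split 4 106 (.splitN 53261 .sq (.split 0 127 (.wt 0) (.split 5 (-112) .sq
    (.lin 4)))) (.lin 8)) (.lin 4))) (.lin 2)))) (.lin 8)) (.lin 4))) (.lin 11)) (.lin 9))))
    (.lin 8))) (.lin 8))) (.lin 4)))) (.wt 3)) (.lin 12))) .sq) (.wt 3)) (.split 2 (-161) (.split
    0 141 (.lin 12) (.split 5 (-85) (.split 4 106 (.splitN 73952 .sq (.wt 3)) (.lin 12)) (.lin
    4))) (.lin 9)))) (.lin 12)) (.lin 12)) .sq))) (.wt 3)) (.lin 11)) (.lin 9)))))) (.split 3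
    (-83) (.split 1 (-47) (.split 4 169 (.splitN 28736 .sq (.split 4 9 (.wt 0) (.split 3 (-92)
    (.split 1 (-56) (.splitN 32786 .sq (.splitN 48505 (.split 4 16 (.wt 3) (.split 3 (-101)
    (.split 1 (-65) (.split 0 87 (.lin 12) (.split 7 206 (.splitN 37484 .sq (.split 5 (-6)
    (.split 4 36 (.wt 0) (.split 3 (-119) (.split 0 105 (.lin 12) .sq) (.lin 6))) (.wt 1))) (.lin
    6))) (.lin 8)) (.lin 6))) (.wt 3))) (.lin 8)) (.lin 6)))) (.lin 6)) (.lin 8)) (.lin 6))))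
    (.lin 9))) (.lin 12))) (.lin 3)) .sq) (.wt 3)) (.lin 11)) (.lin 9)) (.lin 9)))) (.lin 9)))
    (.wt 3)) (.lin 12)) (.lin 12)) .sq) (.wt 3)) (.split 2 (-134) (.split 7 278 (.split 3 (-92)
    (.splitN 40670 .sq (.splitN 74554 (.split 4 8 (.wt 0) (.split 0 78 (.lin 12) (.split 0 189
    (.split 5 (-167) (.lin 4) (.split 4 124 (.split 7 170 (.splitN 65508 (.split 0 161 (.split 5
    (-140) (.lin 4) (.split 4 97 (.split 7 143 (.split 4 16 (.wt 3) (.split 0 87 (.lin 12)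
    (.split 7 134 (.splitN 44243 .sq (.splitN 60954 (.split 5 (-14) (.split 0 149 (.split 5
    (-122) (.lin 4) (.split 4 79 (.split 7 116 (.splitN 58019 (.split 2 (-311) (.div 2) (.split 6
    242 (.split 1 (-44) (.wt 3) (.split 3 (-282) (.lin 2) (.split 5 (-49) (.splitN 46475 .sq
    (.split 6 177 (.split 3 (-210) (.lin 11) (.split 6 166 (.split 7 65 (.wt 1) (.split 5 (-58)
    (.split 2 (-143) (.split 0 96 (.lin 12) (.split 4 70 (.splitN 52793 .sq (.split 1 (-29) (.wt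
    0) (.split 5 (-76) (.split 4 33 (.wt 0) (.split 0 105 (.lin 12) (.split 5 (-85) .sq (.lin
    4)))) (.lin 4)))) (.lin 12))) (.lin 9)) (.lin 8))) (.wt 1))) (.wt 1))) (.lin 4)))) (.lin 9)))
    (.wt 1)) (.lin 12)) (.lin 12))) .sq) (.wt 1)) (.wt 1))) (.lin 12)))) (.lin 12)) (.lin 12)))
    .sq) (.wt 1)) (.lin 12)) (.lin 12))) .sq))) (.wt 1))) (.lin 11)) (.lin 9)) (.lin 9)))

def cert5_141_2 : Cert :=
  (.split 7 60 (.split 2 (-108) (.lin 2) (.splitN 177116 (.split 0 4880 (.split 5 (-4919) (.lin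
    1) (.split 4 4930 (.split 4 1952 (.split 5 (-2021) (.lin 0) (.split 0 2086 (.split 5 (-977)
    (.div 5) (.splitN 122797 (.split 5 (-671) (.div 5) (.split 4 682 (.split 0 736 (.splitN 84605
    (.split 5 (-455) (.div 5) (.split 4 466 (.split 0 520 (.split 4 439 (.split 6 27 (.wt 2)
    (.split 2 (-62) (.split 3 (-47) (.splitN 76524 (.split 0 254 (.split 5 (-284) (.lin 1)
    (.split 4 286 (.split 4 241 (.split 5 (-239) (.lin 4) (.split 4 223 (.split 7 39 (.split 2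
    (-90) (.lin 2) (.split 0 58 (.wt 2) (.split 5 (-49) (.split 0 62 (.wt 2) (.split 5 (-58)
    (.split 6 38 (.wt 2) (.split 2 (-71) (.split 3 (-56) (.splitN 48390 (.split 0 85 (.wt 2)
    (.split 5 (-76) (.split 4 51 (.lin 8) (.split 0 93 (.wt 2) (.split 5 (-85) (.split 4 60 (.lin
    8) (.split 0 155 (.split 5 (-158) (.lin 1) (.split 4 151 (.split 5 (-140) (.lin 4) (.split 4
    124 (.splitN 45775 (.splitN 38737 (.wt 6) (.split 7 28 (.wt 0) (.splitN 42652 (.wt 1) (.split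
    4 62 (.wt 0) (.wt 1))))) (.wt 3)) (.lin 8))) (.lin 0))) .sq)) (.lin 4)))) (.lin 4))) (.wt 3))
    (.lin 11)) (.lin 9))) (.lin 4))) (.lin 4)))) (.split 0 69 (.lin 12) (.split 5 (-58) (.split 4
    205 (.splitN 41423 (.wt 1) (.splitN 71537 .cand (.wt 3))) (.lin 8)) (.lin 4)))) (.lin 8)))
    (.lin 3)) (.lin 0))) .sq) (.wt 3)) (.lin 11)) (.lin 9))) (.lin 8)) (.lin 1)) (.lin 0))) (.wt
    3)) (.lin 1)) (.lin 0))) (.wt 1))) (.lin 1))) (.div 4)) (.lin 0))) (.div 0)) (.wt 0)))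
    (.split 2 (-89) (.split 0 87 (.lin 12) (.split 5 (-76) (.splitN 1519801 (.split 2 (-8429)
    (.div 2) (.split 7 8396 (.split 5 (-8429) (.div 5) (.split 4 8404 (.splitN 1367212 (.splitN
    45338 (.wt 1) (.split 0 1159 (.split 2 (-1188) (.lin 3) (.split 7 1160 (.split 4 1123 (.split
    5 (-1148) (.lin 4) (.splitN 837905 (.split 0 903 (.split 2 (-927) (.lin 3) (.split 7 899
    (.split 4 862 (.split 5 (-887) (.lin 4) (.splitN 740619 (.split 0 847 (.split 2 (-873) (.lin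
    3) (.split 7 845 (.split 4 808 (.split 5 (-833) (.lin 4) (.split 6 39 (.split 3 (-48) (.lin
    11) (.splitN 489162 (.split 0 682 (.split 2 (-693) (.lin 3) (.split 7 665 (.split 4 628
    (.split 5 (-671) (.lin 4) (.splitN 424358 (.split 0 633 (.split 2 (-639) (.lin 3) (.split 7
    611 (.split 4 574 (.split 5 (-617) (.lin 4) (.split 7 194 (.splitN 206893 (.split 0 429
    (.split 5 (-410) (.lin 4) (.split 6 30 (.wt 2) (.split 3 (-47) (.splitN 131235 .cand (.wt 1))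
    (.lin 11)))) .sq) (.wt 3)) (.split 2 (-224) (.split 0 213 (.lin 3) (.split 4 439 (.split 5
    (-202) (.splitN 178451 .sq (.split 4 34 (.wt 0) (.split 5 (-220) (.split 0 231 (.lin 3)
    (.splitN 195299 .sq (.split 4 44 (.wt 1) (.split 5 (-238) (.split 0 249 (.lin 12) (.split 7
    575 (.splitN 213074 .sq (.split 6 28 (.splitN 241188 (.split 0 340 (.wt 0) (.split 5 (-337)
    .sq (.lin 4))) (.wt 0)) (.wt 1))) (.lin 8))) (.lin 8))))) (.lin 0)))) (.lin 0)) (.lin 0)))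
    (.lin 2)))) (.lin 3)) (.lin 2))) .sq) (.wt 3))) (.lin 3)) (.lin 2))) .sq) (.wt 1))) (.split 2
    (-107) (.split 3 (-56) (.splitN 143132 (.split 0 336 (.split 2 (-360) (.lin 3) (.split 5
    (-572) (.lin 1) (.split 7 314 (.split 4 277 (.split 5 (-320) (.lin 4) (.splitN 121232 (.split
    0 306 (.split 4 250 (.split 5 (-293) (.lin 4) (.split 2 (-313) .sq (.split 7 260 (.split 7
    126 (.split 2 (-180) (.lin 2) (.splitN 95861 (.split 0 260 (.split 5 (-248) (.lin 4) (.split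
    4 71 (.split 5 (-194) (.lin 0) (.split 7 93 (.split 2 (-144) (.lin 2) (.split 0 160 (.split 5
    (-158) (.lin 0) (.split 5 (-149) (.lin 4) (.split 4 47 (.split 5 (-131) (.lin 0) (.splitN
    71513 .cand (.wt 1))) (.split 0 105 (.lin 3) (.split 0 114 (.lin 12) (.split 6 50 (.split 3
    (-57) (.lin 11) (.split 7 81 (.splitN 70314 .cand (.wt 1)) (.wt 2))) (.wt 2))))))) (.lin
    12))) (.split 2 (-143) (.split 0 123 (.lin 12) (.split 5 (-103) (.split 5 (-112) (.splitN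
    63791 .sq (.split 4 60 (.split 5 (-176) (.lin 0) (.split 6 52 (.split 2 (-171) (.lin 9)
    (.split 3 (-57) (.lin 11) (.split 4 40 (.split 5 (-149) (.lin 0) (.split 0 160 (.splitN 73235
    (.split 4 25 (.wt 2) (.split 5 (-121) (.split 0 132 (.lin 3) (.split 7 115 (.split 2 (-153)
    (.lin 2) (.split 0 142 (.split 5 (-131) (.lin 0) (.split 7 105 (.splitN 66698 .sq (.wt 0))
    (.wt 2))) (.lin 3))) (.wt 0))) (.lin 0))) (.wt 1)) (.lin 3))) (.wt 2)))) (.wt 6))) (.wt 2)))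
    (.lin 4)) (.lin 0))) (.lin 2)))) (.split 0 132 (.lin 3) (.split 0 141 (.lin 12) (.splitN
    77770 (.split 7 82 (.split 2 (-135) (.lin 2) (.split 0 197 (.split 5 (-185) (.lin 4) (.split
    4 133 (.split 0 185 (.split 5 (-167) (.lin 4) (.split 3 (-59) (.split 6 52 (.lin 11) (.splitN
    69666 (.wt 0) (.wt 1))) (.wt 2))) (.wt 2)) (.lin 8))) (.wt 2))) (.wt 0)) (.wt 6)))))) .sq)
    (.wt 1))) (.split 2 (-179) (.split 0 150 (.lin 3) (.split 0 159 (.lin 12) (.split 5 (-148)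
    (.split 4 169 (.splitN 103319 .sq (.splitN 106204 (.split 4 75 (.wt 1) (.wt 0)) (.wt 1)))
    (.lin 8)) (.lin 4)))) (.lin 2))) (.lin 2)))) (.lin 3)) .sq) (.wt 1))) (.lin 3)) (.lin 2))))
    .sq) (.wt 1)) (.lin 11)) (.lin 9)))) (.lin 3)) (.lin 2))) .sq) (.wt 1))) (.lin 3)) (.lin 2)))
    .sq) (.wt 1))) (.lin 3)) (.lin 2))) .sq)) (.wt 1)) (.lin 0))) (.lin 2))) (.wt 1)) (.lin 4)))
    (.lin 2)))

def cert5_141_3 : Cert :=
  (.split 4 46 (.splitN 112011 (.split 0 303 (.split 5 (-284) (.lin 4) (.split 2 (-315) .sq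
    (.split 3 (-300) (.lin 2) (.split 7 251 (.split 6 287 (.splitN 107091 (.split 2 (-305) .sq
    (.split 7 233 (.split 4 17 (.split 5 (-239) (.lin 0) (.splitN 69397 (.split 0 224 (.split 5
    (-212) (.lin 4) (.split 2 (-239) .sq (.split 5 (-176) (.lin 0) (.split 0 187 (.split 6 215
    (.split 7 170 (.split 7 66 (.split 0 79 (.splitN 41957 (.split 2 (-221) (.div 2) (.split 6
    197 (.split 0 35 (.wt 2) (.split 5 (-31) (.splitN 23802 (.wt 6) (.split 7 26 (.wt 0) (.split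
    6 179 (.split 4 7 (.wt 0) (.split 5 (-40) (.split 0 51 (.lin 12) (.splitN 30898 (.wt 1)
    (.split 7 37 (.wt 0) (.split 0 60 (.lin 12) (.split 6 170 (.split 5 (-49) (.splitN 34155 (.wt
    1) (.split 6 62 (.wt 0) (.split 3 (-83) (.split 7 45 (.wt 0) (.split 2 (-125) (.split 0 69
    (.lin 12) (.split 6 161 (.split 5 (-58) (.splitN 39005 .sq (.split 3 (-133) (.wt 0) (.split 6
    116 (.split 3 (-95) (.wt 0) (.split 6 80 (.wt 0) (.lin 11))) (.lin 11)))) (.lin 4)) (.lin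
    3))) (.lin 2))) (.lin 11)))) (.lin 4)) (.lin 3)))))) (.lin 8))) (.lin 9)))) (.lin 4))) (.lin
    0))) (.wt 3)) (.lin 12)) (.split 2 (-134) (.split 0 78 (.lin 12) (.split 5 (-67) (.split 6
    161 (.splitN 43217 .sq (.split 4 8 (.wt 0) (.split 5 (-76) (.split 0 87 (.lin 12) (.splitN
    46214 .sq (.split 7 79 (.wt 3) (.split 2 (-143) (.split 0 96 (.lin 12) (.split 3 (-165) (.lin
    2) (.split 5 (-85) (.splitN 53180 .sq (.split 6 86 (.splitN 58667 (.split 7 109 (.wt 0)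
    (.split 0 132 (.lin 12) (.split 5 (-121) .sq (.lin 4)))) (.wt 3)) (.wt 1))) (.lin 4)))) (.lin
    2))))) (.lin 8)))) (.lin 9)) (.lin 4))) (.lin 2))) (.lin 2)) (.lin 0)) (.lin 3))))) .sq) (.wt
    3))) (.split 5 (-40) (.split 0 51 (.lin 12) (.splitN 93980 (.split 0 266 (.split 5 (-248)
    (.lin 4) (.split 2 (-277) .sq (.split 7 73 (.split 5 (-104) (.lin 8) (.split 0 115 (.splitN
    64419 (.split 2 (-218) .sq (.split 6 206 (.split 7 48 (.split 5 (-77) (.lin 8) (.split 0 88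
    (.splitN 48235 (.split 2 (-177) .sq (.split 6 143 (.split 7 35 (.split 0 79 (.split 6 74 (.wt
    2) (.split 2 (-107) (.split 3 (-92) (.splitN 32039 .sq (.splitN 39262 (.split 7 26 (.wt 0)
    (.split 2 (-116) (.split 0 60 (.lin 12) (.split 5 (-49) .sq (.lin 4))) (.lin 2))) (.wt 3)))
    (.lin 11)) (.lin 9))) (.lin 12)) (.split 0 69 (.lin 12) (.split 5 (-58) (.split 6 64 (.wt 2)
    (.split 2 (-116) (.split 3 (-83) (.split 6 89 (.splitN 39927 (.wt 1) (.splitN 45652 (.split 4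
    29 (.wt 0) (.split 5 (-67) (.split 6 76 (.wt 1) (.split 2 (-125) (.split 3 (-92) .sq (.lin
    2)) (.lin 9))) (.lin 8))) (.wt 3))) (.split 2 (-143) (.split 3 (-110) .sq (.lin 2)) (.lin
    9))) (.lin 2)) (.lin 9))) (.lin 4)))) (.lin 9))) (.wt 3)) (.lin 12))) (.split 0 78 (.lin 12)
    (.split 5 (-67) (.splitN 40518 (.wt 3) .cand) (.lin 4)))) (.lin 0))) (.wt 1)) (.lin 12)))
    (.split 2 (-143) (.split 0 105 (.lin 12) (.split 3 (-201) (.lin 2) (.split 5 (-94) (.splitN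
    56987 .sq (.split 6 96 (.split 3 (-102) (.lin 11) (.split 0 220 (.split 5 (-203) (.lin 4)
    (.split 4 39 (.split 6 74 (.split 3 (-84) (.lin 11) (.splitN 67496 (.split 7 136 (.split 2
    (-207) (.lin 2) (.split 0 169 (.split 5 (-167) (.lin 0) (.split 5 (-158) (.lin 4) (.split 7
    82 (.wt 1) (.split 2 (-152) (.split 0 114 (.lin 12) (.split 5 (-103) (.splitN 64925 .sq (.wt
    6)) (.lin 4))) (.lin 2))))) (.lin 12))) (.wt 0)) (.wt 6))) (.wt 2)) (.wt 2))) (.wt 2))) (.wt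
    2))) (.lin 4)))) (.lin 2))))) .sq) (.wt 1))) (.lin 8))) (.lin 2))) (.wt 1)) (.lin 9)) (.lin
    2))))) .sq) (.wt 1)) (.split 5 (-67) (.split 0 78 (.lin 12) (.split 7 287 (.splitN 109938
    (.split 0 287 (.split 5 (-275) (.lin 4) (.split 4 259 (.split 7 233 (.split 2 (-290) .sq
    (.split 3 (-273) (.lin 2) (.splitN 103554 (.split 0 275 (.split 5 (-257) (.lin 4) (.split 7
    74 (.splitN 71313 (.split 0 208 (.split 5 (-194) (.lin 4) (.split 2 (-213) .sq (.split 3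
    (-192) (.lin 2) (.split 7 48 (.splitN 54803 (.split 0 165 (.split 5 (-149) (.lin 4) (.split 4
    133 (.split 2 (-171) .sq (.split 3 (-156) (.lin 2) (.split 7 35 (.splitN 47026 (.split 0 144
    (.split 5 (-131) (.lin 4) (.split 4 115 (.split 2 (-151) .sq (.split 6 116 (.split 7 30
    (.splitN 36124 (.split 6 79 (.wt 1) (.split 2 (-107) (.split 3 (-92) .sq (.lin 2)) (.lin 9)))
    (.wt 3)) .cand) (.lin 9))) (.lin 8))) .sq) (.wt 1)) (.split 0 96 (.lin 12) (.split 3 (-138)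
    (.lin 2) (.split 5 (-85) (.split 4 115 (.splitN 52122 (.split 6 119 (.split 2 (-162) (.lin 9)
    (.split 3 (-129) (.lin 2) (.split 6 82 (.split 2 (-126) (.lin 9) (.split 3 (-93) (.lin 2)
    (.split 4 105 (.split 5 (-131) (.lin 8) (.split 6 72 (.split 2 (-117) (.lin 9) (.split 3
    (-84) (.lin 2) (.splitN 46151 (.wt 3) (.split 4 87 (.split 0 124 (.split 5 (-113) (.lin 4)
    (.split 0 99 (.split 5 (-86) (.lin 4) (.split 4 52 (.wt 0) (.lin 8))) (.wt 1))) (.lin 12))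
    (.wt 0))))) (.wt 2))) (.wt 0)))) (.wt 2)))) (.wt 0)) (.wt 1)) (.lin 8)) (.lin 4))))))) (.lin
    8))) .sq) (.wt 1)) (.split 0 105 (.lin 12) (.split 5 (-94) (.split 4 151 (.split 3 (-82)
    (.split 2 (-125) (.split 6 70 (.lin 11) (.splitN 53261 .sq (.split 6 125 (.split 3 (-138)
    (.lin 11) (.splitN 57290 (.split 4 87 (.split 5 (-140) (.lin 8) (.wt 6)) (.wt 0)) (.wt 6)))
    (.wt 1)))) (.lin 2)) (.wt 2)) (.lin 8)) (.lin 4))))))) .sq) (.wt 1)) (.split 2 (-143) (.split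
    0 132 (.lin 12) (.split 3 (-219) (.lin 2) (.split 5 (-121) (.splitN 74994 (.split 3 (-92)
    (.split 6 79 (.lin 11) .sq) (.wt 0)) (.wt 6)) (.lin 4)))) (.lin 2)))) .sq) (.wt 1)))) (.lin
    8)) (.lin 8))) .sq) (.wt 1)) (.lin 8))) (.lin 8)))

def cert5_141_4 : Cert :=
  (.split 1 (-5) (.split 3 (-38) (.split 7 24 (.splitN 49839 (.split 2 (-275) (.div 2) (.split 6
    260 (.splitN 27687 .cand (.wt 3)) (.lin 9))) (.wt 0)) (.split 2 (-53) (.split 0 33 (.lin 12)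
    (.split 5 (-22) (.splitN 19804 (.wt 1) (.split 6 60 (.split 3 (-66) (.lin 11) (.split 4 22
    (.splitN 169831 (.split 2 (-941) (.div 2) (.split 0 925 (.split 7 908 (.splitN 139761 (.split
    2 (-761) (.div 2) (.split 5 (-734) (.lin 0) (.split 7 728 (.splitN 85040 (.split 2 (-473)
    (.div 2) (.split 0 457 (.split 7 440 (.splitN 80000 (.split 2 (-437) (.div 2) (.split 0 421
    (.split 7 404 (.split 0 37 (.wt 2) (.split 5 (-31) (.split 0 43 (.wt 2) (.split 2 (-62)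
    (.split 5 (-40) (.split 7 34 (.lin 8) (.split 4 7 (.wt 2) (.split 6 32 (.wt 2) (.split 2
    (-71) (.split 3 (-47) (.splitN 33647 (.wt 1) (.splitN 73163 (.split 2 (-401) (.div 2) (.split
    5 (-365) (.lin 0) (.split 7 359 (.split 7 42 (.wt 0) (.split 2 (-80) (.splitN 37450 (.wt 1)
    (.split 7 48 (.wt 0) (.split 0 69 (.lin 12) (.split 5 (-58) (.splitN 40450 (.wt 1) (.split 7
    56 (.wt 0) (.split 0 78 (.lin 12) (.split 5 (-67) (.splitN 42901 (.wt 1) (.split 7 64 (.wt 0)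
    (.split 2 (-107) (.split 0 87 (.lin 12) (.split 5 (-76) (.split 6 39 (.wt 2) (.split 3 (-56)
    (.splitN 68295 (.split 7 74 (.wt 0) (.split 0 96 (.lin 12) (.split 5 (-85) (.splitN 47600
    (.wt 1) (.split 7 87 (.wt 0) (.split 2 (-134) (.split 0 105 (.lin 12) (.split 5 (-94)
    (.splitN 51398 .sq (.split 7 102 (.wt 0) (.split 2 (-152) (.split 0 114 (.lin 3) (.split 0
    123 (.lin 12) (.split 5 (-112) .sq (.lin 4)))) (.lin 2)))) (.lin 4))) (.lin 2)))) (.lin 4))))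
    (.wt 3)) (.lin 11))) (.lin 4))) (.lin 2)))) (.lin 4))))) (.lin 4))))) (.lin 2))) (.lin 2))))
    (.wt 3))) (.lin 11)) (.lin 0))))) (.lin 4)) (.lin 3))) (.lin 4))) (.lin 2)) (.lin 3))) (.wt
    3)) (.lin 2)) (.lin 3))) (.wt 3)) (.lin 2)))) (.wt 0)) (.lin 2)) (.lin 3))) (.wt 0)) (.split
    5 (-40) (.split 0 51 (.lin 12) cert5_141_2) (.lin 8)))) (.split 2 (-89) (.split 3 (-74)
    (.splitN 206179 (.split 2 (-1139) (.div 2) (.split 3 (-1119) (.lin 2) (.split 7 1070 (.split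
    5 (-1139) (.div 5) (.split 4 1123 (.splitN 181265 (.split 2 (-995) (.div 2) (.split 3 (-975)
    (.lin 2) (.split 0 400 (.split 5 (-383) (.lin 4) (.split 4 367 (.split 7 386 (.splitN 152051
    (.split 0 362 (.split 5 (-347) (.lin 4) (.split 4 331 (.split 2 (-372) .sq (.split 3 (-678)
    (.lin 1) (.split 3 (-354) (.lin 2) (.split 7 305 (.split 6 341 (.splitN 140266 (.split 0 348
    (.split 5 (-329) (.lin 4) cert5_141_3) .sq) (.wt 1)) (.lin 9)) (.lin 2))))) (.lin 8))) .sq)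
    (.wt 1)) (.lin 8)) (.lin 8))) .sq))) (.wt 1)) (.lin 8))) (.lin 2)))) (.wt 1)) (.lin 11))
    (.lin 9)))) (.lin 4))) (.lin 2))) (.lin 11)) (.split 5 (-13) (.split 7 12 (.splitN 83452
    (.split 2 (-455) (.div 2) (.split 3 (-444) (.lin 2) (.split 5 (-455) (.div 5) (.split 4 448
    (.split 0 280 (.split 5 (-275) (.lin 4) (.splitN 77624 (.split 2 (-419) (.div 2) (.split 3
    (-408) (.lin 2) (.split 2 (-271) .sq (.split 3 (-264) (.lin 2) (.split 4 43 (.split 5 (-50)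
    (.lin 8) (.split 0 52 (.splitN 61529 (.split 2 (-239) .sq (.split 3 (-228) (.lin 2) (.split 6
    76 (.split 2 (-81) (.lin 9) (.split 3 (-75) (.lin 2) (.splitN 20455 (.wt 1) (.split 4 17
    (.split 5 (-23) (.lin 8) (.split 0 25 (.split 6 48 (.split 3 (-57) (.lin 6) (.split 4 11
    (.split 0 16 (.wt 0) (.lin 12)) (.split 5 (-22) (.split 0 24 (.lin 12) (.splitN 37982 (.split
    3 (-42) (.split 2 (-53) (.split 6 43 (.lin 0) (.wt 0)) (.lin 1)) (.wt 0)) (.wt 1))) (.lin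
    8)))) (.split 3 (-47) (.splitN 33136 (.split 4 11 (.split 0 16 (.wt 0) (.lin 12)) (.split 0
    24 (.lin 12) (.wt 0))) (.wt 1)) (.lin 6))) (.lin 12))) (.split 0 33 (.lin 12) (.wt 2))))))
    (.split 2 (-89) (.split 3 (-83) (.splitN 21752 .sq (.splitN 38671 (.split 4 21 (.split 5
    (-23) (.lin 8) (.splitN 31626 (.split 2 (-167) (.div 2) (.split 6 161 (.split 4 13 (.split 0
    16 (.wt 0) (.lin 12)) (.wt 0)) (.lin 0))) (.wt 1))) (.wt 0)) (.wt 1))) (.lin 2)) (.lin 9)))))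
    (.wt 1)) (.lin 12))) (.split 0 60 (.lin 12) (.splitN 59328 (.wt 0) (.wt 1)))))))) (.wt 1)))
    .sq) (.lin 8))))) (.wt 1)) (.split 0 24 (.lin 12) (.split 5 (-22) (.split 0 46 (.split 5
    (-41) (.lin 4) (.split 0 42 (.split 5 (-32) (.lin 4) (.split 3 (-63) (.split 2 (-71) (.split
    6 43 (.lin 0) (.wt 0)) (.lin 1)) (.wt 0))) (.wt 0))) (.wt 0)) (.lin 4)))) (.lin 4)))

def cert5_141_5 : Cert :=
  (.split 1 (-12) (.split 0 24 (.lin 4) (.split 3 (-29) (.splitN 571677 (.split 0 15860 (.split 2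
    (-3173) (.div 2) (.split 6 3158 (.split 7 3158 (.split 4 6344 (.split 0 9502 (.split 5
    (-3173) (.div 5) (.splitN 487835 (.split 2 (-2705) (.div 2) (.split 6 2690 (.split 7 2690
    (.split 5 (-2705) (.div 5) (.split 6 12 (.wt 2) (.split 2 (-26) (.split 3 (-38) (.splitN
    252872 (.split 0 6950 (.split 2 (-1391) (.div 2) (.split 6 1376 (.split 7 1367 (.split 4 2780
    (.split 0 4147 (.split 5 (-1391) (.div 5) (.splitN 232871 (.split 2 (-1283) (.div 2) (.split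
    0 477 (.split 3 (-1740) (.lin 1) (.split 5 (-455) (.lin 4) (.split 4 466 (.split 7 467
    (.splitN 169817 (.split 2 (-941) (.div 2) (.split 6 926 (.split 0 407 (.split 5 (-383) (.lin
    4) (.split 4 394 (.split 7 395 (.splitN 158076 (.split 2 (-392) .sq (.split 6 377 (.split 7
    368 (.split 3 (-393) .sq (.split 7 54 (.splitN 59048 (.split 2 (-329) (.div 2) (.split 6 314
    (.splitN 58753 (.split 0 229 (.split 4 214 (.split 2 (-231) .sq (.split 6 215 (.splitN 55496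
    (.split 3 (-225) .sq (.split 6 197 (.split 7 20 (.splitN 28246 (.split 2 (-149) (.div 2)
    (.split 6 134 (.splitN 22805 (.split 2 (-113) (.div 2) (.split 6 98 (.split 6 23 (.wt 2)
    (.split 2 (-35) (.split 3 (-47) (.split 5 (-20) (.wt 2) (.split 0 124 (.split 1 (-120) (.lin
    4) (.split 4 124 (.split 6 27 (.wt 2) (.split 3 (-56) (.split 5 (-12) (.wt 2) (.splitN 19266
    (.split 2 (-95) (.div 2) (.split 6 80 (.split 4 7 (.wt 2) (.split 0 99 (.split 1 (-93) (.lin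
    4) (.split 4 88 (.split 7 8 (.wt 2) (.split 3 (-65) (.split 1 (-29) (.split 2 (-53) (.split 4
    79 (.split 6 71 (.splitN 14301 (.wt 1) (.split 0 35 (.wt 0) (.split 3 (-74) (.split 1 (-38)
    (.split 0 47 (.wt 0) (.split 3 (-83) (.split 1 (-47) (.split 4 33 (.lin 8) .sq) (.lin 4))
    (.lin 1))) (.lin 4)) (.lin 1)))) (.lin 9)) (.lin 8)) (.lin 9)) (.lin 8)) (.lin 6))) (.lin
    8))) .sq)) (.lin 9))) (.wt 1))) (.lin 11))) (.lin 8))) .sq)) (.lin 11)) (.lin 9))) (.lin 9)))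
    (.wt 3)) (.lin 9))) (.wt 0)) (.split 2 (-44) (.split 0 33 (.lin 12) cert5_141_0) (.lin 9)))
    (.lin 11))) (.wt 3)) (.lin 9))) (.lin 12)) .sq) (.wt 3)) (.lin 9))) (.wt 3)) (.split 2 (-80)
    (.split 0 69 (.lin 12) (.split 6 323 (.split 4 340 (.splitN 137335 (.split 0 352 (.split 5
    (-329) (.lin 4) (.split 4 286 (.split 7 341 (.split 2 (-355) .sq (.split 6 287 (.split 3
    (-348) .sq cert5_141_1) (.lin 9))) (.lin 12)) (.lin 12))) .sq) (.wt 3)) (.lin 12)) (.lin 9)))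
    (.lin 9)))) (.lin 9)) (.lin 9))) (.wt 3)) (.lin 12)) (.lin 12))) .sq) (.lin 9))) (.wt 3))
    (.lin 12)) (.lin 12)))) .sq)) (.wt 3))) (.lin 3)) (.div 4)) (.lin 9)) (.lin 9))) (.div 0))
    (.wt 3)) (.lin 11)) (.lin 9)))) (.lin 9)) (.lin 9))) (.wt 3))) (.lin 3)) (.div 4)) (.lin 9))
    (.lin 9))) (.div 0)) (.wt 3)) (.lin 11))) (.split 6 24 (.splitN 10745 (.wt 1) (.split 1 (-5)
    (.split 3 (-20) (.splitN 20606060 (.split 2 (-114467) (.div 2) (.split 7 114452 (.split 5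
    (-114467) (.div 5) (.split 4 114478 (.split 0 114478 (.splitN 17424865 (.split 2 (-96791)
    (.div 2) (.split 7 96776 (.split 5 (-96791) (.div 5) (.split 4 96802 (.split 0 96802 (.splitN
    1384133 (.split 2 (-7673) (.div 2) (.split 7 7658 (.split 5 (-7673) (.div 5) (.split 4 7684
    (.split 0 7684 (.splitN 1162216 (.split 2 (-6449) (.div 2) (.split 7 6434 (.split 5 (-6449)
    (.div 5) (.split 4 6460 (.split 0 6460 (.split 7 8 (.wt 0) (.split 2 (-26) (.split 0 24 (.lin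
    12) (.split 5 (-13) (.splitN 807745 (.split 2 (-4487) (.div 2) (.split 7 4472 (.split 5
    (-4487) (.div 5) (.split 0 4498 (.splitN 55265 (.wt 6) (.split 4 12 (.wt 0) (.split 5 (-22)
    (.splitN 167958 (.wt 6) (.split 0 77 (.wt 0) (.split 5 (-67) (.wt 2) (.lin 4)))) (.lin 8))))
    (.lin 4))) (.lin 2))) (.wt 5)) (.lin 4))) (.lin 2))) (.lin 4)) (.lin 0))) (.lin 2))) (.wt 5))
    (.lin 4)) (.lin 0))) (.lin 2))) (.wt 5)) (.lin 4)) (.lin 0))) (.lin 2))) (.wt 3)) (.lin 4))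
    (.lin 0))) (.lin 2))) (.wt 3)) (.lin 11)) (.split 5 (-13) (.split 3 (-21) (.lin 11) (.split 7
    25 (.split 6 12 (.split 2 (-27) (.lin 9) (.splitN 79912 (.wt 6) (.split 7 11 (.splitN 84750
    (.split 5 (-455) (.div 5) (.split 4 448 (.wt 0) (.lin 0))) (.wt 0)) (.wt 1)))) (.split 2
    (-26) (.split 3 (-20) (.split 7 12 (.split 2 (-27) (.lin 2) (.splitN 99069 (.split 5 (-545)
    (.div 5) (.split 0 16 (.wt 2) (.split 5 (-22) (.split 4 15 (.lin 0) (.split 0 50 (.split 5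
    (-41) (.lin 1) (.split 0 39 (.split 5 (-32) (.lin 1) (.split 4 25 (.splitN 52781 (.splitN
    42990 (.wt 1) (.split 4 16 (.wt 0) (.split 5 (-31) (.split 0 33 (.lin 1) (.wt 0)) (.lin 0))))
    (.wt 1)) (.lin 0))) (.wt 2))) (.wt 2))) (.lin 1)))) (.wt 1))) (.split 2 (-35) (.split 0 24
    (.lin 3) (.wt 0)) (.lin 2))) (.lin 11)) (.lin 9))) (.wt 3))) (.lin 4)))) (.split 2 (-35)
    (.split 3 (-29) cert5_141_4 (.lin 11)) (.lin 9))))

def cert5_141 : Cert :=
  (.split 0 15 (.lin 12) (.splitN 5320 (.wt 1) (.split 5 (-1) cert5_141_5 (.split 1 (-20) (.split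
    3 (-29) (.splitN 10688 (.wt 1) (.split 7 8 (.wt 0) (.split 3 (-38) (.split 1 (-29) (.split 2
    (-26) (.splitN 358705 (.split 0 9920 (.split 1 (-3969) (.div 1) (.split 0 3958 (.split 4 3940
    (.split 2 (-1985) (.div 2) (.split 6 1961 (.split 7 1970 (.splitN 305216 (.split 1 (-3357)
    (.div 1) (.split 4 3328 (.split 2 (-1679) (.div 2) (.split 6 1655 (.split 7 1664 (.split 6 33
    (.wt 2) (.split 3 (-65) (.split 2 (-53) (.splitN 175236 (.split 1 (-1917) (.div 1) (.split 0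
    1906 (.split 4 1888 (.split 2 (-959) (.div 2) (.split 6 935 (.split 7 917 (.split 5 958
    (.splitN 162131 (.split 1 (-1773) (.div 1) (.split 4 1744 (.split 2 (-887) (.div 2) (.split 6
    863 (.split 7 845 (.splitN 139575 (.split 1 (-1521) (.div 1) (.split 0 1510 (.split 4 1492
    (.split 2 (-761) (.div 2) (.split 6 737 (.split 7 719 (.split 0 26 (.wt 2) (.split 1 (-38)
    (.split 3 (-74) (.splitN 120870 (.split 2 (-671) (.div 2) (.split 6 647 (.split 7 629 (.split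
    5 670 (.splitN 102067 (.split 1 (-1125) (.div 1) (.split 0 1114 (.split 4 1096 (.split 2
    (-563) (.div 2) (.split 6 539 (.split 7 521 (.splitN 17430 (.wt 6) (.split 4 9 (.wt 2)
    (.split 5 7 (.wt 2) (.split 1 (-47) (.split 3 (-83) (.splitN 81409 (.split 1 (-873) (.div 1)
    (.split 0 853 (.split 4 835 (.split 2 (-437) (.div 2) (.split 6 413 (.split 7 395 (.split 5
    436 (.split 7 17 (.wt 0) (.split 3 (-92) (.split 1 (-56) (.split 2 (-62) (.split 0 42 (.lin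
    12) (.splitN 72775 (.split 1 (-801) (.div 1) (.split 4 754 (.split 2 (-401) (.div 2) (.split
    6 368 (.split 7 359 (.split 0 43 (.wt 2) (.split 1 (-65) (.split 3 (-101) (.splitN 68432
    (.split 1 (-729) (.div 1) (.split 4 682 (.split 2 (-365) (.div 2) (.split 6 332 (.split 7 323
    (.split 5 364 (.split 6 71 (.wt 2) (.split 2 (-107) (.split 3 (-146) (.split 7 278 (.splitN
    47222 .sq (.split 0 56 (.wt 0) (.split 1 (-74) (.split 3 (-155) (.splitN 52199 .sq (.splitN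
    61313 (.split 1 (-657) (.div 1) (.split 4 610 (.split 2 (-329) (.div 2) (.split 6 296 (.split
    7 242 (.splitN 58655 (.split 1 (-621) (.div 1) (.split 4 574 (.split 2 (-311) (.div 2)
    (.split 6 278 (.split 7 224 (.split 0 100 (.wt 0) (.split 3 (-200) .sq (.lin 7))) (.lin 9))
    (.lin 9))) (.lin 8))) (.wt 5)) (.lin 9)) (.lin 9))) (.lin 8))) (.wt 3))) (.lin 7)) (.lin
    4)))) (.lin 9)) (.lin 7)) (.lin 9))) (.div 5)) (.lin 9)) (.lin 9))) (.lin 8))) (.wt 3)) (.lin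
    7)) (.lin 4))) (.lin 9)) (.lin 9))) (.lin 8))) (.wt 3))) (.lin 9)) (.lin 8)) (.lin 6))) (.div
    5)) (.lin 9)) (.lin 9))) (.lin 8)) (.lin 4))) (.wt 3)) (.lin 6)) (.lin 4))))) (.lin 9)) (.lin
    9))) (.lin 8)) (.lin 4))) (.wt 5)) (.div 5)) (.lin 9)) (.lin 9))) (.wt 3)) (.lin 7)) (.lin
    4))) (.lin 9)) (.lin 9))) (.lin 8)) (.lin 4))) (.wt 5)) (.lin 9)) (.lin 9))) (.lin 8))) (.wt
    3)) (.div 5)) (.lin 9)) (.lin 9))) (.lin 8)) (.lin 4))) (.wt 3)) (.lin 9)) (.lin 6))) (.lin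
    9)) (.lin 9))) (.lin 8))) (.wt 3)) (.lin 9)) (.lin 9))) (.lin 8)) (.lin 4))) (.div 0)) (.wt
    3)) (.lin 9)) (.lin 8)) (.lin 6)))) (.lin 6)) (.lin 4)))))

theorem check5_141 :
    check task5 cert5_141
      [(7, ⟨some (7), none⟩), (7, ⟨none, some (-2)⟩), (1, ⟨none, some (-17)⟩), (7, ⟨none, some (-11)⟩), (7, ⟨some (7), none⟩), (5, ⟨none, none⟩), (8, ⟨some (8), none⟩), (8, ⟨some (8), none⟩)] ⟨some (3960), none⟩ = true := by
  decide +kernel

def cert5_142 : Cert :=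
  (.lin 11)

theorem check5_142 :
    check task5 cert5_142
      [(7, ⟨some (7), none⟩), (7, ⟨none, some (-2)⟩), (1, ⟨none, some (-17)⟩), (7, ⟨some (-2), some (-2)⟩), (7, ⟨none, none⟩), (5, ⟨none, none⟩), (8, ⟨some (8), none⟩), (8, ⟨some (8), none⟩)] ⟨some (3960), none⟩ = true := by
  decide +kernel

def cert5_143_0 : Cert :=
  (.split 0 60 (.split 5 (-95) (.lin 4) (.splitN 100161 (.splitN 92802 (.split 2 (-292) .sq
    (.split 6 251 (.split 7 224 (.split 1 17 (.split 3 (-47) (.splitN 46337 (.split 2 (-257)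
    (.div 2) (.split 6 224 (.split 7 197 (.splitN 44862 (.split 2 (-239) (.div 2) (.split 7 170
    (.splitN 40680 (.split 2 (-221) (.div 2) (.split 7 161 (.split 7 152 (.splitN 25529 (.wt 6)
    (.split 0 17 (.wt 0) (.split 6 170 (.split 5 (-31) (.splitN 30592 (.wt 6) (.split 0 28 (.wt
    0) (.split 2 (-116) (.split 6 161 (.split 5 (-40) (.splitN 39586 (.split 2 (-203) (.div 2)
    (.split 6 143 (.wt 6) (.lin 3))) (.wt 5)) (.lin 4)) (.lin 3)) (.lin 3)))) (.lin 4)) (.lin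
    3)))) (.lin 9)) (.lin 2))) (.wt 3)) (.lin 9))) (.wt 0)) (.lin 2)) (.lin 0))) (.wt 0)) (.lin
    11)) (.split 5 (-40) (.split 3 (-68) (.split 2 (-134) (.split 7 188 (.split 6 97 (.lin 11)
    (.splitN 37142 .sq (.splitN 54483 (.split 0 22 (.wt 0) (.split 2 (-143) (.split 5 (-49)
    (.split 7 43 (.lin 12) (.splitN 41516 .sq (.split 0 25 (.wt 0) (.split 2 (-152) (.split 6 233
    (.split 5 (-58) (.split 7 52 (.lin 12) (.splitN 46538 .sq (.split 1 25 (.wt 0) (.split 2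
    (-161) (.split 5 (-67) (.split 6 106 (.lin 11) .sq) (.lin 4)) (.lin 2))))) (.lin 4)) (.lin
    3)) (.lin 3))))) (.lin 4)) (.lin 3))) (.wt 3)))) (.lin 2)) (.lin 2)) (.split 6 107 (.splitN
    87061 (.split 2 (-277) .sq (.split 7 206 (.split 0 16 (.wt 2) (.split 5 (-49) (.split 7 43
    (.lin 12) (.splitN 70634 (.split 2 (-242) .sq (.split 7 170 (.split 3 (-37) (.split 0 29 (.wt
    2) (.split 5 (-58) (.split 4 (-114) (.wt 2) (.split 7 161 (.split 4 (-106) (.wt 2) (.split 7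
    152 (.split 4 (-98) (.wt 2) (.split 7 143 (.split 4 (-91) (.wt 2) (.split 7 134 (.split 4
    (-83) (.wt 2) (.split 7 125 (.split 4 (-39) (.split 2 (-143) (.split 7 79 (.lin 12) (.splitN
    39491 .sq (.splitN 42130 (.split 0 40 (.wt 0) (.split 5 (-67) (.split 7 88 (.lin 12) .sq)
    (.lin 4))) (.wt 3)))) (.lin 10)) (.split 7 89 (.split 3 (-60) (.wt 2) (.split 6 98 (.split 0
    35 (.wt 2) (.split 5 (-67) (.split 3 (-54) (.wt 2) (.split 6 89 (.split 4 (-32) (.wt 2)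
    (.split 7 80 (.split 3 (-47) (.wt 2) (.split 6 80 (.splitN 45829 (.split 0 44 (.wt 2) (.split
    7 70 (.lin 12) (.split 1 31 (.wt 2) (.split 2 (-143) (.split 5 (-85) (.split 6 70 (.lin 7)
    .sq) (.lin 4)) (.lin 2))))) (.wt 3)) (.lin 11))) (.lin 12))) (.lin 11))) (.lin 4))) (.lin
    11))) (.lin 12))) (.lin 12))) (.lin 12))) (.lin 12))) (.lin 12))) (.lin 12))) (.lin 4)))
    (.split 5 (-58) (.split 1 33 (.lin 11) (.split 6 71 (.splitN 59823 (.split 2 (-218) .sq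
    (.split 7 152 (.split 7 81 (.split 2 (-153) (.lin 9) (.splitN 50933 (.split 0 38 (.split 3
    (-28) (.wt 2) (.split 6 62 .cand (.lin 11))) (.split 4 (-48) (.lin 3) (.split 7 61 (.lin 12)
    (.split 3 (-21) .cand (.wt 2))))) (.wt 1))) (.split 2 (-152) (.split 4 (-38) (.splitN 41858
    .sq (.splitN 52158 (.split 2 (-175) .sq (.split 7 107 (.split 0 25 (.wt 0) (.split 5 (-67)
    (.splitN 43514 .sq (.split 3 (-28) (.wt 0) (.wt 1))) (.lin 4))) (.lin 9))) (.wt 1))) (.lin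
    12)) (.lin 9))) (.lin 9))) (.wt 1)) (.lin 11))) (.lin 7))) (.lin 9))) (.wt 1))) (.lin 4)))
    (.lin 9))) (.wt 1)) (.lin 11))) (.lin 4))) (.lin 9)) (.lin 3))) (.wt 3)) (.wt 1))) (.split 2
    (-143) (.split 5 (-67) (.split 3 (-228) (.lin 5) (.split 7 79 (.lin 12) (.splitN 39752 .sq
    (.splitN 68488 (.split 1 7 (.wt 1) (.split 5 (-76) (.split 0 167 (.split 5 (-203) (.lin 4)
    (.split 2 (-212) .sq (.split 5 (-167) (.lin 0) (.split 3 (-111) (.lin 2) (.split 4 (-84)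
    (.lin 3) (.split 7 143 (.splitN 60047 (.split 2 (-196) .sq (.split 5 (-149) (.lin 0) (.split
    0 106 (.split 3 (-93) (.lin 2) (.split 6 107 (.split 7 125 (.split 3 (-21) (.split 3 (-52)
    (.split 2 (-152) (.split 7 116 (.split 5 (-113) (.lin 10) (.split 6 70 (.lin 11) (.splitN
    47834 .sq (.splitN 53897 (.split 1 25 (.wt 0) (.split 2 (-170) (.split 5 (-94) (.split 6 88
    (.lin 11) .sq) (.lin 4)) (.lin 2))) (.wt 1))))) (.lin 2)) (.lin 2)) (.splitN 53925 (.split 2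
    (-177) .sq (.split 5 (-131) (.lin 0) (.split 0 88 (.split 7 107 (.split 5 (-122) (.lin 10)
    (.splitN 51997 (.split 2 (-168) .sq (.split 6 80 (.split 7 98 (.split 5 (-113) (.lin 10)
    (.split 1 17 (.wt 3) (.split 5 (-85) (.splitN 43505 .sq (.split 4 (-38) (.wt 1) (.split 3
    (-38) (.split 1 25 (.wt 3) (.split 2 (-152) (.split 5 (-94) (.split 6 70 (.lin 11) .sq) (.lin
    4)) (.lin 2))) (.split 1 33 (.lin 11) (.wt 6))))) (.lin 4)))) (.lin 9)) (.lin 3))) (.wt 1)))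
    (.lin 9)) (.lin 3)))) (.wt 1))) (.wt 6)) (.lin 9)) (.lin 3))) (.lin 3)))) (.wt 1)) (.lin
    9))))))) .sq) (.lin 4))) (.wt 1))))) (.lin 4)) (.lin 3)))

def cert5_143_1 : Cert :=
  (.splitN 125601 (.split 2 (-331) .sq (.split 1 268 (.split 7 251 (.split 6 287 (.split 5 (-284)
    (.lin 10) (.split 0 60 (.split 3 (-69) (.split 1 214 (.split 2 (-161) (.split 7 197 (.split 6
    124 (.lin 11) (.splitN 56096 .sq (.splitN 68202 (.split 0 29 (.wt 0) (.split 2 (-179) (.split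
    5 (-85) (.split 7 52 (.lin 12) .sq) (.lin 4)) (.lin 3))) (.wt 3)))) (.lin 2)) (.lin 10))
    (.lin 2)) (.splitN 103452 (.split 2 (-295) .sq (.split 7 215 (.split 6 251 (.split 5 (-248)
    (.lin 10) (.split 0 28 (.splitN 87087 (.split 2 (-266) .sq (.split 7 197 (.split 6 224
    (.split 7 83 (.splitN 60064 (.split 2 (-212) .sq (.split 1 151 (.split 6 170 (.split 7 57
    (.splitN 47063 (.split 0 16 (.wt 2) (.split 5 (-76) (.split 4 (-30) (.lin 12) (.split 7 43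
    (.lin 12) (.split 2 (-171) .sq (.split 5 (-131) (.lin 1) (.split 1 106 (.split 6 125 (.splitN
    33296 (.wt 1) (.split 3 (-28) (.wt 2) (.splitN 42716 (.split 6 115 (.split 1 88 (.split 5
    (-113) (.lin 4) (.split 6 104 (.split 1 79 (.split 5 (-104) (.lin 4) (.split 2 (-151) .sq
    (.split 4 (-25) (.split 6 89 (.split 7 52 (.lin 12) (.splitN 38219 (.wt 1) (.wt 0))) (.lin
    3)) (.split 7 44 (.splitN 39102 (.wt 3) (.wt 1)) (.lin 12))))) (.lin 11)) (.wt 6))) (.lin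
    11)) (.wt 2)) (.wt 1)))) (.lin 3)) (.lin 2)))))) (.lin 4))) (.wt 3)) (.split 2 (-125) (.split
    1 124 (.split 2 (-134) (.split 5 (-149) (.lin 1) (.split 6 143 (.split 4 (-38) (.splitN 45512
    (.split 0 18 (.wt 2) (.split 5 (-76) (.splitN 37790 .sq (.split 3 (-29) (.wt 0) (.split 6 72
    (.wt 2) (.split 2 (-143) (.split 1 60 (.lin 11) (.split 5 (-85) .sq (.lin 4))) (.lin 3)))))
    (.lin 4))) (.wt 3)) (.lin 12)) (.lin 9))) (.lin 9)) (.lin 2)) (.lin 1))) (.lin 3)) (.lin 2)))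
    (.wt 3)) (.split 2 (-161) (.split 6 170 (.split 4 (-65) (.splitN 50957 .sq (.splitN 53135
    (.split 0 19 (.wt 0) (.split 5 (-76) .sq (.lin 4))) (.wt 3))) (.lin 12)) (.lin 9)) (.lin 9)))
    (.lin 3)) (.lin 1))) (.wt 3)) (.split 2 (-125) (.split 5 (-85) (.split 7 52 (.lin 12)
    (.splitN 72643 (.split 2 (-229) .sq (.split 5 (-203) (.lin 1) (.split 1 151 (.split 7 152
    (.split 5 (-185) (.lin 10) (.splitN 67069 (.split 2 (-214) .sq (.split 1 133 (.split 7 134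
    (.split 6 152 (.split 5 (-167) (.lin 10) (.split 3 (-37) (.split 1 115 (.split 2 (-143)
    (.split 7 116 (.split 5 (-149) (.lin 10) (.split 6 88 (.lin 11) (.splitN 44108 .sq (.split 4
    (-58) (.wt 3) (.split 7 107 (.split 4 (-50) (.wt 3) (.split 7 98 (.split 4 (-44) (.wt 3)
    (.split 7 89 (.split 4 (-38) (.wt 3) (.split 7 80 (.split 7 54 (.wt 3) (.split 1 106 (.split
    2 (-152) (.splitN 47798 .sq (.split 4 (-29) (.wt 1) (.split 5 (-94) (.split 7 71 (.splitN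
    50102 .sq (.wt 1)) (.lin 12)) (.lin 8)))) (.lin 9)) (.lin 2))) (.lin 12))) (.lin 12))) (.lin
    12))) (.lin 12)))))) (.lin 2)) (.lin 10)) (.lin 2)) (.splitN 57026 (.split 2 (-190) .sq
    (.split 7 116 (.split 4 (-41) (.split 2 (-152) (.split 5 (-122) (.lin 10) (.split 7 79 (.lin
    12) (.splitN 48239 .sq (.wt 1)))) (.lin 3)) (.split 3 (-25) .cand (.wt 2))) (.lin 2))) (.wt
    1)))) (.lin 3)) (.lin 2)) (.lin 2))) (.wt 1))) (.lin 2)) (.lin 2)))) (.wt 1))) (.lin 4))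
    (.lin 3)))) (.lin 3)) (.lin 2))) (.wt 1))) (.split 2 (-152) (.split 6 242 (.split 5 (-112)
    (.split 3 (-192) (.lin 5) (.split 7 79 (.lin 12) (.splitN 54314 .sq (.split 3 (-23) (.split 2
    (-161) (.split 6 79 (.lin 11) (.splitN 58931 .sq (.split 3 (-34) (.split 1 205 (.split 2
    (-170) (.split 7 233 (.split 5 (-266) (.lin 10) (.split 6 88 (.lin 11) (.splitN 64034 .sq
    (.split 0 72 (.split 4 (-144) (.wt 0) (.split 7 206 (.split 4 (-115) (.wt 0) (.split 7 179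
    (.wt 1) (.lin 12))) (.lin 12))) (.wt 1))))) (.lin 2)) (.lin 10)) (.lin 2)) (.wt 1)))) (.lin
    2)) (.wt 1))))) (.lin 4)) (.lin 3)) (.lin 3)))) (.lin 3)) (.lin 2)) (.lin 2))) (.wt 1))

def cert5_143_2 : Cert :=
  (.split 6 60 (.split 1 34 (.split 3 (-48) (.lin 11) (.splitN 566900 (.split 2 (-3137) (.div 2)
    (.split 0 3085 (.split 5 (-3119) (.lin 0) (.split 7 3104 (.splitN 516987 (.split 2 (-2867)
    (.div 2) (.split 7 2834 (.splitN 123724 (.split 2 (-671) (.div 2) (.split 0 619 (.split 5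
    (-653) (.lin 0) (.split 7 638 (.splitN 109835 (.split 2 (-599) (.div 2) (.split 7 566 (.split
    0 20 (.wt 2) (.split 2 (-71) (.split 5 (-31) (.split 7 43 (.lin 12) (.split 0 313 (.split 5
    (-347) (.lin 4) (.splitN 104387 (.split 2 (-311) .sq (.split 7 278 (.splitN 91913 (.split 2
    (-294) .sq (.split 7 260 (.split 5 (-248) (.lin 10) (.split 1 15 (.splitN 31503 (.split 2
    (-167) (.div 2) (.split 7 134 (.splitN 27557 (.split 2 (-149) (.div 2) (.split 0 97 (.split 7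
    116 (.splitN 26452 (.split 2 (-131) (.div 2) (.split 7 98 (.wt 2) (.lin 2))) (.wt 0)) (.lin
    2)) (.lin 3))) (.wt 0)) (.lin 2))) (.wt 0)) (.split 5 (-40) (.split 3 (-39) (.lin 11) (.split
    6 34 (.lin 11) (.split 0 77 (.split 5 (-104) (.lin 4) (.splitN 76527 (.split 2 (-263) .sq
    (.split 7 224 (.split 7 99 (.split 2 (-153) (.lin 9) (.splitN 58454 (.split 0 26 (.wt 2)
    (.split 5 (-49) (.split 6 44 (.split 1 25 (.split 0 37 (.wt 2) (.split 5 (-58) (.split 7 61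
    (.lin 12) (.split 3 (-26) (.wt 2) (.split 4 (-38) (.split 0 61 (.splitN 41191 (.splitN 38366
    (.wt 6) (.split 0 51 (.wt 0) (.split 5 (-67) (.wt 6) (.lin 4)))) (.wt 0)) (.lin 12)) (.split
    1 20 (.split 6 35 (.splitN 38412 (.wt 1) (.wt 0)) (.lin 11)) .cand)))) (.lin 4))) (.lin 11))
    .cand) (.lin 4))) (.wt 3))) (.split 2 (-143) (.split 4 (-38) (.splitN 37448 .sq (.splitN
    55991 (.split 0 29 (.wt 2) (.split 5 (-49) (.split 3 (-31) (.wt 2) (.split 2 (-194) .sq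
    (.split 7 152 (.splitN 52073 (.split 2 (-177) .sq (.split 7 134 (.split 6 44 (.split 1 25
    (.splitN 44913 (.split 0 39 (.wt 0) (.split 5 (-58) (.splitN 40436 .sq (.split 0 50 (.wt 0)
    (.split 1 19 (.wt 0) (.split 2 (-152) (.split 5 (-76) .sq (.lin 4)) (.lin 2))))) (.lin 4)))
    (.wt 3)) (.lin 11)) (.split 2 (-161) (.split 1 24 (.lin 11) (.split 5 (-58) (.split 7 116
    (.splitN 47168 .sq (.wt 1)) (.lin 9)) (.lin 4))) (.lin 9))) (.lin 2))) (.wt 3)) (.lin 2))))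
    (.lin 4))) (.wt 3))) (.lin 12)) (.lin 9))) (.lin 2))) (.wt 3))) (.split 2 (-134) (.split 5
    (-94) (.split 7 97 (.lin 12) (.splitN 44918 .sq (.splitN 73822 (.split 0 182 (.split 2 (-213)
    .sq (.split 4 (-111) (.lin 0) (.split 5 (-185) (.lin 0) (.split 7 170 (.splitN 68409 (.split
    2 (-197) .sq (.split 7 152 (.split 5 (-149) (.lin 10) (.split 3 (-29) (.split 2 (-143)
    (.split 1 25 (.split 7 143 (.split 5 (-140) (.lin 10) (.split 6 43 (.lin 11) (.splitN 48563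
    .sq (.splitN 54895 (.split 1 17 (.wt 0) (.split 2 (-152) (.split 5 (-103) (.split 6 52 (.lin
    11) .sq) (.lin 4)) (.lin 2))) (.wt 1))))) (.lin 2)) (.lin 11)) (.lin 2)) (.split 6 48 (.split
    1 25 (.splitN 53954 (.split 2 (-160) .sq (.split 7 116 (.split 5 (-113) (.lin 10) (.split 4
    (-38) (.wt 1) (.split 6 42 (.split 1 16 (.wt 0) (.lin 11)) (.wt 6)))) (.lin 2))) (.wt 1))
    (.lin 11)) (.wt 6)))) (.lin 2))) (.wt 1)) (.lin 2))))) .sq) (.wt 1)))) (.lin 4)) (.lin 3)))))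
    (.lin 4)))) (.lin 2))) (.wt 3)) (.lin 2))) (.wt 3))) .sq)) (.lin 4)) (.lin 3))) (.lin 2)))
    (.wt 3)) (.lin 2))) (.lin 3))) (.wt 3)) (.lin 2))) (.wt 1)) (.lin 2))) (.lin 3))) (.wt 1)))
    (.lin 11)) (.split 2 (-98) (.splitN 206905 (.split 2 (-1139) (.div 2) (.split 1 1078 (.split
    3 (-1092) (.lin 2) (.split 7 1106 (.split 5 (-1094) (.lin 10) (.splitN 181975 (.split 1 403
    (.split 2 (-416) .sq (.split 1 358 (.split 3 (-372) (.lin 2) (.split 6 377 (.split 7 350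
    (.split 5 (-374) (.lin 10) (.splitN 145503 (.split 2 (-370) .sq (.split 3 (-327) (.lin 2)
    (.split 6 332 (.split 7 305 (.split 5 (-329) (.lin 10) (.split 1 46 (.splitN 111901 (.split 2
    (-323) .sq (.split 6 278 (.split 7 251 cert5_143_0 (.lin 9)) (.lin 3))) (.wt 1)) (.split 2
    (-107) (.split 3 (-282) (.lin 2) (.split 5 (-67) (.split 6 70 (.lin 11) cert5_143_1) (.lin
    4))) (.lin 2)))) (.lin 9)) (.lin 3)))) (.wt 1))) (.lin 9)) (.lin 3))) (.lin 2))) .sq) (.wt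
    1))) (.lin 2))) (.lin 2))) (.wt 1)) (.lin 3)))

def cert5_143_3 : Cert :=
  (.split 1 64 (.splitN 268375 (.split 2 (-511) .sq (.split 0 430 (.split 3 (-471) (.lin 2)
    (.split 6 476 (.split 7 440 (.split 1 20 (.split 3 (-47) (.splitN 89741 (.split 0 19 (.wt 2)
    (.split 2 (-98) (.split 5 (-31) (.split 7 34 (.lin 12) (.split 0 264 (.split 5 (-275) (.lin
    4) (.split 7 278 (.splitN 81250 (.split 2 (-264) .sq (.split 5 (-203) (.lin 0) (.split 6 233
    (.split 7 206 (.splitN 23681 (.wt 1) (.splitN 72895 (.split 2 (-251) .sq (.split 6 215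
    (.split 7 188 (.split 1 11 (.split 3 (-56) (.splitN 34601 (.split 2 (-185) (.div 2) (.split 0
    106 (.split 6 143 (.split 7 116 (.splitN 29445 (.split 2 (-149) (.div 2) (.split 6 107
    (.split 7 80 (.wt 0) (.lin 2)) (.lin 0))) (.wt 0)) (.lin 2)) (.lin 0)) (.lin 3))) (.wt 0))
    (.lin 11)) .cand) (.lin 2)) (.lin 0))) (.wt 3))) (.lin 2)) (.lin 0)))) (.wt 3)) (.lin 8)))
    .sq)) (.lin 4)) (.lin 3))) (.wt 3)) (.lin 11)) (.split 5 (-40) (.split 0 82 (.split 5 (-140)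
    (.lin 4) (.split 7 89 (.splitN 118042 (.split 2 (-332) .sq (.split 6 332 (.split 3 (-372)
    (.lin 6) (.split 6 296 (.split 0 35 (.split 5 (-95) (.lin 4) (.split 7 44 (.splitN 71363
    (.split 3 (-140) (.wt 2) (.split 2 (-261) (.lin 1) (.split 6 197 (.split 3 (-99) (.wt 2)
    (.split 6 152 (.split 3 (-79) (.wt 2) (.split 6 134 (.split 3 (-71) (.wt 2) (.split 6 125
    (.split 3 (-37) (.split 0 23 (.wt 2) (.split 5 (-49) (.split 3 (-62) (.wt 2) (.split 6 116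
    (.split 0 25 (.wt 2) (.split 5 (-58) (.split 7 43 (.lin 12) (.split 3 (-56) (.wt 2) (.split 2
    (-153) (.lin 1) (.split 6 107 (.split 1 25 (.wt 2) (.split 5 (-67) (.splitN 41361 (.wt 1)
    .cand) (.lin 4))) (.lin 3))))) (.lin 4))) (.lin 11))) (.lin 4))) (.split 1 33 (.lin 11)
    (.split 5 (-49) (.split 6 89 (.split 0 16 (.wt 2) (.split 7 34 (.lin 12) (.split 3 (-25)
    .cand (.split 1 42 (.lin 11) (.wt 2))))) (.lin 11)) (.lin 4)))) (.lin 11))) (.lin 11))) (.lin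
    11))) (.lin 11)))) (.wt 1)) (.lin 12))) (.split 5 (-67) (.split 3 (-246) (.lin 5) (.split 7
    52 (.lin 12) (.splitN 76508 (.split 3 (-31) (.split 2 (-246) .sq (.split 3 (-165) (.lin 2)
    (.split 3 (-79) (.split 2 (-161) (.split 6 106 (.lin 11) (.splitN 54152 .sq (.split 7 60 (.wt
    1) (.split 2 (-170) (.split 0 51 (.lin 12) (.split 5 (-76) (.splitN 60308 .sq (.wt 1)) (.lin
    4))) (.lin 2))))) (.lin 10)) (.splitN 70871 (.splitN 39677 (.wt 3) .cand) (.wt 1))))) (.wt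
    2)) (.wt 1)))) (.lin 4))) (.lin 3))) (.lin 0))) (.wt 1)) (.lin 12))) (.split 5 (-112) (.split
    7 97 (.lin 12) (.split 3 (-63) (.split 2 (-188) (.split 7 413 (.split 5 (-428) (.lin 10)
    (.split 6 88 (.lin 11) (.splitN 78128 .sq (.splitN 85428 (.split 2 (-473) (.div 2) (.split 3
    (-345) (.lin 2) (.split 7 377 (.split 5 (-392) (.lin 10) (.split 0 299 (.split 5 (-356) (.lin
    4) (.split 7 305 (.split 0 165 (.split 5 (-221) (.lin 4) (.split 7 170 (.wt 1) (.lin 12)))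
    (.wt 1)) (.lin 12))) (.wt 1))) (.lin 2)))) (.wt 1))))) (.lin 2)) (.lin 2)) (.wt 2))) (.lin
    4))) (.lin 4))) (.lin 9)) (.lin 3))) (.lin 3))) (.wt 1)) (.split 2 (-116) (.split 3 (-552)
    (.lin 2) (.split 5 (-85) (.split 6 88 (.lin 11) (.splitN 34955 .sq (.splitN 236331 (.split 0
    446 (.split 7 449 (.split 1 451 (.splitN 221804 (.split 2 (-447) .sq (.split 1 394 (.split 3
    (-345) (.lin 2) (.split 7 350 (.split 5 (-410) (.lin 10) (.splitN 199759 (.split 2 (-421) .sq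
    (.split 3 (-318) (.lin 2) (.split 5 (-383) (.lin 10) (.split 0 70 (.split 7 80 (.splitN
    107333 (.split 1 272 (.split 2 (-288) .sq (.split 6 260 (.split 5 (-257) (.lin 10) (.split 0
    33 (.split 7 35 (.splitN 52038 (.split 1 138 (.split 2 (-167) .sq (.split 1 115 (.split 6 134
    (.splitN 48458 (.split 3 (-35) (.wt 2) (.split 2 (-157) .sq (.split 5 (-122) (.lin 10)
    (.split 0 20 (.split 7 26 (.wt 0) (.lin 12)) (.split 2 (-125) (.split 5 (-94) (.split 7 34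
    (.lin 12) (.splitN 39653 .sq (.wt 1))) (.lin 4)) (.lin 3)))))) (.wt 3)) (.lin 3)) (.lin 2)))
    .sq) (.wt 3)) (.lin 12)) (.split 2 (-134) (.split 5 (-103) (.split 3 (-174) (.lin 5) (.split
    7 43 (.lin 12) (.splitN 73812 (.split 3 (-22) (.split 6 97 (.lin 11) (.split 3 (-42) (.split
    2 (-161) (.split 5 (-230) (.lin 10) (.split 6 115 (.lin 11) (.splitN 60308 .sq (.split 0 61
    (.split 7 71 (.split 0 44 (.split 7 53 (.wt 1) (.lin 12)) (.wt 1)) (.lin 12)) (.wt 1)))))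
    (.lin 10)) (.wt 2))) (.wt 0)) (.wt 1)))) (.lin 4)) (.lin 3)))) (.lin 3))) .sq) (.wt 1)) (.lin
    12)) (.split 7 88 (.lin 12) (.wt 2)))))) (.wt 1))) (.lin 2))) (.lin 2))) (.wt 1)) .sq) (.lin
    12)) .sq) (.wt 1)))) (.lin 4))) (.lin 2)))

def cert5_143_4 : Cert :=
  (.split 7 16 (.lin 12) (.split 0 8 (.wt 2) (.split 2 (-53) (.split 5 (-22) (.split 7 25 (.lin
    12) (.split 6 60 (.split 1 34 (.splitN 3220770 (.split 2 (-17879) (.div 2) (.split 5 (-17870)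
    (.lin 0) (.split 0 17836 (.split 7 17846 (.splitN 2798993 (.split 0 1670 (.split 2 (-1728)
    (.lin 3) (.split 5 (-1724) (.lin 0) (.split 7 1700 (.splitN 1243832 (.split 0 1111 (.split 2
    (-1170) (.lin 3) (.split 7 1142 (.split 0 119 (.split 2 (-180) (.lin 3) (.split 5 (-149)
    (.lin 4) (.split 7 125 (.split 0 16 (.wt 2) (.split 5 (-31) (.split 7 34 (.lin 12) (.splitN
    25098 (.wt 1) (.split 1 15 (.split 0 25 (.wt 0) (.split 5 (-40) (.split 7 43 (.lin 8)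
    (.splitN 27302 (.wt 1) (.split 0 37 (.wt 0) (.split 5 (-49) (.split 7 52 (.lin 8) (.split 3
    (-31) (.wt 0) (.split 6 35 (.splitN 31463 (.wt 1) (.wt 0)) (.lin 11)))) (.lin 4))))) (.lin
    4))) (.split 2 (-71) (.split 5 (-40) (.split 3 (-39) (.lin 11) (.split 6 34 (.lin 11) (.split
    7 66 (.split 2 (-135) (.lin 2) (.split 0 88 (.split 0 52 (.split 5 (-86) (.lin 4) (.split 3
    (-29) (.split 1 25 (.split 5 (-77) (.lin 4) (.split 6 43 (.lin 11) (.split 0 35 (.wt 2)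
    (.split 2 (-98) (.split 5 (-49) (.split 7 52 (.lin 12) (.split 1 16 (.wt 2) (.split 2 (-107)
    (.split 5 (-67) (.split 3 (-30) (.lin 11) (.split 6 52 (.lin 11) (.splitN 45729 (.wt 0)
    (.splitN 49257 (.split 0 43 (.split 2 (-108) (.lin 3) (.split 7 53 (.wt 0) (.lin 1))) (.wt
    0)) (.wt 6))))) (.lin 0)) (.lin 2)))) (.lin 0)) (.lin 3))))) (.lin 11)) (.split 0 38 (.split
    5 (-68) (.lin 4) (.split 7 44 (.split 6 37 (.wt 2) (.split 1 24 (.lin 11) (.split 5 (-49)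
    (.splitN 36572 (.wt 1) (.split 0 29 (.split 7 35 (.wt 0) (.lin 12)) (.split 7 43 (.lin 12)
    (.splitN 43363 (.wt 0) (.wt 1))))) (.lin 4)))) (.lin 12))) (.split 5 (-58) (.split 7 52 (.lin
    12) (.split 1 30 (.split 5 (-77) (.lin 4) (.split 6 43 (.split 2 (-99) (.lin 3) (.split 1 16
    (.splitN 44651 (.wt 1) (.wt 0)) (.lin 11))) (.wt 2))) (.wt 2))) (.lin 4))))) (.lin 12)) (.lin
    3))) (.split 2 (-107) (.split 0 60 (.lin 12) (.split 5 (-58) (.splitN 40509 (.wt 1) (.split 3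
    (-29) (.split 1 25 (.split 6 43 (.lin 11) (.splitN 68468 .cand (.wt 1))) (.lin 11)) (.splitN
    52650 (.split 0 73 (.split 5 (-104) (.lin 4) (.wt 2)) (.wt 0)) (.wt 6)))) (.lin 0))) (.lin
    2))))) (.lin 4)) (.lin 2))))) (.lin 4))) (.lin 12)))) (.split 2 (-161) (.split 5 (-130)
    (.split 7 133 (.lin 12) (.splitN 77399 .sq (.split 1 7 (.wt 0) (.split 2 (-170) (.split 5
    (-139) (.split 3 (-39) (.lin 11) (.split 6 34 (.lin 11) (.splitN 83555 .sq (.splitN 110952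
    (.split 2 (-617) (.div 2) (.split 5 (-599) (.lin 0) (.split 7 575 (.splitN 107054 (.split 2
    (-581) (.div 2) (.split 7 539 (.split 1 16 (.wt 1) (.split 3 (-30) (.lin 11) (.split 6 43
    (.lin 11) (.wt 0)))) (.lin 2))) (.wt 1)) (.lin 2)))) (.wt 1))))) (.lin 4)) (.lin 2))))) (.lin
    4)) (.lin 3))) (.lin 2))) .sq) (.wt 3)) (.lin 2)))) .sq) (.wt 3)) (.lin 2)) (.lin 3)))) (.wt
    3)) (.lin 11)) (.split 2 (-89) (.splitN 831347 (.split 2 (-4613) (.div 2) (.split 1 4561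
    (.split 3 (-4575) (.lin 2) (.split 7 4580 (.split 5 (-4577) (.lin 10) (.splitN 734313 (.split
    2 (-4073) (.div 2) (.split 1 4021 (.split 0 848 (.split 7 854 (.splitN 558586 (.split 2
    (-3101) (.div 2) (.split 3 (-3063) (.lin 2) (.split 5 (-3065) (.lin 10) (.split 0 737 (.split
    7 746 (.splitN 529788 (.split 1 717 (.split 5 (-1445) (.lin 4) (.splitN 495705 (.split 2
    (-699) .sq (.split 1 646 (.split 3 (-660) (.lin 2) (.split 7 629 (.split 5 (-662) (.lin 10)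
    (.splitN 427170 (.split 2 (-648) .sq (.split 1 601 (.split 3 (-615) (.lin 2) (.split 7 584
    (.split 5 (-617) (.lin 10) cert5_143_3) (.lin 9))) (.lin 2))) (.wt 1))) (.lin 9))) (.lin 2)))
    (.wt 1))) .sq) (.wt 1)) (.lin 12)) .sq)))) (.wt 1)) (.lin 12)) .sq) (.lin 2))) (.wt 1)))
    (.lin 2))) (.lin 2))) (.wt 1)) (.lin 3)))) (.lin 4)) (.lin 3))))

def cert5_143_5 : Cert :=
  (.split 4 (-5) (.split 2 (-35) (.split 7 16 (.lin 12) (.split 0 22 (.split 7 26 (.splitN 112522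
    (.split 1 1232 (.split 2 (-1269) (.lin 2) (.split 5 (-2471) (.lin 0) (.split 6 2474 (.split 2
    (-617) (.div 2) (.split 6 593 (.splitN 98586 (.split 2 (-545) (.div 2) (.split 5 (-527) (.lin
    1) (.splitN 47432 (.split 2 (-257) (.div 2) (.split 6 233 (.split 0 7 (.wt 2) (.split 2 (-44)
    (.split 5 (-22) (.split 7 25 (.lin 12) (.splitN 20412 (.wt 1) (.split 1 7 (.wt 0) (.split 2
    (-53) (.split 6 32 (.wt 2) (.split 2 (-62) (.split 1 24 (.lin 11) (.splitN 40789 (.splitN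
    30567 (.wt 3) (.split 6 126 (.split 2 (-153) (.lin 3) (.split 1 115 (.split 5 (-131) (.lin 1)
    (.split 6 123 (.split 2 (-144) (.lin 3) (.split 1 106 (.split 5 (-122) (.lin 1) (.split 6 68
    (.split 2 (-90) (.lin 3) (.split 5 (-68) (.lin 1) (.split 6 53 (.split 2 (-81) (.lin 3)
    (.split 1 43 (.split 5 (-59) (.lin 1) (.splitN 35822 (.split 6 52 (.split 2 (-72) (.lin 3)
    (.split 5 (-50) (.lin 1) (.split 1 28 (.wt 0) (.split 2 (-71) (.split 6 43 (.lin 0) (.wt 0))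
    (.lin 2))))) (.wt 0)) (.wt 3))) (.lin 11))) (.wt 1)))) (.wt 1))) (.lin 11))) (.wt 0))) (.lin
    11))) (.wt 0))) (.wt 1))) (.lin 3))) (.lin 2))))) (.lin 1)) (.lin 3))) (.lin 3))) (.wt 3))))
    (.wt 0)) (.lin 3))) (.lin 0)))) (.div 1)) (.wt 0)) (.lin 12)) (.split 2 (-53) (.split 5 (-31)
    (.split 7 34 (.lin 12) (.split 6 60 (.split 1 43 (.splitN 1899020 (.split 2 (-10535) (.div 2)
    (.split 5 (-10544) (.lin 0) (.split 7 10511 (.splitN 1733481 (.split 0 1313 (.split 2 (-1377)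
    (.lin 3) (.split 5 (-1391) (.lin 0) (.split 7 1358 (.splitN 1093275 (.split 0 1042 (.split 2
    (-1107) (.lin 3) (.split 5 (-1121) (.lin 0) (.split 7 1088 (.splitN 989550 (.split 0 991
    (.split 7 998 (.split 2 (-993) .sq (.split 5 (-968) (.lin 10) (.split 6 30 (.split 1 16
    (.splitN 221226 (.split 0 464 (.split 2 (-495) (.lin 3) (.split 5 (-482) (.lin 0) (.split 7
    476 (.splitN 196198 (.split 2 (-438) .sq (.split 7 413 (.split 7 120 (.split 2 (-144) (.lin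
    2) (.split 0 115 (.split 0 106 (.split 5 (-122) (.lin 4) (.split 1 11 (.split 6 17 (.splitN
    32011 (.wt 1) (.wt 0)) (.lin 11)) (.split 2 (-62) (.split 5 (-40) (.split 6 25 (.lin 11)
    (.splitN 63452 (.split 7 89 (.split 2 (-117) (.lin 2) (.split 5 (-95) (.lin 0) (.splitN 58403
    (.split 7 72 (.split 2 (-99) (.lin 2) (.split 5 (-77) (.lin 0) (.splitN 53762 (.split 7 65
    (.split 2 (-90) (.lin 2) (.split 5 (-68) (.lin 0) (.splitN 50870 (.split 7 58 (.split 2 (-81)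
    (.lin 2) (.split 5 (-59) (.lin 0) (.splitN 47461 (.split 7 52 (.split 2 (-72) (.lin 2)
    (.split 0 34 (.split 5 (-50) (.lin 0) (.splitN 36704 (.wt 1) (.split 7 35 (.wt 1) (.split 2
    (-71) (.split 0 33 (.lin 3) (.wt 0)) (.lin 2))))) (.lin 3))) (.wt 0)) (.wt 1)))) (.wt 0))
    (.wt 1)))) (.wt 0)) (.wt 1)))) (.wt 0)) (.wt 1)))) (.wt 0)) (.wt 1))) (.lin 0)) (.lin 2))))
    (.lin 12)) (.lin 3))) (.split 2 (-143) (.split 0 105 (.lin 3) (.split 0 114 (.lin 12) (.split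
    5 (-121) (.splitN 64520 .sq (.split 6 24 (.split 1 7 (.wt 0) (.lin 11)) (.wt 1))) (.lin 4))))
    (.lin 2))) (.lin 2))) (.wt 1)) (.lin 2)))) .sq) (.wt 1)) (.lin 11)) (.split 1 24 (.lin 11)
    (.wt 2))))) (.lin 12)) .sq) (.wt 1)) (.lin 2)))) .sq) (.wt 1)) (.lin 2)))) .sq) (.wt 1))
    (.lin 2)))) (.wt 1)) (.lin 11)) (.wt 2))) (.lin 4)) (.lin 3)))) (.lin 3)) (.split 7 23
    (.split 0 16 (.split 6 42 (.split 1 25 (.split 7 12 (.split 0 7 (.wt 2) (.lin 12)) (.split 0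
    15 (.lin 12) (.wt 0))) (.lin 11)) (.split 2 (-53) (.split 1 33 (.lin 11) (.split 5 (-40)
    (.splitN 116176 (.split 2 (-635) (.div 2) (.split 5 (-626) (.lin 1) (.split 0 10 (.split 7 8
    (.splitN 52047 (.split 2 (-275) (.div 2) (.split 5 (-257) (.lin 1) (.split 6 104 (.split 2
    (-108) (.lin 3) (.split 1 88 (.split 5 (-149) (.lin 0) (.split 5 (-95) (.lin 1) (.splitN
    47961 (.splitN 39738 (.wt 3) (.split 6 76 (.split 2 (-81) (.lin 3) (.split 5 (-68) (.lin 1)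
    (.split 6 55 (.split 2 (-63) (.lin 3) (.split 1 43 (.split 5 (-50) (.lin 1) (.splitN 44514
    (.split 1 36 (.wt 0) (.split 2 (-62) (.split 6 52 (.lin 0) (.wt 0)) (.lin 2))) (.wt 0)))
    (.lin 11))) (.wt 1)))) (.wt 0))) (.wt 1)))) (.lin 11))) (.wt 0)))) (.wt 1)) (.lin 12)) (.wt
    0)))) (.wt 6)) (.lin 4))) (.lin 3))) (.lin 12)) (.wt 3)))

def cert5_143_6 : Cert :=
  (.split 3 (-12) (.split 2 (-35) (.split 6 25 (.lin 11) (.split 4 (-12) (.split 2 (-53) (.split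
    7 25 (.lin 12) (.splitN 15650 (.wt 1) (.split 0 9 (.wt 2) (.split 2 (-62) (.split 5 (-22)
    (.split 7 34 (.lin 12) cert5_143_2) (.lin 4)) (.lin 3))))) (.lin 3)) (.splitN 10634 (.wt 1)
    (.split 4 (-5) (.split 2 (-44) cert5_143_4 (.lin 3)) (.split 7 18 (.split 0 16 (.split 7 12
    (.split 0 7 (.splitN 46651 (.split 1 512 (.split 2 (-257) (.div 2) (.split 6 746 (.split 1
    223 (.split 6 242 (.splitN 40678 (.split 2 (-221) (.div 2) (.split 6 206 (.splitN 38721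
    (.split 2 (-203) (.div 2) (.split 6 188 (.splitN 29575 (.wt 6) (.split 1 25 (.wt 0) (.split 5
    (-40) (.wt 1) (.lin 4)))) (.lin 3))) (.wt 5)) (.lin 3))) (.wt 0)) (.lin 3)) (.lin 2)) (.lin
    0))) (.div 1)) (.wt 0)) (.lin 12)) (.split 0 15 (.lin 12) (.split 5 (-22) (.split 1 12
    (.split 5 (-23) (.lin 4) (.split 3 (-26) (.split 2 (-53) (.split 6 34 (.lin 0) (.splitN
    321235 (.split 3 (-61) (.split 2 (-89) (.split 6 70 (.lin 0) (.wt 0)) (.lin 1)) (.wt 0)) (.wt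
    1))) (.lin 1)) (.wt 0))) (.wt 0)) (.lin 4)))) (.lin 12)) (.split 0 24 (.lin 12) (.wt 0)))))))
    (.lin 2)) (.split 3 (-5) (.split 2 (-26) (.split 6 16 (.lin 11) (.split 4 (-12) (.split 2
    (-44) (.split 7 25 (.lin 12) (.split 0 22 (.splitN 285120 (.split 1 3140 (.split 5 (-3155)
    (.lin 4) (.split 6 3158 (.split 2 (-1571) (.div 2) (.split 1 1528 (.split 5 (-1544) (.lin 1)
    (.split 7 1556 (.split 6 1538 (.splitN 241505 (.split 2 (-1337) (.div 2) (.split 7 1322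
    (.split 6 21 (.wt 2) (.split 2 (-53) (.split 1 15 (.lin 11) (.split 5 (-22) (.split 1 485
    (.split 5 (-500) (.lin 4) (.split 6 503 (.splitN 210160 (.split 2 (-454) .sq (.split 7 431
    (.split 6 422 (.splitN 170096 (.split 0 7 (.wt 2) .cand) (.wt 3)) (.lin 3)) (.lin 1))) (.wt
    3)) (.lin 7))) .sq) (.lin 4))) (.lin 3))) (.lin 1))) (.wt 3)) (.lin 3)) (.lin 1))) (.lin 2)))
    (.lin 7))) (.div 1)) (.wt 3)) (.split 2 (-62) (.split 5 (-31) (.split 7 43 (.lin 12) (.splitN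
    466484 (.split 2 (-2579) (.div 2) (.split 1 2518 (.split 5 (-5054) (.lin 0) (.split 7 2555
    (.split 5 (-2543) (.lin 10) (.splitN 419122 (.split 2 (-2327) (.div 2) (.split 7 2303 (.split
    4 (-2280) (.lin 3) (.split 6 500 (.split 1 484 (.splitN 391263 (.split 0 617 (.split 5
    (-1094) (.lin 4) (.split 2 (-621) .sq (.split 7 602 (.split 4 (-579) (.lin 3) (.split 5
    (-590) (.lin 10) (.splitN 311720 (.split 2 (-552) .sq (.split 7 530 (.split 5 (-518) (.lin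
    10) (.split 6 83 (.split 1 70 (.splitN 226969 (.split 2 (-469) .sq (.split 7 449 (.split 5
    (-437) (.lin 10) (.split 6 36 (.split 1 25 (.splitN 145873 (.split 2 (-373) .sq (.split 7 350
    (.split 5 (-338) (.lin 10) (.split 6 26 (.split 1 16 (.splitN 85975 (.split 2 (-284) .sq
    (.split 7 260 (.split 1 11 (.split 6 17 (.splitN 28043 (.split 2 (-149) (.div 2) (.split 7
    125 (.splitN 24447 (.wt 1) (.wt 0)) (.lin 2))) (.wt 0)) (.lin 11)) (.split 6 25 (.lin 11)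
    (.splitN 59091 (.splitN 28319 (.wt 1) .cand) (.wt 1)))) (.lin 2))) (.wt 3)) (.lin 11))
    (.split 1 24 (.lin 11) (.split 7 332 (.split 5 (-49) (.splitN 55519 (.split 2 (-293) (.div 2)
    (.split 4 (-228) (.lin 0) (.split 5 (-257) (.lin 0) (.split 0 33 (.split 5 (-50) (.lin 4)
    (.splitN 40765 (.split 2 (-221) (.div 2) (.split 4 (-156) (.lin 0) (.split 4 (-21) (.split 2
    (-89) (.split 7 52 (.lin 1) (.splitN 37618 (.split 2 (-203) (.div 2) (.split 4 (-138) (.lin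
    0) (.split 4 (-40) (.split 2 (-107) (.split 7 70 (.lin 1) (.wt 2)) (.lin 0)) (.wt 0)))) (.wt
    6))) (.lin 0)) (.wt 0)))) (.wt 6))) (.wt 2))))) (.wt 1)) (.lin 4)) (.lin 2))))) (.lin 2)))
    (.wt 1)) (.lin 11)) (.split 1 33 (.lin 11) (.wt 2)))) (.lin 2))) (.wt 1)) (.lin 11)) (.split
    2 (-134) (.split 1 78 (.lin 11) (.split 7 458 (.splitN 46849 (.wt 0) (.wt 1)) (.lin 2)))
    (.lin 9)))) (.lin 2))) (.wt 1)))) (.lin 2)))) .sq) (.wt 1)) (.lin 11)) (.wt 2))) (.lin 2)))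
    (.wt 1))) (.lin 2))) (.lin 2))) (.wt 1))) (.lin 4)) (.lin 3)))) (.lin 3)) cert5_143_5)) (.lin
    2)) (.wt 2)))

def cert5_143_7 : Cert :=
  (.split 7 62 (.splitN 45373 (.split 2 (-239) (.div 2) (.split 1 196 (.split 0 192 (.split 4 169
    (.split 2 (-199) .sq (.split 1 160 (.split 6 179 (.split 5 (-194) .sq (.split 7 32 (.splitN
    30903 (.split 2 (-167) (.div 2) (.split 1 124 (.split 6 143 (.split 5 (-167) (.div 5) (.split
    0 160 (.split 4 142 (.splitN 29302 (.split 2 (-149) (.div 2) (.split 1 106 (.split 6 125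
    (.split 5 (-149) (.div 5) (.split 4 124 (.splitN 25696 (.split 2 (-131) (.div 2) (.split 1 88
    (.split 6 107 (.split 5 (-131) (.div 5) (.split 4 106 (.splitN 15870 (.wt 6) (.split 1 9 (.wt
    0) (.split 0 115 (.split 5 (-40) (.split 4 97 (.splitN 16924 (.wt 6) (.split 1 16 (.wt 0)
    (.split 5 (-49) (.split 4 88 (.split 6 43 (.lin 11) (.split 0 25 (.wt 0) (.split 5 (-58)
    (.split 4 17 (.wt 0) (.split 7 18 (.wt 0) (.split 1 79 (.split 2 (-71) (.split 0 51 (.lin 12)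
    (.split 5 (-76) (.split 4 79 (.split 6 98 (.splitN 20870 (.wt 1) (.split 0 65 (.wt 0) (.split
    5 (-94) (.split 4 42 (.lin 12) .sq) (.lin 4)))) (.lin 9)) (.lin 8)) (.lin 4))) (.lin 9))
    (.lin 2)))) (.lin 4)))) (.lin 8)) (.lin 4)))) (.lin 8)) (.lin 4)) (.lin 4)))) (.lin 8)))
    (.lin 9)) (.lin 2))) (.wt 3)) (.lin 8))) (.lin 9)) (.lin 2))) (.wt 0)) (.lin 8)) (.lin 4)))
    (.lin 9)) (.lin 2))) (.wt 0)) (.split 2 (-71) (.split 0 42 (.lin 12) (.split 5 (-49) (.split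
    4 151 (.split 6 161 (.splitN 42518 (.split 1 7 (.wt 2) (.split 5 (-58) (.split 4 142 (.split
    4 7 (.wt 2) (.split 5 (-67) (.split 0 51 (.lin 12) (.split 6 35 (.wt 2) (.split 2 (-80)
    (.split 0 156 (.split 4 115 (.split 2 (-169) .sq (.split 6 125 (.split 5 (-163) .sq (.split 4
    106 (.split 3 (-34) (.split 1 88 (.splitN 34610 (.splitN 26504 (.wt 6) (.split 1 20 (.wt 0)
    (.split 5 (-76) (.split 4 97 (.splitN 27674 (.wt 6) (.split 0 54 (.wt 0) (.split 5 (-85)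
    (.split 1 34 (.wt 0) (.split 2 (-116) (.split 5 (-103) (.split 6 79 (.lin 11) .sq) (.lin 4))
    (.lin 2))) (.lin 4)))) (.lin 8)) (.lin 4)))) (.wt 0)) (.lin 2)) (.split 6 84 (.split 1 61
    (.splitN 39392 (.split 5 (-153) .sq (.split 0 133 (.split 4 97 (.split 4 39 (.split 0 97
    (.splitN 32024 (.split 1 20 (.wt 2) (.split 5 (-76) (.split 3 (-25) (.wt 2) (.split 4 16 (.wt
    2) (.split 5 (-85) (.split 0 60 (.lin 12) (.splitN 23503 (.wt 1) (.split 7 36 (.wt 0) (.split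
    2 (-89) (.split 0 69 (.lin 12) (.split 5 (-94) (.splitN 27179 .sq (.split 1 29 (.wt 0)
    (.split 2 (-98) (.split 5 (-103) (.split 6 52 (.lin 11) .sq) (.lin 4)) (.lin 2)))) (.lin 4)))
    (.lin 2))))) (.lin 6)))) (.lin 4))) (.wt 3)) (.lin 12)) (.split 5 (-94) (.split 0 78 (.lin
    12) (.splitN 27143 .sq (.split 1 16 (.wt 0) (.split 0 124 (.split 5 (-103) (.split 4 88
    (.splitN 36308 (.split 6 44 (.wt 2) (.split 2 (-89) (.splitN 31679 .sq (.split 3 (-29) (.wt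
    0) (.split 1 33 (.lin 11) (.split 5 (-112) .sq (.lin 4))))) (.lin 9))) (.wt 3)) (.lin 8))
    (.lin 4)) (.lin 4))))) (.lin 6))) (.lin 6)) (.lin 4))) (.wt 1)) (.lin 11)) (.split 2 (-125)
    (.split 1 60 (.lin 11) (.split 5 (-112) .sq (.lin 4))) (.lin 9)))) (.lin 8))) (.lin 9)))
    (.lin 12)) .sq) (.lin 9)))) (.lin 8))) (.lin 8)) (.lin 4))) (.wt 3)) (.lin 9)) (.lin 8))
    (.lin 4))) (.lin 9)))) (.lin 9)) (.lin 2))) (.lin 12)) .sq) (.lin 2))) (.wt 3)) (.split 2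
    (-107) (.split 0 78 (.lin 12) (.split 5 (-85) (.split 6 188 (.splitN 31679 .sq (.split 1 8
    (.wt 0) (.split 5 (-94) (.split 4 160 (.splitN 33497 .sq (.split 4 9 (.wt 0) (.split 0 87
    (.lin 12) (.split 5 (-103) (.split 7 215 (.splitN 36980 .sq (.split 1 16 (.wt 3) (.split 2
    (-116) (.split 5 (-112) (.split 4 151 (.split 6 43 (.lin 11) (.splitN 42002 .sq (.split 4 19
    (.wt 3) (.split 1 151 (.split 0 96 (.lin 12) (.split 5 (-121) (.split 7 197 (.splitN 46133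
    .sq (.split 3 (-62) (.wt 0) (.splitN 54246 (.split 1 35 (.wt 1) (.split 2 (-134) (.split 5
    (-139) (.split 6 61 (.lin 11) .sq) (.lin 4)) (.lin 2))) (.wt 1)))) (.lin 8)) (.lin 4))) (.lin
    8))))) (.lin 8)) (.lin 4)) (.lin 2)))) (.lin 8)) (.lin 4))))) (.lin 8)) (.lin 4)))) (.lin 9))
    (.lin 4))) (.lin 9)))

def cert5_143_8 : Cert :=
  (.split 3 (-12) (.split 2 (-35) (.split 6 25 (.lin 11) (.splitN 1041728 (.split 0 28910 (.split
    1 11564 (.split 5 (-40469) (.lin 4) (.split 2 (-5783) (.div 2) (.split 1 5749 (.split 3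
    (-5763) (.lin 2) (.split 7 5750 (.split 5 (-5783) (.div 5) (.split 0 5776 (.split 4 5767
    (.splitN 907799 (.split 2 (-5027) (.div 2) (.split 7 4994 (.split 6 5012 (.splitN 113281
    (.split 2 (-617) (.div 2) (.split 1 583 (.split 7 584 (.split 6 602 (.split 4 1232 (.split 0
    1816 (.split 5 (-617) (.div 5) (.split 0 610 (.split 4 601 (.splitN 92345 (.split 2 (-509)
    (.div 2) (.split 1 475 (.split 7 476 (.split 6 494 (.split 5 (-509) (.div 5) (.split 4 493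
    (.split 7 8 (.wt 2) (.split 2 (-44) (.split 0 24 (.lin 12) (.split 5 (-31) (.splitN 87398
    (.split 2 (-473) (.div 2) (.split 6 449 (.split 0 283 (.split 4 259 (.split 7 269 (.splitN
    75942 (.split 6 26 (.wt 2) (.split 2 (-53) (.split 0 263 (.split 4 241 (.split 1 262 (.split
    2 (-268) .sq (.split 1 223 (.split 7 233 (.split 6 242 (.splitN 69568 (.split 5 (-252) .sq
    (.split 0 241 (.split 4 223 cert5_143_7 (.lin 8)) (.lin 4))) (.wt 3)) (.lin 9)) (.lin 2))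
    (.lin 2))) .sq) (.lin 12)) .sq) (.lin 9))) (.wt 3)) (.lin 12)) (.lin 12)) .sq) (.lin 9)))
    (.wt 3)) (.lin 4))) (.lin 2))) (.lin 8))) (.lin 9)) (.lin 2)) (.lin 2))) (.wt 3)) (.lin 8))
    (.lin 4))) (.lin 3)) (.div 4)) (.lin 9)) (.lin 2)) (.lin 2))) (.wt 3)) (.lin 9)) (.lin 2)))
    (.wt 1)) (.lin 8)) (.lin 4))) (.lin 2))) (.lin 2)))) (.div 1)) (.div 0)) (.wt 1))) (.lin 2))
    (.split 3 (-5) (.split 2 (-26) (.split 6 16 (.lin 11) (.splitN 279300 (.split 0 7670 (.split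
    1 3068 (.split 2 (-1535) (.div 2) (.split 7 1511 (.split 5 (-1535) (.div 5) (.split 4 1519
    (.splitN 247151 (.split 5 (-1373) (.div 5) (.split 0 495 (.split 4 484 (.split 7 485 (.splitN
    208274 (.split 0 454 (.split 4 439 (.split 7 440 (.split 1 454 (.split 5 (-896) (.lin 4)
    (.splitN 196902 (.split 2 (-441) .sq (.split 6 431 (.split 5 (-441) .sq (.split 7 59 (.splitN
    68632 (.split 2 (-365) (.div 2) (.split 1 340 (.split 0 252 (.split 4 241 (.split 1 252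
    (.split 2 (-254) .sq (.split 6 242 (.split 5 (-254) .sq (.split 7 20 (.splitN 33986 (.split 2
    (-185) (.div 2) (.split 1 160 (.split 6 170 (.split 5 (-185) (.div 5) (.split 0 187 (.split 4
    169 (.splitN 31522 (.split 2 (-167) (.div 2) (.split 1 142 (.split 6 152 (.split 5 (-167)
    (.div 5) (.split 4 151 (.splitN 23249 (.split 2 (-113) (.div 2) (.split 1 88 (.split 6 98
    (.split 5 (-113) (.div 5) (.split 4 97 (.split 0 18 (.wt 2) (.split 5 (-31) (.split 6 29 (.wt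
    2) (.split 1 24 (.lin 11) (.split 5 (-49) (.split 4 7 (.wt 2) (.splitN 10757 (.wt 1) (.split
    7 8 (.wt 0) .cand))) (.lin 4)))) (.lin 4))) (.lin 6))) (.lin 9)) (.lin 2))) (.wt 3)) (.lin
    6))) (.lin 9)) (.lin 2))) (.wt 0)) (.lin 6)) (.lin 1))) (.lin 9)) (.lin 2))) (.wt 0)) (.split
    2 (-44) (.split 0 33 (.lin 12) (.split 5 (-40) (.split 6 17 (.wt 2) (.split 2 (-53) (.splitN
    41080 (.split 5 (-185) .sq (.split 4 142 (.split 4 31 (.splitN 35985 .cand (.wt 1)) (.split 0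
    60 (.lin 12) (.splitN 37867 .cand (.wt 1)))) (.lin 6))) (.wt 1)) (.lin 9))) (.lin 4))) (.lin
    9)))) (.lin 9))) .sq) (.lin 12)) .sq) (.lin 2))) (.wt 3)) (.split 2 (-80) (.split 0 69 (.lin
    12) (.split 5 (-76) (.split 4 367 (.splitN 89668 (.split 0 267 (.split 4 196 (.split 7 251
    (.splitN 82532 (.split 2 (-259) .sq (.split 7 233 (.split 5 (-258) .sq (.split 6 56 (.split 1
    43 (.split 6 17 (.wt 2) (.split 2 (-89) (.split 1 15 (.lin 11) (.split 5 (-85) (.splitN 24992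
    .sq (.splitN 46597 (.split 0 161 (.split 4 124 (.split 5 (-203) (.lin 4) (.split 4 97 (.split
    7 152 (.splitN 43526 (.split 0 150 (.split 5 (-185) (.lin 4) (.split 7 134 (.splitN 42347
    (.split 0 139 (.split 4 7 (.wt 3) (.split 7 116 (.split 6 40 (.split 1 25 (.splitN 38451
    .cand (.wt 1)) (.lin 11)) (.wt 2)) (.lin 12))) .sq) (.wt 1)) (.lin 12))) .sq) (.wt 1)) (.lin
    12)) (.lin 12))) (.lin 3)) .sq) (.wt 1))) (.lin 4))) (.lin 9))) (.lin 11)) (.split 2 (-125)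
    (.split 1 51 (.lin 11) (.split 7 188 (.split 5 (-121) (.splitN 45728 .sq (.wt 1)) (.lin 4))
    (.lin 2))) (.lin 9)))) (.lin 2))) (.wt 1)) (.lin 12)) (.lin 12)) .sq) (.wt 1)) (.lin 6))
    (.lin 4))) (.lin 9)))) (.lin 9))) (.wt 1))) .sq) (.lin 12)) (.lin 12)) .sq) (.wt 1)) (.lin
    12)) (.lin 12)) .sq)) (.wt 1)) (.lin 6))) (.lin 2))) (.div 1)) (.div 0)) (.wt 1))) (.lin 2))
    (.wt 2)))

def cert5_143 : Cert :=
  (.split 5 (-13) (.splitN 4169 (.wt 1) (.split 4 (-1) cert5_143_6 (.split 5 (-22) (.split 0 15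
    (.lin 12) cert5_143_8) (.lin 8)))) (.lin 4))

theorem check5_143 :
    check task5 cert5_143
      [(7, ⟨some (7), none⟩), (7, ⟨some (7), none⟩), (1, ⟨none, some (-17)⟩), (7, ⟨none, some (-2)⟩), (7, ⟨none, none⟩), (5, ⟨none, none⟩), (8, ⟨some (8), none⟩), (8, ⟨some (8), none⟩)] ⟨some (3960), none⟩ = true := by
  decide +kernel

def cert5_144_0 : Cert :=
  (.split 4 (-5) (.split 2 (-35) (.split 7 16 (.lin 12) (.splitN 883577 (.split 2 (-4901) (.div
    2) (.split 0 4867 (.split 6 4877 (.split 7 4877 (.split 5 (-4901) (.div 5) (.split 1 4894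
    (.split 3 4876 (.splitN 710654 (.split 2 (-3947) (.div 2) (.split 0 3913 (.split 6 3923
    (.split 7 3923 (.split 5 (-3947) (.div 5) (.split 1 3940 (.split 3 3922 (.split 0 19 (.wt 2)
    (.split 2 (-53) (.split 5 (-49) (.split 7 34 (.lin 12) (.splitN 31444 (.wt 1) (.splitN 605957
    (.split 2 (-3353) (.div 2) (.split 0 3319 (.split 6 3311 (.split 7 3329 (.split 5 (-3353)
    (.div 5) (.split 1 3328 (.split 3 3310 (.split 3 9 (.wt 0) (.split 3 21 (.wt 2) (.split 6 36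
    (.wt 2) (.split 2 (-80) (.split 1 69 (.lin 11) (.split 5 (-94) (.splitN 547109 (.split 2
    (-3029) (.div 2) (.split 6 2987 (.split 5 (-3029) (.div 5) (.split 3 2959 (.split 0 721
    (.split 7 728 (.splitN 366884 (.split 2 (-2039) (.div 2) (.split 6 1997 (.split 5 (-2039)
    (.div 5) (.split 3 1969 (.split 1 2014 (.split 0 585 (.split 7 593 (.splitN 325680 (.split 0
    548 (.split 7 557 (.split 1 552 (.split 5 (-1094) (.lin 4) (.split 3 502 (.split 6 521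
    (.splitN 257385 (.split 0 25 (.wt 2) (.split 2 (-89) (.split 7 43 (.lin 12) (.split 3 25 (.wt
    2) (.split 5 (-112) (.split 1 78 (.lin 11) (.split 0 474 (.split 7 476 (.splitN 240308
    (.split 1 458 (.split 3 412 (.split 6 422 (.split 6 44 (.wt 2) (.split 2 (-98) (.split 1 87
    (.lin 11) (.split 5 (-121) (.split 0 446 (.split 7 449 (.splitN 222429 (.split 1 435 (.split
    3 376 (.split 6 395 (.split 2 (-438) .sq (.split 0 367 (.split 7 377 (.splitN 202388 (.split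
    5 (-421) .sq (.split 1 385 (.split 2 (-396) (.lin 10) (.split 6 350 (.split 7 341 (.split 7
    122 (.split 0 106 (.split 3 41 (.wt 2) (.split 5 (-130) (.split 6 66 (.wt 2) (.split 2 (-116)
    (.split 3 313 (.split 1 114 (.lin 11) (.split 5 (-148) (.splitN 58688 .sq (.split 7 50 (.wt
    3) (.split 5 (-157) (.split 2 (-125) (.split 6 332 (.splitN 65168 .sq (.split 7 59 (.wt 3)
    (.split 3 295 (.split 2 (-134) (.split 0 51 (.lin 12) (.split 5 (-166) (.splitN 72296 .sq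
    (.split 3 46 (.wt 0) (.split 1 123 (.lin 11) (.split 6 314 (.split 7 74 (.wt 3) (.split 3 277
    (.split 2 (-152) (.split 0 69 (.lin 12) (.split 5 (-193) (.split 6 296 (.splitN 94895 .sq
    (.wt 3)) (.lin 6)) (.lin 4))) (.lin 9)) (.lin 6))) (.lin 6))))) (.lin 4))) (.lin 9)) (.lin
    6)))) (.lin 6)) (.lin 9)) (.lin 6)))) (.lin 4))) (.lin 6)) (.lin 3))) (.lin 6))) (.lin 12))
    (.split 3 250 (.split 1 304 (.split 2 (-179) (.split 0 114 (.lin 12) (.split 6 269 (.split 5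
    (-202) (.splitN 113525 .sq (.split 3 37 (.wt 0) (.split 6 103 (.splitN 146844 (.split 3 56
    (.wt 0) (.split 5 (-229) (.split 1 114 (.lin 11) (.split 7 314 (.splitN 133208 .sq (.split 3
    73 (.wt 0) (.split 5 (-247) (.split 1 132 (.lin 11) .sq) (.lin 6)))) (.lin 6))) (.lin 6)))
    (.wt 3)) (.wt 1)))) (.lin 4)) (.lin 3))) (.lin 9)) (.lin 8)) (.lin 6))) (.lin 6)) (.lin 3)))
    (.lin 8))) (.wt 3)) (.lin 9)) (.lin 3))) (.lin 11)) (.lin 11)) .sq) (.wt 3)) (.lin 12)) .sq)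
    (.lin 4))) (.lin 3))) (.lin 11)) (.lin 11)) .sq) (.wt 3)) (.lin 12)) .sq)) (.lin 6)))) (.lin
    3))) (.wt 3)) (.lin 11)) (.lin 11))) .sq) (.lin 12)) .sq) (.wt 3)) (.lin 12)) .sq) (.lin 8))
    (.lin 6))) (.lin 3))) (.wt 3)) (.lin 12)) .sq) (.lin 6))) (.lin 3))) (.wt 3)) (.lin 4)))
    (.lin 3))))) (.lin 6)) (.lin 4))) (.lin 9)) (.lin 3)) (.lin 3))) (.wt 3)))) (.lin 4)) (.lin
    3))) (.lin 6)) (.lin 4))) (.lin 9)) (.lin 3)) (.lin 3))) (.wt 3)) (.lin 6)) (.lin 4))) (.lin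
    9)) (.lin 3)) (.lin 3))) (.wt 3))) (.lin 3)) (.splitN 25354 (.wt 1) (.split 7 28 (.split 0 25
    (.split 7 21 (.split 3 11 (.wt 2) (.split 5 (-40) (.split 1 33 (.lin 11) (.split 6 20 (.wt 2)
    (.split 7 12 (.split 0 7 (.wt 0) (.lin 12)) (.split 0 15 (.lin 12) (.wt 3))))) (.lin 6)))
    (.wt 1)) (.lin 12)) (.wt 1))))

def cert5_144 : Cert :=
  (.split 5 (-22) (.split 1 15 (.lin 11) (.split 4 (-1) (.split 6 8 (.wt 2) (.split 2 (-26)
    (.split 1 24 (.lin 11) (.split 5 (-31) (.split 4 (-12) (.split 2 (-44) (.split 7 25 (.lin 12)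
    (.splitN 574697 (.split 0 15950 (.split 1 6380 (.split 5 (-22325) (.lin 4) (.split 2 (-3191)
    (.div 2) (.split 0 3148 (.split 6 3158 (.split 7 3167 (.split 5 (-3191) (.div 5) (.split 1
    3184 (.split 3 3166 (.splitN 406177 (.split 2 (-2255) (.div 2) (.split 0 2212 (.split 6 2222
    (.split 7 2231 (.split 5 (-2255) (.div 5) (.split 1 2248 (.split 3 2230 (.splitN 361617
    (.split 2 (-2003) (.div 2) (.split 6 1970 (.split 7 1979 (.split 5 (-2003) (.div 5) (.split 3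
    1978 (.splitN 22207 (.wt 1) (.splitN 107016 (.split 1 1160 (.split 6 1151 (.split 2 (-581)
    (.div 2) (.split 0 538 (.split 6 548 (.split 7 557 (.split 5 (-581) (.div 5) (.split 1 574
    (.split 3 556 (.splitN 90232 (.split 2 (-491) (.div 2) (.split 0 448 (.split 6 458 (.split 7
    467 (.split 5 (-491) (.div 5) (.split 1 484 (.split 0 9 (.wt 0) (.split 2 (-53) (.split 5
    (-40) (.split 7 34 (.lin 12) (.splitN 25716 (.wt 1) (.split 3 11 (.wt 0) (.split 5 (-49)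
    (.split 1 33 (.lin 11) (.split 0 37 (.wt 2) (.split 2 (-80) (.split 6 422 (.split 5 (-76)
    (.split 3 430 (.split 7 61 (.lin 12) (.splitN 31928 (.wt 1) (.splitN 84563 (.split 2 (-455)
    (.div 2) (.split 6 386 (.split 7 431 (.split 5 (-455) (.div 5) (.split 6 20 (.wt 0) (.split 2
    (-89) (.split 3 42 (.wt 2) (.split 1 69 (.lin 11) (.split 5 (-112) (.split 0 44 (.wt 2)
    (.split 2 (-98) (.split 5 (-121) (.split 6 359 (.split 7 70 (.lin 12) (.splitN 39815 .sq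
    (.split 6 29 (.wt 0) (.split 2 (-107) (.split 1 78 (.lin 11) (.split 5 (-130) (.split 3 367
    (.split 3 45 (.wt 2) (.split 5 (-139) (.split 1 87 (.lin 11) (.splitN 50588 .sq (.split 6 40
    (.wt 0) (.split 2 (-116) (.split 1 96 (.lin 11) (.split 5 (-148) (.split 7 404 (.splitN 57554
    .sq (.split 6 50 (.wt 0) (.split 2 (-125) (.split 1 105 (.lin 11) (.split 5 (-157) (.splitN
    65168 .sq (.split 4 (-43) (.wt 0) (.split 6 61 (.wt 0) (.split 2 (-134) (.split 1 114 (.lin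
    11) (.split 5 (-166) (.split 7 377 (.split 3 340 (.splitN 73430 .sq (.split 0 71 (.wt 0)
    (.split 2 (-161) (.split 5 (-193) (.split 7 97 (.lin 12) .sq) (.lin 4)) (.lin 3)))) (.lin 7))
    (.lin 6)) (.lin 4))) (.lin 3))))) (.lin 4))) (.lin 3)))) (.lin 9)) (.lin 4))) (.lin 3)))))
    (.lin 7))) (.lin 7)) (.lin 4))) (.lin 3))))) (.lin 7)) (.lin 4)) (.lin 3))) (.lin 4)))) (.lin
    3)))) (.lin 9)) (.lin 3))) (.wt 3)))) (.lin 7)) (.lin 4)) (.lin 3)) (.lin 3)))) (.lin 7)))))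
    (.lin 4)) (.lin 3))) (.lin 4))) (.lin 9)) (.lin 3)) (.lin 3))) (.wt 3)) (.lin 7)) (.lin 4)))
    (.lin 9)) (.lin 3)) (.lin 3))) (.lin 11)) (.div 1)) (.wt 3))) (.lin 7))) (.lin 9)) (.lin 3)))
    (.wt 0)) (.lin 7)) (.lin 4))) (.lin 9)) (.lin 3)) (.lin 3))) (.wt 0)) (.lin 7)) (.lin 4)))
    (.lin 9)) (.lin 3)) (.lin 3)))) (.div 1)) (.div 0)) (.wt 0))) (.lin 3)) cert5_144_0) (.lin
    4))) (.lin 3))) (.split 5 (-31) (.splitN 73916 (.split 2 (-401) (.div 2) (.split 6 386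
    (.split 7 386 (.split 5 (-401) (.div 5) (.split 3 376 (.split 1 385 (.split 4 376 (.splitN
    49669 (.split 2 (-275) (.div 2) (.split 6 260 (.split 7 260 (.split 5 (-275) (.div 5) (.split
    0 259 (.split 3 250 (.split 1 259 (.split 4 250 (.splitN 42790 (.split 2 (-221) (.div 2)
    (.split 6 206 (.split 7 206 (.split 5 (-221) (.div 5) (.split 3 196 (.split 4 196 (.splitN
    38482 (.split 2 (-203) (.div 2) (.split 6 188 (.split 7 188 (.split 5 (-203) (.div 5) (.split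
    3 178 (.wt 2) (.lin 6))) (.lin 9)) (.lin 9))) (.wt 0)) (.lin 6)) (.lin 6))) (.lin 9)) (.lin
    9))) (.wt 0)) (.lin 6)) (.lin 8)) (.lin 6)) (.lin 4))) (.lin 9)) (.lin 9))) (.wt 0)) (.lin
    6)) (.lin 8)) (.lin 6))) (.lin 9)) (.lin 9))) (.wt 0)) (.lin 6)))) (.lin 7))

theorem check5_144 :
    check task5 cert5_144
      [(7, ⟨some (7), none⟩), (7, ⟨none, none⟩), (1, ⟨none, some (-17)⟩), (7, ⟨some (7), none⟩), (7, ⟨none, none⟩), (5, ⟨none, none⟩), (8, ⟨some (8), none⟩), (8, ⟨some (8), none⟩)] ⟨some (3960), none⟩ = true := by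
  decide +kernel

def cert5_145 : Cert :=
  (.lin 9)

theorem check5_145 :
    check task5 cert5_145
      [(7, ⟨none, none⟩), (7, ⟨none, none⟩), (1, ⟨some (-8), none⟩), (7, ⟨none, none⟩), (7, ⟨none, none⟩), (5, ⟨none, none⟩), (8, ⟨some (8), none⟩), (8, ⟨some (8), none⟩)] ⟨some (3960), none⟩ = true := by
  decide +kernel

end Cfsg.Agent.EightLocal
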