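import Cfsg.Agent.Lib.EightLocal.Cases5P0
import Cfsg.Agent.Lib.EightLocal.Cases5P1
import Cfsg.Agent.Lib.EightLocal.Cases5P2
import Cfsg.Agent.Lib.EightLocal.Cases5P3
import Cfsg.Agent.Lib.EightLocal.Cases5P4
import Cfsg.Agent.Lib.EightLocal.Cases5P5
import Cfsg.Agent.Lib.EightLocal.Cases5P6
import Cfsg.Agent.Lib.EightLocal.Cases5P7
import Cfsg.Agent.Lib.EightLocal.Cases5P8
import Cfsg.Agent.Lib.EightLocal.Cases5P9

/-!
# The search of family 5
-/

set_option autoImplicit false
set_option maxRecDepth 20000
set_option Elab.async false

namespace Cfsg.Agent.EightLocal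

open Cfsg.Agent.SelfNine

theorem found5 {n : ℤ} {f : List ℤ}
    (hf : Fits f [(7, ⟨none, none⟩), (7, ⟨none, none⟩), (1, ⟨none, none⟩), (7, ⟨none, none⟩), (7, ⟨none, none⟩), (5, ⟨none, none⟩), (8, ⟨none, none⟩), (8, ⟨none, none⟩)])
    (hs : Sol task5 n f) : (n, f) ∈ task5.allowed :=
  check_sound _ (.splitN (755) cert5_0 (.split 6 (-1) (.split 7 (-1) (.split 2 (0) cert5_1 (.split 0 (-1) (.split 3 (-1) cert5_2 (.split 1 (-1) cert5_3 (.split 6 (-2) (.split 2 (9) cert5_4 (.split 3 (15) cert5_5 (.split 7 (-2) (.split 2 (18) cert5_6 (.split 4 (-1) cert5_7 cert5_8)) cert5_9))) cert5_10))) (.split 4 (6) cert5_11 (.split 3 (-1) cert5_12 (.split 7 (-2) (.split 2 (9) cert5_13 (.split 4 (15) cert5_14 (.split 6 (-2) (.split 2 (18) cert5_15 (.split 1 (-1) (.split 5 (-1) cert5_16 (.split 2 (27) cert5_17 (.split 1 (-11) (.split 6 (-19) (.splitN (21317) cert5_18 (.split 7 (-28) (.split 2 (45) cert5_19 (.split 4 (33) cert5_20 (.split 0 (22) cert5_21 (.split 2 (63) cert5_22 (.split 1 (-29) (.split 6 (-37) (.split 4 (51) cert5_23 (.splitN (29744) cert5_24 (.split 3 (9) cert5_25 (.split 2 (72) cert5_26 (.split 6 (-46) (.split 3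 (40) cert5_27 cert5_28) cert5_29))))) cert5_30) cert5_31))))) cert5_32)) cert5_33) cert5_34))) cert5_35)) cert5_36))) cert5_37))))) (.split 0 (-1) cert5_38 (.split 3 (-1) (.split 1 (-2) (.split 6 (-2) (.split 1 (-11) (.split 4 (-1) cert5_39 cert5_40) cert5_41) cert5_42) cert5_43) (.split 1 (-1) (.split 6 (-10) (.split 4 (-1) (.split 5 (-1) cert5_44 cert5_45) cert5_46) cert5_47) cert5_48)))) (.split 7 (-1) (.split 0 (-1) (.split 3 (-1) (.split 1 (-1) (.split 5 (4) cert5_49 (.split 3 (-11) (.split 7 (-2) (.split 4 (-1) cert5_50 cert5_51) cert5_52) cert5_53)) (.split 7 (-2) (.split 4 (-1) cert5_54 (.splitN (8032) cert5_55 (.split 5 (-1) cert5_56 (.split 0 (-11) (.split 7 (-19) (.split 2 (-1) cert5_57 (.split 3 (-12) cert5_58 cert5_59)) cert5_60) cert5_61)))) cert5_62)) (.split 1 (15) cert5_63 (.split 7 (-2) (.split 4 (-1) (.split 0 (-11) (.split 5 (-1) (.splitN (12244) cert5_64 (.split 2 (-1) (.split 1 (24) cert5_65 (.split 6 (16) cert5_66 (.split 4 (-12) (.split 1 (33) cert5_67 (.split 0 (-29) (.split 7 (-28) (.split 1 (51) cert5_68 (.split 0 (-47) (.split 6 (34) cert5_69 (.split 3 (22) cert5_70 (.split 1 (60) cert5_71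 (.splitN (26966) cert5_72 (.split 5 (-16) (.split 1 (69) cert5_73 (.splitN (33716) cert5_74 (.split 7 (-64) cert5_75 cert5_76))) cert5_77))))) cert5_78)) cert5_79) cert5_80)) cert5_81))) cert5_82)) (.split 0 (-20) (.splitN (18143) cert5_83 (.split 2 (-1) (.split 0 (-29) (.split 1 (24) cert5_84 (.split 4 (-20) (.splitN (34043) cert5_85 (.split 7 (-15) (.split 0 (-38) (.split 1 (33) cert5_86 (.split 6 (25) cert5_87 (.split 3 (10) cert5_88 (.split 0 (-47) (.split 4 (-29) (.split 7 (-46) cert5_89 cert5_90) cert5_91) cert5_92)))) cert5_93) cert5_94)) cert5_95)) cert5_96) cert5_97)) cert5_98)) cert5_99) (.split 5 (-1) (.split 2 (-1) cert5_100 cert5_101) cert5_102)) cert5_103))) (.split 4 (6) cert5_104 (.split 3 (-1) (.split 7 (-2) (.split 4 (15) cert5_105 (.split 1 (-1) (.split 3 (-11) (.split 5 (-1) (.splitN (12244) cert5_106 (.split 2 (-1) cert5_107 cert5_108)) (.split 1 (-11) (.split 3 (-20) (.splitN (18143) cert5_109 (.split 6 (8) cert5_110 (.split 3 (-29) (.split 2 (-1) (.split 7 (-14) (.split 4 (24) cert5_111 (.split 0 (8) cert5_112 (.split 1 (-20) (.split 4 (33) cert5_113 (.split 7 (-46) cert5_114 cert5_115)) cert5_116)))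 cert5_117) cert5_118) cert5_119))) cert5_120) cert5_121)) cert5_122) (.split 5 (-13) (.split 2 (-1) (.split 6 (16) cert5_123 (.splitN (10951) cert5_124 (.split 3 (-3) (.splitN (17556) cert5_125 (.split 7 (-28) (.split 6 (34) cert5_126 (.split 4 (33) cert5_127 (.split 0 (22) cert5_128 cert5_129))) cert5_130)) cert5_131))) cert5_132) cert5_133))) cert5_134) cert5_135))) (.split 2 (-17) (.split 0 (-1) (.split 4 (-11) (.split 3 (-1) cert5_136 cert5_137) cert5_138) (.split 3 (-1) (.split 1 (-1) (.split 3 (-11) (.split 4 (-1) (.split 5 (-1) cert5_139 cert5_140) cert5_141) cert5_142) cert5_143) cert5_144)) cert5_145)))) _ ⟨some (720), none⟩ n f hf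
    ⟨fun l hl => by cases hl; exact hs.pos, fun l hl => nomatch hl⟩ hs
    (check_splitN_of check5_0 (check_split_of (check_split_of (check_split_of check5_1 (check_split_of (check_split_of check5_2 (check_split_of check5_3 (check_split_of (check_split_of check5_4 (check_split_of check5_5 (check_split_of (check_split_of check5_6 (check_split_of check5_7 check5_8)) check5_9))) check5_10))) (check_split_of check5_11 (check_split_of check5_12 (check_split_of (check_split_of check5_13 (check_split_of check5_14 (check_split_of (check_split_of check5_15 (check_split_of (check_split_of check5_16 (check_split_of check5_17 (check_split_of (check_split_of (check_splitN_of check5_18 (check_split_of (check_split_of check5_19 (check_split_of check5_20 (check_split_of check5_21 (check_split_of check5_22 (check_split_of (check_split_of (check_split_of check5_23 (check_splitN_of check5_24 (check_split_of check5_25 (check_split_of check5_26 (check_split_of (check_split_of check5_27 check5_28) check5_29))))) check5_30) check5_31))))) check5_32)) check5_33) check5_34))) check5_35)) check5_36))) check5_37))))) (check_split_of check5_38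 (check_split_of (check_split_of (check_split_of (check_split_of (check_split_of check5_39 check5_40) check5_41) check5_42) check5_43) (check_split_of (check_split_of (check_split_of (check_split_of check5_44 check5_45) check5_46) check5_47) check5_48)))) (check_split_of (check_split_of (check_split_of (check_split_of (check_split_of check5_49 (check_split_of (check_split_of (check_split_of check5_50 check5_51) check5_52) check5_53)) (check_split_of (check_split_of check5_54 (check_splitN_of check5_55 (check_split_of check5_56 (check_split_of (check_split_of (check_split_of check5_57 (check_split_of check5_58 check5_59)) check5_60) check5_61)))) check5_62)) (check_split_of check5_63 (check_split_of (check_split_of (check_split_of (check_split_of (check_splitN_of check5_64 (check_split_of (check_split_of check5_65 (check_split_of check5_66 (check_split_of (check_split_of check5_67 (check_split_of (check_split_of (check_split_of check5_68 (check_split_of (check_split_of check5_69 (check_split_of check5_70 (check_split_of check5_71 (check_splitN_of check5_72 (check_split_of (check_split_of check5_73 (check_splitN_of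 check5_74 (check_split_of check5_75 check5_76))) check5_77))))) check5_78)) check5_79) check5_80)) check5_81))) check5_82)) (check_split_of (check_splitN_of check5_83 (check_split_of (check_split_of (check_split_of check5_84 (check_split_of (check_splitN_of check5_85 (check_split_of (check_split_of (check_split_of check5_86 (check_split_of check5_87 (check_split_of check5_88 (check_split_of (check_split_of (check_split_of check5_89 check5_90) check5_91) check5_92)))) check5_93) check5_94)) check5_95)) check5_96) check5_97)) check5_98)) check5_99) (check_split_of (check_split_of check5_100 check5_101) check5_102)) check5_103))) (check_split_of check5_104 (check_split_of (check_split_of (check_split_of check5_105 (check_split_of (check_split_of (check_split_of (check_splitN_of check5_106 (check_split_of check5_107 check5_108)) (check_split_of (check_split_of (check_splitN_of check5_109 (check_split_of check5_110 (check_split_of (check_split_of (check_split_of (check_split_of check5_111 (check_split_of check5_112 (check_split_of (check_split_of check5_113 (check_split_of check5_114 check5_115)) check5_116))) check5_117)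 check5_118) check5_119))) check5_120) check5_121)) check5_122) (check_split_of (check_split_of (check_split_of check5_123 (check_splitN_of check5_124 (check_split_of (check_splitN_of check5_125 (check_split_of (check_split_of check5_126 (check_split_of check5_127 (check_split_of check5_128 check5_129))) check5_130)) check5_131))) check5_132) check5_133))) check5_134) check5_135))) (check_split_of (check_split_of (check_split_of (check_split_of check5_136 check5_137) check5_138) (check_split_of (check_split_of (check_split_of (check_split_of (check_split_of check5_139 check5_140) check5_141) check5_142) check5_143) check5_144)) check5_145))))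

end Cfsg.Agent.EightLocal
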