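import Cfsg.Agent.Lib.EightLocal.Task5

/-!
# Search trees of family 5, part 0
-/

set_option autoImplicit false
set_option maxRecDepth 20000
set_option Elab.async false

namespace Cfsg.Agent.EightLocal

open Cfsg.Agent.SelfNine

def cert5_0 : Cert :=
  (.wt 1)

theorem check5_0 :
    check task5 cert5_0
      [(7, ⟨none, none⟩), (7, ⟨none, none⟩), (1, ⟨none, none⟩), (7, ⟨none, none⟩), (7, ⟨none, none⟩), (5, ⟨none, none⟩), (8, ⟨none, none⟩), (8, ⟨none, none⟩)] ⟨some (720), some (720)⟩ = true := by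
  decide +kernel

def cert5_1 : Cert :=
  (.lin 9)

theorem check5_1 :
    check task5 cert5_1
      [(7, ⟨none, none⟩), (7, ⟨none, none⟩), (1, ⟨none, some (-8)⟩), (7, ⟨none, none⟩), (7, ⟨none, none⟩), (5, ⟨none, none⟩), (8, ⟨none, some (-1)⟩), (8, ⟨none, some (-1)⟩)] ⟨some (3960), none⟩ = true := by
  decide +kernel

def cert5_2 : Cert :=
  (.split 5 4 (.lin 7) (.split 1 (-2) (.split 7 (-2) (.split 2 9 (.lin 9) (.split 6 (-4) (.split
    5 13 (.lin 7) (.split 1 (-11) (.split 0 (-3) (.split 5 22 (.lin 4) (.split 3 (-3) (.split 1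
    (-20) (.split 4 (-1) (.wt 2) (.split 0 (-25) (.split 5 49 (.lin 4) (.split 7 (-37) (.splitN
    252759 (.split 0 (-6951) (.div 0) (.split 2 1390 (.split 0 (-1371) (.lin 3) (.split 4 1348
    (.split 6 (-1352) (.lin 3) (.split 7 (-1379) (.lin 9) (.split 5 1390 (.split 3 (-1344) (.lin
    7) (.splitN 224153 (.split 2 1228 (.split 0 (-1209) (.lin 3) (.split 4 1186 (.split 6 (-1190)
    (.lin 3) (.split 7 (-1217) (.lin 9) (.split 3 (-29) (.split 5 67 (.lin 7) (.split 1 (-38)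
    (.splitN 141138 (.split 2 778 (.split 4 736 (.split 6 (-740) (.lin 3) (.split 5 778 (.split 3
    (-732) (.lin 7) (.split 6 (-11) (.split 1 (-47) (.split 5 76 (.lin 4) (.splitN 124542 (.split
    2 688 (.split 4 637 (.split 5 688 (.split 3 (-633) (.lin 7) (.split 0 (-33) (.split 5 85
    (.lin 4) (.split 6 (-614) (.lin 7) (.split 7 (-46) (.splitN 93925 (.split 2 508 (.split 4 448
    (.split 7 (-488) (.lin 9) (.split 5 508 (.split 1 (-462) (.lin 4) (.split 3 (-444) (.lin 7)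
    (.split 6 (-434) (.lin 7) (.split 3 (-37) (.split 5 94 (.lin 7) (.split 1 (-56) (.splitN
    86915 (.split 2 472 (.split 7 (-452) (.lin 9) (.split 5 472 (.split 3 (-408) (.lin 7) (.split
    6 (-389) (.lin 7) (.split 4 14 (.splitN 41567 (.split 2 220 (.split 5 220 (.split 0 (-156)
    (.lin 4) (.split 3 (-156) (.lin 6) (.split 2 181 (.split 6 (-137) (.lin 3) (.splitN 37462
    (.split 5 202 (.split 3 (-138) (.lin 6) (.split 1 (-156) (.lin 8) (.split 2 163 (.split 6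
    (-119) (.lin 3) (.split 7 (-146) (.lin 6) (.wt 2))) (.lin 10)))) (.div 5)) (.wt 1))) (.lin
    10)))) (.div 5)) (.div 2)) (.wt 1)) (.wt 2)))) (.div 5))) (.div 2)) (.wt 1)) (.lin 11))) (.wt
    2))))) (.div 5))) (.lin 3)) (.div 2)) (.wt 1)) (.lin 12)))) (.wt 2))) (.div 5)) (.lin 3))
    (.div 2)) (.wt 1))) (.lin 11)) (.wt 0))) (.div 5))) (.lin 3)) (.div 2)) (.wt 1)) (.lin 11)))
    (.wt 2)))) (.lin 3))) (.div 2)) (.wt 1))) (.div 5)))) (.lin 3))) (.div 2))) (.wt 1)) (.lin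
    12))) (.wt 2))) (.lin 11)) (.wt 2))) (.wt 2)) (.lin 11))) (.wt 2))) (.wt 0)) (.lin 11)))

theorem check5_2 :
    check task5 cert5_2
      [(7, ⟨none, some (-2)⟩), (7, ⟨none, none⟩), (1, ⟨some (1), none⟩), (7, ⟨none, some (-2)⟩), (7, ⟨none, none⟩), (5, ⟨none, none⟩), (8, ⟨none, some (-1)⟩), (8, ⟨none, some (-1)⟩)] ⟨some (3960), none⟩ = true := by
  decide +kernel

def cert5_3_0 : Cert :=
  (.split 4 (-20) (.split 5 139 (.lin 6) (.split 0 (-83) (.splitN 604808 (.split 0 (-16761) (.div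
    0) (.split 7 (-16742) (.lin 12) (.split 1 (-6705) (.div 1) (.split 2 23464 (.split 2 3352
    (.split 0 (-3297) (.lin 3) (.split 6 (-3296) (.lin 3) (.splitN 555419 (.split 2 3082 (.split
    6 (-3026) (.lin 3) (.split 0 (-707) .sq (.splitN 517135 (.split 1 (-676) .sq (.split 6 (-695)
    (.lin 11) (.splitN 428409 (.split 0 (-611) .sq (.split 7 (-587) (.lin 12) (.split 2 622
    (.split 0 (-570) (.lin 3) (.split 6 (-569) (.lin 3) (.split 5 635 (.splitN 399429 (.split 5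
    597 (.split 6 (-533) (.lin 6) (.split 3 20 (.split 5 148 (.lin 6) (.split 1 (-65) (.splitN
    273716 (.split 6 (-281) (.wt 2) (.split 1 (-264) (.lin 11) (.split 2 477 (.split 7 (-158)
    (.split 2 243 (.lin 2) (.split 0 (-182) (.split 5 247 (.lin 4) (.splitN 192338 .sq (.wt 0)))
    (.lin 12))) (.split 0 (-183) (.lin 12) (.split 6 (-152) (.split 2 207 (.lin 3) (.split 1
    (-137) (.split 5 220 (.lin 4) (.splitN 146231 .sq (.splitN 166663 (.split 0 (-114) (.wt 0)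
    (.split 2 370 (.split 5 401 (.split 5 374 (.split 4 (-23) (.wt 0) (.split 6 (-248) (.wt 0)
    (.split 1 (-228) (.lin 11) (.split 7 (-72) (.wt 0) (.split 0 (-84) (.lin 12) (.split 6 (-165)
    (.split 2 234 (.lin 3) (.split 1 (-155) (.split 5 238 (.lin 1) .sq) (.lin 11))) (.wt 2)))))))
    (.lin 4)) (.lin 1)) (.lin 3))) (.wt 3)))) (.lin 11))) (.split 1 (-129) (.lin 11) (.split 5
    311 (.split 7 (-109) (.split 2 189 (.lin 2) (.split 0 (-128) (.split 5 193 (.lin 4) (.splitN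
    113606 .sq (.split 1 (-100) (.wt 0) (.split 6 (-110) (.lin 11) (.wt 1))))) (.lin 12)))
    (.split 2 244 (.split 0 (-129) (.lin 12) (.split 5 257 (.split 6 (-114) (.split 1 (-101)
    (.split 5 184 (.lin 4) (.split 7 (-82) (.split 2 198 (.lin 2) (.split 0 (-101) (.split 5 202
    (.lin 4) (.splitN 122516 .sq (.split 4 (-21) (.wt 0) (.split 6 (-136) (.wt 0) (.split 1
    (-111) (.lin 11) (.split 7 (-87) (.wt 0) (.split 0 (-102) (.lin 12) (.wt 2)))))))) (.lin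
    12))) (.split 2 217 (.split 0 (-102) (.lin 12) (.split 5 239 (.split 4 (-25) (.split 0 (-92)
    (.wt 2) (.lin 12)) (.split 0 (-93) (.lin 12) (.splitN 140600 (.split 0 (-87) (.split 7 (-73)
    (.split 1 (-115) (.split 2 207 (.lin 2) (.split 5 202 (.lin 0) (.split 6 (-137) (.split 5 220
    (.lin 6) (.split 1 (-128) .sq (.lin 8))) (.wt 0)))) (.wt 0)) (.lin 12)) (.wt 0)) (.wt 6))))
    (.lin 1))) (.lin 2)))) (.lin 11)) (.split 2 217 (.split 1 (-93) (.lin 11) (.splitN 163711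
    (.split 7 (-82) (.split 0 (-101) (.split 5 166 (.lin 4) (.split 4 (-25) .cand (.split 0
    (-120) (.lin 12) (.splitN 114967 (.split 1 (-76) (.split 2 180 (.lin 2) (.split 6 (-100)
    (.split 0 (-102) (.split 5 193 (.lin 4) (.split 7 (-91) (.splitN 110869 .sq (.wt 6)) (.lin
    12))) (.wt 0)) (.lin 11))) (.wt 0)) (.wt 6))))) (.lin 12)) (.split 0 (-102) (.lin 12)
    (.splitN 102669 (.wt 0) (.splitN 140562 (.split 4 (-22) (.split 0 (-92) (.split 6 (-100)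
    (.split 1 (-83) (.split 5 175 (.lin 4) (.splitN 123273 .cand (.wt 1))) (.lin 11)) (.wt 2))
    (.lin 12)) (.wt 0)) (.wt 6))))) (.wt 1))) (.lin 3))) (.lin 4))) (.lin 2))) (.lin 4))))))
    .sq))) (.wt 3)) (.lin 11))) (.split 6 (-126) (.split 2 180 (.lin 3) (.split 1 (-101) (.split
    5 184 (.lin 4) (.splitN 105326 .sq (.split 7 (-126) (.wt 1) (.split 0 (-147) (.lin 12) (.wt
    6))))) (.lin 11))) (.wt 2)))) .sq) (.wt 1)) (.lin 10)))) .sq))) (.wt 1)))) (.wt 1)))) (.div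
    2)) (.wt 1)))) (.div 2)) (.lin 2))))) (.wt 1)) (.lin 12))) (.split 3 24 (.split 1 (-65)
    (.split 7 (-136) (.split 2 216 (.lin 2) (.split 0 (-146) (.split 5 211 (.lin 4) (.splitN
    143171 .sq (.splitN 470554 (.split 2 2614 (.split 1 (-2460) (.lin 2) (.split 0 (-2541) (.lin
    3) (.split 6 (-2477) (.lin 3) (.splitN 431141 (.split 2 2380 (.split 7 (-2297) (.lin 2)
    (.split 6 (-83) (.split 1 (-74) (.splitN 338436 (.split 2 1876 (.split 0 (-1794) (.lin 3)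
    (.split 5 1868 (.split 6 (-420) (.wt 2) (.split 1 (-399) (.lin 11) (.split 7 (-978) (.wt 3)
    (.split 0 (-984) (.lin 12) (.split 5 1382 (.split 6 (-102) (.split 2 243 (.lin 3) (.split 1
    (-92) (.split 5 238 (.lin 4) (.splitN 177191 .sq (.split 7 (-458) (.wt 0) (.split 0 (-462)
    (.lin 12) (.split 6 (-128) (.split 2 270 (.lin 3) (.split 1 (-119) (.split 5 265 (.lin 4)
    (.splitN 217043 .sq (.split 6 (-227) (.wt 0) (.wt 1)))) (.lin 11))) (.wt 1)))))) (.lin 11)))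
    (.wt 6)) (.lin 4)))))) (.lin 10))) (.div 2)) (.wt 3)) (.lin 11)) (.wt 2))) (.div 2)) (.wt
    1))))) (.div 2)) (.wt 1)))) (.lin 12))) (.split 0 (-138) (.lin 12) (.split 6 (-184) (.split 1
    (-173) (.split 5 247 (.lin 4) (.splitN 5270128 (.split 2 29272 (.split 6 (-29207) (.lin 3)
    (.splitN 4936874 (.split 2 27418 (.split 6 (-27353) (.lin 3) (.split 6 (-201) (.split 2 270
    (.lin 3) (.split 1 (-191) (.split 5 265 (.lin 4) (.splitN 233891 .sq (.splitN 3629380 (.split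
    2 20146 (.split 6 (-20081) (.lin 3) (.split 6 (-233) (.split 2 297 (.lin 3) (.split 1 (-218)
    (.split 5 292 (.lin 4) (.splitN 287351 .sq (.splitN 2715679 (.split 2 15070 (.split 6
    (-15005) (.lin 3) (.split 7 (-116) (.wt 1) (.split 0 (-120) (.lin 12) (.splitN 2015104
    (.split 2 11182 (.split 6 (-11117) (.lin 3) (.split 6 (-268) (.split 2 333 (.lin 3) (.split 1
    (-254) (.split 5 328 (.lin 4) (.splitN 367703 .sq (.splitN 1680062 (.split 2 9328 (.split 6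
    (-9263) (.lin 3) (.split 7 (-93) (.wt 1) (.split 0 (-102) (.lin 12) (.splitN 1303710 (.split
    2 7240 (.split 6 (-7175) (.lin 3) (.split 7 (-89) (.wt 1) (.split 0 (-93) (.lin 12) (.splitN
    1129200 (.split 2 6268 (.split 6 (-6203) (.lin 3) (.split 0 (-80) (.split 7 (-73) (.splitN
    573690 (.split 6 (-348) (.split 2 423 (.lin 3) (.split 1 (-335) (.split 5 409 (.lin 1) .sq)
    (.lin 11))) (.wt 1)) (.wt 1)) (.lin 12)) (.wt 2))) (.div 2)) (.wt 1))))) (.div 2)) (.wt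
    1))))) (.div 2)) (.wt 1)))) (.lin 11))) (.wt 2))) (.div 2)) (.wt 1))))) (.div 2)) (.wt 1))))
    (.lin 11))) (.wt 6))) (.div 2)) (.wt 1)))) (.lin 11))) (.wt 2))) (.div 2)) (.wt 1))) (.div
    2)) (.wt 1))) (.lin 11)) (.wt 2)))) (.lin 11)) (.wt 2)))

def cert5_3_1 : Cert :=
  (.split 6 (-82) (.split 5 130 (.lin 6) (.split 2 144 (.lin 9) (.split 1 (-56) (.split 4 (-30)
    (.split 5 157 (.lin 6) (.split 0 (-101) (.splitN 262211 (.split 2 1444 (.split 6 (-1379)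
    (.lin 9) (.split 5 1444 (.split 0 (-1380) (.lin 4) (.splitN 240102 (.split 0 (-420) .sq
    (.split 7 (-380) (.lin 12) (.split 1 (-411) .sq (.split 2 811 (.split 5 824 (.split 6 (-434)
    (.lin 11) (.splitN 203232 (.split 0 (-375) .sq (.split 7 (-335) (.lin 12) (.split 1 (-365)
    .sq (.split 2 721 (.split 2 388 (.split 1 (-309) (.lin 2) (.split 6 (-326) (.lin 9) (.splitN
    190369 (.split 5 376 (.split 0 (-318) (.lin 4) (.split 1 (-273) (.lin 8) (.split 2 361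
    (.split 7 (-290) (.lin 2) (.split 4 (-255) (.lin 6) (.split 6 (-299) (.lin 6) (.split 3 20
    (.split 5 166 (.lin 6) (.split 1 (-65) (.splitN 75860 .sq (.splitN 133776 (.splitN 119393
    (.split 7 (-114) (.wt 0) (.split 0 (-195) (.wt 2) (.split 6 (-107) (.wt 2) (.split 2 253
    (.split 2 208 (.split 1 (-84) (.lin 11) (.split 5 275 (.split 4 (-83) (.wt 2) (.split 5 263
    (.split 7 (-87) (.split 2 171 (.lin 2) (.split 0 (-128) (.split 5 193 (.lin 4) (.splitN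
    104534 .sq (.wt 0))) (.lin 12))) (.split 0 (-156) (.lin 12) (.split 5 239 (.split 4 (-56)
    (.split 0 (-119) (.splitN 97745 (.splitN 94478 (.wt 6) (.split 0 (-133) (.wt 0) (.split 5 212
    (.wt 6) (.lin 4)))) (.wt 0)) (.lin 12)) (.split 0 (-129) (.lin 12) (.split 5 212 (.split 7
    (-73) (.split 4 (-43) (.split 0 (-119) (.wt 2) (.lin 12)) .cand) (.split 2 163 (.split 0
    (-111) (.lin 12) (.split 5 194 (.split 6 (-83) (.split 5 175 (.lin 6) (.split 1 (-74) (.split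
    4 (-47) (.wt 2) (.split 0 (-102) (.lin 12) (.splitN 104894 (.wt 0) (.split 6 (-92) (.split 1
    (-83) (.wt 0) (.lin 11)) (.wt 1))))) (.lin 11))) (.wt 2)) (.lin 1))) (.lin 2))) (.lin 4))))
    (.lin 4)))) .sq)) (.lin 4))) (.lin 9)) (.lin 3))))) (.wt 3)) (.wt 0))) (.lin 11))) (.split 6
    (-84) (.split 5 166 (.lin 6) (.split 2 153 (.lin 9) (.split 1 (-65) (.splitN 80477 .sq
    (.split 7 (-159) (.wt 1) (.split 6 (-94) (.split 4 (-237) (.lin 6) (.split 2 162 (.lin 9)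
    (.split 1 (-74) (.split 5 175 (.lin 4) (.splitN 89387 .sq (.splitN 119798 (.split 7 (-103)
    (.wt 1) (.split 6 (-110) (.split 2 180 (.lin 9) (.split 1 (-92) (.split 5 193 (.lin 4)
    (.splitN 109151 .sq (.split 0 (-144) (.split 5 238 (.lin 4) .sq) (.wt 1)))) (.lin 11))) (.wt
    2))) (.wt 1)))) (.lin 11)))) (.wt 2)))) (.lin 11)))) (.wt 2)))))) (.lin 10)))) .sq) (.wt
    1)))) .sq) (.lin 2))))) (.wt 1))) (.lin 4)) (.lin 2))))) (.wt 1))) (.div 5))) (.div 2)) (.wt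
    1)) (.lin 12))) cert5_3_0) (.lin 11)))) (.split 1 (-57) (.lin 11) (.split 4 (-13) (.split 5
    94 (.lin 6) (.split 0 (-83) (.split 1 (-25) (.split 2 108 (.lin 2) (.split 5 112 (.lin 4)
    (.split 6 (-46) (.splitN 205391 (.split 2 1138 (.split 7 (-1091) (.lin 2) (.split 3 23
    (.split 0 (-416) .sq (.split 2 460 (.split 4 (-372) (.lin 3) (.split 4 (-79) (.split 0 (-119)
    (.split 0 (-146) (.split 5 148 (.lin 0) (.split 5 175 (.lin 4) (.splitN 78371 .sq (.split 7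
    (-147) (.wt 1) (.split 2 217 (.split 6 (-51) (.split 2 117 (.lin 9) (.split 1 (-38) (.splitN
    81926 .sq (.splitN 104018 (.split 7 (-93) (.wt 1) (.split 2 163 (.split 0 (-202) .sq (.split
    5 284 (.split 7 (-88) (.wt 1) (.split 6 (-58) (.split 5 193 (.lin 6) (.split 2 126 (.lin 9)
    (.split 1 (-47) (.splitN 92627 .sq (.splitN 96152 (.split 7 (-73) (.wt 0) (.split 2 136
    (.split 0 (-158) (.split 5 211 (.lin 1) (.split 4 (-101) .sq (.lin 12))) (.wt 1)) (.lin 2)))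
    (.wt 1))) (.lin 11)))) (.wt 2))) (.lin 1))) (.lin 2))) (.wt 1))) (.lin 11))) (.wt 6)) (.lin
    2)))))) (.lin 12)) (.lin 3)) (.split 7 (-151) (.split 2 198 (.lin 2) (.split 0 (-173) (.split
    5 202 (.lin 4) (.splitN 138068 .sq (.wt 1))) (.lin 12))) (.split 2 217 (.split 0 (-246) (.lin
    3) (.split 0 (-219) (.lin 12) (.split 4 (-24) (.split 6 (-53) (.split 5 130 (.lin 6) (.split
    1 (-38) (.split 7 (-105) (.split 2 162 (.lin 2) (.split 0 (-137) (.split 5 175 (.lin 4)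
    (.splitN 93761 .sq (.wt 1))) (.lin 12))) (.split 2 172 (.split 0 (-192) (.lin 3) (.split 4
    (-34) (.split 5 139 (.lin 6) (.split 6 (-60) (.split 5 148 (.lin 6) (.split 1 (-47) (.split 7
    (-82) (.split 2 144 (.lin 2) (.split 0 (-110) (.split 0 (-119) (.split 5 166 (.lin 4)
    (.splitN 77804 .sq (.splitN 93880 .cand (.wt 1)))) (.lin 12)) (.lin 3))) (.split 2 145
    (.split 0 (-156) (.lin 3) (.split 0 (-147) (.lin 12) (.splitN 100985 (.split 4 (-46) (.split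
    5 157 (.lin 6) (.split 0 (-124) (.split 5 175 (.lin 4) (.split 4 (-59) (.split 6 (-69)
    (.split 1 (-56) (.splitN 94574 (.split 7 (-65) (.split 2 144 (.lin 2) (.split 5 193 (.lin 0)
    .sq)) (.wt 0)) (.wt 1)) (.lin 11)) (.wt 2)) (.wt 2))) (.wt 2))) (.wt 0)) (.wt 6)))) (.lin
    2))) (.lin 11))) (.wt 2))) (.wt 2))) (.lin 2))) (.lin 11))) (.wt 2)) (.wt 2)))) (.lin 2)))))
    (.lin 3))) (.wt 2))) (.div 2)) (.wt 1)) (.lin 11)))) (.split 6 (-47) (.lin 11) (.wt 2)))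
    (.lin 12))) (.wt 2))))

def cert5_3_2 : Cert :=
  (.split 0 (-138) (.split 5 220 (.lin 1) (.split 4 (-110) (.split 0 (-699) (.wt 2) (.split 5 887
    (.split 0 (-592) (.wt 2) (.split 5 779 (.split 6 (-143) (.wt 2) (.split 2 172 (.split 1
    (-120) (.lin 11) (.split 7 (-36) (.wt 2) (.split 2 163 (.split 4 (-119) (.split 0 (-507) (.wt
    2) (.split 5 626 (.split 0 (-272) (.split 5 355 (.lin 1) (.split 4 (-245) (.splitN 437387
    (.wt 6) (.split 0 (-416) (.wt 0) (.split 5 527 (.split 4 (-381) (.lin 12) (.split 1 (-100)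
    (.wt 0) (.split 2 136 (.split 5 500 (.splitN 465378 (.wt 1) (.split 0 (-351) (.wt 0) (.split
    5 437 (.splitN 495110 (.wt 6) (.split 0 (-313) (.wt 0) (.split 5 401 (.split 1 (-89) (.wt 0)
    (.split 2 127 (.split 6 (-101) (.lin 9) (.split 0 (-277) (.wt 2) (.split 5 356 (.split 4
    (-246) (.lin 0) (.splitN 538693 (.wt 0) (.wt 0))) (.lin 1)))) (.lin 2))) (.lin 1)))) (.lin
    1)))) (.lin 1)) (.lin 2)))) (.lin 1)))) (.lin 12))) (.split 5 383 (.split 4 (-237) (.lin 12)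
    (.split 6 (-118) (.split 5 247 (.lin 6) (.split 2 144 (.lin 9) (.split 1 (-101) (.split 0
    (-180) (.wt 2) (.split 5 293 (.split 4 (-147) (.lin 12) (.split 6 (-123) (.split 1 (-110)
    (.wt 2) (.lin 11)) (.split 5 275 (.split 2 145 (.split 1 (-102) (.lin 11) (.split 0 (-156)
    (.split 5 265 (.lin 1) (.split 4 (-137) (.splitN 703422 (.wt 1) (.wt 0)) (.lin 0))) (.wt 2)))
    (.lin 9)) (.lin 6)))) (.lin 1))) (.lin 11)))) (.split 5 356 (.split 2 136 (.split 1 (-93)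
    (.lin 11) (.splitN 468441 (.wt 3) (.split 0 (-170) (.split 5 256 (.lin 1) (.split 0 (-218)
    (.split 5 301 (.lin 1) (.split 4 (-191) (.split 6 (-108) (.wt 2) (.split 1 (-84) (.lin 11)
    (.wt 2))) (.lin 12))) (.split 4 (-183) (.lin 12) (.split 0 (-188) (.split 5 274 (.lin 1)
    (.split 4 (-164) (.split 6 (-105) (.split 1 (-92) (.splitN 658718 .cand (.wt 1)) (.lin 11))
    (.wt 2)) (.lin 12))) (.wt 2))))) (.wt 2)))) (.lin 9)) (.lin 6)))) (.lin 1))) (.lin 1))) (.lin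
    12)) (.lin 2)))) (.lin 9))) (.lin 1))) (.lin 1))) (.lin 12))) (.split 5 329 (.split 4 (-111)
    (.lin 12) (.split 7 (-33) (.split 2 135 (.lin 2) (.split 0 (-74) (.split 5 157 (.lin 1)
    (.split 4 (-102) (.lin 12) (.split 6 (-150) (.split 5 211 (.lin 6) (.split 1 (-137) (.splitN
    181476 (.wt 1) (.splitN 354538 .cand (.wt 3))) (.lin 11))) (.split 5 266 (.split 2 181
    (.split 1 (-129) (.lin 11) (.splitN 153247 (.wt 1) (.split 4 (-70) (.split 0 (-110) (.splitN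
    241856 .cand (.wt 0)) (.lin 12)) (.split 0 (-102) (.lin 12) (.split 6 (-111) (.split 5 175
    (.lin 6) (.split 1 (-101) (.split 0 (-75) (.split 4 (-47) (.splitN 275089 .cand (.wt 1))
    (.lin 12)) (.wt 2)) (.lin 11))) (.wt 2)))))) (.lin 9)) (.lin 6))))) (.lin 12))) (.split 4
    (-43) (.split 5 157 (.lin 6) (.split 6 (-114) (.split 5 175 (.lin 6) (.split 2 144 (.lin 9)
    (.split 1 (-101) (.split 6 (-159) (.split 5 220 (.lin 6) (.split 2 189 (.lin 9) (.split 1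
    (-146) (.split 0 (-76) (.split 4 (-56) (.split 0 (-131) (.wt 2) (.split 5 311 (.split 0
    (-106) (.split 4 (-83) (.wt 2) (.lin 12)) (.split 5 293 (.split 4 (-75) (.lin 12) (.split 0
    (-85) (.split 5 238 (.lin 1) (.split 4 (-65) (.split 6 (-165) (.split 1 (-155) (.split 6
    (-186) (.split 2 207 (.lin 3) (.split 1 (-173) (.split 5 256 (.lin 1) (.splitN 1686308 (.wt
    1) (.split 4 (-74) (.wt 0) (.split 5 275 (.split 0 (-93) (.lin 12) (.splitN 3782521 (.split 6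
    (-195) (.split 2 225 (.lin 3) (.splitN 3165387 (.wt 1) (.split 1 (-178) (.wt 0) (.lin 2))))
    (.wt 0)) (.wt 1))) (.lin 6))))) (.lin 11))) (.split 2 217 (.split 1 (-165) (.lin 11) (.split
    5 275 (.split 0 (-94) (.split 4 (-74) (.splitN 1618901 (.wt 1) (.split 1 (-162) (.wt 0)
    (.split 2 199 (.split 5 257 (.splitN 1772983 (.wt 1) (.wt 0)) (.lin 0)) (.lin 2)))) (.lin
    12)) (.wt 2)) (.lin 1))) (.lin 3))) (.lin 11)) (.wt 2)) (.lin 12))) (.wt 2))) (.lin 1)))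
    (.lin 4))) (.lin 12)) (.wt 2)) (.lin 11)))) (.split 5 275 (.split 2 181 (.split 1 (-138)
    (.lin 11) (.split 0 (-96) (.split 5 202 (.lin 1) (.split 6 (-122) (.split 2 153 (.lin 9)
    (.split 0 (-119) (.split 5 229 (.lin 1) (.split 4 (-92) (.split 6 (-151) (.wt 2) (.split 1
    (-129) (.lin 11) (.split 6 (-136) (.split 2 162 (.lin 9) (.split 1 (-119) (.split 0 (-135)
    (.wt 2) (.split 5 257 (.split 4 (-102) (.lin 12) (.split 6 (-141) (.split 1 (-128) (.wt 2)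
    (.lin 11)) (.split 2 163 (.split 1 (-120) (.lin 11) (.splitN 950941 (.wt 0) (.splitN 1091119
    (.split 0 (-122) (.split 5 247 (.lin 1) (.split 4 (-101) (.splitN 963955 .cand (.wt 0)) (.lin
    0))) (.wt 0)) (.wt 1)))) (.lin 9)))) (.lin 4))) (.lin 11))) (.split 1 (-111) (.lin 11) (.wt
    2))))) (.lin 12))) (.split 4 (-84) (.lin 12) (.splitN 1794019 (.split 0 (-104) (.split 5 220
    (.lin 1) (.split 4 (-83) (.splitN 1404040 (.split 1 (-135) (.split 2 180 (.lin 2) (.split 5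
    247 (.lin 0) (.wt 0))) (.wt 0)) (.wt 6)) (.lin 12))) (.wt 0)) (.wt 6))))) (.wt 2))) (.wt 2)))
    (.lin 9)) (.lin 6))) (.lin 11)))) (.wt 2))) (.wt 0)))) (.lin 1)))

def cert5_3_3 : Cert :=
  (.split 3 20 (.split 5 148 (.lin 6) (.split 1 (-83) (.split 6 (-208) (.split 5 256 (.lin 6)
    (.split 2 234 (.lin 9) (.split 1 (-191) (.split 0 (-132) (.wt 6) (.split 6 (-1817) (.wt 6)
    (.split 2 1900 (.split 1 (-1794) (.lin 11) (.split 5 1985 (.split 6 (-1590) (.wt 6) (.split 1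
    (-1569) (.lin 11) (.split 7 (-33) (.split 0 (-74) (.splitN 299482 (.split 5 1660 (.splitN
    227264 (.wt 6) (.split 0 (-93) (.wt 0) (.split 1 (-1039) (.wt 0) (.split 2 1090 (.split 5
    1130 (.split 1 (-983) (.wt 0) (.split 2 1027 (.split 5 1067 (.split 4 (-46) (.wt 0) (.split 0
    (-75) (.lin 12) (.splitN 248424 (.wt 1) (.split 1 (-379) (.wt 0) (.split 2 424 (.split 5 446
    (.splitN 265735 (.wt 1) (.split 1 (-259) (.wt 0) (.split 2 307 (.split 5 329 (.wt 2) (.lin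
    1)) (.lin 2)))) (.lin 1)) (.lin 2)))))) (.lin 1)) (.lin 2))) (.lin 1)) (.lin 2))))) (.div 5))
    (.wt 0)) (.lin 12)) (.split 4 (-70) (.split 0 (-101) (.wt 2) (.lin 12)) (.split 5 1661
    (.split 0 (-93) (.lin 12) (.split 6 (-1323) (.wt 1) (.split 2 1369 (.split 1 (-1299) (.lin
    11) (.split 5 1418 (.split 6 (-1227) (.wt 1) (.split 2 1279 (.split 1 (-1209) (.lin 11)
    (.split 5 1328 (.split 4 (-39) (.split 0 (-74) (.split 6 (-702) (.wt 1) (.split 2 739 (.split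
    1 (-678) (.lin 11) (.split 5 788 (.split 6 (-583) (.wt 1) (.split 2 622 (.split 1 (-561)
    (.lin 11) (.split 5 671 (.split 6 (-541) (.wt 1) (.split 2 577 (.split 5 626 (.split 6 (-463)
    (.wt 2) (.split 2 505 (.split 1 (-444) (.lin 11) (.split 5 554 (.split 6 (-403) (.wt 6)
    (.split 2 442 (.split 1 (-381) (.lin 11) (.split 5 491 (.split 6 (-303) (.split 2 315 (.lin
    3) (.split 2 333 (.lin 9) (.split 1 (-290) (.split 5 364 (.lin 1) (.splitN 2891750 (.wt 1)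
    (.split 4 (-61) (.wt 0) (.split 5 464 (.split 0 (-81) (.wt 1) (.split 4 (-48) (.lin 12) (.wt
    0))) (.lin 6))))) (.lin 11)))) (.split 2 343 (.split 2 325 (.split 1 (-282) (.lin 11) (.split
    5 374 (.split 4 (-48) (.split 5 274 (.lin 6) (.split 0 (-83) (.split 6 (-263) (.wt 2) (.split
    2 298 (.split 1 (-246) (.lin 11) (.split 5 347 (.split 6 (-235) (.split 2 252 (.lin 3)
    (.split 1 (-218) (.splitN 2816691 (.wt 1) (.split 4 (-64) (.wt 0) (.split 5 329 (.split 0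
    (-84) (.lin 12) (.split 6 (-251) (.wt 2) (.split 1 (-228) (.lin 11) (.wt 0)))) (.lin 6))))
    (.lin 11))) (.split 2 262 (.split 1 (-210) (.lin 11) (.split 5 329 (.split 5 311 (.splitN
    2149864 (.wt 1) (.split 4 (-61) (.split 0 (-92) (.wt 0) (.lin 12)) (.split 0 (-84) (.lin 12)
    (.wt 0)))) (.lin 1)) (.lin 0))) (.lin 3))) (.lin 1))) (.lin 3))) (.lin 12))) (.wt 3)) (.lin
    1))) (.lin 9)) (.lin 3))) (.lin 1))) (.lin 3))) (.lin 1))) (.lin 3))) (.lin 1)) (.lin 3)))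
    (.lin 1))) (.lin 3))) (.lin 1))) (.lin 3))) (.lin 12)) (.wt 3)) (.lin 1))) (.lin 3))) (.lin
    1))) (.lin 3)))) (.lin 6)))))) (.lin 1))) (.lin 3)))) (.lin 11)))) (.split 2 235 (.split 1
    (-183) (.lin 11) cert5_3_2) (.lin 9))) (.lin 11))) (.split 0 (-96) (.split 4 (-65) (.split 6
    (-170) (.split 5 238 (.lin 6) (.split 2 198 (.lin 9) (.split 1 (-146) (.split 0 (-103)
    (.split 5 256 (.lin 4) (.split 4 (-74) (.splitN 175535 .sq (.split 6 (-202) (.split 5 283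
    (.lin 6) (.split 2 234 (.lin 9) (.split 1 (-182) (.splitN 231254 .sq (.split 0 (-126) (.split
    5 301 (.lin 1) (.split 4 (-92) (.splitN 249074 .sq (.splitN 6470756 (.split 0 (-179661) (.div
    0) (.split 2 35932 (.split 6 (-35903) (.lin 9) (.split 5 35932 (.split 0 (-35751) (.lin 1)
    (.splitN 5951974 (.split 2 33052 (.split 6 (-33023) (.lin 9) (.split 5 33052 (.split 0
    (-32871) (.lin 1) (.split 7 (-37) (.wt 1) (.split 4 (-101) (.splitN 3926932 (.split 2 21802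
    (.split 6 (-21773) (.lin 9) (.split 5 21802 (.split 0 (-21612) (.lin 1) (.split 4 (-21585)
    (.lin 6) (.split 0 (-282) (.split 5 472 (.lin 1) (.split 4 (-263) (.splitN 510020 .sq
    (.splitN 1104240 (.split 2 6124 (.split 6 (-6095) (.lin 9) (.split 4 (-12249) (.div 4)
    (.split 0 (-12270) (.lin 12) (.split 6 (-337) (.split 5 607 (.lin 6) (.split 2 369 (.lin 9)
    (.split 1 (-317) (.splitN 879380 .sq (.wt 1)) (.lin 11)))) (.wt 1))))) (.div 2)) (.wt 1)))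
    (.lin 12))) (.wt 2)))) (.div 5))) (.div 2)) (.wt 1)) (.lin 12)))) (.div 5))) (.div 2)) (.wt
    1))) (.div 5))) (.div 2))) (.wt 1))) (.lin 12))) (.wt 6))) (.lin 11)))) (.wt 6))) (.lin 12)))
    (.wt 2)) (.lin 11)))) (.wt 2)) (.lin 12)) (.wt 2)))

def cert5_3_4 : Cert :=
  (.split 6 (-100) (.split 5 139 (.lin 6) (.split 2 126 (.lin 9) (.split 1 (-74) (.split 7 (-42)
    (.split 2 135 (.lin 2) (.split 2 144 (.lin 9) (.split 0 (-83) (.split 5 148 (.lin 1) (.split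
    5 157 (.lin 4) (.splitN 666265 (.split 2 3694 (.split 6 (-3647) (.lin 9) (.split 5 3694
    (.split 0 (-3621) (.lin 1) (.split 4 (-3567) (.lin 6) (.splitN 611980 (.split 2 3388 (.split
    6 (-3341) (.lin 9) (.split 0 (-738) .sq (.splitN 566964 (.split 1 (-706) .sq (.split 2 784
    (.split 5 1454 (.split 6 (-740) (.lin 9) (.splitN 463590 (.split 0 (-629) .sq (.split 4
    (-579) (.lin 12) (.split 1 (-628) .sq (.split 2 703 (.split 2 640 (.split 6 (-596) (.lin 9)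
    (.splitN 433826 (.split 5 620 (.split 0 (-552) (.lin 1) (.split 1 (-534) (.lin 8) (.split 4
    (-498) (.lin 6) (.split 6 (-560) (.lin 6) (.split 3 20 (.split 5 166 (.lin 6) (.split 1 (-83)
    (.split 0 (-178) (.wt 2) (.split 4 (-129) (.lin 12) (.split 6 (-161) (.wt 2) (.split 2 208
    (.split 1 (-138) (.lin 11) (.split 5 374 (.split 5 320 (.split 0 (-167) (.wt 2) (.split 5 302
    (.split 4 (-68) (.split 0 (-119) (.wt 2) (.lin 12)) (.split 5 257 (.split 0 (-120) (.lin 12)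
    (.splitN 102000 (.wt 1) (.split 6 (-153) (.wt 2) (.split 1 (-129) (.lin 11) (.split 6 (-123)
    (.split 2 171 (.lin 9) (.split 1 (-110) (.splitN 126023 (.wt 6) (.split 4 (-58) (.wt 0)
    (.split 7 (-53) (.wt 0) (.split 2 190 (.splitN 139421 (.wt 1) (.split 4 (-49) (.wt 0) (.split
    5 221 (.split 0 (-92) (.wt 2) (.split 4 (-39) (.lin 12) (.split 6 (-132) (.split 1 (-119)
    (.splitN 160960 (.wt 1) (.split 1 (-120) (.wt 0) (.split 5 203 (.wt 0) (.lin 4)))) (.lin 11))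
    (.wt 2)))) (.lin 6)))) (.lin 2))))) (.lin 11))) (.split 2 172 (.split 1 (-102) (.lin 11)
    (.splitN 175318 (.split 7 (-51) (.split 0 (-92) (.splitN 140045 (.split 4 (-61) (.wt 0)
    (.splitN 109149 (.wt 1) (.split 4 (-54) (.wt 0) (.split 5 203 (.split 6 (-114) (.wt 2)
    (.split 1 (-93) (.lin 11) (.splitN 114424 (.wt 1) .cand))) (.lin 6))))) (.wt 0)) (.lin 12))
    (.split 0 (-111) (.lin 12) (.splitN 109571 (.wt 0) .cand))) (.wt 1))) (.lin 9))))))) (.lin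
    6))) (.lin 4))) (.lin 1)) (.lin 0))) (.lin 9))))) (.lin 11))) (.split 0 (-85) (.split 5 166
    (.lin 4) (.split 6 (-132) (.split 4 (-462) (.lin 6) (.split 2 180 (.lin 9) (.split 1 (-110)
    (.split 5 193 (.lin 1) (.splitN 113642 .sq (.split 0 (-100) (.split 5 211 (.lin 4) (.split 4
    (-47) (.splitN 123452 .sq (.split 6 (-137) (.split 1 (-119) (.split 0 (-107) (.split 5 229
    (.lin 4) (.split 4 (-56) (.splitN 138824 .sq (.split 4 (-132) (.wt 1) (.split 0 (-183) (.lin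
    12) (.splitN 150932 (.split 1 (-391) (.wt 1) (.split 2 469 (.split 6 (-425) (.lin 9) (.split
    0 (-121) (.split 5 247 (.lin 4) (.split 4 (-74) .sq (.lin 12))) (.wt 1))) (.lin 2))) (.wt
    1))))) (.lin 12))) (.wt 6)) (.lin 11)) (.wt 2))) (.lin 12))) (.wt 6)))) (.lin 11)))) (.wt
    2))) (.wt 2))))))) .sq) (.wt 1))) .sq) (.lin 2))))) (.wt 1))) (.lin 1)) (.lin 2))) (.wt 1))))
    (.div 2)) (.wt 1)))) (.div 5))) (.div 2)) (.wt 1)))) (.lin 12)))) (.splitN 89953 (.wt 1)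
    cert5_3_3)) (.lin 11)))) (.split 2 145 (.split 1 (-75) (.lin 11) (.split 3 21 (.split 1 (-29)
    (.split 6 (-48) (.split 2 81 (.lin 9) (.split 1 (-38) (.split 7 (-42) (.split 2 99 (.lin 2)
    (.split 0 (-83) (.split 5 121 (.lin 4) (.splitN 236099 (.split 4 (-2601) (.div 4) (.split 5
    2759 (.split 0 (-449) .sq (.split 5 527 (.split 4 (-399) (.lin 12) (.splitN 223000 (.splitN
    75868 (.wt 3) (.split 5 442 (.split 0 (-408) (.lin 1) (.split 4 (-354) (.lin 6) (.split 6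
    (-73) (.split 2 117 (.lin 9) (.split 1 (-56) (.split 5 139 (.lin 4) (.splitN 186414 (.split 4
    (-104) (.split 0 (-137) (.split 0 (-155) (.split 5 211 (.lin 4) (.splitN 105830 .sq (.split 7
    (-54) (.wt 0) .cand))) (.lin 12)) (.lin 3)) (.split 5 248 (.split 0 (-174) (.lin 3) (.split 0
    (-156) (.lin 12) (.splitN 172846 (.split 4 (-70) (.split 0 (-119) (.split 5 175 (.lin 4)
    (.split 7 (-51) (.split 6 (-85) (.wt 2) (.splitN 110531 .cand (.wt 1))) (.split 0 (-147)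
    (.lin 12) (.splitN 108384 (.wt 0) .cand)))) (.lin 12)) (.split 0 (-120) (.lin 12) (.splitN
    99375 (.wt 0) (.split 0 (-93) (.split 5 157 (.lin 4) (.split 4 (-47) (.split 6 (-81) (.split
    1 (-65) (.split 7 (-47) (.splitN 120000 .cand (.wt 1)) (.wt 2)) (.lin 11)) (.wt 2)) (.lin
    12))) (.wt 2))))) (.wt 1)))) (.lin 0))) (.wt 1))) (.lin 11))) (.split 2 118 (.split 1 (-48)
    (.lin 11) (.splitN 129799 (.split 4 (-59) (.split 5 139 (.lin 0) (.split 0 (-110) (.split 5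
    148 (.lin 4) (.splitN 120813 (.split 4 (-67) (.split 5 157 (.lin 6) (.split 0 (-245) (.split
    5 274 (.lin 1) (.split 4 (-182) .sq (.lin 3))) (.wt 2))) (.wt 0)) (.wt 6))) (.lin 12))) (.wt
    0)) (.wt 6))) (.lin 9))))) .sq)) (.wt 1))) (.lin 1))) (.lin 0))) (.wt 1))) (.lin 12)))
    (.split 2 127 (.split 0 (-97) (.split 5 130 (.lin 1) (.split 5 139 (.lin 4) (.split 0 (-103)
    (.split 5 148 (.lin 4) (.split 4 (-74) (.split 6 (-60) (.split 5 157 (.lin 7) (.split 2 90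
    (.lin 9) (.split 1 (-47) (.split 7 (-33) (.split 2 99 (.lin 2) (.splitN 272960 (.split 0
    (-474) .sq (.split 5 545 (.split 4 (-489) (.lin 0) (.split 0 (-114) (.split 5 166 (.lin 1)
    (.split 4 (-83) (.split 6 (-67) (.split 1 (-56) (.splitN 228002 .cand (.wt 1)) (.lin 11))
    (.wt 2)) (.lin 12))) (.wt 2))) (.lin 1))) (.wt 1))) (.split 2 118 (.split 0 (-271) (.split 5
    319 (.lin 1) (.split 4 (-245) (.splitN 1040892 (.split 5 5782 (.split 4 (-5727) (.lin 0)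
    (.split 0 (-5727) (.lin 1) (.split 0 (-349) (.split 5 400 (.lin 1) (.split 4 (-326) (.splitN
    407312 .sq (.splitN 888854 (.split 5 4936 (.split 0 (-4881) (.lin 1) (.split 6 (-67) (.split
    2 99 (.lin 9) (.split 1 (-56) (.splitN 699341 (.split 5 3874 (.split 4 (-3801) (.lin 0)
    (.split 0 (-373) (.split 5 436 (.lin 1) (.split 4 (-353) (.splitN 479483 .sq (.split 6 (-78)
    (.split 2 108 (.lin 9) (.split 1 (-65) (.split 0 (-412) (.split 5 481 (.lin 1) (.split 4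
    (-380) (.splitN 573650 .sq (.split 0 (-2702) (.split 5 2767 (.lin 1) .sq) (.wt 1))) (.lin
    3))) (.wt 6)) (.lin 11))) (.wt 1))) (.lin 12))) (.wt 2))) (.div 5)) (.wt 1)) (.lin 11))) (.wt
    1))) (.div 5)) (.wt 1))) (.lin 12))) (.wt 2)))) (.div 5)) (.wt 1)) (.lin 12))) (.wt 2)) (.lin
    2))) (.lin 11)))) (.wt 2)) (.lin 12))) (.wt 2)))) (.wt 2)) (.lin 2))) (.lin 11))) (.wt 2))
    (.lin 11)) (.wt 2))) (.lin 9)))

def cert5_3_5 : Cert :=
  (.split 3 13 (.split 7 (-46) (.split 2 63 (.lin 2) (.split 0 (-56) (.split 5 67 (.lin 4)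
    (.split 6 (-45) (.wt 2) (.split 1 (-30) (.lin 11) (.split 6 (-28) (.split 2 72 (.lin 9)
    (.split 1 (-20) (.splitN 96328 (.wt 6) (.split 4 (-37) (.wt 0) (.split 7 (-760) (.wt 0)
    (.split 2 793 (.split 5 824 (.split 0 (-110) (.wt 2) (.split 5 131 (.split 0 (-95) (.wt 2)
    (.split 7 (-83) (.lin 12) (.split 4 (-15) (.wt 2) (.split 6 (-32) (.wt 2) (.split 2 109
    (.split 1 (-21) (.lin 11) (.split 5 113 (.splitN 387053 (.wt 1) (.split 7 (-53) (.split 2 81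
    (.lin 2) (.split 0 (-65) (.split 5 85 (.lin 0) (.split 7 (-75) (.wt 0) (.split 2 100 (.split
    0 (-84) (.lin 3) (.split 5 104 (.splitN 646199 (.wt 1) (.split 7 (-70) (.wt 0) (.split 2 91
    (.split 5 95 (.splitN 1618670 (.wt 1) (.split 7 (-57) (.wt 0) (.wt 0))) (.lin 0)) (.lin 2))))
    (.lin 0))) (.lin 2)))) (.lin 3))) (.wt 0))) (.lin 0))) (.lin 3)))))) (.lin 4))) (.lin 0))
    (.lin 2))))) (.lin 11))) (.split 1 (-12) (.lin 11) (.split 0 (-70) (.split 5 85 (.lin 4)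
    (.split 4 (-23) (.splitN 312924 (.split 0 (-8661) (.div 0) (.split 2 1732 (.split 5 1732
    (.split 0 (-1713) (.lin 4) (.split 0 (-78) (.split 5 94 (.lin 4) (.split 7 (-54) (.split 2 72
    (.lin 2) (.splitN 202320 (.split 0 (-428) .sq (.split 2 415 (.split 7 (-398) (.lin 2) (.split
    4 (-372) (.lin 3) (.split 0 (-94) (.split 5 112 (.lin 4) (.split 4 (-36) (.split 7 (-70)
    (.split 2 90 (.lin 2) (.split 5 121 (.lin 0) (.splitN 123822 (.split 0 (-301) .sq (.split 2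
    280 (.split 7 (-263) (.lin 2) (.split 4 (-228) (.lin 3) (.split 5 311 (.split 4 (-49) (.split
    5 139 (.lin 0) (.split 7 (-88) (.split 2 108 (.lin 2) (.split 4 (-210) (.lin 0) (.split 5 157
    (.lin 0) (.split 7 (-92) (.split 2 117 (.lin 2) (.split 0 (-155) (.split 5 166 (.lin 0)
    (.splitN 79505 .sq (.split 7 (-149) (.wt 1) (.split 2 163 (.split 0 (-171) (.split 5 184
    (.lin 4) (.splitN 91745 .sq (.wt 1))) (.wt 2)) (.lin 2))))) (.lin 3))) (.wt 2))))) (.wt 2)))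
    (.wt 2)) (.lin 4)))) (.lin 3))) (.wt 1)))) (.wt 2)) (.wt 2))) (.wt 2)))) (.lin 3))) (.wt 1)))
    (.wt 2))) (.wt 2))) (.div 5)) (.div 2))) (.wt 1)) (.wt 2))) (.wt 2))))))) (.lin 12))) (.split
    6 (-38) (.split 2 63 (.lin 9) (.split 1 (-38) (.split 4 (-18) (.split 0 (-38) (.wt 2) (.lin
    12)) (.wt 1)) (.lin 11))) (.split 2 73 (.split 1 (-30) (.lin 11) (.split 6 (-28) (.split 1
    (-20) (.split 7 (-21) (.split 0 (-38) (.split 4 (-12) (.split 0 (-47) (.split 0 (-80) (.wt 2)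
    (.split 5 113 (.split 5 104 (.split 4 (-33) (.wt 2) (.split 6 (-36) (.wt 1) (.split 5 86
    (.split 2 64 (.split 1 (-21) (.lin 11) (.split 7 (-33) (.split 2 63 (.lin 2) (.split 0 (-56)
    (.splitN 930112 (.wt 1) (.wt 0)) (.lin 3))) (.wt 1))) (.lin 9)) (.lin 6)))) (.lin 4)) (.lin
    1))) (.lin 12)) (.wt 1)) (.lin 12)) (.wt 1)) (.lin 11)) (.split 1 (-12) (.lin 11) (.wt 2))))
    (.lin 9)))) (.split 2 45 (.lin 2) (.splitN 33447 (.wt 3) (.split 6 (-31) (.split 2 54 (.lin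
    9) (.split 7 (-21) (.split 2 63 (.lin 9) (.split 0 (-38) (.split 7 (-64) (.split 2 90 (.lin
    2) (.split 2 99 (.lin 9) (.split 0 (-74) (.split 5 85 (.lin 4) cert5_3_1) (.lin 12))))
    (.splitN 37916 (.wt 0) (.split 6 (-40) (.split 5 58 (.lin 6) (.split 2 72 (.lin 9) (.split 4
    (-30) (.split 5 85 (.lin 6) (.split 0 (-65) cert5_3_4 (.lin 12))) (.split 0 (-84) (.lin 12)
    (.split 3 22 (.split 6 (-97) (.split 2 126 (.lin 9) (.split 1 (-83) (.split 5 94 (.lin 1)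
    (.split 5 121 (.lin 4) (.split 6 (-107) (.split 5 130 (.lin 6) (.split 7 (-29) (.split 4
    (-20) (.split 0 (-56) (.split 6 (-226) (.split 2 252 (.lin 3) (.split 1 (-209) (.split 5 238
    (.lin 1) (.split 5 265 (.lin 4) (.splitN 234683 .sq (.split 7 (-46) (.split 2 270 (.lin 2)
    (.split 0 (-65) (.splitN 445605 (.split 2 2470 (.split 5 2489 (.split 4 (-27) (.wt 0) (.split
    0 (-75) (.lin 12) (.split 6 (-946) (.wt 2) (.split 2 991 (.split 1 (-921) (.lin 11) (.split 5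
    1004 (.split 6 (-877) (.wt 2) (.split 7 (-54) (.wt 3) (.split 0 (-66) (.lin 12) (.splitN
    394963 (.split 6 (-270) (.split 2 315 (.lin 3) (.split 1 (-254) (.split 5 319 (.lin 1)
    (.splitN 347210 .sq (.split 6 (-718) (.wt 0) (.split 1 (-696) (.lin 11) (.splitN 362349
    (.split 6 (-328) (.split 2 378 (.lin 3) (.split 5 382 (.lin 1) .sq)) (.wt 0)) (.wt 1))))))
    (.lin 11))) (.wt 0)) (.wt 1))))) (.lin 1))) (.lin 3))))) (.lin 1)) (.div 2)) (.wt 3)) (.lin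
    12))) (.split 0 (-66) (.lin 12) (.split 6 (-303) (.split 2 333 (.lin 3) (.split 1 (-290)
    (.split 5 337 (.lin 1) (.splitN 409310 .sq (.split 6 (-327) (.split 2 360 (.lin 3) (.split 1
    (-317) (.split 5 364 (.lin 1) (.splitN 480752 .sq (.splitN 149210526 (.split 6 (-348) (.split
    5 391 (.lin 6) (.split 2 387 (.lin 9) (.split 1 (-335) (.splitN 545498 .sq (.split 4 (-29)
    (.wt 3) (.split 0 (-57) (.lin 12) (.wt 0)))) (.lin 11)))) (.wt 6)) (.wt 1)))) (.lin 11)))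
    (.wt 6)))) (.lin 11))) (.wt 2))))))) (.lin 11))) (.split 2 280 (.split 1 (-201) (.lin 11)
    (.split 6 (-122) (.split 1 (-110) (.split 5 166 (.lin 4) (.split 7 (-46) (.split 4 (-25)
    (.splitN 234738 .cand (.wt 1)) (.split 0 (-75) (.lin 12) (.wt 2))) (.wt 2))) (.lin 11)) (.wt
    2))) (.lin 3))) (.lin 12)) (.wt 0)) (.wt 3))) (.wt 2)))) (.lin 11))) (.wt 2)) (.wt 2))))))
    (.wt 2)))) (.lin 12))) (.wt 3))) (.wt 2)))))

def cert5_3_6 : Cert :=
  (.split 7 (-82) (.split 2 171 (.lin 9) (.split 0 (-101) (.split 5 121 (.lin 4) (.splitN 257360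
    (.split 0 (-7131) (.div 0) (.split 7 (-7112) (.lin 12) (.split 1 (-2853) (.div 1) (.split 2
    10054 (.split 2 1426 (.split 7 (-1370) (.lin 2) (.split 6 (-1343) (.lin 9) (.split 4 (-2853)
    (.div 4) (.split 5 1426 (.split 0 (-2712) (.lin 1) (.split 0 (-1398) (.lin 4) (.splitN 235692
    (.split 2 1300 (.split 7 (-1244) (.lin 2) (.split 6 (-1217) (.lin 9) (.split 5 1300 (.split 0
    (-1272) (.lin 4) (.split 1 (-21) (.split 5 130 (.lin 4) (.splitN 175520 (.split 2 958 (.split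
    7 (-893) (.lin 2) (.split 6 (-875) (.lin 9) (.split 5 958 (.split 0 (-921) (.lin 4) (.split 3
    62 (.split 4 (-23) (.split 5 139 (.lin 6) (.split 0 (-110) (.splitN 79127 .sq (.splitN 137709
    (.split 2 760 (.split 1 (-642) (.lin 2) (.split 7 (-695) (.lin 2) (.split 6 (-677) (.lin 9)
    (.split 5 760 (.split 0 (-723) (.lin 4) (.split 4 (-642) (.lin 6) (.split 3 57 (.split 5 148
    (.lin 6) (.split 1 (-38) (.splitN 122293 (.split 2 670 (.split 6 (-587) (.lin 9) (.split 5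
    670 (.split 0 (-624) (.lin 4) (.split 4 (-543) (.lin 6) (.split 7 (-310) (.wt 1) (.split 3 51
    (.split 5 157 (.lin 6) (.split 1 (-47) (.splitN 85859 .sq (.splitN 114110 (.split 6 (-113)
    (.split 5 184 (.lin 6) (.split 2 198 (.lin 9) (.split 1 (-74) .sq (.lin 11)))) (.wt 1)) (.wt
    1))) (.lin 11))) (.wt 2))))) (.div 5))) (.div 2)) (.wt 1)) (.lin 11))) (.wt 2)))) (.div
    5))))) (.div 2)) (.wt 1))) (.lin 12))) (.wt 2)) (.wt 2))) (.div 5)))) (.div 2)) (.wt 1)))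
    (.wt 2))) (.div 5)))) (.div 2)) (.wt 1)))) (.div 5))))) (.div 2)) (.lin 2))))) (.wt 1)))
    (.lin 12))) (.split 0 (-99) (.split 5 121 (.lin 4) (.splitN 1012262 (.split 1 (-11241) (.div
    1) (.split 2 11404 (.split 2 5620 (.split 1 (-5547) (.lin 2) (.split 6 (-5582) (.lin 9)
    (.split 5 5620 (.split 0 (-5655) (.lin 1) (.split 4 (-5583) (.lin 6) (.splitN 559633 (.split
    2 3100 (.split 1 (-3027) (.lin 2) (.split 6 (-3062) (.lin 9) (.split 5 3100 (.split 0 (-3135)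
    (.lin 1) (.split 4 (-3063) (.lin 6) (.splitN 409750 (.split 2 2272 (.split 1 (-2199) (.lin 2)
    (.split 6 (-2234) (.lin 9) (.split 5 2272 (.split 0 (-2307) (.lin 1) (.split 4 (-2235) (.lin
    6) (.splitN 336173 (.split 2 1858 (.split 1 (-1785) (.lin 2) (.split 6 (-1820) (.lin 9)
    (.split 5 1858 (.split 0 (-1893) (.lin 1) (.split 4 (-1821) (.lin 6) (.splitN 292201 (.split
    2 1606 (.split 1 (-1533) (.lin 2) (.split 6 (-1568) (.lin 9) (.split 5 1606 (.split 0 (-1641)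
    (.lin 1) (.split 4 (-1569) (.lin 6) (.splitN 262520 (.split 2 1444 (.split 1 (-1371) (.lin 2)
    (.split 6 (-1406) (.lin 9) (.split 5 1444 (.split 0 (-1479) (.lin 1) (.split 4 (-1407) (.lin
    6) (.splitN 242111 (.split 2 1336 (.split 6 (-1298) (.lin 9) (.split 5 1336 (.split 0 (-1371)
    (.lin 1) (.split 4 (-1299) (.lin 6) (.splitN 227870 (.split 2 1264 (.split 1 (-1191) (.lin 2)
    (.split 6 (-1226) (.lin 9) (.split 5 1264 (.split 4 (-1227) (.lin 6) (.split 1 (-21) (.split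
    0 (-1227) (.lin 4) (.split 5 130 (.lin 4) (.splitN 205600 (.split 2 1138 (.split 1 (-1065)
    (.lin 2) (.split 6 (-1100) (.lin 9) (.split 5 1138 (.split 0 (-1101) (.lin 4) (.split 4
    (-1101) (.lin 6) (.splitN 189250 (.split 2 1048 (.split 6 (-1010) (.lin 9) (.split 5 1048
    (.split 0 (-1011) (.lin 4) (.split 4 (-1011) (.lin 6) (.splitN 177038 (.split 2 976 (.split 6
    (-938) (.lin 9) (.split 5 976 (.split 0 (-939) (.lin 4) (.split 4 (-939) (.lin 6) (.splitN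
    166926 (.split 2 922 (.split 1 (-849) (.lin 2) (.split 6 (-884) (.lin 9) (.split 5 922
    (.split 0 (-885) (.lin 4) (.split 4 (-885) (.lin 6) (.splitN 159135 (.split 2 868 (.split 6
    (-830) (.lin 9) (.split 5 868 (.split 0 (-831) (.lin 4) (.split 7 (-40) (.split 4 (-786)
    (.lin 8) (.split 2 135 (.lin 9) (.split 0 (-169) (.split 1 (-687) (.lin 4) (.split 5 202
    (.lin 4) (.split 6 (-785) (.lin 7) (.split 4 (-101) (.splitN 112229 .sq (.splitN 126365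
    (.split 5 688 (.split 1 (-534) (.lin 8) (.split 6 (-605) (.lin 7) (.split 4 (-606) (.lin 8)
    (.wt 6)))) (.div 5)) (.wt 6))) (.lin 12))))) (.wt 2)))) (.wt 0))) (.div 5))) (.div 2)) (.wt
    6)))) (.div 5)))) (.div 2)) (.wt 6)))) (.div 5))) (.div 2)) (.wt 6)))) (.div 5))) (.div 2))
    (.wt 6)))) (.div 5)))) (.div 2)) (.wt 6)))) (.wt 0))) (.div 5)))) (.div 2)) (.wt 6)))) (.div
    5))) (.div 2)) (.wt 6)))) (.div 5)))) (.div 2)) (.wt 6)))) (.div 5)))) (.div 2)) (.wt 6))))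
    (.div 5)))) (.div 2)) (.wt 6)))) (.div 5)))) (.div 2)) (.wt 6)))) (.div 5)))) (.div 2)) (.wt
    6)))) (.div 5)))) (.div 2)) (.lin 2))) (.wt 6))) (.wt 2)))

def cert5_3_7 : Cert :=
  (.splitN 382426 (.split 2 2110 (.split 6 (-2045) (.lin 3) (.split 0 (-600) .sq (.splitN 360397
    (.split 1 (-583) .sq (.split 6 (-596) (.lin 11) (.splitN 312696 (.split 2 547 (.split 0
    (-480) (.lin 3) (.split 4 466 (.split 5 500 (.split 6 (-133) (.split 2 198 (.lin 9) (.split 1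
    (-119) (.split 5 157 (.lin 4) (.splitN 103643 .sq (.wt 0))) (.lin 11))) (.split 1 (-111)
    (.lin 11) (.splitN 178543 (.split 2 404 (.split 0 (-336) (.lin 3) (.split 7 (-362) (.lin 2)
    (.split 4 322 (.split 5 356 (.split 6 (-69) (.split 2 135 (.lin 9) (.split 1 (-56) (.split 4
    286 (.split 5 94 (.lin 4) (.splitN 99464 (.split 0 (-89) (.wt 2) (.split 5 194 (.split 2 272
    (.split 4 160 (.splitN 94562 (.split 2 259 (.split 4 142 (.split 4 59 (.split 0 (-59) (.wt 2)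
    (.split 5 167 (.split 7 (-110) (.lin 12) (.splitN 47161 (.wt 1) (.split 6 (-121) (.wt 2)
    (.split 5 158 (.split 1 (-102) (.lin 11) (.split 7 (-87) (.splitN 67804 .cand (.wt 0))
    (.split 4 43 (.split 0 (-54) (.wt 2) (.split 5 149 (.split 6 (-109) (.wt 2) (.split 5 140
    (.split 1 (-84) (.lin 11) (.split 4 34 (.splitN 69675 .cand (.wt 1)) (.split 2 153 (.lin 3)
    (.split 0 (-39) (.lin 12) (.split 5 122 (.split 7 (-82) (.splitN 55800 (.wt 1) (.split 6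
    (-76) (.split 1 (-65) (.splitN 61570 (.split 1 (-80) (.wt 0) (.split 5 113 (.split 6 (-92)
    (.lin 6) (.split 6 (-84) (.split 2 171 (.lin 3) (.split 1 (-74) (.split 5 112 (.lin 0) .sq)
    (.lin 11))) (.wt 0))) (.lin 4))) (.wt 0)) (.lin 11)) (.wt 1))) (.lin 12)) (.lin 4)))))) (.lin
    6))) (.lin 4))) (.lin 12)))) (.lin 7))))) (.lin 4))) (.split 2 171 (.lin 3) (.split 7 (-100)
    (.splitN 62495 .sq (.split 0 (-53) (.wt 0) (.split 7 (-156) (.wt 0) (.split 4 115 (.split 6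
    (-112) (.wt 0) (.split 5 140 (.split 7 (-144) (.wt 0) (.split 4 97 (.split 0 (-47) (.wt 0)
    (.wt 1)) (.lin 12))) (.lin 7))) (.lin 12))))) (.lin 12)))) (.lin 3)) .sq) (.wt 3)) (.lin 3))
    .sq) (.lin 4))) (.wt 3))) (.lin 3)) (.lin 11))) (.split 1 (-48) (.lin 11) (.splitN 117188
    (.split 2 320 (.split 0 (-255) (.lin 3) (.split 0 (-99) (.split 2 162 (.lin 3) (.split 4 178
    (.split 5 121 (.lin 4) (.split 7 (-127) (.splitN 70433 .sq (.split 1 (-25) (.wt 1) (.split 6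
    (-38) (.lin 11) (.wt 1)))) (.lin 12))) (.lin 3))) (.splitN 105167 (.split 2 304 (.split 7
    (-263) (.lin 2) (.split 6 (-51) (.split 1 (-38) (.split 5 76 (.lin 4) (.splitN 83229 (.split
    2 254 (.split 4 169 (.split 7 (-200) (.lin 2) (.split 4 160 (.split 7 (-113) (.split 2 171
    (.lin 2) (.splitN 56231 .sq (.splitN 65351 (.split 4 25 (.wt 0) (.split 4 39 (.wt 1) (.split
    0 (-43) (.split 5 85 (.lin 4) (.splitN 59687 .sq (.split 0 (-61) (.split 5 103 (.lin 4) .sq)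
    (.wt 1)))) (.wt 2)))) (.wt 1)))) (.split 0 (-84) (.lin 12) (.split 5 131 (.splitN 46317 (.wt
    1) (.split 0 (-39) (.split 5 85 (.lin 4) (.split 4 61 (.split 7 (-73) (.splitN 70502 .cand
    (.wt 1)) (.lin 12)) (.lin 12))) (.wt 2))) (.lin 4)))) (.lin 3))) (.lin 0)) .sq) (.wt 1)))
    (.lin 11)) (.split 5 122 (.split 1 (-30) (.lin 11) (.splitN 62892 (.split 4 111 (.split 2 253
    (.split 7 (-218) (.lin 2) (.split 7 (-200) (.lin 12) (.splitN 61015 (.split 4 61 (.split 2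
    208 (.split 7 (-173) (.lin 2) (.split 7 (-155) (.lin 12) (.splitN 58862 (.split 0 (-48)
    (.split 2 117 (.lin 3) (.split 5 76 (.lin 4) (.splitN 54003 (.split 0 (-57) (.split 5 85
    (.lin 4) (.splitN 52516 (.split 0 (-71) (.split 5 94 (.lin 4) (.split 7 (-100) (.split 1
    (-25) (.split 2 144 (.lin 2) (.split 5 103 (.lin 4) (.split 6 (-46) .sq (.lin 11)))) (.wt 0))
    (.lin 12))) (.wt 0)) (.wt 6))) (.wt 0)) (.wt 6)))) (.wt 0)) (.wt 6)))) (.lin 0)) (.wt 0))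
    (.wt 6)))) (.lin 0)) (.wt 0)) (.wt 6))) (.lin 7)))) .sq) (.wt 1)))) .sq) (.wt 1)))) (.lin
    10)) (.lin 3)))) .sq) (.wt 1)))) (.lin 10)) (.lin 3))) .sq) (.wt 1)))) (.wt 1)))) (.div 2))
    (.wt 1))

def cert5_3_8 : Cert :=
  (.split 3 11 (.split 0 (-27) (.wt 2) (.split 4 24 (.lin 12) (.split 6 (-215) (.wt 2) (.split 5
    221 (.split 6 (-190) (.wt 2) (.split 5 194 (.split 6 (-72) (.split 2 108 (.lin 3) (.split 1
    (-65) (.splitN 120548 (.split 2 652 (.split 4 565 (.splitN 76173 (.wt 6) (.split 4 54 (.wt 0)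
    (.split 7 (-73) (.wt 0) (.lin 12)))) (.lin 3)) (.div 2)) (.wt 0)) (.lin 11))) (.split 5 77
    (.split 1 (-57) (.lin 11) (.splitN 1749257 (.split 2 1319 (.split 4 1312 (.splitN 1525269
    (.split 2 1232 (.split 4 1222 (.split 0 (-16) (.split 5 40 (.lin 4) (.splitN 195477 (.split 2
    1084 (.split 4 1069 (.splitN 149724 (.split 2 814 (.split 4 799 (.splitN 49191 (.wt 6)
    (.split 7 (-447) (.wt 0) (.split 2 505 (.split 4 493 (.split 4 457 (.splitN 50044 (.wt 6)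
    (.split 7 (-237) (.wt 0) (.split 4 214 (.split 7 (-201) (.wt 0) (.split 4 178 (.splitN 52683
    (.wt 6) (.split 7 (-149) (.wt 0) (.split 4 124 (.split 7 (-133) (.wt 0) (.split 4 106
    (.splitN 56168 (.wt 6) (.split 6 (-62) (.wt 0) (.split 5 68 (.split 7 (-108) (.wt 0) (.split
    4 79 (.splitN 61937 (.wt 6) (.split 6 (-51) (.wt 0) (.split 1 (-39) (.lin 11) (.split 5 59
    (.split 7 (-86) (.wt 0) (.split 4 61 (.splitN 70787 (.wt 6) (.split 1 (-33) (.wt 0) (.split 5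
    50 (.splitN 77221 (.wt 6) (.split 1 (-28) (.wt 0) (.split 5 41 (.splitN 88841 (.wt 6) (.split
    4 43 (.wt 0) (.split 2 99 (.lin 0) (.split 7 (-73) (.wt 0) (.lin 1))))) (.lin 4)))) (.lin
    4)))) (.lin 12))) (.lin 4))))) (.lin 12))) (.lin 7)))) (.lin 12))) (.lin 12)))) (.lin 12)))
    (.lin 12)))) (.lin 3)) (.lin 0)) (.lin 1)))) (.lin 0)) (.div 2)) (.wt 3)) (.lin 0)) (.div 2))
    (.wt 0))) (.split 4 33 (.lin 12) (.split 6 (-34) (.split 1 (-29) (.split 5 40 (.lin 4)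
    (.splitN 139699 (.split 2 760 (.split 2 359 (.split 4 331 (.split 4 304 (.split 7 (-121)
    (.split 2 162 (.lin 1) (.split 4 114 (.lin 12) (.splitN 59984 .sq (.split 6 (-43) (.split 1
    (-38) (.split 5 49 (.lin 4) (.split 6 (-61) (.wt 0) (.split 5 59 (.split 1 (-48) (.lin 11)
    (.split 7 (-217) (.wt 0) (.split 2 262 (.split 4 214 (.split 4 196 (.split 1 (-44) (.wt 1)
    (.split 5 50 (.split 6 (-47) (.lin 7) (.wt 1)) (.lin 4))) (.lin 12)) (.lin 0)) (.lin 1))))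
    (.lin 7)))) (.lin 11)) (.wt 1))))) (.split 4 106 (.split 6 (-40) (.split 1 (-38) (.split 5 49
    (.lin 4) (.splitN 109705 .cand (.wt 1))) (.lin 11)) (.wt 2)) (.lin 12))) (.lin 3)) (.lin 0))
    .sq) (.div 2)) (.wt 1))) (.lin 11)) (.wt 2)))) (.lin 0)) .sq) (.wt 1)) (.lin 0)) .sq) (.wt
    1))) (.lin 7))) (.lin 7))) (.lin 7))))) (.split 6 (-37) (.splitN 453011 (.split 1 (-5013)
    (.div 1) (.split 2 2506 (.split 4 2455 (.split 6 (-2477) (.lin 3) (.split 0 (-13) (.split 5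
    40 (.lin 4) (.splitN 331586 (.split 2 1840 (.split 4 1780 (.split 6 (-1802) (.lin 3) (.split
    6 (-42) (.split 5 49 (.lin 7) (.split 1 (-29) (.splitN 207244 (.split 2 1138 (.split 4 1069
    (.split 6 (-1100) (.lin 3) (.split 1 (-435) .sq (.split 5 464 (.split 6 (-461) (.lin 7)
    (.splitN 183940 (.split 2 416 (.split 7 (-380) (.lin 1) (.split 4 349 (.split 6 (-380) (.lin
    3) (.split 6 (-133) (.split 2 171 (.lin 3) (.split 1 (-119) (.split 5 139 (.lin 4) (.splitN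
    84869 .sq (.split 4 30 (.wt 1) (.split 2 189 (.lin 3) (.split 7 (-55) (.splitN 93194 .sq (.wt
    1)) (.lin 12)))))) (.lin 11))) (.split 5 140 (.split 1 (-111) (.lin 11) (.split 6 (-49)
    (.split 5 58 (.lin 7) (.split 1 (-38) (.splitN 115737 (.split 2 321 (.split 7 (-272) (.lin 1)
    (.split 4 62 (.split 2 217 (.split 7 (-92) (.lin 12) (.splitN 101197 (.split 6 (-59) (.split
    5 67 (.lin 7) (.split 4 57 (.split 7 (-83) (.lin 12) (.split 4 50 (.split 7 (-74) (.lin 12)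
    (.split 0 (-21) .cand (.wt 2))) (.wt 2))) (.wt 2))) (.wt 2)) (.wt 1))) (.lin 10)) (.split 7
    (-91) (.split 0 (-25) (.split 5 67 (.lin 4) (.split 7 (-100) (.split 1 (-46) (.split 7 (-254)
    (.lin 2) (.split 5 76 (.lin 4) (.splitN 67707 (.split 1 (-51) (.split 2 171 (.lin 2) (.split
    5 85 (.lin 4) (.split 6 (-73) (.splitN 61442 .sq (.split 6 (-96) (.split 1 (-83) (.split 5
    112 (.lin 4) .sq) (.lin 11)) (.wt 1))) (.lin 7)))) (.wt 2)) (.wt 1)))) (.wt 2)) (.lin 12)))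
    (.wt 2)) (.lin 12)))) .sq) (.wt 1)) (.lin 11))) (.wt 2))) (.lin 7)))) (.lin 3))) .sq) (.wt
    1))) (.lin 4)))) (.lin 3)) (.div 2)) (.wt 1)) (.lin 11))) (.wt 2))) (.lin 3)) (.div 2)) (.wt
    1))) (.wt 2))) (.lin 3)) (.div 2))) (.wt 1)) (.lin 11)))

def cert5_3_9 : Cert :=
  (.split 0 (-30) (.split 2 72 (.lin 3) (.split 5 58 (.lin 4) (.split 7 (-46) (.split 3 11
    (.splitN 73326 (.split 2 400 (.split 4 331 (.split 5 383 (.wt 2) (.lin 10)) (.lin 3)) (.div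
    2)) (.wt 0)) (.split 2 81 (.lin 2) (.split 6 (-37) (.split 4 22 (.splitN 111535 (.split 2 616
    (.split 5 590 (.split 6 (-136) (.wt 2) (.split 1 (-111) (.lin 11) (.split 0 (-311) .sq
    (.split 2 451 (.split 5 518 (.split 4 11 (.splitN 44736 (.split 2 238 (.split 5 212 (.splitN
    42348 (.split 0 (-52) (.wt 2) (.split 7 (-56) (.lin 12) (.splitN 32174 (.wt 1) (.split 1
    (-54) (.wt 0) (.split 5 95 (.splitN 33742 (.wt 1) (.split 1 (-33) (.wt 0) (.split 5 77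
    (.split 6 (-42) (.wt 2) (.split 1 (-21) (.lin 11) (.splitN 37404 (.wt 1) (.split 7 (-47) (.wt
    0) (.wt 0))))) (.lin 4)))) (.lin 4)))))) (.wt 3)) (.lin 10)) (.div 2)) (.wt 0)) (.split 7
    (-55) (.split 6 (-73) (.split 1 (-56) (.wt 2) (.lin 11)) (.split 1 (-48) (.lin 11) (.split 0
    (-88) (.split 2 144 (.lin 3) (.split 5 112 (.lin 4) (.split 7 (-109) (.splitN 56420 .sq (.wt
    0)) (.lin 12)))) (.split 2 163 (.split 7 (-173) (.lin 1) (.split 7 (-128) (.lin 2) (.split 5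
    131 (.split 7 (-101) (.lin 12) (.split 6 (-51) (.split 2 108 (.lin 3) (.split 1 (-38) (.split
    5 67 (.lin 0) (.splitN 58908 (.split 0 (-52) (.wt 2) (.split 5 95 (.split 7 (-65) (.lin 12)
    (.splitN 48802 (.wt 1) .cand)) (.lin 4))) (.wt 3))) (.lin 11))) (.split 1 (-30) (.lin 11)
    (.split 5 113 (.split 0 (-54) (.split 2 108 (.lin 3) (.split 5 76 (.lin 4) (.split 0 (-57)
    (.split 7 (-82) (.split 6 (-40) (.split 1 (-29) (.splitN 48166 (.wt 6) (.wt 0)) (.lin 11))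
    (.wt 2)) (.lin 12)) (.wt 2)))) (.wt 2)) (.lin 4))))) (.lin 4)))) (.lin 3))))) (.lin 12)))
    (.lin 0)) (.lin 3))))) (.lin 10)) (.div 2)) (.wt 3)) (.split 7 (-64) (.splitN 423122 (.split
    2 2344 (.split 0 (-2280) (.lin 3) (.split 4 2266 (.split 6 (-2279) (.lin 3) cert5_3_7) (.lin
    3))) (.div 2)) (.wt 1)) (.lin 12))) (.lin 11)))) (.lin 12)))) (.split 7 (-46) (.split 2 54
    (.lin 1) (.split 2 72 (.lin 9) (.split 4 15 (.lin 12) cert5_3_8))) (.split 4 25 (.splitN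
    25683 (.wt 1) (.split 3 11 (.split 6 (-337) (.wt 6) (.split 2 388 (.split 5 392 (.split 6
    (-294) (.wt 6) (.split 1 (-282) (.lin 11) (.split 5 311 (.split 6 (-90) (.split 2 108 (.lin
    3) (.split 1 (-83) (.splitN 157244 (.wt 6) (.split 4 11 (.wt 0) (.split 7 (-28) (.wt 0) (.lin
    12)))) (.lin 11))) (.split 2 136 (.split 2 118 (.split 1 (-75) (.lin 11) (.split 5 158
    (.split 5 122 (.split 0 (-20) (.split 4 16 (.split 7 (-28) (.wt 2) (.lin 12)) (.lin 12))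
    (.split 5 86 (.split 4 13 (.split 7 (-20) (.lin 12) (.split 6 (-32) (.split 2 54 (.lin 3)
    (.split 1 (-29) (.split 5 40 (.lin 1) (.splitN 74469 (.wt 1) (.splitN 103824 (.split 1 (-62)
    (.wt 0) (.split 2 82 (.split 5 68 (.split 6 (-56) (.wt 0) (.split 2 73 (.split 5 59 (.splitN
    81469 (.wt 1) (.split 1 (-47) (.wt 0) (.split 2 64 (.split 5 50 (.splitN 86497 (.wt 1)
    (.split 6 (-45) (.wt 0) (.split 1 (-30) (.lin 11) (.wt 0)))) (.lin 1)) (.lin 2)))) (.lin 1))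
    (.lin 3))) (.lin 1)) (.lin 2))) (.wt 3)))) (.lin 11))) (.wt 2))) (.split 7 (-28) (.split 6
    (-39) (.split 2 72 (.lin 3) (.split 1 (-38) (.split 5 40 (.lin 1) (.split 5 49 (.lin 4)
    (.split 6 (-79) (.wt 2) (.split 1 (-66) (.lin 11) (.split 5 77 (.split 6 (-60) (.split 1
    (-56) (.splitN 106693 (.wt 6) (.split 4 18 (.wt 0) (.split 7 (-37) (.wt 0) (.lin 12)))) (.lin
    11)) (.split 2 91 (.split 1 (-48) (.lin 11) (.split 5 59 (.split 7 (-33) (.split 4 24 (.lin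
    12) (.splitN 90338 (.wt 0) (.splitN 95223 (.split 1 (-42) (.split 2 90 (.lin 2) (.split 6
    (-55) (.wt 0) (.lin 0))) (.wt 0)) (.wt 1)))) (.split 4 16 (.splitN 115181 (.split 6 (-48)
    (.split 2 81 (.lin 3) (.split 1 (-47) (.split 5 58 (.lin 0) (.splitN 101753 (.wt 0) (.wt 0)))
    (.lin 11))) (.wt 0)) (.wt 1)) (.lin 12))) (.lin 4))) (.lin 3))) (.lin 4)))))) (.lin 11)))
    (.wt 2)) (.lin 12))) (.lin 4))) (.lin 1)) (.lin 0))) (.lin 9)) (.lin 3))) (.lin 4)))) (.lin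
    1)) (.lin 3))) (.split 2 54 (.lin 2) (.split 0 (-20) (.split 5 40 (.lin 4) (.split 4 16
    (.split 7 (-28) (.split 6 (-145) (.split 2 171 (.lin 3) (.split 1 (-128) (.split 5 139 (.lin
    1) (.split 5 148 (.lin 4) (.splitN 90683 .sq (.split 4 9 (.wt 0) (.split 7 (-37) (.wt 1)
    (.lin 12)))))) (.lin 11))) (.split 1 (-120) (.lin 11) (.split 4 11 (.splitN 83587 .cand (.wt
    1)) (.split 0 (-21) (.lin 12) (.split 7 (-37) (.splitN 99100 (.wt 0) (.wt 1)) (.lin 12))))))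
    (.lin 12)) (.lin 12))) (.wt 2))))) (.lin 12))))

def cert5_3_10 : Cert :=
  (.split 7 (-64) (.split 2 108 (.lin 9) (.split 0 (-47) (.split 5 67 (.lin 4) (.splitN 83574
    (.split 2 454 (.split 1 (-363) (.lin 2) (.split 1 (-237) .sq (.split 2 260 (.split 1 (-165)
    (.lin 2) (.split 6 (-344) (.lin 0) (.split 6 (-200) (.lin 3) (.split 4 11 (.split 5 76 (.lin
    8) (.split 0 (-56) (.splitN 48888 (.split 2 172 (.split 6 (-110) (.lin 3) (.splitN 45287
    (.split 2 162 (.split 6 (-92) (.lin 3) (.split 3 47 (.split 6 (-69) (.split 2 135 (.lin 9)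
    (.split 1 (-29) (.split 5 85 (.lin 4) (.splitN 39968 .sq (.wt 0))) (.lin 11))) (.splitN 40755
    .cand (.wt 1))) (.split 2 135 (.lin 10) (.split 6 (-73) (.splitN 40139 .sq (.wt 1)) (.lin
    11))))) .sq) (.wt 1))) .sq) (.wt 1)) (.lin 12))) (.split 0 (-129) (.lin 12) (.split 6 (-47)
    (.split 3 47 (.split 6 (-105) (.split 2 171 (.lin 3) (.split 1 (-65) (.split 5 112 (.lin 4)
    (.splitN 65645 .sq (.wt 1))) (.lin 11))) (.split 1 (-75) (.lin 11) (.split 3 42 (.split 1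
    (-39) (.split 5 94 (.lin 4) (.split 6 (-73) (.splitN 55727 (.split 2 169 (.split 7 (-92)
    (.lin 2) (.split 0 (-49) (.split 2 144 (.lin 3) (.split 6 (-92) (.lin 3) (.split 5 103 (.lin
    4) (.split 7 (-73) (.splitN 48725 .sq (.splitN 50289 (.split 0 (-58) (.split 2 153 (.lin 3)
    (.split 5 112 (.lin 4) (.split 7 (-82) .sq (.lin 12)))) (.wt 1)) (.wt 1))) (.lin 12))))) (.wt
    2))) .sq) (.wt 1)) (.lin 11))) (.split 6 (-74) (.lin 11) (.split 0 (-72) (.split 2 144 (.lin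
    3) (.split 5 94 (.lin 4) (.split 7 (-91) (.splitN 48113 .sq (.split 1 (-31) (.wt 1) (.split 6
    (-65) (.lin 11) (.wt 2)))) (.lin 12)))) (.wt 2)))) (.wt 2)))) (.split 6 (-73) (.split 0 (-72)
    (.split 2 162 (.lin 3) (.split 6 (-164) (.lin 3) (.split 5 94 (.lin 4) (.split 7 (-91)
    (.splitN 58040 .sq (.wt 1)) (.lin 12))))) (.wt 2)) (.lin 11))) (.wt 2))))))) .sq))) (.div 2))
    (.wt 1))) (.lin 12))) (.split 0 (-48) (.lin 12) (.splitN 265780 (.split 2 507 (.split 6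
    (-479) (.lin 3) (.split 4 11 (.splitN 90463 (.split 2 286 (.split 6 (-254) (.lin 3) (.split 3
    76 (.split 6 (-108) (.split 2 135 (.lin 3) (.split 1 (-38) (.split 5 58 (.lin 4) (.splitN
    69012 (.split 2 223 (.split 6 (-191) (.lin 3) (.split 0 (-34) (.split 2 153 (.lin 3) (.split
    5 76 (.lin 4) (.split 7 (-46) (.splitN 47204 .sq (.wt 1)) (.lin 12)))) (.split 7 (-38) (.lin
    12) (.split 0 (-21) (.split 2 144 (.lin 3) (.split 5 67 (.lin 1) (.split 7 (-37) (.splitN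
    48877 (.split 3 43 (.split 5 94 (.lin 1) (.split 1 (-65) .sq (.lin 2))) (.wt 0)) (.wt 1))
    (.lin 12)))) (.wt 2))))) .sq) (.wt 1))) (.lin 11))) (.split 1 (-75) (.lin 11) (.split 0 (-22)
    (.split 5 49 (.lin 4) (.split 7 (-37) (.split 6 (-73) (.split 3 38 (.split 5 67 (.lin 6)
    (.split 1 (-38) (.split 7 (-46) (.split 0 (-38) (.splitN 41745 .cand (.wt 3)) (.lin 12))
    (.split 0 (-30) (.lin 12) (.splitN 41151 (.wt 0) (.splitN 45064 (.split 1 (-57) (.split 5 94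
    (.lin 4) (.wt 1)) (.wt 0)) (.wt 1))))) (.lin 11))) (.split 1 (-57) (.lin 11) (.splitN 46365
    (.split 1 (-21) (.split 5 58 (.lin 4) (.splitN 43966 (.split 7 (-39) (.splitN 41368 (.split 1
    (-31) (.split 6 (-82) (.split 0 (-42) (.split 2 135 (.lin 3) (.split 5 85 (.lin 4) (.split 7
    (-55) .sq (.lin 12)))) (.wt 2)) (.lin 11)) (.wt 0)) (.wt 1)) (.wt 0)) (.wt 6))) (.wt 0)) (.wt
    6)))) (.split 1 (-39) (.lin 11) (.split 0 (-33) (.split 7 (-46) (.split 3 31 (.split 6 (-49)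
    (.split 1 (-29) (.splitN 41059 .cand (.wt 1)) (.lin 11)) (.wt 2)) (.wt 2)) (.lin 12)) (.wt
    2)))) (.lin 12))) (.wt 2)))) (.split 6 (-100) (.split 0 (-33) (.split 2 144 (.lin 3) (.split
    6 (-236) (.lin 3) (.split 5 58 (.lin 4) (.split 7 (-46) (.splitN 44756 .sq (.splitN 46116
    (.split 2 256 (.split 6 (-209) (.lin 3) (.wt 1)) (.div 2)) (.wt 1))) (.lin 12))))) (.wt 2))
    (.lin 11)))) .sq) (.wt 1)) (.split 0 (-39) (.lin 12) (.split 0 (-27) (.split 5 49 (.lin 4)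
    (.split 7 (-46) (.splitN 90314 (.split 1 (-23) (.split 5 58 (.lin 4) (.split 6 (-55) (.splitN
    78679 (.split 2 436 (.split 6 (-389) (.lin 3) (.split 0 (-30) (.split 2 108 (.lin 3) (.split
    5 67 (.lin 4) (.split 7 (-55) (.splitN 68238 (.split 2 364 (.split 6 (-308) (.lin 3) (.split
    1 (-42) (.split 5 85 (.lin 4) (.splitN 61197 (.split 2 328 (.split 6 (-272) (.lin 3) (.split
    1 (-64) (.split 2 144 (.lin 2) (.split 5 103 (.lin 4) (.splitN 58149 (.split 2 310 (.split 6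
    (-254) (.lin 3) (.split 1 (-93) (.split 2 180 (.lin 2) (.split 6 (-127) (.split 5 139 (.lin
    4) .sq) (.lin 3))) (.wt 0))) (.div 2)) (.wt 1)))) (.wt 0))) (.div 2)) (.wt 1))) (.wt 0)))
    (.div 2)) (.wt 1)) (.lin 12)))) (.wt 2))) (.div 2)) (.wt 1)) (.lin 11))) (.wt 0)) (.wt 1))
    (.lin 12))) (.wt 2))))) .sq) (.wt 1))))

def cert5_3_11 : Cert :=
  (.split 1 (-12) (.split 2 45 (.lin 2) (.split 5 31 (.lin 4) (.split 6 (-28) (.split 3 22
    cert5_3_9 (.split 2 63 (.lin 2) (.split 6 (-46) (.split 0 (-12) (.split 5 40 (.lin 4) (.split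
    7 (-28) (.splitN 20779 (.wt 1) (.split 4 22 (.splitN 1188897 (.split 2 6592 (.split 0 (-6537)
    (.lin 3) (.split 6 (-6563) (.lin 3) (.splitN 1092854 (.split 2 6070 (.split 6 (-6041) (.lin
    3) (.split 0 (-1041) .sq (.splitN 990674 (.split 0 (-989) .sq (.split 1 (-989) .sq (.split 2
    991 (.split 6 (-965) (.lin 3) (.splitN 745500 (.split 2 858 (.split 6 (-830) (.lin 3) (.split
    7 (-151) (.split 2 198 (.lin 9) (.split 0 (-137) (.split 5 157 (.lin 4) (.splitN 110240 .sq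
    (.wt 1))) (.lin 12))) (.split 0 (-138) (.lin 12) (.splitN 476886 (.split 2 683 (.split 6
    (-650) (.lin 3) cert5_3_10) .sq) (.wt 1))))) .sq) (.wt 1))) .sq))) (.wt 1)))) (.div 2)) (.wt
    1)))) (.div 2)) (.wt 1)) (.split 7 (-46) (.splitN 670450 (.split 2 3712 (.split 0 (-3639)
    (.lin 3) (.split 4 3643 (.split 6 (-3665) (.lin 3) (.splitN 606725 (.split 2 3370 (.split 4
    3301 (.split 6 (-3323) (.lin 3) (.split 0 (-22) (.split 5 49 (.lin 4) (.split 7 (-55)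
    (.splitN 276243 (.split 2 1534 (.split 1 (-1452) (.lin 2) (.split 0 (-1461) (.lin 3) (.split
    4 1456 (.split 6 (-1478) (.lin 3) (.splitN 260661 (.split 0 (-491) .sq (.split 2 499 (.split
    0 (-426) (.lin 3) (.split 7 (-848) (.lin 1) (.split 7 (-452) (.lin 2) (.split 4 421 (.split 6
    (-443) (.lin 3) (.splitN 210152 (.split 2 444 (.split 7 (-398) (.lin 2) (.split 4 367 (.split
    6 (-389) (.lin 3) (.split 6 (-134) (.split 0 (-282) (.lin 3) (.split 2 189 (.lin 9) (.split 4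
    277 (.split 7 (-308) (.lin 9) (.splitN 62612 .sq (.split 0 (-32) (.split 5 58 (.lin 4)
    (.split 7 (-64) (.split 3 75 (.split 5 103 (.lin 7) (.split 1 (-65) (.splitN 76427 .sq
    (.split 3 58 (.split 5 121 (.lin 7) (.split 1 (-83) (.splitN 83159 .sq (.splitN 94058 (.split
    0 (-72) (.split 2 234 (.lin 3) (.split 7 (-100) .sq (.lin 12))) (.wt 1)) (.wt 1))) (.lin
    11))) (.wt 1))) (.lin 11))) (.wt 6)) (.lin 12))) (.wt 6)))) (.lin 3)))) (.split 1 (-102)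
    (.lin 11) (.split 0 (-38) (.split 5 58 (.lin 4) (.split 0 (-39) (.split 5 67 (.lin 4) (.split
    7 (-73) (.splitN 108045 (.split 6 (-48) (.split 2 126 (.lin 3) (.split 0 (-278) .sq (.split 2
    301 (.split 7 (-254) (.lin 2) (.split 3 47 (.split 1 (-45) (.split 2 144 (.lin 2) (.split 7
    (-227) (.lin 2) (.split 5 94 (.lin 4) (.split 6 (-73) (.splitN 46376 .sq (.split 0 (-48)
    (.split 2 153 (.lin 3) (.split 4 169 (.split 5 103 (.lin 4) (.split 7 (-82) (.splitN 53180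
    .sq (.splitN 74295 (.split 0 (-149) .sq (.split 2 206 (.split 0 (-102) (.lin 3) (.split 7
    (-128) (.lin 2) (.split 4 70 (.split 6 (-119) (.lin 3) (.split 5 149 (.splitN 66726 (.split 3
    31 (.split 0 (-61) (.split 2 162 (.lin 3) (.split 4 61 (.split 6 (-110) (.lin 3) (.split 5
    112 (.lin 4) (.split 7 (-91) (.splitN 60632 .sq (.split 0 (-97) (.split 2 198 (.lin 3)
    (.split 5 148 (.lin 1) (.split 7 (-127) .sq (.lin 1)))) (.wt 1))) (.lin 12)))) (.lin 3)))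
    (.wt 6)) (.wt 2)) (.wt 1)) (.lin 10))) (.lin 3)))) .sq)) (.wt 1))) (.lin 12))) (.lin 3)))
    (.wt 6))) (.lin 11))))) (.split 6 (-83) (.lin 11) (.split 0 (-90) (.split 2 171 (.lin 3)
    (.split 4 151 (.split 5 112 (.lin 4) (.split 7 (-118) (.splitN 69416 .sq (.wt 1)) (.lin 12)))
    (.lin 3))) (.wt 2)))) (.wt 2))) .sq))) (.wt 2)) (.wt 1)) (.lin 12))) (.wt 2))) (.wt 2)))))
    (.lin 3))) .sq) (.wt 1))) (.lin 3))))) .sq)) (.wt 1))) (.lin 3)))) (.div 2)) (.wt 1)) (.lin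
    12))) (.wt 2))) (.lin 3)) (.div 2)) (.wt 1))) (.lin 3))) (.div 2)) (.wt 1)) (.lin 12))))
    (.lin 12))) (.wt 2)) (.lin 11)))) (.lin 11)))) (.split 1 (-5) (.split 5 22 (.lin 4) (.split 6
    (-19) (.split 3 22 (.split 6 (-29) (.lin 11) (.split 0 (-30) (.split 5 49 (.lin 4) (.split 7
    (-46) (.split 3 11 (.split 6 (-20) (.lin 11) (.splitN 181877 .cand (.wt 1))) (.split 6 (-28)
    (.splitN 119209 (.split 2 652 (.split 0 (-615) (.lin 3) (.split 7 (-623) (.lin 2) (.splitN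
    46514 (.split 2 256 (.split 0 (-219) (.lin 3) (.splitN 37490 (.split 2 202 (.split 0 (-165)
    (.lin 3) (.split 7 (-173) (.lin 2) (.wt 2))) (.div 2)) (.wt 6))) (.div 2)) (.wt 6)))) (.div
    2)) (.wt 1)) (.lin 11))) (.lin 8))) (.split 5 41 (.split 3 12 (.split 6 (-20) (.lin 11)
    (.split 0 (-14) (.split 4 19 (.split 2 64 (.split 7 (-47) (.lin 2) (.split 4 10 (.split 2 55
    (.split 7 (-38) (.lin 2) (.splitN 46798 (.wt 1) (.split 0 (-21) (.split 2 54 (.lin 3) (.split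
    7 (-37) (.wt 0) (.lin 1))) (.wt 2)))) (.lin 0)) (.wt 2))) (.lin 0)) (.wt 2)) (.wt 2))) (.wt
    2)) (.lin 4)))) (.split 2 54 (.lin 2) (.split 6 (-37) (.split 0 (-18) (.split 2 63 (.lin 3)
    (.split 5 31 (.lin 4) (.split 4 22 (.split 7 (-64) (.split 2 99 (.lin 2) (.split 0 (-47)
    (.split 5 58 (.lin 4) (.splitN 148203 (.split 2 814 (.split 0 (-768) (.lin 3) (.split 6
    (-758) (.lin 0) (.splitN 135421 (.split 2 742 (.split 6 (-686) (.lin 0) (.split 0 (-338) .sq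
    (.split 5 347 (.split 7 (-353) (.lin 8) (.split 6 (-40) (.split 3 33 (.lin 11) (.splitN
    113786 (.split 2 616 (.split 6 (-560) (.lin 0) (.split 6 (-53) (.split 3 42 (.lin 11)
    (.splitN 104284 (.split 2 562 (.split 6 (-506) (.lin 0) (.split 4 13 (.split 5 67 (.lin 8)
    (.splitN 59017 (.split 2 310 (.split 0 (-246) (.lin 3) (.split 6 (-245) (.lin 0) (.split 7
    (-254) (.lin 2) (.split 3 144 (.split 6 (-155) (.lin 11) (.split 0 (-62) (.split 5 76 (.lin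
    4) (.split 7 (-73) (.splitN 50683 (.split 2 274 (.split 0 (-210) (.lin 3) (.split 7 (-218)
    (.lin 2) (.split 3 79 (.split 6 (-92) (.lin 11) (.splitN 46809 (.split 2 256 (.split 7 (-200)
    (.lin 2) (.splitN 44587 (.split 2 238 (.split 0 (-174) (.lin 3) (.split 7 (-182) (.lin 2)
    (.splitN 42793 (.split 2 220 (.split 0 (-156) (.lin 3) (.split 7 (-164) (.lin 2) (.wt 0)))
    (.div 2)) (.wt 6)))) (.div 2)) (.wt 6))) (.div 2)) (.wt 1))) (.wt 2)))) (.div 2)) (.wt 1))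
    (.lin 8))) (.wt 2))) (.wt 2))))) (.div 2)) (.wt 1))) (.wt 2))) (.div 2)) (.wt 1))) (.wt 2)))
    (.div 2)) (.wt 1))) (.wt 2))) (.lin 4)))) (.div 2)) (.wt 1)))) (.div 2)) (.wt 1))) (.lin
    12))) (.split 0 (-48) (.lin 12) (.split 0 (-25) (.split 5 40 (.lin 4) (.split 7 (-37)
    (.splitN 293320 (.split 2 1624 (.split 6 (-1586) (.lin 0) (.splitN 274322 (.split 4 14
    (.splitN 93034 (.split 2 508 (.split 6 (-470) (.lin 0) (.split 3 77 (.split 6 (-83) (.lin 11)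
    (.wt 2)) (.wt 0))) (.div 2)) (.wt 1)) (.wt 0)) (.wt 1))) (.div 2)) (.wt 1)) (.lin 8))) (.wt
    2)))) (.split 2 81 (.lin 0) (.split 0 (-55) (.split 2 117 (.lin 3) (.split 5 67 (.lin 4)
    (.split 7 (-82) (.splitN 339429 (.split 2 1876 (.split 4 1780 (.split 0 (-1812) (.lin 3)
    (.split 6 (-1793) (.lin 0) (.splitN 306271 (.split 2 1696 (.split 0 (-1632) (.lin 3) (.split
    6 (-1613) (.lin 0) (.split 7 (-1658) (.lin 2) (.split 3 460 (.split 6 (-470) (.lin 11)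
    (.splitN 260830 (.split 2 1444 (.split 4 1348 (.split 7 (-1406) (.lin 2) (.split 3 169
    (.split 6 (-182) (.lin 11) (.splitN 197803 (.split 2 1084 (.split 0 (-1020) (.lin 3) (.split
    7 (-1046) (.lin 2) (.splitN 100214 (.split 2 544 (.split 0 (-480) (.lin 3) (.split 7 (-506)
    (.lin 2) (.splitN 84013 (.split 2 454 (.split 7 (-416) (.lin 2) (.split 0 (-187) (.split 5
    202 (.lin 4) (.split 7 (-217) .sq (.lin 8))) (.wt 0))) (.div 2)) (.wt 6)))) (.div 2)) (.wt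
    6)))) (.div 2)) (.wt 1))) (.wt 0))) (.lin 0)) (.div 2)) (.wt 1))) (.wt 0))))) (.div 2)) (.wt
    1)))) (.lin 0)) (.div 2)) (.wt 1)) (.lin 8)))) (.wt 2)))))) (.wt 2)) (.lin 11)))) (.lin 11)))
    (.wt 0)))

def cert5_3 : Cert :=
  (.split 2 9 (.lin 2) (.split 5 4 (.lin 4) (.split 6 (-10) (.split 7 (-2) (.split 2 18 (.lin 2)
    (.split 4 (-1) (.split 0 (-11) (.split 1 (-3) (.split 2 27 (.lin 2) (.split 5 22 (.lin 4)
    (.split 6 (-19) (.split 4 (-3) (.split 5 31 (.lin 8) (.split 0 (-20) (.split 7 (-14) (.split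
    2 36 (.lin 2) (.split 0 (-29) (.split 5 40 (.lin 4) (.split 3 30 cert5_3_5 (.split 7 (-27)
    (.split 0 (-38) (.split 5 49 (.lin 4) (.split 0 (-47) (.split 5 58 (.lin 4) (.split 0 (-49)
    (.split 5 67 (.lin 4) (.split 1 (-16) (.split 3 97 (.split 4 (-16) (.split 6 (-88) (.split 7
    (-34) (.split 2 126 (.lin 9) cert5_3_6) (.wt 2)) (.wt 2)) (.wt 2)) (.wt 2)) (.wt 2))) (.wt
    2))) (.wt 2))) (.lin 12)) (.wt 0)))) (.lin 12))) (.wt 3)) (.lin 12))) (.wt 0)) (.lin 11))))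
    (.wt 0)) (.lin 12)) (.splitN 14087 (.wt 3) (.split 0 (-3) (.split 2 27 (.lin 3) (.split 5 13
    (.lin 4) (.split 7 (-19) cert5_3_11 (.lin 12)))) (.wt 0))))) (.wt 0)) (.lin 11))))

theorem check5_3 :
    check task5 cert5_3
      [(7, ⟨none, some (-2)⟩), (7, ⟨none, some (-2)⟩), (1, ⟨some (1), none⟩), (7, ⟨some (7), none⟩), (7, ⟨none, none⟩), (5, ⟨none, none⟩), (8, ⟨none, some (-1)⟩), (8, ⟨none, some (-1)⟩)] ⟨some (3960), none⟩ = true := by
  decide +kernel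

def cert5_4 : Cert :=
  (.lin 9)

theorem check5_4 :
    check task5 cert5_4
      [(7, ⟨none, some (-2)⟩), (7, ⟨some (7), none⟩), (1, ⟨some (1), some (1)⟩), (7, ⟨some (7), none⟩), (7, ⟨none, none⟩), (5, ⟨none, none⟩), (8, ⟨none, some (-10)⟩), (8, ⟨none, some (-1)⟩)] ⟨some (3960), none⟩ = true := by
  decide +kernel

def cert5_5 : Cert :=
  (.lin 11)

theorem check5_5 :
    check task5 cert5_5
      [(7, ⟨none, some (-2)⟩), (7, ⟨some (7), none⟩), (1, ⟨some (10), none⟩), (7, ⟨some (7), some (7)⟩), (7, ⟨none, none⟩), (5, ⟨none, none⟩), (8, ⟨none, some (-10)⟩), (8, ⟨none, some (-1)⟩)] ⟨some (3960), none⟩ = true := by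
  decide +kernel

def cert5_6 : Cert :=
  (.lin 9)

theorem check5_6 :
    check task5 cert5_6
      [(7, ⟨none, some (-2)⟩), (7, ⟨some (7), none⟩), (1, ⟨some (10), some (10)⟩), (7, ⟨some (16), none⟩), (7, ⟨none, none⟩), (5, ⟨none, none⟩), (8, ⟨none, some (-10)⟩), (8, ⟨none, some (-10)⟩)] ⟨some (3960), none⟩ = true := by
  decide +kernel

def cert5_7_0 : Cert :=
  (.split 7 (-69) (.split 3 204 (.lin 6) (.split 1 105 (.lin 8) (.split 2 171 (.lin 9) (.split 0
    (-110) (.split 6 (-215) (.wt 2) (.split 2 298 (.split 0 (-5247) (.wt 6) (.split 3 5461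
    (.split 1 5380 (.split 0 (-4727) (.wt 2) (.split 3 4939 (.split 1 4858 (.split 0 (-4214) (.wt
    2) (.split 3 4426 (.split 1 4345 (.split 0 (-3724) (.wt 2) (.split 3 3940 (.split 1 3859
    (.split 0 (-3271) (.wt 2) (.split 3 3490 (.split 1 3409 (.split 0 (-2863) (.wt 2) (.split 3
    3076 (.split 1 2995 (.split 0 (-2495) (.wt 2) (.split 3 2707 (.split 1 2482 (.split 0 (-2140)
    (.wt 2) (.split 3 2356 (.split 1 2131 (.split 0 (-1840) (.wt 2) (.split 3 2059 (.split 1 1834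
    (.split 0 (-1590) (.wt 2) (.split 3 1807 (.split 1 1582 (.split 0 (-1380) (.wt 2) (.split 3
    1600 (.split 1 1375 (.split 0 (-1210) (.wt 2) (.split 3 1429 (.split 1 1204 (.split 0 (-1071)
    (.wt 2) (.split 3 1285 (.split 1 1060 (.split 0 (-954) (.wt 2) (.split 3 1168 (.split 1 943
    (.split 0 (-859) (.wt 2) (.split 3 1078 (.split 1 853 (.split 0 (-787) (.wt 2) (.split 3 1006
    (.split 1 781 (.split 0 (-729) (.wt 2) (.split 3 943 (.split 1 718 (.split 0 (-678) (.wt 2)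
    (.split 1 673 (.split 3 880 (.split 0 (-633) (.wt 2) (.split 1 628 (.split 3 835 (.split 0
    (-597) (.wt 2) (.split 1 592 (.split 4 (-309) (.wt 2) (.split 3 601 (.split 1 394 (.split 4
    (-181) (.wt 2) (.split 3 466 (.split 1 259 (.split 4 (-120) (.wt 2) (.split 3 412 (.split 1
    205 (.split 4 (-98) (.wt 2) (.split 3 385 (.split 1 178 (.split 4 (-87) (.wt 2) (.split 1 169
    (.split 6 (-138) (.wt 2) (.split 3 304 (.split 2 226 (.split 4 (-72) (.wt 2) (.split 3 286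
    (.split 1 151 (.split 6 (-126) (.wt 2) (.split 3 268 (.split 4 (-63) (.wt 2) (.split 1 142
    (.split 7 (-82) (.split 0 (-119) (.split 0 (-144) (.wt 2) (.split 1 133 (.split 3 250 (.split
    0 (-136) (.wt 2) (.split 1 124 (.split 4 (-43) (.wt 2) (.split 6 (-106) (.wt 2) (.split 3 223
    (.splitN 508783 (.wt 6) (.split 7 (-89) (.wt 0) (.split 1 115 (.split 0 (-120) (.lin 12)
    (.split 3 214 (.wt 2) (.split 2 189 (.lin 1) (.lin 3)))) (.lin 8)))) (.lin 6)))) (.lin 4)))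
    (.lin 7)) (.lin 4))) (.lin 12)) (.split 3 241 (.split 1 124 (.split 2 190 (.splitN 547436
    (.wt 1) (.split 4 (-56) (.wt 0) (.split 1 115 (.split 0 (-120) (.lin 12) (.splitN 655671 (.wt
    1) (.split 6 (-115) (.wt 2) (.split 3 223 (.split 4 (-43) (.split 0 (-119) (.wt 0) (.lin 12))
    (.split 1 106 (.split 0 (-111) (.lin 12) (.splitN 1434898 (.split 6 (-106) (.split 3 213
    (.split 2 172 (.lin 3) (.lin 1)) (.wt 2)) (.wt 0)) (.wt 1))) (.lin 8))) (.lin 6))))) (.lin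
    8)))) (.lin 9)) (.lin 8)) (.lin 6))) (.lin 8))) (.lin 6))) (.lin 8)) (.lin 6))) (.lin 9))
    (.lin 6))) (.lin 8))) (.lin 8)) (.lin 6))) (.lin 8)) (.lin 6))) (.lin 8)) (.lin 6))) (.lin
    8)) (.lin 6))) (.lin 4))) (.lin 7)) (.lin 4))) (.lin 7)) (.lin 4))) (.lin 4)) (.lin 1)))
    (.lin 4)) (.lin 1))) (.lin 4)) (.lin 1))) (.lin 4)) (.lin 1))) (.lin 4)) (.lin 1))) (.lin 4))
    (.lin 1))) (.lin 4)) (.lin 1))) (.lin 4)) (.lin 1))) (.lin 4)) (.lin 1))) (.lin 4)) (.lin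
    1))) (.lin 4)) (.lin 1))) (.lin 2)) (.lin 1))) (.lin 2)) (.lin 1))) (.lin 2)) (.lin 1)))
    (.lin 2)) (.lin 1))) (.lin 2)) (.lin 1))) (.lin 2)) (.lin 1))) (.lin 9))) (.lin 12)))))
    (.split 2 505 (.split 6 (-211) (.split 2 261 (.lin 9) (.split 4 (-52) (.split 1 96 (.lin 8)
    (.split 0 (-101) (.split 4 (-71) (.wt 6) (.wt 1)) (.lin 12))) (.wt 1))) (.split 4 (-84)
    (.split 1 132 (.lin 8) (.split 0 (-137) (.split 6 (-184) (.wt 2) (.split 2 244 (.split 0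
    (-718) (.wt 6) (.split 3 907 (.split 1 826 (.split 4 (-867) (.lin 0) (.split 1 709 (.split 7
    (-47) (.split 2 153 (.lin 9) (.split 0 (-146) (.split 0 (-289) (.wt 2) (.split 3 466 (.split
    1 277 (.split 0 (-192) (.wt 2) (.split 3 376 (.split 1 187 (.split 4 (-138) (.lin 8) (.splitN
    1354798 (.wt 6) (.split 6 (-126) (.wt 0) (.split 3 313 (.split 2 181 (.splitN 65454545 (.wt
    6) (.split 0 (-150) (.wt 0) (.split 3 268 (.split 1 169 (.wt 0) (.lin 11)) (.lin 1)))) (.lin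
    9)) (.lin 6))))) (.lin 4)) (.lin 1))) (.lin 4)) (.lin 1))) (.lin 12))) (.wt 1)) (.lin 4)))
    (.lin 2)) (.lin 1))) (.lin 9))) (.lin 12))) (.split 3 349 (.split 1 142 (.split 7 (-48)
    (.split 1 87 (.lin 8) (.split 2 153 (.lin 9) (.split 0 (-92) (.split 6 (-170) (.wt 6) (.split
    3 304 (.split 6 (-132) (.split 2 189 (.lin 9) (.split 4 (-42) (.split 0 (-101) (.splitN
    8783463 (.wt 6) (.split 4 (-80) (.wt 0) (.split 1 133 (.wt 6) (.lin 8)))) (.lin 12)) (.wt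
    1))) (.split 3 268 (.split 4 (-61) (.split 1 114 (.lin 8) (.split 0 (-119) (.split 6 (-113)
    (.wt 2) (.split 3 250 (.split 2 172 (.split 7 (-64) (.wt 2) (.split 1 133 (.split 2 163
    (.split 4 (-67) (.split 1 123 (.lin 8) (.split 0 (-128) (.splitN 7575150 (.wt 1) (.split 4
    (-83) (.wt 0) (.split 3 232 (.split 1 124 (.splitN 28137212 (.wt 1) (.wt 0)) (.lin 8)) (.lin
    6)))) (.lin 12))) (.wt 1)) (.lin 9)) (.lin 8))) (.lin 9)) (.lin 6))) (.lin 12))) (.split 3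
    241 (.split 1 115 (.split 4 (-47) (.split 3 195 (.lin 6) (.split 1 96 (.lin 8) (.split 0
    (-101) (.split 6 (-126) (.wt 6) (.split 7 (-60) (.split 1 105 (.lin 8) (.split 2 162 (.lin 9)
    (.split 0 (-110) (.split 6 (-113) (.wt 2) (.split 3 223 (.split 2 172 (.split 4 (-52) (.split
    1 114 (.lin 8) (.split 0 (-119) (.splitN 1080000 (.wt 1) (.wt 0)) (.lin 12))) (.split 1 106
    (.split 0 (-111) (.lin 12) (.splitN 1999128 (.wt 3) (.split 6 (-102) (.splitN 2460510 (.wt 1)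
    (.wt 0)) (.wt 1)))) (.lin 8))) (.lin 9)) (.lin 6))) (.lin 12)))) (.split 3 223 (.wt 1) (.lin
    6)))) (.lin 12)))) (.split 0 (-102) (.lin 12) (.split 6 (-114) (.split 3 204 (.lin 6) (.wt
    3)) (.wt 0)))) (.lin 8)) (.lin 6))) (.lin 6))) (.lin 6))) (.lin 12)))) (.wt 1)) (.lin 8))
    (.lin 6)))) (.lin 9)))

def cert5_7_1 : Cert :=
  (.split 6 (-69) (.split 3 204 (.lin 6) (.split 0 (-813) (.lin 7) (.split 2 171 (.lin 9) (.split
    1 808 (.splitN 776446 (.split 3 832 (.split 7 (-269) (.split 3 375 (.lin 6) (.split 1 303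
    (.lin 8) (.split 2 342 (.lin 9) (.split 0 (-308) (.splitN 526544 .sq (.wt 0)) (.lin 12)))))
    (.split 2 352 (.split 4 (-159) (.split 3 330 (.lin 6) (.split 1 258 (.lin 8) (.split 0 (-263)
    (.splitN 317645 .sq (.wt 0)) (.lin 12)))) (.split 1 430 (.split 3 502 (.split 7 (-181)
    (.split 3 285 (.lin 6) (.split 1 213 (.lin 8) (.split 2 252 (.lin 9) (.split 0 (-218)
    (.splitN 278684 .sq (.wt 0)) (.lin 12))))) (.split 3 412 (.split 1 322 (.split 2 262 (.split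
    4 (-77) (.split 0 (-164) (.split 3 249 (.lin 6) (.split 1 177 (.lin 8) (.split 0 (-182)
    (.splitN 179135 .sq (.split 7 (-129) (.wt 0) (.split 3 367 (.split 2 217 (.split 0 (-219)
    (.wt 2) (.split 1 214 (.split 3 304 (.splitN 218352 (.wt 6) (.wt 3)) (.lin 7)) (.lin 4)))
    (.lin 9)) (.lin 6)))) (.lin 12)))) (.lin 3)) (.split 1 259 (.split 3 331 (.split 1 241
    (.split 0 (-246) (.lin 12) (.splitN 148173 (.wt 1) (.split 7 (-136) (.split 3 240 (.lin 6)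
    (.split 0 (-155) (.split 1 168 (.lin 8) (.split 2 207 (.lin 9) (.split 0 (-173) (.splitN
    185129 .sq (.splitN 315932 (.split 4 (-66) (.wt 0) (.split 6 (-86) (.wt 2) (.split 3 313
    (.split 4 (-64) (.wt 0) (.split 1 223 (.split 4 (-47) (.splitN 244994 (.split 6 (-79) (.wt 2)
    .cand) (.wt 0)) .cand) (.lin 8))) (.lin 6)))) (.wt 1))) (.lin 12)))) (.lin 7))) (.split 3 286
    (.split 0 (-219) (.lin 7) (.split 1 196 (.split 2 217 (.split 0 (-201) (.lin 12) (.split 4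
    (-56) (.split 3 222 (.lin 6) (.split 0 (-155) (.split 6 (-82) (.wt 2) (.splitN 258079 .cand
    (.wt 1))) (.lin 12))) (.split 3 259 (.split 1 169 (.split 0 (-174) (.lin 12) (.splitN 197496
    (.wt 1) (.split 6 (-82) (.split 7 (-114) (.split 0 (-155) (.splitN 305078 (.split 6 (-86)
    (.wt 2) .cand) (.wt 3)) (.lin 12)) (.split 3 241 (.split 1 151 (.splitN 254586 (.wt 1)
    (.split 4 (-43) (.split 1 141 (.lin 8) (.split 0 (-146) (.split 7 (-109) (.wt 0) (.split 1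
    142 (.splitN 287998 (.wt 1) (.split 6 (-83) (.wt 0) (.split 3 223 (.wt 0) (.lin 6)))) (.lin
    8))) (.lin 12))) (.split 1 142 (.split 0 (-147) (.lin 12) (.split 6 (-83) (.split 2 189 (.lin
    0) (.splitN 355083 (.wt 6) (.split 7 (-104) (.wt 0) (.split 3 223 (.split 1 133 (.wt 0) (.lin
    8)) (.lin 6))))) (.wt 2))) (.lin 8)))) (.lin 8)) (.lin 6))) (.splitN 253824 (.split 7 (-106)
    (.split 4 (-39) (.split 3 222 (.lin 6) (.split 1 150 (.lin 8) (.wt 2))) (.wt 0)) (.wt 0))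
    (.wt 6))))) (.lin 8)) (.lin 6)))) (.lin 9)) (.lin 8))) (.lin 6))))) (.lin 8)) (.lin 6)) (.lin
    0))) (.lin 9)) (.lin 8)) (.lin 6))) (.lin 6)) (.lin 0))) (.lin 9))) .sq) (.wt 1)) (.lin
    11))))) (.splitN 354109 (.split 0 (-520) .sq (.split 2 541 (.split 1 511 (.splitN 333458
    (.split 3 510 (.split 1 457 (.split 7 (-206) (.split 3 285 (.lin 6) (.split 1 240 (.lin 8)
    (.split 2 252 (.lin 9) (.split 0 (-245) (.splitN 310760 .sq (.wt 1)) (.lin 12))))) (.split 2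
    262 (.split 6 (-47) (.split 2 153 (.lin 9) (.split 4 (-118) (.split 1 204 (.lin 0) (.split 0
    (-209) (.split 3 267 (.lin 6) (.splitN 208457 .sq (.wt 1))) (.lin 3))) (.split 1 313 (.split
    0 (-318) (.lin 3) (.split 4 (-74) (.split 1 159 (.lin 0) (.split 0 (-164) (.split 3 222 (.lin
    6) (.split 1 168 (.lin 8) (.split 0 (-173) (.splitN 150461 .sq (.splitN 220311 (.split 6
    (-57) (.split 2 162 (.lin 9) (.split 7 (-141) (.split 3 276 (.lin 6) (.split 1 213 (.lin 8)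
    (.split 2 207 (.lin 9) .sq))) (.split 1 241 (.split 2 199 (.split 7 (-118) (.split 3 249
    (.lin 6) (.split 0 (-191) (.split 1 186 (.lin 8) (.split 2 180 (.lin 9) (.splitN 190232 .sq
    (.wt 1)))) (.lin 7))) (.split 3 277 (.split 0 (-219) (.lin 7) (.split 0 (-189) (.split 3 240
    (.lin 1) (.split 1 177 (.lin 11) (.splitN 184274 (.split 4 (-93) (.split 1 195 (.lin 0)
    (.split 3 258 (.lin 6) .sq)) (.wt 0)) (.wt 6)))) (.wt 2))) (.lin 6))) (.lin 9)) (.lin 8))))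
    (.wt 6)) (.wt 1))) (.lin 12)))) (.lin 3))) (.split 0 (-273) (.lin 3) (.split 7 (-150) (.split
    3 240 (.lin 6) (.split 0 (-182) (.split 1 186 (.lin 8) (.split 2 207 (.lin 9) (.splitN 197648
    .sq (.wt 1)))) (.lin 7))) (.split 3 268 (.split 0 (-219) (.lin 7) (.split 2 208 (.split 0
    (-155) (.split 1 150 (.lin 4) (.split 3 204 (.lin 7) (.splitN 193888 (.split 4 (-47) (.split
    7 (-114) (.split 1 159 (.lin 8) (.split 2 171 (.lin 9) (.split 0 (-164) (.split 4 (-48)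
    (.split 3 222 (.lin 6) (.splitN 169291 (.split 4 (-59) (.split 1 177 (.lin 8) (.split 0
    (-186) (.split 3 240 (.lin 7) (.split 7 (-127) .sq (.lin 12))) (.wt 0))) (.wt 0)) (.wt 6)))
    (.wt 0)) (.lin 12)))) (.wt 0)) (.wt 0)) (.wt 6)))) (.wt 2)) (.lin 9))) (.lin 6)))))) (.lin
    0)))) (.wt 2)) (.lin 9))) (.lin 11)) .sq) (.wt 1)) (.lin 4)) (.lin 3))) (.wt 1)))

def cert5_7_2 : Cert :=
  (.split 0 (-300) (.split 3 366 (.lin 1) (.split 4 (-227) (.split 1 303 (.lin 4) (.split 4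
    (-245) (.splitN 406502 .sq (.split 6 (-82) (.split 2 135 (.lin 9) (.split 0 (-3047) (.wt 2)
    (.split 3 3139 (.split 1 3067 (.split 0 (-1332) (.wt 2) (.split 3 1420 (.split 1 1348 (.split
    0 (-788) (.wt 2) (.split 3 880 (.split 1 808 (.split 0 (-538) (.wt 2) (.split 3 628 (.split 1
    556 (.splitN 565556 (.wt 6) (.split 7 (-61) (.wt 0) (.split 2 145 (.split 0 (-401) (.wt 2)
    (.split 3 484 (.split 1 403 (.splitN 1089716 (.wt 6) (.split 0 (-337) (.wt 0) (.split 3 421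
    (.wt 0) (.lin 1)))) (.lin 2)) (.lin 1))) (.lin 9)))) (.lin 2)) (.lin 1))) (.lin 2)) (.lin
    1))) (.lin 2)) (.lin 1))) (.lin 2)) (.lin 1)))) (.split 2 136 (.splitN 1376965 (.split 0
    (-1031) .sq (.split 3 1105 (.split 1 1042 (.splitN 1089258 (.split 0 (-881) .sq (.split 3 902
    (.split 1 835 (.split 0 (-831) (.lin 7) (.split 4 (-786) (.lin 0) (.split 7 (-60) (.split 2
    135 (.lin 9) (.splitN 478012 (.split 0 (-403) .sq (.split 3 466 (.split 1 394 (.splitN 424746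
    (.split 0 (-327) .sq (.split 3 394 (.split 1 322 (.wt 1) (.lin 2)) (.lin 1))) (.wt 1)) (.lin
    2)) (.lin 1))) (.wt 1))) (.split 2 127 (.split 0 (-411) (.split 3 483 (.lin 1) (.split 1 411
    (.lin 2) (.split 4 (-362) (.splitN 858310 (.split 0 (-455) (.split 3 528 (.lin 1) (.split 1
    456 (.lin 2) (.split 4 (-407) .sq (.lin 0)))) (.wt 0)) (.wt 1)) (.lin 0)))) (.wt 2)) (.lin
    9))))) (.lin 2)) .sq)) (.wt 1)) (.lin 2)) (.lin 1))) (.wt 1)) (.lin 9)))) (.lin 8))) (.lin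
    3))) (.split 3 394 (.split 1 331 (.split 1 295 (.split 4 (-246) (.lin 8) (.split 6 (-82)
    (.split 3 222 (.lin 6) (.split 2 135 (.lin 9) (.split 7 (-60) (.split 1 150 (.lin 8) (.split
    2 144 (.lin 9) (.split 0 (-155) (.split 0 (-287) (.wt 2) (.split 3 367 (.split 1 277 (.split
    4 (-151) (.split 0 (-209) (.wt 2) (.lin 3)) (.split 1 214 (.split 3 295 (.splitN 436477 (.wt
    1) (.split 6 (-90) (.wt 2) (.split 2 145 (.split 4 (-119) (.split 0 (-182) (.wt 2) (.lin 3))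
    (.split 1 169 (.split 0 (-174) (.lin 3) (.splitN 595392 .cand (.wt 1))) (.lin 0))) (.lin
    9)))) (.lin 6)) (.lin 0))) (.lin 4)) (.lin 1))) (.lin 12)))) (.split 2 145 (.split 0 (-223)
    (.split 3 303 (.lin 1) (.split 1 213 (.lin 2) (.split 4 (-155) (.split 4 (-173) (.split 6
    (-87) (.wt 2) (.split 2 136 (.split 0 (-263) (.split 3 339 (.lin 1) (.split 1 258 (.lin 2)
    (.split 4 (-209) (.splitN 1024390 (.wt 1) (.split 0 (-269) (.wt 2) (.split 3 340 (.wt 0)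
    (.lin 1)))) (.lin 0)))) (.split 3 331 (.split 1 250 (.split 4 (-201) (.lin 0) (.splitN
    1020403 (.wt 1) (.split 0 (-245) (.wt 2) (.split 3 313 (.split 1 232 (.splitN 1194800 .cand
    (.wt 0)) (.lin 2)) (.lin 1))))) (.lin 2)) (.lin 1))) (.lin 9))) (.lin 12)) (.lin 0))))
    (.split 3 304 (.split 1 223 (.split 4 (-165) (.lin 12) (.split 4 (-128) (.split 1 168 (.lin
    0) (.split 0 (-173) (.split 3 258 (.lin 6) (.split 1 177 (.lin 8) (.split 6 (-91) (.wt 2)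
    (.split 2 136 (.split 0 (-187) (.split 0 (-205) (.split 3 285 (.lin 1) (.split 1 204 (.lin 2)
    (.split 4 (-155) (.splitN 1058062 (.wt 0) (.splitN 1245537 .cand (.wt 1))) (.lin 0))))
    (.split 3 277 (.split 1 196 (.split 4 (-147) (.lin 0) (.split 3 265 (.lin 1) (.wt 2))) (.lin
    2)) (.lin 1))) (.wt 2)) (.lin 9))))) (.lin 3))) (.split 1 178 (.split 0 (-183) (.lin 3)
    (.split 3 259 (.split 1 169 (.split 6 (-87) (.split 2 144 (.lin 9) (.split 0 (-168) (.wt 2)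
    (.split 4 (-111) (.lin 3) (.split 1 160 (.split 4 (-101) (.split 0 (-155) (.splitN 2179433
    (.wt 6) (.split 0 (-162) (.wt 0) (.split 3 241 (.wt 0) (.lin 1)))) (.lin 3)) (.split 1 142
    (.split 0 (-147) (.lin 3) (.split 3 232 (.splitN 3021965 (.split 3 227 (.lin 1) (.wt 0)) (.wt
    0)) (.lin 6))) (.lin 0))) (.lin 8))))) (.split 2 136 (.splitN 1630188 (.split 0 (-157)
    (.split 3 240 (.lin 1) (.split 1 159 (.lin 2) (.split 4 (-110) (.splitN 1622433 (.wt 0) (.wt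
    1)) (.lin 0)))) (.wt 0)) (.wt 6)) (.lin 9))) (.lin 8)) (.lin 6))) (.lin 0)))) (.lin 2)) (.lin
    1))) (.lin 9))))) (.split 3 367 (.split 2 136 (.split 0 (-151) (.split 1 150 (.lin 4) (.split
    3 222 (.lin 7) (.split 0 (-164) (.split 1 159 (.lin 4) (.split 0 (-168) (.split 4 (-110)
    (.split 1 168 (.lin 4) (.split 3 240 (.lin 7) (.splitN 330670 (.wt 1) (.split 7 (-60)
    (.splitN 520183 .cand (.wt 1)) (.split 4 (-119) (.split 2 127 (.splitN 1153171 (.split 4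
    (-134) (.split 1 186 (.lin 0) (.split 3 258 (.lin 6) (.wt 2))) (.wt 0)) (.wt 1)) (.lin 9))
    (.lin 6)))))) (.lin 3)) (.wt 2))) (.wt 2)))) (.wt 2)) (.lin 9)) (.lin 7)))) (.lin 4)) (.lin
    2)) (.lin 1)))

def cert5_7_3 : Cert :=
  (.split 7 (-69) (.split 3 177 (.lin 6) (.split 1 105 (.lin 8) (.split 2 144 (.lin 9) (.split 0
    (-110) (.split 4 (-84) (.split 1 141 (.lin 0) (.split 0 (-146) (.split 3 231 (.lin 6) (.split
    1 159 (.lin 8) (.split 0 (-164) (.splitN 1071226 (.split 0 (-975) .sq (.split 3 1078 (.split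
    1 1024 (.split 1 970 (.splitN 829574 (.split 0 (-842) .sq (.split 1 835 (.split 3 856 (.split
    0 (-786) (.lin 7) (.split 1 781 (.split 6 (-82) (.split 2 153 (.lin 9) (.split 0 (-366) (.wt
    2) (.split 3 466 (.split 1 403 (.split 0 (-239) (.wt 2) (.split 1 232 (.split 3 322 (.splitN
    319353 (.wt 6) (.split 4 (-131) (.wt 0) (.split 3 304 (.split 1 214 (.splitN 360867 (.wt 6)
    (.split 0 (-185) (.wt 0) (.split 1 178 (.split 3 268 (.wt 0) (.lin 7)) (.lin 4)))) (.lin 8))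
    (.lin 6)))) (.lin 7)) (.lin 4))) (.lin 2)) (.lin 1)))) (.split 2 163 (.splitN 463813 (.split
    3 606 (.split 0 (-296) (.split 3 348 (.lin 1) (.split 4 (-209) (.split 1 294 (.lin 4)
    (.splitN 373616 .sq (.wt 0))) (.lin 3))) (.split 3 376 (.split 4 (-219) (.lin 3) (.split 1
    286 (.splitN 385927 (.splitN 197098 (.wt 1) .cand) (.wt 1)) (.lin 4))) (.lin 1))) .sq) (.wt
    1)) (.lin 9))) (.lin 11))) .sq) (.lin 4))) (.wt 3)) (.lin 4)) (.lin 2)) (.lin 1))) (.wt 1))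
    (.lin 12)))) (.lin 3))) (.split 1 187 (.split 3 259 (.split 1 169 (.split 0 (-174) (.lin 12)
    (.split 4 (-61) (.split 3 204 (.lin 6) (.split 1 132 (.lin 8) (.split 0 (-137) (.split 6
    (-90) (.wt 2) (.splitN 486116 (.split 7 (-82) (.split 2 153 (.lin 9) (.split 0 (-146) (.split
    6 (-78) (.splitN 291540 (.wt 6) (.split 4 (-79) (.wt 0) (.split 3 241 (.split 1 160 (.wt 2)
    (.lin 8)) (.lin 6)))) (.splitN 306387 .cand (.wt 1))) (.lin 12))) (.split 0 (-156) (.lin 12)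
    (.splitN 294659 (.wt 0) .cand))) (.wt 1))) (.lin 12)))) (.split 3 232 (.split 1 142 (.split 0
    (-147) (.lin 12) (.splitN 230830 (.wt 1) (.split 6 (-82) (.split 7 (-82) (.split 3 195 (.lin
    6) (.split 1 114 (.lin 8) (.split 0 (-119) (.split 4 (-47) (.split 1 123 (.lin 8) (.split 0
    (-128) (.split 6 (-87) (.split 3 213 (.lin 6) (.split 2 171 (.lin 9) (.splitN 383920 (.wt 6)
    (.split 4 (-54) (.wt 0) (.split 1 133 (.splitN 406894 (.wt 6) (.split 7 (-86) (.wt 0) (.split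
    3 214 (.split 0 (-129) (.lin 7) (.split 1 124 (.splitN 420143 (.wt 0) (.wt 0)) (.lin 8)))
    (.lin 6)))) (.lin 0)))))) (.splitN 417914 .cand (.wt 1))) (.lin 12))) (.split 0 (-138) (.lin
    3) (.split 0 (-129) (.lin 12) (.splitN 475291 (.split 6 (-86) (.split 7 (-88) (.split 3 213
    (.lin 6) (.split 1 123 (.lin 8) (.wt 0))) (.wt 0)) (.wt 0)) (.wt 6))))) (.lin 12)))) (.split
    3 214 (.split 0 (-138) (.lin 7) (.split 1 124 (.split 2 163 (.split 0 (-129) (.lin 12)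
    (.splitN 987138 (.split 4 (-39) (.split 3 195 (.lin 6) (.split 1 114 (.lin 8) (.split 0
    (-119) (.splitN 660386 (.split 6 (-86) (.split 2 162 (.lin 9) (.splitN 504022 (.wt 1) .cand))
    (.wt 2)) (.wt 1)) (.lin 12)))) (.wt 0)) (.wt 1))) (.lin 9)) (.lin 8))) (.lin 6))) (.wt 2))))
    (.lin 8)) (.lin 6)))) (.lin 8)) (.lin 6)) (.lin 0))) (.lin 12))))) (.split 2 154 (.split 4
    (-84) (.split 3 204 (.lin 6) (.split 1 132 (.lin 8) (.split 7 (-55) (.split 1 141 (.lin 8)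
    (.split 2 126 (.lin 9) (.split 0 (-146) cert5_7_2 (.lin 12)))) (.split 4 (-119) (.split 3 231
    (.lin 6) (.split 1 159 (.lin 8) (.split 4 (-153) (.split 1 177 (.lin 0) (.split 0 (-182)
    (.split 3 267 (.lin 6) (.split 1 195 (.lin 8) (.split 6 (-89) (.wt 1) (.split 2 127 (.split 0
    (-235) (.split 3 303 (.lin 1) (.split 1 222 (.lin 2) (.split 0 (-293) (.split 3 366 (.lin 1)
    (.split 1 285 (.lin 2) (.split 0 (-451) (.split 3 519 (.lin 1) (.split 1 438 (.lin 2) (.wt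
    3))) (.wt 0)))) (.wt 0)))) (.wt 0)) (.lin 9))))) (.lin 3))) (.wt 3)))) (.wt 3))))) (.split 0
    (-165) (.lin 3) (.split 3 232 (.split 1 142 (.split 0 (-147) (.lin 12) (.split 7 (-47)
    (.split 1 87 (.lin 8) (.split 4 (-61) (.split 3 186 (.lin 6) (.split 1 114 (.lin 8) (.split 6
    (-79) (.split 7 (-60) (.split 3 204 (.lin 6) (.split 1 123 (.lin 8) (.split 0 (-128) (.split
    6 (-87) (.split 2 153 (.lin 9) (.splitN 635311 (.wt 1) (.split 4 (-82) (.wt 0) (.splitN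
    692138 (.wt 1) (.split 4 (-70) (.split 0 (-137) (.wt 0) (.lin 3)) (.split 1 124 (.split 0
    (-129) (.lin 3) (.split 3 214 (.splitN 830971 (.splitN 779633 (.wt 0) .cand) (.wt 0)) (.lin
    6))) (.lin 0))))))) (.split 2 145 (.splitN 582537 (.split 0 (-137) (.split 4 (-74) (.split 1
    132 (.lin 8) (.wt 2)) (.lin 3)) (.wt 0)) (.wt 6)) (.lin 9))) (.lin 12)))) (.split 2 145
    (.split 0 (-138) (.lin 12) (.split 4 (-67) (.split 3 204 (.lin 6) (.split 1 123 (.lin 8)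
    (.splitN 3006960 (.split 0 (-136) (.split 1 132 (.lin 4) (.wt 0)) (.wt 0)) (.wt 6)))) (.wt
    0))) (.lin 9))) (.wt 2)))) (.split 0 (-138) (.lin 3) (.split 0 (-120) (.lin 12) (.split 4
    (-39) (.split 3 168 (.lin 6) (.split 1 96 (.lin 8) (.splitN 1929002 (.split 6 (-78) (.split 3
    177 (.lin 6) (.splitN 1084155 (.split 0 (-106) (.split 1 105 (.lin 4) (.wt 2)) (.wt 0)) (.wt
    6))) (.wt 0)) (.wt 6)))) (.wt 0)))))) (.wt 0))) (.lin 8)) (.lin 6)))) (.lin 9)))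

def cert5_7_4 : Cert :=
  (.split 6 (-100) (.split 3 168 (.lin 6) (.split 2 144 (.lin 9) (.split 5 9 (.split 1 78 (.lin
    4) (.split 3 177 (.lin 6) (.split 6 (-447) (.wt 6) (.split 7 (-100) (.split 3 231 (.lin 6)
    (.split 1 132 (.lin 8) (.split 2 198 (.lin 9) (.split 0 (-137) (.splitN 151352 .sq (.splitN
    1627226 (.split 1 18080 (.split 0 (-18084) (.lin 4) (.split 3 18520 (.split 7 (-905) (.wt 0)
    (.split 2 1342 (.split 0 (-397) (.wt 2) (.split 1 385 (.split 3 826 (.split 0 (-223) (.wt 2)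
    (.split 1 214 (.split 3 655 (.split 7 (-182) (.lin 8) (.splitN 215622 (.wt 6) (.split 6
    (-282) (.wt 0) (.split 2 460 (.split 3 493 (.splitN 252503 (.wt 6) (.split 4 (-60) (.wt 0)
    (.split 6 (-190) (.wt 0) (.split 3 412 (.splitN 292240 (.wt 6) (.split 4 (-51) (.wt 0)
    (.split 6 (-151) (.wt 0) (.split 3 367 (.splitN 331127 (.wt 6) (.split 4 (-47) (.wt 0)
    (.split 6 (-130) (.wt 0) (.split 3 340 (.splitN 366598 (.wt 6) (.split 0 (-187) (.wt 0)
    (.split 1 178 (.split 3 304 (.wt 2) (.lin 7)) (.lin 4)))) (.lin 6))))) (.lin 6))))) (.lin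
    6))))) (.lin 7)) (.lin 0))))) (.lin 7)) (.lin 4))) (.lin 7)) (.lin 4))) (.lin 9))) (.lin 7)))
    (.div 1)) (.wt 3))) (.lin 12))))) cert5_7_0)))) (.splitN 313580 (.split 1 3464 (.split 0
    (-3477) (.lin 4) (.split 4 (-3432) (.lin 8) (.split 2 1732 (.split 6 (-1685) (.lin 9)
    (.splitN 288322 (.split 1 3176 (.split 0 (-3189) (.lin 4) (.split 4 (-3144) (.lin 8) (.split
    2 1588 (.split 6 (-1541) (.lin 9) (.split 6 (-127) (.split 3 195 (.lin 6) (.split 2 171 (.lin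
    9) (.splitN 99674 .sq (.split 7 (-135) (.wt 1) (.splitN 203602 (.split 1 2240 (.split 0
    (-2253) (.lin 4) (.split 4 (-2208) (.lin 8) (.split 2 1120 (.split 6 (-1073) (.lin 9)
    (.splitN 171250 (.split 1 1880 (.split 0 (-1893) (.lin 4) (.split 4 (-1848) (.lin 8) (.split
    2 940 (.split 6 (-893) (.lin 9) (.splitN 154986 (.split 1 1700 (.split 0 (-1713) (.lin 4)
    (.split 4 (-1668) (.lin 8) (.split 2 850 (.split 6 (-803) (.lin 9) (.splitN 145767 (.split 1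
    1592 (.split 0 (-1605) (.lin 4) (.split 4 (-1560) (.lin 8) (.split 2 796 (.split 6 (-749)
    (.lin 9) (.split 7 (-50) (.split 1 78 (.lin 8) (.splitN 130652 (.split 1 1448 (.split 4
    (-1407) (.lin 8) (.split 2 724 (.split 6 (-668) (.lin 9) (.splitN 122486 (.split 1 1340
    (.split 0 (-1353) (.lin 4) (.split 4 (-1299) (.lin 8) (.split 2 670 (.split 6 (-614) (.lin 9)
    (.splitN 116458 (.split 2 634 (.split 6 (-578) (.lin 9) (.split 7 (-60) (.split 3 213 (.lin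
    6) (.split 1 87 (.lin 8) (.split 2 189 (.lin 9) .sq))) (.wt 0))) (.div 2)) (.wt 6))) (.div
    2)))) (.div 1)) (.wt 6))) (.div 2))) (.div 1)) (.wt 6))) (.wt 0))) (.div 2)))) (.div 1)) (.wt
    6))) (.div 2)))) (.div 1)) (.wt 6))) (.div 2)))) (.div 1)) (.wt 6))) (.div 2)))) (.div 1))
    (.wt 6)))))) (.wt 2))) (.div 2)))) (.div 1)) (.wt 1))) (.div 2)))) (.div 1)) (.wt 1)))))
    (.split 5 12 (.split 1 78 (.lin 4) (.split 3 123 (.lin 6) (.splitN 67732 (.wt 1) (.split 7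
    (-100) (.split 3 177 (.lin 6) (.split 0 (-92) (.split 1 132 (.lin 8) (.split 2 144 (.lin 9)
    (.split 0 (-137) (.splitN 1068048 (.split 0 (-992) .sq (.split 2 1036 (.split 3 1915 (.split
    1 1870 (.split 4 (-930) (.lin 3) (.split 1 979 (.split 3 1069 (.splitN 862259 (.split 0
    (-881) .sq (.split 2 928 (.split 1 871 (.split 3 887 cert5_7_1 .sq) (.lin 4)) (.lin 3))) (.wt
    1)) (.lin 7)) (.lin 4))) (.lin 11)) (.lin 1)) (.lin 3))) (.wt 1)) (.lin 12)))) (.lin 7)))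
    (.split 2 181 (.split 6 (-69) (.split 3 150 (.lin 6) (.split 2 117 (.lin 9) (.splitN 142306
    (.wt 1) cert5_7_3))) (.split 2 154 (.split 7 (-69) (.split 3 150 (.lin 6) (.split 1 105 (.lin
    8) (.split 2 117 (.lin 9) (.splitN 1027569 (.split 0 (-984) .sq (.split 3 1060 (.split 1 1033
    (.split 1 979 (.splitN 850808 (.split 6 (-48) (.split 3 159 (.lin 6) (.split 2 126 (.lin 9)
    (.split 0 (-888) .sq (.split 3 961 (.split 1 925 (.split 3 894 (.split 0 (-840) (.lin 7)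
    (.split 4 (-777) (.lin 3) (.split 4 (-172) (.split 1 231 (.lin 0) (.split 0 (-236) (.split 3
    294 (.lin 6) (.splitN 250982 .sq (.splitN 296284 (.split 6 (-57) (.split 2 135 (.lin 9)
    (.split 7 (-81) (.wt 1) (.split 2 136 (.split 0 (-319) (.split 3 384 (.lin 1) (.split 1 321
    (.lin 2) (.split 4 (-254) .sq (.lin 0)))) (.wt 2)) (.lin 9)))) (.wt 1)) (.wt 1)))) (.lin 3)))
    (.split 0 (-264) (.lin 3) (.split 0 (-126) (.split 3 177 (.lin 7) (.split 0 (-146) (.split 1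
    141 (.lin 4) (.split 3 195 (.lin 7) (.split 0 (-166) (.split 1 168 (.lin 4) (.split 3 222
    (.lin 7) (.split 0 (-199) (.split 1 195 (.lin 4) (.split 3 249 (.lin 7) (.splitN 220736
    (.split 6 (-58) (.split 7 (-83) (.split 2 153 (.lin 9) (.split 0 (-234) (.split 3 294 (.lin
    1) (.split 1 231 (.lin 2) (.split 4 (-146) .sq (.lin 0)))) (.wt 2))) (.wt 0)) (.wt 0)) (.wt
    6)))) (.wt 2)))) (.wt 2)))) (.wt 2))) (.wt 2)))))) .sq) (.lin 2)) (.lin 1))))) (.wt 2)) (.wt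
    1)) (.lin 4)) (.lin 2)) (.lin 1))) (.wt 1))))) (.split 2 127 (.split 0 (-104) (.split 1 105
    (.lin 4) (.split 3 150 (.lin 7) (.split 0 (-140) (.split 1 141 (.lin 4) (.split 3 186 (.lin
    7) (.split 0 (-196) (.split 3 222 (.lin 1) (.split 1 159 (.lin 11) (.split 1 195 (.lin 4)
    (.split 3 240 (.lin 7) (.split 0 (-306) (.split 3 330 (.lin 1) (.split 1 303 (.lin 4) (.split
    3 348 (.lin 7) (.splitN 690813 (.split 1 7640 (.split 4 (-7617) (.lin 0) (.split 0 (-7698)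
    (.lin 3) (.splitN 601141 (.split 1 6668 (.split 4 (-6645) (.lin 0) (.split 6 (-50) (.split 7
    (-54) (.split 2 108 (.lin 9) (.split 0 (-741) (.split 3 789 (.lin 1) .sq) (.wt 2))) (.wt 0))
    (.wt 0))) (.div 1)) (.wt 6)))) (.div 1)) (.wt 6))))) (.wt 2)))))) (.wt 2)))) (.wt 2)))) (.wt
    2)) (.lin 9))) (.lin 9))) (.lin 9)))))) (.wt 2)))

def cert5_7_5 : Cert :=
  (.split 7 (-244) (.split 3 357 (.lin 6) (.split 1 258 (.lin 8) (.split 2 342 (.lin 9) (.split 0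
    (-263) (.splitN 452024 .sq (.splitN 1429387 (.split 1 15848 (.split 2 16075 (.split 2 7924
    (.split 1 7846 (.split 0 (-7851) (.lin 3) (.split 3 8089 (.splitN 1337851 (.split 2 7420
    (.split 1 7342 (.split 0 (-7347) (.lin 3) (.split 3 7585 (.split 4 (-25) (.wt 0) (.split 6
    (-197) (.wt 0) (.split 7 (-1044) (.wt 0) (.split 3 1240 (.split 1 1051 (.split 2 1225 (.split
    6 (-166) (.wt 0) (.split 7 (-637) (.wt 0) (.split 3 808 (.split 1 646 (.split 2 793 (.split 6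
    (-150) (.wt 0) (.split 7 (-504) (.wt 0) (.split 3 655 (.split 1 511 (.split 2 640 (.split 6
    (-141) (.wt 0) (.split 7 (-442) (.wt 0) (.split 3 583 (.split 1 448 (.split 2 568 (.split 0
    (-453) (.lin 12) (.split 6 (-135) (.wt 0) (.split 7 (-408) (.wt 0) (.split 3 547 (.split 1
    421 (.split 2 532 (.split 6 (-117) (.wt 2) (.split 7 (-357) (.wt 1) (.split 3 475 (.split 1
    367 (.split 2 460 (.split 7 (-315) (.wt 3) (.split 3 430 (.split 1 322 (.split 2 415 (.split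
    7 (-298) (.wt 3) (.split 1 304 (.split 0 (-309) (.lin 12) (.split 6 (-105) (.split 7 (-275)
    (.wt 0) (.split 3 394 (.wt 2) (.lin 6))) (.wt 6))) (.lin 8))) (.lin 9)) (.lin 8)) (.lin 6)))
    (.lin 9)) (.lin 8)) (.lin 6)))) (.lin 9)) (.lin 8)) (.lin 6))))) (.lin 9)) (.lin 8)) (.lin
    6)))) (.lin 9)) (.lin 8)) (.lin 6)))) (.lin 9)) (.lin 8)) (.lin 6)))) (.lin 9)) (.lin 8))
    (.lin 6))))) (.lin 7))) (.lin 0)) (.div 2)) (.wt 3)) (.lin 7))) (.lin 0)) (.div 2)) (.lin 0))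
    (.div 1)) (.wt 3))) (.lin 12))))) (.split 3 502 (.split 1 259 (.split 2 478 (.split 0 (-264)
    (.lin 12) (.split 6 (-193) (.wt 2) (.split 3 448 (.split 6 (-176) (.wt 6) (.split 6 (-136)
    (.split 2 243 (.lin 0) (.split 3 267 (.lin 6) (.split 4 (-26) (.wt 2) (.split 3 421 (.split 0
    (-249) (.wt 2) (.split 1 241 (.split 0 (-224) (.wt 6) (.split 1 214 (.split 3 385 (.split 0
    (-208) (.wt 6) (.split 1 196 (.split 7 (-182) (.lin 8) (.split 6 (-166) (.wt 6) (.split 2 343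
    (.split 3 358 (.split 6 (-163) (.wt 6) (.split 7 (-150) (.split 0 (-173) (.wt 2) (.lin 12))
    (.split 3 313 (.split 1 160 (.split 6 (-154) (.wt 6) (.split 7 (-132) (.split 2 270 (.lin 9)
    (.split 0 (-155) (.splitN 2197355 (.wt 6) (.split 6 (-143) (.wt 0) (.split 3 295 (.wt 2)
    (.lin 6)))) (.lin 12))) (.split 3 286 (.split 1 142 (.split 0 (-147) (.lin 12) (.split 7
    (-119) (.split 1 141 (.lin 8) (.split 2 261 (.lin 9) (.split 0 (-146) (.splitN 5085201 (.wt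
    1) (.split 6 (-142) (.wt 0) (.splitN 6783919 (.wt 0) (.wt 1)))) (.lin 12)))) (.wt 3))) (.lin
    8)) (.lin 6)))) (.lin 8)) (.lin 6)))) (.lin 6)) (.lin 0)))) (.lin 4))) (.lin 7)) (.lin 4)))
    (.lin 4))) (.lin 6))))) (.split 2 370 (.split 3 385 (.split 4 (-25) (.split 1 141 (.lin 8)
    (.split 0 (-146) (.split 0 (-214) (.wt 2) (.split 2 307 (.split 1 232 (.split 3 331 (.split 0
    (-184) (.wt 2) (.split 1 178 (.split 3 304 (.split 7 (-155) (.lin 8) (.splitN 317696 (.wt 1)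
    (.split 7 (-152) (.wt 0) (.split 1 169 (.splitN 336705 (.wt 1) (.split 7 (-145) (.wt 0)
    (.split 3 286 (.split 1 160 (.splitN 364176 (.wt 1) (.split 6 (-120) (.wt 0) (.split 7 (-135)
    (.wt 0) (.split 3 268 (.split 1 151 (.splitN 422369 (.wt 6) (.split 6 (-106) (.wt 0) (.split
    3 250 (.wt 2) (.lin 6)))) (.lin 8)) (.lin 6))))) (.lin 8)) (.lin 6)))) (.lin 8))))) (.lin 7))
    (.lin 4))) (.lin 7)) (.lin 0)) (.lin 3))) (.lin 12))) (.split 7 (-177) (.split 3 294 (.lin 6)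
    (.split 1 195 (.lin 8) (.split 2 279 (.lin 9) (.split 0 (-200) (.split 6 (-124) (.wt 2)
    (.split 6 (-109) (.splitN 464387 (.wt 1) (.split 7 (-208) (.split 3 330 (.lin 6) (.split 0
    (-218) (.split 6 (-117) (.wt 2) (.split 2 343 (.splitN 622239 .cand (.wt 1)) (.lin 9))) (.lin
    7))) (.split 3 331 (.split 0 (-228) (.lin 7) (.split 1 214 (.split 6 (-114) (.split 2 297
    (.lin 0) (.splitN 788921 (.wt 6) (.split 0 (-202) (.wt 0) (.split 2 298 (.split 3 313 (.wt 0)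
    (.lin 1)) (.lin 3))))) (.split 0 (-215) (.split 2 306 (.lin 3) (.split 1 213 (.lin 0) (.split
    3 321 (.lin 1) (.split 7 (-199) (.splitN 643495 (.wt 0) (.wt 1)) (.lin 6))))) (.wt 2))) (.lin
    8))) (.lin 6)))) (.wt 2))) (.lin 12))))) (.split 3 313 (.split 0 (-219) (.lin 7) (.split 1
    187 (.split 2 298 (.split 0 (-192) (.lin 12) (.split 6 (-104) (.split 3 240 (.lin 6) (.split
    7 (-145) (.split 3 267 (.lin 6) (.split 1 159 (.lin 8) (.split 2 252 (.lin 9) (.split 0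
    (-164) (.split 6 (-111) (.splitN 722500 (.wt 1) (.split 7 (-159) (.split 3 294 (.lin 6)
    (.split 0 (-173) (.split 1 177 (.lin 8) (.split 2 279 (.lin 9) (.splitN 778218 (.wt 1)
    (.split 6 (-125) (.wt 2) (.splitN 967865 (.split 7 (-168) (.splitN 851255 .cand (.wt 1))
    .cand) (.wt 1)))))) (.lin 7))) (.split 3 295 (.split 1 169 (.split 0 (-174) (.lin 12) (.split
    6 (-119) (.split 2 270 (.lin 0) (.split 3 285 (.lin 6) (.split 0 (-171) (.wt 2) (.split 1 160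
    (.split 7 (-146) (.lin 8) (.splitN 1547647 (.wt 0) (.wt 1))) (.lin 4))))) (.wt 2))) (.lin 8))
    (.lin 6)))) (.wt 2)) (.lin 12))))) (.split 1 151 (.split 2 262 (.split 0 (-156) (.lin 12)
    (.splitN 15175644 (.split 7 (-121) (.split 1 141 (.lin 8) (.split 2 234 (.lin 9) (.splitN
    4395348 (.split 6 (-115) (.split 3 258 (.lin 6) (.wt 2)) (.wt 0)) (.wt 1)))) (.wt 0)) (.wt
    6))) (.lin 9)) (.lin 8)))) (.wt 2))) (.lin 9)) (.lin 8))) (.lin 6)))) (.lin 6)) (.lin 0))))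
    (.lin 6)))) (.lin 9)) (.lin 8)) (.lin 6)))

def cert5_7_6 : Cert :=
  (.split 6 (-100) (.split 2 117 (.lin 0) (.split 3 141 (.lin 6) (.split 2 144 (.lin 9) (.split 5
    9 (.split 1 51 (.lin 4) (.split 3 150 (.lin 6) (.split 7 (-50) (.split 2 153 (.lin 9) (.split
    0 (-65) (.split 7 (-118) (.split 3 222 (.lin 6) (.split 1 123 (.lin 8) (.split 2 216 (.lin 9)
    (.split 0 (-128) (.split 4 (-20) (.split 1 132 (.lin 8) (.split 0 (-137) (.split 6 (-251)
    (.wt 6) cert5_7_5) (.lin 12))) (.split 0 (-130) (.split 1 132 (.lin 4) (.split 6 (-175)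
    (.split 2 306 (.lin 0) (.wt 1)) (.wt 0))) (.wt 0))) (.lin 12))))) (.split 1 133 (.split 0
    (-138) (.lin 12) (.split 4 (-13) (.split 3 168 (.lin 6) (.split 1 69 (.lin 8) (.split 7 (-56)
    (.split 3 177 (.lin 6) (.split 1 78 (.lin 8) (.split 2 162 (.lin 9) (.split 0 (-83) (.split 6
    (-3631) (.wt 1) (.split 3 3760 (.split 6 (-2790) (.wt 1) (.split 3 2914 (.split 6 (-2614)
    (.wt 1) (.split 3 2743 (.split 6 (-721) (.wt 6) (.split 3 844 (.split 6 (-545) (.wt 6)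
    (.split 3 673 (.split 6 (-500) (.wt 6) (.split 3 628 (.split 6 (-223) (.split 2 279 (.lin 0)
    (.split 7 (-83) (.split 0 (-110) (.wt 6) (.lin 12)) (.wt 1))) (.split 3 349 (.split 7 (-65)
    (.split 1 87 (.lin 8) (.split 2 171 (.lin 9) (.split 0 (-92) (.split 6 (-159) (.split 2 225
    (.lin 0) (.split 7 (-79) (.split 1 96 (.lin 8) (.split 2 243 (.lin 9) (.split 0 (-101)
    (.splitN 792189 (.wt 1) (.split 7 (-83) (.split 1 105 (.lin 8) (.split 4 (-21) (.split 0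
    (-119) (.wt 0) (.lin 12)) (.wt 1))) (.wt 1))) (.lin 12)))) (.wt 1))) (.split 2 271 (.split 3
    286 (.split 4 (-25) (.split 3 195 (.lin 6) (.split 1 96 (.lin 8) (.split 0 (-101) (.split 6
    (-154) (.wt 6) (.split 7 (-91) (.split 3 213 (.lin 6) (.split 1 114 (.lin 8) (.split 2 189
    (.lin 9) (.split 0 (-119) (.split 6 (-125) (.wt 2) (.split 3 250 (.split 7 (-100) (.split 1
    123 (.lin 8) (.split 0 (-128) (.split 6 (-111) (.wt 2) (.split 6 (-105) (.split 2 207 (.lin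
    0) (.split 3 231 (.lin 6) (.splitN 630426 (.wt 6) (.split 7 (-104) (.wt 0) (.split 3 232
    (.split 0 (-129) (.lin 7) (.split 1 124 (.split 2 208 (.splitN 641704 (.wt 0) (.wt 0)) (.lin
    9)) (.lin 8))) (.lin 6)))))) (.split 2 208 (.split 3 232 (.split 0 (-130) (.split 2 207 (.lin
    3) (.split 1 132 (.lin 0) (.split 3 231 (.lin 1) (.split 7 (-109) (.splitN 540261 (.wt 0)
    (.wt 0)) (.lin 1))))) (.wt 2)) (.lin 6)) (.lin 0)))) (.lin 12))) (.split 3 232 (.split 1 115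
    (.split 2 208 (.split 0 (-120) (.lin 12) (.splitN 1255813 (.splitN 954973 (.wt 3) (.split 6
    (-107) (.splitN 1147619 (.split 6 (-118) (.wt 0) (.wt 0)) (.wt 3)) (.wt 0))) (.wt 1))) (.lin
    9)) (.lin 8)) (.lin 6))) (.lin 6))) (.lin 12))))) (.split 3 250 (.split 1 106 (.split 0
    (-111) (.lin 12) (.split 6 (-115) (.split 3 213 (.lin 6) (.split 6 (-119) (.split 7 (-75)
    (.split 1 105 (.lin 8) (.split 2 207 (.lin 9) (.split 0 (-110) (.splitN 3733026 (.wt 1)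
    (.split 3 242 (.wt 0) (.split 2 225 (.lin 1) (.split 6 (-145) (.wt 0) (.lin 0))))) (.lin
    12)))) (.wt 1)) (.wt 2))) (.wt 2))) (.lin 8)) (.lin 6)))) (.lin 12)))) (.split 0 (-129) (.lin
    12) (.split 0 (-95) (.split 1 96 (.lin 4) (.split 3 195 (.lin 7) (.split 0 (-107) (.split 2
    189 (.lin 3) (.split 1 105 (.lin 4) (.wt 3))) (.wt 0)))) (.wt 0)))) (.lin 6)) (.lin 0)))
    (.lin 12)))) (.wt 3)) (.lin 6))) (.lin 6))) (.lin 6))) (.lin 6))) (.lin 6))) (.lin 6))) (.lin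
    6))) (.lin 12))))) (.wt 1)))) (.wt 0))) (.lin 8))) (.lin 12))) (.wt 1)))) (.splitN 200852
    (.split 1 2204 (.split 7 (-2207) (.lin 8) (.split 2 1102 (.split 0 (-1029) (.lin 3) (.split 6
    (-1073) (.lin 0) (.splitN 110992 (.split 2 616 (.split 1 529 (.split 0 (-543) (.lin 3)
    (.split 6 (-587) (.lin 0) (.split 7 (-533) (.lin 8) (.splitN 80181 (.split 2 436 (.split 6
    (-407) (.lin 0) (.wt 2)) (.div 2)) (.wt 6))))) (.lin 0)) (.div 2)) (.wt 6)))) (.div 2)))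
    (.div 1)) (.wt 6)))))) (.split 5 9 (.split 3 96 (.lin 6) (.split 7 (-51) (.split 1 60 (.lin
    8) (.split 7 (-118) (.split 3 168 (.lin 6) (.split 1 123 (.lin 8) (.split 2 162 (.lin 9)
    (.split 0 (-128) (.split 4 (-12) (.split 3 177 (.lin 6) (.split 1 132 (.lin 8) (.split 6
    (-53) (.split 6 (-73) (.split 3 204 (.lin 6) (.split 7 (-244) (.split 3 330 (.lin 6) (.split
    1 258 (.lin 8) (.split 2 315 (.lin 9) (.split 0 (-263) (.splitN 410957 .sq (.splitN 576000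
    (.split 0 (-15951) (.div 0) (.split 2 16021 (.split 1 6380 (.split 2 6454 (.split 0 (-6411)
    (.lin 3) (.split 2 3190 (.split 1 3139 (.split 4 (-24) (.wt 1) (.split 6 (-78) (.split 7
    (-372) (.wt 1) (.split 3 475 (.split 0 (-399) (.lin 7) (.wt 2)) (.lin 6))) (.wt 1))) (.lin
    0)) (.div 2))) (.lin 0)) (.div 1)) (.lin 3))) (.wt 1))) (.lin 12))))) (.split 3 349 (.split 0
    (-282) (.lin 7) (.split 1 259 (.split 2 325 (.split 0 (-264) (.lin 12) (.splitN 178826 (.wt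
    1) (.split 4 (-25) (.split 1 141 (.lin 8) (.split 7 (-177) (.split 3 276 (.lin 6) (.split 1
    204 (.lin 8) (.split 2 252 (.lin 9) (.split 0 (-209) (.splitN 265400 .sq (.split 6 (-80)
    (.split 7 (-216) (.wt 0) (.split 3 322 (.split 1 232 (.split 2 298 (.split 6 (-90) (.wt 0)
    (.splitN 267383 .sq (.wt 1))) (.lin 9)) (.lin 8)) (.lin 6))) (.wt 1))) (.lin 12))))) (.split
    1 196 (.split 0 (-201) (.lin 12) (.split 6 (-78) (.split 3 222 (.lin 6) (.split 7 (-145)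
    (.split 3 249 (.lin 6) (.splitN 351127 .cand (.wt 1))) (.split 3 250 (.split 0 (-174) (.lin
    7) (.split 1 160 (.split 2 226 (.split 0 (-165) (.lin 12) (.split 0 (-150) (.split 2 207
    (.lin 3) (.split 1 150 (.lin 4) (.split 7 (-127) (.splitN 384732 (.split 6 (-83) (.split 3
    240 (.lin 6) (.splitN 358431 (.split 7 (-132) (.split 1 159 (.lin 8) (.split 2 225 (.lin 9)
    (.splitN 350835 (.wt 0) (.wt 1)))) (.wt 0)) (.wt 6))) (.wt 0)) (.wt 1)) (.lin 8)))) (.wt 2)))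
    (.lin 9)) (.lin 8))) (.lin 6)))) (.wt 2))) (.lin 8)))) (.splitN 507032 (.split 0 (-161)
    (.split 1 159 (.lin 4) (.split 3 231 (.lin 7) (.wt 2))) (.wt 0)) (.wt 6))))) (.lin 9)) (.lin
    8))) (.lin 6)))) (.splitN 865351 (.split 2 4792 (.split 1 4759 (.split 0 (-4764) (.lin 3)
    (.split 0 (-206) (.split 2 234 (.lin 3) (.split 1 204 (.lin 4) (.split 3 258 (.lin 7) (.split
    7 (-172) (.splitN 241046 .sq (.splitN 389319 (.split 2 2146 (.split 0 (-2118) (.lin 3)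
    (.split 3 2176 (.split 7 (-2108) (.lin 6) (.wt 6)) (.lin 7))) (.div 2)) (.wt 1))) (.lin
    6))))) (.wt 2))) (.lin 0)) (.div 2)) (.wt 1))) (.wt 2)))) (.wt 0)) (.lin 12))))) (.split 3
    223 (.split 0 (-183) (.lin 7) (.split 2 199 (.split 0 (-138) (.lin 12) (.split 4 (-17)
    (.split 3 114 (.lin 6) (.split 1 69 (.lin 8) (.split 6 (-48) (.split 3 123 (.lin 6) (.split 7
    (-66) (.split 3 141 (.lin 6) (.split 1 87 (.lin 8) (.split 0 (-106) (.split 1 105 (.lin 4)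
    (.split 3 159 (.lin 7) (.split 7 (-82) (.splitN 697186 (.split 4 (-25) (.split 6 (-74)
    (.split 3 186 (.lin 6) (.wt 2)) (.wt 0)) (.wt 0)) (.wt 6)) (.lin 8)))) (.wt 2)))) (.wt 0)))
    (.wt 0)))) (.wt 0))) (.lin 9))) (.lin 6)))) (.wt 3))) (.wt 2)))

def cert5_7_7 : Cert :=
  (.split 1 22 (.split 5 40 (.lin 4) (.splitN 175905 (.split 2 976 (.split 7 (-938) (.lin 2)
    (.split 6 (-929) (.lin 9) (.split 5 976 (.split 0 (-984) (.lin 4) (.split 4 (-939) (.lin 8)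
    (.splitN 161297 (.split 0 (-378) .sq (.split 5 365 (.split 7 (-371) (.lin 8) (.split 2 384
    (.split 6 (-335) (.lin 9) (.splitN 140920 (.split 0 (-351) .sq (.split 5 338 (.split 2 357
    (.split 7 (-317) (.lin 2) (.split 6 (-308) (.lin 9) (.split 4 (-59) (.split 5 94 (.lin 8)
    (.split 0 (-110) (.split 7 (-290) (.lin 8) (.splitN 40616 .sq (.splitN 66227 (.split 6 (-47)
    (.split 2 99 (.lin 9) (.split 3 60 (.lin 11) (.splitN 44261 .sq (.split 7 (-134) (.wt 1)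
    (.split 0 (-183) .sq (.split 5 176 (.split 4 (-147) (.lin 8) (.split 6 (-61) (.split 2 108
    (.lin 9) (.split 3 69 (.lin 11) (.splitN 48392 .sq (.split 1 7 (.wt 1) (.split 3 78 (.lin 11)
    (.splitN 49940 .sq (.splitN 62076 (.split 2 328 (.split 6 (-281) (.lin 9) (.wt 6)) (.div 2))
    (.wt 1)))))))) (.wt 6))) (.lin 4))))))) (.wt 6)) (.wt 1)))) (.lin 12))) (.split 1 11 (.split
    5 49 (.lin 4) (.splitN 68072 (.split 0 (-219) .sq (.split 2 229 (.split 7 (-182) (.lin 2)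
    (.split 6 (-182) (.lin 9) (.split 4 (-25) (.split 5 67 (.lin 8) (.split 0 (-74) (.splitN
    47275 (.split 0 (-160) .sq (.split 5 149 (.split 7 (-128) (.lin 8) (.splitN 26708 (.wt 3)
    (.split 2 167 (.split 6 (-119) (.lin 9) (.splitN 44570 (.split 0 (-149) .sq (.split 6 (-47)
    (.split 2 99 (.lin 9) (.split 3 60 (.lin 11) (.split 0 (-136) .sq (.split 2 151 (.split 6
    (-101) (.lin 9) (.splitN 42636 (.split 2 140 (.split 7 (-83) (.lin 2) (.split 6 (-92) (.lin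
    9) (.split 6 (-56) (.split 2 108 (.lin 9) (.split 7 (-74) (.lin 9) (.split 3 69 (.lin 11)
    (.splitN 33983 .sq (.split 7 (-72) (.wt 1) (.split 6 (-66) (.split 3 78 (.lin 11) (.splitN
    38600 .sq (.split 4 (-43) (.wt 1) (.split 0 (-102) (.lin 3) (.wt 6))))) (.wt 2))))))) (.wt
    2)))) .sq) (.wt 1))) .sq)))) (.wt 6))) (.wt 1))) .sq))) (.lin 4))) (.wt 1)) (.lin 12)))
    (.split 0 (-201) (.lin 3) (.split 6 (-53) (.split 3 60 (.lin 11) (.split 6 (-59) (.split 7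
    (-164) (.lin 9) (.split 3 69 (.lin 11) (.split 6 (-66) (.split 2 117 (.lin 9) (.split 7
    (-155) (.lin 9) (.split 3 78 (.lin 11) (.splitN 33416 .sq (.split 6 (-76) (.split 0 (-165)
    (.lin 3) (.split 2 126 (.lin 9) (.split 3 87 (.lin 11) (.splitN 38519 .sq (.split 0 (-61)
    (.split 5 58 (.lin 4) (.splitN 40589 .sq (.split 7 (-136) (.wt 1) (.split 4 (-12) (.splitN
    48301 (.split 7 (-47) (.split 2 135 (.lin 2) (.split 0 (-74) (.split 5 67 (.lin 4) .sq) (.lin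
    12))) (.wt 0)) (.wt 1)) (.wt 2))))) (.wt 6)))))) (.wt 6)))))) (.wt 2)))) (.wt 2))) (.wt
    2)))))) .sq)) (.wt 1))) (.split 3 60 (.lin 11) (.split 0 (-64) (.split 5 49 (.lin 4) (.split
    0 (-69) (.split 5 58 (.lin 4) (.split 3 178 (.split 6 (-164) (.lin 11) (.splitN 60495 (.split
    4 (-17) (.split 7 (-62) (.split 0 (-83) (.split 5 67 (.lin 4) (.splitN 56942 (.split 2 310
    (.split 0 (-318) (.lin 3) (.split 7 (-263) (.lin 2) (.splitN 55562 (.split 2 292 (.split 0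
    (-300) (.lin 3) (.split 7 (-245) (.lin 2) (.split 4 (-21) (.split 5 76 (.lin 8) (.splitN
    52538 (.split 2 274 (.split 7 (-227) (.lin 2) (.split 6 (-59) (.split 7 (-209) (.lin 9)
    (.split 3 78 (.lin 11) (.wt 2))) (.wt 0))) (.div 2)) (.wt 6))) (.wt 0)))) (.div 2)) (.wt
    6)))) (.div 2)) (.wt 6))) (.lin 12)) (.wt 0)) (.wt 0)) (.wt 6))) (.wt 2))) (.wt 2))) (.wt
    2))))))) .sq) (.lin 4))) (.wt 1))) .sq)) (.lin 4))) (.wt 1)))) (.div 5)))) (.div 2)) (.wt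
    1))) (.split 3 69 (.lin 11) (.split 5 18 (.split 1 42 (.lin 4) (.split 3 87 (.lin 6) (.split
    4 (-30) (.split 3 114 (.lin 6) (.split 1 69 (.lin 8) (.split 0 (-83) cert5_7_4 (.lin 12))))
    cert5_7_6))) (.split 4 (-13) (.splitN 378397 (.split 0 (-10461) (.div 0) (.split 1 4184
    (.split 2 2092 (.split 6 (-2045) (.lin 9) (.split 4 (-4185) (.div 4) (.splitN 349089 (.split
    2 1930 (.split 6 (-1883) (.lin 9) (.split 5 1930 (.split 6 (-72) (.split 3 96 (.lin 11)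
    (.splitN 301031 (.split 1 3320 (.split 0 (-5241) (.lin 4) (.split 2 1660 (.split 6 (-1613)
    (.lin 9) (.split 7 (-1586) (.lin 9) (.split 6 (-87) (.split 3 114 (.lin 11) (.splitN 282481
    (.split 1 3104 (.split 2 1552 (.split 6 (-1505) (.lin 9) (.split 7 (-1460) (.lin 9) (.split 4
    (-3105) (.div 4) (.split 0 (-4557) (.lin 3) (.split 6 (-95) (.split 2 144 (.lin 9) (.split 3
    123 (.lin 11) (.splitN 54296 .sq (.split 0 (-77) (.splitN 56960 .sq (.split 5 525 (.split 0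
    (-3621) (.lin 4) (.split 5 475 (.split 6 (-140) (.split 2 189 (.lin 9) (.split 3 168 (.lin
    11) (.splitN 96245 .sq (.splitN 258211 (.split 1 2852 (.split 0 (-3324) (.lin 4) (.split 2
    1426 (.split 6 (-1379) (.lin 9) (.split 7 (-1280) (.lin 9) (.split 4 (-2853) (.div 4)
    (.splitN 243558 (.split 1 2672 (.split 0 (-3144) (.lin 4) (.split 2 1336 (.split 6 (-1289)
    (.lin 9) (.split 7 (-134) (.wt 1) (.splitN 141771 (.split 1 1556 (.split 0 (-2028) (.lin 4)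
    (.split 2 778 (.split 6 (-731) (.lin 9) (.split 4 (-1557) (.div 4) (.split 0 (-1677) (.lin
    12) (.splitN 111791 (.split 2 616 (.split 6 (-569) (.lin 9) (.split 4 (-1233) (.div 4)
    (.splitN 98340 (.split 2 544 (.split 6 (-497) (.lin 9) (.split 4 (-1089) (.div 4) (.wt 6)))
    (.div 2)) (.wt 6)))) (.div 2)) (.wt 6))))) (.div 2))) (.div 1)) (.wt 6)))) (.div 2))) (.div
    1)) (.wt 6))))) (.div 2))) (.div 1)) (.wt 1))))) (.wt 6)) (.wt 6))) (.wt 6))) (.wt 6)))))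
    (.wt 2)))))) (.div 2)) (.div 1)) (.wt 1))) (.wt 2)))) (.div 2))) (.div 1)) (.wt 1))) (.wt 2))
    (.div 5))) (.div 2)) (.wt 1)))) (.div 2)) (.div 1))) (.wt 1)) (.wt 2)))))

def cert5_7_8 : Cert :=
  (.split 4 (-30) (.split 5 40 (.lin 8) (.split 0 (-56) (.split 6 (-100) (.split 2 117 (.lin 9)
    (.split 3 105 (.lin 11) (.split 7 (-28) (.split 5 49 (.lin 8) (.split 2 126 (.lin 9) (.split
    0 (-65) (.splitN 46367 .sq (.splitN 149564 (.split 0 (-4071) (.div 0) (.split 2 814 (.split 6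
    (-785) (.lin 9) (.split 5 814 (.split 4 (-795) (.lin 8) (.splitN 137034 (.split 2 760 (.split
    6 (-731) (.lin 9) (.split 1 15 (.split 5 58 (.lin 4) (.splitN 68039 (.split 2 364 (.split 6
    (-335) (.lin 9) (.split 5 364 (.split 4 (-336) (.lin 8) (.split 0 (-150) .sq (.split 6 (-108)
    (.split 2 135 (.lin 9) (.split 3 114 (.lin 11) (.splitN 53585 .sq (.split 6 (-118) (.split 2
    144 (.lin 9) (.split 3 123 (.lin 11) (.splitN 60308 .sq (.wt 1)))) (.wt 1))))) (.wt 6))))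
    (.div 5))) (.div 2)) (.wt 1))) (.wt 2))) (.div 2)) (.wt 1))) (.div 5))) (.div 2))) (.wt 1)))
    (.lin 12)))) (.split 1 11 (.split 5 49 (.lin 4) (.splitN 158400 (.split 0 (-4341) (.div 0)
    (.split 2 868 (.split 6 (-848) (.lin 9) (.split 4 (-1737) (.div 4) (.split 0 (-1749) (.lin
    12) (.split 5 868 (.split 0 (-867) (.lin 4) (.split 4 (-849) (.lin 8) (.splitN 145300 (.split
    2 796 (.split 6 (-776) (.lin 9) (.split 0 (-58) (.split 5 58 (.lin 4) (.split 4 (-47)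
    (.splitN 130748 (.split 2 724 (.split 6 (-704) (.lin 9) (.split 5 724 (.split 0 (-723) (.lin
    4) (.split 4 (-705) (.lin 8) (.split 0 (-68) (.split 5 67 (.lin 4) (.split 4 (-56) (.splitN
    121790 (.split 2 670 (.split 6 (-650) (.lin 9) (.split 0 (-78) (.split 5 76 (.lin 4) (.split
    4 (-65) (.splitN 115780 (.split 2 634 (.split 6 (-614) (.lin 9) (.split 5 634 (.split 4
    (-615) (.lin 8) (.split 0 (-89) (.split 5 85 (.lin 4) (.split 4 (-74) (.split 6 (-111)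
    (.split 2 135 (.lin 9) (.split 3 123 (.lin 2) (.splitN 109697 (.split 2 598 (.split 6 (-578)
    (.lin 9) (.split 5 598 (.split 4 (-579) (.lin 8) (.split 0 (-124) (.split 5 121 (.lin 4)
    (.split 4 (-110) (.splitN 101449 (.split 2 562 (.split 6 (-542) (.lin 9) (.split 5 562
    (.split 4 (-543) (.lin 8) (.split 0 (-166) (.split 5 166 (.lin 4) (.split 4 (-155) .sq (.lin
    8))) (.wt 0))) (.div 5))) (.div 2)) (.wt 1)) (.lin 8))) (.wt 0))) (.div 5))) (.div 2)) (.wt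
    1)))) (.wt 0)) (.lin 8))) (.wt 0))) (.div 5))) (.div 2)) (.wt 1)) (.lin 8))) (.wt 0))) (.div
    2)) (.wt 1)) (.lin 8))) (.wt 0)))) (.div 5))) (.div 2)) (.wt 1)) (.lin 8))) (.wt 0))) (.div
    2)) (.wt 1)))) (.div 5))))) (.div 2))) (.wt 1))) (.wt 0))))) (.split 2 127 (.split 3 106
    (.splitN 552584 (.split 4 (-6129) (.div 4) (.split 5 6197 (.split 0 (-6276) (.lin 1) (.split
    1 12 (.split 5 49 (.lin 4) (.split 3 97 (.splitN 107317 (.split 4 (-1161) (.div 4) (.split 5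
    1229 (.split 0 (-1299) (.lin 1) (.split 5 580 (.split 4 (-606) (.lin 0) (.split 0 (-642)
    (.lin 1) (.split 0 (-579) (.lin 4) (.split 6 (-47) (.split 3 60 (.lin 11) (.split 0 (-62)
    (.split 5 58 (.lin 4) (.split 7 (-21) (.split 2 81 (.lin 2) (.splitN 57054 (.split 5 310
    (.split 4 (-318) (.lin 0) (.split 0 (-354) (.lin 1) (.split 0 (-309) (.lin 4) (.split 4
    (-282) (.lin 8) (.splitN 36732 (.wt 3) (.split 0 (-67) (.split 5 67 (.lin 4) (.split 6 (-57)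
    (.split 3 69 (.lin 11) (.splitN 55212 (.split 5 292 (.split 4 (-264) (.lin 8) (.split 0 (-82)
    (.split 5 76 (.lin 4) (.split 0 (-85) (.split 5 85 (.lin 4) (.split 4 (-56) (.splitN 52215
    (.split 6 (-65) (.split 2 99 (.lin 9) (.split 3 78 (.lin 11) (.split 0 (-103) (.split 5 103
    (.lin 4) (.split 4 (-74) .sq (.lin 8))) (.wt 2)))) (.wt 6)) (.wt 1)) (.lin 8))) (.wt 2)))
    (.wt 2))) (.div 5)) (.wt 1))) (.wt 2))) (.wt 2))))))) (.div 5)) (.wt 1))) (.wt 2))) (.wt 2)))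
    (.wt 2))))) (.div 5))) (.lin 0))) (.wt 1)) (.lin 11))) (.wt 2))) (.lin 0))) (.wt 1)) (.lin
    11)) (.lin 9))) (.lin 12))) (.split 5 59 (.split 0 (-66) (.lin 12) (.split 1 14 (.split 5 22
    (.lin 4) (.split 0 (-30) (.split 5 31 (.lin 4) (.split 3 215 (.split 2 271 (.split 2 244
    (.split 6 (-236) (.lin 0) (.split 6 (-209) (.lin 11) (.splitN 96735 (.split 4 (-12) (.split 7
    (-24) (.split 0 (-47) (.split 5 40 (.lin 4) (.splitN 72999 (.split 6 (-49) (.split 3 60 (.lin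
    11) (.splitN 59469 (.split 3 129 (.split 2 154 (.split 6 (-128) (.lin 9) (.wt 2)) (.lin 2))
    (.wt 0)) (.wt 6))) (.wt 0)) (.wt 1))) (.lin 12)) (.wt 0)) (.wt 0)) (.wt 6)))) (.lin 2)) (.lin
    1)) (.wt 2))) (.wt 2))) (.wt 2))) (.lin 8)))

def cert5_7_9 : Cert :=
  (.split 7 (-46) (.split 2 63 (.lin 9) (.split 0 (-56) (.split 1 22 (.split 5 22 (.lin 0)
    (.split 5 40 (.lin 4) (.splitN 77346 (.split 0 (-2091) (.div 0) (.split 4 (-2064) (.lin 3)
    (.split 2 418 (.split 7 (-407) (.lin 2) (.split 5 418 (.split 4 (-399) (.lin 0) (.split 0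
    (-426) (.lin 4) (.split 6 (-23) (.split 2 72 (.lin 9) (.split 3 33 (.lin 11) (.splitN 69403
    (.split 5 382 (.split 0 (-390) (.lin 4) (.splitN 56776 (.split 2 310 (.split 7 (-290) (.lin
    2) (.split 5 310 (.split 4 (-282) (.lin 0) (.split 0 (-318) (.lin 4) (.splitN 52866 (.split 2
    292 (.split 7 (-272) (.lin 2) (.split 5 292 (.split 4 (-264) (.lin 0) (.splitN 51696 (.split
    2 274 (.split 7 (-254) (.lin 2) (.split 5 274 (.split 0 (-282) (.lin 4) (.split 0 (-57)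
    (.split 5 49 (.lin 4) (.splitN 46461 (.split 2 256 (.split 7 (-236) (.lin 2) (.split 5 256
    (.split 4 (-228) (.lin 0) (.split 0 (-264) (.lin 4) (.splitN 45292 (.split 2 238 (.split 7
    (-218) (.lin 2) (.split 5 238 (.split 4 (-210) (.lin 0) (.split 1 9 (.split 5 58 (.lin 4)
    (.splitN 41602 (.split 2 220 (.split 7 (-191) (.lin 2) (.split 5 220 (.split 4 (-174) (.lin
    8) (.split 4 (-13) (.splitN 38383 (.split 2 202 (.split 7 (-173) (.lin 2) (.split 5 202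
    (.split 0 (-201) (.lin 4) (.split 4 (-156) (.lin 8) (.split 0 (-72) (.split 5 67 (.lin 4)
    (.split 0 (-75) (.split 5 76 (.lin 4) (.splitN 36132 (.split 2 184 (.split 7 (-155) (.lin 2)
    (.split 5 184 (.split 0 (-183) (.lin 4) (.split 4 (-138) (.lin 8) (.split 7 (-50) (.split 4
    (-129) (.lin 8) (.split 0 (-84) (.split 5 85 (.lin 4) (.split 3 42 (.split 6 (-29) (.lin 11)
    (.splitN 31974 (.split 2 166 (.split 7 (-137) (.lin 2) (.wt 2)) (.div 2)) (.wt 1))) (.wt 2)))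
    (.wt 2))) (.wt 0)))) (.div 5))) (.div 2)) (.wt 6))) (.wt 2))) (.wt 2)))) (.div 5))) (.div 2))
    (.wt 1)) (.wt 0))) (.div 5))) (.div 2)) (.wt 6))) (.wt 2))) (.div 5))) (.div 2)) (.wt 6))))
    (.div 5))) (.div 2)) (.wt 6))) (.wt 2))) (.div 5))) (.div 2)) (.wt 6))) (.div 5))) (.div 2))
    (.wt 6)))) (.div 5))) (.div 2)) (.wt 6))) (.div 5)) (.wt 1)))) (.wt 2)))) (.div 5))) (.div
    2)))) (.wt 1)))) (.split 3 42 (.lin 11) (.split 4 (-13) (.split 5 10 (.split 1 42 (.lin 0)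
    (.split 3 78 (.lin 6) (.split 1 60 (.lin 8) (.splitN 166642 (.split 0 (-4611) (.div 0)
    (.split 2 4627 (.split 1 1844 (.split 0 (-1848) (.lin 4) (.split 4 (-1821) (.lin 0) (.split 2
    922 (.split 7 (-902) (.lin 9) (.splitN 135654 (.split 1 1484 (.split 4 (-1461) (.lin 0)
    (.split 2 742 (.split 7 (-722) (.lin 9) (.split 4 (-28) (.split 3 87 (.lin 6) (.split 1 69
    (.lin 8) (.splitN 98949 (.split 1 1088 (.split 0 (-1092) (.lin 4) (.split 2 544 (.split 7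
    (-524) (.lin 9) (.splitN 93143 (.split 1 1016 (.split 4 (-993) (.lin 0) (.split 2 508 (.split
    7 (-488) (.lin 9) (.split 0 (-105) (.split 3 123 (.lin 7) (.wt 2)) (.wt 0))) (.div 2))) (.div
    1)) (.wt 6))) (.div 2))) (.div 1)) (.wt 6)))) (.wt 0))) (.div 2))) (.div 1)) (.wt 6))) (.div
    2)))) (.div 1)) (.lin 3))) (.wt 6))))) (.wt 2)) (.wt 2)))) (.lin 12))) (.split 2 73 (.split 1
    22 (.split 5 13 (.lin 4) (.split 3 52 (.split 0 (-39) (.split 5 31 (.lin 4) (.splitN 163699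
    (.split 5 904 (.split 4 (-912) (.lin 0) (.split 0 (-948) (.lin 1) (.splitN 127010 (.split 5
    688 (.split 4 (-696) (.lin 0) (.split 0 (-732) (.lin 1) (.splitN 119047 (.split 5 652 (.split
    4 (-660) (.lin 0) (.split 0 (-66) (.split 5 58 (.lin 4) (.split 4 (-38) (.splitN 70704
    (.split 5 382 (.split 0 (-426) (.lin 1) (.splitN 62930 (.split 1 11 (.split 5 67 (.lin 4)
    (.split 7 (-23) (.split 2 45 (.lin 2) (.splitN 47426 (.split 5 256 (.split 4 (-246) (.lin 0)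
    (.split 6 (-22) (.split 3 33 (.lin 11) (.wt 2)) (.wt 0))) (.div 5)) (.wt 1))) (.wt 0))) (.wt
    0)) (.wt 6))) (.div 5)) (.wt 6)) (.lin 12))) (.wt 2))) (.div 5)) (.wt 6)))) (.div 5)) (.wt
    6)))) (.div 5)) (.wt 6))) (.wt 2)) (.lin 11))) (.split 3 42 (.lin 11) (.split 1 77 (.split 3
    106 (.split 6 (-24) (.split 2 45 (.lin 9) (.split 3 51 (.lin 11) (.splitN 1257032 (.split 5
    6970 (.split 4 (-7023) (.lin 0) (.split 0 (-7059) (.lin 1) (.splitN 970168 (.split 5 5386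
    (.split 4 (-5439) (.lin 0) (.split 0 (-5475) (.lin 1) (.splitN 909984 (.split 0 (-99) (.split
    5 31 (.lin 4) (.wt 0)) (.wt 0)) (.wt 6)))) (.div 5)) (.wt 6)))) (.div 5)) (.wt 6)))) (.wt 0))
    (.lin 11)) (.wt 0)))) (.lin 9)))

def cert5_7 : Cert :=
  (.split 4 (-3) (.split 0 (-20) (.split 5 (-1) (.split 1 24 (.lin 4) (.split 3 33 (.lin 6)
    (.split 6 (-13) (.split 7 (-22) (.split 3 60 (.lin 6) (.split 1 42 (.lin 8) (.splitN 107918
    (.split 1 1196 (.split 0 (-1191) (.lin 4) (.split 2 598 (.split 6 (-569) (.lin 9) (.split 7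
    (-578) (.lin 9) (.split 5 (-599) (.div 5) (.splitN 61005 (.split 1 656 (.split 0 (-651) (.lin
    4) (.split 4 (-624) (.lin 8) (.split 2 328 (.split 6 (-299) (.lin 9) (.split 7 (-308) (.lin
    9) (.split 5 (-329) (.div 5) (.wt 2)))) (.div 2)))) (.div 1)) (.wt 6))))) (.div 2))) (.div
    1)) (.wt 6)))) (.wt 0)) (.wt 0)))) (.split 6 (-11) (.split 2 27 (.lin 9) (.split 3 24 (.lin
    11) (.split 7 (-12) (.split 2 36 (.lin 9) (.split 0 (-29) (.split 6 (-46) (.split 2 63 (.lin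
    9) (.split 3 51 (.lin 11) (.split 7 (-46) (.split 2 90 (.lin 9) (.split 0 (-56) cert5_7_7
    (.lin 12))) (.split 1 22 (.split 5 13 (.lin 4) cert5_7_8) (.split 3 69 (.lin 11) (.split 4
    (-15) (.split 7 (-20) (.split 2 72 (.lin 9) (.split 0 (-47) (.split 5 56 (.split 5 15 (.split
    1 33 (.lin 4) (.split 3 78 (.lin 6) (.split 4 (-23) (.split 3 87 (.lin 6) (.split 1 42 (.lin
    8) (.split 6 (-48) (.split 4 (-30) (.split 3 105 (.lin 6) (.split 1 51 (.lin 8) (.split 4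
    (-39) (.split 3 114 (.lin 6) (.split 1 60 (.lin 8) (.split 0 (-74) (.split 6 (-59) (.split 5
    13 (.split 1 69 (.lin 4) (.split 3 132 (.lin 6) (.split 6 (-67) (.split 3 141 (.lin 6)
    (.split 0 (-93) (.wt 1) (.split 1 88 (.split 4 (-66) (.lin 8) (.wt 0)) (.lin 4)))) (.wt 0))))
    (.wt 2)) (.wt 0)) (.lin 12)))) (.wt 5)))) (.wt 3)) (.wt 2)))) (.wt 3)))) (.splitN 1673661
    (.split 1 18584 (.split 0 (-18633) (.lin 4) (.split 4 (-18606) (.lin 8) (.split 2 9292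
    (.split 6 (-9263) (.lin 9) (.splitN 1044740 (.split 1 11600 (.split 0 (-11649) (.lin 4)
    (.split 4 (-11622) (.lin 8) (.split 2 5800 (.split 6 (-5771) (.lin 9) (.splitN 851455 (.split
    1 9440 (.split 0 (-9489) (.lin 4) (.split 4 (-9462) (.lin 8) (.split 2 4720 (.split 6 (-4691)
    (.lin 9) (.splitN 765120 (.split 1 8468 (.split 0 (-8517) (.lin 4) (.split 4 (-8490) (.lin 8)
    (.split 2 4234 (.split 6 (-4205) (.lin 9) (.splitN 720060 (.split 1 8000 (.split 4 (-8022)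
    (.lin 8) (.split 2 4000 (.split 6 (-3971) (.lin 9) (.split 6 (-49) (.split 3 78 (.lin 11)
    (.splitN 275264 (.split 1 3032 (.split 0 (-3081) (.lin 4) (.split 4 (-3054) (.lin 8) (.split
    2 1516 (.split 6 (-1487) (.lin 9) (.splitN 199139 (.split 1 2204 (.split 0 (-2253) (.lin 4)
    (.split 4 (-2226) (.lin 8) (.split 2 1102 (.split 6 (-1073) (.lin 9) (.splitN 170307 (.split
    1 1880 (.split 0 (-1929) (.lin 4) (.split 4 (-1902) (.lin 8) (.split 2 940 (.split 6 (-911)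
    (.lin 9) (.splitN 155951 (.split 1 1700 (.split 4 (-1722) (.lin 8) (.split 2 850 (.split 6
    (-821) (.lin 9) (.split 0 (-107) (.split 1 60 (.lin 4) (.wt 0)) (.wt 0))) (.div 2))) (.div
    1)) (.wt 6))) (.div 2)))) (.div 1)) (.wt 6))) (.div 2)))) (.div 1)) (.wt 6))) (.div 2))))
    (.div 1)) (.wt 6))) (.wt 0))) (.div 2))) (.div 1)) (.wt 6))) (.div 2)))) (.div 1)) (.wt 6)))
    (.div 2)))) (.div 1)) (.wt 6))) (.div 2)))) (.div 1)) (.wt 6))) (.div 2)))) (.div 1)) (.wt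
    6))) (.wt 2)) (.lin 12))) (.wt 0)) (.wt 0))))))) cert5_7_9) (.lin 12))) (.wt 3)))) (.wt 2)))
    (.lin 12)) (.wt 5))

theorem check5_7 :
    check task5 cert5_7
      [(7, ⟨none, some (-2)⟩), (7, ⟨some (7), none⟩), (1, ⟨some (19), none⟩), (7, ⟨some (16), none⟩), (7, ⟨none, some (-2)⟩), (5, ⟨none, none⟩), (8, ⟨none, some (-10)⟩), (8, ⟨none, some (-10)⟩)] ⟨some (3960), none⟩ = true := by
  decide +kernel

def cert5_8_0 : Cert :=
  (.split 4 37 (.splitN 63662 (.split 2 236 (.split 0 (-201) (.lin 3) (.split 6 (-75) (.split 2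
    126 (.lin 9) (.split 3 87 (.lin 11) (.splitN 34784 .sq (.split 4 8 (.wt 0) (.split 2 135
    (.lin 3) (.split 6 (-182) (.lin 3) (.split 7 (-55) (.split 1 7 (.wt 0) (.split 3 96 (.lin 11)
    (.splitN 40139 .sq (.split 7 (-95) (.wt 1) (.split 0 (-75) (.lin 12) (.split 4 16 (.wt 1)
    (.split 2 144 (.lin 0) (.split 7 (-64) (.splitN 44108 .sq (.wt 1)) (.lin 8))))))))) (.lin
    12)))))))) (.split 3 88 (.splitN 52724 (.split 2 215 (.split 5 167 (.split 7 (-191) (.lin 2)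
    (.splitN 16966 (.wt 1) (.split 4 15 (.splitN 38142 (.splitN 30271 (.split 2 166 (.split 5 122
    (.split 6 (-70) (.wt 2) (.split 3 79 (.split 2 154 (.split 7 (-128) (.lin 9) (.split 1 11
    (.split 3 70 (.splitN 21141 (.split 0 (-48) (.wt 0) (.split 5 41 (.split 0 (-47) (.wt 0)
    (.split 5 32 (.split 7 (-47) (.lin 8) (.wt 1)) (.lin 4))) (.lin 4))) (.wt 0)) (.lin 11))
    (.split 3 42 (.lin 11) (.split 2 151 (.split 5 95 (.split 7 (-119) (.lin 2) (.split 6 (-46)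
    (.splitN 29527 (.splitN 22718 (.wt 1) (.split 7 (-98) (.wt 0) (.split 5 68 (.split 0 (-60)
    (.wt 2) (.split 5 41 (.split 7 (-65) (.lin 8) (.splitN 24672 (.wt 1) (.split 7 (-58) (.wt 0)
    (.split 0 (-48) (.lin 12) (.split 5 32 (.split 6 (-56) (.wt 1) (.split 3 70 (.split 7 (-54)
    (.wt 0) (.split 0 (-39) (.lin 12) (.split 5 23 (.wt 1) (.lin 4)))) (.lin 11))) (.lin 4))))))
    (.lin 4))) (.lin 8)))) (.wt 0)) (.split 3 52 (.splitN 20337 (.wt 1) .cand) (.lin 11)))) (.lin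
    0)) .sq)))) .sq) (.lin 11))) (.lin 0)) (.div 2)) (.wt 3)) (.wt 0)) (.split 2 81 (.lin 3)
    (.split 7 (-55) (.splitN 48383 (.split 2 197 (.split 0 (-147) (.lin 3) (.split 7 (-173) (.lin
    2) (.split 6 (-51) (.split 2 108 (.lin 9) (.split 3 60 (.lin 11) (.splitN 23930 .sq (.splitN
    44707 (.split 2 175 (.split 0 (-102) (.lin 3) (.split 7 (-119) (.lin 9) (.split 1 11 (.split
    5 31 (.lin 4) (.split 4 16 (.wt 0) (.split 2 117 (.lin 0) (.split 7 (-64) (.splitN 27908 .sq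
    (.wt 3)) (.lin 8))))) (.split 3 69 (.lin 11) (.split 0 (-44) (.split 5 31 (.lin 4) (.split 0
    (-51) (.split 2 126 (.lin 3) (.split 5 40 (.lin 4) (.split 7 (-73) (.splitN 34712 .sq
    (.splitN 37825 (.split 4 33 (.split 0 (-90) (.split 5 76 (.lin 4) (.split 7 (-109) .sq (.lin
    8))) (.wt 1)) (.wt 0)) (.wt 1))) (.lin 8)))) (.wt 2))) (.wt 2)))))) .sq) (.wt 1))))) (.splitN
    42377 (.split 2 179 (.split 5 122 (.split 7 (-146) (.lin 9) (.split 1 11 (.split 5 31 (.lin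
    4) (.split 3 52 (.splitN 31367 (.split 2 148 (.split 7 (-119) (.lin 2) (.splitN 20350 (.wt 1)
    .cand)) .sq) (.wt 1)) (.lin 11))) (.split 3 42 (.lin 11) (.splitN 27643 (.wt 3) (.split 0
    (-53) (.split 2 99 (.lin 3) (.split 5 40 (.lin 4) (.split 7 (-73) (.splitN 35645 (.split 4 28
    (.split 6 (-29) (.split 3 51 (.lin 11) (.splitN 30573 (.split 2 166 (.split 0 (-111) (.lin 3)
    (.split 7 (-128) (.lin 2) (.wt 6))) (.div 2)) (.wt 6))) (.wt 1)) (.wt 0)) (.wt 1)) (.lin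
    8)))) (.wt 2)))))) (.lin 0)) .sq) (.wt 1))))) .sq) (.wt 1)) (.lin 12)))))) (.lin 0)) .sq)
    (.wt 1)) (.lin 11)))) .sq) (.wt 1)) (.split 6 (-182) (.lin 0) (.split 2 108 (.lin 3) (.split
    7 (-82) (.splitN 24416 .sq (.splitN 54958 (.split 0 (-173) .sq (.split 2 200 (.split 4 142
    (.split 6 (-119) (.lin 3) (.split 6 (-58) (.split 0 (-93) (.lin 3) (.split 2 144 (.lin 9)
    (.split 4 106 (.split 7 (-137) (.lin 9) (.split 3 69 (.lin 11) (.splitN 40616 .sq (.splitN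
    45498 (.split 1 7 (.wt 0) (.split 3 78 (.lin 11) (.split 0 (-39) (.split 2 153 (.lin 3)
    (.split 5 31 (.lin 4) (.split 7 (-91) .sq (.lin 8)))) (.wt 0)))) (.wt 1))))) (.lin 0))))
    (.splitN 43191 (.split 2 174 (.split 4 115 (.split 0 (-102) (.lin 3) (.splitN 42428 (.split 2
    164 (.split 4 97 (.split 7 (-137) (.lin 9) (.split 1 11 (.split 5 31 (.lin 4) (.splitN 31323
    (.split 6 (-29) (.split 2 117 (.lin 0) (.split 3 42 (.lin 11) (.splitN 28232 .sq (.split 0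
    (-55) (.split 5 49 (.lin 4) (.split 7 (-100) .sq (.lin 8))) (.wt 1))))) (.wt 1)) (.wt 1)))
    (.split 3 42 (.lin 11) (.splitN 37622 (.split 0 (-78) (.split 5 67 (.lin 4) (.split 7 (-127)
    .sq (.lin 8))) (.wt 0)) (.wt 6))))) (.lin 3)) .sq) (.wt 1))) (.lin 0)) .sq) (.wt 1)))) (.lin
    0)) .sq)) (.wt 1))) (.lin 12)))))

def cert5_8_1 : Cert :=
  (.split 6 (-60) (.split 3 78 (.lin 6) (.split 2 108 (.lin 9) (.split 3 87 (.lin 7) (.splitN
    27980 .sq (.splitN 176394 (.split 0 (-387) .sq (.split 2 523 (.split 1 448 (.split 3 502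
    (.split 2 399 (.split 1 322 (.split 3 385 (.split 4 11 (.splitN 49813 (.split 2 274 (.split 3
    259 (.splitN 47452 (.split 2 256 (.split 1 178 (.split 3 241 (.splitN 43731 (.split 2 238
    (.split 3 223 (.split 7 (-158) (.wt 0) (.split 1 142 (.split 7 (-152) (.wt 0) (.split 1 133
    (.splitN 42827 (.split 2 220 (.split 3 205 (.split 0 (-64) (.wt 2) (.split 1 52 (.split 3 178
    (.split 7 (-74) (.lin 8) (.split 7 (-65) (.lin 12) (.splitN 30323 (.wt 1) (.split 5 6 (.wt 1)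
    (.split 1 25 (.wt 0) (.split 2 117 (.lin 0) (.split 0 (-47) (.split 3 96 (.lin 7) (.split 7
    (-55) (.splitN 34064 .sq (.wt 0)) (.lin 8))) (.lin 4)))))))) (.lin 7)) (.lin 4))) (.lin 10))
    (.div 2)) (.wt 5)) (.lin 8))) (.lin 8))) (.lin 10)) (.div 2)) (.wt 5)) (.lin 10)) (.lin 0))
    (.div 2)) (.wt 0)) (.lin 10)) (.div 2)) (.wt 0)) (.split 7 (-55) (.splitN 119732 (.split 2
    316 (.split 1 232 (.split 3 295 (.split 5 9 (.splitN 56566 (.wt 6) (.split 7 (-166) (.wt 0)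
    (.split 3 268 (.split 1 142 (.splitN 61072 (.wt 6) (.split 7 (-122) (.wt 0) (.split 3 223
    (.split 1 97 (.splitN 69691 (.wt 6) (.split 0 (-68) (.wt 0) (.split 1 61 (.split 3 187 (.wt
    2) (.lin 7)) (.lin 4)))) (.lin 8)) (.lin 6)))) (.lin 8)) (.lin 6)))) (.splitN 63761 .cand
    (.wt 1))) (.lin 10)) (.lin 0)) .sq) (.wt 3)) (.lin 12))) (.lin 10)) (.lin 0)) .sq) (.lin 7))
    (.lin 0)) (.lin 3))) (.wt 3)))))) (.splitN 199861 (.split 0 (-433) .sq (.split 2 496 (.split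
    1 457 (.split 2 436 (.split 4 11 (.splitN 56767 (.split 2 310 (.split 1 268 (.split 0 (-273)
    (.lin 3) (.split 3 322 (.splitN 55451 (.split 2 211 (.split 3 196 (.split 5 9 (.split 1 33
    (.lin 4) (.split 0 (-86) (.wt 2) (.split 2 145 (.split 1 106 (.split 1 79 (.split 3 133
    (.split 0 (-62) (.wt 2) (.split 1 52 (.split 3 106 (.split 7 (-65) (.lin 8) (.splitN 36401
    (.wt 1) (.split 6 (-38) (.wt 0) (.split 3 88 (.split 6 (-36) (.wt 0) (.split 3 79 (.split 0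
    (-55) (.wt 0) (.split 2 82 (.split 1 43 (.split 3 70 (.wt 2) (.lin 7)) (.lin 0)) (.lin 3)))
    (.lin 6))) (.lin 6))))) (.lin 7)) (.lin 4))) (.lin 7)) (.lin 4)) (.lin 0)) (.lin 3))))
    (.splitN 41072 .cand (.wt 1))) (.lin 10)) .sq) (.wt 3)) (.lin 7))) (.lin 0)) (.div 2)) (.wt
    3)) (.split 2 81 (.lin 3) (.split 7 (-55) (.splitN 148167 (.split 0 (-364) .sq (.split 1 358
    (.split 7 (-389) (.lin 8) (.split 2 371 (.split 1 322 (.split 0 (-327) (.lin 3) (.split 3 349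
    (.split 5 9 (.split 1 33 (.lin 4) (.split 3 60 (.lin 6) (.split 6 (-42) (.split 0 (-109) (.wt
    2) (.split 2 172 (.split 1 106 (.split 3 151 (.split 0 (-66) (.wt 2) (.split 2 136 (.split 1
    70 (.split 3 115 (.split 0 (-52) (.wt 2) (.split 2 118 (.split 1 52 (.split 3 106 (.split 3
    97 (.split 0 (-44) (.wt 2) (.split 2 109 (.split 3 88 (.split 1 34 (.split 7 (-56) (.lin 8)
    (.splitN 71903 (.wt 1) (.wt 0))) (.lin 4)) (.lin 1)) (.lin 3))) (.lin 7)) (.lin 1)) (.lin 0))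
    (.lin 3))) (.lin 7)) (.lin 0)) (.lin 3))) (.lin 7)) (.lin 0)) (.lin 3))) (.splitN 97070
    (.split 0 (-282) .sq (.split 2 334 (.split 1 286 (.split 2 290 (.split 0 (-246) (.lin 3)
    (.split 3 277 (.split 7 (-123) (.split 3 132 (.lin 6) (.split 0 (-101) (.split 1 105 (.lin 8)
    (.split 2 153 (.lin 9) (.split 0 (-110) (.splitN 81935 .sq (.wt 0)) (.lin 12)))) (.lin 7)))
    (.split 3 133 (.split 1 97 (.split 2 154 (.split 0 (-70) (.split 1 69 (.lin 4) (.split 3 96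
    (.lin 7) (.split 7 (-91) (.split 6 (-31) (.splitN 56143 (.wt 1) (.split 0 (-101) (.wt 0)
    (.split 2 145 (.split 1 88 (.split 3 124 (.split 0 (-90) (.wt 0) (.split 2 136 (.split 1 79
    (.split 3 115 (.wt 2) (.lin 7)) (.lin 0)) (.lin 3))) (.lin 7)) (.lin 0)) (.lin 3)))) (.wt 2))
    (.lin 8)))) (.split 2 118 (.split 1 70 (.split 1 61 (.split 3 97 (.split 7 (-83) (.lin 8)
    (.split 6 (-30) (.split 0 (-41) (.split 2 99 (.lin 3) (.split 1 42 (.lin 0) (.split 3 78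
    (.lin 7) (.split 0 (-49) (.split 2 108 (.lin 3) (.split 1 51 (.lin 0) (.split 3 87 (.lin 7)
    (.split 7 (-73) (.splitN 64559 (.splitN 59498 (.wt 1) (.split 7 (-81) (.wt 1) (.split 3 88
    (.split 0 (-57) (.lin 7) (.wt 0)) (.lin 6)))) (.wt 1)) (.lin 6))))) (.wt 2))))) (.wt 2)) (.wt
    2))) (.lin 7)) (.lin 4)) (.lin 0)) (.lin 3))) (.lin 9)) (.lin 8)) (.lin 6))) (.lin 7))) .sq)
    (.lin 0)) (.lin 3))) (.wt 1))))) (.split 0 (-45) (.split 1 33 (.lin 4) (.split 3 60 (.lin 7)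
    (.split 7 (-64) (.splitN 50297 (.split 2 274 (.split 1 214 (.split 0 (-63) (.split 1 51 (.lin
    4) (.split 3 78 (.lin 7) (.split 7 (-82) (.splitN 45707 (.split 2 238 (.split 1 178 (.split 0
    (-192) (.lin 3) (.split 7 (-209) (.lin 8) (.split 6 (-35) (.split 3 87 (.lin 6) (.split 2 117
    (.lin 9) (.splitN 37142 .sq (.splitN 40925 (.split 2 220 (.split 0 (-165) (.lin 3) (.wt 6))
    (.div 2)) (.wt 6))))) (.wt 0)))) (.lin 0)) (.div 2)) (.wt 1)) (.lin 8)))) (.wt 2)) (.lin 0))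
    (.div 2)) (.wt 1)) (.lin 8)))) (.wt 2))) (.lin 10))) (.lin 0)) .sq)) (.lin 4))) (.wt 1))
    (.lin 12)))) .sq) (.lin 0)) (.lin 3))) (.wt 1)))

def cert5_8_2 : Cert :=
  (.split 0 (-84) (.split 2 180 (.lin 3) (.split 1 87 (.lin 4) (.split 3 150 (.lin 7) (.split 7
    (-118) (.splitN 90440 .sq (.splitN 316822 (.split 1 3500 (.split 0 (-3504) (.lin 4) (.split 3
    3625 (.split 2 1750 (.split 1 1654 (.split 0 (-1659) (.lin 3) (.split 4 1591 (.split 3 1780
    (.splitN 271270 (.split 2 1498 (.split 1 1402 (.split 0 (-1407) (.lin 3) (.split 4 1339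
    (.split 3 1528 (.splitN 188949 (.split 2 1048 (.split 1 952 (.split 4 889 (.split 3 1015
    (.split 4 33 (.wt 0) (.split 7 (-127) (.splitN 170381 (.split 2 940 (.split 1 835 (.split 4
    781 (.split 3 898 (.split 4 36 (.wt 0) (.split 2 198 (.lin 0) (.split 7 (-136) (.splitN
    103076 .sq (.splitN 159221 (.split 2 868 (.split 1 754 (.split 4 709 (.split 3 817 (.split 4
    51 (.wt 0) (.split 7 (-145) (.split 4 55 (.wt 0) (.split 2 216 (.lin 0) (.split 7 (-154)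
    (.splitN 117656 .sq (.splitN 145026 (.split 2 796 (.split 4 637 (.split 3 727 (.split 0
    (-204) (.wt 0) (.split 1 196 (.split 3 322 (.split 0 (-111) (.wt 0) (.split 1 106 (.wt 0)
    (.lin 4))) (.lin 7)) (.lin 4))) (.lin 10)) (.lin 0)) (.div 2)) (.wt 3))) (.lin 8)))) (.lin
    8))) (.lin 10)) (.lin 0)) (.lin 0)) (.div 2)) (.wt 3))) (.lin 8)))) (.lin 10)) (.lin 0))
    (.lin 0)) (.div 2)) (.wt 3)) (.lin 8))) (.lin 10)) (.lin 0)) (.lin 0)) (.div 2)) (.wt 3))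
    (.lin 7)) (.lin 0))) (.lin 0)) (.div 2)) (.wt 0)) (.lin 7)) (.lin 0))) (.lin 0)) (.div 2))
    (.lin 7))) (.div 1)) (.wt 0))) (.lin 8))))) (.split 1 79 (.split 3 205 (.splitN 622999
    (.split 2 775 (.split 4 673 (.splitN 566702 (.split 2 737 (.split 7 (-207) (.split 2 270
    (.lin 9) (.split 4 123 (.lin 8) (.splitN 148211 .sq (.wt 3)))) (.split 2 370 (.split 4 160
    (.split 7 (-113) (.split 0 (-76) (.wt 2) (.split 1 70 (.split 0 (-73) (.wt 2) (.split 1 61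
    (.split 3 187 (.split 6 (-113) (.wt 2) (.split 3 169 (.split 0 (-65) (.wt 2) (.split 1 52
    (.split 3 160 (.split 6 (-101) (.wt 2) (.split 3 151 (.split 6 (-99) (.wt 2) (.split 3 142
    (.split 6 (-78) (.split 0 (-43) (.wt 2) (.split 1 34 (.split 3 124 (.wt 2) (.lin 7)) (.lin
    4))) (.split 3 124 (.split 0 (-55) (.wt 2) (.split 1 43 (.split 3 115 (.split 7 (-159)
    (.split 2 216 (.lin 1) (.split 4 114 (.lin 8) (.splitN 103013 .sq (.wt 0)))) (.split 4 124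
    (.split 4 115 (.split 0 (-43) (.split 1 42 (.lin 4) (.split 4 106 (.wt 2) (.lin 8))) (.split
    1 34 (.split 3 106 (.split 4 78 (.lin 8) (.split 6 (-71) (.wt 2) (.split 3 97 (.splitN 87639
    (.splitN 79028 (.wt 1) (.split 7 (-120) (.split 4 87 (.lin 6) (.split 7 (-152) (.wt 1)
    (.split 4 98 (.split 2 199 (.split 7 (-137) (.lin 1) (.split 4 89 (.split 7 (-128) (.lin 6)
    (.wt 2)) (.wt 2))) (.lin 0)) (.wt 2)))) (.wt 0))) (.wt 1)) (.lin 7)))) (.lin 7)) (.lin 4)))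
    (.lin 8)) (.lin 6))) (.lin 7)) (.lin 4))) (.lin 7))) (.lin 7))) (.lin 7))) (.lin 7)) (.lin
    4))) (.lin 7))) (.lin 7)) (.lin 4))) (.lin 4))) (.split 2 235 (.split 4 70 (.split 0 (-61)
    (.split 1 60 (.lin 4) (.split 4 43 (.split 7 (-91) (.wt 2) (.lin 8)) (.lin 8))) (.split 1 52
    (.split 3 178 (.split 6 (-121) (.wt 2) (.split 3 169 (.split 6 (-118) (.wt 2) (.split 3 160
    (.split 4 47 (.split 6 (-97) (.wt 2) (.split 3 142 (.split 0 (-56) (.wt 2) (.split 1 43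
    (.split 3 133 (.split 6 (-85) (.wt 2) (.split 3 124 (.split 4 34 (.split 0 (-45) (.wt 2)
    (.split 1 34 (.split 3 115 (.split 7 (-74) (.lin 8) (.splitN 82524 (.wt 1) (.split 4 25 (.wt
    0) (.split 7 (-73) (.splitN 89721 (.wt 1) (.wt 0)) (.lin 8))))) (.lin 7)) (.lin 4))) (.split
    7 (-82) (.split 0 (-45) (.wt 2) (.split 2 163 (.split 3 115 (.split 1 34 (.split 7 (-83)
    (.lin 8) (.splitN 88633 (.wt 1) (.wt 3))) (.lin 4)) (.lin 1)) (.lin 3))) (.lin 8))) (.lin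
    7))) (.lin 7)) (.lin 4))) (.lin 7))) (.split 7 (-91) (.split 6 (-96) (.wt 2) (.split 3 142
    (.split 0 (-55) (.wt 2) (.split 1 43 (.split 3 133 (.split 6 (-84) (.wt 2) (.split 3 124
    (.split 6 (-82) (.wt 2) (.split 3 115 (.split 0 (-47) (.wt 2) (.split 1 34 (.split 3 106
    (.split 6 (-71) (.wt 2) (.split 3 97 (.split 4 52 (.wt 2) (.split 2 162 (.lin 0) (.split 7
    (-100) (.split 4 66 (.split 2 163 (.split 7 (-101) (.lin 1) (.splitN 87702 (.wt 0) (.wt 0)))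
    (.lin 0)) (.wt 2)) (.lin 1)))) (.lin 7))) (.lin 7)) (.lin 4))) (.lin 7))) (.lin 7))) (.lin
    7)) (.lin 4))) (.lin 6))) (.lin 8))) (.lin 7))) (.lin 7))) (.lin 7)) (.lin 4))) (.lin 8))
    (.lin 9))) (.lin 8)) (.lin 1))) .sq) (.wt 1)) (.lin 0)) .sq) (.wt 1)) (.lin 7)) (.lin 4)))

def cert5_8_3 : Cert :=
  (.split 5 18 (.split 5 9 (.split 1 33 (.lin 4) (.split 3 96 (.lin 7) (.split 6 (-136) (.split 2
    198 (.lin 0) (.split 3 168 (.lin 7) (.splitN 94004 .sq (.split 0 (-86) (.wt 2) (.split 1 79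
    (.splitN 954179 (.split 2 5296 (.split 4 5119 (.split 3 5308 (.splitN 891976 (.split 2 4954
    (.split 4 4777 (.split 3 4966 (.split 7 (-1492) (.wt 0) (.split 4 1447 (.splitN 823928
    (.split 2 4576 (.split 3 4588 (.split 7 (-1201) (.wt 0) (.split 4 1159 (.split 7 (-1127) (.wt
    0) (.split 4 1087 (.split 0 (-62) (.wt 2) (.split 1 52 (.splitN 407854 (.split 2 2254 (.split
    3 2239 (.split 7 (-320) (.wt 0) (.split 4 277 (.splitN 334911 (.split 2 1858 (.split 6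
    (-1793) (.lin 0) (.split 3 2077 (.split 3 1843 (.split 7 (-248) (.wt 0) (.split 4 205
    (.splitN 309099 (.split 2 1714 (.split 3 1699 (.split 7 (-224) (.wt 0) (.split 4 178 (.split
    0 (-50) (.wt 2) (.split 1 43 (.splitN 243339 (.split 2 1336 (.split 3 1312 (.split 4 27 (.wt
    0) (.split 7 (-73) (.splitN 185504 (.split 2 1030 (.split 3 997 (.split 7 (-162) (.wt 0)
    (.split 4 115 (.splitN 167373 (.split 2 922 (.split 3 889 (.splitN 108600 (.wt 6) (.split 4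
    43 (.wt 0) (.split 7 (-91) (.splitN 130175 (.split 2 706 (.split 3 655 (.wt 2) (.lin 1))
    (.div 2)) (.wt 0)) (.lin 8)))) (.lin 1)) (.div 2)) (.wt 3)) (.lin 8))) (.lin 1)) (.div 2))
    (.wt 3)) (.lin 8))) (.lin 1)) (.div 2)) (.wt 3)) (.lin 4))) (.lin 8))) (.lin 1)) (.div 2))
    (.wt 3)) (.lin 8))) (.lin 1)) (.lin 6))) (.div 2)) (.wt 3)) (.lin 8))) (.lin 1)) (.div 2))
    (.wt 3)) (.lin 4))) (.lin 8))) (.lin 8))) (.lin 1)) (.div 2)) (.wt 3)) (.lin 8))) (.lin 1))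
    (.lin 0)) (.div 2)) (.wt 3)) (.lin 1)) (.lin 0)) (.div 2)) (.wt 3)) (.lin 4))))))
    cert5_8_2))) (.splitN 131491 (.split 1 1448 (.split 0 (-1461) (.lin 4) (.split 2 724 (.split
    1 619 (.split 4 619 (.split 6 (-659) (.lin 0) (.split 7 (-659) (.lin 9) (.splitN 115861
    (.split 2 634 (.split 6 (-569) (.lin 0) (.split 0 (-284) .sq (.split 1 268 (.splitN 109301
    (.split 2 298 (.split 1 196 (.split 0 (-210) (.lin 3) (.split 4 196 (.split 6 (-236) (.lin 0)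
    (.split 7 (-236) (.lin 9) (.splitN 94275 (.split 2 269 (.split 6 (-200) (.lin 0) (.split 0
    (-82) (.split 2 171 (.lin 3) (.split 6 (-155) (.lin 3) (.split 1 69 (.lin 4) (.split 3 132
    (.lin 7) (.split 7 (-109) (.splitN 75860 .sq (.wt 1)) (.lin 8)))))) (.split 1 61 (.split 6
    (-71) (.split 3 96 (.lin 7) (.split 6 (-74) (.split 2 144 (.lin 0) (.split 4 142 (.split 3
    105 (.lin 7) (.split 7 (-182) (.lin 9) (.splitN 45971 .sq (.split 0 (-40) (.split 1 33 (.lin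
    4) (.split 3 114 (.lin 7) (.split 7 (-73) (.splitN 70405 (.split 4 81 (.split 7 (-155) (.lin
    8) (.split 4 70 (.split 7 (-146) (.lin 8) (.split 4 66 (.split 7 (-137) (.lin 8) (.split 6
    (-105) (.split 2 180 (.lin 0) (.split 3 141 (.lin 7) .sq)) (.wt 2))) (.wt 2))) (.wt 2))) (.wt
    2)) (.wt 1)) (.lin 8)))) (.wt 6))))) (.lin 0))) (.wt 2))) (.wt 2)) (.lin 4)))) .sq) (.wt
    1)))) (.lin 0))) (.lin 0)) .sq) (.wt 1)) (.lin 4)))) (.div 2)) (.wt 1)))) (.lin 0)) (.lin 0))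
    (.div 2))) (.div 1)) (.wt 1))) (.split 2 135 (.lin 0) (.split 0 (-47) (.split 7 (-73)
    (.splitN 39653 .sq (.splitN 91581 (.split 0 (-2541) (.div 0) (.split 2 508 (.split 1 394
    (.split 0 (-417) (.lin 3) (.split 4 394 (.split 6 (-434) (.lin 0) (.split 7 (-443) (.lin 9)
    (.splitN 80063 (.split 2 436 (.split 0 (-345) (.lin 3) (.split 4 322 (.split 6 (-362) (.lin
    0) (.split 7 (-371) (.lin 9) (.split 6 (-67) (.split 2 144 (.lin 0) (.split 3 96 (.lin 11)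
    (.splitN 45080 .sq (.split 0 (-189) .sq (.split 1 160 (.splitN 74106 (.split 2 400 (.split 6
    (-326) (.lin 0) (.split 6 (-82) (.split 2 153 (.lin 0) (.split 3 105 (.lin 11) (.splitN 50993
    .sq (.split 0 (-52) (.split 2 162 (.lin 3) (.split 4 259 (.split 7 (-82) (.splitN 56168 .sq
    (.split 1 27 (.wt 1) (.split 3 114 (.lin 11) (.split 4 30 (.wt 1) (.split 2 171 (.lin 0)
    (.split 6 (-308) (.lin 0) (.split 7 (-91) (.splitN 63791 .sq (.splitN 66182 (.split 2 364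
    (.split 4 223 (.split 6 (-272) (.lin 0) (.wt 1)) (.lin 0)) (.div 2)) (.wt 1))) (.lin
    8)))))))) (.lin 12)) (.lin 3))) (.wt 6))))) (.wt 6))) (.div 2)) (.wt 1)) (.lin 4)))))) (.wt
    6)))) (.lin 0))) (.div 2)) (.wt 1)))) (.lin 0))) (.lin 0)) (.div 2))) (.wt 1))) (.lin 8))
    (.lin 4))))

def cert5_8_4 : Cert :=
  (.split 7 (-163) (.split 2 207 (.lin 9) (.split 4 33 (.lin 8) (.splitN 116592 (.split 2 274
    (.split 4 187 (.split 0 (-70) (.split 4 151 (.split 1 69 (.lin 4) (.split 3 114 (.lin 7)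
    (.splitN 96731 .sq (.splitN 106421 (.split 4 61 (.wt 1) (.split 6 (-48) (.split 4 142 (.split
    3 123 (.lin 7) (.splitN 103535 .sq (.split 0 (-91) (.wt 0) (.split 3 133 (.split 4 78 (.lin
    6) .sq) (.lin 7))))) (.lin 0)) (.wt 1))) (.wt 1))))) (.lin 3)) (.split 1 61 (.split 4 96
    (.lin 8) (.splitN 90224 .sq (.splitN 96001 (.split 0 (-49) (.split 1 51 (.lin 4) (.split 3 96
    (.lin 7) .sq)) (.wt 1)) (.wt 1)))) (.lin 4))) (.lin 0)) .sq) (.wt 1)))) (.split 2 298 (.split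
    2 208 (.split 4 115 (.splitN 200684 (.split 0 (-70) (.split 2 144 (.lin 3) (.split 1 69 (.lin
    4) (.split 3 114 (.lin 7) (.split 4 79 (.split 7 (-100) (.split 4 44 (.split 4 34 (.split 0
    (-119) (.wt 2) (.split 1 106 (.split 3 160 (.split 0 (-106) (.wt 2) (.split 1 97 (.split 3
    151 (.split 0 (-99) (.wt 2) (.split 1 88 (.split 3 142 (.split 0 (-92) (.wt 2) (.split 1 79
    (.split 3 133 (.split 7 (-119) (.lin 8) (.split 4 27 (.wt 2) (.split 7 (-109) (.splitN 76934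
    (.wt 1) (.split 6 (-50) (.wt 0) (.split 3 124 (.split 0 (-78) (.wt 2) (.split 2 154 (.split 1
    70 (.split 3 115 (.wt 0) (.lin 1)) (.lin 0)) (.lin 3))) (.lin 6)))) (.lin 8)))) (.lin 7))
    (.lin 4))) (.lin 7)) (.lin 4))) (.lin 7)) (.lin 4))) (.lin 7)) (.lin 4))) (.split 3 160
    (.split 1 106 (.split 7 (-118) (.splitN 103370 (.split 6 (-54) (.wt 2) .cand) (.wt 0)) (.lin
    8)) (.lin 8)) (.lin 6))) (.split 1 106 (.split 3 151 (.split 1 97 (.split 7 (-127) (.split 6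
    (-51) (.split 0 (-82) (.wt 2) (.split 3 124 (.wt 2) (.lin 7))) (.splitN 91999 (.split 0 (-79)
    (.split 3 123 (.lin 7) (.split 0 (-87) (.split 2 189 (.lin 3) (.split 1 87 (.lin 4) (.split 3
    132 (.lin 7) (.split 7 (-145) .sq (.lin 6))))) (.wt 2))) (.wt 2)) (.wt 1))) (.lin 8)) (.lin
    8)) (.lin 6)) (.lin 0))) (.lin 8)) (.lin 8))))) (.split 1 61 (.split 3 115 (.split 4 53
    (.split 7 (-119) (.lin 8) (.split 7 (-91) (.splitN 104741 (.split 0 (-52) (.split 1 51 (.lin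
    4) (.split 3 96 (.lin 7) (.split 4 38 (.split 6 (-53) (.wt 2) .cand) (.split 7 (-100) (.split
    6 (-51) (.split 0 (-59) (.wt 2) (.split 1 52 (.split 3 106 (.wt 2) (.lin 7)) (.lin 4)))
    (.splitN 81018 (.split 0 (-62) (.split 3 105 (.lin 7) (.wt 0)) (.wt 0)) (.wt 6))) (.lin
    8))))) (.split 1 43 (.split 3 97 (.split 7 (-110) (.lin 6) (.split 4 42 (.lin 8) (.split 7
    (-101) (.lin 8) (.split 6 (-47) (.split 3 87 (.lin 6) (.split 0 (-39) (.split 1 42 (.lin 4)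
    (.split 3 96 (.lin 7) (.split 4 48 (.split 2 145 (.split 7 (-92) (.lin 1) (.splitN 86906 (.wt
    0) (.wt 0))) (.lin 0)) (.wt 2)))) (.wt 2))) (.wt 2))))) (.lin 7)) (.lin 4))) (.wt 1)) (.split
    3 106 (.split 1 52 (.split 0 (-57) (.lin 12) (.split 0 (-47) (.split 1 42 (.lin 4) (.split 3
    87 (.lin 7) (.split 4 34 (.split 7 (-73) (.splitN 72618 (.wt 1) (.split 6 (-51) (.split 0
    (-52) (.wt 2) (.split 1 43 (.split 3 97 (.wt 2) (.lin 7)) (.lin 4))) (.split 3 97 (.split 2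
    127 (.split 4 32 (.split 0 (-48) (.split 2 126 (.lin 3) (.split 7 (-82) (.wt 0) (.lin 1)))
    (.wt 6)) (.wt 2)) (.lin 9)) (.lin 6)))) (.lin 8)) (.lin 8)))) (.split 1 34 (.split 3 88
    (.split 4 36 (.split 7 (-74) (.lin 8) (.split 4 32 (.split 7 (-65) (.lin 8) (.splitN 85132
    (.split 6 (-50) (.wt 2) (.wt 0)) (.wt 1))) (.wt 2))) (.wt 2)) (.lin 7)) (.lin 4)))) (.lin 8))
    (.lin 6)))) (.split 0 (-52) (.split 1 51 (.lin 4) (.split 3 96 (.lin 7) (.split 6 (-51) .cand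
    (.wt 2)))) (.split 1 43 (.split 3 97 (.split 6 (-51) (.split 3 87 (.lin 7) (.split 0 (-39)
    (.split 2 162 (.lin 3) (.split 7 (-109) (.split 4 106 (.split 1 42 (.lin 4) (.split 3 96
    (.lin 7) (.splitN 91116 (.split 7 (-111) (.split 2 171 (.lin 1) (.split 4 69 (.lin 0)
    (.splitN 81792 (.split 4 81 (.split 2 181 (.split 7 (-128) (.lin 1) (.wt 0)) (.lin 0)) (.wt
    0)) (.wt 6)))) (.wt 0)) (.wt 1)))) (.lin 3)) (.lin 1))) (.wt 2))) (.wt 2)) (.lin 7)) (.lin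
    4)))) (.lin 7)) (.lin 4))) (.wt 1)) (.lin 8)) (.lin 9)) (.lin 1)))

def cert5_8_5 : Cert :=
  (.split 4 22 (.splitN 477886 (.split 2 2650 (.split 1 2608 (.split 3 2635 (.splitN 446845
    (.split 2 2470 (.split 3 2455 (.split 0 (-659) .sq (.split 1 646 (.split 7 (-668) (.lin 12)
    (.splitN 407351 (.split 2 630 (.split 0 (-588) (.lin 3) (.split 3 610 (.split 6 (-129)
    (.split 1 475 (.split 2 180 (.lin 9) (.split 5 455 (.split 3 159 (.lin 11) (.splitN 81116 .sq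
    (.split 4 8 (.wt 0) (.split 7 (-55) (.splitN 103808 (.split 2 562 (.split 1 403 (.split 3 538
    (.split 0 (-161) (.wt 0) (.split 1 151 (.split 5 131 (.splitN 94143 (.split 2 508 (.split 3
    484 (.split 0 (-106) (.wt 0) (.split 1 97 (.split 5 77 (.splitN 87432 (.split 2 472 (.split 3
    448 (.split 0 (-81) (.wt 0) (.split 1 70 (.wt 5) (.lin 4))) (.lin 10)) (.div 2)) (.wt 5))
    (.lin 4)) (.lin 4))) (.lin 10)) (.div 2)) (.wt 5)) (.lin 4)) (.lin 4))) (.lin 10)) (.lin 0))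
    (.div 2)) (.wt 5)) (.lin 12))))) (.lin 0))) (.lin 0)) (.split 5 53 (.split 5 15 (.splitN
    21390 (.wt 1) cert5_8_1) (.split 0 (-47) (.split 7 (-55) (.splitN 59742 (.split 2 328 (.split
    1 268 (.split 0 (-291) (.lin 3) (.split 3 538 (.splitN 58339 (.split 0 (-204) .sq (.split 1
    178 (.split 7 (-245) (.lin 8) (.split 7 (-218) (.lin 12) (.splitN 20329 (.wt 1) (.split 2 214
    (.split 1 151 (.split 0 (-174) (.lin 3) (.split 6 (-60) (.split 2 117 (.lin 9) (.split 3 87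
    (.lin 11) (.splitN 32201 .sq (.splitN 52885 (.split 2 185 (.split 1 88 (.split 0 (-111) (.lin
    3) (.split 7 (-119) (.lin 9) (.split 3 151 (.split 4 11 (.split 0 (-80) (.wt 0) (.split 1 52
    (.wt 3) (.lin 4))) (.split 1 79 (.split 0 (-102) (.lin 3) (.split 6 (-119) (.lin 0) (.split 7
    (-64) (.splitN 47847 (.split 6 (-66) (.split 2 135 (.lin 9) (.split 3 96 (.lin 11) (.splitN
    40949 .sq (.split 1 25 (.wt 1) (.split 2 144 (.lin 0) (.split 7 (-73) (.split 3 105 (.lin 11)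
    .sq) (.lin 8))))))) (.wt 2)) (.wt 1)) (.lin 8)))) (.lin 0))) (.lin 10)))) (.lin 0)) .sq) (.wt
    1))))) (.splitN 46888 (.split 2 190 (.split 7 (-164) (.lin 9) (.split 4 11 (.splitN 34993
    .cand (.wt 1)) (.split 0 (-71) (.split 7 (-91) (.splitN 40398 (.split 6 (-29) (.split 0
    (-138) (.lin 3) (.split 3 60 (.lin 6) (.split 2 126 (.lin 9) (.split 7 (-155) (.lin 9)
    (.splitN 36386 .sq (.wt 6)))))) (.wt 0)) (.wt 1)) (.lin 12)) (.wt 2)))) .sq) (.wt 1)))) (.lin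
    0)) .sq)))) (.lin 4))) (.wt 1)) (.lin 1))) (.lin 0)) (.div 2)) (.wt 1)) (.lin 8)) (.lin 4)))
    (.split 0 (-83) (.split 2 117 (.lin 10) (.split 7 (-91) (.splitN 36737 .sq (.splitN 44913
    (.split 1 31 (.wt 1) (.split 2 126 (.lin 0) (.split 0 (-92) (.split 7 (-100) (.split 3 60
    (.lin 11) .sq) (.lin 8)) (.lin 4)))) (.wt 1))) (.lin 8))) (.lin 4)))) (.lin 10))) .sq) (.wt
    3))) (.lin 4))) (.lin 10)) (.div 2)) (.wt 3)) (.lin 10)) (.lin 0)) (.div 2)) (.wt 3)) (.split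
    2 81 (.lin 0) (.split 2 90 (.lin 3) (.split 7 (-64) (.split 6 (-64) (.split 2 117 (.lin 0)
    (.split 2 126 (.lin 9) (.split 3 87 (.lin 11) cert5_8_3))) (.splitN 551455 (.split 2 3046
    (.split 1 2986 (.split 0 (-2991) (.lin 3) (.split 4 2986 (.splitN 521781 (.split 0 (-709) .sq
    (.split 1 700 (.split 3 754 (.splitN 468430 (.split 0 (-671) .sq (.split 1 664 (.split 2 676
    (.split 1 619 (.split 0 (-624) (.lin 3) (.split 4 619 (.split 7 (-650) (.lin 9) (.split 5 18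
    (.split 5 9 (.split 1 33 (.lin 4) (.split 3 60 (.lin 7) (.splitN 381596 (.splitN 39341 (.wt
    1) (.split 2 606 (.split 1 547 (.split 0 (-552) (.lin 3) (.split 4 538 (.split 7 (-578) (.lin
    9) (.split 6 (-42) (.split 3 78 (.lin 7) (.splitN 322635 (.splitN 49130 (.wt 1) (.split 2 552
    (.split 4 466 (.split 0 (-135) (.split 2 207 (.lin 3) (.split 1 132 (.lin 4) (.split 3 177
    (.lin 7) (.split 7 (-154) (.split 7 (-163) (.splitN 140741 .sq (.wt 1)) (.lin 8)) (.lin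
    6))))) (.split 1 124 (.split 3 178 (.splitN 230443 (.split 2 460 (.split 4 376 cert5_8_4
    (.lin 0)) .sq) (.wt 1)) (.lin 7)) (.lin 4))) (.lin 0)) .sq)) (.wt 1))) (.splitN 172184
    (.split 0 (-388) .sq (.split 1 376 (.split 2 396 (.split 4 322 (.split 7 (-362) (.lin 9)
    (.split 0 (-39) (.split 1 42 (.lin 4) (.split 3 69 (.lin 7) (.split 7 (-73) (.splitN 137856
    (.split 2 347 (.split 7 (-317) (.lin 9) (.split 0 (-117) (.split 2 171 (.lin 3) (.split 1 114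
    (.lin 4) (.split 3 141 (.lin 7) (.split 7 (-136) (.split 7 (-145) (.splitN 99593 .sq (.wt 1))
    (.lin 8)) (.lin 6))))) (.split 3 142 (.split 6 (-29) (.split 3 78 (.lin 7) (.split 0 (-51)
    (.split 2 117 (.lin 3) (.split 1 51 (.lin 4) (.split 3 87 (.lin 7) (.split 0 (-59) (.split 1
    60 (.lin 4) (.split 3 96 (.lin 7) (.split 0 (-67) (.split 1 69 (.lin 4) (.split 3 105 (.lin
    7) (.splitN 81510 (.split 4 78 (.split 7 (-182) (.lin 6) (.split 4 49 (.split 7 (-155) (.lin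
    6) (.splitN 73296 (.split 4 35 (.split 7 (-146) (.lin 6) (.split 0 (-93) (.split 2 162 (.lin
    3) (.split 1 96 (.lin 4) (.split 3 132 (.lin 7) (.split 7 (-127) .sq (.lin 6))))) (.wt 2)))
    (.wt 0)) (.wt 6))) (.wt 0))) (.wt 0)) (.wt 6)))) (.wt 2)))) (.wt 2))))) (.wt 2))) (.wt 2))
    (.lin 7)))) .sq) (.wt 1)) (.lin 8)))) (.wt 2))) (.lin 0)) .sq) (.lin 4))) (.wt 1)))) (.lin
    0))) (.lin 0)) .sq)) (.wt 1)))) (.splitN 73283 (.split 2 400 (.split 0 (-345) (.lin 3)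
    (.split 7 (-371) (.lin 9) (.split 0 (-63) (.split 1 51 (.lin 4) (.split 3 78 (.lin 7) (.wt
    2))) (.wt 2)))) (.div 2)) (.wt 1))) (.split 7 (-73) (.splitN 58962 (.split 2 310 (.split 0
    (-255) (.lin 3) (.splitN 43743 (.split 2 238 (.split 0 (-183) (.lin 3) (.split 7 (-209) (.lin
    9) (.splitN 34138 (.wt 0) (.splitN 39248 (.split 2 202 (.split 0 (-147) (.lin 3) (.split 7
    (-173) (.lin 9) (.wt 6))) (.div 2)) (.wt 6))))) (.div 2)) (.wt 6))) (.div 2)) (.wt 1)) (.lin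
    8)))) (.lin 0))) (.lin 0)) .sq) (.lin 4))) (.wt 1)) (.lin 7)) (.lin 4))) (.wt 1)) (.lin 0)))
    (.lin 0)) (.div 2)) (.wt 1))) (.lin 12)))))

def cert5_8_6 : Cert :=
  (.split 0 (-20) (.split 1 13 (.split 5 13 (.lin 4) (.splitN 111890 (.split 2 616 (.split 4 529
    (.split 3 583 (.splitN 106147 (.split 2 580 (.split 6 (-542) (.lin 0) (.splitN 45756 (.split
    2 238 (.split 4 151 (.split 6 (-200) (.lin 0) (.splitN 42669 .cand (.wt 1))) (.lin 0)) (.div
    2)) (.wt 1))) (.div 2)) (.wt 0)) (.lin 1)) (.lin 0)) (.div 2)) (.wt 0))) (.split 5 14 (.split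
    3 78 (.lin 11) (.splitN 811390 (.split 2 892 (.split 6 (-857) (.lin 0) (.split 5 9 (.split 7
    (-197) (.split 2 252 (.lin 1) (.split 4 168 (.lin 8) (.splitN 143189 .sq (.wt 1)))) (.split 4
    169 (.splitN 582898 (.split 2 753 (.split 6 (-713) (.lin 0) (.split 4 52 (.split 7 (-83)
    (.lin 8) (.splitN 335830 (.split 2 566 (.split 6 (-524) (.lin 0) (.split 6 (-183) (.split 2
    225 (.lin 0) (.split 3 204 (.lin 7) (.splitN 132254 .sq (.split 4 16 (.wt 0) (.split 7 (-73)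
    (.wt 1) (.split 4 43 (.splitN 228350 (.split 2 382 (.split 6 (-335) (.lin 0) (.split 3 367
    (.splitN 209221 (.split 2 355 (.split 6 (-308) (.lin 0) (.split 7 (-64) (.wt 1) (.split 4 34
    (.split 0 (-28) (.wt 2) (.split 1 16 (.wt 1) (.lin 4))) (.lin 8)))) .sq) (.wt 1)) (.lin 6)))
    .sq) (.wt 1)) (.lin 8))))))) (.split 3 241 (.split 3 205 (.split 4 28 (.splitN 158054 (.split
    6 (-123) (.split 2 162 (.lin 0) (.split 3 141 (.lin 6) (.split 0 (-27) (.wt 2) (.split 1 16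
    (.split 4 24 (.lin 8) (.split 7 (-47) (.lin 8) (.splitN 91509 (.wt 0) (.wt 1)))) (.lin 4)))))
    (.split 0 (-25) (.split 1 24 (.lin 4) .cand) (.split 1 16 (.split 4 24 (.lin 8) (.split 7
    (-47) (.lin 8) (.splitN 90062 (.split 3 85 (.split 2 109 (.split 6 (-65) (.lin 0) (.wt 0))
    (.lin 1)) (.wt 0)) (.wt 1)))) (.lin 4)))) (.wt 1)) (.split 2 117 (.lin 0) (.split 7 (-55)
    (.split 6 (-123) (.split 3 141 (.lin 7) (.split 0 (-25) (.split 1 24 (.lin 4) (.split 7 (-64)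
    (.wt 2) (.lin 8))) (.split 1 16 (.split 7 (-74) (.lin 8) (.split 4 46 (.split 7 (-65) (.lin
    8) (.split 3 171 (.split 6 (-155) (.lin 7) (.wt 2)) (.wt 2))) (.wt 2))) (.lin 4)))) (.split 3
    142 (.splitN 140422 (.split 0 (-25) (.split 1 24 (.lin 4) (.splitN 72134 (.wt 1) .cand))
    (.split 1 16 (.split 7 (-74) (.lin 8) (.split 3 104 (.split 6 (-83) (.lin 7) (.wt 2)) (.wt
    2))) (.lin 4))) (.wt 1)) (.lin 7))) (.lin 8)))) (.lin 7)) (.lin 6)))) .sq) (.wt 1))) (.split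
    6 (-668) (.lin 0) (.split 7 (-82) (.splitN 165420 (.split 2 375 (.split 6 (-290) (.lin 0)
    (.split 3 412 (.split 6 (-137) (.split 2 225 (.lin 0) (.split 3 159 (.lin 7) (.splitN 108827
    .sq (.split 1 16 (.wt 1) (.split 0 (-29) (.split 3 168 (.lin 7) (.split 7 (-91) (.splitN
    114155 .sq (.wt 0)) (.lin 8))) (.lin 4)))))) (.splitN 122751 (.split 2 314 (.split 0 (-25)
    (.split 1 24 (.lin 4) .cand) (.split 1 16 (.split 6 (-89) (.split 3 105 (.lin 7) (.split 4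
    159 (.split 7 (-173) (.lin 8) (.split 4 135 (.split 7 (-155) (.lin 8) (.split 3 142 (.split 6
    (-128) (.lin 7) (.splitN 71801 (.split 4 125 (.split 7 (-146) (.lin 8) (.split 4 108 (.split
    7 (-128) (.lin 8) (.split 4 81 (.split 7 (-101) (.lin 8) (.wt 0)) (.wt 0))) (.wt 0))) (.wt
    0)) (.wt 6))) (.wt 2))) (.wt 2))) (.wt 2))) (.wt 2)) (.lin 4))) .sq) (.wt 1))) (.lin 6)))
    .sq) (.wt 1)) (.lin 8))))) .sq) (.wt 1)) (.lin 8))) (.split 0 (-29) (.split 1 16 (.splitN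
    68376 (.split 2 364 (.split 6 (-317) (.lin 0) (.split 7 (-299) (.lin 1) (.split 4 56 (.split
    7 (-83) (.lin 8) (.splitN 58989 (.split 2 310 (.split 6 (-263) (.lin 0) (.split 3 186 (.split
    2 244 (.split 6 (-200) (.lin 0) (.split 6 (-164) (.lin 7) (.splitN 45613 (.split 4 22 (.split
    7 (-47) (.lin 8) (.wt 0)) (.wt 0)) (.wt 6)))) (.lin 1)) (.wt 2))) (.div 2)) (.wt 1))) (.wt
    2)))) (.div 2)) (.wt 1)) (.lin 4)) (.lin 4)))) .sq) (.wt 1))) (.lin 4))) (.split 1 7 (.split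
    5 5 (.split 4 33 (.lin 8) (.splitN 61187 (.split 2 328 (.split 6 (-281) (.lin 0) (.split 7
    (-263) (.lin 1) (.splitN 43770 (.split 2 238 (.split 6 (-191) (.lin 0) (.splitN 36875 (.split
    2 202 (.split 6 (-155) (.lin 0) (.split 7 (-137) (.lin 1) (.wt 0))) (.div 2)) (.wt 6))) (.div
    2)) (.wt 6)))) (.div 2)) (.wt 1))) (.lin 4)) (.lin 4)))

def cert5_8_7 : Cert :=
  (.split 6 (-64) (.split 2 81 (.lin 0) (.split 3 51 (.lin 2) (.split 3 69 (.lin 11) (.split 0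
    (-20) (.split 4 16 (.split 7 (-28) (.split 1 13 (.split 5 13 (.lin 4) (.splitN 77423 (.split
    2 418 (.split 6 (-389) (.lin 0) (.split 3 403 (.splitN 46738 (.split 2 256 (.split 6 (-227)
    (.lin 0) (.splitN 45489 (.splitN 23662 (.wt 1) (.split 2 179 (.split 6 (-146) (.lin 0)
    (.split 4 11 (.splitN 28247 (.split 2 148 (.split 3 124 (.split 0 (-22) (.wt 0) (.split 5 14
    (.split 7 (-29) (.lin 8) (.wt 1)) (.lin 4))) (.lin 2)) (.div 2)) (.wt 0)) (.split 0 (-21)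
    (.lin 12) (.split 5 14 (.split 7 (-37) (.splitN 34967 (.wt 3) (.wt 1)) (.lin 8)) (.lin 4)))))
    .sq)) (.wt 1))) (.div 2)) (.wt 1)) (.lin 6))) (.div 2)) (.wt 0))) (.split 5 14 (.split 3 78
    (.lin 11) (.splitN 9381592 (.split 2 52114 (.split 6 (-52085) (.lin 0) (.splitN 8788994
    (.splitN 30118 (.wt 1) (.split 2 2962 (.split 6 (-2936) (.lin 0) (.split 3 2959 (.splitN
    4269980 (.split 2 2062 (.split 6 (-2036) (.lin 0) (.split 3 2059 (.splitN 3441317 (.split 2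
    1851 (.split 6 (-1820) (.lin 0) (.split 3 1843 (.split 4 11 (.splitN 118472 (.split 2 652
    (.split 6 (-623) (.lin 0) (.split 3 646 (.splitN 71384 (.split 2 382 (.split 6 (-353) (.lin
    0) (.split 3 376 (.split 2 238 (.split 6 (-209) (.lin 0) (.split 3 232 (.split 5 9 (.splitN
    51386 (.wt 6) (.split 0 (-28) (.wt 0) (.split 1 16 (.wt 0) (.lin 4)))) (.split 0 (-29)
    (.split 1 16 (.split 7 (-37) (.splitN 35289 (.split 3 105 (.wt 0) (.split 2 126 (.lin 1)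
    (.split 6 (-91) .sq (.lin 0)))) (.wt 0)) (.lin 8)) (.lin 8)) (.lin 4))) (.lin 6))) .sq) (.lin
    6))) (.div 2)) (.wt 3)) (.lin 6))) (.div 2)) (.wt 0)) (.split 1 16 (.split 0 (-21) (.lin 12)
    (.split 5 5 (.split 7 (-37) (.splitN 207192 (.split 2 1138 (.split 6 (-1100) (.lin 0) (.split
    3 1114 (.splitN 125440 (.split 2 688 (.split 6 (-650) (.lin 0) (.splitN 75787 (.wt 3) (.split
    6 (-69) (.split 3 87 (.lin 6) (.split 6 (-94) (.split 2 135 (.lin 0) (.split 3 114 (.lin 6)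
    (.split 6 (-111) (.split 3 132 (.lin 6) (.splitN 83604 (.wt 1) (.splitN 99069 (.split 2 544
    (.split 6 (-506) (.lin 0) (.split 3 520 (.split 6 (-373) (.wt 0) (.split 2 406 (.split 3 385
    (.split 6 (-310) (.wt 0) (.split 3 322 (.split 6 (-275) (.wt 0) (.split 2 307 (.split 3 286
    (.split 6 (-253) (.wt 0) (.split 3 259 (.split 6 (-120) (.splitN 94437 (.split 6 (-161) (.wt
    1) (.split 3 169 (.splitN 88594 (.wt 1) (.wt 3)) (.lin 6))) (.wt 3)) (.wt 2)) (.lin 6)))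
    (.lin 6)) (.lin 0))) (.lin 6))) (.lin 6)) (.lin 0))) (.lin 6))) (.div 2)) (.wt 3)))) (.wt
    2)))) (.wt 2))) (.wt 1)))) (.div 2)) (.wt 1)) (.lin 6))) (.div 2)) (.wt 0)) (.lin 8)) (.lin
    4))) (.lin 8))) (.lin 6))) .sq) (.wt 1)) (.lin 6))) .sq) (.wt 1)) (.lin 6))) .sq)) (.wt 1)))
    (.div 2)) (.wt 1))) (.lin 4))) (.lin 12)) (.lin 12)) (.split 1 7 (.split 5 5 (.splitN 173187
    (.split 2 958 (.split 6 (-938) (.lin 0) (.split 4 19 (.split 7 (-29) (.lin 8) (.splitN 122086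
    (.split 2 670 (.split 6 (-650) (.lin 0) (.split 4 14 (.split 7 (-20) (.lin 8) (.splitN 64459
    (.split 2 346 (.split 6 (-326) (.lin 0) (.split 6 (-80) (.split 3 87 (.lin 6) (.splitN 61289
    (.split 2 328 (.split 6 (-308) (.lin 0) (.split 3 200 (.split 2 208 (.split 6 (-191) (.lin 0)
    (.splitN 58380 (.split 3 98 (.split 2 109 (.split 6 (-92) (.lin 0) (.wt 0)) (.lin 1)) (.wt
    0)) (.wt 1))) (.lin 1)) (.wt 0))) (.div 2)) (.wt 1))) (.wt 0))) (.div 2)) (.wt 1))) (.wt 2)))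
    (.div 2)) (.wt 1))) (.wt 2))) (.div 2)) (.wt 1)) (.lin 4)) (.lin 4)))))) (.split 2 127
    (.splitN 20450 (.wt 3) (.split 0 (-20) (.split 4 16 (.split 7 (-28) (.split 1 13 (.split 5 13
    (.lin 4) (.splitN 39488 .cand (.wt 1))) (.split 5 14 (.split 3 42 (.lin 11) (.splitN 30656
    (.wt 3) (.split 4 11 (.splitN 78863 (.split 5 9 .cand (.split 1 16 (.split 7 (-37) (.splitN
    33520 (.split 6 (-37) (.split 3 51 (.lin 6) (.wt 1)) (.wt 0)) (.wt 1)) (.lin 8)) (.lin 8)))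
    (.wt 1)) (.split 1 16 (.split 0 (-21) (.lin 12) (.split 7 (-37) (.splitN 79621 (.wt 0) (.wt
    1)) (.lin 8))) (.lin 8))))) (.lin 4))) (.lin 12)) (.lin 12)) (.split 1 7 (.split 5 5 (.split
    4 10 (.split 7 (-20) (.lin 8) (.splitN 52159 (.wt 0) (.wt 1))) (.wt 2)) (.lin 4)) (.lin 4))))
    (.lin 0)))

def cert5_8_8 : Cert :=
  (.split 6 (-28) (.split 2 45 (.lin 0) (.split 3 33 (.lin 11) (.split 0 (-30) (.split 2 72 (.lin
    3) (.split 7 (-46) (.split 1 22 (.split 5 22 (.lin 4) (.splitN 91776 (.split 0 (-2541) (.div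
    0) (.split 2 508 (.split 4 448 (.split 0 (-471) (.lin 3) (.split 5 464 (.split 6 (-470) (.lin
    0) (.splitN 82486 (.split 2 454 (.split 0 (-417) (.lin 3) (.split 0 (-268) .sq (.split 5 257
    (.split 2 274 (.split 4 214 (.split 5 230 (.split 6 (-236) (.lin 0) (.split 3 241 (.split 7
    (-254) (.lin 2) (.splitN 74864 (.split 2 256 (.split 4 196 (.split 0 (-219) (.lin 3) (.split
    6 (-218) (.lin 0) cert5_8_0)) (.lin 0)) .sq) (.wt 1))) (.lin 2))) (.lin 0)) (.lin 0)) .sq)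
    (.lin 4)))) (.div 2)) (.wt 1))) (.lin 0))) (.lin 0)) (.div 2))) (.wt 1))) (.split 3 51 (.lin
    11) cert5_8_5)) (.lin 12))) (.split 1 25 (.split 5 23 (.split 7 (-46) (.split 2 54 (.lin 1)
    (.split 2 72 (.lin 9) (.split 4 15 (.lin 12) (.split 6 (-64) (.split 2 90 (.lin 0) (.split 2
    108 (.lin 9) (.split 3 51 (.lin 7) (.split 3 69 (.lin 11) (.splitN 23444 .sq (.splitN 1731231
    (.split 2 9616 (.split 4 9538 (.split 6 (-9587) (.lin 0) (.splitN 1597576 (.split 2 1258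
    (.split 4 1177 (.split 6 (-1226) (.lin 0) (.split 3 1231 (.splitN 1043766 (.split 2 1014
    (.split 4 934 (.split 6 (-983) (.lin 0) cert5_8_6) (.lin 0)) .sq) (.wt 1)) (.lin 1))) (.lin
    0)) .sq) (.wt 1))) (.lin 0)) (.div 2)) (.wt 1))))))) (.splitN 187841 (.split 2 1030 (.split 7
    (-1019) (.lin 1) (.split 2 425 (.split 4 385 (.split 7 (-416) (.lin 1) (.split 0 (-20)
    (.split 1 13 (.split 5 13 (.lin 4) (.splitN 38442 (.split 2 202 (.split 7 (-182) (.lin 1)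
    (.splitN 20909 (.wt 3) .cand)) (.div 2)) (.wt 1))) (.split 3 42 (.lin 11) (.splitN 159154
    (.split 5 13 (.split 2 388 (.split 7 (-371) (.lin 1) (.split 6 (-42) (.split 3 60 (.lin 7)
    (.splitN 141057 (.split 2 362 (.split 7 (-326) (.lin 1) (.split 7 (-123) (.split 2 171 (.lin
    9) (.split 4 87 (.lin 0) (.split 0 (-24) (.split 1 24 (.lin 4) (.wt 2)) (.wt 2)))) (.split 4
    39 (.split 7 (-65) (.lin 8) (.split 4 25 (.split 2 109 (.split 7 (-56) (.lin 8) (.splitN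
    95345 (.split 0 (-25) (.split 1 24 (.lin 4) (.split 3 69 (.lin 7) (.split 4 19 (.split 7
    (-47) (.lin 8) (.splitN 78598 (.split 6 (-50) (.split 3 78 (.lin 6) (.wt 2)) (.wt 0)) (.wt
    1))) (.wt 2)))) (.split 1 16 (.split 4 24 (.lin 8) (.split 7 (-47) (.lin 8) (.wt 0))) (.lin
    4))) (.wt 1))) (.lin 0)) (.split 7 (-55) (.splitN 90028 (.split 1 23 (.split 0 (-21) (.lin 4)
    (.split 7 (-56) (.lin 8) (.wt 0))) (.wt 0)) (.wt 1)) (.lin 8)))) (.split 0 (-23) (.split 1 24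
    (.lin 4) (.split 3 69 (.lin 7) (.wt 2))) (.wt 2))))) .sq) (.wt 1))) (.split 3 61 (.split 4 70
    (.split 7 (-110) (.lin 6) (.split 0 (-22) (.split 1 24 (.lin 4) (.split 3 51 (.lin 7) (.wt
    2))) (.wt 2))) (.wt 2)) (.lin 7)))) .sq) (.wt 2)) (.wt 1)))) (.split 1 7 (.split 5 5 (.split
    4 33 (.lin 8) (.wt 2)) (.lin 4)) (.lin 4)))) (.lin 0)) .sq)) (.div 2)) (.wt 1)))))) (.split 4
    25 cert5_8_7 (.lin 8))) (.lin 4)) (.lin 4))))) (.split 0 (-30) (.split 2 54 (.lin 3) (.split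
    7 (-46) (.splitN 153855 (.split 2 850 (.split 1 826 (.split 0 (-831) (.lin 3) (.split 4 826
    (.split 7 (-1658) (.lin 1) (.split 7 (-839) (.lin 9) (.splitN 145519 (.splitN 13699 (.wt 3)
    (.split 0 (-372) .sq (.split 2 373 (.split 4 349 (.split 4 322 (.split 7 (-362) (.lin 9)
    (.split 6 (-15) (.split 1 340 (.split 0 (-345) (.lin 3) (.split 3 24 (.lin 11) (.splitN
    101082 (.split 0 (-301) .sq (.split 2 305 (.split 4 241 (.split 1 43 (.splitN 84205 (.split 2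
    277 (.split 4 214 (.split 7 (-254) (.lin 9) (.split 4 38 (.splitN 70644 .cand (.wt 1))
    (.split 0 (-210) (.lin 3) (.split 2 99 (.lin 3) (.split 7 (-82) (.split 1 21 (.split 5 22
    (.lin 4) (.splitN 29830 (.split 2 148 (.split 0 (-84) (.lin 3) (.split 7 (-128) (.lin 9) (.wt
    0))) (.div 2)) (.wt 1))) (.wt 2)) (.lin 9)))))) (.lin 3)) .sq) (.wt 1)) (.split 3 69 (.lin
    11) (.splitN 35052 (.split 2 184 (.split 0 (-156) (.lin 3) (.splitN 29986 (.split 2 166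
    (.split 0 (-138) (.lin 3) (.split 7 (-146) (.lin 9) (.wt 0))) (.div 2)) (.wt 6))) (.div 2))
    (.wt 6)))) (.lin 3)) .sq)) (.wt 1)))) (.lin 0)) (.splitN 41530 (.split 2 220 (.split 0 (-201)
    (.lin 3) (.splitN 22451 (.split 2 112 (.split 0 (-93) (.lin 3) (.split 7 (-101) (.lin 9)
    (.splitN 18098 (.wt 0) (.wt 6)))) (.div 2)) (.wt 6))) (.div 2)) (.wt 1)))) (.lin 3)) (.lin
    0)) .sq))) (.wt 1)))) (.lin 0))) (.lin 0)) (.div 2)) (.wt 1)) (.lin 12))) (.split 1 25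
    (.split 6 (-11) (.split 3 24 (.lin 11) (.split 0 (-13) (.split 2 45 (.lin 3) (.split 7 (-28)
    (.splitN 98034 (.split 2 544 (.split 7 (-542) (.lin 1) (.split 4 61 (.split 2 109 (.split 7
    (-110) (.lin 1) (.split 4 28 (.split 2 73 (.split 7 (-74) (.lin 1) (.split 7 (-56) (.lin 9)
    (.split 1 19 (.split 3 34 (.split 4 19 (.splitN 55597 (.split 5 11 (.split 0 (-21) (.lin 4)
    (.split 1 15 (.lin 4) (.split 7 (-38) (.lin 6) (.split 3 33 (.lin 7) (.wt 0))))) (.wt 2))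
    (.wt 1)) (.wt 2)) (.lin 11)) (.wt 2)))) (.lin 3)) (.wt 2))) (.lin 3)) (.wt 2))) (.div 2))
    (.wt 1)) (.lin 9))) (.wt 2))) (.wt 2)) (.lin 4))))

def cert5_8 : Cert :=
  (.split 5 (-1) (.split 0 (-3) (.split 1 15 (.lin 4) (.split 7 (-19) (.split 6 (-18) (.split 3
    33 (.lin 7) (.split 0 (-12) (.split 1 24 (.lin 4) (.split 3 42 (.lin 7) (.split 7 (-28)
    (.splitN 267714 (.split 1 2960 (.split 2 1480 (.split 0 (-1452) (.lin 3) (.split 4 1438
    (.split 6 (-1451) (.lin 3) (.split 5 (-1481) (.div 5) (.splitN 236960 (.split 1 2600 (.split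
    2 1300 (.split 0 (-1272) (.lin 3) (.split 4 1258 (.split 6 (-1271) (.lin 3) (.split 5 (-1301)
    (.div 5) (.split 6 (-25) (.split 2 54 (.lin 3) (.split 3 51 (.lin 7) (.splitN 211314 (.split
    2 1156 (.split 0 (-1119) (.lin 3) (.split 6 (-1127) (.lin 3) (.split 0 (-448) .sq (.split 1
    447 (.split 5 (-419) (.lin 4) (.splitN 190411 (.split 2 428 (.split 0 (-390) (.lin 3) (.split
    6 (-812) (.lin 0) (.split 4 376 (.split 6 (-398) (.lin 3) (.splitN 165311 (.split 1 393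
    (.split 5 (-365) (.lin 4) (.split 2 396 (.split 6 (-362) (.lin 3) (.split 7 (-362) (.lin 9)
    (.split 3 396 (.split 5 (-39) (.split 1 60 (.lin 4) (.split 3 87 (.lin 7) (.split 6 (-335)
    (.lin 7) (.split 0 (-24) (.split 1 69 (.lin 4) (.split 3 96 (.lin 7) (.split 5 (-338) (.lin
    7) (.split 7 (-37) (.split 6 (-41) (.split 2 81 (.lin 3) (.split 1 349 (.split 5 (-320) (.lin
    4) (.split 3 114 (.lin 7) (.splitN 30824 .sq (.split 4 28 (.split 7 (-335) (.lin 6) (.splitN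
    68037 (.split 2 364 (.split 0 (-32) (.split 2 90 (.lin 3) (.split 6 (-317) (.lin 3) (.split 1
    78 (.lin 4) (.split 3 123 (.lin 7) (.split 7 (-46) (.splitN 37223 .sq (.splitN 58263 (.split
    2 310 (.split 0 (-255) (.lin 3) (.split 6 (-263) (.lin 3) (.split 7 (-244) (.wt 1) (.split 4
    20 (.splitN 51240 (.split 2 274 (.split 6 (-227) (.lin 3) (.split 5 (-275) (.div 5) (.split 4
    7 (.wt 1) (.split 2 99 (.lin 3) (.split 7 (-55) (.splitN 40058 .sq (.splitN 46738 (.split 2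
    256 (.split 6 (-200) (.lin 3) (.split 7 (-209) (.lin 9) (.split 5 (-257) (.div 5) (.wt 6))))
    (.div 2)) (.wt 1))) (.lin 12)))))) (.div 2)) (.wt 1)) (.wt 2))))) (.div 2)) (.wt 1))) (.lin
    12)))))) (.wt 6)) (.div 2)) (.wt 1))) (.wt 2))))) (.lin 11))) (.wt 2)) (.lin 12))))) (.wt
    2))))) (.split 6 (-32) (.split 3 60 (.lin 7) (.split 0 (-21) (.split 1 33 (.lin 4) (.split 3
    69 (.lin 7) (.split 7 (-37) (.split 4 46 (.splitN 66479 (.split 2 364 (.split 0 (-318) (.lin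
    3) (.split 7 (-326) (.lin 9) (.split 5 (-5) (.split 1 42 (.lin 4) (.split 3 78 (.lin 7)
    (.split 4 27 (.splitN 59360 (.split 2 328 (.split 1 313 (.split 6 (-290) (.lin 3) (.split 7
    (-290) (.lin 9) (.splitN 58588 (.split 2 310 (.split 6 (-272) (.lin 3) (.split 7 (-272) (.lin
    9) (.split 4 23 (.splitN 52133 (.split 2 274 (.split 1 259 (.split 6 (-236) (.lin 3) (.split
    7 (-236) (.lin 9) (.split 6 (-45) (.split 3 87 (.lin 7) (.split 0 (-30) (.split 1 51 (.lin 4)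
    (.split 3 96 (.lin 7) (.split 7 (-46) (.splitN 45271 (.split 2 238 (.split 6 (-191) (.lin 3)
    (.split 7 (-191) (.lin 9) (.split 4 14 (.splitN 33630 (.split 2 184 (.split 1 160 (.split 6
    (-137) (.lin 3) (.split 7 (-137) (.lin 9) (.splitN 32368 (.split 2 166 (.split 6 (-119) (.lin
    3) (.split 0 (-47) (.split 2 99 (.lin 3) (.split 1 60 (.lin 4) (.split 3 105 (.lin 7) (.split
    7 (-55) .sq (.lin 12))))) (.wt 2))) (.div 2)) (.wt 1)))) (.lin 0)) (.div 2)) (.wt 1)) (.wt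
    2)))) (.div 2)) (.wt 1)) (.lin 12)))) (.wt 2))) (.wt 2)))) (.lin 0)) (.div 2)) (.wt 1)) (.wt
    2)))) (.div 2)) (.wt 1)))) (.lin 0)) (.div 2)) (.wt 1)) (.wt 2)))) (.wt 2)))) (.div 2)) (.wt
    1)) (.wt 2)) (.lin 12)))) (.wt 2))) (.wt 2))) .sq))) .sq)) .sq) (.wt 1))) (.lin 3)))) .sq)
    (.wt 1))) .sq)))) (.div 2)) (.wt 1)))) (.wt 2)))) (.lin 3))) (.div 2)) (.div 1)) (.wt 1))))
    (.lin 3))) (.div 2)) (.div 1)) (.wt 1)) (.lin 12)))) (.wt 2))) (.wt 2)) (.lin 12))) (.wt 0))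
    (.split 2 27 (.lin 0) (.split 0 (-11) (.split 7 (-19) cert5_8_8 (.lin 8)) (.lin 4))))

theorem check5_8 :
    check task5 cert5_8
      [(7, ⟨none, some (-2)⟩), (7, ⟨some (7), none⟩), (1, ⟨some (19), none⟩), (7, ⟨some (16), none⟩), (7, ⟨some (7), none⟩), (5, ⟨none, none⟩), (8, ⟨none, some (-10)⟩), (8, ⟨none, some (-10)⟩)] ⟨some (3960), none⟩ = true := by
  decide +kernel

def cert5_9 : Cert :=
  (.wt 0)

theorem check5_9 :
    check task5 cert5_9
      [(7, ⟨none, some (-2)⟩), (7, ⟨some (7), none⟩), (1, ⟨some (10), none⟩), (7, ⟨some (16), none⟩), (7, ⟨none, none⟩), (5, ⟨none, none⟩), (8, ⟨none, some (-10)⟩), (8, ⟨some (-1), some (-1)⟩)] ⟨some (3960), none⟩ = true := by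
  decide +kernel

def cert5_10 : Cert :=
  (.wt 2)

theorem check5_10 :
    check task5 cert5_10
      [(7, ⟨none, some (-2)⟩), (7, ⟨some (7), none⟩), (1, ⟨some (1), none⟩), (7, ⟨some (7), none⟩), (7, ⟨none, none⟩), (5, ⟨none, none⟩), (8, ⟨some (-1), some (-1)⟩), (8, ⟨none, some (-1)⟩)] ⟨some (3960), none⟩ = true := by
  decide +kernel

def cert5_11 : Cert :=
  (.lin 12)

theorem check5_11 :
    check task5 cert5_11
      [(7, ⟨some (7), none⟩), (7, ⟨none, none⟩), (1, ⟨some (1), none⟩), (7, ⟨none, none⟩), (7, ⟨none, some (-2)⟩), (5, ⟨none, none⟩), (8, ⟨none, some (-1)⟩), (8, ⟨none, some (-1)⟩)] ⟨some (3960), none⟩ = true := by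
  decide +kernel

def cert5_12_0 : Cert :=
  (.split 6 (-73) (.split 2 117 (.lin 3) (.split 1 (-110) (.split 4 304 (.split 5 94 (.lin 4)
    (.splitN 47915 .sq (.split 3 (-100) (.wt 2) (.split 5 185 (.split 1 (-201) (.lin 11) (.splitN
    115918 (.split 2 283 (.split 4 223 (.split 7 (-98) (.split 2 171 (.lin 9) (.split 4 114 (.lin
    12) (.splitN 80963 .sq (.wt 0)))) (.split 2 199 (.split 4 106 (.split 3 (-80) (.wt 2) (.split
    5 167 (.split 7 (-69) (.splitN 71464 .cand (.wt 3)) (.split 2 172 (.split 4 79 (.split 3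
    (-73) (.wt 2) (.split 5 158 (.split 3 (-52) (.split 5 112 (.lin 7) (.split 1 (-128) (.split 6
    (-87) (.wt 2) (.split 1 (-147) (.lin 11) (.split 5 131 (.splitN 87968 (.split 7 (-60) (.wt 2)
    (.split 4 70 (.splitN 69951 (.wt 1) (.split 7 (-51) (.split 4 69 (.lin 12) (.splitN 72417
    (.split 1 (-134) (.wt 0) (.split 2 127 (.split 5 113 (.split 3 (-57) (.lin 6) (.split 6 (-74)
    (.lin 0) (.wt 0))) (.lin 0)) (.lin 2))) (.wt 0))) (.split 2 127 (.split 4 61 (.splitN 78572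
    (.wt 1) (.split 3 (-62) (.wt 0) (.split 5 122 (.split 1 (-138) (.lin 2) (.split 6 (-81) (.wt
    0) (.wt 0))) (.lin 1)))) (.lin 12)) (.lin 9)))) (.lin 12))) (.wt 1)) (.lin 4)))) (.lin 11)))
    (.split 5 140 (.split 1 (-156) (.lin 11) (.splitN 93745 (.split 7 (-55) (.split 4 69 (.lin
    12) (.split 6 (-76) (.split 1 (-119) (.split 5 103 (.lin 4) (.split 6 (-96) (.split 2 153
    (.lin 3) (.split 1 (-137) (.split 5 121 (.lin 4) (.splitN 76994 .sq (.split 3 (-41) (.wt 0)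
    (.wt 1)))) (.lin 11))) (.split 2 154 (.split 1 (-138) (.lin 11) (.split 5 131 (.split 5 122
    (.split 3 (-40) (.split 5 112 (.lin 7) (.split 1 (-128) (.splitN 66802 (.wt 1) (.split 7
    (-63) (.wt 0) (.split 4 70 (.splitN 72242 (.wt 1) (.wt 1)) (.lin 12)))) (.lin 11))) (.wt 2))
    (.lin 4)) (.lin 1))) (.lin 3)))) (.lin 11)) (.wt 2))) (.split 4 61 (.split 6 (-75) (.split 2
    126 (.lin 3) (.split 1 (-119) (.split 5 103 (.lin 1) (.split 3 (-40) (.split 5 112 (.lin 1)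
    (.splitN 86433 (.split 6 (-87) (.split 2 135 (.lin 3) (.split 1 (-137) (.split 5 121 (.lin 1)
    (.splitN 81954 (.wt 1) (.wt 3))) (.lin 11))) (.wt 0)) (.wt 3))) (.wt 2))) (.lin 11))) (.wt
    0)) (.lin 12))) (.wt 1))) (.lin 7))) (.lin 7))) (.lin 12)) (.lin 9))) (.lin 7))) (.lin 12))
    (.lin 9))) (.lin 3)) .sq) (.wt 1))) (.lin 7))))) (.lin 3)) (.lin 11))) (.splitN 110319
    (.split 1 (-298) .sq (.split 5 275 (.split 3 (-255) (.lin 7) (.split 7 (-110) (.split 2 153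
    (.lin 9) (.split 4 132 (.lin 12) (.splitN 67355 .sq (.wt 1)))) (.split 2 172 (.split 4 124
    (.splitN 40592 (.wt 1) (.split 3 (-40) (.split 1 (-83) (.split 6 (-51) (.split 2 99 (.lin 3)
    (.split 1 (-101) (.split 5 85 (.lin 4) (.split 3 (-237) (.lin 7) (.splitN 95322 (.split 1
    (-257) .sq (.split 5 239 (.split 3 (-201) (.lin 7) (.split 7 (-78) (.split 2 135 (.lin 9)
    (.split 4 96 (.lin 12) (.splitN 57716 .sq (.split 3 (-97) (.wt 0) (.split 1 (-156) (.lin 11)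
    (.split 5 140 (.split 3 (-49) (.split 5 94 (.lin 7) (.split 1 (-110) (.splitN 62171 .sq
    (.split 7 (-101) (.wt 0) (.split 4 115 (.split 3 (-73) (.wt 0) (.wt 1)) (.lin 12)))) (.lin
    11))) (.wt 2)) (.lin 4))))))) (.split 2 136 (.split 4 88 (.split 3 (-49) (.split 5 94 (.lin
    7) (.split 1 (-110) (.splitN 90349 (.split 1 (-239) .sq (.split 5 221 (.split 7 (-60) (.split
    2 117 (.lin 9) (.split 4 78 (.lin 12) (.split 3 (-107) (.wt 2) (.split 1 (-165) (.lin 11)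
    (.split 5 149 (.split 3 (-101) (.wt 2) (.split 5 140 (.split 1 (-156) (.lin 11) (.split 3
    (-74) (.split 1 (-119) (.split 1 (-128) (.split 5 112 (.lin 4) (.splitN 62171 .sq (.splitN
    68158 (.split 6 (-62) (.wt 2) (.split 2 127 (.split 7 (-69) (.wt 1) (.split 3 (-75) (.split 5
    121 (.lin 1) (.split 1 (-137) .sq (.lin 2))) (.wt 0))) (.lin 3))) (.wt 1)))) (.lin 11)) (.lin
    2)) (.split 5 122 (.split 1 (-129) (.lin 11) (.split 5 113 (.splitN 60210 (.wt 3) (.split 3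
    (-57) (.split 5 103 (.lin 7) (.split 1 (-119) (.split 6 (-60) (.split 1 (-128) (.split 5 112
    (.lin 4) (.split 7 (-70) (.wt 0) (.split 2 127 (.split 4 79 (.wt 2) (.lin 0)) (.lin 1))))
    (.lin 11)) (.wt 2)) (.lin 11))) (.wt 2))) (.lin 4))) (.lin 1)))) (.lin 7))) (.lin 4))))))
    (.split 2 118 (.split 4 70 (.split 3 (-59) (.split 5 103 (.lin 7) (.split 3 (-106) (.split 1
    (-155) (.split 1 (-164) (.split 5 148 (.lin 4) (.splitN 80315 .sq (.wt 0))) (.lin 11)) (.lin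
    2)) (.split 1 (-174) (.lin 2) (.split 1 (-165) (.lin 11) (.split 5 149 (.splitN 83113 (.split
    7 (-51) (.splitN 73528 .cand (.wt 1)) (.split 4 61 (.split 3 (-66) (.split 5 112 (.lin 1)
    (.split 1 (-128) (.split 3 (-75) (.split 5 121 (.lin 1) (.split 6 (-57) (.splitN 76267 (.wt
    1) (.wt 0)) (.wt 2))) (.wt 2)) (.lin 2))) (.wt 0)) (.lin 12))) (.wt 1)) (.lin 4)))))) (.wt
    2)) (.lin 12)) (.lin 9))) (.lin 4))) (.wt 1)) (.lin 11))) (.wt 2)) (.lin 12)) (.lin 9))))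
    (.lin 4))) (.wt 1)))) (.lin 11))) (.split 3 (-73) (.split 5 94 (.lin 7) (.split 1 (-110)
    (.splitN 78138 (.split 3 (-79) (.split 5 103 (.lin 7) (.split 1 (-209) .sq (.split 3 (-228)
    (.lin 2) (.split 5 185 (.split 3 (-84) (.split 5 112 (.lin 7) (.split 6 (-40) (.split 1
    (-137) (.split 5 121 (.lin 4) (.split 3 (-156) (.lin 7) (.split 7 (-47) (.split 2 99 (.lin 9)
    (.split 4 69 (.lin 3) (.splitN 66636 (.split 7 (-56) (.split 2 108 (.lin 9) (.split 4 78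
    (.lin 3) .sq)) (.wt 0)) (.wt 1)))) (.wt 0)))) (.lin 11)) (.wt 2))) (.wt 2)) (.lin 4))))) (.wt
    2)) (.wt 1)) (.lin 11))) (.wt 2))) (.lin 11)) (.wt 2))) (.lin 12)) (.lin 9)))) (.lin 4)))
    (.wt 1)))

def cert5_12_1 : Cert :=
  (.split 7 (-46) (.split 2 72 (.lin 9) (.split 4 51 (.lin 12) (.splitN 389502 (.split 1 (-4293)
    (.div 1) (.split 2 2146 (.split 4 2131 (.split 6 (-2108) (.lin 3) (.split 5 2146 (.split 1
    (-2154) (.lin 4) (.split 3 (-2127) (.lin 7) (.split 0 7 (.wt 2) (.split 4 60 (.lin 12)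
    (.split 6 (-29) (.split 2 81 (.lin 3) (.split 1 (-74) (.split 5 58 (.lin 4) (.splitN 315328
    (.split 2 1750 (.split 4 1726 (.split 5 1750 (.split 1 (-1758) (.lin 4) (.splitN 230425
    (.split 2 1264 (.split 5 1264 (.split 1 (-457) .sq (.split 5 437 (.split 3 (-417) (.lin 7)
    (.split 2 457 (.split 4 430 (.split 6 (-110) (.split 2 162 (.lin 3) (.split 1 (-155) (.split
    5 139 (.lin 4) (.splitN 91655 .sq (.split 4 67 (.wt 0) (.split 2 171 (.lin 3) (.split 7 (-55)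
    (.splitN 96031 .sq (.wt 0)) (.lin 12)))))) (.lin 11))) (.splitN 150602 (.split 1 (-362) .sq
    (.split 5 338 (.split 3 (-318) (.lin 7) (.split 2 363 (.split 4 340 cert5_12_0 (.lin 3))
    .sq)) (.lin 4))) (.wt 1))) (.lin 3)) .sq)) (.lin 4))) (.div 5)) (.div 2)) (.wt 3))) (.div 5))
    (.lin 3)) (.div 2)) (.wt 1))) (.lin 11))) (.wt 2)))))) (.div 5))) (.lin 3)) (.div 2))) (.wt
    3)))) (.split 4 52 (.split 0 11 (.wt 2) (.split 4 33 (.lin 12) (.split 6 (-37) (.split 2 54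
    (.lin 3) (.split 1 (-74) (.split 5 58 (.lin 4) (.split 6 (-38) (.split 2 63 (.lin 3) (.split
    6 (-100) (.split 2 117 (.lin 3) (.split 1 (-137) (.split 5 103 (.lin 1) (.split 5 121 (.lin
    4) (.split 3 (-324) (.wt 6) (.split 7 (-28) (.split 2 126 (.lin 9) (.split 4 42 (.lin 12)
    (.splitN 385239 (.split 1 (-4257) (.div 1) (.split 2 4249 (.split 5 4523 (.split 3 (-83) (.wt
    2) (.split 6 (-233) (.split 2 261 (.lin 3) (.split 1 (-272) (.split 5 247 (.lin 1) (.splitN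
    263690 .sq (.wt 3))) (.lin 11))) (.split 2 262 (.split 1 (-300) (.lin 11) (.split 7 (-33)
    (.splitN 122174 .cand (.wt 3)) (.split 4 43 (.splitN 101216 (.wt 0) (.splitN 294503 .cand
    (.wt 3))) (.lin 12)))) (.lin 3)))) (.lin 1)) (.lin 2))) (.wt 3)))) (.split 3 (-58) (.wt 1)
    (.wt 0)))))) (.lin 11))) (.split 2 127 (.split 3 (-39) (.split 5 76 (.lin 7) (.split 1 (-92)
    (.split 7 (-28) (.split 2 72 (.lin 9) (.split 4 42 (.lin 12) (.splitN 327729 (.split 1 (-554)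
    .sq (.split 5 590 (.split 3 (-516) (.lin 2) (.split 6 (-69) (.split 2 99 (.lin 3) (.split 1
    (-119) (.split 5 94 (.lin 1) (.split 5 103 (.lin 4) (.split 3 (-174) (.wt 2) (.split 5 257
    (.split 1 (-273) (.lin 2) (.splitN 237910 (.split 3 (-161) (.wt 2) (.split 5 239 (.split 3
    (-48) (.split 1 (-128) (.split 3 (-154) (.wt 2) (.split 5 221 (.split 7 (-33) (.splitN 123199
    .cand (.wt 0)) (.split 4 43 (.splitN 129727 (.wt 1) .cand) (.lin 12))) (.lin 7))) (.lin 11))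
    (.wt 2)) (.lin 1))) (.wt 1))) (.lin 1))))) (.lin 11))) (.split 2 100 (.split 3 (-69) (.split
    1 (-110) (.split 1 (-119) (.split 5 103 (.lin 4) (.splitN 183073 (.split 1 (-395) .sq (.split
    5 401 (.split 3 (-381) (.lin 6) (.split 3 (-354) (.lin 2) (.split 5 374 (.split 3 (-75)
    (.split 5 112 (.lin 7) (.split 1 (-128) (.split 7 (-33) (.splitN 105146 .cand (.wt 1))
    (.split 2 91 (.split 4 43 (.splitN 165100 (.split 3 (-103) (.split 5 139 (.lin 1) (.split 6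
    (-47) (.split 2 81 (.lin 3) (.split 3 (-336) (.lin 6) (.split 1 (-164) (.split 5 148 (.lin 1)
    (.splitN 155922 (.split 3 (-119) (.split 5 157 (.lin 1) (.split 3 (-149) (.split 5 193 (.lin
    1) (.split 3 (-156) (.split 6 (-56) (.split 2 90 (.lin 3) (.split 1 (-227) (.split 5 211
    (.lin 0) (.splitN 138635 .sq (.splitN 146510 (.split 3 (-188) (.wt 0) (.split 1 (-246) (.lin
    2) (.split 3 (-172) (.split 1 (-231) .sq (.split 5 212 (.lin 1) (.lin 0))) (.wt 2)))) (.wt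
    0)))) (.lin 11))) (.wt 2)) (.wt 2))) (.wt 2))) (.wt 0)) (.wt 1))) (.lin 11)))) (.wt 0))) (.wt
    0)) (.wt 1)) (.lin 12)) (.lin 9))) (.lin 11))) (.wt 2)) (.lin 4)))) (.lin 0))) (.wt 1)))
    (.lin 11)) (.lin 2)) (.wt 2)) (.lin 3)))) (.lin 0))) (.wt 1)))) (.split 1 (-174) (.split 5
    166 (.lin 4) (.split 1 (-206) (.split 5 193 (.lin 4) (.split 3 (-329) (.split 6 (-75) (.wt 1)
    (.wt 0)) (.wt 0))) (.wt 0))) (.wt 0))) (.lin 11))) (.wt 2)) (.lin 3)))) (.wt 2))) (.lin 11)))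
    (.wt 2)))) (.lin 12)))

def cert5_12_2 : Cert :=
  (.split 0 11 (.split 5 31 (.lin 4) (.splitN 308593 (.split 1 (-3429) (.div 1) (.split 5 3416
    (.split 2 1714 (.split 4 1690 (.split 3 (-22) (.wt 2) (.split 6 (-108) (.wt 2) (.split 5 113
    (.split 1 (-120) (.lin 11) (.split 6 (-96) (.wt 2) (.split 1 (-111) (.lin 11) (.split 2 547
    (.split 4 592 (.split 7 (-524) (.lin 1) (.split 4 520 (.split 6 (-51) (.split 2 99 (.lin 3)
    (.split 1 (-65) (.split 4 493 (.split 5 58 (.lin 4) (.splitN 45226 (.wt 1) (.split 3 (-20)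
    (.wt 0) (.split 5 95 (.split 7 (-418) (.wt 0) (.split 4 421 (.split 6 (-77) (.wt 2) (.split 5
    77 (.split 1 (-84) (.lin 11) (.splitN 46774 (.wt 1) (.split 7 (-225) (.wt 0) (.split 2 289
    (.split 4 223 (.split 7 (-194) (.wt 0) (.split 4 196 (.splitN 49699 (.wt 1) (.split 7 (-144)
    (.wt 0) (.split 4 142 (.split 7 (-132) (.wt 0) (.split 4 133 (.splitN 52715 (.wt 1) (.split 7
    (-109) (.wt 0) (.split 4 106 (.split 6 (-68) (.wt 2) (.split 1 (-75) (.lin 11) (.split 5 68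
    (.splitN 56332 (.wt 1) (.split 7 (-90) (.wt 0) (.splitN 59581 (.wt 1) (.split 7 (-78) (.wt 0)
    (.split 4 79 (.split 7 (-66) (.wt 2) (.split 4 70 (.split 6 (-63) (.wt 2) (.split 1 (-66)
    (.lin 11) (.split 5 59 (.splitN 85156 (.splitN 67074 (.wt 1) (.split 7 (-47) (.split 2 108
    (.lin 1) (.split 4 60 (.lin 0) (.split 7 (-63) (.wt 0) (.split 2 109 (.split 4 61 (.splitN
    74739 (.wt 0) (.wt 0)) (.lin 0)) (.lin 1))))) (.wt 0))) (.wt 1)) (.lin 4)))) (.lin 12)))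
    (.lin 12)))))) (.lin 4)))) (.lin 12)))) (.lin 12))) (.lin 12)))) (.lin 12))) (.lin 12)) (.lin
    1))))) (.lin 7))) (.lin 12))) (.lin 7))))) (.lin 3)) (.lin 11))) (.split 5 59 (.split 1 (-66)
    (.lin 11) (.split 3 (-20) (.wt 2) (.split 5 50 (.split 1 (-57) (.lin 11) (.splitN 95787
    (.split 7 (-49) (.split 4 60 (.lin 12) (.split 6 (-38) (.split 1 (-56) (.split 5 49 (.lin 4)
    (.splitN 77671 (.split 2 418 (.split 7 (-371) (.lin 1) (.splitN 62568 (.split 2 346 (.split 7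
    (-299) (.lin 1) (.splitN 61523 (.split 7 (-93) (.split 2 144 (.lin 1) (.split 4 105 (.lin 0)
    (.splitN 54079 (.split 2 292 (.split 7 (-245) (.lin 1) (.split 4 217 (.split 2 253 (.split 7
    (-209) (.lin 1) (.split 4 146 (.split 2 181 (.split 7 (-137) (.lin 1) (.wt 0)) (.lin 0)) (.wt
    0))) (.lin 0)) (.wt 0))) (.div 2)) (.wt 6)))) (.wt 0)) (.wt 6))) (.div 2)) (.wt 6))) (.div
    2)) (.wt 1))) (.lin 11)) (.wt 2))) (.wt 0)) (.wt 6))) (.lin 7)))) (.lin 7))) (.lin 3))) (.lin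
    0)) .sq)))) (.lin 7)))) (.lin 3)) (.div 2)) (.lin 4))) (.wt 3))) (.split 4 60 (.lin 12)
    (.splitN 310787 (.split 2 1714 (.split 7 (-1703) (.lin 1) (.split 4 1699 (.split 6 (-1667)
    (.lin 3) (.splitN 286195 (.split 2 1588 (.split 6 (-1541) (.lin 3) (.split 3 (-15) (.split 5
    31 (.lin 7) (.split 1 (-47) (.splitN 198439 (.split 2 1102 (.split 6 (-1055) (.lin 3) (.split
    6 (-64) (.split 1 (-83) (.split 5 67 (.lin 4) (.splitN 134248 (.split 2 742 (.split 1 (-723)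
    (.lin 2) (.split 7 (-686) (.lin 1) (.split 4 691 (.split 6 (-695) (.lin 3) (.split 6 (-77)
    (.split 2 126 (.lin 3) (.split 1 (-101) (.split 5 85 (.lin 4) (.splitN 46943 .sq (.splitN
    122857 (.split 2 670 (.split 4 601 (.split 6 (-623) (.lin 3) (.split 6 (-88) (.split 2 135
    (.lin 3) (.split 1 (-110) (.split 5 94 (.lin 4) (.splitN 54395 .sq (.split 6 (-98) (.split 2
    144 (.lin 3) (.split 1 (-119) (.split 5 103 (.lin 4) (.splitN 62495 .sq (.splitN 117230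
    (.split 2 634 (.split 4 547 (.split 6 (-587) (.lin 3) (.split 7 (-152) (.wt 1) (.split 4 160
    (.split 7 (-134) (.wt 1) (.split 4 142 (.splitN 110604 (.split 2 598 (.split 6 (-551) (.lin
    3) (.split 6 (-103) (.split 2 153 (.lin 3) (.split 1 (-128) (.split 5 112 (.lin 4) (.splitN
    71243 .sq (.split 7 (-91) (.wt 1) (.split 4 97 (.split 3 (-22) (.split 5 121 (.lin 7) (.split
    1 (-137) (.splitN 76184 .sq (.splitN 104239 (.split 2 562 (.split 6 (-515) (.lin 3) (.split 7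
    (-79) (.wt 0) (.split 4 88 (.split 7 (-68) (.wt 1) (.split 6 (-157) (.split 2 207 (.lin 3)
    (.split 1 (-191) (.split 5 175 (.lin 4) .sq) (.lin 11))) (.wt 2))) (.lin 12)))) (.div 2))
    (.wt 1))) (.lin 11))) (.wt 2)) (.lin 12))))) (.lin 11))) (.wt 2))) (.div 2)) (.wt 1)) (.lin
    12))) (.lin 12)))) (.lin 3)) (.div 2)) (.wt 1)))) (.lin 11))) (.wt 6)))) (.lin 11))) (.wt
    6))) (.lin 3)) (.div 2)) (.wt 1)))) (.lin 11))) (.wt 2))) (.lin 3)))) (.div 2)) (.wt 1)))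
    (.lin 11)) (.wt 2))) (.div 2)) (.wt 1)) (.lin 11))) (.wt 2))) (.div 2)) (.wt 1))) (.lin 3)))
    (.div 2)) (.wt 1))))

def cert5_12_3 : Cert :=
  (.split 3 (-99) (.split 4 240 (.lin 6) (.split 0 159 (.lin 7) (.split 1 (-164) (.splitN 152648
    .sq (.split 6 (-89) (.wt 2) (.split 7 (-159) (.wt 3) (.split 7 (-118) (.split 4 276 (.lin 6)
    (.split 2 180 (.lin 9) (.splitN 190232 .sq (.split 3 (-140) (.wt 0) (.split 4 367 (.wt 3)
    (.lin 6)))))) (.split 4 358 (.split 2 190 (.split 6 (-73) (.split 0 168 (.lin 7) (.split 2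
    153 (.lin 9) (.split 1 (-173) (.split 3 (-168) (.wt 2) (.split 0 241 (.split 3 (-160) (.wt 2)
    (.split 4 340 (.split 7 (-96) (.split 4 267 (.lin 6) (.split 2 171 (.lin 9) (.splitN 185453
    .sq (.split 3 (-138) (.wt 0) (.split 4 322 (.split 3 (-130) (.wt 0) (.split 0 205 (.split 3
    (-124) (.wt 0) (.split 4 304 (.split 6 (-81) (.wt 0) (.split 0 187 (.split 3 (-116) (.wt 0)
    (.split 4 286 (.split 7 (-106) (.wt 0) (.split 2 172 (.split 3 (-110) (.wt 2) (.split 1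
    (-174) (.lin 2) (.wt 2))) (.lin 9))) (.lin 6))) (.lin 7))) (.lin 6))) (.lin 7))) (.lin
    6)))))) (.split 4 322 (.split 2 172 (.split 3 (-128) (.split 1 (-191) (.split 4 276 (.lin 6)
    (.split 3 (-153) (.wt 2) (.split 0 223 (.split 1 (-228) (.lin 11) (.splitN 206788 (.wt 1)
    (.split 3 (-146) (.wt 2) (.split 4 304 (.split 6 (-76) (.wt 2) (.split 0 205 (.split 1 (-210)
    (.lin 11) (.split 7 (-91) (.wt 0) (.split 4 286 (.split 3 (-136) (.wt 2) (.split 0 195 (.lin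
    1) (.wt 2))) (.lin 6)))) (.lin 7))) (.lin 6))))) (.lin 7)))) (.lin 2)) (.split 0 205 (.split
    1 (-210) (.lin 2) (.split 4 286 (.split 6 (-78) (.splitN 252508 (.wt 6) (.split 1 (-199) (.wt
    0) (.split 0 187 (.wt 2) (.lin 4)))) (.split 0 187 (.split 2 163 (.split 1 (-192) (.lin 11)
    (.split 3 (-105) (.split 4 258 (.lin 6) (.split 0 177 (.lin 7) (.split 7 (-83) (.split 3
    (-118) (.wt 2) (.split 4 268 (.splitN 211273 (.wt 0) (.wt 1)) (.lin 6))) (.wt 2)))) (.wt 2)))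
    (.lin 9)) (.lin 7))) (.lin 6))) (.lin 1))) (.lin 9)) (.lin 6))) (.lin 6))) (.lin 7))) (.lin
    11)))) (.split 1 (-237) (.lin 11) (.split 3 (-124) (.split 4 267 (.lin 6) (.split 0 186 (.lin
    7) (.split 1 (-191) (.splitN 191528 .sq (.split 7 (-95) (.wt 1) (.split 2 154 (.wt 2) (.lin
    9)))) (.lin 11)))) (.wt 2)))) (.lin 9)) (.lin 6)))))) (.lin 11)))) (.split 4 340 (.split 0
    178 (.split 1 (-183) (.lin 11) (.split 7 (-123) (.split 2 189 (.lin 9) (.split 4 240 (.lin 6)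
    (.split 6 (-78) (.split 4 258 (.lin 6) (.split 0 132 (.lin 7) (.split 2 207 (.lin 9) (.split
    1 (-137) (.splitN 172817 .sq (.split 3 (-78) (.wt 0) (.split 4 322 (.split 0 160 (.split 3
    (-74) (.wt 0) (.split 6 (-84) (.split 1 (-146) (.split 3 (-64) (.wt 0) (.wt 1)) (.lin 11))
    (.wt 1))) (.lin 7)) (.lin 6)))) (.lin 11))))) (.split 4 322 (.split 2 235 (.split 1 (-165)
    (.lin 11) (.split 3 (-65) (.split 0 123 (.lin 7) (.split 1 (-128) (.split 3 (-68) (.split 4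
    258 (.lin 6) (.split 1 (-137) (.splitN 165365 .sq (.split 3 (-80) (.split 0 141 (.lin 7)
    (.split 1 (-146) (.splitN 167930 .sq (.wt 1)) (.lin 11))) (.wt 1))) (.lin 11))) (.wt 2))
    (.lin 11))) (.wt 2))) (.lin 9)) (.lin 6))))) (.split 4 295 (.split 2 208 (.split 6 (-78)
    (.split 4 213 (.lin 6) (.split 0 132 (.lin 7) (.split 2 162 (.lin 9) (.split 1 (-137) (.split
    3 (-57) (.split 0 141 (.lin 7) (.split 1 (-146) (.split 7 (-100) (.split 4 240 (.lin 6)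
    (.split 2 180 (.lin 9) (.split 3 (-87) (.wt 2) (.split 0 169 (.split 3 (-74) (.split 0 150
    (.lin 7) (.split 1 (-155) (.split 3 (-83) (.wt 2) (.split 4 277 (.split 0 160 (.split 1
    (-165) (.lin 11) (.split 6 (-87) (.wt 2) (.split 0 151 (.split 1 (-156) (.lin 11) (.splitN
    203394 (.splitN 176908 (.wt 1) (.split 7 (-103) (.split 4 258 (.lin 6) (.splitN 191655
    (.split 7 (-116) (.wt 0) (.wt 0)) (.wt 0))) (.wt 0))) (.wt 1))) (.lin 7)))) (.lin 7)) (.lin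
    6))) (.lin 11))) (.split 4 268 (.split 0 151 (.split 1 (-156) (.lin 11) (.splitN 216134
    (.split 6 (-85) (.split 0 150 (.lin 7) (.split 1 (-155) (.splitN 184043 (.wt 1) (.split 7
    (-114) (.wt 0) (.splitN 195123 (.wt 1) (.split 7 (-108) (.wt 0) (.wt 0))))) (.lin 11))) (.wt
    2)) (.wt 1))) (.lin 7)) (.lin 6))) (.lin 7))))) (.split 4 268 (.splitN 199800 (.wt 1) (.split
    3 (-79) (.split 0 159 (.lin 7) (.split 1 (-164) (.splitN 300246 (.split 6 (-89) (.wt 2)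
    .cand) (.wt 1)) (.lin 11))) (.split 0 160 (.split 1 (-165) (.lin 11) (.split 4 250 (.split 3
    (-66) (.split 4 231 (.lin 6) (.split 0 150 (.lin 7) (.split 6 (-86) (.split 0 159 (.lin 7)
    (.split 2 171 (.lin 9) (.split 1 (-164) (.splitN 253950 (.wt 6) (.split 7 (-86) (.wt 0)
    (.splitN 276652 (.wt 0) (.wt 1)))) (.lin 11)))) (.wt 2)))) (.wt 2)) (.lin 6))) (.lin 7))))
    (.lin 6))) (.lin 11))) (.wt 2)) (.lin 11))))) (.split 4 277 (.split 2 190 (.split 1 (-165)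
    (.lin 11) (.split 3 (-71) (.split 4 213 (.lin 6) (.split 0 132 (.lin 7) (.split 1 (-137)
    (.splitN 248503 (.split 7 (-83) (.split 3 (-79) (.split 4 231 (.lin 6) (.split 0 141 (.lin 7)
    (.split 6 (-69) (.split 0 150 (.lin 7) (.split 1 (-155) (.splitN 199904 (.split 7 (-98)
    (.split 4 249 (.lin 6) (.split 3 (-86) (.split 0 159 (.lin 7) (.split 1 (-164) (.splitN
    178532 (.split 7 (-111) (.split 2 189 (.lin 1) (.split 4 276 (.lin 0) .sq)) (.wt 0)) (.wt 6))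
    (.lin 11))) (.wt 2))) (.wt 0)) (.wt 6)) (.lin 11))) (.wt 2)))) (.wt 2)) (.wt 0)) (.wt 1))
    (.lin 11)))) (.wt 2))) (.lin 9)) (.lin 6))) (.lin 9)) (.lin 6)))) (.lin 7)) (.lin 6)))

def cert5_12_4 : Cert :=
  (.split 6 (-137) (.split 4 276 (.lin 6) (.split 0 195 (.lin 7) (.split 2 225 (.lin 9) (.split 1
    (-200) (.splitN 237131 .sq (.split 3 (-113) (.wt 0) (.split 0 394 (.split 3 (-88) (.wt 0)
    (.split 0 367 (.split 1 (-372) (.lin 11) (.split 7 (-111) (.wt 0) (.split 2 424 (.split 2 397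
    (.split 4 619 (.split 4 475 (.split 3 (-78) (.wt 0) (.split 0 244 (.wt 2) (.split 2 261 (.lin
    1) (.split 1 (-254) (.split 6 (-181) (.split 4 330 (.lin 8) (.splitN 347867 .sq (.wt 0)))
    (.lin 7)) (.lin 4))))) (.lin 6)) (.lin 0)) (.lin 9)) (.lin 1)))) (.lin 7))) (.lin 7)))) (.lin
    11))))) (.split 7 (-172) (.split 4 285 (.lin 6) (.split 2 234 (.lin 9) (.splitN 201248 .sq
    (.splitN 2280164 (.split 0 63290 (.split 1 (-25317) (.div 1) (.split 0 25306 (.split 2 12658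
    (.split 4 25316 (.splitN 2151608 (.split 2 11938 (.splitN 363653 (.split 0 10100 (.split 1
    (-4041) (.div 1) (.split 4 15901 (.split 2 2020 (.split 4 5983 (.split 4 4040 (.splitN 256953
    (.split 2 1426 (.split 4 2852 (.split 3 (-148) (.wt 0) (.split 0 277 (.split 1 (-282) (.lin
    11) (.split 4 1636 (.split 3 (-98) (.wt 0) (.split 0 223 (.split 3 (-90) (.wt 0) (.split 6
    (-97) (.wt 0) (.wt 1))) (.lin 7))) (.lin 0))) (.lin 7))) (.div 4)) (.div 2)) (.wt 3)) (.div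
    4)) (.lin 0)) (.div 2)) (.lin 0))) (.div 0)) (.wt 1)) (.div 2)) (.wt 0)) (.div 4)) (.div 2))
    (.lin 4))) (.div 0)) (.wt 0))))) (.split 2 298 (.splitN 7560000000 (.split 0 86947 (.split 3
    (-86970) (.lin 1) (.split 1 (-87186) (.lin 2) (.split 4 87415 (.splitN 420000000 (.split 0
    20491 (.split 3 (-20514) (.lin 1) (.split 1 (-20730) (.lin 2) (.split 4 20959 (.splitN
    103325740 (.split 0 10160 (.split 3 (-10182) (.lin 1) (.split 1 (-10398) (.lin 2) (.split 4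
    10627 (.splitN 51958762 (.split 0 7202 (.split 3 (-7221) (.lin 1) (.split 1 (-7437) (.lin 2)
    (.split 4 7666 (.splitN 37210828 (.split 0 6093 (.split 3 (-6114) (.lin 1) (.split 1 (-6330)
    (.lin 2) (.split 3 (-544) (.split 0 609 (.lin 7) (.split 1 (-614) (.split 4 690 (.lin 6)
    (.splitN 1562048 .sq (.wt 0))) (.lin 11))) (.split 0 673 (.split 4 835 (.split 3 (-175)
    (.split 0 240 (.lin 7) (.split 1 (-245) (.split 4 321 (.lin 6) (.splitN 286784 .sq (.split 3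
    (-414) (.wt 0) (.split 0 538 (.split 4 700 (.split 3 (-341) (.wt 0) (.split 0 466 (.wt 3)
    (.lin 7))) (.lin 6)) (.lin 7))))) (.lin 11))) (.split 0 304 (.split 1 (-309) (.lin 11)
    (.split 4 466 (.split 6 (-100) (.split 4 231 (.lin 6) (.split 0 150 (.lin 7) (.split 2 180
    (.lin 9) (.split 1 (-155) (.split 3 (-89) (.wt 2) (.split 4 376 (.split 0 214 (.split 1
    (-219) (.lin 11) (.split 3 (-78) (.wt 2) (.split 7 (-123) (.split 2 225 (.lin 9) (.split 4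
    276 (.lin 6) (.splitN 203921 .sq (.wt 3)))) (.split 4 322 (.split 7 (-100) (.split 4 249
    (.lin 6) (.split 2 198 (.lin 9) (.split 3 (-70) (.wt 2) (.split 6 (-121) (.wt 2) (.split 4
    295 (.split 0 178 (.split 3 (-65) (.wt 2) (.split 6 (-114) (.wt 2) (.split 0 160 (.split 1
    (-165) (.lin 11) (.splitN 231608 (.split 7 (-109) (.split 6 (-107) (.wt 2) (.wt 2)) (.splitN
    218164 (.wt 0) .cand)) (.wt 1))) (.lin 7)))) (.lin 7)) (.lin 6)))))) (.split 4 295 (.split 6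
    (-118) (.split 4 249 (.lin 6) (.split 0 168 (.lin 7) (.split 1 (-164) (.split 2 198 (.lin 9)
    (.split 1 (-173) (.splitN 245968 (.wt 1) (.split 3 (-74) (.wt 0) (.split 0 196 (.split 1
    (-201) (.lin 11) (.split 3 (-62) (.wt 2) (.split 4 277 (.split 6 (-132) (.wt 2) (.split 0 178
    (.split 1 (-183) (.lin 11) (.split 6 (-127) (.wt 2) (.split 4 259 (.split 0 169 (.split 2 208
    (.splitN 305417 (.split 7 (-83) (.splitN 254159 (.wt 1) (.wt 0)) (.wt 0)) (.wt 1)) (.lin 9))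
    (.lin 7)) (.lin 6)))) (.lin 7))) (.lin 6)))) (.lin 7)))) (.lin 11))) (.lin 8)))) (.split 4
    268 (.split 0 178 (.split 2 199 (.split 3 (-71) (.wt 2) (.split 0 169 (.split 1 (-174) (.lin
    11) (.split 3 (-61) (.split 0 159 (.lin 7) (.splitN 242301 (.wt 1) (.split 6 (-106) (.wt 2)
    (.split 4 250 (.split 0 160 (.splitN 286356 (.split 7 (-83) (.wt 0) (.wt 0)) (.wt 1)) (.lin
    7)) (.lin 6))))) (.wt 2))) (.lin 7))) (.lin 9)) (.lin 7)) (.lin 6))) (.lin 6))) (.lin 6)))))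
    (.lin 7)) (.lin 6))) (.lin 11))))) (.split 4 421 (.split 0 259 (.split 2 253 (.split 1 (-264)
    (.lin 11) cert5_12_3) (.lin 9)) (.lin 7)) (.lin 6))) (.lin 6))) (.lin 7))) (.lin 6)) (.lin
    7))))) .sq) (.wt 1)) (.lin 0)))) .sq) (.wt 1)) (.lin 0)))) .sq) (.wt 1)) (.lin 0)))) .sq)
    (.wt 1)) (.lin 0)))) .sq) (.wt 1)) (.lin 9))))

def cert5_12_5 : Cert :=
  (.split 6 (-78) (.split 4 249 (.lin 6) (.split 0 204 (.lin 7) (.split 2 126 (.lin 9) (.split 1
    (-209) (.split 3 (-264) (.split 1 (-344) (.split 4 375 (.lin 0) (.split 7 (-51) (.split 4 402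
    (.lin 6) (.split 2 135 (.lin 9) (.splitN 7718069 (.split 1 (-85725) (.div 1) (.split 4 85777
    (.split 0 85732 (.split 3 (-1390) (.wt 2) (.split 0 1474 (.split 1 (-1479) (.lin 2) (.split 4
    1537 (.split 0 360 (.wt 2) (.split 1 (-371) (.split 3 (-603) (.wt 2) (.split 0 682 (.split 1
    (-687) (.lin 2) (.split 4 745 (.splitN 840202 (.wt 1) (.split 3 (-547) (.wt 0) (.split 0 628
    (.split 1 (-633) (.lin 2) (.split 4 691 (.split 3 (-495) (.wt 0) (.split 0 574 (.split 1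
    (-579) (.lin 2) (.split 4 637 (.split 3 (-445) (.wt 0) (.split 0 529 (.split 1 (-534) (.lin
    2) (.split 4 592 (.splitN 903711 (.wt 1) (.split 3 (-373) (.wt 0) (.split 0 457 (.split 1
    (-462) (.lin 2) (.split 4 520 (.splitN 954304 (.wt 1) (.split 0 386 (.wt 0) (.split 3 (-308)
    (.wt 0) (.lin 1)))) (.lin 0))) (.lin 1)))) (.lin 0))) (.lin 1))) (.lin 0))) (.lin 1))) (.lin
    0))) (.lin 1)))) (.lin 0))) (.lin 1))) (.lin 4))) (.lin 0))) (.lin 1))) (.lin 3)) (.lin 0)))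
    (.wt 3)))) (.wt 1))) (.lin 2)) (.split 0 358 (.split 1 (-363) (.lin 2) (.split 4 421 (.split
    7 (-47) (.split 2 135 (.lin 9) (.split 3 (-196) (.split 1 (-281) (.split 4 321 (.lin 0)
    (.splitN 885124 (.wt 1) (.splitN 1409813 (.split 6 (-91) (.wt 1) (.split 4 394 (.split 0 340
    (.split 2 136 (.split 3 (-236) (.wt 2) (.split 0 304 (.split 1 (-309) (.lin 2) (.split 4 358
    (.split 3 (-214) (.wt 2) (.split 0 286 (.split 1 (-291) (.lin 2) (.split 4 340 (.splitN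
    1070242 .cand (.wt 0)) (.lin 0))) (.lin 1))) (.lin 0))) (.lin 1))) (.lin 9)) (.lin 7)) (.lin
    6))) (.wt 3)))) (.lin 2)) (.split 0 277 (.split 1 (-282) (.lin 2) (.split 4 340 (.split 3
    (-160) (.split 0 240 (.lin 1) (.split 1 (-245) (.split 4 285 (.lin 0) (.splitN 888888 (.wt 1)
    (.split 6 (-88) (.wt 2) (.split 4 322 (.split 2 136 (.splitN 1123829 (.split 3 (-173) (.split
    4 303 (.lin 6) (.split 3 (-182) (.split 0 258 (.lin 1) (.split 1 (-263) (.splitN 1056849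
    .cand (.wt 1)) (.lin 2))) (.split 1 (-255) (.lin 2) (.wt 0)))) (.wt 2)) (.wt 1)) (.lin 9))
    (.lin 6))))) (.lin 2))) (.split 0 241 (.split 1 (-246) (.lin 2) (.split 4 304 (.split 6 (-87)
    (.split 4 267 (.lin 6) (.split 2 144 (.lin 9) (.splitN 1259895 (.wt 1) (.split 3 (-144) (.wt
    0) (.split 0 223 (.split 1 (-228) (.lin 2) (.split 4 277 (.splitN 1448125 (.wt 6) (.split 0
    220 (.wt 0) (.split 3 (-137) (.wt 0) (.lin 1)))) (.lin 0))) (.lin 1)))))) (.split 2 136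
    (.splitN 1021115 (.split 0 211 (.split 3 (-129) (.lin 1) (.split 1 (-210) (.lin 2) (.wt 0)))
    (.wt 0)) (.wt 6)) (.lin 9))) (.lin 0))) (.lin 1))) (.lin 0))) (.lin 1)))) (.wt 3)) (.lin 0)))
    (.lin 1))) (.lin 11))))) (.split 2 127 (.split 3 (-172) (.split 0 222 (.lin 1) (.split 4 276
    (.lin 6) (.split 3 (-212) (.split 0 267 (.lin 1) (.split 4 321 (.lin 6) (.split 3 (-264)
    (.split 0 321 (.lin 1) (.split 1 (-326) (.split 4 357 (.lin 0) (.split 0 22392 (.split 3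
    (-22341) (.lin 1) (.split 1 (-22422) (.lin 2) (.split 0 9644 (.split 3 (-9588) (.lin 1)
    (.split 1 (-9669) (.lin 2) (.split 0 5492 (.split 3 (-5439) (.lin 1) (.split 1 (-5520) (.lin
    2) (.split 0 3490 (.split 3 (-3441) (.lin 1) (.split 1 (-3522) (.lin 2) (.split 0 2346
    (.split 3 (-2289) (.lin 1) (.split 1 (-2370) (.lin 2) (.split 0 1621 (.split 3 (-1569) (.lin
    1) (.split 1 (-1650) (.lin 2) (.split 0 1140 (.split 3 (-1083) (.lin 1) (.split 1 (-1164)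
    (.lin 2) (.split 7 (-47) (.split 4 384 (.lin 6) (.split 2 117 (.lin 9) (.split 0 765 (.split
    3 (-705) (.lin 1) (.split 1 (-777) (.lin 2) (.split 0 515 (.split 3 (-453) (.lin 1) (.split 1
    (-525) (.lin 2) (.split 4 583 (.splitN 847232 (.split 0 417 (.split 3 (-354) (.lin 1) (.split
    1 (-426) (.lin 2) (.wt 0))) (.wt 0)) (.wt 1)) (.lin 0)))) (.wt 2)))) (.wt 2)))) (.wt 0))))
    (.wt 2)))) (.wt 2)))) (.wt 2)))) (.wt 2)))) (.wt 2)))) (.wt 2)))) (.wt 2))) (.lin 2))) (.wt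
    2)))) (.wt 2)))) (.wt 2)) (.lin 9)))

def cert5_12_6 : Cert :=
  (.split 6 (-109) (.split 4 204 (.lin 6) (.split 0 159 (.lin 7) (.split 2 153 (.lin 9) (.split 1
    (-164) (.splitN 293119 (.wt 1) (.split 3 (-119) (.wt 6) (.split 7 (-47) (.split 2 162 (.lin
    9) (.split 3 (-105) (.wt 2) (.split 4 322 (.split 0 250 (.split 1 (-255) (.lin 11) (.split 3
    (-79) (.split 1 (-173) (.split 0 186 (.lin 7) (.split 1 (-191) (.split 4 240 (.lin 6)
    (.splitN 377864 (.wt 1) (.split 7 (-71) (.wt 0) (.split 3 (-99) (.wt 2) (.split 4 304 (.split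
    6 (-124) (.wt 2) (.split 4 268 (.split 0 205 (.split 1 (-219) (.lin 8) (.split 2 181 (.splitN
    680297 (.wt 6) (.split 7 (-62) (.wt 0) (.split 3 (-90) (.wt 2) (.split 4 250 (.split 1 (-201)
    (.lin 8) (.split 6 (-110) (.splitN 2471207 (.wt 1) (.wt 0)) (.wt 2))) (.lin 6))))) (.lin 9)))
    (.lin 7)) (.lin 6))) (.lin 6)))))) (.lin 11))) (.lin 2)) (.split 4 295 (.split 0 223 (.split
    1 (-228) (.lin 11) (.split 7 (-64) (.split 4 222 (.lin 6) (.split 2 171 (.lin 9) (.split 6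
    (-132) (.split 4 249 (.lin 6) (.split 0 186 (.lin 7) (.split 1 (-182) (.split 3 (-65) (.wt 2)
    (.split 4 277 (.split 0 205 (.split 1 (-210) (.lin 11) (.splitN 892421 (.split 7 (-69)
    (.splitN 468718 .cand (.wt 3)) (.split 6 (-141) (.split 1 (-200) (.split 6 (-149) (.split 4
    267 (.lin 6) (.split 0 204 (.lin 7) (.split 2 216 (.lin 9) (.splitN 872868 (.wt 0) (.wt
    1))))) (.wt 2)) (.lin 11)) (.wt 0))) (.wt 1))) (.lin 7)) (.lin 6))) (.lin 8)))) (.split 4 268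
    (.split 0 196 (.split 1 (-210) (.lin 8) (.split 2 199 (.split 3 (-65) (.split 0 168 (.lin 7)
    (.split 1 (-173) (.splitN 352050 (.wt 1) (.split 7 (-69) (.split 4 240 (.lin 6) (.splitN
    427437 (.split 3 (-74) (.wt 0) (.split 1 (-192) (.lin 2) (.split 6 (-126) (.wt 1) (.split 4
    250 (.split 0 178 (.splitN 402904 (.split 6 (-118) (.wt 1) (.split 1 (-174) (.lin 11)
    (.splitN 393858 (.wt 0) (.wt 1)))) (.wt 3)) (.lin 7)) (.lin 6))))) (.wt 3))) (.split 6 (-118)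
    (.split 4 240 (.lin 6) (.split 3 (-71) (.wt 2) (.split 4 250 (.split 1 (-192) (.lin 8)
    (.split 6 (-121) (.split 1 (-191) (.splitN 682313 (.wt 1) (.wt 0)) (.lin 11)) (.wt 2))) (.lin
    6)))) (.split 4 241 (.split 0 178 (.split 1 (-183) (.lin 8) (.split 2 172 (.splitN 633900
    (.split 3 (-69) (.split 0 177 (.lin 1) (.split 4 240 (.lin 3) (.splitN 602790 (.wt 1) (.wt
    0)))) (.wt 0)) (.wt 1)) (.lin 9))) (.lin 7)) (.lin 6))))) (.lin 11))) (.split 1 (-192) (.lin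
    2) (.splitN 445307 (.split 6 (-117) (.split 0 168 (.lin 7) (.wt 2)) (.wt 0)) (.wt 6)))) (.lin
    9))) (.lin 7)) (.lin 6))))) (.split 4 277 (.split 6 (-111) (.split 4 222 (.lin 6) (.split 0
    168 (.lin 7) (.split 1 (-173) (.split 2 171 (.lin 9) (.split 3 (-57) (.split 0 177 (.lin 1)
    (.split 6 (-136) (.split 4 249 (.lin 6) (.split 0 195 (.lin 7) (.split 6 (-152) (.wt 1)
    (.split 3 (-72) (.wt 2) (.split 4 259 (.split 1 (-210) (.lin 8) (.split 6 (-141) (.split 0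
    200 (.split 2 190 (.lin 3) (.lin 1)) (.wt 2)) (.wt 0))) (.lin 6)))))) (.split 4 250 (.split 0
    196 (.split 1 (-201) (.lin 8) (.split 2 181 (.splitN 200707964 (.split 3 (-66) (.split 1
    (-191) (.split 4 240 (.lin 6) (.split 6 (-119) (.splitN 4497813 (.wt 1) (.wt 0)) (.wt 2)))
    (.lin 2)) (.wt 0)) (.wt 1)) (.lin 9))) (.lin 7)) (.lin 6)))) (.wt 0))) (.lin 8)))) (.wt 2))
    (.lin 6)))) (.lin 7)) (.lin 6)))) (.lin 7)) (.lin 6)))) (.wt 3)))) (.lin 11))))) (.split 4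
    286 (.split 0 214 (.split 1 (-246) (.lin 8) (.split 2 172 (.split 1 (-219) (.lin 11) (.split
    7 (-60) (.split 4 177 (.lin 6) (.split 3 (-57) (.split 6 (-67) (.split 4 195 (.lin 6) (.split
    2 135 (.lin 9) (.split 3 (-92) (.split 0 150 (.lin 1) (.split 1 (-155) (.split 0 159 (.lin 7)
    (.split 1 (-164) (.split 4 222 (.lin 6) (.split 6 (-100) (.wt 2) (.split 2 163 (.split 6
    (-82) (.split 2 144 (.lin 9) (.split 1 (-173) (.split 7 (-69) (.split 4 240 (.lin 6) (.split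
    2 153 (.lin 9) (.splitN 464522 (.split 3 (-117) (.wt 2) (.split 0 196 (.split 1 (-201) (.lin
    2) (.split 4 268 (.split 6 (-90) (.wt 2) (.split 3 (-97) (.splitN 305996 (.wt 1) .cand) (.wt
    2))) (.lin 6))) (.lin 1))) (.wt 0)))) (.split 4 268 (.split 2 154 (.split 3 (-106) (.split 0
    186 (.lin 1) (.split 1 (-191) (.split 4 240 (.lin 0) (.split 6 (-89) (.wt 2) (.split 2 145
    (.split 1 (-201) (.lin 11) (.splitN 459216 (.split 3 (-116) (.split 4 258 (.lin 6) (.wt 0))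
    (.wt 0)) (.wt 1))) (.lin 9)))) (.lin 2))) (.split 0 187 (.split 1 (-192) (.lin 2) (.split 4
    250 (.split 6 (-85) (.split 4 240 (.lin 6) (.split 0 177 (.lin 7) (.split 2 153 (.lin 9)
    (.splitN 487291 (.wt 1) (.split 3 (-93) (.split 1 (-191) (.wt 0) (.lin 2)) (.wt 2)))))) (.wt
    2)) (.lin 6))) (.lin 1))) (.lin 9)) (.lin 6))) (.lin 11))) (.wt 2)) (.lin 9)))) (.lin 11)))
    (.lin 2))) (.split 0 187 (.split 1 (-192) (.lin 2) (.split 4 250 (.split 6 (-81) (.split 0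
    141 (.lin 7) (.split 2 144 (.lin 9) (.split 6 (-83) (.split 4 213 (.lin 6) (.split 2 153
    (.lin 9) (.splitN 290240 (.wt 1) (.split 3 (-67) (.split 0 159 (.lin 7) (.split 1 (-164)
    (.split 7 (-69) (.splitN 403418 .cand (.wt 1)) (.splitN 428322 (.wt 0) (.split 3 (-75)
    (.split 0 168 (.lin 1) (.split 1 (-173) (.split 4 231 (.lin 6) (.splitN 587823 (.split 6
    (-92) .cand (.wt 0)) (.wt 1))) (.lin 2))) (.wt 2)))) (.lin 11))) (.wt 2))))) (.wt 2)))) (.wt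
    2)) (.lin 6))) (.lin 1))))) (.wt 2)) (.wt 2))) (.split 4 268 (.split 2 154 (.split 3 (-58)
    (.split 4 168 (.lin 6) (.split 3 (-72) (.split 4 177 (.lin 6) (.split 0 132 (.lin 7) (.split
    3 (-75) (.split 6 (-66) (.split 4 195 (.lin 6) (.split 0 150 (.lin 7) (.split 1 (-155)
    (.split 7 (-47) (.split 2 126 (.lin 9) (.split 6 (-81) (.split 4 213 (.lin 6) (.split 0 159
    (.lin 7) (.split 2 135 (.lin 9) (.split 3 (-85) (.split 1 (-173) (.split 6 (-85) (.split 4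
    231 (.lin 6) (.split 0 177 (.lin 7) (.split 2 144 (.lin 9) (.split 3 (-106) (.split 0 195
    (.lin 1) (.split 1 (-200) (.split 4 249 (.lin 6) (.split 6 (-97) (.wt 2) (.split 2 145
    (.splitN 1486579 (.split 3 (-113) (.split 0 204 (.lin 1) (.wt 2)) (.wt 0)) (.wt 1)) (.lin
    9)))) (.lin 2))) (.split 0 196 (.split 1 (-201) (.lin 2) (.split 4 250 (.split 6 (-95)
    (.split 3 (-100) (.wt 2) (.wt 2)) (.wt 2)) (.lin 6))) (.lin 1)))))) (.wt 2)) (.lin 2)) (.wt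
    2))))) (.wt 2))) (.wt 0)) (.lin 11)))) (.wt 0)) (.wt 2)))) (.wt 2))) (.wt 0)) (.lin 9)) (.lin
    6)))) (.lin 9))) (.lin 7)) (.lin 6)))

def cert5_12_7 : Cert :=
  (.split 6 (-156) (.split 4 249 (.lin 6) (.split 0 213 (.lin 7) (.split 1 (-182) (.split 2 198
    (.lin 9) (.split 1 (-218) (.splitN 337249 (.wt 1) (.split 7 (-48) (.split 4 267 (.lin 6)
    (.split 2 216 (.lin 9) (.split 3 (-794) (.wt 0) (.split 0 1177 (.split 1 (-1182) (.lin 2)
    (.split 4 1231 (.splitN 361794 (.wt 1) (.split 3 (-315) (.wt 0) (.split 0 700 (.split 4 754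
    (.split 3 (-245) (.wt 0) (.split 4 682 (.split 3 (-79) (.wt 2) (.split 0 466 (.split 4 520
    (.split 6 (-289) (.wt 2) (.split 4 421 (.split 0 349 (.split 3 (-71) (.wt 2) (.split 6 (-252)
    (.wt 2) (.split 4 376 (.split 0 304 (.split 6 (-234) (.wt 2) (.split 0 286 (.split 7 (-73)
    (.wt 2) (.split 6 (-216) (.wt 6) (.split 4 331 (.split 0 268 (.split 1 (-273) (.lin 11)
    (.split 3 (-65) (.wt 6) (.split 7 (-60) (.split 6 (-179) (.wt 2) (.split 4 286 (.split 0 223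
    (.split 1 (-228) (.lin 8) (.splitN 833226 (.wt 1) (.split 6 (-166) (.wt 0) (.split 4 284 (.wt
    2) (.lin 6))))) (.lin 7)) (.lin 6))) (.wt 3)))) (.lin 7)) (.lin 6)))) (.lin 7))) (.lin 7))
    (.lin 6)))) (.lin 7)) (.lin 6))) (.lin 6)) (.lin 1))) (.lin 6))) (.lin 6)) (.lin 1)))) (.lin
    6))) (.lin 1))))) (.wt 1))) (.lin 11))) (.lin 8)))) (.split 2 226 (.split 7 (-38) (.split 4
    159 (.lin 6) (.split 2 108 (.lin 9) (.split 3 (-120) (.split 0 159 (.lin 1) (.split 1 (-164)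
    (.split 0 186 (.lin 7) (.split 1 (-191) (.split 4 231 (.lin 6) (.split 6 (-140) (.wt 6)
    (.split 2 208 (.split 6 (-100) (.split 2 144 (.lin 9) (.split 1 (-227) (.split 7 (-47)
    (.split 2 153 (.lin 9) (.split 0 260 (.wt 2) (.split 1 (-272) (.split 3 (-137) (.split 0 323
    (.wt 2) (.split 1 (-335) (.split 3 (-200) (.splitN 21936357 (.split 1 (-243729) (.div 1)
    (.split 4 243826 (.split 0 243808 (.splitN 20762576 (.split 1 (-230661) (.div 1) (.split 4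
    230758 (.split 0 230740 (.splitN 6346718 (.split 1 (-70497) (.div 1) (.split 4 70594 (.split
    0 70576 (.splitN 974949 (.wt 6) (.split 0 394 (.wt 0) (.split 1 (-407) (.split 3 (-272)
    (.splitN 1437731 (.split 1 (-15957) (.div 1) (.split 4 16054 (.wt 2) (.lin 0))) (.wt 0))
    (.lin 7)) (.lin 4)))) (.lin 3)) (.lin 0))) (.wt 3)) (.lin 3)) (.lin 0))) (.wt 0)) (.lin 3))
    (.lin 0))) (.wt 0)) (.lin 7)) (.lin 4))) (.lin 7)) (.lin 4)))) (.wt 1)) (.lin 11))) (.split 2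
    163 (.split 7 (-60) (.split 4 249 (.lin 6) (.split 2 126 (.lin 9) (.splitN 2082931 (.split 0
    1393 (.split 3 (-1344) (.lin 1) (.split 1 (-1443) (.lin 2) (.split 4 1537 (.splitN 1614119
    (.split 0 1212 (.split 3 (-1155) (.lin 1) (.split 4 1276 (.split 6 (-78) (.split 4 267 (.lin
    6) (.split 0 204 (.lin 7) (.split 2 144 (.lin 9) (.split 1 (-209) (.split 3 (-346) (.wt 2)
    (.split 0 439 (.split 1 (-444) (.lin 2) (.split 4 520 (.split 3 (-213) (.wt 2) (.split 0 304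
    (.split 1 (-309) (.lin 2) (.split 4 385 (.split 3 (-169) (.wt 2) (.split 0 259 (.split 4 322
    (.split 3 (-150) (.wt 2) (.split 0 241 (.split 1 (-246) (.lin 2) (.split 4 304 (.splitN
    312905 (.wt 1) (.split 7 (-72) (.wt 0) (.split 2 154 (.splitN 426171 (.wt 1) (.split 6 (-90)
    (.wt 0) (.split 4 286 (.split 0 223 (.split 2 145 (.split 3 (-135) (.wt 2) (.split 0 205
    (.split 1 (-210) (.lin 2) (.split 4 268 (.splitN 446327 (.wt 0) (.wt 0)) (.lin 0))) (.lin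
    1))) (.lin 9)) (.lin 7)) (.lin 6)))) (.lin 9)))) (.lin 6))) (.lin 1))) (.lin 6)) (.lin 1)))
    (.lin 0))) (.lin 1))) (.lin 0))) (.lin 1))) (.lin 11))))) (.split 2 145 (.splitN 618329
    (.split 0 690 (.split 3 (-633) (.lin 1) (.split 1 (-714) (.lin 2) (.split 4 790 (.splitN
    575145 (.split 4 679 (.split 3 (-552) (.lin 6) (.split 3 (-266) (.split 0 321 (.lin 1)
    (.split 1 (-326) (.split 4 375 (.lin 0) (.splitN 449666 .sq (.wt 1))) (.lin 2))) (.split 0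
    340 (.split 1 (-345) (.lin 2) (.split 4 421 (.split 3 (-196) (.split 0 249 (.lin 1) (.split 1
    (-254) (.split 4 303 (.lin 0) (.split 4 321 (.lin 6) (.split 6 (-66) (.split 0 267 (.lin 7)
    (.split 2 135 (.lin 9) (.split 1 (-272) (.splitN 317438 .sq (.split 7 (-73) (.wt 0) (.split 4
    394 (.split 2 136 (.split 3 (-218) (.split 0 285 (.lin 1) (.split 1 (-290) (.split 4 348
    (.lin 0) (.splitN 405303 (.split 0 328 (.split 1 (-327) (.lin 4) (.split 3 (-237) (.split 1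
    (-317) (.split 4 375 (.lin 0) .sq) (.lin 2)) (.wt 2))) (.wt 2)) (.wt 1))) (.lin 2))) (.wt 2))
    (.lin 9)) (.lin 6)))) (.lin 11)))) (.wt 2)))) (.lin 2))) (.split 1 (-273) (.lin 2) (.split 4
    331 (.splitN 435504 (.splitN 246786 (.wt 3) (.split 6 (-66) .cand (.wt 2))) (.wt 1)) (.lin
    6)))) (.lin 0))) (.lin 1)))) .sq) (.wt 1)) (.lin 0)))) .sq) (.wt 1)) (.lin 9))) (.lin 12)))
    .sq) (.wt 1)) (.lin 0)))) .sq) (.wt 1)))) (.split 2 145 cert5_12_5 (.lin 9))) (.lin 9)))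
    (.lin 9)))) (.lin 11))) (.lin 2))) (.split 0 295 (.split 1 (-300) (.lin 2) (.split 0 268
    (.split 1 (-273) (.lin 11) (.split 4 340 cert5_12_6 (.lin 6))) (.lin 7))) (.lin 1))))) (.wt
    3)) (.lin 9)))

def cert5_12_8 : Cert :=
  (.split 3 (-34) (.split 4 195 (.lin 6) (.split 0 96 (.lin 7) (.split 1 (-101) (.splitN 2978136
    (.split 2 16528 (.split 0 16468 (.split 6 (-16436) (.lin 7) (.split 4 16567 (.splitN 2748258
    (.split 2 15268 (.split 0 15208 (.split 6 (-15176) (.lin 7) (.split 4 15307 (.split 6 (-67)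
    (.split 0 105 (.lin 7) (.split 2 171 (.lin 9) (.split 1 (-110) (.splitN 108134 .sq (.splitN
    1872213 (.split 2 10390 (.split 0 10330 (.split 6 (-10298) (.lin 7) (.split 4 10429 (.split 6
    (-74) (.split 4 213 (.lin 6) (.split 0 114 (.lin 7) (.split 1 (-119) (.splitN 120959 .sq
    (.splitN 1448229 (.split 2 8032 (.split 4 8071 (.split 0 1156 (.split 6 (-1118) (.lin 7)
    (.splitN 1025501 (.split 2 5692 (.split 4 5731 (.split 0 957 (.split 1 (-957) (.lin 4)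
    (.split 6 (-920) (.lin 7) (.splitN 953522 (.split 2 928 (.split 4 1798 (.split 0 871 (.split
    7 (-857) (.lin 1) (.split 6 (-839) (.lin 7) (.split 4 970 (.splitN 846552 (.split 2 868
    (.split 4 907 (.split 6 (-253) (.split 4 384 (.lin 6) (.split 0 285 (.lin 7) (.split 2 351
    (.lin 9) (.split 1 (-290) (.splitN 513503 .sq (.wt 1)) (.lin 11))))) (.split 0 286 (.split 1
    (-291) (.lin 11) (.split 6 (-83) (.split 0 123 (.lin 7) (.split 2 189 (.lin 9) (.split 1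
    (-128) (.splitN 428134 (.split 2 572 (.split 4 610 (.split 4 580 (.split 6 (-168) (.split 4
    303 (.lin 6) (.split 0 204 (.lin 7) (.split 2 270 (.lin 9) (.split 1 (-209) (.splitN 292616
    .sq (.split 3 (-47) (.wt 0) (.wt 1))) (.lin 11))))) (.split 1 (-210) (.lin 11) (.splitN
    320121 (.split 4 480 (.split 2 442 (.split 7 (-188) (.split 2 270 (.lin 1) (.split 4 312
    (.lin 6) (.splitN 249020 .sq (.wt 1)))) (.split 4 385 (.split 6 (-96) (.split 4 231 (.lin 6)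
    (.split 0 132 (.lin 7) (.split 1 (-137) (.splitN 147851 .sq (.split 6 (-101) (.split 0 141
    (.lin 7) (.split 2 207 (.lin 9) (.split 1 (-146) (.split 7 (-141) (.split 2 243 (.lin 1)
    (.split 4 285 (.lin 6) (.splitN 217187 .sq (.wt 1)))) (.split 6 (-111) (.split 4 249 (.lin 6)
    (.split 0 150 (.lin 7) (.split 1 (-155) (.splitN 177983 .sq (.split 3 (-39) .cand (.wt 2)))
    (.lin 11)))) (.wt 2))) (.lin 11)))) (.wt 6))) (.lin 11)))) (.wt 2)) (.lin 6))) (.lin 10))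
    .sq) (.wt 1)))) .sq) (.lin 10)) .sq) (.wt 1)) (.lin 11)))) (.wt 6))) (.lin 7))) (.lin 10))
    .sq) (.wt 1)) (.lin 10)))) (.lin 1)) (.lin 0)) .sq) (.wt 1)))) .sq) (.lin 10)) (.div 2)) (.wt
    1))) .sq) (.lin 10)) (.div 2)) (.wt 1))) (.lin 11)))) (.wt 6)) (.lin 10))) (.lin 1)) (.div
    2)) (.wt 1))) (.lin 11)))) (.wt 2)) (.lin 10))) (.lin 1)) (.div 2)) (.wt 1)) (.lin 10)))
    (.lin 1)) (.div 2)) (.wt 1)) (.lin 11)))) (.splitN 744485 (.split 2 4126 (.split 0 4048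
    (.split 6 (-4034) (.lin 7) (.split 4 4147 (.splitN 686222 (.split 2 3802 (.split 0 3724
    (.split 6 (-3710) (.lin 7) (.split 4 3823 (.split 6 (-118) (.split 4 231 (.lin 6) (.split 0
    132 (.lin 7) (.split 2 216 (.lin 9) (.split 1 (-137) (.splitN 161720 .sq (.splitN 407755
    (.split 2 2254 (.split 0 2176 (.split 1 (-2181) (.lin 2) (.split 6 (-2162) (.lin 7) (.split 4
    2275 (.split 7 (-549) (.wt 1) (.split 0 1635 (.split 1 (-1632) (.lin 4) (.split 6 (-1613)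
    (.lin 7) (.split 7 (-512) (.wt 1) (.split 0 982 (.split 1 (-984) (.lin 4) (.split 6 (-965)
    (.lin 7) (.split 4 1492 (.split 7 (-428) (.wt 1) (.split 2 1387 (.split 0 472 (.split 2 874
    (.split 1 (-471) (.lin 4) (.split 6 (-452) (.lin 7) (.split 4 898 (.splitN 278979 (.split 7
    (-108) (.split 7 (-295) (.wt 1) (.splitN 248902 (.split 3 (-22) (.split 4 249 (.lin 6)
    (.split 0 141 (.lin 7) (.splitN 210220 (.split 6 (-121) (.split 0 150 (.lin 7) (.split 2 234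
    (.lin 9) (.split 1 (-155) (.splitN 193427 .sq (.wt 6)) (.lin 11)))) (.wt 0)) (.wt 6)))) (.wt
    0)) (.wt 6))) (.wt 0)) (.wt 6)) (.lin 6)))) (.lin 1)) (.wt 2)) (.lin 1))) (.lin 6)))) (.wt
    2))))) (.wt 2))) (.lin 10)))) (.lin 1)) (.div 2)) (.wt 1))) (.lin 11))))) (.wt 2)) (.lin
    10))) (.lin 1)) (.div 2)) (.wt 1)) (.lin 10))) (.lin 1)) (.div 2)) (.wt 1)))

def cert5_12_9 : Cert :=
  (.split 6 (-244) (.split 4 321 (.lin 6) (.split 0 267 (.lin 7) (.split 1 (-236) (.split 2 297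
    (.lin 9) (.split 1 (-272) (.split 3 (-31) (.split 7 (-73) (.split 4 348 (.lin 6) (.split 2
    315 (.lin 9) (.splitN 433799 .sq (.split 6 (-496) (.split 4 600 (.lin 6) (.split 0 528 (.lin
    7) (.split 1 (-515) (.split 2 567 (.lin 9) (.splitN 1481705 .sq (.split 3 (-44) (.wt 0) (.wt
    1)))) (.lin 8)))) (.split 4 619 (.split 0 529 (.split 1 (-552) (.lin 8) (.split 2 577 (.split
    3 (-43) (.split 1 (-290) (.split 7 (-83) (.wt 0) (.split 0 296 (.wt 2) (.split 2 333 (.lin 1)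
    (.split 1 (-308) (.split 6 (-262) (.split 4 375 (.lin 6) (.splitN 516419 .sq (.split 6 (-395)
    (.wt 0) (.split 4 511 (.split 0 430 (.split 6 (-327) (.wt 0) (.split 4 448 (.split 0 367 (.wt
    2) (.lin 7)) (.lin 6))) (.lin 7)) (.lin 6))))) (.lin 7)) (.lin 4))))) (.lin 11)) (.split 7
    (-86) (.wt 1) (.split 0 336 (.split 2 379 (.split 1 (-345) (.lin 2) (.split 6 (-299) (.lin 7)
    (.split 4 412 (.splitN 536637 (.wt 0) (.wt 1)) (.lin 6)))) (.lin 1)) (.wt 2)))) (.lin 9)))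
    (.lin 7)) (.lin 6)))))) (.split 6 (-496) (.split 4 582 (.lin 6) (.split 0 528 (.lin 7)
    (.split 1 (-524) (.split 2 549 (.lin 9) (.splitN 1447316 .sq (.split 3 (-43) (.split 7 (-57)
    (.splitN 10704499 (.split 2 59458 (.split 0 59434 (.split 6 (-59393) (.lin 7) (.split 4 59497
    (.splitN 10018188 (.split 2 55642 (.split 0 55618 (.split 6 (-55577) (.lin 7) (.split 4 55681
    (.split 6 (-2596) (.wt 0) (.split 4 2698 (.split 0 2635 (.split 2 2656 (.split 6 (-1170) (.wt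
    0) (.split 4 1267 (.split 0 1204 (.split 2 1225 (.splitN 2493170 (.splitN 2221460 (.wt 6)
    (.split 0 1044 (.wt 0) (.split 6 (-1009) (.split 4 1113 (.lin 6) .sq) (.lin 7)))) (.wt 0))
    (.lin 9)) (.lin 7)) (.lin 6))) (.lin 9)) (.lin 7)) (.lin 6))) (.lin 6))) (.lin 1)) (.div 2))
    (.wt 3)) (.lin 6))) (.lin 1)) (.div 2)) (.wt 3)) (.wt 1)) (.split 0 2530 (.split 2 2557
    (.split 1 (-2541) (.lin 2) (.split 6 (-4511) (.lin 0) (.wt 2))) (.lin 1)) (.wt 0))))) (.lin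
    8)))) (.split 4 592 (.split 0 529 (.split 1 (-543) (.lin 8) (.split 3 (-40) (.split 0 285
    (.lin 7) (.split 1 (-290) (.split 7 (-56) (.split 6 (-401) (.wt 2) (.split 4 502 (.split 0
    439 (.split 1 (-444) (.lin 8) (.split 6 (-256) (.split 4 366 (.lin 6) (.split 0 303 (.lin 7)
    (.split 1 (-308) (.split 6 (-355) (.wt 2) (.split 4 457 (.split 0 394 (.split 1 (-399) (.lin
    8) (.split 6 (-333) (.wt 2) (.split 4 430 (.split 0 367 (.split 1 (-372) (.lin 8) (.split 2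
    388 (.split 6 (-273) (.split 0 321 (.lin 7) (.split 2 342 (.lin 9) (.split 1 (-326) (.splitN
    1121717 (.wt 1) (.split 6 (-315) (.wt 2) (.split 6 (-294) (.split 4 402 (.lin 6) (.split 1
    (-344) (.splitN 1259545 (.wt 1) (.split 0 353 (.splitN 1414901 .cand (.wt 3)) (.lin 7)))
    (.lin 8))) (.split 4 394 (.split 2 352 (.splitN 1317111 .cand (.wt 1)) (.lin 9)) (.lin 6)))))
    (.lin 11)))) (.wt 2)) (.lin 9))) (.lin 7)) (.lin 6)))) (.lin 7)) (.lin 6))) (.lin 8)))) (.wt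
    2))) (.lin 7)) (.lin 6))) (.wt 3)) (.lin 11))) (.wt 2))) (.lin 7)) (.lin 6)))) (.wt 2)) (.lin
    11))) (.lin 8)))) (.split 4 367 (.split 0 277 (.split 1 (-318) (.lin 8) (.split 2 325 (.split
    1 (-282) (.lin 11) (.split 3 (-36) (.split 0 150 (.lin 7) (.split 6 (-129) (.split 4 222
    (.lin 6) (.split 0 168 (.lin 7) (.split 2 189 (.lin 9) (.split 6 (-139) (.split 0 177 (.lin
    7) (.split 7 (-56) (.split 4 240 (.lin 6) (.split 7 (-78) (.split 4 258 (.lin 6) (.split 3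
    (-43) (.split 1 (-191) (.splitN 245808 (.wt 1) (.split 6 (-214) (.wt 2) (.split 4 340
    (.splitN 430001 .cand (.wt 1)) (.lin 6)))) (.lin 11)) (.wt 2))) (.split 2 307 (.splitN 391652
    (.wt 3) (.split 3 (-41) (.split 6 (-170) (.split 4 276 (.lin 6) (.split 0 213 (.lin 7)
    (.split 6 (-191) (.split 4 303 (.lin 6) (.split 0 240 (.lin 7) (.split 1 (-236) (.split 7
    (-65) (.splitN 589450 .cand (.wt 1)) (.wt 2)) (.lin 8)))) (.wt 2)))) (.wt 2)) (.wt 2))) (.lin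
    9)))) (.wt 0))) (.wt 2))))) (.wt 2))) (.wt 2))) (.lin 9))) (.lin 7)) (.lin 6)))

def cert5_12_10 : Cert :=
  (.split 0 51 (.split 5 58 (.lin 4) (.split 4 97 (.splitN 2320204 (.split 1 (-25749) (.div 1)
    (.split 2 25759 (.split 2 12874 (.split 6 (-12863) (.lin 3) (.split 5 12874 (.split 3
    (-12873) (.lin 1) (.splitN 2133784 (.split 2 11848 (.split 6 (-11837) (.lin 3) (.split 5
    11848 (.split 3 (-11847) (.lin 1) (.split 3 (-40) (.split 5 67 (.lin 7) (.split 1 (-110)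
    (.splitN 1349196 (.split 2 7492 (.split 6 (-7481) (.lin 3) (.split 5 7492 (.split 3 (-7491)
    (.lin 1) (.split 6 (-70) (.split 5 76 (.lin 7) (.split 2 99 (.lin 9) (.split 1 (-119)
    (.splitN 1023304 (.split 5 5674 (.split 1 (-5736) (.lin 8) (.split 1 (-997) .sq (.split 2
    1000 (.split 5 1868 (.split 3 (-1866) (.lin 6) (.split 3 (-948) (.lin 2) (.split 6 (-992)
    (.lin 3) (.split 6 (-76) (.split 5 85 (.lin 7) (.split 2 108 (.lin 9) (.split 1 (-128)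
    (.splitN 633404 (.split 1 (-775) .sq (.split 2 775 (.split 3 (-714) (.lin 2) (.split 6 (-767)
    (.lin 3) (.split 5 743 (.split 6 (-722) (.lin 11) (.split 3 (-48) (.split 5 94 (.lin 7)
    (.split 1 (-137) (.splitN 526584 (.split 1 (-701) .sq (.split 3 (-642) (.lin 2) (.split 5 671
    (.split 6 (-659) (.lin 7) (.split 7 (-42) (.split 2 126 (.lin 9) (.split 4 69 (.lin 12)
    (.splitN 123024 (.split 6 (-87) (.split 5 103 (.lin 7) (.split 2 135 (.lin 9) (.split 1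
    (-146) (.split 3 (-606) (.lin 11) (.split 0 42 (.split 5 112 (.lin 4) (.split 4 88 (.split 1
    (-266) .sq (.split 2 262 (.split 5 365 (.split 3 (-318) (.lin 6) (.split 3 (-183) (.lin 2)
    (.split 5 239 (.split 6 (-209) (.lin 11) (.split 0 29 (.split 4 79 (.split 3 (-86) (.split 2
    226 (.split 1 (-173) (.split 6 (-182) (.lin 3) (.split 5 157 (.lin 7) (.splitN 97775 .sq (.wt
    1)))) (.lin 2)) (.lin 1)) (.wt 2)) (.lin 12)) (.wt 2))) (.lin 4)))) (.lin 0)) (.lin 2)))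
    (.lin 12))) (.wt 2))) (.lin 11)))) (.wt 2)) (.wt 1)))) (.split 0 36 (.split 4 70 (.split 3
    (-71) (.split 5 112 (.lin 1) (.split 2 658 (.split 6 (-623) (.lin 11) (.split 6 (-115)
    (.split 3 (-597) (.lin 6) (.split 2 144 (.lin 9) (.split 1 (-191) (.split 5 148 (.lin 1)
    (.split 5 157 (.lin 4) (.split 3 (-76) (.split 6 (-121) (.split 5 175 (.lin 7) (.split 2 153
    (.lin 9) (.split 1 (-209) (.splitN 125504 .sq (.split 0 33 (.split 4 61 (.split 6 (-135)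
    (.split 2 162 (.lin 3) (.split 3 (-561) (.lin 7) (.split 5 193 (.lin 7) (.splitN 137384 .sq
    (.split 3 (-86) (.split 1 (-227) (.splitN 146807 .sq (.split 7 (-36) (.wt 1) (.split 4 52
    (.splitN 282500 (.splitN 182476 (.wt 3) (.split 3 (-107) (.split 5 220 (.lin 1) (.split 6
    (-151) (.split 2 180 (.lin 3) (.split 1 (-263) (.split 5 238 (.lin 1) (.splitN 198980 .sq
    (.split 6 (-191) (.split 2 225 (.lin 3) (.split 1 (-308) (.split 5 283 (.lin 1) .sq) (.lin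
    11))) (.wt 1)))) (.lin 11))) (.wt 1))) (.wt 0))) (.wt 1)) (.lin 12)))) (.lin 11)) (.wt
    6)))))) (.wt 6)) (.lin 12)) (.wt 6))) (.lin 11)))) (.wt 2)) (.wt 2)))) (.lin 11)))) (.wt 2)))
    (.lin 2))) (.wt 2)) (.lin 12)) (.wt 2)))) (.lin 4)))) (.wt 1)) (.lin 11))) (.wt 2))) (.lin
    4)))) (.lin 2))) (.wt 1)) (.lin 11)))) (.wt 2))))) (.lin 0)) (.lin 2)))) (.div 5)) (.wt 1))
    (.lin 11)))) (.wt 2))) (.div 5))) (.div 2)) (.wt 1)) (.lin 11))) (.wt 2))) (.div 5))) (.div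
    2)) (.wt 1))) (.div 5))) (.div 2)) (.lin 2))) (.wt 1)) (.lin 12))) (.split 4 78 (.lin 12)
    (.splitN 43531669 (.split 2 241834 (.split 6 (-241859) (.lin 3) (.split 5 241834 (.split 3
    (-241896) (.lin 1) (.splitN 40070671 (.split 2 222610 (.split 6 (-222635) (.lin 3) (.split 5
    222610 (.split 3 (-222672) (.lin 1) (.split 0 91 (.split 4 142 (.splitN 10529247 (.split 2
    58486 (.split 6 (-58493) (.lin 3) (.split 5 58486 (.split 3 (-58530) (.lin 1) (.splitN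
    9890972 (.split 2 54940 (.split 6 (-54947) (.lin 3) (.split 3 (-121) (.split 5 76 (.lin 1)
    (.split 1 (-191) (.split 5 103 (.lin 4) (.splitN 285780 (.split 2 1570 (.split 6 (-1577)
    (.lin 3) (.wt 2)) (.div 2)) (.wt 1))) (.lin 11))) (.wt 2))) (.div 2)) (.wt 1))) (.div 5)))
    (.div 2)) (.wt 1)) (.lin 12)) (.wt 2))) (.div 5))) (.div 2)) (.wt 1))) (.div 5))) (.div 2))
    (.wt 1))))

def cert5_12_11 : Cert :=
  (.split 5 18 (.split 0 69 (.lin 4) (.split 4 96 (.lin 6) (.split 7 (-29) (.split 4 105 (.lin 6)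
    (.split 2 99 (.lin 9) (.split 3 (-48) (.split 4 141 (.lin 6) (.split 0 105 (.lin 7) (.split 1
    (-119) (.split 7 (-82) (.split 4 186 (.lin 6) (.split 2 144 (.lin 9) (.splitN 95372 .sq
    (.split 5 9 (.split 0 114 (.lin 4) (.split 6 (-290) (.wt 2) cert5_12_4)) (.splitN 116427
    (.split 2 634 (.split 6 (-551) (.lin 9) (.split 4 1268 (.splitN 106023 (.split 2 580 (.split
    6 (-497) (.lin 9) (.split 4 1160 (.split 3 (-1029) (.lin 6) (.split 0 315 (.split 3 (-264)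
    (.lin 7) (.split 6 (-272) (.lin 7) (.wt 1))) (.wt 1))) (.div 4))) (.div 2)) (.wt 1)) (.div
    4))) (.div 2)) (.wt 1)))))) (.split 5 9 (.split 0 114 (.lin 4) (.split 4 150 (.lin 6) (.split
    6 (-386) (.split 4 474 (.lin 6) (.split 0 438 (.lin 7) (.split 1 (-407) (.split 2 423 (.lin
    9) (.split 1 (-443) (.splitN 949445 .sq (.split 7 (-66) (.wt 0) (.splitN 1574726 (.wt 1)
    (.split 7 (-63) (.wt 0) (.wt 1))))) (.lin 11))) (.lin 8)))) (.split 2 451 cert5_12_7 (.lin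
    9))))) (.splitN 487951 (.split 0 13520 (.split 1 (-13530) (.lin 4) (.split 1 (-5409) (.div 1)
    (.split 0 5389 (.split 3 (-5376) (.lin 1) (.split 4 5461 (.split 2 2704 (.split 6 (-2666)
    (.lin 9) (.splitN 449131 (.split 1 (-4977) (.div 1) (.split 3 (-4944) (.lin 2) (.split 2 2488
    (.split 6 (-2450) (.lin 9) (.splitN 363045 (.split 1 (-4005) (.div 1) (.split 3 (-3972) (.lin
    2) (.split 2 2002 (.split 6 (-1964) (.lin 9) (.splitN 323639 (.split 1 (-3573) (.div 1)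
    (.split 3 (-3540) (.lin 2) (.split 2 1786 (.split 6 (-1748) (.lin 9) (.splitN 303164 (.split
    1 (-3357) (.div 1) (.split 4 3409 (.split 2 1678 (.split 6 (-1640) (.lin 9) (.split 7 (-39)
    (.split 4 150 (.lin 6) (.split 2 108 (.lin 9) (.splitN 214210 (.split 1 (-2349) (.div 1)
    (.split 3 (-2307) (.lin 2) (.split 2 1174 (.split 6 (-1127) (.lin 9) (.split 6 (-66) (.split
    4 159 (.lin 6) (.split 0 114 (.lin 7) (.split 2 117 (.lin 9) (.splitN 179209 (.split 1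
    (-1989) (.div 1) (.split 3 (-1938) (.lin 2) (.split 2 994 (.split 6 (-947) (.lin 9) (.splitN
    162896 (.split 1 (-1809) (.div 1) (.split 3 (-1758) (.lin 2) (.split 2 904 (.split 6 (-857)
    (.lin 9) (.splitN 153749 (.split 1 (-1701) (.div 1) (.split 3 (-1650) (.lin 2) (.split 2 850
    (.split 6 (-803) (.lin 9) (.split 3 (-80) (.split 4 186 (.lin 6) (.split 0 141 (.lin 7)
    (.splitN 107835 (.split 2 598 (.split 6 (-551) (.lin 9) (.wt 2)) (.div 2)) (.wt 6)))) (.wt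
    0))) (.div 2)))) (.wt 6))) (.div 2)))) (.wt 6))) (.div 2)))) (.wt 6))))) (.wt 0))) (.div
    2)))) (.wt 1)))) (.wt 0))) (.div 2)) (.lin 8))) (.wt 6))) (.div 2)))) (.wt 6))) (.div 2))))
    (.wt 6))) (.div 2)))) (.wt 1))) (.div 2)) (.lin 8))) (.lin 4)))) (.div 0)) (.wt 1)))) (.lin
    11)))) (.split 5 13 (.split 0 78 (.lin 4) (.split 4 114 (.lin 6) (.split 7 (-43) (.split 7
    (-100) (.split 4 177 (.lin 6) cert5_12_8) (.split 3 (-23) (.split 0 87 (.lin 7) (.split 6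
    (-86) (.split 4 159 (.lin 6) (.split 0 114 (.lin 7) (.split 2 135 (.lin 9) (.split 6 (-101)
    (.split 4 177 (.lin 6) (.split 0 132 (.lin 7) (.split 2 153 (.lin 9) (.split 1 (-137) (.split
    6 (-110) (.split 7 (-48) (.split 4 195 (.lin 6) (.split 2 171 (.lin 9) cert5_12_9)) (.wt 3))
    (.wt 2)) (.lin 11))))) (.wt 2))))) (.wt 2))) (.wt 2))) (.wt 3)))) (.wt 2))))) (.wt 3))))
    (.split 3 (-23) (.split 1 (-92) (.split 7 (-64) (.split 2 126 (.lin 9) (.split 4 87 (.lin 12)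
    (.splitN 167933 (.split 1 (-1845) (.div 1) (.split 2 922 (.split 4 2671 (.split 6 (-857)
    (.lin 9) (.split 4 1844 (.splitN 153829 (.split 1 (-345) .sq (.split 3 (-282) (.lin 11)
    (.split 6 (-317) (.lin 11) (.splitN 132105 (.split 2 724 (.split 7 (-659) (.lin 9) (.split 1
    (-311) .sq (.split 3 (-246) (.lin 11) (.split 3 (-30) (.split 1 (-101) (.split 2 318 (.split
    6 (-254) (.lin 9) (.split 7 (-254) (.lin 9) (.split 0 72 (.split 5 31 (.lin 4) (.split 0 59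
    (.split 5 49 (.lin 4) (.split 0 51 (.split 3 (-41) (.split 5 67 (.lin 7) (.split 1 (-110)
    (.split 6 (-65) (.split 4 286 (.split 2 135 (.lin 9) (.split 1 (-119) (.split 5 76 (.lin 4)
    (.splitN 58589 .sq (.split 6 (-75) (.split 5 85 (.lin 7) (.split 2 144 (.lin 9) (.split 1
    (-128) (.split 3 (-228) (.lin 11) (.splitN 66203 .sq (.split 7 (-122) (.wt 1) (.split 4 160
    (.split 7 (-114) (.wt 1) (.split 0 39 (.split 5 94 (.lin 4) (.split 4 142 (.split 6 (-83)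
    (.split 5 103 (.lin 7) (.split 2 153 (.lin 9) (.split 1 (-137) (.splitN 76256 .sq (.splitN
    84557 (.split 0 31 (.split 5 112 (.lin 4) (.split 4 133 (.split 3 (-85) (.split 5 157 (.lin
    7) .sq) (.wt 1)) (.lin 12))) (.wt 1)) (.wt 1))) (.lin 11)))) (.wt 1)) (.lin 12))) (.wt 2)))
    (.lin 12))))) (.lin 11)))) (.wt 6)))) (.lin 11))) (.lin 3)) (.wt 2)) (.lin 11))) (.wt 2))
    (.wt 2))) (.wt 2))) (.wt 2)))) .sq) (.lin 11)) (.wt 2))))) (.div 2)) (.wt 1))))) (.wt 1))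
    (.div 4))) (.lin 0)) (.div 2))) (.wt 1)))) (.split 0 112 (.split 4 160 (.split 3 (-32)
    (.split 1 (-101) cert5_12_10 (.lin 11)) (.wt 2)) (.lin 12)) (.wt 2))) (.lin 11)) (.wt 2)))

def cert5_12_12 : Cert :=
  (.split 5 18 (.split 4 60 (.lin 6) (.split 3 (-26) (.split 0 42 (.lin 7) (.split 7 (-30)
    (.split 3 (-32) (.split 4 87 (.lin 6) (.split 0 51 (.lin 7) (.split 1 (-65) (.split 5 11
    (.split 0 60 (.lin 4) (.split 4 96 (.lin 6) (.split 3 (-42) (.split 4 105 (.lin 6) (.split 0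
    69 (.lin 7) (.split 6 (-32) (.split 4 114 (.lin 6) (.split 0 78 (.lin 7) (.split 7 (-38)
    (.split 2 81 (.lin 9) (.split 3 (-52) (.split 0 87 (.lin 7) (.split 3 (-57) (.split 4 141
    (.lin 6) (.split 0 96 (.lin 7) (.split 1 (-101) (.split 7 (-100) (.split 4 195 (.lin 6)
    (.splitN 227074 (.split 1 (-2493) (.div 1) (.split 0 2482 (.split 3 (-2451) (.lin 7) (.split
    2 1246 (.split 4 3688 (.split 7 (-1208) (.lin 9) (.split 4 2492 (.split 3 (-67) (.split 0 105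
    (.lin 7) (.split 1 (-110) (.splitN 214140 (.split 1 (-2349) (.div 1) (.split 0 2338 (.split 3
    (-2307) (.lin 7) (.split 6 (-38) (.split 4 213 (.lin 6) (.split 0 114 (.lin 7) (.split 2 144
    (.lin 9) (.split 3 (-77) (.split 0 123 (.lin 7) (.split 1 (-128) (.splitN 117611 .sq (.split
    7 (-416) (.wt 1) (.split 2 469 (.splitN 201295 (.split 1 (-2205) (.div 1) (.split 4 2204
    (.split 3 (-87) (.split 4 231 (.lin 6) (.split 0 132 (.lin 7) (.split 1 (-137) (.splitN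
    131912 .sq (.split 7 (-221) (.wt 1) (.split 3 (-107) (.split 4 249 (.lin 6) (.split 0 150
    (.lin 7) (.split 1 (-155) (.splitN 154592 .sq (.split 7 (-134) (.wt 1) (.split 2 181 (.splitN
    187709 (.split 4 2060 (.split 3 (-1920) (.lin 6) (.split 6 (-47) (.split 0 159 (.lin 7)
    (.split 2 153 (.lin 9) (.split 1 (-164) (.splitN 163862 .sq (.split 0 1529 (.split 3 (-1506)
    (.lin 1) (.split 1 (-1587) (.lin 2) (.split 4 1708 (.split 0 1140 (.split 3 (-1110) (.lin 1)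
    (.split 1 (-1191) (.lin 2) (.split 4 1312 (.split 0 796 (.split 3 (-768) (.lin 1) (.split 4
    916 (.split 0 520 (.split 4 646 (.split 3 (-471) (.lin 7) (.split 0 321 (.split 3 (-291)
    (.lin 1) (.split 1 (-372) (.lin 2) (.split 1 (-345) (.lin 11) (.split 4 466 (.split 3 (-264)
    (.lin 7) (.splitN 168678 (.split 3 (-118) (.split 4 267 (.lin 6) (.split 1 (-173) .sq (.lin
    11))) (.wt 0)) (.wt 1))) (.lin 0))))) (.wt 1))) (.lin 3)) (.wt 1)) (.lin 3))) (.wt 1)) (.lin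
    0)))) (.wt 1)) (.lin 0)))) (.wt 1))) (.lin 11)))) (.wt 1))) (.div 4)) (.wt 1)) (.lin 9))))
    (.lin 11)))) (.wt 2)))) (.lin 11)))) (.wt 2)) (.div 4))) (.wt 1)) (.lin 9)))) (.lin 11)))
    (.wt 2))))) (.wt 2))) (.lin 4))) (.wt 1)) (.lin 11))) (.wt 2)) (.div 4))) (.lin 0)) (.div
    2))) (.lin 4))) (.wt 1))) (.split 2 145 (.split 0 654 (.split 1 (-651) (.lin 4) (.split 3
    (-615) (.lin 7) (.split 0 274 (.split 1 (-273) (.lin 4) (.split 3 (-237) (.lin 7) (.splitN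
    632596 (.split 7 (-53) (.split 4 150 (.lin 6) (.split 0 141 (.split 3 (-102) (.lin 7) (.wt
    2)) (.wt 2))) (.wt 0)) (.wt 6)))) (.wt 2)))) (.wt 2)) (.lin 9))) (.lin 11)))) (.wt 2))) (.wt
    2))) (.wt 0)))) (.wt 2)))) (.wt 2)))) (.wt 2)) (.lin 11)))) (.wt 2)) (.wt 0))) (.wt 2)))
    (.splitN 385707 (.split 1 (-4257) (.div 1) (.split 3 (-4224) (.lin 11) (.split 2 2128 (.split
    7 (-2099) (.lin 9) (.splitN 136126 (.split 1 (-1485) (.div 1) (.split 3 (-1452) (.lin 11)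
    (.split 2 742 (.split 7 (-713) (.lin 9) (.splitN 117852 (.split 1 (-1305) (.div 1) (.split 2
    652 (.split 3 (-21) (.split 1 (-56) (.split 7 (-40) (.split 2 72 (.lin 9) (.split 4 69 (.lin
    12) (.splitN 108173 (.split 1 (-1197) (.div 1) (.split 3 (-1164) (.lin 11) (.split 2 598
    (.split 7 (-569) (.lin 9) (.splitN 95763 (.split 1 (-1053) (.div 1) (.split 3 (-1020) (.lin
    11) (.split 2 526 (.split 7 (-497) (.lin 9) (.split 5 526 (.split 0 322 (.split 1 (-840)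
    (.lin 4) (.split 3 (-813) (.lin 7) (.splitN 89602 (.split 2 490 (.split 7 (-461) (.lin 9)
    (.split 5 490 (.split 0 171 (.split 1 (-651) (.lin 4) (.split 3 (-624) (.lin 7) (.splitN
    84472 (.split 2 454 (.split 7 (-425) (.lin 9) (.split 5 454 (.split 1 (-615) (.lin 4) (.split
    3 (-588) (.lin 7) (.split 0 107 (.split 1 (-552) (.lin 4) (.split 3 (-525) (.lin 7) (.split 0
    104 (.split 7 (-56) (.split 2 90 (.lin 9) (.split 4 87 (.lin 12) (.splitN 75118 (.split 2 400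
    (.split 7 (-371) (.lin 9) (.split 5 400 (.split 3 (-462) (.lin 7) (.split 0 58 (.split 1
    (-444) (.lin 4) (.split 3 (-417) (.lin 7) (.split 3 (-39) (.split 1 (-74) (.split 7 (-71)
    (.split 4 96 (.lin 12) (.splitN 68550 (.split 2 364 (.split 7 (-335) (.lin 9) (.split 5 364
    (.split 3 (-381) (.lin 7) (.split 0 44 (.split 5 31 (.lin 4) (.splitN 50513 (.split 2 274
    (.split 7 (-245) (.lin 9) (.split 5 274 (.split 1 (-309) (.lin 4) (.split 3 (-282) (.lin 7)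
    (.wt 0))) (.div 5))) (.div 2)) (.wt 6))) (.wt 0))) (.div 5))) (.div 2)) (.wt 6))) (.wt 0))
    (.lin 11)) (.wt 0)))) (.wt 0))) (.div 5))) (.div 2)) (.wt 6)))) (.wt 0)) (.wt 0)))) (.wt
    0)))) (.div 5))) (.div 2)) (.wt 6)))) (.wt 0)) (.div 5))) (.div 2)) (.wt 6)))) (.wt 0)) (.div
    5))) (.div 2)))) (.wt 6))) (.div 2)))) (.wt 1)))) (.wt 0)) (.lin 11)) (.wt 0)) (.div 2)))
    (.wt 6))) (.div 2)))) (.wt 6))) (.div 2)))) (.wt 1)))

def cert5_12_13 : Cert :=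
  (.split 6 (-28) (.split 2 45 (.lin 9) (.split 1 (-38) (.split 0 22 (.split 5 22 (.lin 4)
    (.split 3 (-30) (.split 5 49 (.lin 7) (.split 1 (-65) (.splitN 28850 (.wt 1) cert5_12_1)
    (.lin 11))) (.split 7 (-46) (.split 2 72 (.lin 9) (.split 4 51 (.lin 12) cert5_12_2)) (.split
    4 52 (.split 0 11 (.split 5 31 (.lin 4) (.split 4 43 (.split 6 (-756) (.wt 2) (.split 2 784
    (.split 1 (-777) (.lin 11) (.split 5 788 (.split 6 (-247) (.wt 6) (.split 2 280 (.split 1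
    (-273) (.lin 11) (.split 5 284 (.split 5 266 (.split 6 (-226) (.wt 6) (.split 1 (-246) (.lin
    11) (.split 5 239 (.split 6 (-78) (.split 2 99 (.lin 3) (.split 1 (-92) (.splitN 85298 (.wt
    1) (.split 7 (-37) (.wt 0) (.split 4 34 (.splitN 126691 (.wt 1) (.split 3 (-19) (.wt 0)
    (.split 6 (-164) (.wt 2) (.split 2 190 (.split 1 (-174) (.lin 11) (.split 5 176 (.split 5 167
    (.split 6 (-159) (.wt 2) (.split 7 (-27) (.wt 2) (.wt 3))) (.lin 4)) (.lin 1))) (.lin 3)))))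
    (.lin 12)))) (.lin 11))) (.split 2 109 (.split 1 (-102) (.lin 11) (.split 5 113 (.split 5 95
    (.split 3 (-29) (.wt 2) (.split 3 (-16) (.split 5 40 (.lin 7) (.split 1 (-47) (.split 6 (-36)
    (.wt 2) (.split 2 64 (.split 1 (-48) (.lin 11) (.split 5 59 (.split 5 41 (.splitN 80186 (.wt
    1) (.split 7 (-34) (.wt 0) (.split 2 55 (.split 4 34 (.splitN 115734 (.wt 1) (.splitN 1494292
    (.split 7 (-28) (.wt 0) (.wt 0)) (.wt 6))) (.lin 0)) (.lin 1)))) (.lin 4)) (.lin 0))) (.lin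
    3))) (.lin 11))) (.split 5 77 (.split 1 (-84) (.lin 11) (.split 7 (-20) (.split 4 33 (.lin
    12) (.split 6 (-50) (.split 2 81 (.lin 3) (.split 1 (-65) (.split 5 58 (.lin 4) (.split 6
    (-56) (.split 1 (-74) (.split 5 67 (.lin 4) (.split 7 (-37) (.wt 2) (.split 4 34 (.splitN
    174515 (.split 1 (-76) (.split 2 99 (.lin 2) (.split 5 76 (.lin 0) (.wt 2))) (.wt 0)) (.wt
    1)) (.lin 12)))) (.lin 11)) (.wt 2))) (.lin 11))) (.wt 2))) (.wt 0))) (.lin 7)))) (.lin 4))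
    (.lin 1))) (.lin 3))) (.lin 4)))) (.lin 4)) (.lin 1))) (.lin 3))) (.lin 1))) (.lin 3))) (.lin
    12))) (.split 4 33 (.lin 12) (.split 3 (-13) (.split 6 (-35) (.split 1 (-56) (.split 5 40
    (.lin 4) (.split 7 (-22) (.split 4 42 (.lin 12) (.splitN 846900 (.split 1 (-9405) (.div 1)
    (.split 2 9415 (.split 2 4702 (.split 6 (-4673) (.lin 3) (.splitN 793062 (.split 2 4396
    (.split 6 (-4367) (.lin 3) (.split 6 (-45) (.split 1 (-65) (.split 5 49 (.lin 4) (.splitN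
    534263 (.split 2 2956 (.split 1 (-2955) (.lin 2) (.split 6 (-49) (.split 3 (-23) (.split 5 67
    (.lin 7) (.split 6 (-228) (.split 2 261 (.lin 3) (.split 1 (-263) (.split 5 238 (.lin 1)
    (.splitN 253889 .sq (.wt 1))) (.lin 11))) (.wt 2))) (.wt 2)) (.wt 0))) (.div 2)) (.wt 1)))
    (.lin 11)) (.wt 0))) (.div 2)) (.wt 1))) (.div 2)) (.lin 2))) (.wt 1))) (.wt 0))) (.lin 11))
    (.wt 0)) (.wt 0)))) (.lin 12))))) (.split 4 42 (.lin 12) (.split 3 (-12) (.split 1 (-47)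
    (.split 7 (-21) (.split 2 54 (.lin 9) (.split 4 51 (.lin 12) (.split 6 (-64) (.split 2 90
    (.lin 9) (.split 1 (-83) cert5_12_11 (.lin 11))) cert5_12_12))) (.wt 3)) (.lin 11)) (.wt
    2)))) (.lin 11))) (.split 0 23 (.split 3 (-30) (.split 5 31 (.lin 7) (.split 1 (-47) (.split
    0 12 (.split 6 (-11) (.split 2 36 (.lin 3) (.split 1 (-56) (.split 5 49 (.lin 4) (.split 7
    (-92) (.wt 2) (.split 2 109 (.split 4 97 (.split 3 (-545) (.wt 2) (.split 5 626 (.split 1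
    (-561) (.lin 11) (.split 5 554 (.split 3 (-441) (.wt 2) (.split 5 518 (.split 7 (-60) (.wt 2)
    (.split 2 73 (.split 4 61 (.split 3 (-232) (.wt 2) (.split 1 (-246) (.lin 11) (.split 5 239
    (.split 3 (-209) (.wt 2) (.split 5 212 (.split 7 (-49) (.wt 2) (.split 2 64 (.split 4 52
    (.split 3 (-172) (.wt 2) (.split 5 176 (.split 7 (-45) (.wt 2) (.split 2 55 (.split 4 43
    (.split 3 (-137) (.wt 2) (.split 1 (-165) (.lin 2) (.split 1 (-147) (.lin 11) (.split 5 140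
    (.split 7 (-28) (.split 2 45 (.lin 9) (.split 4 33 (.lin 3) (.split 3 (-53) (.wt 2) (.split 5
    68 (.split 1 (-75) (.lin 2) (.split 1 (-66) (.lin 11) (.split 5 59 (.split 3 (-47) (.wt 2)
    (.split 5 50 (.split 1 (-57) (.lin 11) (.split 7 (-30) (.split 2 54 (.lin 1) (.split 4 42
    (.lin 0) (.splitN 63372 (.wt 0) (.wt 0)))) (.wt 2))) (.lin 7))) (.lin 4)))) (.lin 1)))))
    (.split 2 37 (.split 4 25 (.splitN 302708 (.split 3 (-39) (.split 5 58 (.lin 1) (.split 1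
    (-65) (.splitN 145090 (.wt 1) (.split 3 (-101) (.wt 0) (.split 5 104 (.split 1 (-111) (.lin
    2) (.splitN 154402 (.wt 1) (.split 3 (-89) (.wt 0) (.split 5 95 (.split 3 (-55) (.split 5 67
    (.lin 1) (.split 1 (-74) (.splitN 168127 (.wt 1) (.split 3 (-73) (.wt 0) (.split 5 77 (.split
    1 (-84) (.lin 2) (.splitN 200479 (.splitN 180455 (.wt 1) (.split 3 (-57) (.split 1 (-83) (.wt
    0) (.lin 2)) (.wt 0))) (.wt 1))) (.lin 1)))) (.lin 2))) (.wt 2)) (.lin 1))))) (.lin 1))))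
    (.lin 2))) (.wt 0)) (.wt 1)) (.lin 3)) (.lin 9))) (.lin 4))))) (.lin 3)) (.lin 9))) (.lin
    7))) (.lin 3)) (.lin 9))) (.lin 7))) (.lin 4)))) (.lin 3)) (.lin 9))) (.lin 1))) (.lin 4)))
    (.lin 1))) (.lin 3)) (.lin 9)))) (.lin 11))) (.wt 2)) (.wt 2)) (.lin 11))) (.split 5 41
    (.split 1 (-48) (.lin 11) (.split 0 11 (.split 5 13 (.lin 4) (.split 3 (-15) (.split 5 22
    (.lin 7) (.split 1 (-29) (.split 7 (-20) (.split 2 36 (.lin 9) (.split 4 33 (.lin 12)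
    (.splitN 165487 (.split 2 904 (.split 4 916 (.split 6 (-15) (.split 1 (-38) (.split 5 31
    (.lin 4) (.splitN 125596 (.split 2 688 (.split 4 682 (.split 7 (-29) (.split 2 54 (.lin 9)
    (.split 4 42 (.lin 3) (.splitN 84508 (.split 2 454 (.split 4 448 (.split 3 (-21) (.split 5 40
    (.lin 7) (.split 1 (-47) (.splitN 77120 (.split 2 418 (.split 4 403 (.split 7 (-39) (.split 2
    63 (.lin 1) (.split 4 51 (.lin 0) (.splitN 65255 (.split 2 346 (.split 4 331 (.split 7 (-49)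
    (.split 2 72 (.lin 1) (.split 4 60 (.lin 0) (.splitN 58991 (.split 2 310 (.split 7 (-290)
    (.lin 1) (.splitN 40225 (.wt 1) (.split 7 (-58) (.split 2 81 (.lin 1) (.split 4 69 (.lin 0)
    (.splitN 55190 (.split 2 292 (.split 4 277 (.split 7 (-67) (.split 2 90 (.lin 1) (.split 4 78
    (.lin 0) (.split 7 (-178) (.wt 0) (.split 2 190 (.split 4 178 (.splitN 52058 (.splitN 42866
    (.wt 6) (.split 7 (-78) (.split 2 99 (.lin 1) (.split 4 87 (.lin 0) (.split 7 (-119) (.wt 0)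
    (.split 2 136 (.split 4 124 (.split 7 (-108) (.wt 0) (.split 2 118 (.split 4 106 (.splitN
    49311 (.wt 1) (.wt 1)) (.lin 0)) (.lin 1))) (.lin 0)) (.lin 1))))) (.wt 0))) (.wt 1)) (.lin
    0)) (.lin 1))))) (.wt 0)) (.lin 0)) (.div 2)) (.wt 1)))) (.wt 0)))) (.div 2)) (.wt 1)))) (.wt
    0)) (.lin 0)) (.div 2)) (.wt 1)))) (.wt 0)) (.lin 0)) (.div 2)) (.wt 1)) (.lin 11))) (.wt 2))
    (.lin 0)) (.div 2)) (.wt 1)))) (.wt 0)) (.lin 0)) (.div 2)) (.wt 1))) (.lin 11)) (.wt 2))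
    (.lin 0)) (.div 2)) (.wt 1)))) (.wt 0)) (.lin 11))) (.wt 2))) (.wt 2))) (.lin 7))) (.wt 2)))

def cert5_12 : Cert :=
  (.split 1 (-2) (.split 6 (-3) (.split 2 9 (.lin 9) (.split 7 (-5) (.split 2 18 (.lin 9) (.split
    4 15 (.lin 12) (.split 3 (-3) (.split 1 (-20) (.split 5 (-1) (.split 0 24 (.lin 4) (.split 4
    33 (.lin 6) (.split 6 (-12) (.split 4 42 (.lin 6) (.split 0 33 (.lin 7) (.split 7 (-23)
    (.split 4 60 (.lin 6) (.split 3 (-12) (.split 4 69 (.lin 6) (.split 0 42 (.lin 7) (.split 1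
    (-38) (.splitN 706014 (.split 0 19550 (.split 1 (-19542) (.lin 4) (.split 1 (-7821) (.div 1)
    (.split 3 (-7797) (.lin 11) (.split 2 3910 (.split 6 (-3881) (.lin 9) (.split 4 7820 (.split
    5 (-3911) (.div 5) (.splitN 641375 (.split 1 (-7101) (.div 1) (.split 3 (-7077) (.lin 11)
    (.split 2 3550 (.split 6 (-3521) (.lin 9) (.split 7 (-3530) (.lin 9) (.split 5 (-3551) (.div
    5) (.splitN 254257 (.split 1 (-2817) (.div 1) (.split 3 (-2793) (.lin 11) (.split 2 1408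
    (.split 6 (-1379) (.lin 9) (.split 7 (-1388) (.lin 9) (.split 5 (-1409) (.div 5) (.splitN
    174419 (.split 1 (-1917) (.div 1) (.split 3 (-1893) (.lin 11) (.split 2 958 (.split 6 (-929)
    (.lin 9) (.split 7 (-938) (.lin 9) (.split 5 (-959) (.div 5) (.splitN 139679 (.split 1
    (-1521) (.div 1) (.split 3 (-1497) (.lin 11) (.split 2 760 (.split 6 (-731) (.lin 9) (.split
    7 (-740) (.lin 9) (.split 5 (-761) (.div 5) (.splitN 119933 (.split 1 (-1305) (.div 1)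
    (.split 3 (-1281) (.lin 11) (.split 2 652 (.split 6 (-623) (.lin 9) (.split 7 (-632) (.lin 9)
    (.split 5 (-653) (.div 5) (.splitN 107604 (.split 1 (-1161) (.div 1) (.split 3 (-1137) (.lin
    11) (.split 2 580 (.split 6 (-551) (.lin 9) (.split 7 (-560) (.lin 9) (.split 5 (-581) (.div
    5) (.splitN 98657 (.split 1 (-1089) (.div 1) (.split 3 (-1065) (.lin 11) (.split 2 544
    (.split 6 (-515) (.lin 9) (.split 7 (-524) (.lin 9) (.split 5 (-545) (.div 5) (.splitN 93943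
    (.split 1 (-1017) (.div 1) (.split 3 (-993) (.lin 11) (.split 2 508 (.split 6 (-479) (.lin 9)
    (.split 7 (-488) (.lin 9) (.split 5 (-509) (.div 5) (.split 3 (-26) (.split 4 78 (.lin 6)
    (.split 0 51 (.lin 7) (.splitN 58253 (.split 2 310 (.split 6 (-281) (.lin 9) (.split 7 (-290)
    (.lin 9) (.split 5 (-311) (.div 5) (.wt 2)))) (.div 2)) (.wt 6)))) (.wt 0))))) (.div 2))))
    (.wt 6))))) (.div 2)))) (.wt 6))))) (.div 2)))) (.wt 6))))) (.div 2)))) (.wt 6))))) (.div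
    2)))) (.wt 6))))) (.div 2)))) (.wt 6))))) (.div 2)))) (.wt 6))))) (.div 2)))) (.wt 1))) (.div
    4))) (.div 2))))) (.div 0)) (.wt 1)) (.lin 11)))) (.wt 0))) (.wt 0)))) (.wt 0)))) (.split 7
    (-11) (.split 2 27 (.lin 9) (.split 4 24 (.lin 12) cert5_12_13)) (.wt 3))) (.lin 11)) (.wt
    0)))) (.wt 0))) (.wt 0)) (.lin 11))

theorem check5_12 :
    check task5 cert5_12
      [(7, ⟨some (7), none⟩), (7, ⟨none, none⟩), (1, ⟨some (1), none⟩), (7, ⟨none, some (-2)⟩), (7, ⟨some (7), none⟩), (5, ⟨none, none⟩), (8, ⟨none, some (-1)⟩), (8, ⟨none, some (-1)⟩)] ⟨some (3960), none⟩ = true := by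
  decide +kernel

def cert5_13 : Cert :=
  (.lin 9)

theorem check5_13 :
    check task5 cert5_13
      [(7, ⟨some (7), none⟩), (7, ⟨none, none⟩), (1, ⟨some (1), some (1)⟩), (7, ⟨some (7), none⟩), (7, ⟨some (7), none⟩), (5, ⟨none, none⟩), (8, ⟨none, some (-1)⟩), (8, ⟨none, some (-10)⟩)] ⟨some (3960), none⟩ = true := by
  decide +kernel

def cert5_14 : Cert :=
  (.lin 12)

theorem check5_14 :
    check task5 cert5_14
      [(7, ⟨some (7), none⟩), (7, ⟨none, none⟩), (1, ⟨some (10), none⟩), (7, ⟨some (7), none⟩), (7, ⟨some (7), some (7)⟩), (5, ⟨none, none⟩), (8, ⟨none, some (-1)⟩), (8, ⟨none, some (-10)⟩)] ⟨some (3960), none⟩ = true := by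
  decide +kernel

def cert5_15 : Cert :=
  (.lin 9)

theorem check5_15 :
    check task5 cert5_15
      [(7, ⟨some (7), none⟩), (7, ⟨none, none⟩), (1, ⟨some (10), some (10)⟩), (7, ⟨some (7), none⟩), (7, ⟨some (16), none⟩), (5, ⟨none, none⟩), (8, ⟨none, some (-10)⟩), (8, ⟨none, some (-10)⟩)] ⟨some (3960), none⟩ = true := by
  decide +kernel

def cert5_16_0 : Cert :=
  (.split 7 (-42) (.split 2 81 (.lin 2) (.split 4 87 (.lin 6) (.splitN 277449 (.split 0 506
    (.split 5 (-491) (.lin 1) (.split 4 637 (.splitN 253626 (.split 4 490 (.split 5 (-455) (.lin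
    0) (.split 6 (-55) (.split 4 105 (.lin 6) (.split 0 60 (.lin 7) (.split 2 99 (.lin 9) (.split
    1 (-38) (.splitN 108141 (.split 0 64 (.wt 2) (.split 4 114 (.lin 12) (.split 0 277 (.split 5
    (-248) (.lin 1) (.split 4 376 (.splitN 103194 (.split 0 265 (.split 4 313 (.split 4 280
    (.split 0 232 (.split 5 (-66) (.split 0 135 (.wt 2) (.split 5 (-76) (.split 5 (-85) (.split 4
    186 (.lin 12) (.splitN 79199 .sq (.split 7 (-55) (.wt 0) (.splitN 85730 (.wt 1) (.split 1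
    (-52) (.wt 0) (.split 2 109 (.split 5 (-94) (.split 0 157 (.wt 2) (.split 5 (-112) (.split 4
    204 (.lin 12) (.splitN 97010 .sq (.split 0 177 (.wt 0) (.split 5 (-130) (.split 4 222 (.lin
    12) .sq) (.lin 1))))) (.lin 1))) (.lin 1)) (.lin 2))))))) (.lin 4)) (.lin 1))) (.split 0 124
    (.split 4 169 (.split 0 70 (.wt 2) (.split 4 123 (.lin 12) (.split 5 (-43) (.wt 2) (.split 0
    106 (.split 4 151 (.split 5 (-32) (.wt 2) (.split 0 88 (.split 1 (-47) (.split 4 142 (.split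
    6 (-64) (.splitN 68293 (.wt 1) (.wt 0)) (.lin 7)) (.lin 6)) (.lin 4)) (.lin 4))) (.lin 6))
    (.lin 1))))) (.lin 6)) (.lin 1))) (.lin 12)) .sq) (.lin 12)) .sq) (.wt 3)) (.lin 0))) .sq)))
    (.wt 3)) (.lin 11))))) (.split 2 100 (.split 1 (-30) (.lin 11) (.split 0 122 (.split 5 (-104)
    (.lin 1) (.split 0 98 (.split 5 (-77) (.lin 4) (.split 4 151 (.split 0 93 (.split 5 (-68)
    (.lin 4) (.split 4 142 (.split 0 65 (.split 4 124 (.split 5 (-41) (.lin 4) (.splitN 105723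
    (.split 6 (-42) .cand (.split 1 (-21) (.lin 11) (.splitN 90761 (.wt 0) (.wt 1)))) (.wt 1)))
    (.lin 3)) (.split 4 105 (.lin 3) (.split 5 (-40) (.split 4 114 (.lin 12) (.split 0 83 (.split
    5 (-59) (.lin 4) (.splitN 94484 (.split 1 (-22) (.split 5 (-50) (.lin 4) (.splitN 84706
    (.split 7 (-50) (.split 2 99 (.lin 2) (.split 4 123 (.lin 0) (.splitN 77666 (.wt 3) (.wt
    1)))) (.wt 0)) (.wt 6))) (.wt 0)) (.wt 6))) (.wt 2))) (.lin 4)))) (.lin 12))) (.wt 2)) (.lin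
    12))) (.wt 2))) (.wt 2))) (.lin 9)))) .sq) (.wt 1)) (.lin 0))) .sq) (.wt 1)))) (.split 2 109
    (.split 6 (-55) (.split 4 87 (.lin 6) (.split 0 60 (.lin 7) (.split 2 81 (.lin 9) (.split 1
    (-38) (.splitN 3164503 (.split 0 1772 (.split 5 (-1742) (.lin 1) (.split 4 1852 (.splitN
    2414050 (.split 0 1546 (.split 5 (-1517) (.lin 1) (.split 0 307 (.split 5 (-275) (.lin 1)
    (.split 4 358 (.split 4 340 (.split 7 (-33) (.splitN 159388 .cand (.wt 3)) (.split 2 100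
    (.split 0 136 (.split 5 (-95) (.lin 1) (.split 4 160 (.split 5 (-46) (.split 0 87 (.lin 1)
    (.split 4 114 (.lin 6) (.split 6 (-64) (.split 4 123 (.lin 6) (.split 0 96 (.lin 7) (.split 2
    90 (.lin 9) (.split 1 (-47) (.split 5 (-86) (.lin 1) (.split 6 (-69) (.split 1 (-56) (.splitN
    209123 (.wt 1) (.wt 0)) (.lin 11)) (.split 2 91 (.split 1 (-48) (.lin 11) (.split 0 117
    (.split 5 (-68) (.lin 1) (.split 4 142 (.splitN 244635 (.split 0 113 (.split 5 (-59) (.lin 1)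
    (.split 4 133 (.splitN 230735 (.split 0 102 (.split 5 (-50) (.lin 1) (.split 4 124 (.splitN
    214529 (.wt 0) (.wt 1)) (.lin 0))) (.wt 0)) (.wt 1)) (.lin 0))) (.wt 0)) (.wt 1)) (.lin 0)))
    (.wt 2))) (.lin 9)))) (.lin 11))))) (.split 1 (-39) (.lin 11) (.splitN 344574 (.wt 0) (.wt
    1)))))) (.split 0 97 (.split 4 124 (.split 6 (-64) (.split 0 69 (.lin 7) (.split 2 90 (.lin
    9) (.split 1 (-47) (.split 5 (-31) (.split 0 78 (.lin 1) (.split 4 105 (.lin 6) (.split 6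
    (-73) (.wt 2) (.split 4 115 (.split 0 88 (.split 2 91 (.split 1 (-48) (.lin 11) (.splitN
    201157 (.split 5 (-32) (.split 4 114 (.lin 0) (.split 0 87 (.lin 1) (.wt 0))) (.wt 2)) (.wt
    3))) (.lin 9)) (.lin 7)) (.lin 6))))) (.split 0 79 (.split 4 106 (.split 6 (-65) (.split 4
    105 (.lin 6) (.split 0 78 (.lin 7) (.split 1 (-56) (.splitN 147540 (.wt 0) (.wt 0)) (.lin
    8)))) (.wt 2)) (.lin 6)) (.lin 1))) (.lin 11)))) (.split 1 (-39) (.lin 11) (.wt 2))) (.lin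
    6)) (.lin 1))) (.lin 12))) (.split 5 (-85) (.split 4 168 (.lin 12) (.splitN 197353 (.wt 0)
    (.splitN 229122 (.wt 3) (.split 6 (-61) (.split 5 (-257) (.lin 7) (.split 2 90 (.lin 9)
    (.split 1 (-47) (.split 0 223 (.split 5 (-176) (.lin 1) (.split 4 250 (.splitN 375093 .cand
    (.wt 1)) (.lin 12))) (.split 5 (-175) (.split 4 240 (.lin 0) (.splitN 368415 (.split 6 (-65)
    .cand (.wt 0)) (.wt 1))) (.lin 1))) (.lin 11)))) (.wt 2))))) (.lin 1))) (.lin 2))) (.lin 12))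
    (.lin 3))) (.split 5 (-247) (.split 4 294 (.lin 0) (.split 4 339 (.lin 12) (.splitN 286811
    .sq (.split 7 (-37) (.wt 0) (.split 2 100 (.splitN 367894 (.split 0 378 (.split 5 (-338)
    (.lin 1) (.wt 2)) (.wt 0)) (.wt 6)) (.lin 2)))))) (.lin 1)))) .sq) (.wt 1)) (.lin 0))) .sq)
    (.wt 1)) (.lin 11))))) (.split 2 82 (.split 1 (-30) (.lin 11) (.split 0 79 (.split 5 (-59)
    (.lin 4) (.split 0 59 (.split 5 (-41) (.lin 1) (.split 5 (-32) (.lin 4) (.split 4 88 (.splitN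
    165653 (.split 7 (-29) (.splitN 124210 (.split 1 (-22) (.split 2 81 (.lin 2) (.split 0 51
    (.lin 4) (.split 4 87 (.lin 0) (.split 5 (-23) (.lin 0) (.split 6 (-46) (.splitN 118325 (.wt
    0) (.wt 0)) (.lin 0)))))) (.wt 0)) (.wt 1)) (.wt 0)) (.wt 6)) (.lin 12)))) (.wt 2))) (.wt
    2))) (.lin 9))) (.lin 2)))

def cert5_16_1 : Cert :=
  (.split 7 (-64) (.split 2 99 (.lin 2) (.split 4 105 (.lin 6) (.splitN 33784 (.wt 1) (.splitN
    150909 (.split 2 832 (.split 0 349 (.split 4 1141 (.split 5 (-329) (.lin 4) (.splitN 136478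
    (.split 2 337 (.split 4 339 (.split 5 (-248) (.lin 6) (.split 0 268 (.split 6 (-69) (.split 4
    141 (.lin 6) (.split 0 78 (.lin 7) (.split 2 135 (.lin 9) (.split 1 (-56) (.splitN 58202 .sq
    (.wt 0)) (.lin 11))))) (.split 1 (-48) (.lin 11) (.split 6 (-51) (.split 2 117 (.lin 9)
    (.split 1 (-38) (.splitN 77860 (.split 0 91 (.wt 2) (.split 5 (-49) (.split 4 159 (.lin 12)
    (.splitN 60155 .sq (.split 0 98 (.wt 0) (.split 5 (-58) (.split 4 168 (.lin 12) (.splitN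
    65906 .sq (.split 0 169 (.wt 0) (.split 4 231 (.lin 3) (.split 5 (-130) .sq (.lin 4))))))
    (.lin 4))))) (.lin 4))) (.wt 0)) (.lin 11))) (.split 1 (-30) (.lin 11) (.splitN 103564
    (.split 4 287 (.split 5 (-212) (.lin 0) (.split 0 99 (.split 5 (-77) (.lin 4) (.split 7
    (-121) (.split 2 162 (.lin 9) (.split 4 168 (.lin 6) (.splitN 75617 .sq (.wt 1)))) (.split 2
    163 (.split 4 232 (.split 0 70 (.split 4 196 (.split 5 (-50) (.lin 4) (.split 7 (-91) (.split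
    2 126 (.lin 2) (.split 4 123 (.lin 0) (.split 6 (-42) (.split 4 141 (.lin 6) (.split 0 51
    (.lin 7) (.split 2 135 (.lin 9) (.split 1 (-29) (.splitN 53342 .sq (.splitN 57874 (.split 0
    61 (.wt 0) (.split 4 159 (.lin 3) (.split 5 (-40) .sq (.lin 4)))) (.wt 0))) (.lin 11)))))
    (.split 2 154 (.split 1 (-21) (.lin 11) (.splitN 65510 (.split 0 52 (.split 5 (-32) (.lin 4)
    (.wt 2)) (.wt 0)) (.wt 1))) (.lin 9))))) (.split 2 127 (.split 4 169 (.split 6 (-42) (.split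
    2 108 (.lin 9) (.split 1 (-29) (.split 5 (-41) (.lin 4) (.split 0 53 (.wt 2) (.split 4 123
    (.lin 3) (.split 5 (-31) (.splitN 60276 (.wt 1) (.split 7 (-74) (.wt 0) (.split 2 118 (.split
    4 142 (.split 7 (-73) (.wt 0) (.split 2 109 (.split 4 133 (.splitN 66322 (.wt 1) (.wt 0))
    (.lin 0)) (.lin 2))) (.lin 0)) (.lin 2)))) (.lin 4))))) (.lin 11))) (.split 1 (-21) (.lin 11)
    (.splitN 66923 (.wt 5) (.wt 6)))) (.lin 0)) (.lin 9)))) (.lin 3)) (.split 6 (-38) .cand (.wt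
    2))) (.lin 0)) (.lin 9)))) (.split 2 226 (.split 7 (-191) (.lin 2) (.split 4 159 (.lin 3)
    (.split 5 (-76) (.split 4 168 (.lin 12) (.splitN 61694 .sq (.split 6 (-38) (.split 5 (-194)
    (.lin 6) (.split 2 108 (.lin 9) (.split 1 (-29) (.splitN 78632 (.split 7 (-121) (.wt 0)
    (.split 2 163 (.split 7 (-113) (.wt 3) (.split 2 154 (.split 0 157 (.split 4 259 (.split 4
    205 (.split 5 (-113) (.lin 0) (.split 7 (-65) (.split 2 117 (.lin 2) (.split 4 177 (.lin 0)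
    (.split 5 (-104) (.lin 0) (.splitN 71162 .sq (.wt 1))))) (.wt 2))) .sq) (.lin 3)) .sq) (.lin
    2))) (.lin 2))) (.wt 1)) (.lin 11)))) (.wt 2)))) (.lin 4)))) (.lin 3)))) .sq) (.wt 1))))))
    (.lin 12))) .sq) .sq) (.wt 3))) (.lin 3)) .sq) (.div 2)) (.wt 3))))) (.splitN 44871 (.wt 1)
    (.split 6 (-82) (.split 4 114 (.lin 6) (.split 2 108 (.lin 9) (.split 1 (-65) (.splitN
    1309699 (.split 0 36380 (.split 1 (-14553) (.div 1) (.split 2 14617 (.split 4 14552 (.split 0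
    14524 (.split 5 (-7277) (.div 5) (.splitN 1235839 (.split 4 13724 (.split 5 (-6863) (.div 5)
    (.splitN 439437 (.split 2 2434 (.split 1 (-2388) (.lin 2) (.split 4 11599 (.split 5 (-2435)
    (.div 5) (.split 6 (-177) (.wt 2) (.split 4 2644 (.split 0 2590 (.split 2 226 (.splitN 404790
    (.split 5 (-2237) (.div 5) (.split 0 2419 (.split 6 (-172) (.wt 2) (.split 1 (-147) (.lin 11)
    (.split 7 (-52) (.wt 2) (.split 2 208 (.split 0 604 (.split 4 646 (.split 5 (-145) (.wt 2)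
    (.split 4 412 (.split 0 304 (.split 4 331 (.split 5 (-61) (.wt 2) (.split 0 223 (.split 0 205
    (.split 4 250 (.splitN 77558 (.wt 6) (.split 7 (-42) (.wt 0) (.split 0 97 (.wt 2) (.split 4
    132 (.lin 12) (.split 5 (-43) (.wt 2) (.split 0 187 (.split 4 223 (.split 5 (-39) (.wt 2)
    (.split 1 (-74) (.split 6 (-91) (.splitN 117268 (.wt 6) (.split 7 (-33) (.wt 0) (.split 4 205
    (.splitN 143873 (.wt 1) (.split 6 (-131) (.wt 0) (.split 4 169 (.split 0 142 (.wt 2) (.lin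
    7)) (.lin 6)))) (.lin 6)))) (.lin 7)) (.lin 4))) (.lin 6)) (.lin 4))))))) (.lin 6)) (.lin 4))
    (.lin 1))) (.lin 6)) (.lin 1)) (.lin 0))) (.lin 12)) .sq) (.lin 2))))) (.lin 1))) (.wt 3))
    (.lin 9)) (.lin 7)) (.lin 6)))) (.lin 0))) (.div 2)) (.wt 3))) (.div 4)) (.wt 0))) (.lin 12))
    (.div 4)) (.lin 2))) (.div 0)) (.wt 0)) (.lin 11)))) (.split 2 127 (.split 1 (-57) (.lin 11)
    cert5_16_0) (.lin 9)))))

def cert5_16_2 : Cert :=
  (.split 3 11 (.splitN 189001 (.split 2 1048 (.split 6 (-1019) (.lin 9) (.split 4 2096 (.split 0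
    3058 (.split 0 2068 (.split 5 (-1049) (.div 5) (.splitN 135922 (.split 4 1484 (.splitN 103660
    (.split 2 562 (.split 0 31 (.wt 2) (.split 5 (-9) (.wt 2) (.split 0 529 (.split 1 (-29)
    (.split 6 (-37) (.split 4 556 (.splitN 68430 (.split 2 364 (.split 0 331 (.split 4 358
    (.splitN 59325 (.split 2 328 (.split 0 295 (.split 4 322 (.splitN 58874 (.splitN 35717 (.wt
    6) (.split 7 (-50) (.wt 0) (.split 0 93 (.wt 2) (.split 2 126 (.lin 1) (.split 1 (-74)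
    (.split 6 (-100) (.split 4 123 (.lin 6) .sq) (.lin 7)) (.lin 2)))))) (.wt 3)) (.lin 10))
    (.lin 1)) (.div 2)) (.wt 3)) (.lin 10)) (.lin 1)) (.div 2)) (.wt 0)) (.lin 10)) (.lin 7))
    (.lin 4)) (.lin 1)))) (.div 2)) (.wt 5)) (.div 4)) (.wt 3))) (.lin 12)) (.lin 3)) (.div 4)))
    (.div 2)) (.wt 0)) (.split 2 63 (.lin 2) (.split 6 (-37) (.split 5 (-16) (.split 0 42 (.lin
    4) (.split 4 69 (.lin 6) cert5_16_1)) (.split 7 (-64) (.split 2 90 (.lin 1) (.split 4 87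
    (.lin 6) (.splitN 160457 (.split 1 (-1773) (.div 1) (.split 0 1780 (.split 2 886 (.split 4
    2626 (.split 0 817 (.split 1 (-804) (.lin 2) (.split 6 (-1613) (.lin 0) (.split 6 (-830)
    (.lin 7) (.split 4 880 (.splitN 147431 (.split 2 814 (.split 4 808 (.splitN 118232 (.split 0
    305 (.splitN 112696 (.split 2 310 (.split 1 (-228) (.lin 2) (.split 5 (-8) .cand (.splitN
    43009 (.split 2 238 (.split 0 160 (.split 6 (-173) (.lin 7) (.splitN 41606 (.split 2 220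
    (.split 0 142 (.split 7 (-182) (.lin 1) (.split 6 (-155) (.lin 7) (.split 0 41 (.split 1
    (-30) (.lin 4) (.split 6 (-47) (.lin 7) (.splitN 37441 (.wt 0) (.wt 1)))) (.wt 2)))) (.lin
    1)) (.div 2)) (.wt 1))) (.lin 1)) (.div 2)) (.wt 1)))) .sq) (.wt 3)) .sq) (.wt 3)) (.lin 10))
    (.div 2)) (.wt 1)) (.lin 10))))) (.lin 1)) (.lin 0)) (.div 2)) (.lin 4))) (.wt 1)))) (.splitN
    29828 (.wt 3) (.split 5 (-8) (.split 0 33 (.lin 4) (.split 6 (-82) (.split 0 78 (.lin 7)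
    (.split 2 108 (.lin 9) (.split 1 (-65) (.splitN 290629 (.split 2 1606 (.split 0 1573 (.split
    6 (-1577) (.lin 7) (.split 4 1627 (.splitN 267914 (.split 2 1480 (.split 0 1447 (.split 6
    (-1451) (.lin 7) (.split 4 1501 (.split 6 (-620) (.wt 2) (.split 4 664 (.split 0 610 (.split
    6 (-430) (.wt 2) (.split 4 475 (.split 0 421 (.split 6 (-349) (.wt 2) (.split 4 394 (.split 0
    340 (.split 2 397 (.split 6 (-305) (.wt 2) (.split 4 349 (.split 0 295 (.split 6 (-278) (.wt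
    2) (.split 4 322 (.split 0 268 (.split 6 (-260) (.wt 2) (.split 4 304 (.split 0 250 (.split 7
    (-42) (.splitN 71925 (.split 0 115 (.wt 2) (.split 2 171 (.lin 1) (.split 6 (-127) (.split 4
    168 (.lin 6) .sq) (.lin 7)))) (.wt 3)) (.split 4 286 (.split 6 (-145) (.split 4 168 (.lin 6)
    (.split 0 141 (.lin 7) (.split 1 (-119) (.split 2 171 (.lin 9) (.split 1 (-128) (.splitN
    116927 .sq (.splitN 138722 (.split 7 (-30) (.wt 0) (.split 0 156 (.wt 2) (.split 2 189 (.lin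
    1) (.split 1 (-146) (.split 6 (-163) (.split 4 186 (.lin 6) .sq) (.lin 7)) (.lin 2))))) (.wt
    3))) (.lin 11))) (.lin 8)))) (.split 4 169 (.split 2 172 (.splitN 149602 .cand (.wt 1)) (.lin
    9)) (.lin 6))) (.lin 6))) (.lin 7)) (.lin 6))) (.lin 7)) (.lin 6))) (.lin 7)) (.lin 6)))
    (.lin 9)) (.lin 7)) (.lin 6))) (.lin 7)) (.lin 6))) (.lin 7)) (.lin 6))) (.lin 6))) (.lin 1))
    (.div 2)) (.wt 1)) (.lin 6))) (.lin 1)) (.div 2)) (.wt 1)) (.lin 11)))) (.split 4 124 (.split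
    1 (-84) (.lin 8) (.split 2 127 (.split 1 (-57) (.lin 11) (.split 7 (-42) (.splitN 95967 .cand
    (.wt 1)) (.split 4 106 (.split 6 (-41) (.split 4 69 (.lin 6) (.split 0 42 (.lin 7) (.split 6
    (-49) (.split 0 51 (.lin 7) (.split 1 (-38) (.splitN 131259 (.split 6 (-56) (.split 4 87
    (.lin 6) (.split 0 60 (.lin 7) (.split 7 (-30) .cand (.wt 2)))) (.wt 2)) (.wt 1)) (.lin 11)))
    (.wt 2)))) (.wt 2)) (.lin 6)))) (.lin 9))) (.lin 6)))) (.splitN 79132 (.split 2 436 (.split 0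
    394 (.split 6 (-407) (.lin 7) (.split 0 44 (.split 6 (-56) (.lin 7) (.wt 2)) (.wt 2))) (.lin
    1)) (.div 2)) (.wt 1)))))) (.lin 11))))

def cert5_16_3 : Cert :=
  (.split 5 (-383) (.lin 4) (.split 2 421 (.split 6 (-353) (.lin 9) (.split 4 420 (.split 5
    (-329) (.lin 8) (.split 3 90 (.split 6 (-128) (.split 4 132 (.lin 6) (.split 0 69 (.lin 7)
    (.split 2 198 (.lin 9) (.split 1 (-47) (.splitN 88100 .sq (.split 3 57 (.split 4 168 (.lin 6)
    (.split 0 105 (.lin 7) (.split 1 (-83) (.splitN 109988 .sq (.wt 1)) (.lin 11)))) (.wt 1)))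
    (.lin 11))))) (.split 1 (-102) (.lin 11) (.splitN 141081 (.split 2 345 (.split 7 (-299) (.lin
    2) (.split 4 344 (.split 5 (-257) (.lin 8) (.split 0 277 (.split 3 46 (.split 6 (-87) (.split
    4 132 (.lin 6) (.split 0 69 (.lin 7) (.split 2 153 (.lin 9) (.split 1 (-47) (.split 5 (-230)
    (.lin 4) (.splitN 62000 .sq (.splitN 92742 (.split 2 230 (.split 4 217 (.split 5 (-104) (.lin
    6) (.splitN 87416 (.split 2 216 (.split 7 (-119) (.lin 9) (.split 4 201 (.split 5 (-86) (.lin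
    6) (.split 0 133 (.split 3 42 (.split 4 141 (.lin 6) (.split 0 78 (.lin 7) (.split 1 (-56)
    (.split 5 (-77) (.lin 4) (.splitN 66743 .sq (.splitN 81493 (.split 5 (-25) (.split 0 87 (.lin
    4) (.split 4 150 (.lin 6) (.split 0 121 (.split 5 (-59) (.lin 4) (.split 6 (-119) (.lin 7)
    (.split 7 (-83) (.wt 1) (.split 3 32 (.split 1 (-65) (.split 4 159 (.lin 6) (.splitN 76913
    .sq (.wt 0))) (.lin 11)) (.wt 2))))) .sq))) (.wt 1)) (.wt 1)))) (.lin 11)))) (.wt 6)) (.lin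
    12))) .sq)) .sq) (.wt 1))) .sq) .sq) (.wt 1)))) (.lin 11))))) (.split 1 (-57) (.lin 11)
    (.splitN 114359 (.split 2 305 (.split 4 304 (.split 5 (-239) (.lin 6) (.split 0 241 (.split 5
    (-221) (.lin 4) (.split 0 101 (.split 5 (-77) (.lin 4) (.split 7 (-123) (.split 2 171 (.lin
    9) (.split 4 168 (.lin 8) (.splitN 79748 .sq (.wt 1)))) (.split 6 (-64) (.split 3 34 (.split
    4 114 (.lin 6) (.split 0 51 (.lin 7) (.split 1 (-29) (.split 5 (-68) (.lin 4) (.split 7 (-91)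
    (.split 2 153 (.lin 9) (.split 4 141 (.lin 6) (.splitN 60911 .sq (.split 5 (-24) (.split 0 60
    (.lin 4) (.split 3 32 (.split 4 159 (.lin 6) (.split 0 69 (.lin 7) (.split 1 (-38) (.split 5
    (-59) (.lin 4) (.splitN 69623 .sq (.wt 1))) (.lin 11)))) (.wt 2))) (.wt 1))))) (.split 3 33
    (.split 4 123 (.lin 6) (.split 0 60 (.lin 7) (.split 1 (-38) (.split 5 (-59) (.lin 4) (.split
    5 (-40) (.split 0 78 (.lin 4) (.split 6 (-72) (.split 4 150 (.lin 6) (.split 0 87 (.lin 7)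
    (.split 2 135 (.lin 9) (.split 1 (-47) (.split 5 (-50) (.lin 4) (.splitN 64031 .sq (.wt 6)))
    (.lin 11))))) (.wt 2))) (.split 0 75 (.split 1 (-48) (.lin 4) (.split 6 (-74) (.lin 7) (.wt
    2))) (.wt 2)))) (.lin 11)))) (.wt 2)))) (.lin 11)))) (.split 1 (-39) (.lin 11) (.wt 2)))
    (.split 1 (-30) (.lin 11) (.splitN 69638 (.split 0 68 (.split 5 (-41) (.lin 4) (.wt 2)) (.wt
    0)) (.wt 6)))))) (.split 5 (-49) (.split 4 168 (.lin 12) (.split 7 (-200) (.lin 12) (.splitN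
    61316 .sq (.split 1 (-25) (.split 7 (-172) (.wt 1) (.split 2 244 (.split 3 29 (.split 6 (-63)
    (.split 5 (-203) (.lin 6) (.split 2 126 (.lin 9) (.split 1 (-38) (.splitN 68588 .sq (.split 7
    (-91) (.wt 1) (.split 0 135 (.split 5 (-95) (.lin 4) (.wt 6)) (.wt 2)))) (.lin 11)))) (.wt
    2)) (.wt 2)) (.lin 9))) (.wt 2))))) (.lin 4)))) (.lin 12))) .sq) .sq) (.wt 1)))) (.split 1
    (-75) (.lin 11) (.split 7 (-272) (.lin 2) (.split 0 81 (.split 1 (-57) (.lin 4) (.split 5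
    (-59) (.lin 4) (.split 0 59 (.split 1 (-30) (.lin 4) (.split 5 (-32) (.lin 4) (.split 6
    (-119) (.lin 7) (.wt 2)))) (.wt 2)))) (.wt 2))))) (.lin 12))) .sq)) .sq) (.wt 1)))) (.split 2
    180 (.lin 2) (.split 6 (-118) (.splitN 74159 .sq (.split 7 (-202) (.wt 1) (.split 0 97
    (.split 1 (-75) (.lin 4) (.split 5 (-77) (.lin 4) (.split 4 349 (.split 7 (-140) (.wt 1)
    (.split 0 57 (.split 1 (-30) (.lin 4) (.split 5 (-32) (.lin 4) (.wt 2))) (.wt 2))) (.lin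
    8)))) (.wt 2)))) (.lin 11))))) .sq)) .sq))

def cert5_16_4 : Cert :=
  (.split 3 38 (.split 0 78 (.lin 1) (.split 0 87 (.lin 7) (.split 1 (-65) (.split 4 114 (.lin 6)
    (.split 6 (-208) (.split 4 222 (.lin 6) (.split 0 195 (.lin 7) (.split 2 234 (.lin 9) (.split
    1 (-173) (.splitN 218456 .sq (.splitN 1223267 (.split 2 6790 (.split 6 (-6761) (.lin 9)
    (.split 4 13580 (.split 5 (-6791) (.div 5) (.splitN 1120636 (.split 2 6214 (.split 6 (-6185)
    (.lin 9) (.split 4 12428 (.split 0 12400 (.split 5 (-6215) (.div 5) (.split 5 (-24) (.split 7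
    (-37) (.wt 1) (.split 3 32 (.split 0 213 (.lin 1) (.split 4 240 (.lin 6) (.splitN 1056382
    (.split 4 11708 (.splitN 987353 (.split 0 892 (.split 2 910 (.split 1 (-858) (.lin 2) (.split
    5 (-707) (.lin 1) (.split 6 (-884) (.lin 7) (.split 4 916 (.splitN 662421 (.split 5 (-36)
    (.split 0 687 (.split 2 694 (.split 5 (-500) (.lin 1) (.split 6 (-668) (.lin 7) (.split 4 709
    (.split 5 (-41) (.split 0 231 (.lin 1) (.split 4 258 (.lin 6) (.split 6 (-230) (.split 4 285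
    (.lin 6) (.split 0 258 (.lin 7) (.split 2 261 (.lin 9) (.split 1 (-209) (.split 5 (-473)
    (.lin 1) (.splitN 320237 .sq (.split 5 (-63) (.split 0 276 (.lin 1) (.split 4 303 (.lin 6)
    (.splitN 342593 .sq (.split 5 (-76) (.split 2 658 (.split 6 (-632) (.lin 6) (.split 5 (-78)
    (.split 0 294 (.lin 1) (.split 4 321 (.lin 6) (.splitN 366893 .sq (.split 5 (-98) (.split 0
    312 (.lin 1) (.split 4 339 (.lin 6) (.splitN 393137 .sq (.split 5 (-127) (.split 0 339 (.lin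
    1) (.split 4 366 (.lin 6) (.split 6 (-578) (.lin 6) (.splitN 436148 .sq (.split 1 (-365) (.wt
    1) (.split 2 415 (.split 6 (-389) (.lin 9) (.wt 1)) (.lin 2))))))) (.wt 1))))) (.wt 1)))))
    (.wt 1))) (.lin 1)) (.wt 1))))) (.wt 1)))) (.lin 11))))) (.wt 2)))) (.wt 2)) (.lin 12))))
    (.lin 1)) .sq) (.wt 2)) (.wt 1)) (.lin 12))))) (.lin 1)) .sq) (.wt 3)) (.div 4)) (.wt 1))))
    (.wt 2))) (.wt 1))) (.lin 12)) (.div 4))) (.div 2)) (.wt 1))) (.div 4))) (.div 2)) (.wt 1)))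
    (.lin 11))))) (.split 2 235 (.split 1 (-174) (.lin 11) (.splitN 872089 (.split 0 907 (.split
    5 (-851) (.lin 1) (.split 4 1159 (.split 7 (-33) (.split 4 123 (.lin 6) (.split 2 135 (.lin
    9) (.splitN 192530 (.split 0 375 (.split 5 (-302) (.lin 1) (.split 4 502 (.split 4 403
    (.splitN 182189 (.split 4 373 (.split 5 (-266) (.lin 6) (.split 0 331 (.split 5 (-77) (.split
    0 150 (.lin 1) (.split 4 186 (.lin 6) (.splitN 164671 (.split 3 33 (.split 6 (-123) (.split 4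
    222 (.lin 6) (.split 0 186 (.lin 7) (.split 2 162 (.lin 9) (.split 1 (-101) (.split 5 (-230)
    (.lin 1) (.splitN 146816 .sq (.wt 1))) (.lin 11))))) (.wt 2)) (.wt 0)) (.wt 1)))) (.split 4
    286 (.split 3 32 (.split 0 96 (.lin 1) (.split 6 (-104) (.split 4 141 (.lin 6) (.split 2 144
    (.lin 9) (.split 5 (-24) (.split 0 114 (.lin 1) (.split 4 150 (.lin 6) (.split 6 (-125)
    (.split 0 132 (.lin 7) (.split 6 (-131) (.split 4 177 (.lin 6) (.split 0 141 (.lin 7) (.split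
    2 171 (.lin 9) (.split 1 (-110) (.splitN 114983 .sq (.split 5 (-40) (.split 6 (-142) (.split
    4 195 (.lin 6) (.split 0 159 (.lin 7) (.split 1 (-119) (.splitN 132380 .sq (.wt 1)) (.lin
    11)))) (.wt 2)) (.wt 1))) (.lin 11))))) (.wt 2))) (.wt 2)))) (.wt 2)))) (.wt 2))) (.wt 2))
    (.lin 6))) (.lin 12))) .sq) (.wt 1)) (.lin 12)) (.lin 3))) .sq) (.wt 1)))) (.split 0 193
    (.split 5 (-122) (.lin 1) (.split 1 (-165) (.lin 4) (.split 4 214 (.splitN 437158 (.split 3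
    32 (.split 0 96 (.lin 1) (.split 1 (-74) (.split 2 217 (.split 5 (-113) (.lin 1) (.split 4
    123 (.lin 6) (.splitN 210432 (.wt 5) (.split 5 (-30) (.split 0 105 (.lin 1) (.split 1 (-156)
    (.lin 8) (.split 4 132 (.lin 6) (.split 6 (-182) (.lin 6) (.splitN 343899 (.split 0 171
    (.split 5 (-95) (.lin 1) (.split 6 (-164) (.lin 7) (.wt 2))) (.wt 0)) (.wt 1)))))) (.wt
    1))))) (.lin 10)) (.lin 2))) (.wt 0)) (.wt 1)) (.lin 12)))) (.wt 2))) (.lin 0))) .sq) (.wt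
    1))) (.lin 9)))) (.lin 11)))) (.splitN 3516824 (.split 2 19534 (.split 6 (-19505) (.lin 9)
    (.split 0 203 (.split 2 262 (.split 1 (-192) (.lin 2) (.split 5 (-149) (.lin 4) (.split 6
    (-227) (.lin 7) (.wt 2)))) (.lin 1)) (.wt 2))) (.div 2)) (.wt 1)))

def cert5_16_5 : Cert :=
  (.split 6 (-100) (.split 4 96 (.lin 6) (.split 0 69 (.lin 7) (.split 2 126 (.lin 9) (.split 1
    (-47) (.split 7 (-42) (.split 4 114 (.lin 6) (.split 2 144 (.lin 9) (.splitN 217365 (.split 0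
    5960 (.split 2 6040 (.split 1 (-2385) (.div 1) (.split 2 2485 (.split 2 1192 (.split 6
    (-1145) (.lin 9) (.split 5 (-1193) (.div 5) (.splitN 198476 (.split 0 385 (.split 2 469
    (.split 5 (-347) (.lin 1) (.split 6 (-416) (.lin 7) (.split 4 439 (.splitN 167976 (.split 0
    340 (.split 2 424 (.split 5 (-302) (.lin 1) (.split 4 394 (.split 2 363 (.split 6 (-317)
    (.lin 9) (.splitN 158865 (.split 4 338 (.split 5 (-239) (.lin 6) (.split 1 (-264) (.lin 8)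
    (.split 0 286 (.split 3 38 (.split 0 78 (.lin 1) (.split 0 87 (.lin 7) (.split 1 (-65)
    (.split 5 (-221) (.lin 4) (.split 4 132 (.lin 6) (.split 6 (-299) (.lin 6) (.splitN 135977
    (.split 2 301 (.split 1 (-228) (.lin 2) (.split 6 (-254) (.lin 9) (.split 4 295 (.split 5
    (-185) (.lin 6) (.split 5 (-64) (.split 0 123 (.lin 1) (.split 0 132 (.lin 4) (.split 2 262
    (.split 4 177 (.lin 6) (.split 6 (-218) (.lin 6) (.splitN 91853 .sq (.splitN 119705 (.split 0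
    207 (.split 5 (-149) (.lin 1) (.split 1 (-138) (.lin 4) (.split 6 (-173) (.lin 7) (.split 4
    259 (.split 3 33 (.split 1 (-74) (.split 5 (-131) (.lin 4) (.split 6 (-164) (.lin 7) (.splitN
    106793 (.split 6 (-105) (.split 4 195 (.lin 6) (.split 2 153 (.lin 9) .sq)) (.wt 1)) (.wt
    1)))) (.lin 11)) (.wt 2)) (.lin 12))))) .sq) (.wt 1))))) (.lin 10)))) (.splitN 114551 (.split
    2 266 (.split 6 (-218) (.lin 9) (.split 4 260 (.split 3 29 (.split 4 141 (.lin 6) (.split 0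
    96 (.lin 7) (.split 1 (-74) (.splitN 107597 (.split 2 236 (.split 4 235 (.split 6 (-145)
    (.split 4 186 (.lin 6) (.split 2 189 (.lin 9) (.split 1 (-119) .sq (.lin 11)))) (.split 0 169
    (.split 2 190 (.split 1 (-111) (.lin 11) (.splitN 96771 (.split 4 213 (.split 5 (-40) (.split
    0 105 (.lin 1) (.split 0 114 (.lin 4) (.split 4 159 (.lin 6) (.splitN 79667 .sq (.split 7
    (-55) (.wt 3) (.split 6 (-108) (.split 4 168 (.lin 6) (.split 0 123 (.lin 7) (.split 2 153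
    (.lin 9) (.split 1 (-83) (.splitN 90764 .sq (.split 1 (-100) (.wt 1) (.split 2 163 (.split 6
    (-119) (.lin 9) (.wt 1)) (.lin 2)))) (.lin 11))))) (.wt 2))))))) (.splitN 85412 (.split 6
    (-104) (.split 4 150 (.lin 6) (.split 0 105 (.lin 7) (.split 2 153 (.lin 9) (.split 1 (-83)
    (.splitN 79748 .sq (.split 5 (-28) (.split 0 114 (.lin 4) (.split 4 159 (.lin 6) .sq)) (.wt
    1))) (.lin 11))))) (.wt 2)) (.wt 1))) .sq) (.wt 1))) (.lin 9)) (.lin 7))) .sq) .sq) (.wt 1))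
    (.lin 11)))) (.split 0 135 (.split 2 199 (.split 1 (-120) (.lin 2) (.split 6 (-146) (.lin 7)
    (.wt 2))) (.lin 1)) (.wt 2))) .sq)) .sq) (.wt 1)))) .sq))) .sq) (.wt 1))))) (.lin 11))))
    (.split 0 141 (.split 2 217 (.split 1 (-129) (.lin 2) (.split 5 (-95) (.lin 1) (.split 6
    (-164) (.lin 7) (.wt 2)))) (.lin 1)) (.wt 2))) (.lin 12)))) .sq) (.wt 1))) .sq) (.lin 12)))
    (.lin 1)) .sq) (.wt 1)) (.lin 12)))) (.lin 1)) .sq) (.wt 1)))) (.div 2)) (.lin 2))) (.lin 1))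
    (.div 0)) (.wt 1)))) cert5_16_4) (.lin 11))))) (.split 2 145 (.split 1 (-66) (.lin 11)
    (.split 0 214 (.split 5 (-248) (.lin 1) (.split 5 (-194) (.lin 4) (.split 0 169 (.split 5
    (-149) (.lin 4) (.split 3 43 (.split 6 (-48) (.split 7 (-42) (.split 4 78 (.lin 6) (.split 4
    87 (.lin 8) (.split 0 134 (.split 5 (-113) (.lin 4) (.split 0 129 (.split 5 (-104) (.lin 4)
    (.split 3 40 (.split 1 (-37) (.split 0 60 (.lin 4) (.split 5 (-86) (.lin 4) (.split 4 105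
    (.lin 8) (.split 6 (-64) (.split 0 110 (.split 5 (-68) (.lin 4) (.split 0 102 (.split 5 (-59)
    (.lin 4) (.split 0 96 (.split 5 (-50) (.lin 4) (.split 3 28 (.split 5 (-23) (.split 0 69
    (.lin 4) (.split 1 (-57) (.lin 4) (.split 4 114 (.lin 6) (.split 6 (-83) (.lin 7) (.splitN
    73671 (.wt 0) (.wt 6)))))) (.wt 2)) (.wt 2))) (.wt 2))) (.wt 2))) (.wt 2)) (.lin 11)))))
    (.split 6 (-65) (.lin 11) (.splitN 100318 (.split 0 55 (.split 5 (-32) (.lin 4) (.wt 2)) (.wt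
    0)) (.wt 6)))) (.wt 2))) (.wt 2))) (.wt 2)))) (.split 0 80 (.split 5 (-59) (.lin 4) (.split 0
    64 (.split 1 (-39) (.lin 4) (.split 5 (-41) (.lin 4) (.split 6 (-83) (.lin 7) (.splitN 135340
    (.split 0 54 (.split 1 (-30) (.lin 4) (.split 6 (-74) (.lin 7) (.wt 0))) (.wt 0)) (.wt 6)))))
    (.wt 2))) (.wt 2))) (.wt 2)) (.wt 2))) (.wt 2)))) (.wt 2))) (.lin 9)))

def cert5_16_6 : Cert :=
  (.split 5 (-16) (.split 0 42 (.lin 4) (.split 4 69 (.lin 8) (.split 7 (-64) (.split 2 108 (.lin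
    2) (.split 4 105 (.lin 8) (.splitN 264922 (.split 2 1462 (.split 6 (-1397) (.lin 9) (.split 4
    2924 (.split 0 2860 (.split 5 (-2840) (.lin 4) (.split 5 (-1463) (.div 5) (.splitN 241960
    (.split 0 457 (.split 1 (-435) (.lin 4) (.split 5 (-437) (.lin 4) (.split 2 468 (.split 4 871
    (.split 6 (-398) (.lin 9) (.splitN 199418 (.split 0 409 (.split 4 817 cert5_16_3 (.lin 3))
    .sq) (.wt 1))) (.lin 3)) .sq))) .sq) (.wt 1)))) (.lin 12)) (.div 4))) (.div 2)) (.wt 1))))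
    (.split 3 58 cert5_16_5 (.split 0 222 (.split 1 (-192) (.lin 4) (.split 5 (-194) (.lin 4)
    (.split 0 134 (.split 1 (-111) (.lin 4) (.split 5 (-113) (.lin 4) (.split 0 104 (.split 1
    (-75) (.lin 4) (.split 5 (-77) (.lin 4) (.split 0 83 (.split 1 (-57) (.lin 4) (.split 5 (-59)
    (.lin 4) (.split 0 69 (.split 1 (-39) (.lin 4) (.split 5 (-41) (.lin 4) (.split 4 115
    (.splitN 2038834 (.split 2 11326 (.split 6 (-11333) (.lin 0) (.splitN 176980 (.split 2 976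
    (.split 6 (-983) (.lin 0) (.splitN 125500 (.split 2 688 (.split 6 (-659) (.lin 9) (.splitN
    108426 (.split 2 598 (.split 6 (-605) (.lin 0) (.split 6 (-569) (.lin 9) (.splitN 101771
    (.split 0 57 (.split 5 (-32) (.lin 4) (.wt 2)) (.wt 0)) (.wt 6)))) (.div 2)) (.wt 6))) (.div
    2)) (.wt 6))) (.div 2)) (.wt 6))) (.div 2)) (.wt 1)) (.lin 12)))) (.wt 2)))) (.wt 2)))) (.wt
    2)))) (.wt 2)))) (.wt 2)))))) (.split 7 (-64) (.split 2 99 (.lin 1) (.split 4 87 (.lin 8)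
    (.splitN 114779 (.split 2 634 (.split 6 (-569) (.lin 9) (.splitN 105144 (.split 0 278 (.split
    1 (-273) (.lin 4) (.split 2 297 (.split 1 (-201) (.lin 2) (.split 7 (-254) (.lin 1) (.split 6
    (-227) (.lin 9) (.split 4 277 (.splitN 93740 (.split 2 275 (.split 7 (-236) (.lin 1) (.split
    6 (-209) (.lin 9) (.split 5 (-8) (.split 0 33 (.lin 4) (.split 4 96 (.lin 8) (.splitN 83353
    (.split 6 (-47) (.split 2 250 (.split 7 (-200) (.lin 1) (.split 6 (-182) (.lin 9) (.split 3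
    71 (.split 3 47 (.split 0 75 (.split 1 (-57) (.lin 4) (.split 6 (-101) (.lin 7) (.split 0 68
    (.split 1 (-48) (.lin 4) (.split 6 (-92) (.lin 7) (.split 0 57 (.split 6 (-83) (.lin 7)
    (.split 0 47 (.split 1 (-30) (.lin 4) (.split 6 (-74) (.lin 7) (.splitN 55830 (.split 3 38
    (.split 6 (-65) (.lin 7) (.wt 2)) (.wt 0)) (.wt 6)))) (.wt 2))) (.wt 2)))) (.wt 2)))) (.split
    2 153 (.lin 1) (.split 1 (-65) (.split 6 (-91) (.split 4 141 (.lin 8) (.splitN 67517 .sq (.wt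
    1))) (.lin 7)) (.lin 4)))) (.split 1 (-129) (.lin 2) (.split 7 (-173) (.lin 1) (.splitN 56031
    (.split 0 98 (.split 1 (-84) (.lin 4) (.split 6 (-155) (.lin 7) (.splitN 46412 (.split 0 41
    (.split 1 (-21) (.lin 4) (.split 6 (-92) (.lin 7) (.wt 0))) (.wt 0)) (.wt 6)))) (.wt 0)) (.wt
    6))))) (.wt 2)))) .sq) (.wt 2)) (.wt 1)))) (.splitN 38325 (.split 2 202 (.split 7 (-155)
    (.lin 1) (.split 6 (-137) (.lin 9) (.wt 2))) (.div 2)) (.wt 1))))) .sq) (.wt 1)) (.lin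
    10))))) .sq)) .sq) (.wt 1))) (.div 2)) (.wt 1)))) (.split 5 (-8) (.split 0 33 (.lin 4)
    (.split 4 60 (.lin 8) (.splitN 978704 (.split 2 5422 (.split 1 (-5367) (.lin 2) (.split 4
    5434 (.split 6 (-5393) (.lin 9) (.splitN 902974 (.split 3 103 (.split 6 (-55) (.split 0 941
    (.split 2 1072 (.split 1 (-1020) (.lin 2) (.split 1 (-921) (.lin 4) (.split 6 (-1019) (.lin
    7) (.split 4 988 (.splitN 676570 (.split 3 88 (.split 6 (-56) (.split 0 810 (.split 6 (-884)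
    (.lin 7) (.split 3 86 (.split 0 165 (.split 2 280 (.split 1 (-147) (.lin 4) (.split 6 (-227)
    (.lin 7) (.split 0 118 (.split 1 (-102) (.lin 4) (.split 6 (-182) (.lin 7) (.split 0 88
    (.split 6 (-155) (.lin 7) (.split 0 70 (.split 1 (-57) (.lin 4) (.split 6 (-137) (.lin 7)
    (.split 0 58 (.split 1 (-39) (.lin 4) (.split 6 (-119) (.lin 7) (.split 0 46 (.split 3 33
    (.lin 7) (.split 6 (-110) (.lin 7) (.wt 2))) (.wt 2)))) (.wt 2)))) (.wt 2))) (.wt 2)))) (.wt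
    2)))) (.lin 1)) (.split 2 207 (.lin 1) (.split 1 (-74) (.split 1 (-155) (.split 6 (-181)
    (.split 4 195 (.lin 8) (.splitN 168605 .sq (.wt 1))) (.lin 7)) (.lin 4)) (.lin 2)))) (.wt
    2))) .sq) (.wt 2)) (.wt 2)) (.wt 1)) (.lin 8))))) (.lin 1)) .sq) (.wt 2)) (.wt 2)) (.wt 1)))
    (.lin 8))) (.div 2)) (.wt 1)))) (.splitN 66150 (.split 2 364 (.split 6 (-335) (.lin 9) (.wt
    2)) (.div 2)) (.wt 1)))))

def cert5_16_7 : Cert :=
  (.split 3 22 (.split 6 (-29) (.lin 11) (.split 7 (-46) (.split 2 63 (.lin 2) (.split 4 60 (.lin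
    8) (.split 3 11 (.split 6 (-20) (.lin 11) (.splitN 2684182 (.split 4 29816 (.split 5 (-14909)
    (.div 5) (.split 0 14920 (.splitN 162623 .cand (.wt 3)) (.lin 4))) (.div 4)) (.wt 1)))
    (.split 6 (-28) (.splitN 306469 (.split 2 1696 (.split 7 (-1667) (.lin 2) (.splitN 36560 (.wt
    0) (.split 0 27 (.split 5 (-14) (.lin 4) (.splitN 98897 (.split 2 544 (.split 7 (-524) (.lin
    1) (.splitN 87262 (.split 7 (-56) (.split 2 90 (.lin 9) (.split 4 78 (.lin 0) (.splitN 77051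
    (.split 2 418 (.split 7 (-398) (.lin 1) (.split 7 (-68) (.split 2 99 (.lin 2) (.split 5 (-6)
    (.split 4 96 (.lin 0) (.split 0 24 (.lin 4) (.wt 0))) (.wt 1))) (.wt 0))) (.div 2)) (.wt
    1)))) (.wt 0)) (.wt 6))) (.div 2)) (.wt 1))) (.wt 2)))) (.div 2)) (.wt 1)) (.lin 11)))))
    (.split 2 64 (.split 3 11 (.split 2 55 (.split 6 (-20) (.lin 11) (.split 5 (-16) (.split 4 51
    (.lin 0) (.split 0 33 (.lin 4) (.split 0 667 (.split 5 (-671) (.lin 1) (.split 7 (-20)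
    (.split 2 45 (.lin 2) (.split 0 40 (.wt 2) (.split 5 (-31) (.split 0 47 (.wt 2) (.split 4 78
    (.lin 3) (.split 5 (-40) (.split 0 252 (.split 5 (-248) (.lin 1) (.split 4 295 (.split 0 53
    (.wt 2) (.split 4 87 (.lin 3) (.split 5 (-49) (.split 0 200 (.split 5 (-194) (.lin 1) (.split
    4 241 (.splitN 130734 (.wt 1) (.split 7 (-33) (.split 2 54 (.lin 2) (.split 0 68 (.wt 0)
    (.split 5 (-58) (.split 4 105 (.lin 0) (.splitN 140425 (.wt 1) (.split 0 76 (.wt 0) (.split 5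
    (-67) (.split 0 99 (.wt 2) (.split 5 (-94) (.split 0 111 (.wt 2) (.split 5 (-103) (.split 4
    150 (.lin 0) (.splitN 192476 (.split 0 175 (.split 5 (-158) (.lin 1) (.split 4 205 (.split 0
    117 (.wt 2) (.split 5 (-112) (.split 4 159 (.lin 0) (.splitN 184025 (.split 0 147 (.split 5
    (-131) (.lin 1) (.split 4 178 (.split 0 124 (.wt 2) (.split 5 (-121) (.split 4 168 (.lin 0)
    (.splitN 176679 (.wt 0) (.wt 1))) (.lin 1))) (.lin 0))) (.wt 0)) (.wt 1))) (.lin 1))) (.lin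
    0))) (.wt 0)) (.wt 1))) (.lin 1))) (.lin 1))) (.lin 1))))) (.lin 1)))) (.split 2 46 (.split 4
    223 (.splitN 1601186 (.split 0 124 (.split 5 (-113) (.lin 1) (.split 4 151 (.splitN 874477
    (.split 0 103 (.split 5 (-86) (.lin 1) (.split 4 124 (.splitN 657553 (.split 0 91 (.split 5
    (-77) (.lin 1) (.split 4 115 (.splitN 588479 (.split 0 87 (.split 5 (-68) (.lin 1) (.split 4
    106 (.split 0 64 (.wt 2) (.split 5 (-58) (.split 4 96 (.lin 0) (.splitN 464554 (.split 0 74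
    (.split 5 (-59) (.lin 1) (.split 4 97 (.splitN 414582 (.wt 0) (.wt 0)) (.lin 0))) (.wt 0))
    (.wt 1))) (.lin 1))) (.lin 0))) (.wt 0)) (.wt 1)) (.lin 0))) (.wt 0)) (.wt 1)) (.lin 0)))
    (.wt 0)) (.wt 1)) (.lin 0))) (.wt 0)) (.wt 1)) (.lin 3)) (.lin 2)))) (.lin 0))) (.wt 2))
    (.lin 4)))) (.lin 0))) (.wt 2)) (.lin 4)))) (.lin 4)))) (.wt 0))) (.wt 2)))) (.split 4 61
    (.split 0 25 (.split 5 (-12) (.wt 2) (.split 4 52 (.split 0 16 (.splitN 42961 (.wt 1)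
    (.splitN 56183 (.split 7 (-27) (.split 2 45 (.lin 1) (.split 4 42 (.lin 0) (.splitN 50764
    (.split 7 (-31) (.wt 0) (.wt 0)) (.wt 6)))) (.wt 0)) (.wt 6))) (.lin 4)) (.lin 0))) (.lin 4))
    (.lin 0)))) (.lin 2)) (.split 0 27 (.split 5 (-14) (.lin 4) (.wt 2)) (.wt 0))) (.lin 2))))
    (.split 6 (-37) (.split 7 (-20) (.split 4 42 (.lin 8) (.split 5 (-16) (.split 0 33 (.lin 4)
    (.split 4 60 (.lin 8) (.split 7 (-32) (.split 4 69 (.lin 8) (.split 3 118 (.split 6 (-128)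
    (.lin 11) (.split 7 (-39) (.split 4 78 (.lin 8) (.split 0 84 (.split 5 (-68) (.lin 4)
    (.splitN 1128189 (.split 2 6250 (.split 4 6289 (.split 7 (-6257) (.lin 1) (.split 0 64
    (.split 5 (-50) (.lin 4) (.splitN 720766 (.split 2 4000 (.split 4 4021 (.split 0 59 (.split 5
    (-41) (.lin 4) (.splitN 554869 (.split 2 3082 (.split 7 (-3062) (.lin 1) (.split 3 34 (.split
    6 (-47) (.lin 11) (.wt 2)) (.wt 2))) (.div 2)) (.wt 1))) (.wt 2)) (.lin 0)) (.div 2)) (.wt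
    1))) (.wt 2))) (.lin 0)) (.div 2)) (.wt 1))) (.wt 2))) (.wt 0))) (.wt 2))) (.wt 0)))) (.split
    0 25 (.split 7 (-64) (.split 4 78 (.lin 8) (.splitN 381000 (.split 2 2110 (.split 4 2095
    (.split 6 (-2054) (.lin 0) (.splitN 350999 (.split 2 581 (.split 6 (-524) (.lin 0) (.split 7
    (-551) (.lin 1) (.split 6 (-38) (.split 3 33 (.lin 11) (.split 6 (-50) (.split 3 42 (.lin 11)
    (.split 5 (-5) (.split 0 24 (.lin 4) (.split 4 87 (.lin 8) (.splitN 77622 (.split 2 418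
    (.split 6 (-353) (.lin 0) (.split 7 (-362) (.lin 1) (.wt 2))) (.div 2)) (.wt 6)))) (.wt 2)))
    (.wt 2))) (.wt 2)))) .sq) (.wt 1))) (.lin 0)) (.div 2)) (.wt 1))) (.split 3 326 (.split 2 397
    (.split 6 (-344) (.lin 7) (.split 3 123 (.split 6 (-128) (.lin 11) (.split 3 60 (.split 6
    (-74) (.lin 7) (.split 6 (-65) (.lin 11) (.split 0 19 (.split 5 (-5) (.lin 4) (.splitN 110470
    (.wt 0) (.wt 1))) (.wt 2)))) (.wt 2))) (.wt 2))) (.lin 1)) (.wt 2))) (.lin 4)))) (.wt 3))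
    (.lin 11)))

def cert5_16 : Cert :=
  (.split 1 (-12) (.split 2 36 (.lin 2) (.split 0 24 (.lin 4) (.split 4 33 (.lin 8) (.split 6
    (-28) (.split 7 (-28) (.split 2 54 (.lin 2) (.split 4 51 (.lin 8) (.split 3 22 cert5_16_2
    (.split 2 72 (.lin 2) (.split 6 (-46) cert5_16_6 (.lin 11)))))) (.split 3 119 (.split 3 28
    (.split 3 13 (.split 5 (-35) (.wt 6) (.split 6 (-878) (.wt 6) (.split 4 916 (.split 0 898
    (.split 1 (-903) (.lin 8) (.split 5 (-30) (.wt 6) (.split 6 (-531) (.wt 6) (.split 4 556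
    (.split 0 538 (.split 6 (-420) (.wt 6) (.split 4 448 (.split 0 430 (.split 6 (-372) (.wt 6)
    (.split 4 403 (.split 0 385 (.split 6 (-349) (.wt 6) (.split 4 376 (.split 0 358 (.split 6
    (-334) (.wt 6) (.split 7 (-15) (.split 5 (-12) (.wt 2) (.split 4 340 (.split 6 (-77) (.wt 2)
    (.split 4 88 (.split 0 70 (.split 1 (-66) (.lin 8) (.split 6 (-48) (.wt 2) (.split 4 61
    (.split 0 43 (.split 0 25 (.wt 2) (.split 2 54 (.lin 1) (.split 1 (-29) (.split 6 (-37)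
    (.split 4 51 (.lin 6) (.splitN 73421 (.wt 1) (.wt 0))) (.lin 7)) (.lin 2)))) (.lin 7)) (.lin
    6)))) (.lin 7)) (.lin 6))) (.lin 6))) (.wt 1))) (.lin 7)) (.lin 6))) (.lin 7)) (.lin 6)))
    (.lin 7)) (.lin 6))) (.lin 7)) (.lin 6))))) (.lin 7)) (.lin 6)))) (.split 2 45 (.lin 2)
    (.split 7 (-12) (.split 4 42 (.lin 8) (.split 5 (-16) (.split 0 42 (.lin 4) (.split 4 60
    (.lin 8) (.split 1 (-41) (.split 0 69 (.lin 4) (.split 4 87 (.lin 8) (.split 3 23 (.split 6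
    (-66) (.split 4 96 (.lin 6) (.split 0 78 (.lin 7) (.split 6 (-75) (.split 4 105 (.lin 6)
    (.split 0 87 (.lin 7) (.split 6 (-85) (.split 4 114 (.lin 6) (.split 0 96 (.lin 7) (.split 2
    108 (.lin 9) (.split 6 (-94) (.split 4 123 (.lin 6) (.split 0 105 (.lin 7) (.split 6 (-105)
    (.split 4 132 (.lin 6) (.split 0 114 (.lin 7) (.wt 3))) (.wt 0)))) (.wt 0))))) (.wt 0))))
    (.wt 0)))) (.wt 0)) (.wt 0)))) (.wt 3)))) (.split 6 (-39) (.split 2 63 (.lin 9) (.split 5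
    (-8) (.split 0 33 (.lin 1) (.split 6 (-54) (.split 0 42 (.lin 7) (.split 6 (-70) (.split 4 78
    (.lin 6) (.split 0 60 (.lin 7) (.split 2 90 (.lin 9) (.split 0 2659 (.split 2 2683 (.split 1
    (-2649) (.lin 2) (.split 6 (-2666) (.lin 7) (.split 0 910 (.split 2 937 (.split 1 (-903)
    (.lin 2) (.split 6 (-920) (.lin 7) (.split 0 403 (.split 2 433 (.split 1 (-399) (.lin 2)
    (.split 6 (-416) (.lin 7) (.split 0 197 (.split 2 226 (.split 1 (-192) (.lin 2) (.split 6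
    (-209) (.lin 7) (.split 0 101 (.split 2 127 (.split 1 (-93) (.lin 2) (.split 6 (-110) (.lin
    7) (.wt 0))) (.lin 1)) (.wt 0)))) (.lin 1)) (.wt 0)))) (.lin 1)) (.wt 0)))) (.lin 1)) (.wt
    0)))) (.lin 1)) (.wt 0))))) (.wt 2))) (.wt 2))) (.splitN 193129 (.split 2 1066 (.split 0 1033
    (.split 6 (-1055) (.lin 7) (.wt 2)) (.lin 1)) (.div 2)) (.wt 1)))) (.wt 2)))) (.wt 0))))
    (.split 2 63 (.lin 2) (.split 0 60 (.split 1 (-48) (.lin 4) (.split 5 (-32) (.lin 4) (.split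
    6 (-164) (.lin 7) (.wt 0)))) (.wt 0)))) (.wt 5))) (.lin 11))))) (.split 1 (-5) (.split 2 27
    (.lin 2) (.split 0 15 (.lin 4) (.split 4 24 (.lin 8) (.split 6 (-19) (.split 7 (-12) (.split
    2 36 (.lin 2) (.split 4 33 (.lin 8) cert5_16_7)) (.wt 3)) (.lin 11))))) (.wt 3)))

theorem check5_16 :
    check task5 cert5_16
      [(7, ⟨some (7), none⟩), (7, ⟨none, some (-2)⟩), (1, ⟨some (19), none⟩), (7, ⟨some (7), none⟩), (7, ⟨some (16), none⟩), (5, ⟨none, some (-4)⟩), (8, ⟨none, some (-10)⟩), (8, ⟨none, some (-10)⟩)] ⟨some (3960), none⟩ = true := by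
  decide +kernel

def cert5_17 : Cert :=
  (.lin 1)

theorem check5_17 :
    check task5 cert5_17
      [(7, ⟨some (7), none⟩), (7, ⟨none, some (-2)⟩), (1, ⟨some (19), some (19)⟩), (7, ⟨some (7), none⟩), (7, ⟨some (16), none⟩), (5, ⟨some (5), none⟩), (8, ⟨none, some (-10)⟩), (8, ⟨none, some (-10)⟩)] ⟨some (3960), none⟩ = true := by
  decide +kernel

def cert5_18 : Cert :=
  (.wt 1)

theorem check5_18 :
    check task5 cert5_18
      [(7, ⟨some (7), none⟩), (7, ⟨none, some (-11)⟩), (1, ⟨some (28), none⟩), (7, ⟨some (7), none⟩), (7, ⟨some (16), none⟩), (5, ⟨some (5), none⟩), (8, ⟨none, some (-19)⟩), (8, ⟨none, some (-10)⟩)] ⟨some (3960), some (20160)⟩ = true := by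
  decide +kernel

def cert5_19 : Cert :=
  (.lin 1)

theorem check5_19 :
    check task5 cert5_19
      [(7, ⟨some (7), none⟩), (7, ⟨none, some (-11)⟩), (1, ⟨some (28), some (37)⟩), (7, ⟨some (7), none⟩), (7, ⟨some (16), none⟩), (5, ⟨some (5), none⟩), (8, ⟨none, some (-19)⟩), (8, ⟨none, some (-28)⟩)] ⟨some (23400), none⟩ = true := by
  decide +kernel

def cert5_20 : Cert :=
  (.lin 12)

theorem check5_20 :
    check task5 cert5_20
      [(7, ⟨some (7), none⟩), (7, ⟨none, some (-11)⟩), (1, ⟨some (46), none⟩), (7, ⟨some (7), none⟩), (7, ⟨some (16), some (25)⟩), (5, ⟨some (5), none⟩), (8, ⟨none, some (-19)⟩), (8, ⟨none, some (-28)⟩)] ⟨some (23400), none⟩ = true := by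
  decide +kernel

def cert5_21 : Cert :=
  (.split 3 9 (.wt 2) (.split 2 54 (.lin 1) (.split 6 (-28) (.split 6 (-754) (.wt 6) (.split 3
    736 (.split 1 (-732) (.lin 11) (.split 5 725 (.split 0 7 (.wt 6) (.split 1 (-20) (.split 6
    (-37) (.split 3 26 (.wt 2) (.split 6 (-55) (.split 3 45 (.wt 2) (.split 2 99 (.lin 1) (.split
    5 680 (.split 6 (-73) (.splitN 65770 (.wt 6) (.split 7 (-120) (.wt 0) (.split 4 133 (.splitN
    77617 (.wt 6) (.split 7 (-77) (.wt 0) (.split 4 88 (.splitN 85491 (.wt 6) (.split 7 (-62)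
    (.wt 0) (.split 4 70 (.split 5 5 (.wt 1) (.split 2 108 (.lin 1) (.split 1 (-29) (.split 6
    (-82) (.splitN 442132 (.wt 6) (.split 1 (-32) (.wt 0) (.split 5 14 (.wt 0) (.lin 4)))) (.lin
    7)) (.lin 4)))) (.lin 12)))) (.lin 12)))) (.lin 12)))) (.lin 7)) (.lin 7)))) (.lin 7))) (.lin
    7)) (.lin 4))) (.lin 4))) (.lin 7))) (.lin 7))))

theorem check5_21 :
    check task5 cert5_21
      [(7, ⟨some (7), some (16)⟩), (7, ⟨none, some (-11)⟩), (1, ⟨some (46), none⟩), (7, ⟨some (7), none⟩), (7, ⟨some (34), none⟩), (5, ⟨some (5), none⟩), (8, ⟨none, some (-19)⟩), (8, ⟨none, some (-28)⟩)] ⟨some (23400), none⟩ = true := by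
  decide +kernel

def cert5_22 : Cert :=
  (.lin 1)

theorem check5_22 :
    check task5 cert5_22
      [(7, ⟨some (25), none⟩), (7, ⟨none, some (-11)⟩), (1, ⟨some (46), some (55)⟩), (7, ⟨some (7), none⟩), (7, ⟨some (34), none⟩), (5, ⟨some (5), none⟩), (8, ⟨none, some (-19)⟩), (8, ⟨none, some (-28)⟩)] ⟨some (23400), none⟩ = true := by
  decide +kernel

def cert5_23 : Cert :=
  (.lin 12)

theorem check5_23 :
    check task5 cert5_23
      [(7, ⟨some (25), none⟩), (7, ⟨none, some (-29)⟩), (1, ⟨some (64), none⟩), (7, ⟨some (7), none⟩), (7, ⟨some (34), some (43)⟩), (5, ⟨some (5), none⟩), (8, ⟨none, some (-37)⟩), (8, ⟨none, some (-28)⟩)] ⟨some (23400), none⟩ = true := by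
  decide +kernel

def cert5_24 : Cert :=
  (.wt 1)

theorem check5_24 :
    check task5 cert5_24
      [(7, ⟨some (25), none⟩), (7, ⟨none, some (-29)⟩), (1, ⟨some (64), none⟩), (7, ⟨some (7), none⟩), (7, ⟨some (52), none⟩), (5, ⟨some (5), none⟩), (8, ⟨none, some (-37)⟩), (8, ⟨none, some (-28)⟩)] ⟨some (23400), some (26640)⟩ = true := by
  decide +kernel

def cert5_25 : Cert :=
  (.wt 2)

theorem check5_25 :
    check task5 cert5_25
      [(7, ⟨some (25), none⟩), (7, ⟨none, some (-29)⟩), (1, ⟨some (64), none⟩), (7, ⟨some (7), some (7)⟩), (7, ⟨some (52), none⟩), (5, ⟨some (5), none⟩), (8, ⟨none, some (-37)⟩), (8, ⟨none, some (-28)⟩)] ⟨some (29880), none⟩ = true := by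
  decide +kernel

def cert5_26 : Cert :=
  (.lin 1)

theorem check5_26 :
    check task5 cert5_26
      [(7, ⟨some (25), none⟩), (7, ⟨none, some (-29)⟩), (1, ⟨some (64), some (64)⟩), (7, ⟨some (16), none⟩), (7, ⟨some (52), none⟩), (5, ⟨some (5), none⟩), (8, ⟨none, some (-37)⟩), (8, ⟨none, some (-28)⟩)] ⟨some (29880), none⟩ = true := by
  decide +kernel

end Cfsg.Agent.EightLocal
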