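import Cfsg.Agent.Lib.EightLocal.ValueFacts

/-!
# Traces of short combinations of elements of `3 × A₅`
-/

set_option autoImplicit false
set_option maxRecDepth 100000
set_option synthInstance.maxSize 10000

namespace Cfsg.Agent.EightLocal

/-- An integer combination of elements of `3 × A₅`. -/
abbrev El : Type := List (ℤ × K)

def mulE (l l' : El) : El := l.flatMap fun p => l'.map fun q => (p.1 * q.1, p.2 * q.2)

def starE (l : El) : El := l.map fun p => (p.1, p.2⁻¹)

def smulE (c : ℤ) (l : El) : El := l.map fun p => (c * p.1, p.2)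

def trE (d : ℤ) (l : El) : ℤ := (l.map fun p => p.1 * val d p.2).sum

/-- The natural permutation character, less one. -/
def fix5 (s : A5) : ℤ :=
  (([0, 1, 2, 3, 4] : List (Fin 5)).map fun i =>
    if (s : Equiv.Perm (Fin 5)) i = i then (1 : ℤ) else 0).sum - 1

theorem fix5_eq : ∀ s : A5, p4 s = fix5 s := by decide +kernel

/-- The same trace, computed from fixed points. -/
def trF (d : ℤ) (l : El) : ℤ :=
  (l.map fun p => p.1 * ((if p.2.1 = 1 then d - 4 else d - 7) + fix5 p.2.2)).sum

theorem trE_eq (d : ℤ) (l : El) : trE d l = trF d l := by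
  simp only [trE, trF, val, fix5_eq]

/-- The nine elements of the Sylow subgroup. -/
def nine : List (ZMod 3 × ZMod 3) :=
  [(0, 0), (0, 1), (0, 2), (1, 0), (1, 1), (1, 2), (2, 0), (2, 1), (2, 2)]

def e9 : El := nine.map fun a => (1, dK a)

def z3 : El := [(1, 1), (1, zK), (1, zK⁻¹)]

def w3 : El := [(1, 1), (1, wK), (1, wK⁻¹)]

def rL : El := [(1, rK)]

def f18 : El := mulE e9 [(1, 1), (-1, rK)]

def uL : El := [(1, xK), (-1, xK⁻¹)]

/-- Whether a combination is killed by the representation, whatever the degree. -/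
def killed (l : El) : Bool := ((l.map Prod.fst).sum == 0) && (trF 0 (mulE (starE l) l) == 0)

theorem trE_shift (d : ℤ) : ∀ l : El, trE d l = d * (l.map Prod.fst).sum + trE 0 l
  | [] => by simp [trE]
  | p :: l => by
    have ih := trE_shift d l
    simp only [trE, List.map_cons, List.sum_cons] at ih ⊢
    rw [ih]
    simp only [val]
    split_ifs <;> ring

theorem sum_fst_mulE : ∀ l l' : El,
    ((mulE l l').map Prod.fst).sum = (l.map Prod.fst).sum * (l'.map Prod.fst).sum
  | [], l' => by simp [mulE]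
  | p :: l, l' => by
    have ih := sum_fst_mulE l l'
    simp only [mulE] at ih ⊢
    simp only [List.flatMap_cons, List.map_append, List.sum_append, ih, List.map_cons, List.sum_cons,
      add_mul, List.map_map]
    congr 1
    exact List.sum_map_mul_left _ _ _

theorem trE_killed {l : El} (h : killed l = true) (d : ℤ) : trE d (mulE (starE l) l) = 0 := by
  simp only [killed, Bool.and_eq_true, beq_iff_eq] at h
  rw [trE_shift, sum_fst_mulE, h.1, trE_eq 0, h.2]
  simp

/-- The traces. -/
theorem trace_facts : ∀ d ∈ [(7 : ℤ), 8],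
    trE d e9 = 9 * (d - 4) ∧ trE d (mulE e9 rL) = 9 * (d - 6) ∧ trE d f18 = 18 ∧
      trE d (mulE f18 uL) = 0 ∧ trE d (mulE f18 (mulE uL uL)) = -54 ∧
      trE d (mulE f18 (mulE (mulE uL e9) uL)) = -270 ∧
      val d 1 = d ∧ val d xK = d - 3 ∧ val d xK⁻¹ = d - 3 := by
  simp only [trE_eq]
  decide +kernel

/-- The identities. -/
theorem killed_facts :
    killed (mulE e9 rL ++ smulE (-1) (mulE rL e9)) = true ∧
      killed (e9 ++ smulE (-1) (starE e9)) = true ∧
      killed (smulE 18 uL ++ smulE (-1) (mulE uL f18 ++ mulE f18 uL)) = true ∧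
      killed (e9 ++ smulE (-1) (mulE z3 w3)) = true ∧
      killed (smulE 3 uL ++ smulE (-1) (mulE uL z3)) = true ∧
      killed (smulE 3 uL ++ smulE (-1) (mulE z3 uL)) = true := by
  decide +kernel

theorem rw_facts : (∀ a b, ∃ c, dK a * rK * dK b = rK * dK c) ∧ rK * rK = 1 ∧
    xK * xK = xK⁻¹ ∧ xK ^ 3 = 1 ∧ zK * xK = xK * zK ∧ tau ≠ 1 := by
  decide +kernel

end Cfsg.Agent.EightLocal
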