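import Cfsg.Agent.Lib.EightLocal.ValueFacts
import Cfsg.Agent.Lib.EightLocal.Counts
import Cfsg.Agent.Lib.EightLocal.Section
import Cfsg.Agent.Lib.Characters.Kernel
import Cfsg.Agent.OddChar.PowTwist
import Cfsg.Agent.BlocksChars.ClassAlg

/-!
# The small character on the centralizer of `z` and on the elements inverting the Sylow subgroup

On `3 × A₅` it is the natural permutation character, less a constant.
-/

set_option autoImplicit false
set_option maxRecDepth 100000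
set_option synthInstance.maxSize 10000
set_option linter.style.haveILetI false
set_option linter.unusedSectionVars false

namespace Cfsg.Agent.EightLocal

open Subgroup Cfsg.Agent.Characters
open scoped ComplexConjugate

universe u

variable {G : Type u} [Group G] [Finite G] {P : Sylow 3 G} {φ : Pairs →* G} {t : G}

theorem card_C3 : Fintype.card C3 = 3 := by decide

/-- The part of a character of `3 × A₅` on an eigenspace of the centre. -/
theorem isCharacter_eigen {θ : K → ℂ} (hθ : Cfsg.IsCharacter K θ) (lam : C3 →* ℂ) :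
    Cfsg.IsCharacter A5 fun s => (∑ c : C3, θ (c, s) * conj (lam c)) / 3 := by
  classical
  refine isCharacter_of_classInner_nat (fun s h => ?_) fun ξ hξ => ?_
  · have hcl := char_isClassFunction hθ
    congr 1
    refine Finset.sum_congr rfl fun c _ => ?_
    have := hcl (c, s) (1, h)
    rw [show ((1 : C3), h) * (c, s) * ((1 : C3), h)⁻¹ = (c, h * s * h⁻¹) from
      Prod.ext (by simp) rfl] at this
    rw [this]
  · obtain ⟨m, hm⟩ := classInner_char_nat hθ
      (isCharacter_mul (isCharacter_comp (MonoidHom.fst C3 A5)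
        (isCharacter_of_isIrr (isIrrCharacter_monoidHom lam)))
        (isCharacter_comp (MonoidHom.snd C3 A5) (isCharacter_of_isIrr hξ)))
    refine ⟨m, ?_⟩
    rw [← hm, classInner_def, classInner_def, Nat.card_prod, Nat.cast_mul,
      Nat.card_eq_fintype_card (α := C3), card_C3, Fintype.sum_prod_type, Finset.sum_comm,
      Finset.mul_sum, Finset.mul_sum]
    refine Finset.sum_congr rfl fun s _ => ?_
    rw [div_mul_eq_mul_div, Finset.sum_mul, Finset.mul_sum, Finset.sum_div, Finset.mul_sum]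
    refine Finset.sum_congr rfl fun c _ => ?_
    simp only [MonoidHom.coe_fst, MonoidHom.coe_snd, Function.comp_apply, Pi.mul_apply, map_mul]
    push_cast
    ring

/-- A character of degree one that is trivial at `sigma` is trivial. -/
theorem linear_trivial {ξ : A5 → ℂ} (h : Cfsg.IsCharacter A5 ξ) (h1 : ξ 1 = 1) (hs : ξ sigma = 1) :
    ∀ s, ξ s = 1 := by
  intro s
  haveI : IsSimpleGroup A5 := alternatingGroup.isSimpleGroup (by simp)
  rcases (charKernel_normal h).eq_bot_or_eq_top with e | e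
  · exact absurd (Subgroup.mem_bot.1 (e ▸ (mem_charKernel.2 (hs.trans h1.symm) :
      sigma ∈ charKernel ξ h))) sigma_ne
  · have : s ∈ charKernel ξ h := by rw [e]; exact Subgroup.mem_top s
    exact (mem_charKernel.1 this).trans h1

/-- A character of `A₅` determined by two inner products and a value. -/
theorem eigen_zero {ψ : A5 → ℂ} (h : Cfsg.IsCharacter A5 ψ) {d : ℕ} (h1 : ψ 1 = (d : ℂ) - 2)
    (hA : (∑ s, ψ s * (phiA s : ℂ)) / 60 = (d : ℂ) - 6) (hB : (∑ s, ψ s * (phiB s : ℂ)) / 60 = 1)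
    (hσ : ψ sigma = (d : ℂ) - 5) : ∀ s, ψ s = (d : ℂ) - 6 + (p4 s : ℂ) := by
  classical
  haveI := Fintype.ofFinite (Cfsg.IrrCharacter A5)
  obtain ⟨n, hn⟩ := char_eq_sum_nat h
  obtain ⟨-, -, h41, h51, hA1, hB1, h4A, h4B, h5A, h5B, -⟩ := p_facts
  set L : (A5 → ℂ) → ℂ := fun f =>
    f 1 - ((∑ s, f s * (phiA s : ℂ)) / 60 + 4 * ((∑ s, f s * (phiB s : ℂ)) / 60)) with hL
  set C : Cfsg.IrrCharacter A5 → Prop := fun ξ => (ξ : A5 → ℂ) = (fun _ => 1) ∨
    (ξ : A5 → ℂ) = (fun s => (p4 s : ℂ)) ∨ (ξ : A5 → ℂ) = fun s => (p5 s : ℂ)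
  have hLξ : ∀ ξ : Cfsg.IrrCharacter A5, L (ξ : A5 → ℂ) = if C ξ then 0 else (ξ : A5 → ℂ) 1 := by
    intro ξ
    by_cases hc : C ξ
    · rw [if_pos hc]
      rcases hc with e | e | e
      · simp only [hL, e, one_mul, ← Int.cast_sum, hA1, hB1]; norm_num
      · simp only [hL, e, ← Int.cast_mul, ← Int.cast_sum, h4A, h4B, h41]; norm_num
      · simp only [hL, e, ← Int.cast_mul, ← Int.cast_sum, h5A, h5B, h51]; norm_num
    · rw [if_neg hc]
      rcases irr_cases ξ.2 with e | ⟨e1, e2, -⟩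
      · exact absurd e hc
      · simp only [hL, e1, e2]; norm_num
  choose e he using fun ξ : Cfsg.IrrCharacter A5 => irr_one_pos ξ.2
  have hsum : ∑ ξ, (n ξ : ℂ) * L (ξ : A5 → ℂ) = 0 := by
    have hlin : L ψ = ∑ ξ, (n ξ : ℂ) * L (ξ : A5 → ℂ) := by
      rw [hn]
      simp only [hL, Finset.sum_apply, Pi.smul_apply, smul_eq_mul, Finset.sum_mul, mul_sub, mul_add,
        Finset.sum_sub_distrib, Finset.sum_add_distrib, Finset.mul_sum, Finset.sum_div, mul_div_assoc']
      congr 2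
      · rw [Finset.sum_comm]
        exact Finset.sum_congr rfl fun ξ _ => Finset.sum_congr rfl fun s _ => by ring
      · rw [Finset.sum_comm]
        exact Finset.sum_congr rfl fun ξ _ => Finset.sum_congr rfl fun s _ => by ring
    rw [← hlin]
    simp only [hL, h1, hA, hB]
    ring
  have hnat : ∑ ξ, (if C ξ then 0 else n ξ * e ξ) = 0 := by
    have : ((∑ ξ, (if C ξ then 0 else n ξ * e ξ) : ℕ) : ℂ) = 0 := by
      rw [← hsum, Nat.cast_sum]
      refine Finset.sum_congr rfl fun ξ _ => ?_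
      rw [hLξ]
      split_ifs
      · simp
      · rw [(he ξ).2]; push_cast; rfl
    exact_mod_cast this
  have hz : ∀ ξ, ¬ C ξ → n ξ = 0 := fun ξ hc => by
    have := (Finset.sum_eq_zero_iff.1 hnat) ξ (Finset.mem_univ _)
    rw [if_neg hc] at this
    exact (mul_eq_zero.1 this).resolve_right (he ξ).1.ne'
  -- the three possible constituents
  set i1 : Cfsg.IrrCharacter A5 := ⟨_, isIrrCharacter_one⟩
  set i4 : Cfsg.IrrCharacter A5 := ⟨_, irr_p4⟩
  set i5 : Cfsg.IrrCharacter A5 := ⟨_, irr_p5⟩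
  have hd14 : i1 ≠ i4 := fun e => by
    have := congrArg (fun ξ : Cfsg.IrrCharacter A5 => (ξ : A5 → ℂ) 1) e
    simp [i1, i4, h41] at this
  have hd15 : i1 ≠ i5 := fun e => by
    have := congrArg (fun ξ : Cfsg.IrrCharacter A5 => (ξ : A5 → ℂ) 1) e
    simp [i1, i5, h51] at this
  have hd45 : i4 ≠ i5 := fun e => by
    have := congrArg (fun ξ : Cfsg.IrrCharacter A5 => (ξ : A5 → ℂ) 1) e
    simp [i4, i5, h41, h51] at this
  have hψ : ∀ s, ψ s = (n i1 : ℂ) + (n i4 : ℂ) * (p4 s : ℂ) + (n i5 : ℂ) * (p5 s : ℂ) := by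
    intro s
    rw [hn, Finset.sum_apply]
    rw [← Finset.sum_subset (Finset.subset_univ {i1, i4, i5}) fun ξ _ hξ => ?_]
    · rw [Finset.sum_insert (by simp [hd14, hd15]), Finset.sum_insert (by simp [hd45]),
        Finset.sum_singleton]
      simp only [i1, i4, i5, Pi.smul_apply, smul_eq_mul, mul_one]
      ring
    · simp only [Finset.mem_insert, Finset.mem_singleton, not_or] at hξ
      rw [hz ξ (by
        rintro (e | e | e)
        · exact hξ.1 (Subtype.ext e)
        · exact hξ.2.1 (Subtype.ext e)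
        · exact hξ.2.2 (Subtype.ext e))]
      simp
  have e1 := hψ 1
  have eσ := hψ sigma
  rw [h1, h41, h51] at e1
  rw [hσ, p4_sigma.1, p4_sigma.2] at eσ
  simp only [hψ, add_mul, mul_assoc, Finset.sum_add_distrib, ← Finset.mul_sum, ← Int.cast_mul,
    ← Int.cast_sum, hB1, h4B, h5B] at hB
  push_cast at e1 eσ hB
  intro s
  have a5 : (n i5 : ℂ) = 0 := by linear_combination (1 / 3 : ℂ) * eσ - (1 / 3 : ℂ) * e1 - hB
  have a4 : (n i4 : ℂ) = 1 := by linear_combination hB - a5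
  have a1 : (n i1 : ℂ) = (d : ℂ) - 6 := by linear_combination -e1 - 4 * a4 - 5 * a5
  rw [hψ, a1, a4, a5]
  ring

variable (D : Data P φ t)
include D

/-- The values on `3 × A₅`. -/
theorem Data.restrict (χ : Cfsg.IrrCharacter G) {d : ℕ} (h1 : (χ : G → ℂ) 1 = (d : ℂ))
    (hz : (χ : G → ℂ) (J φ zK) = (d : ℂ) - 3) (hy : (χ : G → ℂ) (J φ yK) = (d : ℂ) - 6)
    (hA : La φ phiA (χ : G → ℂ) = (d : ℂ) - 7) (hB : La φ phiB (χ : G → ℂ) = 1) (k : K) :
    (χ : G → ℂ) (J φ k) = (val d k : ℂ) := by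
  classical
  obtain ⟨hw, hwi, hw3⟩ := SelfNine.omega3_facts
  set ω := SelfNine.omega3
  have hcl := irr_isClassFunction χ
  set θ : K → ℂ := fun k => (χ : G → ℂ) (J φ k) with hθdef
  have hθ : Cfsg.IsCharacter K θ := isCharacter_comp (J φ) (irr_isCharacter χ)
  let hom : ∀ w : ℂ, w ^ 3 = 1 → C3 →* ℂ := fun w hw3 =>
    { toFun := fun c => w ^ (Multiplicative.toAdd c).val
      map_one' := by simp
      map_mul' := fun a b => by
        rw [← pow_add, toAdd_mul, ZMod.val_add]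
        exact (pow_eq_pow_mod _ hw3).symm }
  have hconj : conj ω = ω ^ 2 := by
    rw [← hwi, Complex.inv_eq_conj (Complex.norm_eq_one_of_pow_eq_one hw (by norm_num))]
  have hC : (Finset.univ : Finset C3) = {1, cz, cz⁻¹} := by decide
  have eig : ∀ (w : ℂ) (hw3 : w ^ 3 = 1) (s : A5), (∑ c : C3, θ (c, s) * conj (hom w hw3 c)) / 3 =
      (θ (1, s) + θ (cz, s) * conj w + θ (cz⁻¹, s) * conj w ^ 2) / 3 := by
    intro w hw3 s
    rw [hC, Finset.sum_insert (by decide), Finset.sum_insert (by decide), Finset.sum_singleton]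
    simp only [hom, MonoidHom.coe_mk, OneHom.coe_mk,
      show (Multiplicative.toAdd (1 : C3)).val = 0 from rfl,
      show (Multiplicative.toAdd cz).val = 1 from rfl,
      show (Multiplicative.toAdd cz⁻¹).val = 2 from rfl, pow_zero, pow_one, map_one, map_pow, mul_one]
    ring
  have hzi : ∀ a : ZMod 3 × ZMod 3, a ≠ 0 → OnAxis a → θ (dK a) = (d : ℂ) - 3 := fun a ha h => by
    rw [hθdef, ← hz]
    exact (BlocksChars.ClassAlg.classFun_eq_of_isConj hcl (D.axis_conj ha h)).symm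
  have hyi : ∀ a : ZMod 3 × ZMod 3, ¬ OnAxis a → θ (dK a) = (d : ℂ) - 6 := fun a h => by
    rw [hθdef, ← hy]
    exact (BlocksChars.ClassAlg.classFun_eq_of_isConj hcl (D.off_conj h)).symm
  have hk : ((1 : C3), (1 : A5)) = dK 0 ∧ (cz, (1 : A5)) = dK (1, 0) ∧
      (cz⁻¹, (1 : A5)) = dK (2, 0) ∧ ((1 : C3), sigma) = dK (0, 1) ∧
      (cz, sigma) = dK (1, 1) ∧ (cz⁻¹, sigma) = dK (2, 1) := hk_facts
  have v1 : θ (1, 1) = (d : ℂ) := by
    rw [← h1]
    simp only [hθdef, show ((1 : C3), (1 : A5)) = (1 : K) from rfl, map_one]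
  have v2 : θ (cz, 1) = (d : ℂ) - 3 := by rw [hk.2.1]; exact hzi _ (by decide) (by decide)
  have v3 : θ (cz⁻¹, 1) = (d : ℂ) - 3 := by rw [hk.2.2.1]; exact hzi _ (by decide) (by decide)
  have v4 : θ (1, sigma) = (d : ℂ) - 3 := by rw [hk.2.2.2.1]; exact hzi _ (by decide) (by decide)
  have v5 : θ (cz, sigma) = (d : ℂ) - 6 := by rw [hk.2.2.2.2.1]; exact hyi _ (by decide)
  have v6 : θ (cz⁻¹, sigma) = (d : ℂ) - 6 := by rw [hk.2.2.2.2.2]; exact hyi _ (by decide)
  have hw2 : (ω ^ 2) ^ 3 = 1 := by rw [← pow_mul, mul_comm, pow_mul, hw, one_pow]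
  have one_part : ∀ (w : ℂ) (hw3 : w ^ 3 = 1), 1 + conj w + conj w ^ 2 = 0 → ∀ s,
      (θ (1, s) + θ (cz, s) * conj w + θ (cz⁻¹, s) * conj w ^ 2) / 3 = 1 := by
    intro w hw3 hsum s
    have h := linear_trivial (isCharacter_eigen hθ (hom w hw3))
      (by rw [eig w hw3, v1, v2, v3]; linear_combination (((d : ℂ) - 3) / 3) * hsum)
      (by rw [eig w hw3, v4, v5, v6]; linear_combination (((d : ℂ) - 6) / 3) * hsum) s
    rwa [eig w hw3] at h
  have hc1 : 1 + conj ω + conj ω ^ 2 = 0 := by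
    have h1 := congrArg conj hw3
    simp only [map_add, map_one, map_zero, map_pow] at h1
    linear_combination h1
  have hc2 : 1 + conj (ω ^ 2) + conj (ω ^ 2) ^ 2 = 0 := by
    rw [map_pow, hconj, ← pow_mul, ← pow_mul, show ω ^ (2 * 2) = ω by
      rw [show 2 * 2 = 3 + 1 from rfl, pow_succ, hw, one_mul], show ω ^ (2 * 2 * 2) = ω ^ 2 by
      rw [show 2 * 2 * 2 = 3 * 2 + 2 from rfl, pow_add, pow_mul, hw, one_pow, one_mul]]
    linear_combination hw3
  have eω := one_part ω hw hc1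
  have eω2 := one_part (ω ^ 2) hw2 hc2
  have hrel : ∀ s, θ (cz, s) = θ (1, s) - 3 ∧ θ (cz⁻¹, s) = θ (1, s) - 3 := by
    intro s
    have a := eω s
    have b := eω2 s
    rw [hconj] at a
    rw [map_pow, hconj] at b
    rw [show ((ω ^ 2) ^ 2) = ω by
      rw [← pow_mul, show 2 * 2 = 3 + 1 from rfl, pow_succ, hw, one_mul]] at a b
    constructor
    · linear_combination (ω - 1) * a + (ω ^ 2 - 1) * b -
        (θ (1, s) / 3 - θ (cz, s) / 3 - 1) * hw3 - (2 * θ (cz, s) / 3 + θ (cz⁻¹, s) * ω / 3) * hw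
    · linear_combination (ω ^ 2 - 1) * a + (ω - 1) * b -
        (θ (1, s) / 3 - θ (cz⁻¹, s) / 3 - 1) * hw3 - (2 * θ (cz⁻¹, s) / 3 + θ (cz, s) * ω / 3) * hw
  set ψ : A5 → ℂ := fun s => θ (1, s) - 2 with hψdef
  have hψ : Cfsg.IsCharacter A5 ψ := by
    convert isCharacter_eigen hθ (hom 1 (one_pow 3)) using 1
    funext s
    rw [eig 1 (one_pow 3), (hrel s).1, (hrel s).2, map_one, hψdef]
    ring
  obtain ⟨-, -, -, -, hA1, hB1, -⟩ := p_facts
  have hLa : ∀ Φ : A5 → ℤ, (∑ s, ψ s * (Φ s : ℂ)) / 60 =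
      La φ Φ (χ : G → ℂ) + ((∑ s, Φ s : ℤ) : ℂ) / 60 := by
    intro Φ
    rw [La, ← add_div, Int.cast_sum, ← Finset.sum_add_distrib]
    congr 1
    refine Finset.sum_congr rfl fun s _ => ?_
    rw [hψdef, show (χ : G → ℂ) (zs φ s) = θ (cz, s) from rfl, (hrel s).1]
    ring
  have hval := eigen_zero hψ (d := d) (by rw [hψdef]; simp only; rw [v1])
    (by rw [hLa, hA, hA1]; norm_num; ring) (by rw [hLa, hB, hB1]; norm_num)
    (by rw [hψdef]; simp only; rw [v4]; ring)
  obtain ⟨c, s⟩ := k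
  have hc : c = 1 ∨ c = cz ∨ c = cz⁻¹ := by revert c; decide
  have h0 : θ (1, s) = (d : ℂ) - 4 + (p4 s : ℂ) := by
    have h := hval s
    rw [hψdef] at h
    linear_combination h
  show θ (c, s) = _
  rcases hc with rfl | rfl | rfl
  · rw [h0, val, if_pos rfl]; push_cast; ring
  · rw [(hrel s).1, h0, val, if_neg (by show ¬ cz = (1 : C3); decide)]; push_cast; ring
  · rw [(hrel s).2, h0, val, if_neg (by show ¬ cz⁻¹ = (1 : C3); decide)]; push_cast; ring

/-- The power twists agree on `3 × A₅`. -/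
theorem Data.val_pow {j : ℕ} (hj : j.Coprime (Nat.card G)) (d : ℤ) (k : K) : val d (k ^ j) = val d k := by
  have h180 : 180 ∣ Nat.card G := D.cardz ▸ card_subgroup_dvd_card _
  have hj3 : j.Coprime 3 := hj.coprime_dvd_right ((by norm_num : 3 ∣ 180).trans h180)
  have hj30 : j.Coprime 30 := hj.coprime_dvd_right ((by norm_num : 30 ∣ 180).trans h180)
  have h1 : (k ^ j).1 = 1 ↔ k.1 = 1 := by
    rw [Prod.pow_fst]
    refine ⟨fun h => ?_, fun h => by rw [h, one_pow]⟩
    have h3 : k.1 ^ 3 = 1 := by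
      have : ∀ c : C3, c ^ 3 = 1 := by decide
      exact this _
    have := (pow_gcd_eq_one (a := k.1) (m := j) (n := 3)).2 ⟨h, h3⟩
    rwa [hj3.gcd_eq_one, pow_one] at this
  have hs : p4 (k.2 ^ j) = p4 k.2 := by
    have e : k.2 ^ j = k.2 ^ (j % 30) := pow_eq_pow_mod j (pow_thirty _)
    rw [e]
    refine p4_pow ⟨j % 30, Nat.mod_lt _ (by norm_num)⟩ ?_ k.2
    show (j % 30).gcd 30 = 1
    rw [← Nat.gcd_rec, Nat.gcd_comm]
    exact hj30
  simp only [val, h1, Prod.pow_snd, hs]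

/-- Twisting by a power. -/
theorem Data.twist {ψ : G → ℂ} (hψ : Cfsg.IsIrrCharacter G ψ) {d : ℤ}
    (h : ∀ k, ψ (J φ k) = (val d k : ℂ)) {j : ℕ} (hj : j.Coprime (Nat.card G)) :
    Cfsg.IsIrrCharacter G (fun g => ψ (g ^ j)) ∧ ∀ k, ψ (J φ k ^ j) = (val d k : ℂ) := by
  haveI := Fintype.ofFinite G
  exact ⟨OddChar.PowTwist.isIrr_comp_pow hψ hj, fun k => by rw [← map_pow, h, D.val_pow hj]⟩

/-- The elements inverting the Sylow subgroup. -/
theorem Data.val_flip {ψ : G → ℂ} (hψ : Cfsg.IsClassFunction G ψ) {d : ℤ}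
    (h : ∀ k, ψ (J φ k) = (val d k : ℂ)) (a : ZMod 3 × ZMod 3) :
    ψ (φ flip * J φ (rK * dK a)) = ((d - 4 : ℤ) : ℂ) := by
  obtain ⟨h2, h1, i, hc⟩ := inv_facts a
  set g := φ flip * J φ (rK * dK a) with hg
  have hge : g = φ (flip * emb (rK * dK a)) := (map_mul φ _ _).symm
  set m := (lineK i)⁻¹ * wK * lineK i with hm
  have hw : ((1 : C3), sigma) = wK := rfl
  have hconj : IsConj (J φ zK) (J φ m) := by
    have hz : IsConj (J φ zK) (J φ wK) := isConj_iff.2 ⟨t, by rw [D.tinv, D.tz]⟩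
    exact hz.trans (isConj_iff.2 ⟨(J φ (lineK i))⁻¹, by rw [hm, map_mul, map_mul, map_inv, inv_inv]⟩)
  have hgc : g * J φ m = J φ m * g := by
    rw [hge, show J φ m = φ (emb m) from rfl, ← map_mul, ← map_mul, hc]
  obtain ⟨c, hc'⟩ := isConj_iff.1 hconj.symm
  have hcent : c * g * c⁻¹ ∈ centralizer ({J φ zK} : Set G) := by
    rw [mem_centralizer_singleton_iff, ← hc',
      show c * g * c⁻¹ * (c * J φ m * c⁻¹) = c * (g * J φ m) * c⁻¹ by group,
      show c * J φ m * c⁻¹ * (c * g * c⁻¹) = c * (J φ m * g) * c⁻¹ by group, hgc]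
  obtain ⟨k, hk⟩ := D.cent_z.1 hcent
  have hk2 : k ^ 2 = 1 := D.Jinj (by
    rw [map_pow, hk, conj_pow, hge, ← map_pow, h2, map_one, mul_one, mul_inv_cancel, map_one])
  have hk1 : k ≠ 1 := fun e => h1 (D.inj (by
    rw [map_one, ← hge]; rw [e, map_one] at hk; exact conj_eq_one_iff.1 hk.symm))
  obtain ⟨e1, e2⟩ := val_two k hk2 hk1
  rw [← hψ g c, ← hk, h, val, if_pos e1, e2, add_zero]

/-- The transported involution. -/
theorem Data.trt : ∃ a : ZMod 3 × ZMod 3, a.2 = 0 ∧ t * J φ rK * t = J φ (dK a) * φ flip := by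
  obtain ⟨h10, h01, -, -⟩ := dK_facts
  have hfi : (φ flip)⁻¹ = φ flip :=
    inv_eq_of_mul_eq_one_left (by rw [← map_mul, flip_facts.1, map_one])
  have hrr : J φ rK * J φ rK = 1 := by
    rw [← map_mul, show rK * rK = 1 from Prod.ext (one_mul _) rA_facts.1, map_one]
  have hri : (J φ rK)⁻¹ = J φ rK := inv_eq_of_mul_eq_one_left hrr
  have hr : ∀ b, t * J φ rK * t * J φ (dK b) * (t * J φ rK * t)⁻¹ = J φ (dK (-b.1, b.2)) := by
    intro b
    rw [mul_inv_rev, mul_inv_rev, D.tinv, hri]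
    calc t * J φ rK * t * J φ (dK b) * (t * (J φ rK * t))
        = t * (J φ rK * (t * J φ (dK b) * t) * J φ rK) * t := by group
      _ = t * J φ (dK (b.2, -b.1)) * t := by
        have h := D.r_dK (b.2, b.1)
        rw [show J φ (1, rA) = J φ rK from rfl, hri] at h
        rw [D.t_dK, h]
      _ = _ := D.t_dK _
  set g := t * J φ rK * t * φ flip with hg
  have hgc : ∀ b, g * J φ (dK b) = J φ (dK b) * g := by
    intro b
    have h1 : g * J φ (dK b) * g⁻¹ = J φ (dK b) := by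
      rw [hg, mul_inv_rev, show t * J φ rK * t * φ flip * J φ (dK b) * ((φ flip)⁻¹ * (t * J φ rK * t)⁻¹) =
        t * J φ rK * t * (φ flip * J φ (dK b) * (φ flip)⁻¹) * (t * J φ rK * t)⁻¹ by group, D.flip_J,
        flip_facts.2.2, hr, neg_neg]
    calc g * J φ (dK b) = g * J φ (dK b) * g⁻¹ * g := by group
      _ = _ := by rw [h1]
  obtain ⟨k, hk⟩ := (D.cent_z (g := g)).1 (mem_centralizer_singleton_iff.2 (by rw [← h10]; exact hgc _))
  have hkw : k * wK = wK * k := D.Jinj (by rw [map_mul, map_mul, hk, ← h01]; exact hgc _)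
  have h3 : k ^ 3 = 1 := by
    exact comm_w_cube k hkw
  obtain ⟨a, rfl⟩ := (inD_iff k).1 (inD_comm k h3 hkw)
  have e : t * J φ rK * t = J φ (dK a) * φ flip := by
    rw [hk, hg, mul_assoc (t * J φ rK * t), ← map_mul, flip_facts.1, map_one, mul_one]
  refine ⟨a, (model_facts a).1 (D.Jinj ?_), e⟩
  rw [map_mul, map_one, ← D.flip_J, hfi]
  have h2 : t * J φ rK * t * (t * J φ rK * t) = 1 := by
    rw [show t * J φ rK * t * (t * J φ rK * t) = t * (J φ rK * (t * t) * J φ rK) * t by group,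
      D.t2, mul_one, hrr, mul_one, D.t2]
  rw [e] at h2
  have h4 : φ flip * J φ (dK a) * φ flip = (J φ (dK a))⁻¹ :=
    eq_inv_of_mul_eq_one_left (by
      have := congrArg (fun x => (J φ (dK a))⁻¹ * x * J φ (dK a)) h2
      simp only [mul_one, inv_mul_cancel] at this
      rw [← this]
      group)
  rw [h4, inv_mul_cancel]

end Cfsg.Agent.EightLocal
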