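import Cfsg.Agent.Lib.EightLocal.Operators
import Cfsg.Agent.Lib.EightLocal.Lists
import Cfsg.Agent.Lib.EightLocal.Values

/-!
# The two three-cycles in the representation
-/

set_option autoImplicit false
set_option maxRecDepth 100000
set_option synthInstance.maxSize 10000
set_option linter.style.haveILetI false
set_option linter.unusedSectionVars false
set_option linter.unusedSimpArgs false

namespace Cfsg.Agent.EightLocal

open Subgroup Matrix Cfsg.Agent.Characters
open scoped ComplexConjugate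

universe u

variable {G : Type u} [Group G] [Finite G] {P : Sylow 3 G} {φ : Pairs →* G} {t : G} {n : ℕ}

/-- The operator of a combination. -/
noncomputable def ev (φ : Pairs →* G) (U : G →* Matrix (Fin n) (Fin n) ℂ) (l : El) :
    Matrix (Fin n) (Fin n) ℂ :=
  (l.map fun p => (p.1 : ℂ) • U (J φ p.2)).sum

section ev

variable {U : G →* Matrix (Fin n) (Fin n) ℂ}

theorem ev_append (l l' : El) : ev φ U (l ++ l') = ev φ U l + ev φ U l' := by
  simp [ev, List.map_append, List.sum_append]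

theorem ev_cons (p : ℤ × K) (l : El) : ev φ U (p :: l) = (p.1 : ℂ) • U (J φ p.2) + ev φ U l := rfl

theorem ev_nil : ev φ U [] = 0 := rfl

theorem ev_single (p : ℤ × K) : ev φ U [p] = (p.1 : ℂ) • U (J φ p.2) := by simp [ev]

theorem ev_mulE : ∀ l l' : El, ev φ U (mulE l l') = ev φ U l * ev φ U l'
  | [], l' => by simp [mulE, ev]
  | p :: l, l' => by
    have ih := ev_mulE l l'
    simp only [mulE] at ih ⊢
    rw [List.flatMap_cons, ev_append, ih, ev_cons, add_mul]
    congr 1
    induction l' with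
    | nil => simp [ev]
    | cons q l' ih' =>
      rw [List.map_cons, ev_cons, ev_cons, mul_add, smul_mul_smul_comm]
      congr 1
      · simp [map_mul]
      · have hih := ev_mulE l l'
        simp only [mulE] at hih
        exact ih' hih

theorem ev_smulE (c : ℤ) : ∀ l : El, ev φ U (smulE c l) = (c : ℂ) • ev φ U l
  | [] => by simp [smulE, ev]
  | p :: l => by
    have ih := ev_smulE c l
    simp only [smulE] at ih ⊢
    rw [List.map_cons, ev_cons, ev_cons, ih, smul_add, smul_smul]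
    push_cast
    rfl

theorem ev_starE (hU : ∀ g, (U g)ᴴ = U g⁻¹) : ∀ l : El, ev φ U (starE l) = (ev φ U l)ᴴ
  | [] => by simp [starE, ev]
  | p :: l => by
    have ih := ev_starE hU l
    simp only [starE] at ih ⊢
    rw [List.map_cons, ev_cons, ev_cons, ih, conjTranspose_add, conjTranspose_smul, hU, ← map_inv]
    simp

theorem ev_trace {ψ : G → ℂ} {d : ℤ} (hT : ∀ g, (U g).trace = ψ g)
    (h : ∀ k, ψ (J φ k) = (val d k : ℂ)) : ∀ l : El, (ev φ U l).trace = (trE d l : ℂ)
  | [] => by simp [ev, trE]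
  | p :: l => by
    rw [ev_cons, trace_add, trace_smul, hT, h, ev_trace hT h l]
    simp [trE]

theorem ev_killed {ψ : G → ℂ} {d : ℤ} (hU : ∀ g, (U g)ᴴ = U g⁻¹) (hT : ∀ g, (U g).trace = ψ g)
    (h : ∀ k, ψ (J φ k) = (val d k : ℂ)) {l : El} (hk : killed l = true) : ev φ U l = 0 :=
  eq_zero_of_trace (by rw [← ev_starE hU, ← ev_mulE, ev_trace hT h, trE_killed hk]; simp)

end ev

/-- The other three-cycle. -/
def xO (φ : Pairs →* G) (t : G) : G := t * J φ xK * t

variable (D : Data P φ t)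
include D

theorem Data.x_facts : J φ xK ^ 3 = 1 ∧ xO φ t ^ 3 = 1 ∧
    J φ rK * J φ xK * J φ rK = (J φ xK)⁻¹ ∧ J φ rK * xO φ t * J φ rK = (xO φ t)⁻¹ := by
  obtain ⟨-, hf, hr, -, -⟩ := model_facts 0
  obtain ⟨-, hrr, -, h3, -, -⟩ := rw_facts
  have hx3 : J φ xK ^ 3 = 1 := by rw [← map_pow, h3, map_one]
  obtain ⟨a, ha, hta⟩ := D.trt
  refine ⟨hx3, ?_, by rw [← map_inv, ← map_mul, ← map_mul, hr], ?_⟩
  · rw [xO, ← D.tconj_pow, hx3, mul_one, D.t2]
  · have hfi : (φ flip)⁻¹ = φ flip :=
      inv_eq_of_mul_eq_one_left (by rw [← map_mul, flip_facts.1, map_one])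
    have hc : J φ (dK a) * J φ xK = J φ xK * J φ (dK a) := by
      rw [← map_mul, (model_facts a).2.2.2.2 ha, map_mul]
    have hri : (t * J φ rK * t)⁻¹ = t * J φ rK * t := by
      rw [_root_.mul_inv_rev, _root_.mul_inv_rev, D.tinv, ← map_inv,
        show rK⁻¹ = rK from inv_eq_of_mul_eq_one_left hrr, mul_assoc]
    have e : t * J φ rK * t * J φ xK * (t * J φ rK * t) = (J φ xK)⁻¹ := by
      nth_rewrite 2 [← hri]
      rw [hta, _root_.mul_inv_rev]
      calc J φ (dK a) * φ flip * J φ xK * ((φ flip)⁻¹ * (J φ (dK a))⁻¹)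
          = J φ (dK a) * (φ flip * J φ xK * (φ flip)⁻¹) * (J φ (dK a))⁻¹ := by group
        _ = (J φ xK)⁻¹ := by
          rw [D.flip_J, hf, map_inv, (show Commute (J φ (dK a)) (J φ xK) from hc).inv_right.eq,
            mul_inv_cancel_right]
    rw [xO, _root_.mul_inv_rev, _root_.mul_inv_rev, D.tinv, ← e]
    calc J φ rK * (t * J φ xK * t) * J φ rK
        = t * t * J φ rK * (t * J φ xK * t) * J φ rK * (t * t) := by rw [D.t2]; simp
      _ = _ := by group

set_option maxHeartbeats 2000000 in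
/-- What the representation says about the two three-cycles. -/
theorem Data.geometry {ψ : G → ℂ} (hψ : Cfsg.IsCharacter G ψ) {d : ℤ} (hd : d = 7 ∨ d = 8)
    (h : ∀ k, ψ (J φ k) = (val d k : ℂ)) :
    ∃ A : ℂ, Complex.normSq A ≤ 25 / 9 ∧
      2 * (ψ (J φ xK * xO φ t) + ψ (J φ xK * (xO φ t)⁻¹)) = 4 * (d : ℂ) - 15 + (Complex.normSq A : ℂ) ∧
      ψ (J φ xK * xO φ t) - ψ (J φ xK * (xO φ t)⁻¹) = (A.re : ℂ) ∧
      (A = -1 → ψ ((J φ xK * xO φ t) ^ 2) = (d : ℂ)) ∧
      (A = 1 → ψ ((J φ xK * (xO φ t)⁻¹) ^ 2) = (d : ℂ)) := by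
  classical
  have hcl := char_isClassFunction hψ
  obtain ⟨n, U, hU, hT⟩ := exists_unitary hψ
  have hd' : d ∈ [(7 : ℤ), 8] := by rcases hd with rfl | rfl <;> simp
  obtain ⟨tE, tER, tF, tFu, tFuu, tB, vd1, vdx, vdxi⟩ := trace_facts d hd'
  obtain ⟨kER, kEs, kdec, kEZ, kuz, kzu⟩ := killed_facts
  obtain ⟨habs, hrr, hxx, hx3, hzx, -⟩ := rw_facts
  have evz : ∀ {l : El}, killed l = true → ev φ U l = 0 := fun hk => ev_killed hU hT h hk
  have evt := fun l => ev_trace (φ := φ) (U := U) hT h l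
  set T := U t with hTdef
  have hTT : T * T = 1 := by rw [← map_mul, D.t2, map_one]
  have hTh : Tᴴ = T := by rw [hU, D.tinv]
  set E9 := ev φ U e9 with hE9
  set R := ev φ U rL with hR
  have hRv : R = U (J φ rK) := by rw [hR, rL, ev_single]; simp
  set u := ev φ U uL with hu
  have hu' : u = U (J φ xK) - U (J φ xK)⁻¹ := by
    rw [hu, uL, ev_cons, ev_single, map_inv (J φ)]
    simp [sub_eq_add_neg]
  set F18 := ev φ U f18 with hF18
  have hF18' : F18 = E9 * (1 - R) := by
    rw [hF18, f18, ev_mulE, ev_cons, ev_single, map_one, map_one, hRv]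
    simp [sub_eq_add_neg, hE9]
  have hER : E9 * R = R * E9 := by
    have := evz kER
    rw [ev_append, ev_smulE, ev_mulE, ev_mulE, Int.cast_neg, Int.cast_one, neg_one_smul,
      add_neg_eq_zero] at this
    exact this
  have hEh : E9ᴴ = E9 := by
    have := evz kEs
    rw [ev_append, ev_smulE, ev_starE hU, Int.cast_neg, Int.cast_one, neg_one_smul,
      add_neg_eq_zero] at this
    exact this.symm
  have hRh : Rᴴ = R := by
    rw [hRv, hU, ← map_inv, show rK⁻¹ = rK from inv_eq_of_mul_eq_one_left hrr]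
  have hRR : R * R = 1 := by rw [hRv, ← map_mul, ← map_mul, hrr, map_one, map_one]
  -- the nine elements as a group
  have hsum : E9 = ∑ a : ZMod 3 × ZMod 3, U (J φ (dK a)) := by
    rw [hE9, e9, ev, List.map_map, show (Finset.univ : Finset (ZMod 3 × ZMod 3)) = nine.toFinset by decide,
      List.sum_toFinset _ (by decide)]
    simp [Function.comp_def]
  have habs9 : ∀ b, U (J φ (dK b)) * E9 = E9 := fun b => by
    rw [hsum, Finset.mul_sum]
    exact Fintype.sum_equiv (Equiv.addLeft b) _ _ fun a => by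
      simp [← map_mul, ← dK_add]
  have hEE : E9 * E9 = (9 : ℂ) • E9 := by
    nth_rewrite 1 [hsum]
    rw [Finset.sum_mul, Finset.sum_congr rfl fun a _ => habs9 a, Finset.sum_const, Finset.card_univ,
      show Fintype.card (ZMod 3 × ZMod 3) = 9 by simp, ← Nat.cast_smul_eq_nsmul ℂ]
    norm_num
  have hTE : T * E9 * T = E9 := by
    rw [hsum, Finset.mul_sum, Finset.sum_mul]
    exact Fintype.sum_equiv (Equiv.prodComm _ _) _ _ fun a => by
      rw [hTdef, ← map_mul, ← map_mul, D.t_dK]; rfl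
  set E := (1 / 9 : ℂ) • E9 with hE
  set F := (1 / 18 : ℂ) • F18 with hF
  have hEi : E * E = E := by rw [hE, smul_mul_smul_comm, hEE, smul_smul]; norm_num
  have hEh' : Eᴴ = E := by rw [hE, conjTranspose_smul, hEh]; norm_num
  have hTE' : T * E * T = E := by rw [hE, mul_smul_comm, smul_mul_assoc, hTE]
  have hF18h : F18ᴴ = F18 := by
    rw [hF18', conjTranspose_mul, conjTranspose_sub, conjTranspose_one, hRh, hEh, sub_mul, one_mul,
      ← hER, mul_sub, mul_one]
  have hF18i : F18 * F18 = (18 : ℂ) • F18 := by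
    rw [hF18', show E9 * (1 - R) * (E9 * (1 - R)) = E9 * (E9 - R * E9) * (1 - R) by noncomm_ring, ← hER,
      show E9 * (E9 - E9 * R) * (1 - R) = E9 * E9 * ((1 - R) * (1 - R)) by noncomm_ring,
      show (1 - R) * (1 - R) = 1 - R - R + R * R by noncomm_ring, hRR, hEE, smul_mul_assoc,
      show (1 : Matrix (Fin n) (Fin n) ℂ) - R - R + 1 = (2 : ℂ) • (1 - R) by module, mul_smul_comm, smul_smul]
    norm_num
  have L : Line F E := {
    Fh := by rw [hF, conjTranspose_smul, hF18h]; norm_num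
    Fidem := by rw [hF, smul_mul_smul_comm, hF18i, smul_smul]; norm_num
    Ftr := by rw [hF, trace_smul, hF18, evt, tF]; norm_num
    Eh := hEh'
    Eidem := hEi }
  -- the transported line
  set R' := T * R * T with hR'
  have hR'v : R' = U (t * J φ rK * t) := by rw [hR', hRv, map_mul, map_mul]
  have hER' : E9 * R' = R' * E9 := by
    calc E9 * R' = T * E9 * T * (T * R * T) := by rw [hTE]
      _ = T * (E9 * R) * T := by
        simp only [Matrix.mul_assoc]
        rw [← Matrix.mul_assoc T T, hTT, Matrix.one_mul]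
      _ = T * (R * E9) * T := by rw [hER]
      _ = T * R * T * (T * E9 * T) := by
        simp only [Matrix.mul_assoc]
        rw [← Matrix.mul_assoc T T, hTT, Matrix.one_mul]
      _ = R' * E9 := by rw [hTE]
  have hTF18 : T * F18 * T = E9 * (1 - R') := by
    rw [hF18', mul_sub, mul_one, mul_sub, sub_mul, hTE, mul_sub, mul_one]
    congr 1
    calc T * (E9 * R) * T = T * E9 * T * (T * R * T) := by
          simp only [Matrix.mul_assoc]
          rw [← Matrix.mul_assoc T T, hTT, Matrix.one_mul]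
      _ = _ := by rw [hTE]
  have tRR : (E9 * R * R').trace = 9 * ((d : ℂ) - 4) := by
    rw [hsum, hRv, hR'v, Finset.sum_mul, Finset.sum_mul, trace_sum]
    obtain ⟨b, -, hb⟩ := D.trt
    have hterm : ∀ a, (U (J φ (dK a)) * U (J φ rK) * U (t * J φ rK * t)).trace = ((d - 4 : ℤ) : ℂ) := by
      intro a
      obtain ⟨c, hc⟩ := habs a b
      rw [← map_mul, ← map_mul, hT, hb, ← mul_assoc, ← map_mul, ← map_mul, hc,
        ← hcl _ (φ flip), show φ flip * (J φ (rK * dK c) * φ flip) * (φ flip)⁻¹ = φ flip * J φ (rK * dK c) by group]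
      exact D.val_flip hcl h c
    rw [Finset.sum_congr rfl fun a _ => hterm a, Finset.sum_const, Finset.card_univ]
    simp
  have hTrace : (F18 * (T * F18 * T)).trace = 324 := by
    have eE : E9.trace = 9 * ((d : ℂ) - 4) := by rw [hE9, evt, tE]; push_cast; ring
    have eR : (E9 * R).trace = 9 * ((d : ℂ) - 6) := by
      rw [hE9, hR, ← ev_mulE, evt, tER]; push_cast; ring
    have eR' : (E9 * R').trace = 9 * ((d : ℂ) - 6) := by
      rw [← eR, ← hTE, hR']
      calc (T * E9 * T * (T * R * T)).trace = (T * (E9 * R) * T).trace := by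
            simp only [Matrix.mul_assoc]
            rw [← Matrix.mul_assoc T T, hTT, Matrix.one_mul]
        _ = ((T * T) * (E9 * R)).trace := by rw [trace_mul_comm, ← Matrix.mul_assoc]
        _ = _ := by rw [hTT, Matrix.one_mul, hTE]
    rw [hTF18, hF18', show E9 * (1 - R) * (E9 * (1 - R')) = E9 * (E9 - R * E9) * (1 - R') by noncomm_ring,
      ← hER, show E9 * (E9 - E9 * R) * (1 - R') = E9 * E9 - E9 * E9 * R - E9 * E9 * R' + E9 * E9 * R * R' by
        noncomm_ring, hEE]
    simp only [smul_mul_assoc, trace_add, trace_sub, trace_smul, smul_eq_mul, eE, eR, eR', tRR]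
    ring
  have hTF : T * F * T = F := by
    refine sub_eq_zero.1 (eq_zero_of_trace ?_)
    have hTFh : (T * F * T)ᴴ = T * F * T := by
      rw [conjTranspose_mul, conjTranspose_mul, L.Fh, hTh, Matrix.mul_assoc]
    have h1 : (T * F * T * (T * F * T)).trace = 1 := by
      rw [show T * F * T * (T * F * T) = T * (F * (T * T) * F) * T by noncomm_ring, hTT, mul_one,
        L.Fidem, trace_mul_comm, ← Matrix.mul_assoc, hTT, Matrix.one_mul, L.Ftr]
    have h2 : (F * (T * F * T)).trace = 1 := by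
      simp only [hF, smul_mul_assoc, mul_smul_comm, trace_smul, smul_eq_mul]; rw [hTrace]; norm_num
    rw [conjTranspose_sub, hTFh, L.Fh, show (T * F * T - F) * (T * F * T - F) =
      T * F * T * (T * F * T) - T * F * T * F - F * (T * F * T) + F * F by noncomm_ring,
      trace_add, trace_sub, trace_sub, h1, trace_mul_comm (T * F * T) F, h2, L.Fidem, L.Ftr]
    ring
  -- the planes
  have hdec : u = u * F + F * u := by
    have := evz kdec
    rw [ev_append, ev_smulE, ev_smulE, ev_append, ev_mulE, ev_mulE, Int.cast_neg, Int.cast_one, neg_one_smul,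
      add_neg_eq_zero] at this
    push_cast at this
    rw [hF, mul_smul_comm, smul_mul_assoc, ← smul_add, ← this, smul_smul]
    norm_num
    rfl
  have hskew : uᴴ = -u := by
    rw [hu', conjTranspose_sub, hU, hU, inv_inv, neg_sub]
  have p : Plane F E u := {
    skew := hskew
    dec := hdec
    zero := by rw [hF, smul_mul_assoc, trace_smul, hF18, hu, ← ev_mulE, evt, tFu]; simp
    sq := by rw [hF, smul_mul_assoc, trace_smul, hF18, hu, ← ev_mulE, ← ev_mulE, evt, tFuu]; norm_num
    bound := by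
      simp only [hF, hE, smul_mul_assoc, mul_smul_comm, trace_smul, smul_eq_mul]
      rw [hF18, hu, hE9, ← ev_mulE, ← ev_mulE, ← ev_mulE, evt, tB]
      norm_num }
  set v := T * u * T with hv
  have conjT : ∀ M N : Matrix (Fin n) (Fin n) ℂ, T * M * T * (T * N * T) = T * (M * N) * T := fun M N => by
    simp only [Matrix.mul_assoc]
    rw [← Matrix.mul_assoc T T, hTT, Matrix.one_mul]
  have trT : ∀ M : Matrix (Fin n) (Fin n) ℂ, (T * M * T).trace = M.trace := fun M => by
    rw [trace_mul_comm, ← Matrix.mul_assoc, hTT, Matrix.one_mul]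
  have q : Plane F E v := {
    skew := by rw [hv, conjTranspose_mul, conjTranspose_mul, hskew, hTh, neg_mul, mul_neg, Matrix.mul_assoc]
    dec := by
      nth_rewrite 1 [hv]
      rw [hdec]
      conv_rhs => rw [hv, ← hTF, conjT, conjT]
      rw [mul_add, add_mul]
    zero := by rw [hv, ← hTF, conjT, trT, p.zero]
    sq := by rw [hv, ← hTF, conjT, conjT, trT, p.sq]
    bound := by rw [hv, ← hTE', conjT, conjT, ← hTF, conjT, trT, p.bound] }
  -- the common fixed space
  set Z := ev φ U z3 with hZ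
  set W := ev φ U w3 with hW
  have hEZ : E9 = Z * W := by
    have := evz kEZ
    rwa [ev_append, ev_smulE, ev_mulE, Int.cast_neg, Int.cast_one, neg_one_smul, add_neg_eq_zero] at this
  have huz : (3 : ℂ) • u = u * Z := by
    have := evz kuz
    rwa [ev_append, ev_smulE, ev_smulE, ev_mulE, Int.cast_neg, Int.cast_one, neg_one_smul,
      add_neg_eq_zero, Int.cast_ofNat] at this
  have hzu : (3 : ℂ) • u = Z * u := by
    have := evz kzu
    rwa [ev_append, ev_smulE, ev_smulE, ev_mulE, Int.cast_neg, Int.cast_one, neg_one_smul,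
      add_neg_eq_zero, Int.cast_ofNat] at this
  have hWT : W = T * Z * T := by
    have e1 : U (J φ wK) = T * U (J φ zK) * T := by rw [← D.tz, map_mul, map_mul]
    have e2 : U (J φ wK⁻¹) = T * U (J φ zK⁻¹) * T := by
      rw [map_inv (J φ), map_inv (J φ), ← D.tz, _root_.mul_inv_rev, _root_.mul_inv_rev, D.tinv, map_mul, map_mul, Matrix.mul_assoc]
    rw [hW, hZ, w3, z3, ev_cons, ev_cons, ev_single, ev_cons, ev_cons, ev_single, e1, e2]
    simp only [Int.cast_one, one_smul, map_one, mul_add, add_mul, mul_one, hTT]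
  have hE' : u * E * v = u * v := by
    have e : W * v = (3 : ℂ) • v := by
      rw [hWT, hv, conjT, ← hzu, mul_smul_comm, smul_mul_assoc]
    calc u * E * v = (1 / 9 : ℂ) • (u * Z * (W * v)) := by
          rw [hE, mul_smul_comm, smul_mul_assoc, hEZ]; simp only [Matrix.mul_assoc]
      _ = u * v := by
          rw [← huz, e, smul_mul_smul_comm, smul_smul]; norm_num
  -- the operators of the elements
  obtain ⟨hx3', hy3, hrx, hry⟩ := D.x_facts
  set x := J φ xK with hxdef
  set y := xO φ t with hydef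
  have hyU : U y = T * U x * T := by rw [hydef, xO, map_mul, map_mul]
  have hyUi : U y⁻¹ = T * U x⁻¹ * T := by
    rw [hydef, xO, _root_.mul_inv_rev, _root_.mul_inv_rev, D.tinv, map_mul, map_mul, Matrix.mul_assoc]
  have hv' : v = U y - U y⁻¹ := by
    rw [hv, hu', hyU, hyUi, mul_sub, sub_mul]
  have hxx' : U x * U x = U x⁻¹ := by rw [← map_mul, ← map_inv, hxdef, ← map_mul, hxx]
  have hxxi : U x⁻¹ * U x⁻¹ = U x := by
    rw [← map_mul, ← _root_.mul_inv_rev, hxdef, ← map_mul, hxx, map_inv (J φ), inv_inv]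
  have hx1 : U x * U x⁻¹ = 1 ∧ U x⁻¹ * U x = 1 := by
    constructor <;> rw [← map_mul] <;> simp
  have huu : u * u = U x + U x⁻¹ - (2 : ℂ) • (1 : Matrix (Fin n) (Fin n) ℂ) := by
    rw [hu']
    simp only [sub_mul, mul_sub, hxx', hxxi, hx1.1, hx1.2]
    module
  have hvv : v * v = U y + U y⁻¹ - (2 : ℂ) • (1 : Matrix (Fin n) (Fin n) ℂ) := by
    rw [hv, conjT, huu, hyU, hyUi, mul_sub, mul_add, sub_mul, add_mul, mul_smul_comm, smul_mul_assoc,
      mul_one, hTT]
  -- the relations between the traces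
  have vx : ψ x = ((d - 3 : ℤ) : ℂ) ∧ ψ x⁻¹ = ((d - 3 : ℤ) : ℂ) := by
    rw [hxdef, ← map_inv, h, h, vdx, vdxi]; exact ⟨rfl, rfl⟩
  have vy : ψ y = ((d - 3 : ℤ) : ℂ) ∧ ψ y⁻¹ = ((d - 3 : ℤ) : ℂ) := by
    refine ⟨?_, ?_⟩
    · rw [hydef, xO, show t * J φ xK * t = t * J φ xK * t⁻¹ by rw [D.tinv], hcl]
      exact vx.1
    · rw [hydef, xO, _root_.mul_inv_rev, _root_.mul_inv_rev, ← mul_assoc, show t⁻¹ * (J φ xK)⁻¹ * t⁻¹ =
        t * (J φ xK)⁻¹ * t⁻¹ by rw [D.tinv], hcl]
      exact vx.2
  have v1 : ψ 1 = (d : ℂ) := by rw [← map_one (J φ), h, vd1]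
  have hr2 : J φ rK * J φ rK = 1 := by rw [← map_mul, hrr, map_one]
  have hri : (J φ rK)⁻¹ = J φ rK := inv_eq_of_mul_eq_one_left hr2
  have refl2 : ∀ a b : G, ψ (J φ rK * a * J φ rK * (J φ rK * b * J φ rK)) = ψ (a * b) := fun a b => by
    rw [← hcl (a * b) (J φ rK)]
    congr 1
    rw [hri]
    simp only [mul_assoc]
    rw [← mul_assoc (J φ rK) (J φ rK), hr2, one_mul]
  have hryi : J φ rK * y⁻¹ * J φ rK = y := by
    conv_rhs => rw [← inv_inv y, ← hry, _root_.mul_inv_rev, _root_.mul_inv_rev, hri, ← mul_assoc]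
  have s1 : ψ (x⁻¹ * y⁻¹) = ψ (x * y) := by
    rw [← hrx, ← hry, refl2]
  have s2 : ψ (x⁻¹ * y) = ψ (x * y⁻¹) := by
    nth_rewrite 1 [← hryi]
    rw [← hrx, refl2]
  set S1 := ψ (x * y) with hS1
  set S2 := ψ (x * y⁻¹) with hS2
  obtain ⟨t1, t2⟩ := plane_traces L p q
  rw [trace_conj L p q] at t1 t2
  set A := (F * (u * v)).trace with hA
  have e1 : (u * v).trace = 2 * S1 - 2 * S2 := by
    rw [hu', hv']
    simp only [sub_mul, mul_sub, trace_sub, ← map_mul, hT, s1, s2, hS1, hS2]
    ring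
  have e2 : (u * u * (v * v)).trace = 2 * (S1 + S2) - 4 * (d : ℂ) + 24 := by
    rw [huu, hvv]
    simp only [sub_mul, mul_sub, add_mul, mul_add, smul_mul_assoc, mul_smul_comm, one_mul, mul_one,
      smul_sub, smul_add, smul_smul, trace_sub, trace_add, trace_smul, smul_eq_mul, ← map_mul, hT, s1, s2,
      vx.1, vx.2, vy.1, vy.2, hS1, hS2]
    rw [← map_one U, hT, v1]
    push_cast
    ring
  have hD : S1 - S2 = (A.re : ℂ) := by
    rw [e1, Complex.add_conj] at t1
    push_cast at t1
    linear_combination (1 / 2 : ℂ) * t1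
  refine ⟨A, plane_bound L p q hE', ?_, hD, ?_, ?_⟩
  · rw [e2, Complex.mul_conj] at t2
    linear_combination t2
  · intro hA1
    have hX : U x = 1 + (1 / 2 : ℂ) • (u * u + u) := by rw [huu, hu']; module
    have hX' : U x⁻¹ = 1 + (1 / 2 : ℂ) • (u * u - u) := by rw [huu, hu']; module
    have hY : U y = 1 + (1 / 2 : ℂ) • (v * v + v) := by rw [hvv, hv']; module
    have hY' : U y⁻¹ = 1 + (1 / 2 : ℂ) • (v * v - v) := by rw [hvv, hv']; module
    have := plane_involution L p q hA1 hX hX' hY hY' hx1.1 (by rw [← map_mul]; simp)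
    rw [← map_mul, ← map_mul] at this
    rw [← v1, pow_two, ← hT, this, ← map_one U, hT]
  · intro hA1
    have hX : U x = 1 + (1 / 2 : ℂ) • (u * u + u) := by rw [huu, hu']; module
    have hX' : U x⁻¹ = 1 + (1 / 2 : ℂ) • (u * u - u) := by rw [huu, hu']; module
    have hY : U y⁻¹ = 1 + (1 / 2 : ℂ) • (-v * -v + -v) := by rw [neg_mul_neg, hvv, hv']; module
    have hY' : U y = 1 + (1 / 2 : ℂ) • (-v * -v - -v) := by rw [neg_mul_neg, hvv, hv']; module
    have := plane_involution L p q.neg (by rw [mul_neg, mul_neg, trace_neg, ← hA, hA1])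
      hX hX' hY hY' hx1.1 (by rw [← map_mul]; simp)
    rw [← map_mul, ← map_mul] at this
    rw [← v1, pow_two, ← hT, this, ← map_one U, hT]

end Cfsg.Agent.EightLocal
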