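import Mathlib

/-!
# The model of the normalizer of an element of order three in the alternating group of degree eight

The pairs in `Sym 3 × Sym 5` whose signs agree, and the subgroup `3 × A₅` inside it.
-/

set_option autoImplicit false
set_option maxRecDepth 100000
set_option synthInstance.maxSize 10000

namespace Cfsg.Agent.EightLocal

/-- The two signs, multiplied. -/
def bisign : Equiv.Perm (Fin 3) × Equiv.Perm (Fin 5) →* ℤˣ :=
  ((Equiv.Perm.sign).comp (MonoidHom.fst (Equiv.Perm (Fin 3)) (Equiv.Perm (Fin 5)))) *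
    ((Equiv.Perm.sign).comp (MonoidHom.snd (Equiv.Perm (Fin 3)) (Equiv.Perm (Fin 5))))

/-- Pairs of permutations with equal signs. -/
abbrev Pairs : Type :=
  ↥(((Equiv.Perm.sign).comp (MonoidHom.fst (Equiv.Perm (Fin 3)) (Equiv.Perm (Fin 5)))) *
    ((Equiv.Perm.sign).comp (MonoidHom.snd (Equiv.Perm (Fin 3)) (Equiv.Perm (Fin 5))))).ker

abbrev A5 : Type := alternatingGroup (Fin 5)

abbrev C3 : Type := Multiplicative (ZMod 3)

/-- The group `3 × A₅`. -/
abbrev K : Type := C3 × A5

/-- A permutation of three points of order three. -/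
def c3 : Equiv.Perm (Fin 3) := Equiv.swap 0 1 * Equiv.swap 1 2

theorem c3_hom : ∀ a b : ZMod 3, c3 ^ (a + b).val = c3 ^ a.val * c3 ^ b.val := by decide +kernel

theorem sign_c3 : ∀ a : ZMod 3, Equiv.Perm.sign (c3 ^ a.val) = 1 := by decide +kernel

/-- The first factor. -/
def emb3 : C3 →* Equiv.Perm (Fin 3) where
  toFun a := c3 ^ (Multiplicative.toAdd a).val
  map_one' := by simp
  map_mul' a b := c3_hom _ _

theorem bisign_emb (k : K) : bisign (emb3 k.1, (k.2 : Equiv.Perm (Fin 5))) = 1 := by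
  have h := Equiv.Perm.mem_alternatingGroup.1 k.2.2
  have h' : Equiv.Perm.sign (emb3 k.1) = 1 := sign_c3 _
  simp [bisign, h, h']

/-- `3 × A₅` among the pairs. -/
def emb : K →* Pairs :=
  (MonoidHom.prodMap emb3 (alternatingGroup (Fin 5)).subtype).codRestrict _
    fun k => MonoidHom.mem_ker.2 (bisign_emb k)

/-- The generator of the first factor. -/
def zK : K := (Multiplicative.ofAdd 1, 1)

/-- A three cycle. -/
def sigma : A5 :=
  ⟨Equiv.swap 2 3 * Equiv.swap 3 4, by rw [Equiv.Perm.mem_alternatingGroup]; decide +kernel⟩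

/-- The second generator of the Sylow subgroup. -/
def wK : K := (1, sigma)

/-- The element of the other class. -/
def yK : K := (Multiplicative.ofAdd 1, sigma)

/-- The inversion of the second factor, in `A₅`. -/
def rA : A5 :=
  ⟨Equiv.swap 0 1 * Equiv.swap 3 4, by rw [Equiv.Perm.mem_alternatingGroup]; decide +kernel⟩

/-- The pair of two transpositions, inverting the first factor and fixing the second. -/
def flip : Pairs := ⟨(Equiv.swap 0 1, Equiv.swap 0 1), by decide +kernel⟩

/-- Membership in the Sylow subgroup. -/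
def InD (k : K) : Prop := k.2 * sigma = sigma * k.2 ∧ k ^ 3 = 1

instance (k : K) : Decidable (InD k) := inferInstanceAs (Decidable (_ ∧ _))

/-- The nine elements of the Sylow subgroup. -/
def dK (a : ZMod 3 × ZMod 3) : K := zK ^ a.1.val * wK ^ a.2.val

theorem dK_add : ∀ a b, dK (a + b) = dK a * dK b := by decide +kernel

theorem dK_inj : ∀ a b, dK a = dK b → a = b := by decide +kernel

theorem inD_iff : ∀ k : K, InD k ↔ ∃ a, dK a = k := by decide +kernel

theorem dK_facts : dK (1, 0) = zK ∧ dK (0, 1) = wK ∧ dK (1, 1) = yK ∧ dK 0 = 1 := by decide +kernel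

theorem emb_injective : Function.Injective emb := by
  rw [injective_iff_map_eq_one]
  have h : ∀ k : K, (emb k : Equiv.Perm (Fin 3) × Equiv.Perm (Fin 5)) = 1 → k = 1 := by
    decide +kernel
  exact fun k hk => h k (by rw [hk]; rfl)

theorem card_K : Nat.card K = 180 := by
  rw [Nat.card_eq_fintype_card]; decide +kernel

/-- Conjugation of `3 × A₅` by the flip. -/
def flipK (k : K) : K :=
  (k.1⁻¹, ⟨Equiv.swap 0 1 * (k.2 : Equiv.Perm (Fin 5)) * Equiv.swap 0 1, by
    rw [Equiv.Perm.mem_alternatingGroup, map_mul, map_mul, Equiv.Perm.mem_alternatingGroup.1 k.2.2]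
    decide +kernel⟩)

theorem flip_facts : flip * flip = 1 ∧ (∀ k : K, flip * emb k * flip = emb (flipK k)) ∧
    ∀ a, flipK (dK a) = dK (-a.1, a.2) := by
  decide +kernel

theorem rA_facts : rA * rA = 1 ∧ ∀ a, ((1, rA) : K) * dK a * (1, rA) = dK (a.1, -a.2) := by
  decide +kernel

theorem emb_central : ∀ k : K, Commute zK k := by
  intro k
  exact Prod.ext (mul_comm _ _) (by simp [zK])

/-- The subgroup of order three normal among the pairs is the first factor. -/
theorem normal_three : ∀ p : Equiv.Perm (Fin 3) × Equiv.Perm (Fin 5), bisign p = 1 → p ^ 3 = 1 → p ≠ 1 →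
    (∀ g ∈ [((1, (sigma : Equiv.Perm (Fin 5))) : Equiv.Perm (Fin 3) × Equiv.Perm (Fin 5)),
      (Equiv.swap 0 1, Equiv.swap 0 1), (1, Equiv.swap 0 1 * Equiv.swap 1 2)],
      g * p * g⁻¹ = p ∨ g * p * g⁻¹ = p⁻¹) →
      p = (c3, 1) ∨ p = (c3⁻¹, 1) := by
  decide +kernel

theorem emb_zK : (emb zK : Equiv.Perm (Fin 3) × Equiv.Perm (Fin 5)) = (c3, 1) ∧
    (emb zK⁻¹ : Equiv.Perm (Fin 3) × Equiv.Perm (Fin 5)) = (c3⁻¹, 1) := by decide +kernel

/-- The centralizer of the first factor. -/
theorem cent_zK : ∀ p : Equiv.Perm (Fin 3) × Equiv.Perm (Fin 5), bisign p = 1 →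
    p * (c3, 1) = (c3, 1) * p → ∃ k : K, (emb k : Equiv.Perm (Fin 3) × Equiv.Perm (Fin 5)) = p := by
  intro p hp hc
  have h3 : ∀ q : Equiv.Perm (Fin 3), q * c3 = c3 * q →
      Equiv.Perm.sign q = 1 ∧ ∃ a : C3, emb3 a = q := by decide +kernel
  obtain ⟨hs, a, ha⟩ := h3 p.1 (congrArg Prod.fst hc)
  have h5 : Equiv.Perm.sign p.2 = 1 := by simpa [bisign, hs] using hp
  exact ⟨(a, ⟨p.2, Equiv.Perm.mem_alternatingGroup.2 h5⟩), Prod.ext ha rfl⟩

/-- The subgroups of order three of `A₅` are conjugate. -/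
theorem three_conj : ∀ s : A5, s ^ 3 = 1 → s ≠ 1 → ∃ v : A5, v * s * v⁻¹ = sigma := by
  decide +kernel

/-- Commuting elements of order three in `A₅`. -/
theorem three_commute : ∀ s u : A5, s ^ 3 = 1 → u ^ 3 = 1 → u ≠ 1 → s * u = u * s →
    s = 1 ∨ s = u ∨ s = u⁻¹ := by
  decide +kernel

/-- The pairs fixing the first factor and normalizing the Sylow subgroup. -/
def normD (p : Equiv.Perm (Fin 3) × Equiv.Perm (Fin 5)) : Prop :=
  bisign p = 1 ∧ (p.2 * (sigma : Equiv.Perm (Fin 5)) * p.2⁻¹ = (sigma : Equiv.Perm (Fin 5)) ∨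
    p.2 * (sigma : Equiv.Perm (Fin 5)) * p.2⁻¹ = (sigma : Equiv.Perm (Fin 5))⁻¹)

instance (p : Equiv.Perm (Fin 3) × Equiv.Perm (Fin 5)) : Decidable (normD p) :=
  inferInstanceAs (Decidable (_ ∧ _))

theorem card_normD :
    (Finset.univ.filter fun p : Equiv.Perm (Fin 3) × Equiv.Perm (Fin 5) => normD p).card = 36 := by
  decide +kernel

/-- No involution of the model fixes an element of the other class. -/
theorem cent_yK : ∀ p : Equiv.Perm (Fin 3) × Equiv.Perm (Fin 5), bisign p = 1 →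
    p * (c3, (sigma : Equiv.Perm (Fin 5))) = (c3, (sigma : Equiv.Perm (Fin 5))) * p → p ^ 3 = 1 := by
  decide +kernel

theorem emb_yK : (emb yK : Equiv.Perm (Fin 3) × Equiv.Perm (Fin 5)) =
    (c3, (sigma : Equiv.Perm (Fin 5))) := by decide +kernel

end Cfsg.Agent.EightLocal
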