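import Mathlib
import Cfsg.Prelude.Def_Characters
import Cfsg.Agent.Lib.Characters.Basic

/-!
# Two planes through one line in a unitary representation

The trace identities and the bound for two skew operators supported on two planes that share a
line.
-/

set_option autoImplicit false
set_option linter.style.haveILetI false
set_option linter.unusedSectionVars false
set_option linter.unusedSimpArgs false

namespace Cfsg.Agent.EightLocal

open Matrix
open scoped MatrixOrder ComplexConjugate ComplexOrder

/-- A character is the trace of a unitary matrix representation. -/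
theorem exists_unitary {G : Type*} [Group G] [Finite G] {χ : G → ℂ} (h : Cfsg.IsCharacter G χ) :
    ∃ (n : ℕ) (U : G →* Matrix (Fin n) (Fin n) ℂ),
      (∀ g, (U g)ᴴ = U g⁻¹) ∧ ∀ g, (U g).trace = χ g := by
  classical
  haveI := Fintype.ofFinite G
  obtain ⟨n, ρ, rfl⟩ := h
  let M : G →* Matrix (Fin n) (Fin n) ℂ :=
    { toFun := fun g => LinearMap.toMatrix' (ρ g)
      map_one' := by rw [map_one]; exact LinearMap.toMatrix'_one
      map_mul' := fun a b => by rw [map_mul]; exact LinearMap.toMatrix'_mul _ _ }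
  set S : Matrix (Fin n) (Fin n) ℂ := ∑ g : G, (M g)ᴴ * M g with hS
  have hpd : S.PosDef := by
    rw [hS, ← Finset.add_sum_erase _ _ (Finset.mem_univ (1 : G)), map_one, conjTranspose_one, one_mul]
    exact Matrix.PosDef.one.add_posSemidef
      (Matrix.posSemidef_sum _ fun g _ => posSemidef_conjTranspose_mul_self _)
  obtain ⟨B, hB⟩ := CStarAlgebra.nonneg_iff_eq_star_mul_self.mp hpd.posSemidef.nonneg
  rw [star_eq_conjTranspose] at hB
  have hBdet : IsUnit B.det := by
    refine isUnit_iff_ne_zero.2 fun e => hpd.det_pos.ne' ?_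
    rw [hB, det_mul, e, mul_zero]
  have hinv : ∀ g, (M g)ᴴ * S * M g = S := by
    intro g
    simp only [hS, Finset.mul_sum, Finset.sum_mul]
    refine Fintype.sum_equiv (Equiv.mulRight g) _ _ fun x => ?_
    simp [conjTranspose_mul, Matrix.mul_assoc]
  refine ⟨n, { toFun := fun g => B * M g * B⁻¹
               map_one' := by rw [map_one, Matrix.mul_one, mul_nonsing_inv _ hBdet]
               map_mul' := fun a b => by
                rw [map_mul, show B * M a * B⁻¹ * (B * M b * B⁻¹) = B * M a * (B⁻¹ * B) * M b * B⁻¹ by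
                  simp only [Matrix.mul_assoc], nonsing_inv_mul _ hBdet, Matrix.mul_one, ← Matrix.mul_assoc] },
    fun g => ?_, fun g => ?_⟩
  · show (B * M g * B⁻¹)ᴴ = B * M g⁻¹ * B⁻¹
    have h1 : (M g)ᴴ * S = S * M g⁻¹ := by
      conv_rhs => rw [← hinv g]
      rw [Matrix.mul_assoc _ (M g), ← map_mul, mul_inv_cancel, map_one, Matrix.mul_one]
    rw [hB] at h1
    have hi : Bᴴ⁻¹ * Bᴴ = 1 := nonsing_inv_mul _ (by rw [det_conjTranspose]; exact hBdet.star)
    calc (B * M g * B⁻¹)ᴴ = Bᴴ⁻¹ * ((M g)ᴴ * (Bᴴ * B)) * B⁻¹ := by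
          rw [conjTranspose_mul, conjTranspose_mul, conjTranspose_nonsing_inv]
          simp only [Matrix.mul_assoc]
          rw [mul_nonsing_inv _ hBdet, Matrix.mul_one]
      _ = Bᴴ⁻¹ * Bᴴ * (B * M g⁻¹) * B⁻¹ := by rw [h1]; simp only [Matrix.mul_assoc]
      _ = _ := by rw [hi, Matrix.one_mul]
  · show (B * M g * B⁻¹).trace = _
    rw [trace_mul_comm, ← Matrix.mul_assoc, nonsing_inv_mul _ hBdet, Matrix.one_mul]
    exact (LinearMap.trace_eq_matrix_trace ℂ (Pi.basisFun ℂ (Fin n)) (ρ g)).symm

variable {m : Type*} [Fintype m] [DecidableEq m]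

theorem eq_zero_of_trace {M : Matrix m m ℂ} (h : (Mᴴ * M).trace = 0) : M = 0 :=
  trace_conjTranspose_mul_self_eq_zero_iff.1 h

theorem trace_self_nonneg (M : Matrix m m ℂ) : 0 ≤ (Mᴴ * M).trace.re :=
  (Complex.nonneg_iff.1 (posSemidef_conjTranspose_mul_self M).trace_nonneg).1

/-- An idempotent of trace one cuts out scalars. -/
theorem rank_one {F : Matrix m m ℂ} (hF : F * F = F) (ht : F.trace = 1) (M : Matrix m m ℂ) :
    F * M * F = (F * M).trace • F := by
  set f := Matrix.toLin' F with hf
  have hff : ∀ y, f (f y) = f y := fun y => by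
    rw [hf, ← LinearMap.comp_apply, ← Matrix.toLin'_mul, hF]
  have hp : LinearMap.IsProj (LinearMap.range f) f :=
    ⟨fun y => LinearMap.mem_range_self f y, by rintro y ⟨x, rfl⟩; exact hff x⟩
  have hr : Module.finrank ℂ (LinearMap.range f) = 1 := by
    have h1 := hp.trace
    rw [hf, LinearMap.trace_eq_matrix_trace ℂ (Pi.basisFun ℂ m)] at h1
    have e : LinearMap.toMatrix (Pi.basisFun ℂ m) (Pi.basisFun ℂ m) (Matrix.toLin' F) = F :=
      LinearMap.toMatrix'_toLin' F
    rw [e, ht] at h1
    exact_mod_cast h1.symm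
  obtain ⟨v, -, hv⟩ := finrank_eq_one_iff'.1 hr
  choose c hc using fun y => hv ⟨f y, LinearMap.mem_range_self f y⟩
  have hc' : ∀ y, f y = c y • (v : m → ℂ) := fun y => (congrArg Subtype.val (hc y)).symm
  obtain ⟨lam, hlam⟩ : ∃ lam : ℂ, F * M * F = lam • F := by
    refine ⟨c (Matrix.toLin' M v), Matrix.toLin'.injective (LinearMap.ext fun y => ?_)⟩
    rw [Matrix.toLin'_mul, Matrix.toLin'_mul, map_smul, LinearMap.comp_apply, LinearMap.comp_apply,
      LinearMap.smul_apply, ← hf, hc' y, map_smul, map_smul, hc' (Matrix.toLin' M v), smul_smul,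
      smul_smul, mul_comm]
  have := congrArg Matrix.trace hlam
  rw [trace_smul, ht, smul_eq_mul, mul_one, trace_mul_comm, ← Matrix.mul_assoc, hF] at this
  rw [hlam, this]

/-- A skew operator on a plane through the line of `F`, with eigenvalues `±√3 i`. -/
structure Plane (F E u : Matrix m m ℂ) : Prop where
  skew : uᴴ = -u
  dec : u = u * F + F * u
  zero : (F * u).trace = 0
  sq : (F * (u * u)).trace = -3
  bound : (F * (u * E * u)).trace = -(5 / 3 : ℂ)

theorem Plane.neg {F E u : Matrix m m ℂ} (p : Plane F E u) : Plane F E (-u) where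
  skew := by rw [conjTranspose_neg, p.skew]
  dec := by conv_lhs => rw [p.dec]
            rw [neg_add, neg_mul, mul_neg]
  zero := by rw [mul_neg, trace_neg, p.zero, neg_zero]
  sq := by simp [p.sq]
  bound := by simp [p.bound]

/-- A line and a larger fixed space. -/
structure Line (F E : Matrix m m ℂ) : Prop where
  Fh : Fᴴ = F
  Fidem : F * F = F
  Ftr : F.trace = 1
  Eh : Eᴴ = E
  Eidem : E * E = E

variable {F E u v : Matrix m m ℂ}

theorem Line.cut (L : Line F E) (M N : Matrix m m ℂ) :
    F * (M * (F * N)) = (F * M).trace • (F * N) := by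
  rw [← Matrix.mul_assoc M, ← Matrix.mul_assoc, ← Matrix.mul_assoc, rank_one L.Fidem L.Ftr, smul_mul_assoc]

theorem Plane.FuF (L : Line F E) (p : Plane F E u) : F * (u * F) = 0 := by
  rw [← Matrix.mul_assoc, rank_one L.Fidem L.Ftr, p.zero, zero_smul]

theorem Plane.mul_self (L : Line F E) (p : Plane F E u) : u * u = u * (F * u) - (3 : ℂ) • F := by
  have h1 : F * (u * (u * F)) = (-3 : ℂ) • F := by
    rw [← Matrix.mul_assoc u, ← Matrix.mul_assoc, rank_one L.Fidem L.Ftr, p.sq]
  have h2 := p.FuF L
  calc u * u = (u * F + F * u) * (u * F + F * u) := by rw [← p.dec]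
    _ = u * (F * (u * F)) + u * ((F * F) * u) + F * (u * (u * F)) + (F * (u * F)) * u := by noncomm_ring
    _ = _ := by rw [h1, h2, L.Fidem, mul_zero, zero_mul, zero_add, add_zero, neg_smul, sub_eq_add_neg]

theorem trace_conj (L : Line F E) (p : Plane F E u) (q : Plane F E v) :
    (F * (v * u)).trace = conj (F * (u * v)).trace := by
  rw [starRingEnd_apply, ← trace_conjTranspose, conjTranspose_mul, conjTranspose_mul, p.skew, q.skew, L.Fh,
    neg_mul_neg, trace_mul_comm]

/-- The traces of two planes. -/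
theorem plane_traces (L : Line F E) (p : Plane F E u) (q : Plane F E v) :
    (u * v).trace = (F * (u * v)).trace + (F * (v * u)).trace ∧
      (u * u * (v * v)).trace = 9 + (F * (u * v)).trace * (F * (v * u)).trace := by
  have hu := p.FuF L
  have hv := q.FuF L
  constructor
  · calc (u * v).trace = ((u * F + F * u) * (v * F + F * v)).trace := by rw [← p.dec, ← q.dec]
      _ = (u * (F * (v * F))).trace + (u * ((F * F) * v)).trace + (F * (u * v) * F).trace +
          ((F * (u * F)) * v).trace := by
        rw [← trace_add, ← trace_add, ← trace_add]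
        congr 1
        noncomm_ring
      _ = _ := by
        rw [hu, hv, L.Fidem, mul_zero, zero_mul, trace_zero, trace_mul_comm (F * (u * v)), ← Matrix.mul_assoc F F,
          L.Fidem, trace_mul_comm u, Matrix.mul_assoc]
        ring
  · rw [p.mul_self L, q.mul_self L]
    simp only [sub_mul, mul_sub, smul_mul_assoc, mul_smul_comm, trace_sub, trace_smul, smul_eq_mul,
      L.Fidem, L.Ftr]
    have e1 : (u * (F * u) * F).trace = 0 := by
      rw [Matrix.mul_assoc, Matrix.mul_assoc, hu, mul_zero, trace_zero]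
    have e2 : (F * (v * (F * v))).trace = 0 := by
      rw [L.cut, trace_smul, q.zero, zero_smul]
    have e3 : (u * (F * u) * (v * (F * v))).trace = (F * (u * v)).trace * (F * (v * u)).trace := by
      rw [Matrix.mul_assoc, Matrix.mul_assoc, ← Matrix.mul_assoc u v, L.cut, mul_smul_comm, trace_smul,
        smul_eq_mul, trace_mul_comm u, Matrix.mul_assoc]
    rw [e1, e2, e3]
    ring

/-- The bound. -/
theorem plane_bound (L : Line F E) (p : Plane F E u) (q : Plane F E v) (hE : u * E * v = u * v) :
    Complex.normSq (F * (u * v)).trace ≤ 25 / 9 := by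
  have key : ∀ {a b : Matrix m m ℂ}, aᴴ = -a →
      ((E * a * F)ᴴ * (E * b * F)).trace = -(F * (a * E * b)).trace := by
    intro a b ha
    rw [conjTranspose_mul, conjTranspose_mul, ha, L.Fh, L.Eh,
      show F * (-a * E) * (E * b * F) = -(F * (a * (E * E) * b) * F) by noncomm_ring, L.Eidem, trace_neg,
      trace_mul_comm, ← Matrix.mul_assoc, L.Fidem]
  set A := (F * (u * v)).trace with hA
  have hB : ((E * v * F)ᴴ * (E * u * F)).trace = -conj A := by
    rw [show (E * v * F)ᴴ * (E * u * F) = ((E * u * F)ᴴ * (E * v * F))ᴴ by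
      rw [conjTranspose_mul _ (E * v * F), conjTranspose_conjTranspose], trace_conjTranspose, key p.skew,
      hE, ← hA, star_neg, starRingEnd_apply]
  set lam : ℂ := -(3 / 5) * conj A with hlam
  have h := trace_self_nonneg (E * u * F - lam • (E * v * F))
  rw [conjTranspose_sub, conjTranspose_smul] at h
  simp only [sub_mul, mul_sub, smul_mul_assoc, mul_smul_comm, trace_sub, trace_smul, smul_eq_mul, hB] at h
  simp only [key p.skew, key q.skew, hE, p.bound, q.bound, ← hA] at h
  rw [hlam, ← starRingEnd_apply] at h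
  simp only [map_neg, map_mul, map_div₀, map_ofNat, Complex.conj_conj] at h
  simp only [Complex.sub_re, Complex.neg_re, Complex.mul_re, Complex.mul_im, Complex.neg_im,
    Complex.conj_re, Complex.conj_im, Complex.div_ofNat_re, Complex.div_ofNat_im, Complex.re_ofNat,
    Complex.im_ofNat] at h
  rw [Complex.normSq_apply]
  nlinarith

/-- Two rotations whose product is an involution. -/
theorem plane_involution (L : Line F E) (p : Plane F E u) (q : Plane F E v)
    (hA : (F * (u * v)).trace = -1) {X X' Y Y' : Matrix m m ℂ}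
    (hX : X = 1 + (1 / 2 : ℂ) • (u * u + u)) (hX' : X' = 1 + (1 / 2 : ℂ) • (u * u - u))
    (hY : Y = 1 + (1 / 2 : ℂ) • (v * v + v)) (hY' : Y' = 1 + (1 / 2 : ℂ) • (v * v - v))
    (eX : X * X' = 1) (eY : Y * Y' = 1) : X * Y * (X * Y) = 1 := by
  have hB : (F * (v * u)).trace = -1 := by
    rw [trace_conj L p q, hA, map_neg, map_one]
  have hu := p.FuF L
  have hv := q.FuF L
  have huv : ∀ N, F * (u * (v * (F * N))) = -(F * N) := fun N => by
    rw [← Matrix.mul_assoc u, L.cut, hA, neg_one_smul]
  have hvu : ∀ N, F * (v * (u * (F * N))) = -(F * N) := fun N => by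
    rw [← Matrix.mul_assoc v, L.cut, hB, neg_one_smul]
  have huv1 : F * (u * (v * F)) = -F := by
    rw [← Matrix.mul_assoc u, ← Matrix.mul_assoc, rank_one L.Fidem L.Ftr, hA, neg_one_smul]
  have hvu1 : F * (v * (u * F)) = -F := by
    rw [← Matrix.mul_assoc v, ← Matrix.mul_assoc, rank_one L.Fidem L.Ftr, hB, neg_one_smul]
  have hu0 : ∀ N, F * (u * (F * N)) = 0 := fun N => by rw [L.cut, p.zero, zero_smul]
  have hv0 : ∀ N, F * (v * (F * N)) = 0 := fun N => by rw [L.cut, q.zero, zero_smul]
  have hFF : ∀ N, F * (F * N) = F * N := fun N => by rw [← Matrix.mul_assoc, L.Fidem]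
  have du := p.dec
  have dv := q.dec
  have h1 : u * u * (v * v) = -(u * (F * v)) + (9 : ℂ) • F := by
    rw [p.mul_self L, q.mul_self L]
    simp only [sub_mul, mul_sub, smul_mul_assoc, mul_smul_comm, Matrix.mul_assoc, huv, hu, hv0, L.Fidem,
      mul_zero, smul_zero, mul_neg, smul_smul]
    module
  have h2 : v * v * (u * u) = -(v * (F * u)) + (9 : ℂ) • F := by
    rw [p.mul_self L, q.mul_self L]
    simp only [sub_mul, mul_sub, smul_mul_assoc, mul_smul_comm, Matrix.mul_assoc, hvu, hv, hu0, L.Fidem,
      mul_zero, smul_zero, mul_neg, smul_smul]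
    module
  have h3 : u * u * v = -(u * F) - (3 : ℂ) • (F * v) := by
    conv_lhs => rw [p.mul_self L, dv]
    simp only [sub_mul, mul_add, smul_mul_assoc, Matrix.mul_assoc, huv1, hu0, hv, hFF,
      mul_zero, mul_neg, smul_add, smul_zero]
    abel
  have h4 : v * (u * u) = -(3 : ℂ) • (v * F) - F * u := by
    conv_lhs => rw [p.mul_self L, dv]
    simp only [mul_sub, add_mul, mul_smul_comm, Matrix.mul_assoc, hu0, hvu, hv, L.Fidem,
      mul_zero, mul_neg, smul_add, smul_zero, neg_smul]
    abel
  have h5 : u * (v * v) = -(3 : ℂ) • (u * F) - F * v := by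
    conv_lhs => rw [q.mul_self L, du]
    simp only [mul_sub, add_mul, mul_smul_comm, Matrix.mul_assoc, hv0, huv, hu, L.Fidem,
      mul_zero, mul_neg, smul_add, smul_zero, neg_smul]
    abel
  have h6 : v * v * u = -(v * F) - (3 : ℂ) • (F * u) := by
    conv_lhs => rw [q.mul_self L, du]
    simp only [sub_mul, mul_add, smul_mul_assoc, Matrix.mul_assoc, hvu1, hv0, hu, hFF,
      mul_zero, mul_neg, smul_add, smul_zero]
    abel
  have h7 : u * v = u * (F * v) - F := by
    conv_lhs => rw [du, dv]
    simp only [add_mul, mul_add, Matrix.mul_assoc, hu0, hv, huv1, hFF, mul_zero]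
    abel
  have h8 : v * u = v * (F * u) - F := by
    conv_lhs => rw [du, dv]
    simp only [add_mul, mul_add, Matrix.mul_assoc, hv0, hu, hvu1, hFF, mul_zero]
    abel
  have key : X * Y = Y' * X' := by
    rw [hX, hX', hY, hY']
    simp only [add_mul, mul_add, one_mul, mul_one, smul_mul_assoc, mul_smul_comm, sub_mul, mul_sub,
      smul_smul, h1, h2, h3, h4, h5, h6, h7, h8]
    have eu : u = u * F + F * u := du
    have ev : v = v * F + F * v := dv
    linear_combination (norm := module) eu + ev
  calc X * Y * (X * Y) = X * Y * (Y' * X') := by rw [← key]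
    _ = X * (Y * Y') * X' := by simp only [Matrix.mul_assoc]
    _ = 1 := by rw [eY, Matrix.mul_one, eX]

end Cfsg.Agent.EightLocal
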