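import Cfsg.Agent.Lib.SelfNine.Search
import Cfsg.Agent.Lib.EightLocal.Cases0
import Cfsg.Agent.Lib.EightLocal.Cases1
import Cfsg.Agent.Lib.EightLocal.Cases2
import Cfsg.Agent.Lib.EightLocal.Cases3
import Cfsg.Agent.Lib.EightLocal.Cases4
import Cfsg.Agent.Lib.EightLocal.Cases5

/-!
# The possible rows on the sections of `y` and `z`

A row has the coordinates `p, q` on the section of `y` and `a, b` on the section of `z`; the middle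
coordinate is unused.
-/

set_option autoImplicit false
set_option maxRecDepth 20000

namespace Cfsg.Agent.EightLocal

open Cfsg.Agent.SelfNine

/-- The candidates, up to sign. -/
def cands : List V5 :=
  [⟨0, 0, 0, 1, -1⟩, ⟨0, 0, 0, 1, 2⟩, ⟨0, 0, 0, 2, 1⟩, ⟨0, 1, 0, -1, -1⟩,
   ⟨0, 1, 0, 0, -2⟩, ⟨0, 1, 0, 0, 1⟩, ⟨0, 1, 0, 1, 0⟩, ⟨0, 1, 0, 2, 2⟩,
   ⟨0, 2, 0, -1, 0⟩, ⟨0, 2, 0, 0, -1⟩, ⟨0, 2, 0, 1, 1⟩, ⟨1, -1, 0, -2, -1⟩,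
   ⟨1, -1, 0, -1, -2⟩, ⟨1, -1, 0, -1, 1⟩, ⟨1, -1, 0, 0, 0⟩, ⟨1, -1, 0, 1, -1⟩,
   ⟨1, -1, 0, 1, 2⟩, ⟨1, 0, 0, -1, -1⟩, ⟨1, 0, 0, 0, -2⟩, ⟨1, 0, 0, 0, 1⟩,
   ⟨1, 0, 0, 1, 0⟩, ⟨1, 1, 0, -2, -2⟩, ⟨1, 1, 0, -1, 0⟩, ⟨1, 1, 0, 0, -1⟩,
   ⟨1, 1, 0, 0, 2⟩, ⟨1, 1, 0, 1, 1⟩, ⟨1, 2, 0, -1, 1⟩, ⟨1, 2, 0, 0, 0⟩,
   ⟨1, 2, 0, 1, -1⟩, ⟨2, 1, 0, -1, 1⟩, ⟨2, 1, 0, 0, 0⟩, ⟨2, 2, 0, -1, -1⟩,
   ⟨2, 2, 0, 0, 1⟩]

/-- The Gram matrix, without the trivial character. -/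
def gram8 : M5 := ⟨5, 6, 0, 5, 6, 3, 0, -1, 0, 0, 0, 0, 0, 0, 3⟩

/-- A possible family of rows. -/
def rows0 : List V5 :=
  [⟨0, 0, 0, 1, 2⟩, ⟨0, 1, 0, -1, -1⟩, ⟨0, 1, 0, 0, 1⟩, ⟨0, 1, 0, 1, 0⟩,
   ⟨0, 1, 0, 1, 0⟩, ⟨1, 1, 0, -1, 0⟩, ⟨2, 1, 0, 0, 0⟩]

/-- A possible family of rows. -/
def rows1 : List V5 :=
  [⟨0, 0, 0, 1, 2⟩, ⟨0, 1, 0, 1, 0⟩, ⟨1, -1, 0, 0, 0⟩, ⟨1, 1, 0, -1, 0⟩,
   ⟨1, 1, 0, -1, 0⟩, ⟨1, 1, 0, 0, -1⟩, ⟨1, 1, 0, 1, 1⟩]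

/-- A possible family of rows. -/
def rows2 : List V5 :=
  [⟨0, 0, 0, 1, -1⟩, ⟨0, 1, 0, -1, -1⟩, ⟨1, 0, 0, -1, -1⟩, ⟨1, 0, 0, -1, -1⟩,
   ⟨1, 0, 0, 0, 1⟩, ⟨1, 1, 0, 1, 1⟩, ⟨1, 2, 0, 0, 0⟩]

/-- A possible family of rows. -/
def rows3 : List V5 :=
  [⟨0, 0, 0, 2, 1⟩, ⟨0, 1, 0, 0, 1⟩, ⟨1, 0, 0, -1, -1⟩, ⟨1, 0, 0, 0, 1⟩,
   ⟨1, 0, 0, 0, 1⟩, ⟨1, 1, 0, 0, -1⟩, ⟨1, 2, 0, 0, 0⟩]

/-- A possible family of rows. -/
def rows4 : List V5 :=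
  [⟨0, 0, 0, 1, 2⟩, ⟨0, 1, 0, 1, 0⟩, ⟨1, 0, 0, -1, -1⟩, ⟨1, 0, 0, 0, 1⟩,
   ⟨1, 0, 0, 1, 0⟩, ⟨1, 1, 0, -1, 0⟩, ⟨1, 2, 0, 0, 0⟩]

/-- A possible family of rows. -/
def rows5 : List V5 :=
  [⟨0, 1, 0, -1, -1⟩, ⟨0, 1, 0, 0, 1⟩, ⟨0, 1, 0, 1, 0⟩, ⟨1, 0, 0, -1, -1⟩,
   ⟨1, 0, 0, 0, 1⟩, ⟨1, 1, 0, -1, 0⟩, ⟨1, 1, 0, 0, -1⟩, ⟨1, 1, 0, 1, 1⟩]

/-- The six families. -/
def rowsAll : List (List V5) := [rows0, rows1, rows2, rows3, rows4, rows5]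

/-- The value at `z`. -/
def zv (v : V5) : ℤ := v.w + 4 * v.u

/-- The value at `y`. -/
def yv (v : V5) : ℤ := v.x + v.y

def K1 (v : V5) : ℤ := zv v * zv v * yv v

def K2 (v : V5) : ℤ := zv v * yv v * yv v

/-- The residue of the degree modulo nine. -/
def slot (v : V5) : Slot := (((-4 * (zv v + yv v)) % 9), ⟨none, none⟩)

/-- What a centralizer of order `c` leaves of a value `x`. -/
def quot (c x : ℤ) : ℤ := if x = 0 then 1 else c / (x.natAbs : ℤ)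

/-- The value of a form at a row. -/
def form (c : ℤ × ℤ × ℤ × ℤ) (v : V5) : ℤ := c.1 * v.x + c.2.1 * v.y + c.2.2.1 * v.w + c.2.2.2 * v.u

/-- The right hand side of a form. -/
def formRhs (c : ℤ × ℤ × ℤ × ℤ) : ℤ := -(c.1 + c.2.2.1)

/-- Whether a problem has the equations of its rows. -/
def consistent (l : List V5) (F : List ((ℤ × ℤ × ℤ × ℤ) × ℤ)) (T : Task) : Bool :=
  decide (T.eqs = F.map fun c => (l.map fun v => form c.1 v / c.2, formRhs c.1 / c.2)) &&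
    (F.all fun c => decide (c.2 ≠ 0) && decide (formRhs c.1 % c.2 = 0) &&
      l.all fun v => decide (form c.1 v % c.2 = 0)) &&
    decide (T.weights = [((1 : ℤ), (0 : ℤ)), (0, 1), (7, -10), (1, 1), (1, -1), (2, 1), (-1, 2)].map fun w =>
      (64800 * w.1 + 45360 * w.2, w.1 + w.2, l.map fun v => w.1 * K1 v + w.2 * K2 v)) &&
    decide (T.divs = l.map fun v => (Int.lcm (quot 180 (zv v)) (quot 18 (yv v)) : ℤ)) &&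
    (l.all fun v => decide (180 % zv v = 0 ∨ zv v = 0) && decide (18 % yv v = 0 ∨ yv v = 0))

theorem consistent_all : consistent rows0 forms0 task0 = true ∧ consistent rows1 forms1 task1 = true ∧
    consistent rows2 forms2 task2 = true ∧ consistent rows3 forms3 task3 = true ∧
    consistent rows4 forms4 task4 = true ∧ consistent rows5 forms5 task5 = true := by
  decide +kernel

def fin8 (l : List V5) : Bool := decide (l.reverse ∈ rowsAll)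

def cover (v : V5) : Bool :=
  !((v.x + v.y - v.w - 4 * v.u) % 3 == 0 && (gram8.subSq v).Ok) ||
    decide (v = ⟨0, 0, 0, 0, 0⟩ ∨ v ∈ cands ∨ (⟨-v.x, -v.y, -v.z, -v.w, -v.u⟩ : V5) ∈ cands)

theorem cands_cover : ∀ i j a b : Fin 5, cover
    ⟨(i : ℕ) - 2, (j : ℕ) - 2, 0, (a : ℕ) - 2, (b : ℕ) - 2⟩ = true := by
  decide +kernel

theorem search_eq : search fin8 50 cands gram8 [] = true := by
  decide +kernel

/-- The rows form one of the six families. -/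
theorem eight_rows {rows : List V5} (h : ∀ r ∈ rows, r ∈ cands) (ht : total rows = gram8) :
    ∃ l ∈ rowsAll, l.Perm rows := by
  obtain ⟨l, hl, hfin⟩ := search_sound fin8 50 cands gram8 [] rows h ht search_eq
  rw [List.append_nil] at hl
  exact ⟨l.reverse, of_decide_eq_true hfin, l.reverse_perm.trans hl⟩

/-- The searches, in one statement. -/
theorem found {l : List V5} (hl : l ∈ rowsAll) {n : ℤ} {f : List ℤ}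
    (hf : Fits f (l.map slot))
    (hs : ∀ F T, consistent l F T = true → Sol T n f) :
    l = rows5 ∧ (n, f) ∈ task5.allowed := by
  obtain ⟨h0, h1, h2, h3, h4, h5⟩ := consistent_all
  simp only [rowsAll, List.mem_cons, List.not_mem_nil, or_false] at hl
  rcases hl with rfl | rfl | rfl | rfl | rfl | rfl
  · exact absurd (found0 hf (hs _ _ h0)) List.not_mem_nil
  · exact absurd (found1 hf (hs _ _ h1)) List.not_mem_nil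
  · exact absurd (found2 hf (hs _ _ h2)) List.not_mem_nil
  · exact absurd (found3 hf (hs _ _ h3)) List.not_mem_nil
  · exact absurd (found4 hf (hs _ _ h4)) List.not_mem_nil
  · exact ⟨rfl, found5 hf (hs _ _ h5)⟩

end Cfsg.Agent.EightLocal
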