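import Cfsg.Agent.Lib.EightLocal.Bound

/-!
# The equations of family 2
-/

set_option autoImplicit false
set_option maxRecDepth 20000
set_option Elab.async false

namespace Cfsg.Agent.EightLocal

open Cfsg.Agent.SelfNine

/-- The forms giving the equations. -/
def forms2 : List ((ℤ × ℤ × ℤ × ℤ) × ℤ) :=
  [((0, 0, 1, -1), 1), ((0, 1, 0, 0), 1), ((1, -2, -1, -1), 3), ((1, -2, 2, -1), 3), ((1, 1, -1,
    -1), 3), ((1, 1, 2, -1), 3), ((2, -1, -2, -2), 3), ((2, -1, 1, -2), 3), ((-2, 1, -1, -1), 3),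
    ((2, 2, 1, 1), 3)]

/-- The problem for family 2. -/
def task2 : Task where
  eqs :=
  [([2, 0, 0, 0, -1, 0, 0], -1), ([0, 1, 0, 0, 0, 1, 2], 0), ([0, 0, 1, 1, 0, -1, -1], 0), ([1,
    -1, 0, 0, 0, 0, -1], -1), ([0, 1, 1, 1, 0, 0, 1], 0), ([1, 0, 0, 0, 0, 1, 1], -1), ([0, 1, 2,
    2, 0, -1, 0], 0), ([1, 0, 1, 1, 0, 0, 0], -1), ([0, 1, 0, 0, -1, -1, 0], 1), ([0, 0, 0, 0, 1,
    2, 2], -1)]
  weights :=
  [(64800, 1, [0, 25, 25, 25, 16, 50, 0]), (45360, 1, [0, -5, -5, -5, 4, 20, 0]), (0, -3, [0,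
    225, 225, 225, 72, 150, 0]), (110160, 2, [0, 20, 20, 20, 20, 70, 0]), (19440, 0, [0, 30, 30,
    30, 12, 30, 0]), (174960, 3, [0, 45, 45, 45, 36, 120, 0]), (25920, 1, [0, -35, -35, -35, -8,
    -10, 0])]
  divs := [60, 36, 36, 36, 90, 36, 6]
  allowed := []

end Cfsg.Agent.EightLocal
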