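import Cfsg.Agent.Lib.EightLocal.Bound

/-!
# The equations of family 5
-/

set_option autoImplicit false
set_option maxRecDepth 20000
set_option Elab.async false

namespace Cfsg.Agent.EightLocal

open Cfsg.Agent.SelfNine

/-- The forms giving the equations. -/
def forms5 : List ((ℤ × ℤ × ℤ × ℤ) × ℤ) :=
  [((0, 0, -1, 1), 1), ((0, 0, -1, 0), 1), ((-1, 2, 1, 1), 3), ((-1, 2, 1, -2), 3), ((-1, 2, -2,
    1), 3), ((-1, 1, 0, 0), 1), ((1, 0, 0, 0), 1), ((1, 1, -1, -1), 3), ((1, 1, -1, 2), 3), ((1,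
    1, 2, -1), 3), ((-2, 1, 2, -1), 3), ((-2, 1, -1, 2), 3), ((-2, 1, -1, -1), 3)]

/-- The problem for family 5. -/
def task5 : Task where
  eqs :=
  [([0, 1, -1, 0, 1, 1, -1, 0], 1), ([1, 0, -1, 1, 0, 1, 0, -1], 1), ([0, 1, 1, -1, 0, 0, 0, 1],
    0), ([1, 0, 1, 0, -1, 0, 1, 0], 0), ([1, 1, 0, 0, 0, 1, 0, 0], 1), ([1, 1, 1, -1, -1, 0, 0,
    0], 1), ([0, 0, 0, 1, 1, 1, 1, 1], -1), ([1, 0, 0, 1, 0, 1, 1, 0], 0), ([0, 1, 0, 0, 1, 1, 0,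
    1], 0), ([0, 0, 1, 0, 0, 0, 1, 1], -1), ([0, 0, 1, -1, -1, -1, 0, 0], 0), ([0, 1, 0, -1, 0,
    0, -1, 0], 1), ([1, 0, 0, 0, -1, 0, 0, -1], 1)]
  weights :=
  [(64800, 1, [25, 16, 1, 25, 16, 2, 32, 50]), (45360, 1, [-5, 4, 1, -5, 4, -4, -16, 20]), (0,
    -3, [225, 72, -3, 225, 72, 54, 384, 150]), (110160, 2, [20, 20, 2, 20, 20, -2, 16, 70]),
    (19440, 0, [30, 12, 0, 30, 12, 6, 48, 30]), (174960, 3, [45, 36, 3, 45, 36, 0, 48, 120]),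
    (25920, 1, [-35, -8, 1, -35, -8, -10, -64, -10])]
  divs := [36, 90, 180, 36, 90, 180, 45, 36]
  allowed := [(20160, [-20, 7, 28, 70, -56, 14, -64, 35]), (7200, [25, 16, 1, 25, 16, -40, -10, 8])]

end Cfsg.Agent.EightLocal
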