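import Cfsg.Agent.Lib.EightLocal.A5Chars

/-!
# Finite facts for the small character
-/

set_option autoImplicit false
set_option maxRecDepth 100000
set_option synthInstance.maxSize 10000

namespace Cfsg.Agent.EightLocal

/-- The value on `3 × A₅`. -/
def val (d : ℤ) (k : K) : ℤ := (if k.1 = 1 then d - 4 else d - 7) + p4 k.2

/-- A three-cycle through the fixed points of `sigma`. -/
def tau : A5 :=
  ⟨Equiv.swap 0 1 * Equiv.swap 1 2, by rw [Equiv.Perm.mem_alternatingGroup]; decide +kernel⟩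

def xK : K := (1, tau)

def rK : K := (1, rA)

theorem p4_sigma : p4 sigma = 1 ∧ p5 sigma = -1 := by decide +kernel

theorem p4_pow : ∀ j : Fin 30, Nat.Coprime (j : ℕ) 30 → ∀ s : A5, p4 (s ^ (j : ℕ)) = p4 s := by
  decide +kernel

theorem val_two : ∀ k : K, k ^ 2 = 1 → k ≠ 1 → k.1 = 1 ∧ p4 k.2 = 0 := by decide +kernel

/-- The elements inverting the Sylow subgroup commute with an element of the class of `z`. -/
theorem inv_facts : ∀ a : ZMod 3 × ZMod 3,
    (flip * emb (rK * dK a)) ^ 2 = 1 ∧ flip * emb (rK * dK a) ≠ 1 ∧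
      ∃ i : Fin 10, flip * emb (rK * dK a) * emb ((lineK i)⁻¹ * wK * lineK i) =
        emb ((lineK i)⁻¹ * wK * lineK i) * (flip * emb (rK * dK a)) := by
  decide +kernel

theorem model_facts : ∀ a : ZMod 3 × ZMod 3,
    (flipK (dK a) * dK a = 1 → a.2 = 0) ∧ flipK xK = xK⁻¹ ∧ rK * xK * rK = xK⁻¹ ∧
      flipK rK = rK ∧ (a.2 = 0 → dK a * xK = xK * dK a) := by
  decide +kernel

theorem pow_thirty : ∀ s : A5, s ^ 30 = 1 := by decide +kernel

theorem comm_w_cube : ∀ k : K, k * wK = wK * k → k ^ 3 = 1 := by decide +kernel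

theorem sigma_ne : sigma ≠ 1 := by decide +kernel

theorem hk_facts : ((1 : C3), (1 : A5)) = dK 0 ∧ ((Multiplicative.ofAdd 1 : C3), (1 : A5)) = dK (1, 0) ∧
      ((Multiplicative.ofAdd 1 : C3)⁻¹, (1 : A5)) = dK (2, 0) ∧ ((1 : C3), sigma) = dK (0, 1) ∧
      ((Multiplicative.ofAdd 1 : C3), sigma) = dK (1, 1) ∧ ((Multiplicative.ofAdd 1 : C3)⁻¹, sigma) = dK (2, 1) := by decide +kernel

end Cfsg.Agent.EightLocal
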